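import Groth.Prelude.Def_VecGrp
import Mathlib.RingTheory.LocalProperties.Submodule
import Mathlib.RingTheory.Flat.Basic
import Mathlib.AlgebraicGeometry.Morphisms.Flat
import Mathlib.LinearAlgebra.TensorProduct.Pi
import Mathlib.LinearAlgebra.TensorProduct.RightExactness

/-!
Finitely generated stable submodules of `G`-modules over a flat quasi-compact group scheme.
-/

set_option autoImplicit false

universe u

open CategoryTheory AlgebraicGeometry TensorProduct
open scoped MonObj

namespace Groth.Agent.CommAlg4.GModStab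

variable {R : Type u} [CommRing R] {E : Type u} [AddCommGroup E] [Module R E]

/-- The element lies in the base change of the submodule. -/
def Into (N : Submodule R E) {B : Type u} [CommRing B] [Algebra R B] (z : B ⊗[R] E) : Prop :=
  N.mkQ.lTensor B z = 0

theorem into_iff (N : Submodule R E) {B : Type u} [CommRing B] [Algebra R B] (z : B ⊗[R] E) :
    Into N z ↔ z ∈ LinearMap.range (N.subtype.baseChange B) := by
  rw [Into, ← LinearMap.mem_ker, lTensor_mkQ]
  exact Iff.rfl

theorem into_of_le {N N' : Submodule R E} (h : N ≤ N') {B : Type u} [CommRing B] [Algebra R B] {z : B ⊗[R] E}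
    (hz : Into N z) : Into N' z := by
  have h1 := congrArg ((Submodule.mapQ N N' LinearMap.id h).lTensor B) hz
  rw [map_zero, ← LinearMap.lTensor_comp_apply] at h1
  exact h1

theorem exists_fg_into {B : Type u} [CommRing B] [Algebra R B] (z : B ⊗[R] E) :
    ∃ N : Submodule R E, N.FG ∧ Into N z := by
  induction z using TensorProduct.induction_on with
  | zero => exact ⟨⊥, Submodule.fg_bot, map_zero _⟩
  | tmul b e =>
    exact ⟨Submodule.span R {e}, Submodule.fg_span_singleton e, by
      rw [Into, LinearMap.lTensor_tmul, Submodule.mkQ_apply,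
        (Submodule.Quotient.mk_eq_zero _).mpr (Submodule.mem_span_singleton_self e), TensorProduct.tmul_zero]⟩
  | add p q hp hq =>
    obtain ⟨N, hN, hp⟩ := hp
    obtain ⟨N', hN', hq⟩ := hq
    refine ⟨N ⊔ N', hN.sup hN', ?_⟩
    rw [Into, map_add, into_of_le le_sup_left hp, into_of_le le_sup_right hq, add_zero]

theorem wmap_mkQ (N : Submodule R E) {B B' : Type u} [CommRing B] [Algebra R B] [CommRing B'] [Algebra R B']
    (φ : B →ₐ[R] B') (z : B ⊗[R] E) :
    N.mkQ.lTensor B' (VecGrp.Wmap φ z) = φ.toLinearMap.rTensor (E ⧸ N) (N.mkQ.lTensor B z) := by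
  induction z using TensorProduct.induction_on with
  | zero => simp
  | add p q hp hq => simp only [map_add, hp, hq]
  | tmul b e => simp

/-- Vanishing in the base change is local. -/
theorem eq_zero_of_local {Q : Type u} [AddCommGroup Q] [Module R Q] {B : Type u} [CommRing B] [Algebra R B]
    (z : B ⊗[R] Q) (s : Set B) (hs : Ideal.span s = ⊤)
    (h : ∀ f ∈ s, (IsScalarTower.toAlgHom R B (Localization.Away f)).toLinearMap.rTensor Q z = 0) : z = 0 := by
  refine Module.eq_zero_of_isLocalized_span s hs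
    (Mₚ := fun f : s => Localization.Away (f : B) ⊗[B] (B ⊗[R] Q))
    (f := fun f => TensorProduct.mk B (Localization.Away (f : B)) (B ⊗[R] Q) 1) z fun f => ?_
  apply (AlgebraTensorModule.cancelBaseChange R B (Localization.Away (f : B)) (Localization.Away (f : B)) Q).injective
  rw [map_zero, ← h f f.2]
  clear h
  induction z using TensorProduct.induction_on with
  | zero => simp
  | add p q hp hq => simp only [map_add, hp, hq]
  | tmul b q => simp [Algebra.smul_def]

variable (G : Over (Spec (CommRingCat.of R))) [GrpObj G]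

/-- An affine chart atlas by flat algebras. -/
theorem exists_charts [Flat G.hom] [QuasiCompact G.hom] :
    ∃ (J : Type u) (_ : Finite J) (A : J → Type u) (_ : ∀ i, CommRing (A i)) (_ : ∀ i, Algebra R (A i))
      (u : ∀ i, VecGrp.pt R (A i) ⟶ G), (∀ i, Module.Flat R (A i)) ∧
      ∀ (B : Type u) [CommRing B] [Algebra R B] (g : VecGrp.pt R B ⟶ G),
        ∃ s : Set B, Ideal.span s = ⊤ ∧ ∀ f ∈ s, ∃ (i : J) (ψ : A i →ₐ[R] Localization.Away f),
          VecGrp.ptMap (IsScalarTower.toAlgHom R B (Localization.Away f)) ≫ g = VecGrp.ptMap ψ ≫ u i := by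
  classical
  have : CompactSpace G.left := QuasiCompact.compactSpace_of_compactSpace G.hom
  choose V hV hxV using fun x : G.left => exists_isAffineOpen_mem_and_subset (U := (⊤ : G.left.Opens)) (x := x) trivial
  obtain ⟨t, ht⟩ := isCompact_univ.elim_finite_subcover (fun x : G.left => (V x : Set G.left))
    (fun x => (V x).2) fun x _ => Set.mem_iUnion.mpr ⟨x, (hxV x).1⟩
  let (i : t) : Algebra R Γ(G.left, V i) := (Spec.preimage ((hV i).fromSpec ≫ G.hom)).hom.toAlgebra
  have hmap : ∀ i : t, Spec.map (CommRingCat.ofHom (algebraMap R Γ(G.left, V i))) = (hV i).fromSpec ≫ G.hom :=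
    fun i => Spec.map_preimage _
  let u : ∀ i : t, VecGrp.pt R Γ(G.left, V i) ⟶ G := fun i => Over.homMk (hV i).fromSpec (hmap i).symm
  refine ⟨t, inferInstance, fun i => Γ(G.left, V i), inferInstance, inferInstance, u, fun i => ?_, fun B _ _ g => ?_⟩
  · have h1 : Flat (Spec.map (CommRingCat.ofHom (algebraMap R Γ(G.left, V i)))) := by
      rw [hmap i]; infer_instance
    exact (HasRingHomProperty.Spec_iff (P := @Flat)).mp h1
  refine ⟨{f | ∃ (i : t) (ψ : Γ(G.left, V i) →ₐ[R] Localization.Away f),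
      VecGrp.ptMap (IsScalarTower.toAlgHom R B (Localization.Away f)) ≫ g = VecGrp.ptMap ψ ≫ u i}, ?_, fun f hf => hf⟩
  by_contra hne
  obtain ⟨P, hP, hle⟩ := Ideal.exists_le_maximal _ hne
  let p : PrimeSpectrum B := ⟨P, hP.isPrime⟩
  obtain ⟨x, hxt, hx⟩ := Set.mem_iUnion₂.mp (ht (Set.mem_univ (g.left.base p)))
  obtain ⟨_, ⟨f, rfl⟩, hpf, hfV⟩ := PrimeSpectrum.isTopologicalBasis_basic_opens.exists_subset_of_mem_open
    (show p ∈ g.left.base ⁻¹' (V x : Set G.left) from hx) ((V x).2.preimage g.left.continuous)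
  apply hpf
  apply hle
  apply Ideal.subset_span
  let a : Spec (CommRingCat.of (Localization.Away f)) ⟶ G.left :=
    (VecGrp.ptMap (IsScalarTower.toAlgHom R B (Localization.Away f)) ≫ g).left
  have hrange : Set.range a.base ⊆ Set.range (hV x).fromSpec.base := by
    rintro _ ⟨q, rfl⟩
    rw [(hV x).range_fromSpec]
    apply hfV
    show _ ∈ (PrimeSpectrum.basicOpen f : Set (PrimeSpectrum B))
    rw [← PrimeSpectrum.localization_away_comap_range (Localization.Away f) f]
    exact ⟨q, rfl⟩
  let l := IsOpenImmersion.lift (hV x).fromSpec a hrange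
  have hl : l ≫ (hV x).fromSpec = a := IsOpenImmersion.lift_fac _ _ _
  let : Algebra R Γ(G.left, V x) := (Spec.preimage ((hV x).fromSpec ≫ G.hom)).hom.toAlgebra
  refine ⟨⟨x, hxt⟩, ⟨(Spec.preimage l).hom, fun r => ?_⟩, ?_⟩
  · have h1 : Spec.map (CommRingCat.ofHom (algebraMap R Γ(G.left, V x)) ≫ Spec.preimage l) =
        Spec.map (CommRingCat.ofHom (algebraMap R (Localization.Away f))) := by
      rw [Spec.map_comp, Spec.map_preimage, hmap ⟨x, hxt⟩, ← Category.assoc, hl]
      exact Over.w _
    exact congrArg (fun c => c.hom r) (Spec.map_injective h1)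
  · apply Over.OverMorphism.ext
    show a = Spec.map (Spec.preimage l) ≫ (hV x).fromSpec
    rw [Spec.map_preimage, hl]

variable {G} (m : VecGrp.GMod G E)

/-- The orbit map of a point. -/
noncomputable def orb {B : Type u} [CommRing B] [Algebra R B] (g : VecGrp.pt R B ⟶ G) : E →ₗ[R] B ⊗[R] E :=
  (m.ρ B g).toLinearMap.restrictScalars R ∘ₗ TensorProduct.mk R B E 1

theorem wmap_orb {B B' : Type u} [CommRing B] [Algebra R B] [CommRing B'] [Algebra R B'] (φ : B →ₐ[R] B')
    (g : VecGrp.pt R B ⟶ G) (x : E) : VecGrp.Wmap φ (orb m g x) = orb m (VecGrp.ptMap φ ≫ g) x := by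
  show VecGrp.Wmap φ (m.ρ B g ((1 : B) ⊗ₜ[R] x)) = m.ρ B' _ ((1 : B') ⊗ₜ[R] x)
  rw [m.naturality, VecGrp.Wmap_tmul, map_one]

/-- A property of orbits checked on an atlas. -/
theorem into_orb {J : Type u} {A : J → Type u} [∀ i, CommRing (A i)] [∀ i, Algebra R (A i)]
    {u : ∀ i, VecGrp.pt R (A i) ⟶ G}
    (hu : ∀ (B : Type u) [CommRing B] [Algebra R B] (g : VecGrp.pt R B ⟶ G),
        ∃ s : Set B, Ideal.span s = ⊤ ∧ ∀ f ∈ s, ∃ (i : J) (ψ : A i →ₐ[R] Localization.Away f),
          VecGrp.ptMap (IsScalarTower.toAlgHom R B (Localization.Away f)) ≫ g = VecGrp.ptMap ψ ≫ u i)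
    (N : Submodule R E) (x : E) (hx : ∀ i, Into N (orb m (u i) x))
    {B : Type u} [CommRing B] [Algebra R B] (g : VecGrp.pt R B ⟶ G) : Into N (orb m g x) := by
  obtain ⟨s, hs, h⟩ := hu B g
  refine eq_zero_of_local _ s hs fun f hf => ?_
  obtain ⟨i, ψ, hψ⟩ := h f hf
  rw [← wmap_mkQ, wmap_orb, hψ, ← wmap_orb, wmap_mkQ, show N.mkQ.lTensor (A i) (orb m (u i) x) = 0 from hx i,
    map_zero]

/-- Over a Noetherian base every finitely generated submodule lies in a finitely generated stable one. -/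
theorem exists_stable_of_noetherian [IsNoetherianRing R] [Flat G.hom] [QuasiCompact G.hom]
    (M : Submodule R E) (hM : M.FG) :
    ∃ N : Submodule R E, M ≤ N ∧ N.FG ∧
      ∀ (B : Type u) [CommRing B] [Algebra R B] (g : VecGrp.pt R B ⟶ G) (x : E), x ∈ N →
        m.ρ B g ((1 : B) ⊗ₜ[R] x) ∈ LinearMap.range (N.subtype.baseChange B) := by
  classical
  obtain ⟨J, _, A, _, _, u, hflat, hu⟩ := exists_charts G
  have := Fintype.ofFinite J
  have hex : ∀ x : E, ∃ N : Submodule R E, N.FG ∧ ∀ i, Into N (orb m (u i) x) := fun x => by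
    choose N hN hz using fun i => exists_fg_into (orb m (u i) x)
    exact ⟨Finset.univ.sup N, Submodule.fg_finset_sup _ _ fun i _ => hN i, fun i =>
      into_of_le (Finset.le_sup (Finset.mem_univ i)) (hz i)⟩
  obtain ⟨S, hS⟩ := hM
  choose Nx hNx hzx using hex
  let N₁ : Submodule R E := M ⊔ S.sup Nx
  have hN₁ : N₁.FG := (hS ▸ ⟨S, rfl⟩ : M.FG).sup (Submodule.fg_finset_sup _ _ fun x _ => hNx x)
  let K : ∀ i, E →ₗ[R] A i ⊗[R] (E ⧸ N₁) := fun i => N₁.mkQ.lTensor (A i) ∘ₗ orb m (u i)
  have hMK : ∀ x ∈ M, ∀ i, K i x = 0 := fun x hx i => by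
    rw [← hS] at hx
    induction hx using Submodule.span_induction with
    | mem y hy => exact into_of_le ((Finset.le_sup hy).trans le_sup_right) (hzx y i)
    | zero => exact map_zero _
    | add p q _ _ hp hq => rw [map_add, hp, hq, add_zero]
    | smul r p _ hp => rw [map_smul, hp, smul_zero]
  let L : E →ₗ[R] (E ⧸ N₁) × (∀ i, A i ⊗[R] (E ⧸ N₁)) := N₁.mkQ.prod (LinearMap.pi K)
  refine ⟨LinearMap.ker L, fun x hx => ?_, Submodule.FG.of_le hN₁ fun x hx => ?_, fun B _ _ g y hy => ?_⟩
  · refine Prod.ext ((Submodule.Quotient.mk_eq_zero _).mpr ((le_sup_left : M ≤ N₁) hx)) (funext fun i => hMK x hx i)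
  · exact (Submodule.Quotient.mk_eq_zero _).mp (congrArg Prod.fst hx)
  rw [← into_iff]
  refine into_orb m hu _ y (fun i => ?_) g
  have hy0 : ∀ j, Into N₁ (orb m (u j) y) := fun j => congrFun (congrArg Prod.snd hy) j
  have := hflat i
  have hexact := Module.Flat.lTensor_exact (A i) (LinearMap.exact_subtype_ker_map L)
  rw [into_iff]
  refine (hexact _).mp ?_
  apply (TensorProduct.prodRight R R (A i) (E ⧸ N₁) (∀ j, A j ⊗[R] (E ⧸ N₁))).injective
  rw [map_zero]
  refine Prod.ext ?_ ?_
  · rw [show ((TensorProduct.prodRight R R (A i) (E ⧸ N₁) (∀ j, A j ⊗[R] (E ⧸ N₁))) (L.lTensor (A i) (orb m (u i) y))).1 =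
      N₁.mkQ.lTensor (A i) (orb m (u i) y) from ?_]
    · exact hy0 i
    · generalize orb m (u i) y = z
      induction z using TensorProduct.induction_on with
      | zero => simp
      | add p q hp hq => simp only [map_add, Prod.fst_add, hp, hq]
      | tmul a e => simp [L]
  · apply (TensorProduct.piRight R R (A i) fun j => A j ⊗[R] (E ⧸ N₁)).injective
    rw [Prod.snd_zero, map_zero]
    funext j
    apply (TensorProduct.assoc R (A i) (A j) (E ⧸ N₁)).symm.injective
    rw [Pi.zero_apply, map_zero]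
    let l : A i →ₐ[R] A i ⊗[R] A j := Algebra.TensorProduct.includeLeft
    let r : A j →ₐ[R] A i ⊗[R] A j := Algebra.TensorProduct.includeRight
    let gl := VecGrp.ptMap l ≫ u i
    let gr := VecGrp.ptMap r ≫ u j
    have key : ∀ z : A i ⊗[R] E,
        (TensorProduct.assoc R (A i) (A j) (E ⧸ N₁)).symm
          ((TensorProduct.piRight R R (A i) fun j => A j ⊗[R] (E ⧸ N₁))
            ((TensorProduct.prodRight R R (A i) (E ⧸ N₁) (∀ j, A j ⊗[R] (E ⧸ N₁))) (L.lTensor (A i) z)).2 j) =
        N₁.mkQ.lTensor (A i ⊗[R] A j) (m.ρ _ gr (VecGrp.Wmap l z)) := by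
      intro z
      induction z using TensorProduct.induction_on with
      | zero => simp
      | add p q hp hq => simp only [map_add, Prod.snd_add, Pi.add_apply, hp, hq]
      | tmul a e =>
        rw [VecGrp.Wmap_tmul, show l a ⊗ₜ[R] e = l a • ((1 : A i ⊗[R] A j) ⊗ₜ[R] e) by
          rw [TensorProduct.smul_tmul', smul_eq_mul, mul_one], map_smul,
          show m.ρ _ gr ((1 : A i ⊗[R] A j) ⊗ₜ[R] e) = VecGrp.Wmap r (orb m (u j) e) from (wmap_orb m r (u j) e).symm]
        simp only [LinearMap.lTensor_tmul, TensorProduct.prodRight_tmul, TensorProduct.piRight_apply,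
          TensorProduct.piRightHom_tmul, L, LinearMap.prod_apply, Pi.prod, LinearMap.pi_apply, K,
          LinearMap.comp_apply]
        suffices hgen : ∀ w : A j ⊗[R] E,
            (TensorProduct.assoc R (A i) (A j) (E ⧸ N₁)).symm (a ⊗ₜ[R] N₁.mkQ.lTensor (A j) w) =
              N₁.mkQ.lTensor (A i ⊗[R] A j) (l a • VecGrp.Wmap r w) from hgen _
        intro w
        induction w using TensorProduct.induction_on with
        | zero => simp
        | add p q hp hq => simp only [map_add, smul_add, TensorProduct.tmul_add, hp, hq]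
        | tmul c q => simp [l, r, TensorProduct.smul_tmul']
    rw [key, wmap_orb]
    show N₁.mkQ.lTensor _ (m.ρ _ gr (m.ρ _ gl ((1 : A i ⊗[R] A j) ⊗ₜ[R] y))) = 0
    rw [← LinearEquiv.mul_apply, ← map_mul]
    exact into_orb m hu N₁ y hy0 (gr * gl)

end Groth.Agent.CommAlg4.GModStab
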