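import Mathlib
import Groth.Agent.CAlgH.PowerSeriesEval
import Groth.Agent.CAlgH.CompleteLocal
import Groth.Agent.CAlgH3.CompleteHom
import Groth.Agent.CAlgH.AdicSmoothModel
import Groth.Agent.CAlgMisc2.LocalFinite
import Groth.Agent.Exal29.PowerSeriesExt

/-! Invariants of a finite group acting on a complete local ring with a fixed coefficient field. -/

set_option autoImplicit false
set_option linter.all false
set_option maxHeartbeats 1000000
universe u v w

open IsLocalRing

namespace Groth.Agent.CommAlg4.InvRing

variable {A : Type u} [CommRing A] {G : Type w} [Group G] [MulSemiringAction G A]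

theorem smul_mem_maximalIdeal [IsLocalRing A] (σ : G) {a : A} (ha : a ∈ maximalIdeal A) :
    σ • a ∈ maximalIdeal A := by
  rw [mem_maximalIdeal, mem_nonunits_iff]
  intro h
  have h2 := h.map (MulSemiringAction.toRingHom G A σ⁻¹)
  rw [MulSemiringAction.toRingHom_apply, inv_smul_smul] at h2
  exact (mem_maximalIdeal _).1 ha h2

theorem isUnit_iff (b : FixedPoints.subring A G) : IsUnit b ↔ IsUnit (b : A) := by
  refine ⟨fun h => h.map (FixedPoints.subring A G).subtype, fun h => ?_⟩
  obtain ⟨u, hu⟩ := h
  have hmem : ((u⁻¹ : Aˣ) : A) ∈ FixedPoints.subring A G := fun σ => by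
    refine (Units.mul_right_inj u).1 ?_
    have h1 : σ • (u : A) = u := by rw [hu]; exact b.2 σ
    conv_lhs => arg 1; rw [← h1]
    rw [← smul_mul', Units.mul_inv, smul_one]
  exact ⟨⟨b, ⟨_, hmem⟩, Subtype.ext (by show (b : A) * _ = 1; rw [← hu, Units.mul_inv]),
    Subtype.ext (by show _ * (b : A) = 1; rw [← hu, Units.inv_mul])⟩, rfl⟩

theorem isLocalRing [IsLocalRing A] : IsLocalRing (FixedPoints.subring A G) :=
  haveI : Nontrivial (FixedPoints.subring A G) := ⟨⟨0, 1, fun h => zero_ne_one (congrArg Subtype.val h)⟩⟩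
  IsLocalRing.of_is_unit_or_is_unit_of_add_one fun {a b} h => by
    have h' : (a : A) + b = 1 := congrArg Subtype.val h
    rcases IsLocalRing.isUnit_or_isUnit_of_add_one h' with ha | hb
    · exact Or.inl ((isUnit_iff a).2 ha)
    · exact Or.inr ((isUnit_iff b).2 hb)

theorem mem_maximalIdeal_iff [IsLocalRing A] (b : FixedPoints.subring A G) :
    haveI := isLocalRing (A := A) (G := G)
    b ∈ maximalIdeal (FixedPoints.subring A G) ↔ (b : A) ∈ maximalIdeal A := by
  haveI := isLocalRing (A := A) (G := G)
  rw [mem_maximalIdeal, mem_maximalIdeal, mem_nonunits_iff, mem_nonunits_iff, isUnit_iff]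

theorem isIntegrallyClosed [IsDomain A] [IsIntegrallyClosed A] :
    IsIntegrallyClosed (FixedPoints.subring A G) := by
  set B := FixedPoints.subring A G
  rw [isIntegrallyClosed_iff (FractionRing B)]
  intro x hx
  obtain ⟨a, b, hb, rfl⟩ := IsFractionRing.div_surjective (A := B) x
  have hb0 : b ≠ 0 := nonZeroDivisors.ne_zero hb
  let φ : FractionRing B →+* FractionRing A := IsFractionRing.lift (g := (algebraMap A (FractionRing A)).comp B.subtype)
    ((IsFractionRing.injective A _).comp Subtype.val_injective)
  have hφ : ∀ c : B, φ (algebraMap B _ c) = algebraMap A _ (c : A) := fun c => IsFractionRing.lift_algebraMap _ c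
  obtain ⟨y, hy⟩ := IsIntegrallyClosed.isIntegral_iff.1
    (hx.map_of_comp_eq B.subtype φ (RingHom.ext fun c => (hφ c).symm))
  rw [map_div₀, hφ, hφ, eq_div_iff ((map_ne_zero_iff _ (IsFractionRing.injective A _)).2 (fun h => hb0 (Subtype.ext h))),
    ← map_mul, (IsFractionRing.injective A (FractionRing A)).eq_iff] at hy
  have hyB : y ∈ B := fun σ => mul_right_cancel₀ (fun h : (b : A) = 0 => hb0 (Subtype.ext h)) (by
    calc σ • y * b = σ • (y * b) := by rw [smul_mul', b.2 σ]
      _ = y * b := by rw [hy, a.2 σ])
  refine ⟨⟨y, hyB⟩, ?_⟩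
  rw [eq_div_iff ((map_ne_zero_iff _ (IsFractionRing.injective B _)).2 hb0), ← map_mul]
  exact congrArg _ (Subtype.ext hy)

section Complete
variable [IsLocalRing A] [IsNoetherianRing A] [IsAdicComplete (maximalIdeal A) A] [Finite G]
  {k : Type v} [Field k] [Algebra k A]

/-- Hypotheses: coefficient field fixed by the group. -/
theorem exists_param (hk : Function.Surjective (residue A ∘ algebraMap k A))
    (hGk : ∀ (σ : G) (c : k), σ • algebraMap k A c = algebraMap k A c) :
    IsNoetherianRing (FixedPoints.subring A G) ∧ Module.Finite (FixedPoints.subring A G) A ∧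
      (haveI := isLocalRing (A := A) (G := G)
       IsAdicComplete (maximalIdeal (FixedPoints.subring A G)) (FixedPoints.subring A G)) := by
  classical
  let _ : Fintype G := Fintype.ofFinite G
  set B := FixedPoints.subring A G
  obtain ⟨n, s, hs⟩ := Submodule.fg_iff_exists_fin_generating_family.1 (IsNoetherian.noetherian (maximalIdeal A))
  let N := Fintype.card G
  let e : Fin n × Fin N → A := fun q => (MulSemiringAction.charpoly G (s q.1)).coeff q.2
  have hefix : ∀ q, e q ∈ B := fun q σ => MulSemiringAction.smul_coeff_charpoly _ _ σ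
  have hsm : ∀ i, s i ∈ maximalIdeal A := fun i => hs ▸ Submodule.subset_span ⟨i, rfl⟩
  have hdeg : ∀ i, (MulSemiringAction.charpoly G (s i)).natDegree = N := fun i => by
    rw [MulSemiringAction.charpoly_eq, Polynomial.natDegree_prod_of_monic _ _ (fun g _ => Polynomial.monic_X_sub_C _)]
    simp [N]
  have hem : ∀ q, e q ∈ maximalIdeal A := fun q => by
    have h1 : (MulSemiringAction.charpoly G (s q.1)).map (residue A) = Polynomial.X ^ N := by
      rw [MulSemiringAction.charpoly_eq, Polynomial.map_prod,
        Finset.prod_congr rfl (g := fun _ => (Polynomial.X : Polynomial (ResidueField A))) fun σ _ => by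
          rw [Polynomial.map_sub, Polynomial.map_X, Polynomial.map_C,
            (residue_eq_zero_iff _).2 (smul_mem_maximalIdeal σ (hsm q.1)), map_zero, sub_zero],
        Finset.prod_const, Finset.card_univ]
    have h2 := congrArg (fun P => Polynomial.coeff P (q.2 : ℕ)) h1
    simp only [Polynomial.coeff_map, Polynomial.coeff_X_pow, if_neg q.2.2.ne] at h2
    exact (residue_eq_zero_iff _).1 h2
  let eq' : Fin (Fintype.card (Fin n × Fin N)) ≃ Fin n × Fin N := (Fintype.equivFin _).symm
  let x := e ∘ eq'
  set J := Ideal.span (Set.range x) with hJ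
  have hJm : J ≤ maximalIdeal A := Ideal.span_le.2 (by rintro _ ⟨i, rfl⟩; exact hem _)
  have hrad : maximalIdeal A ≤ J.radical := by
    rw [← hs]
    refine Submodule.span_le.2 ?_
    rintro _ ⟨i, rfl⟩
    refine ⟨N, ?_⟩
    have h0 := MulSemiringAction.eval_charpoly G (s i)
    rw [Polynomial.eval_eq_sum_range, Finset.sum_range_succ, (MulSemiringAction.monic_charpoly G (s i)).coeff_natDegree,
      one_mul, hdeg, add_eq_zero_iff_eq_neg'] at h0
    rw [h0]
    refine neg_mem (Ideal.sum_mem _ fun l hl => Ideal.mul_mem_right _ _ ?_)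
    exact Ideal.subset_span ⟨eq'.symm (i, ⟨l, Finset.mem_range.1 hl⟩), by simp [x, e]⟩
  haveI : Nontrivial (A ⧸ J) := Ideal.Quotient.nontrivial_iff.2
    fun h => (maximalIdeal.isMaximal A).ne_top (top_le_iff.1 (h ▸ hJm))
  haveI : IsLocalRing (A ⧸ J) := .of_surjective' (Ideal.Quotient.mk J) Ideal.Quotient.mk_surjective
  haveI : IsArtinianRing (A ⧸ J) := by
    refine isArtinianRing_iff_isNoetherianRing_krullDimLE_zero.2 ⟨inferInstance, Ring.krullDimLE_zero_iff.2 fun P hP => ?_⟩
    have hle : maximalIdeal A ≤ P.comap (Ideal.Quotient.mk J) := hrad.trans (by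
      rw [← (Ideal.IsPrime.comap (Ideal.Quotient.mk J) (hK := hP)).radical]
      exact Ideal.radical_mono fun z hz => by rw [Ideal.mem_comap, Ideal.Quotient.eq_zero_iff_mem.2 hz]; exact P.zero_mem)
    rw [← Ideal.map_comap_of_surjective _ Ideal.Quotient.mk_surjective P,
      ← (maximalIdeal.isMaximal A).eq_of_le (Ideal.IsPrime.comap (Ideal.Quotient.mk J) (hK := hP)).ne_top hle]
    exact (Ideal.map_eq_top_or_isMaximal_of_surjective _ Ideal.Quotient.mk_surjective (maximalIdeal.isMaximal A)).resolve_left
      fun h => (maximalIdeal.isMaximal A).ne_top (top_le_iff.1 (by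
        calc ⊤ = (⊤ : Ideal (A ⧸ J)).comap (Ideal.Quotient.mk J) := (Ideal.comap_top).symm
          _ ≤ maximalIdeal A := by
            rw [← h, Ideal.comap_map_of_surjective _ Ideal.Quotient.mk_surjective, ← RingHom.ker_eq_comap_bot,
              Ideal.mk_ker]
            exact sup_le le_rfl hJm))
  -- a copy of `k` in the universe of `A`
  let k' : Subring A := (algebraMap k A).range
  haveI : IsLocalRing k := inferInstance
  let ek : k ≃+* k' := RingEquiv.ofBijective (algebraMap k A).rangeRestrict
    ⟨fun a b h => (algebraMap k A).injective (congrArg Subtype.val h), (algebraMap k A).rangeRestrict_surjective⟩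
  letI : Field k' := (ek.symm.toMulEquiv.isField (Field.toIsField k)).toField
  obtain ⟨f, hfC, hfX⟩ := Groth.Agent.CAlgH.exists_mvPowerSeries_eval k'.subtype (maximalIdeal A) x fun i => hem _
  have hfin : f.Finite := by
    refine Groth.Agent.CAlgH.finite_mvPowerSeries_hom f (maximalIdeal A) (fun i => by rw [hfX]; exact hem _) ?_
    rw [hfC, show (fun i => f (MvPowerSeries.X i)) = x from funext hfX]
    refine Groth.Agent.CAlgH.finite_of_residue_surjective _ fun y => ?_
    obtain ⟨z, rfl⟩ := residue_surjective y
    obtain ⟨r, rfl⟩ := Ideal.Quotient.mk_surjective z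
    haveI : IsLocalHom (Ideal.Quotient.mk J) := IsLocalHom.of_surjective _ Ideal.Quotient.mk_surjective
    obtain ⟨l, hl⟩ := hk (residue A r)
    refine ⟨ek l, ?_⟩
    have := congrArg (ResidueField.map (Ideal.Quotient.mk J)) hl
    simp only [Function.comp_apply, ResidueField.map_residue] at this
    exact this
  have hfB : ∀ g, f g ∈ B := fun g σ => by
    have key : ∀ (N : ℕ) g, σ • f g - f g ∈ maximalIdeal A ^ N := by
      intro N
      induction N with
      | zero => intro g; rw [pow_zero, Ideal.one_eq_top]; trivial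
      | succ N ih =>
        intro g
        obtain ⟨q, hq⟩ := Groth.Agent.Exal29.exists_expansion g
        have hC : σ • f (MvPowerSeries.C (MvPowerSeries.constantCoeff g)) = f (MvPowerSeries.C (MvPowerSeries.constantCoeff g)) := by
          have h := RingHom.congr_fun hfC (MvPowerSeries.constantCoeff g)
          rw [RingHom.comp_apply] at h
          rw [h]
          obtain ⟨c, hc⟩ := (MvPowerSeries.constantCoeff g).2
          show σ • ((MvPowerSeries.constantCoeff g : k') : A) = ((MvPowerSeries.constantCoeff g : k') : A)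
          rw [← hc]; exact hGk σ c
        rw [hq, map_add, map_sum, smul_add, Finset.smul_sum, hC, add_sub_add_left_eq_sub, ← Finset.sum_sub_distrib, pow_succ']
        refine Ideal.sum_mem _ fun i _ => ?_
        rw [map_mul, hfX, smul_mul', show σ • x i = x i from hefix _ σ, ← mul_sub]
        exact Ideal.mul_mem_mul (hem _) (ih _)
    rw [← sub_eq_zero]
    refine IsHausdorff.haus (I := maximalIdeal A) inferInstance _ fun N => ?_
    rw [SModEq.zero, smul_eq_mul, Ideal.mul_top]
    exact key N g
  let φ : MvPowerSeries (Fin (Fintype.card (Fin n × Fin N))) k' →+* B := f.codRestrict B hfB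
  letI := φ.toAlgebra
  letI := f.toAlgebra
  haveI : IsScalarTower (MvPowerSeries (Fin (Fintype.card (Fin n × Fin N))) k') B A := IsScalarTower.of_algebraMap_eq' rfl
  haveI : Module.Finite (MvPowerSeries (Fin (Fintype.card (Fin n × Fin N))) k') A := hfin
  haveI : IsNoetherianRing (MvPowerSeries (Fin (Fintype.card (Fin n × Fin N))) k') :=
    (Groth.Agent.CAlgH.isRegularLocalRing_mvPowerSeries k' _).1.toIsNoetherian
  haveI : Module.Finite (MvPowerSeries (Fin (Fintype.card (Fin n × Fin N))) k') B :=
    Module.Finite.of_injective (IsScalarTower.toAlgHom _ B A).toLinearMap Subtype.val_injective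
  haveI : IsNoetherianRing B := IsNoetherianRing.of_finite (MvPowerSeries (Fin (Fintype.card (Fin n × Fin N))) k') B
  haveI := isLocalRing (A := A) (G := G)
  haveI : IsAdicComplete (maximalIdeal (MvPowerSeries (Fin (Fintype.card (Fin n × Fin N))) k'))
      (MvPowerSeries (Fin (Fintype.card (Fin n × Fin N))) k') := by
    haveI : IsAdicComplete (maximalIdeal k') k' := by rw [IsLocalRing.maximalIdeal_eq_bot]; infer_instance
    exact Groth.Agent.CAlgH.isAdicComplete_maximalIdeal_mvPowerSeries
  exact ⟨inferInstance, Module.Finite.of_restrictScalars_finite (MvPowerSeries (Fin (Fintype.card (Fin n × Fin N))) k') B A,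
    Groth.Agent.CAlgMisc2.isAdicComplete_maximalIdeal_of_finite (A := MvPowerSeries (Fin (Fintype.card (Fin n × Fin N))) k')⟩

end Complete

end Groth.Agent.CommAlg4.InvRing
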