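import Groth.Agent.FEtFF.PurityLocal
import Groth.Agent.WildLib5.Gen
import Groth.Agent.CommAlg4.InvRing

/-! Inertia subgroups at height one generate, by purity of the branch locus. -/

set_option autoImplicit false
set_option linter.all false
set_option maxHeartbeats 1000000
universe u v w

open scoped TensorProduct Pointwise

namespace Groth.Agent.CommAlg4.InertiaGen

variable {R : Type u} {A : Type v} [CommRing R] [CommRing A] [Algebra R A]
  {H : Type w} [Group H] [MulSemiringAction H A] [SMulCommClass H R A]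

theorem mem_fix_iff (K : Subgroup H) (a : A) :
    a ∈ FixedPoints.subalgebra R A ↥K ↔ K ≤ MulAction.stabilizer H a :=
  ⟨fun h k hk => h ⟨k, hk⟩, fun h k => h k.2⟩

theorem smul_mem_fix (N : Subgroup H) [N.Normal] (g : H) (y : FixedPoints.subalgebra R A ↥N) :
    g • (y : A) ∈ FixedPoints.subalgebra R A ↥N := by
  refine (mem_fix_iff N _).2 fun k hk => ?_
  rw [MulAction.mem_stabilizer_iff, smul_smul, show k * g = g * (g⁻¹ * k * g) by group, ← smul_smul]
  exact congrArg (g • ·) ((mem_fix_iff N _).1 y.2 (Subgroup.Normal.conj_mem' ‹N.Normal› k hk g))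

/-- Elements outside a normal subgroup containing the inertia of `P` move the invariants modulo `P`. -/
theorem exists_notMem [Finite H] (N : Subgroup H) [N.Normal] (P : Ideal A) [P.IsPrime]
    (hP : P.inertia H ≤ N) (g : H) (hg : g ∉ N) :
    ∃ y : FixedPoints.subalgebra R A ↥N, (y : A) - g • (y : A) ∉ P := by
  by_contra hne
  push Not at hne
  apply hg
  let B := FixedPoints.subalgebra R A ↥N
  haveI : Algebra.IsInvariant B A N := ⟨fun a ha => ⟨⟨a, ha⟩, rfl⟩⟩
  haveI : SMulCommClass N B A := ⟨fun k b a => by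
    show (k : H) • ((b : A) * a) = (b : A) * (k : H) • a
    rw [smul_mul', (mem_fix_iff (R := R) _ _).mp b.2 k.2]⟩
  haveI : (g • P).IsPrime := ‹P.IsPrime›.smul g
  have hunder : P.under B = (g • P).under B := by
    ext y
    simp only [Ideal.under, Ideal.mem_comap]
    show (y : A) ∈ P ↔ (y : A) ∈ g • P
    rw [Ideal.mem_pointwise_smul_iff_inv_smul_mem]
    have h := hne ⟨g⁻¹ • (y : A), smul_mem_fix N _ y⟩
    simp only [smul_inv_smul] at h
    exact ⟨fun hy => by simpa using P.add_mem h hy, fun hy => by simpa using P.sub_mem hy h⟩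
  obtain ⟨k, hk⟩ := Algebra.IsInvariant.exists_smul_of_under_eq B A N P (g • P) hunder
  let h := (k : H)⁻¹ * g
  have hhP : h • P = P := by
    show ((k : H)⁻¹ * g) • P = P
    rw [mul_smul, hk]
    exact inv_smul_smul (k : H) P
  have hfixB : ∀ y : B, h • (y : A) - (y : A) ∈ P := fun y => by
    show ((k : H)⁻¹ * g) • (y : A) - (y : A) ∈ P
    rw [mul_smul, (mem_fix_iff (R := R) N _).mp (smul_mem_fix N g y) (Subgroup.inv_mem _ k.2)]
    simpa using P.neg_mem (hne y)
  haveI : P.LiesOver (P.under B) := ⟨rfl⟩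
  have hmapP : P = P.map (MulSemiringAction.toRingEquiv H A h : A →+* A) := hhP.symm
  let F₀ : (A ⧸ P) ≃+* (A ⧸ P) := Ideal.quotientEquiv P P (MulSemiringAction.toRingEquiv H A h) hmapP
  let F : (A ⧸ P) ≃ₐ[B ⧸ P.under B] (A ⧸ P) := AlgEquiv.ofRingEquiv (f := F₀) (fun x => by
    obtain ⟨y, rfl⟩ := Ideal.Quotient.mk_surjective x
    show Ideal.Quotient.mk P (h • (y : A)) = Ideal.Quotient.mk P (y : A)
    exact Ideal.Quotient.eq.mpr (hfixB y))
  obtain ⟨τ, hτ⟩ := Ideal.Quotient.stabilizerHom_surjective N (P.under B) P F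
  have hmem : ((τ : N) : H)⁻¹ * h ∈ P.inertia H := fun a => by
    have hτP : ((τ : N) : H) • P = P := τ.2
    have := AlgEquiv.congr_fun hτ (Ideal.Quotient.mk P a)
    change Ideal.Quotient.mk P (((τ : N) : H) • a) = Ideal.Quotient.mk P (h • a) at this
    have h' := P.neg_mem (Ideal.Quotient.eq.mp this)
    have h'' := Ideal.smul_mem_pointwise_smul (((τ : N) : H)⁻¹) _ P h'
    rw [inv_smul_eq_iff.mpr hτP.symm, neg_sub, smul_sub, inv_smul_smul, smul_smul] at h''
    exact h''
  have hh : h ∈ N := by
    have := Subgroup.mul_mem _ (τ : N).2 (hP hmem)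
    rwa [mul_inv_cancel_left] at this
  have := Subgroup.mul_mem _ k.2 hh
  rwa [mul_inv_cancel_left] at this

variable [Finite H] [Algebra.IsIntegral R A] (hinj : Function.Injective (algebraMap R A))
  (hfix : ∀ a : A, (∀ h : H, h • a = a) → a ∈ Set.range (algebraMap R A))
  (N : Subgroup H) [N.Normal]

include hinj hfix in
/-- The differentials of the invariants vanish over a prime whose inertia groups lie in `N`. -/
theorem exists_smul_derivation_eq_zero (p : Ideal R) [p.IsPrime]
    (hd : ∀ P : Ideal A, P.IsPrime → P.under R = p → P.inertia H ≤ N) :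
    ∃ s : R, s ∉ p ∧ ∀ b : FixedPoints.subalgebra R A ↥N,
      s • KaehlerDifferential.D R (FixedPoints.subalgebra R A ↥N) b = 0 := by
  classical
  let B := FixedPoints.subalgebra R A ↥N
  haveI : Algebra.IsIntegral R B :=
    ⟨fun b => (isIntegral_algHom_iff B.val Subtype.val_injective).mp (Algebra.IsIntegral.isIntegral _)⟩
  haveI : Algebra.IsIntegral B A := Algebra.IsIntegral.tower_top R
  let μ : B ⊗[R] B →ₐ[R] B := Algebra.TensorProduct.lmul' R
  let ψ : H → (B ⊗[R] B →ₐ[R] A) := fun g => Algebra.TensorProduct.productMap B.val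
    ((MulSemiringAction.toAlgHom R A g).comp B.val)
  have hψ : ∀ (g : H) (a b : B), ψ g (a ⊗ₜ b) = (a : A) * g • (b : A) := fun g a b => rfl
  have hψμ : ∀ t, ψ 1 t = (μ t : A) := fun t => by
    induction t using TensorProduct.induction_on with
    | zero => simp
    | tmul a b => rw [hψ, one_smul]; rfl
    | add x y hx hy => rw [map_add, map_add, hx, hy]; rfl
  have hψN : ∀ g : H, ∀ n ∈ N, ∀ t, ψ (g * n) t = ψ g t := fun g n hn t => by
    induction t using TensorProduct.induction_on with
    | zero => simp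
    | tmul a b => rw [hψ, hψ, mul_smul, (mem_fix_iff N _).1 b.2 hn]
    | add x y hx hy => rw [map_add, map_add, hx, hy]
  have hμs : Function.Surjective μ := fun b => ⟨b ⊗ₜ 1, by simp [μ]⟩
  have hg : ∀ g : H, g ∉ N → ∃ s : R, s ∉ p ∧ ∃ t, ψ 1 t = algebraMap R A s ∧ ψ g t = 0 := by
    intro g hg
    let IB : Ideal B := (RingHom.ker (ψ g)).map μ
    by_contra hne
    push Not at hne
    have hle : IB.comap (algebraMap R B) ≤ p := fun r hr => by
      by_contra hrp
      obtain ⟨t, ht, ht'⟩ := (Ideal.mem_map_iff_of_surjective μ hμs).1 hr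
      exact hne r hrp t (by rw [hψμ, ht']; rfl) ht
    obtain ⟨Q, hQI, hQ, hQp⟩ := Ideal.exists_ideal_over_prime_of_isIntegral p IB hle
    haveI := hQ
    obtain ⟨P, -, hP, hPQ⟩ := Ideal.exists_ideal_over_prime_of_isIntegral Q (⊥ : Ideal A)
      (fun b hb => by
        have hb0 : b = 0 := Subtype.val_injective (Ideal.mem_bot.mp hb)
        rw [hb0]; exact Q.zero_mem)
    haveI := hP
    obtain ⟨y, hy⟩ := exists_notMem (R := R) N P (hd P hP (by
      show P.comap (algebraMap R A) = p
      rw [IsScalarTower.algebraMap_eq R B A, ← Ideal.comap_comap, hPQ, hQp])) g hg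
    refine hy ?_
    let y' : B := ⟨g • (y : A), smul_mem_fix N g y⟩
    have hmem : y - y' ∈ IB := by
      have h1 : (1 : B) ⊗ₜ[R] y - y' ⊗ₜ[R] (1 : B) ∈ RingHom.ker (ψ g) := by
        rw [RingHom.mem_ker, map_sub, hψ, hψ]
        simp [y']
      have := Ideal.mem_map_of_mem μ h1
      simpa [μ] using this
    have := hQI hmem
    rw [← hPQ] at this
    exact this
  choose sg hsg tg h1 h2 using fun g : {g : H // g ∉ N} => hg g.1 g.2
  letI : Fintype {g : H // g ∉ N} := Fintype.ofFinite _
  let e := ∏ g, tg g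
  let s := ∏ g, sg g
  have hsp : s ∉ p := fun h => by
    obtain ⟨g, -, hgp⟩ := Ideal.IsPrime.prod_mem_iff.mp h
    exact hsg g hgp
  have he1 : ψ 1 e = algebraMap R A s := by simp [e, s, map_prod, h1]
  have he0 : ∀ g, g ∉ N → ψ g e = 0 := fun g hgN => by
    rw [map_prod]
    exact Finset.prod_eq_zero (Finset.mem_univ ⟨g, hgN⟩) (h2 ⟨g, hgN⟩)
  obtain ⟨S, hS⟩ := TensorProduct.exists_finset e
  -- the trace
  let _ : Fintype (H ⧸ N) := Fintype.ofFinite _
  have hout : ∀ (g : H) (c : H ⧸ N) (y : B), g • c.out • (y : A) = (g • c).out • (y : A) := fun g c y => by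
    obtain ⟨n, hn⟩ : ∃ n : N, (g • c).out = g * c.out * n := by
      obtain ⟨n, hn⟩ := QuotientGroup.mk_out_eq_mul N (g * c.out)
      refine ⟨n, ?_⟩
      rw [← hn]
      congr 1
      rw [← smul_eq_mul, ← MulAction.Quotient.smul_mk, QuotientGroup.out_eq']
    rw [hn, mul_smul, mul_smul, (mem_fix_iff N _).1 y.2 n.2]
  choose T hT using fun y : B => hfix (∑ c : H ⧸ N, c.out • (y : A)) fun g => by
    rw [Finset.smul_sum]
    exact Fintype.sum_equiv (MulAction.toPerm g) _ _ fun c => hout g c y
  have hkey : ∀ a : B, s • a = ∑ l ∈ S, T (a * l.2) • l.1 := fun a => by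
    refine Subtype.ext ?_
    rw [AddSubmonoidClass.coe_finsetSum]
    simp only [Algebra.smul_def, Subalgebra.coe_mul, Subalgebra.coe_algebraMap, hT, Finset.sum_mul]
    rw [Finset.sum_comm, Finset.sum_eq_single ((1 : H) : H ⧸ N)]
    · obtain ⟨n, hn⟩ := QuotientGroup.mk_out_eq_mul N (1 : H)
      rw [one_mul] at hn
      have h3 : ∀ y : B, ((1 : H) : H ⧸ N).out • (y : A) = (y : A) := fun y => by
        rw [hn]; exact (mem_fix_iff N _).1 y.2 n.2
      simp only [smul_mul', h3]
      rw [← he1, hS, map_sum, Finset.sum_mul]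
      refine Finset.sum_congr rfl fun l _ => ?_
      rw [hψ, one_smul]
      show _ = (a : A) * (l.2 : A) * (l.1 : A)
      ring
    · intro c _ hc
      have hcN : c.out ∉ N := fun h => hc (by
        rw [← QuotientGroup.out_eq' c]
        exact QuotientGroup.eq.2 (by simpa using N.inv_mem h))
      calc ∑ l ∈ S, c.out • ((a : A) * (l.2 : A)) * (l.1 : A)
          = c.out • (a : A) * ψ c.out e := by
            rw [hS, map_sum, Finset.mul_sum]
            refine Finset.sum_congr rfl fun l _ => ?_
            rw [hψ, smul_mul']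
            ring
        _ = 0 := by rw [he0 _ hcN, mul_zero]
    · simp
  -- tensors with zero values are torsion
  have htors : ∀ z : B ⊗[R] B, (∀ g, ψ g z = 0) → (s * s) • z = 0 := by
    intro z hz
    obtain ⟨Z, rfl⟩ := TensorProduct.exists_finset z
    rw [Finset.smul_sum]
    have hex : ∀ q : B × B, (s * s) • q.1 ⊗ₜ[R] q.2 =
        ∑ i ∈ S, ∑ j ∈ S, (T (q.1 * i.2) * T (q.2 * j.2)) • i.1 ⊗ₜ[R] j.1 := fun q => by
      rw [← TensorProduct.smul_tmul_smul, hkey, hkey, TensorProduct.sum_tmul]
      simp only [TensorProduct.tmul_sum, TensorProduct.smul_tmul_smul]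
    simp only [hex]
    rw [Finset.sum_comm]
    refine Finset.sum_eq_zero fun i _ => ?_
    rw [Finset.sum_comm]
    refine Finset.sum_eq_zero fun j _ => ?_
    rw [← Finset.sum_smul]
    suffices h0 : ∑ q ∈ Z, T (q.1 * i.2) * T (q.2 * j.2) = 0 by rw [h0, zero_smul]
    refine hinj ?_
    rw [map_zero, map_sum]
    simp only [map_mul, hT, Finset.sum_mul, Finset.mul_sum]
    rw [Finset.sum_comm]
    refine Finset.sum_eq_zero fun c _ => ?_
    rw [Finset.sum_comm]
    refine Finset.sum_eq_zero fun c' _ => ?_
    have h0 := congrArg (fun x => c'.out • ((i.2 : A) * ((c'.out⁻¹ * c.out) • (j.2 : A) * x)))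
      (hz (c'.out⁻¹ * c.out))
    simp only [map_sum, hψ, mul_zero, smul_zero, Finset.mul_sum, Finset.smul_sum] at h0
    refine Eq.trans ?_ h0
    refine Finset.sum_congr rfl fun q _ => ?_
    simp only [Subalgebra.coe_mul, smul_mul', mul_smul, smul_inv_smul]
    ring
  refine ⟨s * s * s, fun h => hsp ((‹p.IsPrime›.mem_or_mem h).elim
    (fun h => (‹p.IsPrime›.mem_or_mem h).elim id id) id), fun b => ?_⟩
  let D := KaehlerDifferential.D R B
  let Φ : B ⊗[R] B →ₗ[R] Ω[B⁄R] :=
    TensorProduct.lift (((LinearMap.lsmul B Ω[B⁄R]).restrictScalars₁₂ R R).compl₂ D.toLinearMap)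
  have hΦ : ∀ x y : B, Φ (x ⊗ₜ y) = x • D y := fun x y => rfl
  have hΦu : ∀ t : B ⊗[R] B, Φ (t * ((1 : B) ⊗ₜ[R] b - b ⊗ₜ[R] (1 : B))) = μ t • D b := fun t => by
    induction t using TensorProduct.induction_on with
    | zero => simp
    | tmul x y =>
      rw [mul_sub, Algebra.TensorProduct.tmul_mul_tmul, Algebra.TensorProduct.tmul_mul_tmul, map_sub,
        hΦ, hΦ, Derivation.leibniz, mul_one, mul_one, smul_add, smul_smul, smul_smul]
      show (x * y) • D b + (x * b) • D y - (x * b) • D y = (x * y) • D b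
      abel
    | add t t' ht ht' => rw [add_mul, map_add, map_add, ht, ht', add_smul]
  have hz : ∀ g, ψ g (e * ((1 : B) ⊗ₜ[R] b - b ⊗ₜ[R] (1 : B))) = 0 := fun g => by
    rw [map_mul]
    by_cases hgN : g ∈ N
    · rw [map_sub, hψ, hψ, (mem_fix_iff N _).1 b.2 hgN]
      simp
    · rw [he0 g hgN, zero_mul]
  have := congrArg Φ (htors _ hz)
  rw [map_smul, hΦu, map_zero] at this
  have hμe : μ e = algebraMap R B s := Subtype.ext (by rw [← hψμ, he1]; rfl)
  rw [hμe, algebraMap_smul, smul_smul] at this
  exact this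

section Main

variable {R : Type v} {A : Type v} [CommRing R] [IsRegularLocalRing R]
  [CommRing A] [IsDomain A] [IsIntegrallyClosed A] [IsLocalRing A]
  [Algebra R A] [Module.Finite R A]
  {H : Type w} [Group H] [Finite H] [MulSemiringAction H A] [SMulCommClass H R A] [FaithfulSMul H A]

/-- The inertia subgroups at height one primes generate the group (same universe). -/
theorem iSup_inertia_eq_top_aux (hinj : Function.Injective (algebraMap R A))
    (hres : Function.Surjective (IsLocalRing.residue A ∘ algebraMap R A))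
    (hfix : ∀ a : A, (∀ h : H, h • a = a) → a ∈ Set.range (algebraMap R A)) :
    (⨆ P : {P : Ideal A // P.IsPrime ∧ P.height = 1}, P.1.inertia H) = ⊤ := by
  classical
  haveI := CAlgH3.isDomain_of_isRegularLocalRing R
  haveI := CAlgH3.isIntegrallyClosed_of_regular R
  haveI : Algebra.IsIntegral R A := Algebra.IsIntegral.of_finite R A
  haveI : IsNoetherianRing A := IsNoetherianRing.of_finite R A
  haveI : IsNoetherian R A := isNoetherian_of_isNoetherianRing_of_finite R A
  set N : Subgroup H := ⨆ P : {P : Ideal A // P.IsPrime ∧ P.height = 1}, P.1.inertia H with hN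
  haveI : N.Normal := ⟨fun n hn g => by
    have hle : N ≤ N.comap (MulAut.conj g).toMonoidHom := by
      refine iSup_le fun P => ?_
      intro σ hσ
      haveI := P.2.1
      have hgP : (g • P.1).IsPrime ∧ (g • P.1).height = 1 := by
        refine ⟨P.2.1.smul g, ?_⟩
        exact ((MulSemiringAction.toRingEquiv H A g).height_map P.1).trans P.2.2
      refine le_iSup (fun P : {P : Ideal A // P.IsPrime ∧ P.height = 1} => P.1.inertia H) ⟨g • P.1, hgP⟩ ?_
      intro a
      show (g * σ * g⁻¹) • a - a ∈ g • P.1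
      rw [Ideal.mem_pointwise_smul_iff_inv_smul_mem, smul_sub, smul_smul]
      simpa [mul_assoc, mul_smul] using hσ (g⁻¹ • a)
    exact hle hn⟩
  let B := FixedPoints.subalgebra R A ↥N
  rw [Subgroup.eq_top_iff']
  intro h
  by_contra hh
  -- it suffices that `B = R`
  suffices hBR : Function.Surjective (algebraMap R B) by
    haveI : (⊥ : Ideal A).IsPrime := Ideal.isPrime_bot
    obtain ⟨y, hy⟩ := exists_notMem (R := R) N (⊥ : Ideal A) (fun σ hσ => by
      have : σ = 1 := eq_of_smul_eq_smul (α := A) fun a => by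
        rw [one_smul, ← sub_eq_zero, ← Ideal.mem_bot]; exact hσ a
      rw [this]; exact N.one_mem) h hh
    obtain ⟨r, rfl⟩ := hBR y
    exact hy (by simp [smul_algebraMap])
  haveI : Module.Finite R B := Module.Finite.of_injective B.val.toLinearMap Subtype.val_injective
  haveI : Algebra.IsIntegral R B := Algebra.IsIntegral.of_finite R B
  haveI : IsNoetherianRing B := IsNoetherianRing.of_finite R B
  haveI : Algebra.IsIntegral B A := Algebra.IsIntegral.tower_top R
  haveI : IsLocalHom (algebraMap B A) :=
    (algebraMap_isIntegral_iff.2 ‹Algebra.IsIntegral B A›).isLocalHom Subtype.val_injective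
  haveI : IsLocalRing B := RingHom.domain_isLocalRing (algebraMap B A)
  haveI : IsLocalHom (algebraMap R A) :=
    (algebraMap_isIntegral_iff.2 ‹Algebra.IsIntegral R A›).isLocalHom hinj
  have hBinj : Function.Injective (algebraMap R B) := fun a b e => hinj (congrArg Subtype.val e)
  haveI : IsLocalHom (algebraMap R B) :=
    (algebraMap_isIntegral_iff.2 ‹Algebra.IsIntegral R B›).isLocalHom hBinj
  haveI : FaithfulSMul R B := (faithfulSMul_iff_algebraMap_injective R B).2 hBinj
  haveI : IsIntegrallyClosed B := by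
    haveI := InvRing.isIntegrallyClosed (A := A) (G := N)
    let eB : FixedPoints.subring A ↥N ≃+* B :=
      { toFun := fun x => ⟨x.1, x.2⟩
        invFun := fun x => ⟨x.1, x.2⟩
        left_inv := fun x => rfl
        right_inv := fun x => rfl
        map_mul' := fun _ _ => rfl
        map_add' := fun _ _ => rfl }
    exact IsIntegrallyClosed.of_equiv eB
  have hmod : ∀ b : B, ∃ r : R, b - algebraMap R B r ∈ IsLocalRing.maximalIdeal B := fun b => by
    obtain ⟨r, hr⟩ := hres (IsLocalRing.residue A (b : A))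
    refine ⟨r, ?_⟩
    rw [IsLocalRing.mem_maximalIdeal, mem_nonunits_iff]
    intro hu
    exact (IsLocalRing.mem_maximalIdeal _).1
      (Ideal.Quotient.eq.1 hr.symm : (b : A) - algebraMap R A r ∈ IsLocalRing.maximalIdeal A)
      (hu.map (algebraMap B A))
  have hmB : (IsLocalRing.maximalIdeal R).map (algebraMap R B) = IsLocalRing.maximalIdeal B := by
    rcases Nat.eq_zero_or_pos (IsLocalRing.maximalIdeal R).spanFinrank with h0 | hn
    · have hR : IsField R := IsLocalRing.isField_iff_maximalIdeal_eq.2
        ((Submodule.spanFinrank_eq_zero_iff_eq_bot (IsNoetherian.noetherian _)).1 h0)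
      have hB : IsField B := isField_of_isIntegral_of_isField' hR
      rw [IsLocalRing.isField_iff_maximalIdeal_eq.1 hR, IsLocalRing.isField_iff_maximalIdeal_eq.1 hB,
        Ideal.map_bot]
    · haveI : Algebra.Etale R B := FEtFF.PurityLocal.etale_of_unramified_codim_one _ R B hn rfl hBinj
        fun q _ hq => by
          have hqp : (q.under R).height = 1 := by rw [← hq]; exact DimLib.height_comap_eq q
          obtain ⟨s, hs, hD⟩ := exists_smul_derivation_eq_zero hinj hfix N (q.under R) fun P hP hPq => by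
            haveI := hP
            exact le_iSup (fun P : {P : Ideal A // P.IsPrime ∧ P.height = 1} => P.1.inertia H)
              ⟨P, hP, WildLib5.height_eq_one hinj (q.under R) hqp P hPq⟩
          show (⟨q, inferInstance⟩ : PrimeSpectrum B) ∈ Algebra.unramifiedLocus R B
          rw [Algebra.unramifiedLocus_eq_compl_support, Set.mem_compl_iff, Module.notMem_support_iff']
          intro m
          refine ⟨algebraMap R B s, hs, ?_⟩
          have hm : m ∈ Submodule.span B (Set.range (KaehlerDifferential.D R B)) := by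
            rw [KaehlerDifferential.span_range_derivation]; trivial
          induction hm using Submodule.span_induction with
          | mem m hm => obtain ⟨b, rfl⟩ := hm; rw [algebraMap_smul]; exact hD b
          | zero => exact smul_zero _
          | add m m' _ _ h h' => rw [smul_add, h, h', add_zero]
          | smul c m _ h => rw [smul_comm, h, smul_zero]
      exact Algebra.FormallyUnramified.map_maximalIdeal
  intro b
  have htop : (⊤ : Submodule R B) ≤ LinearMap.range (Algebra.linearMap R B) := by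
    refine Submodule.le_of_le_smul_of_le_jacobson_bot (I := IsLocalRing.maximalIdeal R) Module.Finite.fg_top
      (IsLocalRing.maximalIdeal_le_jacobson _) fun b _ => ?_
    obtain ⟨r, hr⟩ := hmod b
    refine Submodule.mem_sup.2 ⟨algebraMap R B r, ⟨r, rfl⟩, b - algebraMap R B r, ?_, by abel⟩
    rw [← hmB] at hr
    rw [Ideal.smul_top_eq_map]
    exact hr
  exact htop Submodule.mem_top

end Main

/-- The inertia subgroups at height one primes generate the group. -/
theorem iSup_inertia_eq_top (R : Type u) [CommRing R] [IsRegularLocalRing R]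
    (A : Type v) [CommRing A] [IsDomain A] [IsIntegrallyClosed A] [IsLocalRing A]
    [Algebra R A] [Module.Finite R A] (hinj : Function.Injective (algebraMap R A))
    (hres : Function.Surjective (IsLocalRing.residue A ∘ algebraMap R A))
    (H : Type w) [Group H] [Finite H] [MulSemiringAction H A] [SMulCommClass H R A] [FaithfulSMul H A]
    (hfix : ∀ a : A, (∀ h : H, h • a = a) → a ∈ Set.range (algebraMap R A)) :
    (⨆ P : {P : Ideal A // P.IsPrime ∧ P.height = 1}, P.1.inertia H) = ⊤ := by
  let R₀ : Subring A := (algebraMap R A).range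
  let e : R ≃+* R₀ := RingEquiv.ofBijective (algebraMap R A).rangeRestrict
    ⟨fun a b h => hinj (congrArg Subtype.val h), RingHom.rangeRestrict_surjective _⟩
  haveI : IsRegularLocalRing R₀ := IsRegularLocalRing.of_ringEquiv e
  letI : Algebra R R₀ := (algebraMap R A).rangeRestrict.toAlgebra
  haveI : IsScalarTower R R₀ A := IsScalarTower.of_algebraMap_eq fun r => rfl
  haveI : Module.Finite R₀ A := Module.Finite.of_restrictScalars_finite R R₀ A
  haveI : SMulCommClass H R₀ A := ⟨fun g r a => by
    obtain ⟨-, x, rfl⟩ := r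
    show g • (algebraMap R A x * a) = algebraMap R A x * g • a
    rw [smul_mul', smul_algebraMap]⟩
  exact iSup_inertia_eq_top_aux (R := R₀) Subtype.val_injective
    (fun z => by obtain ⟨r, hr⟩ := hres z; exact ⟨e r, hr⟩)
    (fun a ha => by obtain ⟨r, hr⟩ := hfix a ha; exact ⟨e r, hr⟩)

end Groth.Agent.CommAlg4.InertiaGen
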