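import Mathlib
import Groth.Prelude.Def_LefPen
import Groth.Agent.DimLib.Algebra

/-!
A lower bound for the Hilbert function of a homogeneous ideal from its dimension.
-/

set_option autoImplicit false

universe u

namespace Groth.Agent.CommAlg4

open MvPolynomial

theorem ringKrullDim_quotient_radical {R : Type u} [CommRing R] (I : Ideal R) :
    ringKrullDim (R ⧸ I.radical) = ringKrullDim (R ⧸ I) := by
  rw [ringKrullDim_quotient, ringKrullDim_quotient, PrimeSpectrum.zeroLocus_radical]

theorem finrank_homogeneous_fin (k : Type u) [Field k] (n j : ℕ) :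
    Module.finrank k (homogeneousSubmodule (Fin n) k j) = (n + j - 1).choose j := by
  classical
  rw [homogeneousSubmodule_eq_finsupp_supported]
  refine (Module.finrank_eq_nat_card_basis (basisRestrictSupport k _)).trans ?_
  rw [← Nat.multichoose_eq]
  have := Sym.card_sym_eq_multichoose (Fin n) j
  rw [Fintype.card_fin] at this
  rw [← this, ← Nat.card_eq_fintype_card]
  exact Nat.card_congr ((Equiv.subtypeEquiv (Multiset.toFinsupp.symm.toEquiv) fun f => by
    simp [Finsupp.degree, Finsupp.card_toMultiset, Finsupp.sum] <;> rfl).trans (Equiv.refl (Sym (Fin n) j)))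

theorem hilbert_lower_bound {k : Type u} [Field k] (m n j : ℕ)
    (I : Ideal (MvPolynomial (Fin (m + 1)) k)) (hirr : I.radical.IsPrime)
    (hdim : ringKrullDim (MvPolynomial (Fin (m + 1)) k ⧸ I) = (n : WithBot ℕ∞)) :
    (n + j - 1).choose j +
        Module.finrank k ↥(homogeneousSubmodule (Fin (m + 1)) k j ⊓ Submodule.restrictScalars k I)
      ≤ Module.finrank k (homogeneousSubmodule (Fin (m + 1)) k j) := by
  classical
  let R := MvPolynomial (Fin (m + 1)) k
  let A := R ⧸ I.radical
  haveI : IsDomain A := Ideal.Quotient.isDomain I.radical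
  haveI : Algebra.FiniteType k A := inferInstance
  have htr : (Algebra.trdeg k A).toNat = n := by
    have h := DimLib.ringKrullDim_eq_trdeg (k := k) (A := A)
    rw [ringKrullDim_quotient_radical, hdim] at h
    exact_mod_cast h.symm
  let s : Set A := Set.range fun i => Ideal.Quotient.mkₐ k I.radical (X i)
  have hs : Algebra.adjoin k s = ⊤ := by
    have : s = Ideal.Quotient.mkₐ k I.radical '' Set.range X := (Set.range_comp _ _)
    rw [this, ← AlgHom.map_adjoin, adjoin_range_X, Algebra.map_top, AlgHom.range_eq_top]
    exact Ideal.Quotient.mkₐ_surjective k _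
  haveI : Algebra.IsAlgebraic (Algebra.adjoin k s) A := by
    refine ⟨fun a => ?_⟩
    exact isAlgebraic_algebraMap (⟨a, hs ▸ Algebra.mem_top⟩ : Algebra.adjoin k s)
  obtain ⟨t, hts, ht⟩ := exists_isTranscendenceBasis_subset (R := k) s
  have hfin : t.Finite := (Set.finite_range _).subset hts
  have hcard : Nat.card t = n := by
    rw [Nat.card, ← htr, ← ht.cardinalMk_eq_trdeg]
  haveI := hfin.fintype
  let e : Fin n ≃ t := (Fintype.equivFinOfCardEq (by rw [← Nat.card_eq_fintype_card, hcard])).symm
  choose σ hσ using fun i : Fin n => hts (e i).2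
  have hind : AlgebraicIndependent k fun i => Ideal.Quotient.mkₐ k I.radical (X (σ i)) := by
    have h := ht.1.comp e e.injective
    convert h using 1
    funext i
    exact hσ i
  let W := homogeneousSubmodule (Fin n) k j
  let V := homogeneousSubmodule (Fin (m + 1)) k j
  let N : Submodule k V := (Submodule.restrictScalars k I).comap V.subtype
  let Φ : W →ₗ[k] V := ((rename σ).toLinearMap.comp W.subtype).codRestrict V
    fun p => (mem_homogeneousSubmodule _ _).mpr
      (((mem_homogeneousSubmodule _ _).mp p.2).rename_isHomogeneous)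
  have hinj : Function.Injective (N.mkQ.comp Φ) := by
    rw [injective_iff_map_eq_zero]
    intro p hp
    rw [LinearMap.comp_apply, Submodule.mkQ_apply, Submodule.Quotient.mk_eq_zero] at hp
    have h1 : rename σ (p : MvPolynomial (Fin n) k) ∈ I.radical := Ideal.le_radical hp
    apply Subtype.ext
    apply hind.eq_zero_of_aeval_eq_zero
    rw [show (aeval fun i => Ideal.Quotient.mkₐ k I.radical (X (σ i))) =
        (Ideal.Quotient.mkₐ k I.radical).comp (rename σ) from algHom_ext fun i => by simp]
    exact Ideal.Quotient.eq_zero_iff_mem.mpr h1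
  haveI : FiniteDimensional k V := by
    rw [show V = restrictSupport k {d : Fin (m + 1) →₀ ℕ | d.degree = j} from
      homogeneousSubmodule_eq_finsupp_supported _ k j]
    haveI : Finite {d : Fin (m + 1) →₀ ℕ | d.degree = j} :=
      ((Finsupp.finite_of_degree_le (σ := Fin (m + 1)) j).subset fun d hd => le_of_eq hd).to_subtype
    exact Module.Finite.of_basis (basisRestrictSupport k _)
  have h1 := LinearMap.finrank_le_finrank_of_injective hinj
  have h2 := N.finrank_quotient_add_finrank
  have h3 : Module.finrank k N = Module.finrank k ↥(V ⊓ Submodule.restrictScalars k I) := by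
    rw [inf_comm, ← (Submodule.comapSubtypeEquivOfLe
      (inf_le_right : Submodule.restrictScalars k I ⊓ V ≤ V)).finrank_eq, Submodule.comap_inf,
      Submodule.comap_subtype_self, inf_top_eq]
  rw [finrank_homogeneous_fin] at h1
  simp only [V] at h1 h2 h3 ⊢
  omega

end Groth.Agent.CommAlg4
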