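import Mathlib

/-!
The ring map `k[X₀, …, X_d] → E[T]`, `X₀ ↦ T`, `X_{i+1} ↦ x_i T`, for algebraically independent `x`, and its extension to
formal power series; linear disjointness and analytic irreducibility of the normalisation of the cone.
-/

set_option autoImplicit false
set_option linter.all false

universe u

open Polynomial TensorProduct

namespace Groth.Agent.CommAlg4.Cone

variable {k : Type u} [Field k] {d : ℕ} {E : Type u} [Field E] [Algebra k E] (x : Fin d → E)

/-- `X₀ ↦ T`, `X_{i+1} ↦ x_i T`. -/
noncomputable def phi : MvPolynomial (Fin (d + 1)) k →ₐ[k] Polynomial E :=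
  MvPolynomial.aeval (Fin.cons Polynomial.X fun i => Polynomial.C (x i) * Polynomial.X)

theorem phi_zero : phi (k := k) x (MvPolynomial.X 0) = Polynomial.X := by simp [phi]

theorem phi_succ (i : Fin d) : phi (k := k) x (MvPolynomial.X i.succ) = Polynomial.C (x i) * Polynomial.X := by simp [phi]

/-- The power series version of the variables' images. -/
noncomputable def pt (i : Fin (d + 1)) : MvPowerSeries Unit E :=
  PowerSeries.C ((Fin.cons (1 : E) x : Fin (d + 1) → E) i) * PowerSeries.X

theorem hasSubst_pt : MvPowerSeries.HasSubst (pt (d := d) x) :=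
  MvPowerSeries.hasSubst_of_constantCoeff_zero fun s => by
    show PowerSeries.constantCoeff (pt x s) = 0
    simp [pt]

/-- The extension of `phi` to power series. -/
noncomputable def gam : MvPowerSeries (Fin (d + 1)) k →ₐ[k] PowerSeries E :=
  MvPowerSeries.substAlgHom (hasSubst_pt x)

theorem coe_phi (p : MvPolynomial (Fin (d + 1)) k) : ((phi x p : Polynomial E) : PowerSeries E) = gam x (p : MvPowerSeries (Fin (d + 1)) k) := by
  rw [gam, MvPowerSeries.coe_substAlgHom, MvPowerSeries.subst_coe]
  show (Polynomial.coeToPowerSeries.algHom E) (phi x p) = _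
  induction p using MvPolynomial.induction_on with
  | C a => simp [phi, IsScalarTower.algebraMap_apply k E (Polynomial E), MvPowerSeries.algebraMap_apply]; rfl
  | add p q hp hq => simp only [map_add, hp, hq]
  | mul_X p i hp =>
    rw [map_mul, map_mul, map_mul, hp, MvPolynomial.aeval_X]
    congr 1
    refine Fin.cases ?_ (fun j => ?_) i <;> simp [phi, pt]

/-- The homogeneous part of degree `n`, dehomogenised at `X₀`. -/
noncomputable def hpart (f : MvPowerSeries (Fin (d + 1)) k) (n : ℕ) : MvPolynomial (Fin d) k :=
  ∑ e ∈ Finset.finsuppAntidiag (Finset.univ : Finset (Fin (d + 1))) n,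
    MvPolynomial.monomial (Finsupp.tail e) (MvPowerSeries.coeff e f)

theorem coeff_gam (f : MvPowerSeries (Fin (d + 1)) k) (n : ℕ) :
    PowerSeries.coeff n (gam x f) = MvPolynomial.aeval x (hpart f n) := by
  classical
  have hprod : ∀ e : Fin (d + 1) →₀ ℕ, (e.prod fun s m => pt x s ^ m) =
      PowerSeries.C (∏ i, x i ^ Finsupp.tail e i) * PowerSeries.X ^ (∑ s, e s) := by
    intro e
    rw [Finsupp.prod_fintype _ _ (fun s => pow_zero _)]
    show ∏ s, (PowerSeries.C ((Fin.cons (1 : E) x : Fin (d + 1) → E) s) * PowerSeries.X) ^ e s = _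
    simp only [mul_pow, Finset.prod_mul_distrib, Finset.prod_pow_eq_pow_sum, ← map_pow, ← map_prod]
    congr 2
    rw [Fin.prod_univ_succ]
    simp [Finsupp.tail_apply]
  rw [gam, MvPowerSeries.coe_substAlgHom]
  show MvPowerSeries.coeff (Finsupp.single () n) (MvPowerSeries.subst (pt x) f) = _
  rw [MvPowerSeries.coeff_subst (hasSubst_pt x)]
  have hterm : ∀ e : Fin (d + 1) →₀ ℕ, MvPowerSeries.coeff (Finsupp.single () n) (e.prod fun s m => pt x s ^ m) =
      if (∑ s, e s) = n then ∏ i, x i ^ Finsupp.tail e i else 0 := by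
    intro e
    rw [hprod e]
    show PowerSeries.coeff n (PowerSeries.C _ * PowerSeries.X ^ _) = _
    rw [PowerSeries.coeff_C_mul, PowerSeries.coeff_X_pow]
    split_ifs with h1 h2 h3 <;> simp_all
  rw [finsum_eq_sum_of_support_subset _ (s := Finset.finsuppAntidiag (Finset.univ : Finset (Fin (d + 1))) n) ?_]
  · rw [hpart, map_sum]
    refine Finset.sum_congr rfl fun e he => ?_
    rw [hterm e, if_pos (by simpa [Finset.mem_finsuppAntidiag] using he), MvPolynomial.aeval_monomial, Algebra.smul_def]
    congr 1
    rw [Finsupp.prod_fintype _ _ (fun s => pow_zero _)]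
  · intro e he
    rw [Function.mem_support, hterm e] at he
    simp only [Finset.coe_sort_coe, Finset.mem_coe, Finset.mem_finsuppAntidiag]
    by_contra hne
    apply he
    rw [if_neg (fun h => hne ⟨h, Finset.subset_univ _⟩), smul_zero]

theorem hpart_coeff (f : MvPowerSeries (Fin (d + 1)) k) (e : Fin (d + 1) →₀ ℕ) :
    (hpart f (∑ s, e s)).coeff (Finsupp.tail e) = MvPowerSeries.coeff e f := by
  classical
  rw [hpart, MvPolynomial.coeff_sum]
  rw [Finset.sum_eq_single e]
  · simp
  · intro e' he' hne
    rw [MvPolynomial.coeff_monomial, if_neg]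
    intro h
    apply hne
    have hs : ∑ s, e' s = ∑ s, e s := by simpa [Finset.mem_finsuppAntidiag] using he'
    rw [← Finsupp.cons_tail e', ← Finsupp.cons_tail e, h]
    congr 1
    rw [Fin.sum_univ_succ, Fin.sum_univ_succ] at hs
    have h2 : ∀ i : Fin d, e' i.succ = e i.succ := fun i => by
      have := DFunLike.congr_fun h i
      simpa [Finsupp.tail_apply] using this
    simp only [h2] at hs
    omega
  · intro h; exact absurd (by simp [Finset.mem_finsuppAntidiag]) h

theorem gam_injective (hx : AlgebraicIndependent k x) : Function.Injective (gam (k := k) x) := by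
  refine (injective_iff_map_eq_zero _).2 fun f hf => ?_
  ext e
  have h0 : MvPolynomial.aeval x (hpart f (∑ s, e s)) = 0 := by rw [← coeff_gam, hf, map_zero]
  rw [← hpart_coeff, hx.eq_zero_of_aeval_eq_zero _ h0]
  simp

theorem coeff_gam_mem (f : MvPowerSeries (Fin (d + 1)) k) (n : ℕ) :
    PowerSeries.coeff n (gam x f) ∈ IntermediateField.adjoin k (Set.range x) := by
  rw [coeff_gam]
  apply IntermediateField.algebra_adjoin_le_adjoin
  rw [Algebra.adjoin_range_eq_range_aeval]
  exact ⟨_, rfl⟩

theorem phi_injective (hx : AlgebraicIndependent k x) : Function.Injective (phi (k := k) x) := by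
  intro p q h
  refine MvPolynomial.coe_injective _ _ (gam_injective x hx ?_)
  rw [← coe_phi, ← coe_phi, h]

/-- Linear disjointness of `k[[X]]` and `E` inside `E[[T]]`. -/
theorem gam_linearIndependent (hx : AlgebraicIndependent k x) {ι : Type*} [Fintype ι] (e : ι → E)
    (he : LinearIndependent (IntermediateField.adjoin k (Set.range x)) e)
    (c : ι → MvPowerSeries (Fin (d + 1)) k) (h : ∑ j, gam x (c j) * PowerSeries.C (e j) = 0) : ∀ j, c j = 0 := by
  intro j
  refine gam_injective x hx ?_
  rw [map_zero]
  ext n
  have hn := congrArg (PowerSeries.coeff n) h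
  rw [map_sum] at hn
  simp only [PowerSeries.coeff_mul_C, map_zero] at hn
  have := Fintype.linearIndependent_iff.1 he (fun j => ⟨_, coeff_gam_mem x (c j) n⟩) (by simpa [IntermediateField.smul_def] using hn) j
  simpa using congrArg Subtype.val this

section FractionField

variable {Ω : Type u} [Field Ω] [Algebra (Polynomial E) Ω] [IsFractionRing (Polynomial E) Ω]
  [Algebra (MvPolynomial (Fin (d + 1)) k) Ω]
  (hΩ : ∀ p : MvPolynomial (Fin (d + 1)) k, algebraMap (MvPolynomial (Fin (d + 1)) k) Ω p = algebraMap (Polynomial E) Ω (phi x p))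

include hΩ in
theorem faithful (hx : AlgebraicIndependent k x) : Function.Injective (algebraMap (MvPolynomial (Fin (d + 1)) k) Ω) := by
  intro p q h
  rw [hΩ, hΩ] at h
  exact phi_injective x hx (IsFractionRing.injective (Polynomial E) Ω h)

include hΩ in
/-- `E(T)` has the same basis over `k(X₀, …, X_d)` as `E` over `k(x)`. -/
theorem exists_basis (hx : AlgebraicIndependent k x) [FiniteDimensional (IntermediateField.adjoin k (Set.range x)) E]
    {K : Type u} [Field K] [Algebra (MvPolynomial (Fin (d + 1)) k) K] [IsFractionRing (MvPolynomial (Fin (d + 1)) k) K]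
    [Algebra K Ω] [IsScalarTower (MvPolynomial (Fin (d + 1)) k) K Ω] :
    ∃ (r : ℕ) (e : Fin r → E) (b : Module.Basis (Fin r) K Ω),
      LinearIndependent (IntermediateField.adjoin k (Set.range x)) e ∧ ∀ j, b j = algebraMap (Polynomial E) Ω (Polynomial.C (e j)) := by
  classical
  set F := IntermediateField.adjoin k (Set.range x)
  let bE := Module.finBasis F E
  let e : Fin (Module.finrank F E) → E := fun j => bE j
  let v : Fin (Module.finrank F E) → Ω := fun j => algebraMap (Polynomial E) Ω (Polynomial.C (e j))
  have hli : LinearIndependent K v := by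
    rw [← LinearIndependent.iff_fractionRing (MvPolynomial (Fin (d + 1)) k) K, Fintype.linearIndependent_iff]
    intro g hg j
    have h0 : ∑ j, phi x (g j) * Polynomial.C (e j) = 0 := by
      refine IsFractionRing.injective (Polynomial E) Ω ?_
      rw [map_sum, map_zero, ← hg]
      exact Finset.sum_congr rfl fun j _ => by rw [map_mul, Algebra.smul_def, hΩ]
    have h1 := congrArg (fun p : Polynomial E => (p : PowerSeries E)) h0
    simp only [← Polynomial.coeToPowerSeries.ringHom_apply, map_sum, map_mul, map_zero] at h1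
    simp only [Polynomial.coeToPowerSeries.ringHom_apply, Polynomial.coe_C, coe_phi] at h1
    have := gam_linearIndependent x hx e bE.linearIndependent (fun j => (g j : MvPowerSeries (Fin (d + 1)) k)) h1 j
    exact MvPolynomial.coe_injective _ _ (this.trans MvPolynomial.coe_zero.symm)
  let S : Submodule K Ω := Submodule.span K (Set.range v)
  let cC : E →+* Ω := (algebraMap (Polynomial E) Ω).comp Polynomial.C
  let T : Ω := algebraMap (Polynomial E) Ω Polynomial.X
  have hT : algebraMap (MvPolynomial (Fin (d + 1)) k) Ω (MvPolynomial.X 0) = T := by rw [hΩ, phi_zero]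
  have hF : ∀ y ∈ F, cC y ∈ (algebraMap K Ω).fieldRange := by
    suffices h : F.toSubfield ≤ (algebraMap K Ω).fieldRange.comap cC from fun y hy => h hy
    rw [IntermediateField.adjoin_toSubfield, Subfield.closure_le]
    rintro y (⟨a, rfl⟩ | ⟨i, rfl⟩)
    · refine ⟨algebraMap (MvPolynomial (Fin (d + 1)) k) K (MvPolynomial.C a), ?_⟩
      rw [← IsScalarTower.algebraMap_apply, hΩ]
      simp [cC, phi, IsScalarTower.algebraMap_apply k E (Polynomial E)]
    · refine ⟨algebraMap (MvPolynomial (Fin (d + 1)) k) K (MvPolynomial.X i.succ) / algebraMap (MvPolynomial (Fin (d + 1)) k) K (MvPolynomial.X 0), ?_⟩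
      rw [map_div₀, ← IsScalarTower.algebraMap_apply, ← IsScalarTower.algebraMap_apply, hT, hΩ, phi_succ, map_mul,
        mul_div_cancel_right₀]
      · rfl
      · exact fun h => Polynomial.X_ne_zero (IsFractionRing.injective (Polynomial E) Ω (h.trans (map_zero _).symm))
  have hE : ∀ y : E, cC y ∈ S := by
    intro y
    rw [← bE.sum_repr y, map_sum]
    refine Submodule.sum_mem _ fun j _ => ?_
    obtain ⟨c, hc⟩ := hF _ (bE.repr y j).2
    have : cC (bE.repr y j • bE j) = c • v j := by
      rw [IntermediateField.smul_def, smul_eq_mul, map_mul, ← hc, Algebra.smul_def]; rfl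
    rw [this]
    exact Submodule.smul_mem _ _ (Submodule.subset_span ⟨j, rfl⟩)
  have hmul : ∀ a ∈ S, ∀ b ∈ S, a * b ∈ S := by
    intro a ha b hb
    have := Submodule.mul_mem_mul ha hb
    rw [Submodule.span_mul_span] at this
    refine Submodule.span_le.2 ?_ this
    rintro _ ⟨_, ⟨i, rfl⟩, _, ⟨j, rfl⟩, rfl⟩
    have : v i * v j = cC (e i * e j) := by rw [map_mul]; rfl
    exact (this ▸ hE _ : v i * v j ∈ S)
  let A : Subalgebra K Ω := S.toSubalgebra (by have := hE 1; rwa [map_one] at this) (fun a b ha hb => hmul a ha b hb)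
  haveI : FiniteDimensional K S := FiniteDimensional.span_of_finite K (Set.finite_range v)
  haveI : FiniteDimensional K A := inferInstanceAs (FiniteDimensional K S)
  haveI : Algebra.IsAlgebraic K A := Algebra.IsAlgebraic.of_finite K A
  have hA : IsField A := isField_of_isIntegral_of_isField' (Field.toIsField K)
  have hpoly : ∀ p : Polynomial E, algebraMap (Polynomial E) Ω p ∈ A := by
    intro p
    induction p using Polynomial.induction_on with
    | C a => exact hE a
    | add p q hp hq => rw [map_add]; exact add_mem hp hq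
    | monomial n a h =>
      rw [pow_succ, ← mul_assoc, map_mul]
      refine mul_mem h ?_
      show T ∈ A
      rw [← hT, IsScalarTower.algebraMap_apply _ K Ω]
      exact A.algebraMap_mem _
  have htop : ∀ z : Ω, z ∈ A := by
    intro z
    obtain ⟨a, b, hb, rfl⟩ := IsFractionRing.div_surjective (Polynomial E) z
    have hb0 : (⟨_, hpoly b⟩ : A) ≠ 0 := fun h =>
      nonZeroDivisors.ne_zero hb (IsFractionRing.injective (Polynomial E) Ω ((congrArg Subtype.val h).trans (map_zero _).symm))
    obtain ⟨c, hc⟩ := hA.mul_inv_cancel hb0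
    have : (algebraMap (Polynomial E) Ω b)⁻¹ = c := inv_eq_of_mul_eq_one_right (congrArg Subtype.val hc)
    rw [div_eq_mul_inv, this]
    exact mul_mem (hpoly a) c.2
  exact ⟨_, e, Module.Basis.mk hli (fun z _ => htop z), bE.linearIndependent, fun j => Module.Basis.mk_apply hli _ j⟩

end FractionField

end Groth.Agent.CommAlg4.Cone
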