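import Mathlib
import Groth.Agent.CommAlg4.ConeBlowdown
import Groth.Agent.CAlgMisc2.LocalFinite
import Groth.Agent.CommAlg6.CompletedKaehlerRank
import Groth.Agent.CAlgH.AdicSmoothField
import Groth.Agent.CAlgH.AdicSmoothModel
import Groth.Agent.CAlgH.PowerSeriesComplete
import Groth.Agent.DimLib.Algebra
import Groth.Agent.S17758

/-!
The hyperplane at infinity of a finite cone cover: two closed pieces of `V(X₀)` in a finite extension domain `B` of
`k[X₀, …, X_d]` inside `E(T)` that meet only over the origin, and both reach the origin, cannot cover `V(X₀)` (`2 ≤ d`).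
-/

set_option autoImplicit false
set_option linter.all false

universe u

open Polynomial TensorProduct

namespace Groth.Agent.CommAlg4.Cone

variable {k : Type u} [Field k] {d : ℕ} {E : Type u} [Field E] [Algebra k E] (x : Fin d → E)
  {Ω : Type u} [Field Ω] [Algebra (Polynomial E) Ω] [IsFractionRing (Polynomial E) Ω]
  [Algebra (MvPolynomial (Fin (d + 1)) k) Ω]
  (hΩ : ∀ p : MvPolynomial (Fin (d + 1)) k, algebraMap (MvPolynomial (Fin (d + 1)) k) Ω p = algebraMap (Polynomial E) Ω (phi x p))
  (hx : AlgebraicIndependent k x) [FiniteDimensional (IntermediateField.adjoin k (Set.range x)) E]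
  {B : Type u} [CommRing B] [IsDomain B] [Algebra (MvPolynomial (Fin (d + 1)) k) B]
  [Module.Finite (MvPolynomial (Fin (d + 1)) k) B]
  [Algebra B Ω] [IsScalarTower (MvPolynomial (Fin (d + 1)) k) B Ω] (hB : Function.Injective (algebraMap B Ω))

local notation "P" => MvPolynomial (Fin (d + 1)) k
local notation "Pc" => MvPowerSeries (Fin (d + 1)) k

omit [FiniteDimensional (IntermediateField.adjoin k (Set.range x)) E] in
theorem flat_powerSeries : Module.Flat P Pc :=
  haveI : Module.Flat P (AdicCompletion (MvPolynomial.idealOfVars (Fin (d + 1)) k) P) := AdicCompletion.flat_of_isNoetherian _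
  Module.Flat.of_linearEquiv (MvPowerSeries.toAdicCompletionAlgEquiv (Fin (d + 1)) k).toLinearEquiv

include hΩ hx hB in
/-- The completed cone cover is a domain containing `k[[X]]`. -/
theorem isDomain_completion :
    IsDomain (Pc ⊗[P] B) ∧ Function.Injective (algebraMap Pc (Pc ⊗[P] B)) := by
  classical
  let K := FractionRing P
  letI : Algebra K Ω := (IsFractionRing.lift (K := K) (faithful x hΩ hx)).toAlgebra
  haveI : IsScalarTower P K Ω :=
    IsScalarTower.of_algebraMap_eq fun p => (IsFractionRing.lift_algebraMap (faithful x hΩ hx) p).symm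
  obtain ⟨r, e, b, he, hb⟩ := exists_basis x hΩ hx (K := K)
  have hι : Function.Injective ((HahnSeries.ofPowerSeries ℤ E).comp (Polynomial.coeToPowerSeries.ringHom (R := E))) :=
    HahnSeries.ofPowerSeries_injective.comp (Polynomial.coe_injective E)
  let ι : Ω →+* LaurentSeries E := IsFractionRing.lift (K := Ω) hι
  have hιm : ∀ p : Polynomial E, ι (algebraMap _ Ω p) = HahnSeries.ofPowerSeries ℤ E (p : PowerSeries E) :=
    fun p => IsFractionRing.lift_algebraMap hι p
  letI algP : Algebra P (LaurentSeries E) := (ι.comp (algebraMap P Ω)).toAlgebra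
  have halg : ∀ p : P, algebraMap P (LaurentSeries E) p = HahnSeries.ofPowerSeries ℤ E (gam x (p : Pc)) := fun p => by
    show ι (algebraMap P Ω p) = _
    rw [hΩ, hιm, coe_phi]
  let fc : Pc →ₐ[P] LaurentSeries E :=
    { (HahnSeries.ofPowerSeries ℤ E).comp (gam x).toRingHom with commutes' := fun p => (halg p).symm }
  let fb : B →ₐ[P] LaurentSeries E :=
    { ι.comp (algebraMap B Ω) with commutes' := fun p => congrArg ι (IsScalarTower.algebraMap_apply P B Ω p).symm }
  let Ψ : Pc ⊗[P] B →ₐ[P] LaurentSeries E := Algebra.TensorProduct.lift fc fb fun _ _ => Commute.all _ _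
  obtain ⟨G, hG⟩ := Module.Finite.fg_top (R := P) (M := B)
  obtain ⟨s, hs⟩ := IsLocalization.exist_integer_multiples (nonZeroDivisors P) (G ×ˢ (Finset.univ : Finset (Fin r)))
    (fun gj => b.repr (algebraMap B Ω gj.1) gj.2)
  let g : B →ₗ[P] (Fin r → K) :=
    (s : P) • ((b.equivFun.toLinearMap.restrictScalars P) ∘ₗ (IsScalarTower.toAlgHom P B Ω).toLinearMap)
  have hg : ∀ a j, g a j = (s : P) • b.repr (algebraMap B Ω a) j := fun a j => rfl
  let inc : (Fin r → P) →ₗ[P] (Fin r → K) := LinearMap.compLeft (Algebra.linearMap P K) (Fin r)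
  have hinc : Function.Injective inc := fun u v huv => funext fun j => IsFractionRing.injective P K (congrFun huv j)
  have hrange : ∀ a, g a ∈ LinearMap.range inc := by
    intro a
    have ha : a ∈ Submodule.span P (G : Set B) := by rw [hG]; trivial
    induction ha using Submodule.span_induction with
    | mem a ha =>
      choose c hc using fun j => hs (a, j) (Finset.mem_product.2 ⟨ha, Finset.mem_univ j⟩)
      exact ⟨c, funext fun j => by rw [hg]; exact hc j⟩
    | zero => rw [map_zero]; exact zero_mem _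
    | add u v _ _ hu hv => rw [map_add]; exact add_mem hu hv
    | smul c u _ hu => rw [map_smul]; exact Submodule.smul_mem _ c hu
  let β : B →ₗ[P] (Fin r → P) := (LinearEquiv.ofInjective inc hinc).symm.toLinearMap ∘ₗ g.codRestrict _ hrange
  have hβ : ∀ a, inc (β a) = g a := fun a =>
    congrArg Subtype.val ((LinearEquiv.ofInjective inc hinc).apply_symm_apply (g.codRestrict _ hrange a))
  have hβinj : Function.Injective β := (injective_iff_map_eq_zero β).2 fun a ha => by
    have h1 : g a = 0 := by rw [← hβ, ha, map_zero]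
    refine hB (Eq.trans ?_ (map_zero _).symm)
    refine b.repr.injective (Eq.trans ?_ (map_zero _).symm)
    ext j
    have h2 := congrFun h1 j
    rw [hg, Pi.zero_apply, Algebra.smul_def, mul_eq_zero] at h2
    exact h2.resolve_left fun h => nonZeroDivisors.ne_zero s.2 (IsFractionRing.injective P K (h.trans (map_zero _).symm))
  haveI := flat_powerSeries (k := k) (d := d)
  let co : Pc ⊗[P] B →ₗ[P] (Fin r → Pc) :=
    ((TensorProduct.piScalarRight P Pc Pc (Fin r)).toLinearMap.restrictScalars P) ∘ₗ β.lTensor Pc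
  have hco : Function.Injective co :=
    (TensorProduct.piScalarRight P Pc Pc (Fin r)).injective.comp (Module.Flat.lTensor_preserves_injective_linearMap β hβinj)
  have hcot : ∀ (c : Pc) (a : B) (j : Fin r), co (c ⊗ₜ[P] a) j = β a j • c := fun c a j => by
    simp [co]
  have hkey : ∀ z, HahnSeries.ofPowerSeries ℤ E (gam x ((s : P) : Pc)) * Ψ z =
      HahnSeries.ofPowerSeries ℤ E (∑ j, gam x (co z j) * PowerSeries.C (e j)) := by
    intro z
    induction z using TensorProduct.induction_on with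
    | zero => simp
    | add u v hu hv =>
      rw [map_add Ψ, mul_add, hu, hv, ← map_add, ← Finset.sum_add_distrib]
      congr 1
      exact Finset.sum_congr rfl fun j _ => by rw [map_add co, Pi.add_apply, map_add, add_mul]
    | tmul c a =>
      rw [Algebra.TensorProduct.lift_tmul]
      show _ * (HahnSeries.ofPowerSeries ℤ E (gam x c) * ι (algebraMap B Ω a)) = _
      have hexp : algebraMap P Ω (s : P) * algebraMap B Ω a = ∑ j, algebraMap P Ω (β a j) * b j := by
        conv_lhs => rw [← b.sum_repr (algebraMap B Ω a), Finset.mul_sum]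
        refine Finset.sum_congr rfl fun j _ => ?_
        have h1 : algebraMap P K (β a j) = (s : P) • b.repr (algebraMap B Ω a) j := congrFun (hβ a) j
        rw [IsScalarTower.algebraMap_apply P K Ω (β a j), h1, Algebra.smul_def, Algebra.smul_def, map_mul,
          ← IsScalarTower.algebraMap_apply, mul_assoc]
      have h2 := congrArg ι hexp
      rw [map_mul, map_sum, hΩ, hιm, coe_phi] at h2
      rw [mul_left_comm, h2, Finset.mul_sum, map_sum]
      refine Finset.sum_congr rfl fun j _ => ?_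
      rw [map_mul ι, hb, hΩ, hιm, hιm, coe_phi, Polynomial.coe_C, hcot, Algebra.smul_def,
        map_mul (gam x), mul_comm (gam x _) (gam x c), map_mul, map_mul, ← mul_assoc]
      rfl
  have hΨ : Function.Injective Ψ := (injective_iff_map_eq_zero Ψ).2 fun z hz => by
    have h := hkey z
    rw [hz, mul_zero] at h
    have h0 := HahnSeries.ofPowerSeries_injective (h.symm.trans (map_zero _).symm)
    exact hco ((funext fun j => gam_linearIndependent x hx e he (co z) h0 j).trans (map_zero co).symm)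
  refine ⟨hΨ.isDomain Ψ, fun u v huv => gam_injective x hx (HahnSeries.ofPowerSeries_injective (Γ := ℤ) ?_)⟩
  have := congrArg Ψ huv
  simpa [Algebra.TensorProduct.algebraMap_apply, Ψ, fc] using this

include hΩ hx hB in
/-- Two closed pieces of `V(X₀)` meeting only over the origin, both reaching the origin, do not cover it. -/
theorem not_disjoint_pieces (hd : 2 ≤ d) (Z₁ Z₂ : Set (PrimeSpectrum B)) (hZ₁ : IsClosed Z₁) (hZ₂ : IsClosed Z₂)
    (hle : ∀ q ∈ Z₁ ∪ Z₂, algebraMap P B (MvPolynomial.X 0) ∈ q.asIdeal)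
    (hcover : ∀ q : PrimeSpectrum B, algebraMap P B (MvPolynomial.X 0) ∈ q.asIdeal →
      q ∈ Z₁ ∪ Z₂ ∨ ∀ i, algebraMap P B (MvPolynomial.X i) ∈ q.asIdeal)
    (hdisj : ∀ q ∈ Z₁ ∩ Z₂, ∀ i, algebraMap P B (MvPolynomial.X i) ∈ q.asIdeal)
    (hne₁ : ∃ q ∈ Z₁, (∃ i, algebraMap P B (MvPolynomial.X i) ∉ q.asIdeal) ∧
      ∃ m : PrimeSpectrum B, q.asIdeal ≤ m.asIdeal ∧ ∀ i, algebraMap P B (MvPolynomial.X i) ∈ m.asIdeal)
    (hne₂ : ∃ q ∈ Z₂, (∃ i, algebraMap P B (MvPolynomial.X i) ∉ q.asIdeal) ∧
      ∃ m : PrimeSpectrum B, q.asIdeal ≤ m.asIdeal ∧ ∀ i, algebraMap P B (MvPolynomial.X i) ∈ m.asIdeal) : False := by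
  classical
  obtain ⟨hdom, hinj⟩ := isDomain_completion x hΩ hx hB
  haveI := hdom
  let R := Pc ⊗[P] B
  haveI : IsAdicComplete (IsLocalRing.maximalIdeal Pc) Pc := CAlgH.isAdicComplete_maximalIdeal_mvPowerSeries
  haveI : IsLocalRing R := CAlgMisc2.isLocalRing_of_finite_domain_complete (A := Pc)
  haveI : IsAdicComplete (IsLocalRing.maximalIdeal R) R := CAlgMisc2.isAdicComplete_maximalIdeal_of_finite (A := Pc)
  haveI : IsNoetherianRing R := IsNoetherianRing.of_finite Pc R
  haveI : FaithfulSMul Pc R := (faithfulSMul_iff_algebraMap_injective Pc R).2 hinj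
  haveI : Algebra.IsIntegral Pc R := Algebra.IsIntegral.of_finite Pc R
  have hdim : ringKrullDim R = ((d + 1 : ℕ) : WithBot ℕ∞) := by
    rw [← DimLib.ringKrullDim_eq_of_isIntegral (R := Pc) (S := R) hinj]
    exact le_antisymm (CommAlg6.ringKrullDim_mvPowerSeries_field k (d + 1)) (CAlgH.AdicSmooth.le_ringKrullDim_mvPowerSeries k (d + 1))
  let f : B →+* R := (Algebra.TensorProduct.includeRight : B →ₐ[P] R).toRingHom
  letI algB : Algebra B R := f.toAlgebra
  haveI : Module.Flat B R := by
    haveI := flat_powerSeries (k := k) (d := d)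
    let eB : B ⊗[P] Pc ≃ₗ[B] R :=
      { (Algebra.TensorProduct.comm P B Pc).toAddEquiv with
        map_smul' := fun a z => by
          show Algebra.TensorProduct.comm P B Pc (a • z) = f a * Algebra.TensorProduct.comm P B Pc z
          induction z using TensorProduct.induction_on with
          | zero => simp
          | add u v hu hv => rw [smul_add, map_add, map_add, hu, hv, mul_add]
          | tmul b c =>
            rw [TensorProduct.smul_tmul', Algebra.TensorProduct.comm_tmul, Algebra.TensorProduct.comm_tmul, smul_eq_mul]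
            show c ⊗ₜ[P] (a * b) = (1 : Pc) ⊗ₜ[P] a * c ⊗ₜ[P] b
            rw [Algebra.TensorProduct.tmul_mul_tmul, one_mul] }
    exact Module.Flat.of_linearEquiv eB.symm
  let t : R := f (algebraMap P B (MvPolynomial.X 0))
  have hfX : ∀ i, f (algebraMap P B (MvPolynomial.X i)) = algebraMap Pc R (MvPowerSeries.X i) := fun i => by
    show (Algebra.TensorProduct.includeRight : B →ₐ[P] R) (algebraMap P B (MvPolynomial.X i)) = _
    rw [AlgHom.commutes, IsScalarTower.algebraMap_apply P Pc R]
    congr 1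
    exact MvPolynomial.coe_X (R := k) i
  have hker : RingHom.ker (MvPowerSeries.constantCoeff (σ := Fin (d + 1)) (R := k)) ≤
      Ideal.span (Set.range (MvPowerSeries.X : Fin (d + 1) → Pc)) := by
    intro z hz
    rw [← CAlgH.AdicSmooth.ker_constantCoeff k (d + 1)]
    exact hz
  have hmax : ∀ Q : PrimeSpectrum R, (∀ i, f (algebraMap P B (MvPolynomial.X i)) ∈ Q.asIdeal) →
      Q.asIdeal = IsLocalRing.maximalIdeal R := by
    intro Q hQ
    haveI := Q.isPrime
    have hmP : (RingHom.ker (MvPowerSeries.constantCoeff (σ := Fin (d + 1)) (R := k))).IsMaximal :=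
      RingHom.ker_isMaximal_of_surjective _ fun a => ⟨MvPowerSeries.C a, MvPowerSeries.constantCoeff_C a⟩
    have h1 : Q.asIdeal.comap (algebraMap Pc R) = RingHom.ker (MvPowerSeries.constantCoeff (σ := Fin (d + 1)) (R := k)) := by
      refine (hmP.eq_of_le (Ideal.IsPrime.comap _).ne_top (hker.trans (Ideal.span_le.2 ?_))).symm
      rintro _ ⟨i, rfl⟩
      show algebraMap Pc R (MvPowerSeries.X i) ∈ Q.asIdeal
      rw [← hfX]; exact hQ i
    exact IsLocalRing.eq_maximalIdeal (Ideal.isMaximal_of_isIntegral_of_isMaximal_comap Q.asIdeal (by rw [h1]; exact hmP))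
  have hpiece : ∀ Z : Set (PrimeSpectrum B), (∃ q ∈ Z, (∃ i, algebraMap P B (MvPolynomial.X i) ∉ q.asIdeal) ∧
      ∃ m : PrimeSpectrum B, q.asIdeal ≤ m.asIdeal ∧ ∀ i, algebraMap P B (MvPolynomial.X i) ∈ m.asIdeal) →
      ∃ Q : PrimeSpectrum R, PrimeSpectrum.comap f Q ∈ Z ∧ Q.asIdeal ≠ IsLocalRing.maximalIdeal R := by
    rintro Z ⟨q, hqZ, ⟨i, hi⟩, m, hqm, hm⟩
    haveI := m.isPrime
    haveI := q.isPrime
    let φ₀ : P →+* B ⧸ m.asIdeal := (Ideal.Quotient.mk m.asIdeal).comp (algebraMap P B)
    let φc : Pc →+* B ⧸ m.asIdeal := (φ₀.comp (MvPolynomial.C : k →+* P)).comp MvPowerSeries.constantCoeff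
    have hφc : ∀ p : P, φc (p : Pc) = φ₀ p := by
      intro p
      induction p using MvPolynomial.induction_on with
      | C a => simp [φc]
      | add p q hp hq => rw [MvPolynomial.coe_add, map_add, map_add, hp, hq]
      | mul_X p i hp =>
        rw [MvPolynomial.coe_mul, map_mul, map_mul, hp, MvPolynomial.coe_X]
        have hz : φ₀ (MvPolynomial.X i) = 0 := Ideal.Quotient.eq_zero_iff_mem.2 (hm i)
        have hz' : φc (MvPowerSeries.X i) = 0 := by simp [φc]
        rw [hz, hz']
    let ac : Pc →ₐ[P] B ⧸ m.asIdeal := { φc with commutes' := fun p => hφc p }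
    let ab : B →ₐ[P] B ⧸ m.asIdeal := { Ideal.Quotient.mk m.asIdeal with commutes' := fun p => rfl }
    let lft : R →ₐ[P] B ⧸ m.asIdeal := Algebra.TensorProduct.lift ac ab fun _ _ => Commute.all _ _
    let M : Ideal R := RingHom.ker lft.toRingHom
    haveI : M.IsPrime := RingHom.ker_isPrime _
    haveI : M.LiesOver m.asIdeal := ⟨by
      ext a
      show _ ↔ lft (f a) = 0
      rw [show lft (f a) = Ideal.Quotient.mk m.asIdeal a from (Algebra.TensorProduct.lift_tmul ac ab (fun _ _ => Commute.all _ _) (1 : Pc) a).trans (by rw [map_one, one_mul]; rfl), Ideal.Quotient.eq_zero_iff_mem]⟩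
    obtain ⟨Q, hQM, hQp, hQq⟩ := Ideal.exists_ideal_le_liesOver_of_le (p := q.asIdeal) (q := m.asIdeal) M hqm
    have hqQ : PrimeSpectrum.comap f ⟨Q, hQp⟩ = q := PrimeSpectrum.ext hQq.over.symm
    refine ⟨⟨Q, hQp⟩, hqQ.symm ▸ hqZ, fun h => hi ?_⟩
    rw [← hqQ]
    show f _ ∈ Q
    rw [show Q = IsLocalRing.maximalIdeal R from h]
    exact IsLocalRing.le_maximalIdeal (Ideal.IsPrime.ne_top (I := M) inferInstance) ((Ideal.mem_of_liesOver M m.asIdeal _).1 (hm i))
  obtain ⟨Q₁, hQ₁, hQ₁'⟩ := hpiece Z₁ hne₁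
  obtain ⟨Q₂, hQ₂, hQ₂'⟩ := hpiece Z₂ hne₂
  have htop : Ideal.span {t} ≠ ⊤ := fun h => Q₁.isPrime.ne_top (top_le_iff.1 (h ▸ (Ideal.span_singleton_le_iff_mem _).2
    (hle _ (Or.inl hQ₁) : t ∈ Q₁.asIdeal)))
  have hconn := Groth.Agent.S17758.result R (d + 1) hdim 1 (by omega) ![t] (Ideal.span {t}) htop (by simp)
  obtain ⟨Q, ⟨hQt, hQne⟩, hQZ⟩ := isPreconnected_closed_iff.1 hconn.isPreconnected (PrimeSpectrum.comap f ⁻¹' Z₁) (PrimeSpectrum.comap f ⁻¹' Z₂)
    (hZ₁.preimage (PrimeSpectrum.continuous_comap f)) (hZ₂.preimage (PrimeSpectrum.continuous_comap f))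
    (fun Q hQ => (hcover (PrimeSpectrum.comap f Q) (hQ.1 (Ideal.mem_span_singleton_self t))).resolve_right
      fun h => hQ.2 (hmax Q h))
    ⟨Q₁, ⟨(Ideal.span_singleton_le_iff_mem _).2 (hle _ (Or.inl hQ₁)), hQ₁'⟩, hQ₁⟩
    ⟨Q₂, ⟨(Ideal.span_singleton_le_iff_mem _).2 (hle _ (Or.inr hQ₂)), hQ₂'⟩, hQ₂⟩
  exact hQne (hmax Q fun i => hdisj _ hQZ i)

end Groth.Agent.CommAlg4.Cone
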