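import Mathlib
import Groth.Agent.CommAlg4.ConePunctured
import Groth.Agent.CAlgSmall.NormNagata
import Groth.Agent.NormalizationLib.Finite

/-!
The normalised cone cover `B = integral closure of k[X₀, …, X_d]` in `E(T)`: finiteness, the inclusion of integral elements
after inverting `T`, and the scaling maps `B → V[S]` into polynomial rings over valuation rings of `E`.
-/

set_option autoImplicit false
set_option linter.all false

universe u

open Polynomial

namespace Groth.Agent.CommAlg4.Cone

variable {k : Type u} [Field k] {d : ℕ} {E : Type u} [Field E] [Algebra k E] (x : Fin d → E)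
  {Ω : Type u} [Field Ω] [Algebra (Polynomial E) Ω] [IsFractionRing (Polynomial E) Ω]
  [Algebra (MvPolynomial (Fin (d + 1)) k) Ω]
  (hΩ : ∀ p : MvPolynomial (Fin (d + 1)) k, algebraMap (MvPolynomial (Fin (d + 1)) k) Ω p = algebraMap (Polynomial E) Ω (phi x p))

local notation "P" => MvPolynomial (Fin (d + 1)) k
local notation "B" => integralClosure (MvPolynomial (Fin (d + 1)) k) Ω

/-- Constants of `E(T)`. -/
noncomputable def cst (Ω : Type u) [Field Ω] [Algebra (Polynomial E) Ω] : E →+* Ω :=
  (algebraMap (Polynomial E) Ω).comp Polynomial.C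

include hΩ in
theorem normal_cover (hx : AlgebraicIndependent k x) [FiniteDimensional (IntermediateField.adjoin k (Set.range x)) E] :
    Module.Finite P B ∧ IsIntegrallyClosed B ∧ IsNoetherianRing B := by
  let K := FractionRing P
  letI : Algebra K Ω := (IsFractionRing.lift (K := K) (faithful x hΩ hx)).toAlgebra
  haveI : IsScalarTower P K Ω :=
    IsScalarTower.of_algebraMap_eq fun p => (IsFractionRing.lift_algebraMap (faithful x hΩ hx) p).symm
  obtain ⟨r, e, b, -, -⟩ := exists_basis x hΩ hx (K := K)
  haveI : FiniteDimensional K Ω := Module.Finite.of_basis b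
  haveI : IsIntegrallyClosed B := integralClosure.isIntegrallyClosedOfFiniteExtension K
  have hN := Groth.Agent.CAlgH.isNagata_of_finiteType (NormalizationLib.isNagata_field k) P
  have hN2 : CAlg.IsN2 P := Groth.Agent.CAlgH.isN2_of_ringEquiv (RingEquiv.quotientBot P) (hN.2 ⊥)
  have hfin : Module.Finite P B := hN2 Ω inferInstance
  exact ⟨hfin, inferInstance, IsNoetherianRing.of_finite P B⟩

include hΩ in
/-- Elements integral over `k[x]` become elements of `B` after inverting `T`. -/
theorem exists_mul_cst_mem (hx : AlgebraicIndependent k x) (a : E) (ha : _root_.IsIntegral (Algebra.adjoin k (Set.range x)) a) :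
    ∃ N : ℕ, algebraMap P Ω (MvPolynomial.X 0) ^ N * cst Ω a ∈ integralClosure P Ω := by
  have hT : algebraMap P Ω (MvPolynomial.X 0) ≠ 0 := by
    rw [hΩ, phi_zero]
    exact fun h => Polynomial.X_ne_zero (IsFractionRing.injective (Polynomial E) Ω (h.trans (map_zero _).symm))
  let Pt := Localization.Away (MvPolynomial.X 0 : P)
  have hu : IsUnit (algebraMap P Ω (MvPolynomial.X 0)) := isUnit_iff_ne_zero.2 hT
  letI : Algebra Pt Ω := (IsLocalization.Away.lift (MvPolynomial.X 0 : P) hu).toAlgebra
  haveI : IsScalarTower P Pt Ω :=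
    IsScalarTower.of_algebraMap_eq fun p => (IsLocalization.Away.lift_eq (MvPolynomial.X 0 : P) hu p).symm
  have hmem : ∀ y ∈ Algebra.adjoin k (Set.range x), cst Ω y ∈ (algebraMap Pt Ω).range := by
    intro y hy
    induction hy using Algebra.adjoin_induction with
    | mem y hy =>
      obtain ⟨i, rfl⟩ := hy
      refine ⟨algebraMap P Pt (MvPolynomial.X i.succ) * IsLocalization.Away.invSelf (MvPolynomial.X 0 : P), ?_⟩
      refine mul_right_cancel₀ hT ?_
      rw [map_mul, mul_assoc, ← IsScalarTower.algebraMap_apply]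
      rw [IsScalarTower.algebraMap_apply P Pt Ω (MvPolynomial.X 0), ← map_mul, mul_comm (IsLocalization.Away.invSelf _),
        IsLocalization.Away.mul_invSelf, map_one, mul_one, ← IsScalarTower.algebraMap_apply, hΩ, hΩ, phi_zero, phi_succ, map_mul]
      rfl
    | algebraMap c =>
      refine ⟨algebraMap P Pt (MvPolynomial.C c), ?_⟩
      rw [← IsScalarTower.algebraMap_apply, hΩ]
      simp [phi, cst, IsScalarTower.algebraMap_apply k E (Polynomial E)]
    | add u v _ _ hu hv => rw [map_add]; exact add_mem hu hv
    | mul u v _ _ hu hv => rw [map_mul]; exact mul_mem hu hv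
  have hint : _root_.IsIntegral Pt (cst Ω a) := by
    obtain ⟨q, hq, hq0⟩ := ha
    have hlift : q.map ((cst Ω).comp (algebraMap (Algebra.adjoin k (Set.range x)) E)) ∈ Polynomial.lifts (algebraMap Pt Ω) := by
      rw [Polynomial.lifts_iff_coeff_lifts]
      intro n
      rw [Polynomial.coeff_map]
      exact hmem _ (q.coeff n).2
    obtain ⟨q', hq', -, hmon⟩ := Polynomial.lifts_and_natDegree_eq_and_monic hlift (hq.map _)
    refine ⟨q', hmon, ?_⟩
    rw [← Polynomial.eval_map, hq', Polynomial.eval_map, ← Polynomial.hom_eval₂, hq0, map_zero]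
  obtain ⟨⟨m, N, rfl⟩, hm⟩ := IsIntegral.exists_multiple_integral_of_isLocalization (R := P)
    (Submonoid.powers (MvPolynomial.X 0 : P)) (cst Ω a) hint
  exact ⟨N, by rw [← map_pow, ← Algebra.smul_def]; exact hm⟩

include hΩ in
/-- For a valuation ring `V` of `E` and a largest element `c` among `1, x₁, …, x_d`, scaling `T ↦ S / c` maps `B` into `V[S]`. -/
theorem exists_scale (V : ValuationSubring E) (hk : ∀ c : k, algebraMap k E c ∈ V) (c : E) (hc : c ≠ 0) (hc1 : c⁻¹ ∈ V)
    (hcx : ∀ i, x i / c ∈ V) :
    ∃ (σ : Ω →+* Ω) (ψ : B →+* Polynomial V), (∀ a : E, σ (cst Ω a) = cst Ω a) ∧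
      (∀ b : B, algebraMap (Polynomial E) Ω ((ψ b).map V.subtype) = σ b.1) ∧
      (ψ (algebraMap P B (MvPolynomial.X 0))).map V.subtype = Polynomial.C c⁻¹ * Polynomial.X ∧
      ∀ i : Fin d, (ψ (algebraMap P B (MvPolynomial.X i.succ))).map V.subtype = Polynomial.C (x i / c) * Polynomial.X := by
  let s : Polynomial E →ₐ[E] Polynomial E := Polynomial.aeval (Polynomial.C c⁻¹ * Polynomial.X)
  let s' : Polynomial E →ₐ[E] Polynomial E := Polynomial.aeval (Polynomial.C c * Polynomial.X)
  have hs' : ∀ p, s' (s p) = p := by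
    intro p
    have : s'.comp s = AlgHom.id E _ := Polynomial.algHom_ext (by rw [AlgHom.comp_apply, Polynomial.aeval_X, map_mul, Polynomial.aeval_C, Polynomial.algebraMap_eq, Polynomial.aeval_X, ← mul_assoc, ← map_mul, inv_mul_cancel₀ hc, map_one, one_mul]; rfl)
    exact AlgHom.congr_fun this p
  have hsinj : Function.Injective ((algebraMap (Polynomial E) Ω).comp s.toRingHom) :=
    (IsFractionRing.injective (Polynomial E) Ω).comp (Function.LeftInverse.injective hs')
  let σ : Ω →+* Ω := IsFractionRing.lift (K := Ω) hsinj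
  have hσ : ∀ p, σ (algebraMap (Polynomial E) Ω p) = algebraMap (Polynomial E) Ω (s p) :=
    fun p => IsFractionRing.lift_algebraMap hsinj p
  let incl : Polynomial V →+* Polynomial E := Polynomial.mapRingHom V.subtype
  have hincl : Function.Injective incl := Polynomial.map_injective _ Subtype.val_injective
  have hP : ∀ p : P, s (phi x p) ∈ incl.range := by
    intro p
    induction p using MvPolynomial.induction_on with
    | C a =>
      refine ⟨Polynomial.C ⟨_, hk a⟩, ?_⟩
      show Polynomial.map _ _ = _
      rw [Polynomial.map_C]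
      simp [phi, IsScalarTower.algebraMap_apply k E (Polynomial E), s]
    | add p q hp hq => rw [map_add, map_add]; exact add_mem hp hq
    | mul_X p i hp =>
      rw [map_mul, map_mul]
      refine mul_mem hp ?_
      induction i using Fin.cases with
      | zero =>
        refine ⟨Polynomial.C ⟨_, hc1⟩ * Polynomial.X, ?_⟩
        show Polynomial.map _ _ = _
        rw [Polynomial.map_mul, Polynomial.map_C, Polynomial.map_X, phi_zero]
        simp [s]
      | succ i =>
        refine ⟨Polynomial.C ⟨_, hcx i⟩ * Polynomial.X, ?_⟩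
        show Polynomial.map _ _ = _
        rw [Polynomial.map_mul, Polynomial.map_C, Polynomial.map_X, phi_succ, map_mul]
        simp [s, div_eq_mul_inv, mul_assoc]
  have hsmem : ∀ b : B, σ b.1 ∈ ((algebraMap (Polynomial E) Ω).comp incl).range := by
    intro b
    letI : Algebra (Polynomial V) Ω := ((algebraMap (Polynomial E) Ω).comp incl).toAlgebra
    letI : Algebra (Polynomial V) (Polynomial E) := incl.toAlgebra
    haveI : IsScalarTower (Polynomial V) (Polynomial E) Ω := IsScalarTower.of_algebraMap_eq fun _ => rfl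
    choose g hg using hP
    have hint : _root_.IsIntegral (Polynomial V) (σ b.1) := by
      obtain ⟨q, hq, hq0⟩ := b.2
      have hlift : q.map (σ.comp (algebraMap P Ω)) ∈ Polynomial.lifts (algebraMap (Polynomial V) Ω) := by
        rw [Polynomial.lifts_iff_coeff_lifts]
        intro n
        refine ⟨g (q.coeff n), ?_⟩
        rw [Polynomial.coeff_map]
        show algebraMap (Polynomial E) Ω (incl (g _)) = σ (algebraMap P Ω _)
        rw [hg, hΩ, hσ]
      obtain ⟨q', hq', -, hmon⟩ := Polynomial.lifts_and_natDegree_eq_and_monic hlift (hq.map _)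
      refine ⟨q', hmon, ?_⟩
      rw [← Polynomial.eval_map, hq', Polynomial.eval_map, ← Polynomial.hom_eval₂, hq0, map_zero]
    obtain ⟨p, hp⟩ := IsIntegrallyClosed.isIntegral_iff.1 (hint.tower_top (A := Polynomial E))
    rw [← hp, isIntegral_algebraMap_iff (IsFractionRing.injective (Polynomial E) Ω)] at hint
    have hpV : p ∈ Polynomial.lifts V.subtype := by
      rw [Polynomial.lifts_iff_coeff_lifts]
      intro n
      exact IsIntegrallyClosed.isIntegral_iff.1 (IsIntegral.coeff (R := V) (S := E) hint n)
    obtain ⟨p', hp'⟩ := hpV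
    exact ⟨p', by rw [← hp]; exact congrArg _ hp'⟩
  choose ψ hψ using fun b => hsmem b
  have hinj := (IsFractionRing.injective (Polynomial E) Ω).comp hincl
  let ψh : B →+* Polynomial V :=
    { toFun := ψ
      map_one' := hinj ((hψ 1).trans (by show σ 1 = ((algebraMap (Polynomial E) Ω).comp incl) 1; rw [map_one, map_one]))
      map_mul' := fun a b => hinj ((hψ (a * b)).trans (by
        show σ (a.1 * b.1) = ((algebraMap (Polynomial E) Ω).comp incl) (ψ a * ψ b)
        rw [map_mul, map_mul, hψ, hψ]))
      map_zero' := hinj ((hψ 0).trans (by show σ 0 = ((algebraMap (Polynomial E) Ω).comp incl) 0; rw [map_zero, map_zero]))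
      map_add' := fun a b => hinj ((hψ (a + b)).trans (by
        show σ (a.1 + b.1) = ((algebraMap (Polynomial E) Ω).comp incl) (ψ a + ψ b)
        rw [map_add, map_add, hψ, hψ])) }
  refine ⟨σ, ψh, fun a => (hσ _).trans (by simp [s, cst]), fun b => hψ b, ?_, fun i => ?_⟩
  · refine IsFractionRing.injective (Polynomial E) Ω ((hψ _).trans ?_)
    show σ (algebraMap P Ω _) = _
    rw [hΩ, hσ, phi_zero]
    simp [s]
  · refine IsFractionRing.injective (Polynomial E) Ω ((hψ _).trans ?_)
    show σ (algebraMap P Ω _) = _
    rw [hΩ, hσ, phi_succ]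
    simp [s, div_eq_mul_inv, mul_assoc]

end Groth.Agent.CommAlg4.Cone
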