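import Mathlib
import Groth.Prelude
import Groth.Agent.CommAlg4.ConeScale
import Groth.Agent.Coherent.BirationalFibre
import Groth.Agent.Coherent.Chow
import Groth.Agent.FEtFF.Generic

/-!
The closure `Γ` of the graph of a rational map from the punctured cone cover to a proper scheme: connected fibres, and the
boundary of the affine piece pulls back to the hyperplane at infinity.
-/

set_option autoImplicit false
set_option linter.all false

universe u

open CategoryTheory CategoryTheory.Limits AlgebraicGeometry TopologicalSpace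

namespace Groth.Agent.CommAlg4.Cone

theorem eq_zero_of_appTop_eq_zero {W' W : Scheme.{u}} (e : W' ⟶ W) [IsDominant e] [IsReduced W]
    (s : Γ(W, ⊤)) (hs : e.appTop s = 0) : s = 0 := by
  rw [← basicOpen_eq_bot_iff]
  by_contra hne
  obtain ⟨x, hx⟩ : (W.basicOpen s : Set W).Nonempty :=
    Set.nonempty_iff_ne_empty.2 fun h => hne (Opens.ext h)
  obtain ⟨_, ⟨y, rfl⟩, hy⟩ := mem_closure_iff.1 (e.denseRange x) _ (W.basicOpen s).2 hx |>.imp fun _ h => And.symm h
  have h2 : y ∈ e ⁻¹ᵁ W.basicOpen s := hy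
  rw [Scheme.preimage_basicOpen] at h2
  rw [show (e.app ⊤).hom s = 0 from hs, Scheme.basicOpen_zero] at h2
  exact h2

theorem isNormalScheme_spec (B : CommRingCat.{u}) [IsDomain B] [IsIntegrallyClosed B] : Pi1.IsNormalScheme (Spec B) := by
  intro p
  let q : PrimeSpectrum B := p
  letI : Algebra B ((Spec B).presheaf.stalk p) := StructureSheaf.stalkAlgebra B q
  haveI : IsLocalization.AtPrime ((Spec B).presheaf.stalk p) q.asIdeal := StructureSheaf.IsLocalization.to_stalk B q
  haveI : IsDomain ((Spec B).presheaf.stalk p) :=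
    IsLocalization.isDomain_of_le_nonZeroDivisors (M := q.asIdeal.primeCompl) _ q.asIdeal.primeCompl_le_nonZeroDivisors
  exact ⟨inferInstance, isIntegrallyClosed_of_isLocalization _ q.asIdeal.primeCompl q.asIdeal.primeCompl_le_nonZeroDivisors⟩

/-- Graph closure of `Spec Bt → Spec A → X` over an open `Q` of `Spec B` containing `Spec Bt = D(t)`. -/
theorem exists_graph {k : Type u} [Field k] {X : Scheme.{u}} (p : X ⟶ Spec (CommRingCat.of k)) [IsProper p] [IsIntegral X]
    {U : X.Opens} {A : CommRingCat.{u}} (fA : Spec A ⟶ X) (hfA : Set.range fA = (U : Set X)) [IsOpenImmersion fA]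
    (cA : CommRingCat.of k ⟶ A) (hcA : fA ≫ p = Spec.map cA)
    {B Bt : CommRingCat.{u}} [IsDomain B] [IsIntegrallyClosed B] [IsNoetherianRing B] [IsDomain Bt]
    (cB : CommRingCat.of k ⟶ B) (t : B) (ht : t ≠ 0) (loc : B ⟶ Bt) [IsOpenImmersion (Spec.map loc)]
    (hloc : Set.range (Spec.map loc) = {q : PrimeSpectrum B | t ∉ q.asIdeal})
    (h : A ⟶ Bt) (hh : cA ≫ h = cB ≫ loc)
    {ι : Type} (xs : ι → A) (Xs : ι → B) (hrel : ∀ i, h (xs i) * loc t = loc (Xs i))
    (Q : (Spec B).Opens) (hQ : ∀ q : PrimeSpectrum B, q ∈ Q ↔ (t ∉ q.asIdeal ∨ ∃ i, Xs i ∉ q.asIdeal)) :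
    ∃ (Γ : Scheme.{u}) (_ : IsIntegral Γ) (f₁ : Γ ⟶ X) (f₂ : Γ ⟶ (Q : Scheme.{u})),
      IsProper f₂ ∧ (∀ q, ConnectedSpace (f₂.fiber q)) ∧
      (∀ z, f₁ z ∈ U ↔ t ∉ (Q.ι (f₂ z) : PrimeSpectrum B).asIdeal) ∧
      ∀ (O L : CommRingCat.{u}) [IsDomain O] (a : Spec O ⟶ X) (b : Spec O ⟶ (Q : Scheme.{u})) (g : O ⟶ L) (g' : Bt ⟶ L),
        IsDominant (Spec.map g) → Spec.map g ≫ a = Spec.map g' ≫ Spec.map h ≫ fA →
        Spec.map g ≫ b ≫ Q.ι = Spec.map g' ≫ Spec.map loc →
        ∀ o : Spec O, ∃ z : Γ, f₁ z = a o ∧ f₂ z = b o := by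
  have hrange : Set.range (Spec.map loc) ⊆ Set.range Q.ι := by
    rw [Scheme.Opens.range_ι, hloc]
    exact fun q hq => (hQ q).2 (Or.inl hq)
  let j : Spec Bt ⟶ (Q : Scheme.{u}) := IsOpenImmersion.lift Q.ι (Spec.map loc) hrange
  have hj : j ≫ Q.ι = Spec.map loc := IsOpenImmersion.lift_fac _ _ _
  haveI : IsOpenImmersion (j ≫ Q.ι) := by rw [hj]; infer_instance
  haveI : IsOpenImmersion j := IsOpenImmersion.of_comp j Q.ι
  let π : (Q : Scheme.{u}) ⟶ Spec (CommRingCat.of k) := Q.ι ≫ Spec.map cB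
  have hcomm : (Spec.map h ≫ fA) ≫ p = j ≫ π := by
    simp only [π, reassoc_of% hj, Category.assoc, hcA, ← Spec.map_comp, hh]
  let γ : Spec Bt ⟶ pullback p π := pullback.lift (Spec.map h ≫ fA) j hcomm
  have hγ₂ : γ ≫ pullback.snd p π = j := pullback.lift_snd _ _ _
  haveI : IsImmersion (γ ≫ pullback.snd p π) := by rw [hγ₂]; infer_instance
  haveI : IsImmersion γ := IsImmersion.of_comp γ (pullback.snd p π)
  haveI : IsLocallyNoetherian (Q : Scheme.{u}) := inferInstance
  haveI : QuasiCompact (γ ≫ pullback.snd p π) := by rw [hγ₂]; infer_instance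
  haveI : QuasiCompact γ := QuasiCompact.of_comp γ (pullback.snd p π)
  haveI : IsOpenImmersion γ.toImage := inferInstance
  haveI : IsIntegral (Spec Bt) := inferInstance
  haveI : IsReduced γ.image := Coherent.isReduced_image γ
  haveI : IrreducibleSpace γ.image := by
    have h1 : IsIrreducible (closure (Set.range γ.toImage)) := by
      rw [← Set.image_univ]
      exact ((IrreducibleSpace.isIrreducible_univ (Spec Bt)).image _ γ.toImage.continuous.continuousOn).closure
    rw [γ.toImage.denseRange.closure_range] at h1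
    exact (irreducibleSpace_def _).2 h1
  haveI : IsIntegral γ.image := isIntegral_of_irreducibleSpace_of_isReduced _
  let f₁ : γ.image ⟶ X := γ.imageι ≫ pullback.fst p π
  let f₂ : γ.image ⟶ (Q : Scheme.{u}) := γ.imageι ≫ pullback.snd p π
  haveI : IsProper f₂ := inferInstance
  have hf₁ : γ.toImage ≫ f₁ = Spec.map h ≫ fA := by
    simp only [f₁, Scheme.Hom.toImage_imageι_assoc, γ, pullback.lift_fst]
  have hf₂ : γ.toImage ≫ f₂ = j := by
    simp only [f₂, Scheme.Hom.toImage_imageι_assoc, hγ₂]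
  haveI : Nonempty (Q : Scheme.{u}) := ⟨j (Classical.arbitrary _)⟩
  haveI : IsIntegral (Q : Scheme.{u}) := inferInstance
  have hgen₁ : γ.toImage (genericPoint (Spec Bt)) = genericPoint γ.image := genericPoint_eq_of_isOpenImmersion γ.toImage
  have hgen₂ : j (genericPoint (Spec Bt)) = genericPoint (Q : Scheme.{u}) := genericPoint_eq_of_isOpenImmersion j
  have hgen : f₂ (genericPoint γ.image) = genericPoint (Q : Scheme.{u}) := by
    rw [← hgen₁, ← Scheme.Hom.comp_apply, hf₂, hgen₂]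
  have hbir : IsIso (f₂.stalkMap (genericPoint γ.image)) := by
    rw [← hgen₁]
    haveI : IsOpenImmersion (γ.toImage ≫ f₂) := by rw [hf₂]; infer_instance
    haveI h3 : IsIso ((γ.toImage ≫ f₂).stalkMap (genericPoint (Spec Bt))) := inferInstance
    rw [Scheme.Hom.stalkMap_comp] at h3
    exact @IsIso.of_isIso_comp_right _ _ _ _ _ (f₂.stalkMap (γ.toImage (genericPoint (Spec Bt)))) (γ.toImage.stalkMap (genericPoint (Spec Bt))) inferInstance h3
  have hnorm : Pi1.IsNormalScheme (Q : Scheme.{u}) := FEtFF.isNormalScheme_open (isNormalScheme_spec B) Q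
  refine ⟨γ.image, inferInstance, f₁, f₂, inferInstance,
    fun q => Coherent.connectedSpace_fiber_of_birational f₂ hnorm hgen hbir q, fun z => ⟨?_, ?_⟩, ?_⟩
  · intro hzU hzt
    let W : γ.image.Opens := f₁ ⁻¹ᵁ U
    haveI : IsReduced (W : Scheme.{u}) := inferInstance
    have hWr : Set.range (W.ι ≫ f₁) ⊆ Set.range fA := by
      rintro _ ⟨w, rfl⟩; rw [hfA]; exact w.2
    let gA : (W : Scheme.{u}) ⟶ Spec A := IsOpenImmersion.lift fA (W.ι ≫ f₁) hWr
    let gB : (W : Scheme.{u}) ⟶ Spec B := W.ι ≫ f₂ ≫ Q.ι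
    have her : Set.range γ.toImage ⊆ Set.range W.ι := by
      rw [Scheme.Opens.range_ι]
      rintro _ ⟨y, rfl⟩
      show f₁ (γ.toImage y) ∈ U
      rw [← Scheme.Hom.comp_apply, hf₁, ← SetLike.mem_coe, ← hfA]
      exact ⟨Spec.map h y, rfl⟩
    let e : Spec Bt ⟶ (W : Scheme.{u}) := IsOpenImmersion.lift W.ι γ.toImage her
    have he : e ≫ W.ι = γ.toImage := IsOpenImmersion.lift_fac _ _ _
    haveI : IsOpenImmersion (e ≫ W.ι) := by rw [he]; infer_instance
    haveI : IsOpenImmersion e := IsOpenImmersion.of_comp e W.ι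
    haveI : IsDominant e := by
      refine ⟨?_⟩
      rw [denseRange_iff_closure_range, W.ι.isEmbedding.closure_eq_preimage_closure_image, ← Set.range_comp]
      rw [show (W.ι ∘ e : _ → _) = γ.toImage from funext fun y => congrArg (fun m => m.base y) he,
        γ.toImage.denseRange.closure_range, Set.preimage_univ]
    have hA : e ≫ gA = Spec.map h := by
      rw [← cancel_mono fA, Category.assoc, IsOpenImmersion.lift_fac, ← Category.assoc, he, hf₁]
    have hB : e ≫ gB = Spec.map loc := by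
      show e ≫ W.ι ≫ f₂ ≫ Q.ι = _
      rw [← Category.assoc, he, ← Category.assoc, hf₂, hj]
    let ρA : A ⟶ Γ((W : Scheme.{u}), ⊤) := (Scheme.ΓSpecIso A).inv ≫ gA.appTop
    let ρB : B ⟶ Γ((W : Scheme.{u}), ⊤) := (Scheme.ΓSpecIso B).inv ≫ gB.appTop
    have hρA : ρA ≫ e.appTop = h ≫ (Scheme.ΓSpecIso Bt).inv := by
      rw [Scheme.ΓSpecIso_inv_naturality, Category.assoc, ← Scheme.Hom.comp_appTop, hA]
    have hρB : ρB ≫ e.appTop = loc ≫ (Scheme.ΓSpecIso Bt).inv := by
      rw [Scheme.ΓSpecIso_inv_naturality, Category.assoc, ← Scheme.Hom.comp_appTop, hB]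
    obtain ⟨i, hi⟩ := ((hQ _).1 (f₂ z).2).resolve_left (not_not.2 hzt)
    have hmul : ρA (xs i) * ρB t = ρB (Xs i) := by
      rw [← sub_eq_zero]
      refine eq_zero_of_appTop_eq_zero e _ ?_
      rw [map_sub, map_mul, ← ConcreteCategory.comp_apply, ← ConcreteCategory.comp_apply, ← ConcreteCategory.comp_apply,
        hρA, hρB, ConcreteCategory.comp_apply, ConcreteCategory.comp_apply, ConcreteCategory.comp_apply, ← map_mul, hrel,
        sub_self]
    have hbo : ∀ b : B, (⟨z, hzU⟩ : W) ∈ (W : Scheme.{u}).basicOpen (ρB b) ↔ b ∉ (Q.ι (f₂ z) : PrimeSpectrum B).asIdeal := by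
      intro b
      have h1 : (W : Scheme.{u}).basicOpen (ρB b) = gB ⁻¹ᵁ (PrimeSpectrum.basicOpen b) := by
        rw [← basicOpen_eq_of_affine b, Scheme.preimage_basicOpen]
        rfl
      rw [h1]
      exact Iff.rfl
    have h2 : (⟨z, hzU⟩ : W) ∈ (W : Scheme.{u}).basicOpen (ρB (Xs i)) := (hbo _).2 hi
    rw [← hmul, Scheme.basicOpen_mul] at h2
    exact (hbo t).1 h2.2 hzt
  · intro hzt
    obtain ⟨y, hy⟩ : f₂ z ∈ Set.range j := by
      have : Q.ι (f₂ z) ∈ Set.range (Spec.map loc) := by rw [hloc]; exact hzt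
      obtain ⟨y, hy⟩ := this
      refine ⟨y, Q.ι.isOpenEmbedding.injective ?_⟩
      rw [← hy, ← hj, Scheme.Hom.comp_apply]
    let sc : Spec Bt ⟶ pullback f₂ j := pullback.lift γ.toImage (𝟙 _) (by rw [hf₂, Category.id_comp])
    haveI : IsClosedImmersion (sc ≫ pullback.snd f₂ j) := by rw [pullback.lift_snd]; infer_instance
    haveI : IsClosedImmersion sc := IsClosedImmersion.of_comp sc (pullback.snd f₂ j)
    obtain ⟨w, hw, -⟩ := Scheme.Pullback.exists_preimage_pullback z y hy.symm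
    have hwmem : w ∈ Set.range sc := by
      rw [← sc.isClosedEmbedding.isClosed_range.closure_eq]
      have h1 : (pullback.fst f₂ j) ⁻¹' Set.range γ.toImage ⊆ Set.range sc := by
        rintro v ⟨u', hu'⟩
        refine ⟨u', (pullback.fst f₂ j).isOpenEmbedding.injective ?_⟩
        rw [← Scheme.Hom.comp_apply, pullback.lift_fst, hu']
      refine closure_mono h1 ?_
      rw [← (pullback.fst f₂ j).isOpenEmbedding.isOpenMap.preimage_closure_eq_closure_preimage
        (pullback.fst f₂ j).continuous, γ.toImage.denseRange.closure_range]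
      trivial
    obtain ⟨y', rfl⟩ := hwmem
    rw [← hw, ← Scheme.Hom.comp_apply sc (pullback.fst f₂ j), pullback.lift_fst, ← Scheme.Hom.comp_apply, hf₁, ← SetLike.mem_coe, ← hfA]
    exact ⟨Spec.map h y', rfl⟩
  · intro O L _ a b g g' hg ha hb o
    haveI := hg
    have hb' : Spec.map g ≫ b = Spec.map g' ≫ j := by
      rw [← cancel_mono Q.ι, Category.assoc, hb, Category.assoc, hj]
    have hab : a ≫ p = b ≫ π := by
      refine ext_of_isDominant (Spec.map g) ?_
      rw [reassoc_of% ha, reassoc_of% hb', ← hcomm, Category.assoc]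
    obtain ⟨φ, hφ⟩ := Coherent.exists_lift_of_dominant (Spec.map g) (pullback.lift a b hab) γ.imageι
      (Spec.map g' ≫ γ.toImage) (by
        rw [Category.assoc, Scheme.Hom.toImage_imageι]
        refine pullback.hom_ext ?_ ?_
        · rw [Category.assoc, pullback.lift_fst, Category.assoc, pullback.lift_fst, ha]
        · rw [Category.assoc, pullback.lift_snd, Category.assoc, hγ₂, hb'])
    refine ⟨φ o, ?_, ?_⟩
    · show (γ.imageι ≫ pullback.fst p π) (φ o) = _
      rw [← Scheme.Hom.comp_apply, ← Category.assoc, hφ, pullback.lift_fst]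
    · show (γ.imageι ≫ pullback.snd p π) (φ o) = _
      rw [← Scheme.Hom.comp_apply, ← Category.assoc, hφ, pullback.lift_snd]

end Groth.Agent.CommAlg4.Cone
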