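import Mathlib
import Groth.Prelude
import Groth.Agent.CommAlg4.ConeGraph
import Groth.Agent.DimLib.Points
import Groth.Agent.DimLib.Morphism

/-!
The complement of a nonempty affine open in an irreducible proper scheme of dimension at least two over a field is connected.
-/

set_option autoImplicit false
set_option linter.all false

universe u

open CategoryTheory CategoryTheory.Limits AlgebraicGeometry TopologicalSpace Polynomial

namespace Groth.Agent.CommAlg4

/-- A field generated by a finite algebra over a polynomial ring is finite over the rational function field. -/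
theorem finiteDimensional_adjoin {k A E : Type u} [Field k] [CommRing A] [IsDomain A] [Field E] [Algebra k A] [Algebra k E]
    [Algebra A E] [IsScalarTower k A E] [IsFractionRing A E] {d : ℕ} (g : MvPolynomial (Fin d) k →ₐ[k] A) (hg : g.Finite) :
    FiniteDimensional (IntermediateField.adjoin k (Set.range fun i => algebraMap A E (g (MvPolynomial.X i)))) E ∧
      ∀ a : A, _root_.IsIntegral (Algebra.adjoin k (Set.range fun i => algebraMap A E (g (MvPolynomial.X i)))) (algebraMap A E a) := by
  classical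
  let x : Fin d → E := fun i => algebraMap A E (g (MvPolynomial.X i))
  have hmem : ∀ p, algebraMap A E (g p) ∈ Algebra.adjoin k (Set.range x) := by
    intro p
    have : (IsScalarTower.toAlgHom k A E).comp g = MvPolynomial.aeval x := MvPolynomial.algHom_ext fun i => by simp [x]
    rw [Algebra.adjoin_range_eq_range_aeval]
    exact ⟨p, (AlgHom.congr_fun this p).symm⟩
  have hint : ∀ a : A, _root_.IsIntegral (Algebra.adjoin k (Set.range x)) (algebraMap A E a) := by
    intro a
    obtain ⟨q, hq, hq0⟩ := hg.to_isIntegral a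
    let θ : MvPolynomial (Fin d) k →+* Algebra.adjoin k (Set.range x) :=
      ((algebraMap A E).comp g.toRingHom).codRestrict _ hmem
    refine ⟨q.map θ, hq.map _, ?_⟩
    rw [Polynomial.eval₂_map, show (algebraMap (Algebra.adjoin k (Set.range x)) E).comp θ = (algebraMap A E).comp g.toRingHom from rfl,
      ← Polynomial.hom_eval₂, hq0, map_zero]
  refine ⟨?_, hint⟩
  set F := IntermediateField.adjoin k (Set.range x)
  letI : Algebra (MvPolynomial (Fin d) k) A := g.toRingHom.toAlgebra
  haveI : Module.Finite (MvPolynomial (Fin d) k) A := hg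
  obtain ⟨G, hG⟩ := Module.Finite.fg_top (R := MvPolynomial (Fin d) k) (M := A)
  let S : Submodule F E := Submodule.span F (algebraMap A E '' (G : Set A))
  have hA : ∀ a : A, algebraMap A E a ∈ S := by
    intro a
    have ha : a ∈ Submodule.span (MvPolynomial (Fin d) k) (G : Set A) := by rw [hG]; trivial
    induction ha using Submodule.span_induction with
    | mem a ha => exact Submodule.subset_span ⟨a, ha, rfl⟩
    | zero => rw [map_zero]; exact zero_mem _
    | add u v _ _ hu hv => rw [map_add]; exact add_mem hu hv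
    | smul c u _ hu =>
      rw [Algebra.smul_def, map_mul]
      exact S.smul_mem (⟨_, IntermediateField.algebra_adjoin_le_adjoin k _ (hmem c)⟩ : F) hu
  have hmul : ∀ a ∈ S, ∀ b ∈ S, a * b ∈ S := by
    intro a ha b hb
    have := Submodule.mul_mem_mul ha hb
    rw [Submodule.span_mul_span] at this
    refine Submodule.span_le.2 ?_ this
    rintro _ ⟨_, ⟨i, -, rfl⟩, _, ⟨j, -, rfl⟩, rfl⟩
    show algebraMap A E i * algebraMap A E j ∈ S
    rw [← map_mul]
    exact hA _
  let A' : Subalgebra F E := S.toSubalgebra (by have := hA 1; rwa [map_one] at this) (fun a b ha hb => hmul a ha b hb)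
  haveI hS : FiniteDimensional F S := FiniteDimensional.span_of_finite F (G.finite_toSet.image _)
  haveI : FiniteDimensional F A' := hS
  haveI : Algebra.IsAlgebraic F A' := Algebra.IsAlgebraic.of_finite F A'
  have hfield : IsField A' := isField_of_isIntegral_of_isField' (Field.toIsField F)
  have htop : S = ⊤ := eq_top_iff.2 fun z _ => by
    obtain ⟨a, b, hb, rfl⟩ := IsFractionRing.div_surjective A z
    have hb0 : (⟨_, hA b⟩ : A') ≠ 0 := fun h =>
      nonZeroDivisors.ne_zero hb (IsFractionRing.injective A E ((congrArg Subtype.val h).trans (map_zero _).symm))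
    obtain ⟨c, hc⟩ := hfield.mul_inv_cancel hb0
    have : (algebraMap A E b)⁻¹ = c := inv_eq_of_mul_eq_one_right (congrArg Subtype.val hc)
    rw [div_eq_mul_inv, this]
    exact hmul _ (hA a) _ c.2
  exact Module.Finite.of_surjective S.subtype fun z => ⟨⟨z, htop ▸ Submodule.mem_top⟩, rfl⟩

/-- Some element among `1, x₁, …, x_d` is largest for a valuation ring. -/
theorem exists_max_denominator {E : Type u} [Field E] {d : ℕ} (x : Fin d → E) (V : ValuationSubring E) :
    ∃ c : E, c ≠ 0 ∧ c⁻¹ ∈ V ∧ (∀ i, x i / c ∈ V) ∧ (c = 1 ∨ ∃ i, c = x i) := by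
  obtain ⟨o, -, ho⟩ := Finset.exists_max_image (Finset.univ : Finset (Option (Fin d)))
    (fun o => V.valuation (o.elim 1 x)) Finset.univ_nonempty
  let c : E := o.elim 1 x
  have h1 : V.valuation 1 ≤ V.valuation c := ho none (Finset.mem_univ _)
  have hc : c ≠ 0 := fun h => by rw [h, map_zero, map_one] at h1; exact absurd h1 (not_le.2 zero_lt_one)
  have hv : 0 < V.valuation c := zero_lt_iff.2 ((V.valuation.ne_zero_iff).2 hc)
  refine ⟨c, hc, ?_, fun i => ?_, ?_⟩
  · rw [← V.valuation_le_one_iff, map_inv₀]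
    rw [map_one] at h1
    exact inv_le_one_of_one_le₀ h1
  · rw [← V.valuation_le_one_iff, map_div₀]
    exact (div_le_one₀ hv).2 (ho (some i) (Finset.mem_univ _))
  · cases o with
    | none => exact Or.inl rfl
    | some i => exact Or.inr ⟨i, rfl⟩

set_option maxHeartbeats 1000000 in
theorem isPreconnected_compl_affine_integral {k : Type u} [Field k] {X : Scheme.{u}} (p : X ⟶ Spec (CommRingCat.of k))
    [IsProper p] [IsIntegral X] {U : X.Opens} (hU : IsAffineOpen U) (hne : (U : Set X).Nonempty)
    (hdim : (2 : WithBot ℕ∞) ≤ topologicalKrullDim X) : _root_.IsPreconnected ((U : Set X)ᶜ) := by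
  classical
  haveI : Nonempty U := ⟨⟨_, hne.some_mem⟩⟩
  let A : CommRingCat.{u} := Γ(X, U)
  let cA : CommRingCat.of k ⟶ A := Spec.preimage (hU.fromSpec ≫ p)
  have hcA : hU.fromSpec ≫ p = Spec.map cA := (Spec.map_preimage _).symm
  let E : Type u := X.functionField
  let germA : A ⟶ X.functionField := X.germToFunctionField U
  letI : Algebra k A := cA.hom.toAlgebra
  letI : Algebra A E := germA.hom.toAlgebra
  letI : Algebra k E := (cA ≫ germA).hom.toAlgebra
  haveI : IsScalarTower k A E := IsScalarTower.of_algebraMap_eq fun _ => rfl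
  haveI : IsFractionRing A E := functionField_isFractionRing_of_isAffineOpen X U hU
  haveI : Algebra.FiniteType k A := by
    haveI : LocallyOfFiniteType (Spec.map cA) := by rw [← hcA]; infer_instance
    exact (HasRingHomProperty.Spec_iff (P := @LocallyOfFiniteType)).1 (inferInstance : LocallyOfFiniteType (Spec.map cA))
  haveI : IsDomain A := inferInstanceAs (IsDomain Γ(X, U))
  obtain ⟨d, gN, hgN, hfinN⟩ := exists_finite_inj_algHom_of_fg k A
  let x : Fin d → E := fun i => algebraMap A E (gN (MvPolynomial.X i))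
  have hx : AlgebraicIndependent k x := by
    rw [algebraicIndependent_iff_injective_aeval]
    have : (MvPolynomial.aeval x : MvPolynomial (Fin d) k →ₐ[k] E) = (IsScalarTower.toAlgHom k A E).comp gN :=
      MvPolynomial.algHom_ext fun i => by simp [x]
    rw [this]
    exact (IsFractionRing.injective A E).comp hgN
  obtain ⟨hfinE, hintA⟩ := finiteDimensional_adjoin (E := E) gN hfinN
  haveI : FiniteDimensional (IntermediateField.adjoin k (Set.range x)) E := hfinE
  have hd : 2 ≤ d := by
    have hdA : ringKrullDim A = (d : WithBot ℕ∞) := by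
      letI : Algebra (MvPolynomial (Fin d) k) A := gN.toRingHom.toAlgebra
      haveI : Module.Finite (MvPolynomial (Fin d) k) A := hfinN
      haveI : Algebra.IsIntegral (MvPolynomial (Fin d) k) A := Algebra.IsIntegral.of_finite _ _
      rw [← DimLib.ringKrullDim_eq_of_isIntegral (R := MvPolynomial (Fin d) k) (S := A) hgN,
        MvPolynomial.ringKrullDim_of_isNoetherianRing, ringKrullDim_eq_zero_of_field, zero_add]
      simp
    haveI : IrreducibleSpace (Spec A) := inferInstance
    have h1 : topologicalKrullDim X = topologicalKrullDim (Spec A) := by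
      rw [DimLib.topologicalKrullDim_eq_ptDim_genericPoint p, DimLib.topologicalKrullDim_eq_ptDim_genericPoint (hU.fromSpec ≫ p),
        DimLib.ptDim_of_isIso p hU.fromSpec, genericPoint_eq_of_isOpenImmersion]
    have h3 : topologicalKrullDim (Spec A) = ringKrullDim A := PrimeSpectrum.topologicalKrullDim_eq_ringKrullDim A
    rw [h1, h3, hdA] at hdim
    exact_mod_cast hdim
  -- the cone cover
  let Ω : Type u := FractionRing (Polynomial E)
  letI algP : Algebra (MvPolynomial (Fin (d + 1)) k) Ω := ((algebraMap (Polynomial E) Ω).comp (Cone.phi x).toRingHom).toAlgebra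
  have hΩ : ∀ q : MvPolynomial (Fin (d + 1)) k,
      algebraMap (MvPolynomial (Fin (d + 1)) k) Ω q = algebraMap (Polynomial E) Ω (Cone.phi x q) := fun _ => rfl
  let B := integralClosure (MvPolynomial (Fin (d + 1)) k) Ω
  obtain ⟨hfinB, hnormB, hnoethB⟩ := Cone.normal_cover x hΩ hx
  haveI := hfinB
  haveI := hnormB
  haveI := hnoethB
  let t : B := algebraMap (MvPolynomial (Fin (d + 1)) k) B (MvPolynomial.X 0)
  have ht : t ≠ 0 := fun h => Polynomial.X_ne_zero (R := E) (IsFractionRing.injective (Polynomial E) Ω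
    (by rw [map_zero, ← Cone.phi_zero (k := k) x, ← hΩ]; exact congrArg Subtype.val h))
  let Bt := Localization.Away t
  haveI : IsDomain Bt := IsLocalization.isDomain_of_le_nonZeroDivisors (M := Submonoid.powers t) _
    (powers_le_nonZeroDivisors_of_noZeroDivisors ht)
  have hTu : IsUnit (algebraMap B Ω t) := isUnit_iff_ne_zero.2 fun h => ht (Subtype.ext h)
  let j : Bt →+* Ω := IsLocalization.Away.lift t hTu
  have hj : ∀ b : B, j (algebraMap B Bt b) = b.1 := fun b => IsLocalization.Away.lift_eq t hTu b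
  have hjinj : Function.Injective j := by
    refine IsLocalization.lift_injective_iff _ |>.2 fun u v => ?_
    constructor
    · intro h; exact congrArg (algebraMap B Ω) (Subtype.ext ((hj u).symm.trans ((congrArg j h).trans (hj v))))
    · intro h; exact congrArg (algebraMap B Bt) (Subtype.ext h)
  have hrange : ∀ a : A, Cone.cst Ω (algebraMap A E a) ∈ j.range := by
    intro a
    obtain ⟨N, hN⟩ := Cone.exists_mul_cst_mem x hΩ hx _ (hintA a)
    refine ⟨algebraMap B Bt ⟨_, hN⟩ * IsLocalization.Away.invSelf t ^ N, ?_⟩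
    have hinv : algebraMap B Ω t * j (IsLocalization.Away.invSelf t) = 1 := by
      show t.1 * _ = 1
      rw [← hj t, ← map_mul, IsLocalization.Away.mul_invSelf, map_one]
    rw [map_mul, map_pow, hj]
    show (algebraMap B Ω t) ^ N * _ * _ = _
    rw [mul_right_comm, ← mul_pow, hinv, one_pow, one_mul]
  let h₀ : A →+* Bt := (RingEquiv.ofBijective j.rangeRestrict
    ⟨fun u v h => hjinj (congrArg Subtype.val h), j.rangeRestrict_surjective⟩).symm.toRingHom.comp
      (((Cone.cst Ω).comp (algebraMap A E)).codRestrict _ hrange)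
  have hh₀ : ∀ a, j (h₀ a) = Cone.cst Ω (algebraMap A E a) := fun a =>
    congrArg Subtype.val ((RingEquiv.ofBijective j.rangeRestrict
      ⟨fun u v h => hjinj (congrArg Subtype.val h), j.rangeRestrict_surjective⟩).apply_symm_apply
        ((((Cone.cst Ω).comp (algebraMap A E)).codRestrict _ hrange) a))
  let cB : CommRingCat.of k ⟶ CommRingCat.of B :=
    CommRingCat.ofHom ((algebraMap (MvPolynomial (Fin (d + 1)) k) B).comp MvPolynomial.C)
  let loc : CommRingCat.of B ⟶ CommRingCat.of Bt := CommRingCat.ofHom (algebraMap B Bt)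
  let hA : A ⟶ CommRingCat.of Bt := CommRingCat.ofHom h₀
  haveI : IsOpenImmersion (Spec.map loc) := IsOpenImmersion.of_isLocalization (R := B) (S := Bt) t
  have hloc : Set.range (Spec.map loc) = {q : PrimeSpectrum B | t ∉ q.asIdeal} :=
    PrimeSpectrum.localization_away_comap_range Bt t
  have hcompat : cA ≫ hA = cB ≫ loc := by
    ext c
    apply hjinj
    show j (h₀ (cA.hom c)) = j (algebraMap B Bt _)
    rw [hh₀, hj]
    show _ = algebraMap (MvPolynomial (Fin (d + 1)) k) Ω (MvPolynomial.C c)
    rw [hΩ, Cone.phi, MvPolynomial.aeval_C]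
    rw [IsScalarTower.algebraMap_apply k E (Polynomial E)]
    rfl
  let Xs : Fin d → B := fun i => algebraMap (MvPolynomial (Fin (d + 1)) k) B (MvPolynomial.X i.succ)
  have hrel : ∀ i, hA (gN (MvPolynomial.X i)) * loc t = loc (Xs i) := by
    intro i
    apply hjinj
    show j (h₀ _ * algebraMap B Bt t) = j (algebraMap B Bt (Xs i))
    rw [map_mul, hh₀, hj, hj]
    show _ * algebraMap (MvPolynomial (Fin (d + 1)) k) Ω _ = algebraMap (MvPolynomial (Fin (d + 1)) k) Ω _
    rw [hΩ, hΩ, Cone.phi_zero, Cone.phi_succ, map_mul]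
    rfl
  let Q : (Spec (CommRingCat.of B)).Opens :=
    ⟨(PrimeSpectrum.zeroLocus (insert t (Set.range Xs)))ᶜ, (PrimeSpectrum.isClosed_zeroLocus _).isOpen_compl⟩
  have hQ : ∀ q : PrimeSpectrum B, q ∈ Q ↔ (t ∉ q.asIdeal ∨ ∃ i, Xs i ∉ q.asIdeal) := by
    intro q
    show ¬ (insert t (Set.range Xs) ⊆ (q.asIdeal : Set B)) ↔ _
    rw [Set.insert_subset_iff, Set.range_subset_iff, not_and_or, not_forall]
    rfl
  obtain ⟨Γ, hΓ, f₁, f₂, hprop, hconn, hbdry, hpts⟩ := Cone.exists_graph p hU.fromSpec hU.range_fromSpec cA hcA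
    cB t ht loc hloc hA hcompat (fun i => gN (MvPolynomial.X i)) Xs hrel Q hQ
  haveI := hprop
  -- points reaching the origin
  have hpoint : ∀ x₀ : X, x₀ ∉ U → ∃ z : Γ, f₁ z = x₀ ∧ ∃ m : PrimeSpectrum B,
      (Q.ι (f₂ z) : PrimeSpectrum B).asIdeal ≤ m.asIdeal ∧
        ∀ i, algebraMap (MvPolynomial (Fin (d + 1)) k) B (MvPolynomial.X i) ∈ m.asIdeal := by
    intro x₀ hx₀
    let St := X.presheaf.stalk x₀
    let e₀ : St ⟶ X.functionField := X.presheaf.stalkSpecializes ((genericPoint_spec X).specializes trivial)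
    haveI : IsLocalRing (e₀.hom.range : Subring E) :=
      IsLocalRing.of_surjective' e₀.hom.rangeRestrict e₀.hom.rangeRestrict_surjective
    obtain ⟨V, hV⟩ := LocalSubring.exists_le_valuationSubring (K := E) ⟨e₀.hom.range⟩
    obtain ⟨hle, hlocal⟩ := hV
    let ψ₀ : St →+* V := (Subring.inclusion hle).comp e₀.hom.rangeRestrict
    haveI : IsLocalHom ψ₀ := by
      refine ⟨fun a ha => ?_⟩
      haveI : IsLocalHom e₀.hom.rangeRestrict := IsLocalHom.of_surjective _ e₀.hom.rangeRestrict_surjective
      exact isUnit_of_map_unit e₀.hom.rangeRestrict a (hlocal.map_nonunit _ ha)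
    let aV : Spec (CommRingCat.of V) ⟶ X := Spec.map (CommRingCat.ofHom ψ₀) ≫ X.fromSpecStalk x₀
    have haV : Spec.map (CommRingCat.ofHom V.subtype) ≫ aV = X.fromSpecStalk (genericPoint X) := by
      show _ ≫ _ ≫ _ = _
      rw [← Spec.map_comp_assoc, show CommRingCat.ofHom ψ₀ ≫ CommRingCat.ofHom V.subtype = e₀ from rfl,
        Scheme.SpecMap_stalkSpecializes_fromSpecStalk]
    have hgermA : Spec.map germA ≫ hU.fromSpec = X.fromSpecStalk (genericPoint X) :=
      hU.fromSpecStalk_eq_fromSpecStalk _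
    have hkV : ∀ c : k, algebraMap k E c ∈ V := by
      intro c
      have heq : Spec.preimage (aV ≫ p) ≫ CommRingCat.ofHom V.subtype = cA ≫ germA := by
        apply Spec.map_injective
        rw [Spec.map_comp, Spec.map_preimage, Spec.map_comp, reassoc_of% haV, ← hcA, reassoc_of% hgermA]
      have h2 : V.subtype ((Spec.preimage (aV ≫ p)).hom c) = algebraMap k E c := congrArg (fun m => m.hom c) heq
      rw [← h2]
      exact Subtype.property _
    obtain ⟨c, hc, hc1, hcx, hcmax⟩ := exists_max_denominator x V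
    obtain ⟨σ, ψ, hσ, hψ, hψt, hψx⟩ := Cone.exists_scale x hΩ V hkV c hc hc1 hcx
    let pp : Ideal (Polynomial V) := RingHom.ker (Polynomial.mapRingHom (IsLocalRing.residue V))
    haveI : pp.IsPrime := RingHom.ker_isPrime _
    let mm : Ideal (Polynomial V) := RingHom.ker ((Polynomial.evalRingHom 0).comp (Polynomial.mapRingHom (IsLocalRing.residue V)))
    haveI : mm.IsPrime := RingHom.ker_isPrime _
    have hppmm : pp ≤ mm := fun q hq => by
      show Polynomial.eval 0 (Polynomial.mapRingHom (IsLocalRing.residue V) q) = 0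
      rw [show Polynomial.mapRingHom (IsLocalRing.residue V) q = 0 from hq, Polynomial.eval_zero]
    have hXmm : ∀ i, ψ (algebraMap (MvPolynomial (Fin (d + 1)) k) B (MvPolynomial.X i)) ∈ mm := by
      intro i
      have hev : ∀ (q : Polynomial V) (e : E), q.map V.subtype = Polynomial.C e * Polynomial.X → q ∈ mm := by
        intro q e hq
        have h0 : q.coeff 0 = 0 := Subtype.ext (by
          have := congrArg (fun r : Polynomial E => r.coeff 0) hq
          simpa using this)
        show Polynomial.eval 0 (Polynomial.mapRingHom (IsLocalRing.residue V) q) = 0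
        rw [← Polynomial.coeff_zero_eq_eval_zero, Polynomial.coe_mapRingHom, Polynomial.coeff_map, h0, map_zero]
      induction i using Fin.cases with
      | zero => exact hev _ _ hψt
      | succ i => exact hev _ _ (hψx i)
    have hnotall : ∃ i, ψ (algebraMap (MvPolynomial (Fin (d + 1)) k) B (MvPolynomial.X i)) ∉ pp := by
      have hev : ∀ (q : Polynomial V), q.map V.subtype = Polynomial.C (1 : E) * Polynomial.X → q ∉ pp := by
        intro q hq hmem
        have hqX : q = Polynomial.X := Polynomial.map_injective _ Subtype.val_injective (by rw [hq, map_one, one_mul, Polynomial.map_X])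
        rw [hqX] at hmem
        exact Polynomial.X_ne_zero (by simpa [pp] using hmem : (Polynomial.X : Polynomial (IsLocalRing.ResidueField V)) = 0)
      rcases hcmax with h | ⟨i, h⟩
      · exact ⟨0, hev _ (by rw [hψt, h, inv_one])⟩
      · exact ⟨i.succ, hev _ (by rw [hψx, ← h, div_self hc])⟩
    let O := Localization.AtPrime pp
    let incl : Polynomial V →+* Ω := (algebraMap (Polynomial E) Ω).comp (Polynomial.mapRingHom V.subtype)
    have hincl : Function.Injective incl :=
      (IsFractionRing.injective (Polynomial E) Ω).comp (Polynomial.map_injective _ Subtype.val_injective)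
    have hunit : ∀ s : pp.primeCompl, IsUnit (incl s) := fun s =>
      isUnit_iff_ne_zero.2 fun h => s.2 (by rw [show (s : Polynomial V) = 0 from hincl (h.trans (map_zero _).symm)]; exact zero_mem _)
    let gO : O →+* Ω := IsLocalization.lift hunit
    have hgO : ∀ q, gO (algebraMap (Polynomial V) O q) = incl q := fun q => IsLocalization.lift_eq hunit q
    have hgOinj : Function.Injective gO := by
      refine IsLocalization.lift_injective_iff _ |>.2 fun u v => ?_
      constructor
      · intro h; rw [← hgO, ← hgO, h]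
      · intro h; exact congrArg _ (hincl h)
    haveI : IsDomain O := hgOinj.isDomain gO
    let bB : Spec (CommRingCat.of O) ⟶ Spec (CommRingCat.of B) :=
      Spec.map (CommRingCat.ofHom ((algebraMap (Polynomial V) O).comp ψ))
    have hbQ : Set.range bB ⊆ Set.range Q.ι := by
      rw [Scheme.Opens.range_ι]
      rintro _ ⟨o, rfl⟩
      obtain ⟨i, hi⟩ := hnotall
      have hi' : algebraMap (MvPolynomial (Fin (d + 1)) k) B (MvPolynomial.X i) ∉ (bB o : PrimeSpectrum B).asIdeal := by
        intro hmem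
        have h2 : algebraMap (Polynomial V) O (ψ _) ∈ IsLocalRing.maximalIdeal O :=
          IsLocalRing.le_maximalIdeal o.isPrime.ne_top hmem
        exact hi ((IsLocalization.AtPrime.to_map_mem_maximal_iff O pp _).1 h2)
      refine (hQ _).2 ?_
      induction i using Fin.cases with
      | zero => exact Or.inl hi'
      | succ i => exact Or.inr ⟨i, hi'⟩
    let b : Spec (CommRingCat.of O) ⟶ (Q : Scheme.{u}) := IsOpenImmersion.lift Q.ι bB hbQ
    have hb : b ≫ Q.ι = bB := IsOpenImmersion.lift_fac _ _ _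
    let a : Spec (CommRingCat.of O) ⟶ X :=
      Spec.map (CommRingCat.ofHom ((algebraMap (Polynomial V) O).comp Polynomial.C)) ≫ aV
    let gOh : CommRingCat.of O ⟶ CommRingCat.of Ω := CommRingCat.ofHom (R := O) (S := Ω) gO
    haveI hdom : IsDominant (Spec.map gOh) := ⟨by
      show DenseRange (PrimeSpectrum.comap gO)
      refine (PrimeSpectrum.denseRange_comap_iff_ker_le_nilRadical gO).2 ?_
      intro q hq
      rw [show q = 0 from hgOinj (hq.trans (map_zero _).symm)]
      exact zero_mem _⟩
    let g' : CommRingCat.of Bt ⟶ CommRingCat.of Ω := CommRingCat.ofHom (σ.comp j)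
    have hag : Spec.map gOh ≫ a = Spec.map g' ≫ Spec.map hA ≫ hU.fromSpec := by
      have e1 : CommRingCat.ofHom ((algebraMap (Polynomial V) O).comp Polynomial.C) ≫ gOh =
          CommRingCat.ofHom V.subtype ≫ CommRingCat.ofHom (Cone.cst Ω) := by
        ext q
        show gO (algebraMap _ O (Polynomial.C q)) = Cone.cst Ω q.1
        rw [hgO]
        simp [incl, Cone.cst]
      have e2 : hA ≫ g' = germA ≫ CommRingCat.ofHom (R := E) (S := Ω) (Cone.cst Ω) := by
        ext q
        show σ (j (h₀ q)) = Cone.cst Ω (algebraMap A E q)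
        rw [hh₀, hσ]
      show Spec.map gOh ≫ Spec.map _ ≫ aV = _
      rw [← Spec.map_comp_assoc, e1, Spec.map_comp_assoc, haV, ← Spec.map_comp_assoc, e2, Spec.map_comp_assoc, hgermA]
    have hbg : Spec.map gOh ≫ b ≫ Q.ι = Spec.map g' ≫ Spec.map loc := by
      rw [hb, ← Spec.map_comp, ← Spec.map_comp]
      congr 1
      ext q
      show gO (algebraMap _ O (ψ q)) = σ (j (algebraMap B Bt q))
      rw [hgO, hj]
      exact hψ q
    let o : Spec (CommRingCat.of O) := IsLocalRing.closedPoint O
    obtain ⟨z, hz₁, hz₂⟩ := hpts (CommRingCat.of O) (CommRingCat.of Ω) a b gOh g' hdom hag hbg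
      o
    refine ⟨z, ?_, ⟨mm.comap ψ, inferInstance⟩, ?_, fun i => hXmm i⟩
    · rw [hz₁]
      show (Spec.map _ ≫ aV) o = _
      rw [Scheme.Hom.comp_apply]
      show (Spec.map (CommRingCat.ofHom ψ₀) ≫ X.fromSpecStalk x₀) _ = x₀
      rw [Scheme.Hom.comp_apply]
      refine (congrArg (fun q => (X.fromSpecStalk x₀) q) ?_).trans Scheme.fromSpecStalk_closedPoint
      refine PrimeSpectrum.ext (Ideal.ext fun s => ?_)
      show algebraMap (Polynomial V) O (Polynomial.C (ψ₀ s)) ∈ IsLocalRing.maximalIdeal O ↔ s ∈ IsLocalRing.maximalIdeal St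
      rw [IsLocalization.AtPrime.to_map_mem_maximal_iff O pp]
      show Polynomial.mapRingHom _ _ = 0 ↔ _
      rw [Polynomial.coe_mapRingHom, Polynomial.map_C, Polynomial.C_eq_zero, IsLocalRing.residue_eq_zero_iff,
        IsLocalRing.mem_maximalIdeal, IsLocalRing.mem_maximalIdeal, mem_nonunits_iff, mem_nonunits_iff, isUnit_map_iff]
    · rw [hz₂, ← Scheme.Hom.comp_apply, hb]
      intro q hq
      exact hppmm ((IsLocalization.AtPrime.to_map_mem_maximal_iff O pp _).1 hq)
  -- conclusion
  rw [isPreconnected_closed_iff]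
  intro D₁ D₂ hD₁ hD₂ hcov hne₁ hne₂
  by_contra hempty
  rw [Set.not_nonempty_iff_eq_empty] at hempty
  let T : Set X → Set Γ := fun D => f₁ ⁻¹' ((U : Set X)ᶜ ∩ D)
  have hTcl : ∀ D, IsClosed D → IsClosed (f₂ '' T D) := fun D hD =>
    f₂.isClosedMap _ ((U.2.isClosed_compl.inter hD).preimage f₁.continuous)
  have hZQ : ∀ D, IsClosed D → ∀ q : (Q : Scheme.{u}), Q.ι q ∈ closure (Q.ι '' (f₂ '' T D)) → q ∈ f₂ '' T D := by
    intro D hD q hq
    have h2 : q ∈ closure (f₂ '' T D) := by
      rw [Q.ι.isEmbedding.closure_eq_preimage_closure_image]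
      exact hq
    rwa [(hTcl D hD).closure_eq] at h2
  have hTt : ∀ D, ∀ q ∈ closure (Q.ι '' (f₂ '' T D)), t ∈ (q : PrimeSpectrum B).asIdeal := by
    intro D q hq
    have hsub : closure (Q.ι '' (f₂ '' T D)) ⊆ PrimeSpectrum.zeroLocus ({t} : Set B) := by
      refine closure_minimal ?_ (PrimeSpectrum.isClosed_zeroLocus _)
      rintro _ ⟨_, ⟨z, hz, rfl⟩, rfl⟩
      refine Set.singleton_subset_iff.2 ?_
      by_contra h
      exact hz.1 ((hbdry z).2 h)
    exact Set.singleton_subset_iff.1 ((PrimeSpectrum.mem_zeroLocus _ _).1 (hsub hq))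
  have hinQ : ∀ q : PrimeSpectrum B, t ∈ q.asIdeal →
      (∀ i, algebraMap (MvPolynomial (Fin (d + 1)) k) B (MvPolynomial.X i) ∈ q.asIdeal) ∨ q ∈ Set.range Q.ι := by
    intro q hq
    by_cases h : ∃ i, Xs i ∉ q.asIdeal
    · refine Or.inr ?_
      rw [Scheme.Opens.range_ι]
      exact (hQ q).2 (Or.inr h)
    · push Not at h
      exact Or.inl (Fin.cases hq h)
  refine Cone.not_disjoint_pieces x hΩ hx Subtype.val_injective hd
    (closure (Q.ι '' (f₂ '' T D₁))) (closure (Q.ι '' (f₂ '' T D₂))) isClosed_closure isClosed_closure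
    (fun q hq => hq.elim (hTt D₁ q) (hTt D₂ q)) ?_ ?_ ?_ ?_
  · intro q hq
    rcases hinQ q hq with h | ⟨q', rfl⟩
    · exact Or.inr h
    · left
      haveI := hconn q'
      let w : f₂.fiber q' := Classical.arbitrary _
      have hw : f₂ (f₂.fiberι q' w) = q' := by
        have : f₂.fiberι q' w ∈ f₂ ⁻¹' {q'} := by rw [← f₂.range_fiberι]; exact ⟨w, rfl⟩
        exact this
      have hzU : f₁ (f₂.fiberι q' w) ∉ U := fun h => (hbdry _).1 h (by rw [hw]; exact hq)
      rcases hcov hzU with hh | hh
      · exact Or.inl (subset_closure ⟨q', ⟨_, ⟨hzU, hh⟩, hw⟩, rfl⟩)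
      · exact Or.inr (subset_closure ⟨q', ⟨_, ⟨hzU, hh⟩, hw⟩, rfl⟩)
  · rintro q ⟨hq₁, hq₂⟩
    rcases hinQ q (hTt D₁ q hq₁) with h | ⟨q', rfl⟩
    · exact h
    · exfalso
      obtain ⟨z₁, hz₁, e₁⟩ := hZQ D₁ hD₁ q' hq₁
      obtain ⟨z₂, hz₂, e₂⟩ := hZQ D₂ hD₂ q' hq₂
      haveI := hconn q'
      have hfib : _root_.IsPreconnected (f₂ ⁻¹' {q'}) := by
        rw [← f₂.range_fiberι]; exact isPreconnected_range (f₂.fiberι q').continuous
      have hsub : ∀ z ∈ f₂ ⁻¹' {q'}, f₁ z ∉ U := fun z hz hzU => (hbdry z).1 hzU (by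
        rw [show f₂ z = q' from hz]; exact hTt D₁ _ hq₁)
      obtain ⟨z, hzf, hz1, hz2⟩ := (isPreconnected_closed_iff.1 hfib) (f₁ ⁻¹' D₁) (f₁ ⁻¹' D₂)
        (hD₁.preimage f₁.continuous) (hD₂.preimage f₁.continuous) (fun z hz => hcov (hsub z hz))
        ⟨z₁, e₁, hz₁.2⟩ ⟨z₂, e₂, hz₂.2⟩
      exact (Set.eq_empty_iff_forall_notMem.1 hempty (f₁ z)) ⟨hsub z hzf, hz1, hz2⟩
  · obtain ⟨x₀, hx₀, hx₀D⟩ := hne₁
    obtain ⟨z, hz, m, hm, hmX⟩ := hpoint x₀ hx₀
    subst hz
    refine ⟨Q.ι (f₂ z), subset_closure ⟨_, ⟨z, ⟨hx₀, hx₀D⟩, rfl⟩, rfl⟩, ?_, m, hm, hmX⟩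
    rcases (hQ _).1 (f₂ z).2 with h | ⟨i, hi⟩
    · exact ⟨0, h⟩
    · exact ⟨i.succ, hi⟩
  · obtain ⟨x₁, hx₁, hx₁D⟩ := hne₂
    obtain ⟨z, hz, m, hm, hmX⟩ := hpoint x₁ hx₁
    subst hz
    refine ⟨Q.ι (f₂ z), subset_closure ⟨_, ⟨z, ⟨hx₁, hx₁D⟩, rfl⟩, rfl⟩, ?_, m, hm, hmX⟩
    rcases (hQ _).1 (f₂ z).2 with h | ⟨i, hi⟩
    · exact ⟨0, h⟩
    · exact ⟨i.succ, hi⟩

end Groth.Agent.CommAlg4
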