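import Mathlib
import Groth.Prelude
import Groth.Agent.CommAlg4.ComplAffine
import Groth.Agent.DimLib.Zero
import Groth.Agent.Props12.KerReduced

/-!
Connectedness of the complement of an affine open in an irreducible proper scheme of dimension at least two.
-/

set_option autoImplicit false
set_option linter.all false

universe u

open CategoryTheory CategoryTheory.Limits AlgebraicGeometry TopologicalSpace

namespace Groth.Agent.CommAlg4

/-- An affine open of a proper scheme of positive dimension over a field is not everything. -/
theorem compl_affine_nonempty {k : Type u} [Field k] {X : Scheme.{u}} (p : X ⟶ Spec (CommRingCat.of k)) [IsProper p]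
    {U : X.Opens} (hU : IsAffineOpen U) (hdim : 0 < topologicalKrullDim X) : ((U : Set X)ᶜ).Nonempty := by
  rw [Set.nonempty_compl]
  intro h
  have hU' : U = ⊤ := Opens.ext h
  subst hU'
  haveI : IsAffine (⊤ : X.Opens) := hU
  haveI : IsAffine X := IsAffine.of_isIso X.topIso.inv
  haveI : IsFinite p := IsFinite.iff_isProper_and_isAffineHom.2 ⟨inferInstance, inferInstance⟩
  haveI : Finite X := Set.finite_univ_iff.1 ((p.finite_preimage_singleton default).subset fun x _ => Subsingleton.elim (α := PrimeSpectrum k) _ _)
  haveI := DimLib.discreteTopology_of_finite p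
  have h0 : topologicalKrullDim X ≤ 0 := by
    rw [DimLib.topologicalKrullDim_eq_iSup p]
    refine iSup_le fun x => ?_
    rw [(DimLib.ptDim_eq_zero_iff p x).2 (isClosed_discrete _)]
    simp
  exact absurd hdim (not_lt.2 h0)

/-- The complement of a nonempty affine open in an irreducible proper scheme of dimension `≥ 2` is connected. -/
theorem isConnected_compl_affine {k : Type u} [Field k] {X : Scheme.{u}} (p : X ⟶ Spec (CommRingCat.of k))
    [IsProper p] [IrreducibleSpace X] {U : X.Opens} (hU : IsAffineOpen U) (hne : (U : Set X).Nonempty)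
    (hdim : (2 : WithBot ℕ∞) ≤ topologicalKrullDim X) : _root_.IsConnected ((U : Set X)ᶜ) := by
  refine ⟨compl_affine_nonempty p hU (lt_of_lt_of_le (by norm_num) hdim), ?_⟩
  let I : X.IdealSheafData := Scheme.IdealSheafData.vanishingIdeal ⊤
  haveI : IsReduced I.subscheme := Props12.isReduced_subscheme_vanishingIdeal _
  have hrange : Set.range I.subschemeι = Set.univ := by
    rw [Scheme.IdealSheafData.range_subschemeι]
    exact Set.eq_univ_of_univ_subset (SetLike.coe_subset_coe.mpr
      (Scheme.IdealSheafData.le_support_iff_le_vanishingIdeal.mpr le_rfl : (⊤ : TopologicalSpace.Closeds X) ≤ _))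
  let e : I.subscheme ≃ₜ X := I.subschemeι.isEmbedding.toHomeomorph.trans
    ((Homeomorph.setCongr hrange).trans (Homeomorph.Set.univ X))
  haveI : IrreducibleSpace I.subscheme := e.irreducibleSpace_iff.2 inferInstance
  haveI : AlgebraicGeometry.IsIntegral I.subscheme := isIntegral_of_irreducibleSpace_of_isReduced _
  have hs : Function.Surjective I.subschemeι := Set.range_eq_univ.1 hrange
  have h2 := isPreconnected_compl_affine_integral (I.subschemeι ≫ p) (hU.preimage I.subschemeι)
    (by obtain ⟨u, hu⟩ := hne; obtain ⟨v, rfl⟩ := hs u; exact ⟨v, hu⟩)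
    (hdim.trans (le_of_eq (IsHomeomorph.topologicalKrullDim_eq _ e.isHomeomorph).symm))
  have h3 := h2.image _ I.subschemeι.continuous.continuousOn
  rwa [show (I.subschemeι '' ((I.subschemeι ⁻¹ᵁ U : I.subscheme.Opens) : Set I.subscheme)ᶜ) = (U : Set X)ᶜ by
    rw [Scheme.Hom.coe_preimage, ← Set.preimage_compl, Set.image_preimage_eq _ hs]] at h3

end Groth.Agent.CommAlg4
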