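import Mathlib

/-!
# Orders of vanishing under isomorphisms of local rings and open immersions
-/

set_option autoImplicit false
set_option linter.all false
set_option backward.isDefEq.respectTransparency.types false

universe u v w

open AlgebraicGeometry CategoryTheory

namespace Groth.Agent.CommAlg4.OrdTransfer

theorem ringOrd_ringEquiv {R S : Type u} [CommRing R] [CommRing S] (e : R ≃+* S) (a : R) :
    Ring.ord S (e a) = Ring.ord R a := by
  letI := e.toRingHom.toAlgebra
  have hs : Function.Surjective (algebraMap R S) := e.surjective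
  rw [Ring.ord, Ring.ord, ← Module.length_eq_of_surjective (S := R) (R := S) (M := S ⧸ Ideal.span {e a}) hs]
  let eA : R ≃ₐ[R] S := AlgEquiv.ofRingEquiv (f := e) fun _ => rfl
  exact (Ideal.quotientEquivAlg (Ideal.span {a}) (Ideal.span {e a}) eA (by
    rw [Ideal.map_span, Set.image_singleton]; rfl)).toLinearEquiv.length_eq.symm

theorem ordFrac_ringEquiv {A B : Type u} [CommRing A] [CommRing B] [IsDomain A] [IsDomain B]
    [IsNoetherianRing A] [IsNoetherianRing B] [Ring.KrullDimLE 1 A] [Ring.KrullDimLE 1 B]
    {K L : Type v} [Field K] [Field L] [Algebra A K] [Algebra B L] [IsFractionRing A K] [IsFractionRing B L]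
    (e : A ≃+* B) (E : K →+* L) (h : ∀ a, E (algebraMap A K a) = algebraMap B L (e a)) (z : K) :
    Ring.ordFrac B (E z) = Ring.ordFrac A z := by
  have key : ∀ a : A, Ring.ordFrac B (E (algebraMap A K a)) = Ring.ordFrac A (algebraMap A K a) := fun a => by
    rw [h]
    rcases eq_or_ne a 0 with rfl | ha
    · simp
    · rw [Ring.ordFrac_eq_ord B ((map_ne_zero_iff _ e.injective).2 ha), Ring.ordFrac_eq_ord A ha,
        Ring.ordMonoidWithZeroHom_eq_ord (mem_nonZeroDivisors_of_ne_zero ((map_ne_zero_iff _ e.injective).2 ha)),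
        Ring.ordMonoidWithZeroHom_eq_ord (mem_nonZeroDivisors_of_ne_zero ha), ringOrd_ringEquiv]
  obtain ⟨a, b, hb, rfl⟩ := IsFractionRing.div_surjective A z
  rw [map_div₀, map_div₀, map_div₀, key, key]

variable {X Y : Scheme.{u}}

theorem exists_map_functionField [IsIntegral X] [IsIntegral Y] [IsLocallyNoetherian X] [IsLocallyNoetherian Y]
    (j : X ⟶ Y) [IsOpenImmersion j] :
    ∃ E : Y.functionField →+* X.functionField, Function.Bijective E ∧
      ∀ (x : X) (f : Y.functionField), Scheme.ord (E f) x = Scheme.ord f (j x) := by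
  have hg : j (genericPoint X) = genericPoint Y := genericPoint_eq_of_isOpenImmersion j
  have hs : j (genericPoint X) ⤳ genericPoint Y := hg ▸ specializes_rfl
  let E' := Y.presheaf.stalkSpecializes hs ≫ j.stalkMap (genericPoint X)
  have hiso : IsIso (Y.presheaf.stalkSpecializes hs) := by
    refine ⟨Y.presheaf.stalkSpecializes (genericPoint_specializes _), ?_, ?_⟩ <;>
      rw [TopCat.Presheaf.stalkSpecializes_comp, TopCat.Presheaf.stalkSpecializes_refl]
  have hbij : Function.Bijective E'.hom := (asIso E').commRingCatIsoToRingEquiv.bijective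
  refine ⟨E'.hom, hbij, fun x f => ?_⟩
  by_cases hx : Order.coheight x = 1
  swap
  · rw [Scheme.ord_eq_zero_of_coheight_neq_one hx, Scheme.ord_eq_zero_of_coheight_neq_one (by rw [coheight_eq_of_isOpenImmersion j]; exact hx)]
  have hjx : Order.coheight (j x) = 1 := by rw [coheight_eq_of_isOpenImmersion j]; exact hx
  haveI : Ring.KrullDimLE 1 (X.presheaf.stalk x) := krullDimLE_of_coheight_le hx.le
  haveI : Ring.KrullDimLE 1 (Y.presheaf.stalk (j x)) := krullDimLE_of_coheight_le hjx.le
  rw [Scheme.ord_eq_ordHom_of_coheight_eq_one hx, Scheme.ord_eq_ordHom_of_coheight_eq_one hjx]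
  congr 2
  refine ordFrac_ringEquiv (A := Y.presheaf.stalk (j x)) (B := X.presheaf.stalk x)
    (asIso (j.stalkMap x)).commRingCatIsoToRingEquiv E'.hom (fun a => ?_) f
  have key := Scheme.Hom.stalkSpecializes_stalkMap_apply j (genericPoint X) x (genericPoint_specializes x) a
  show E'.hom ((Y.presheaf.stalkSpecializes (genericPoint_specializes (j x))).hom a) =
    (X.presheaf.stalkSpecializes (genericPoint_specializes x)).hom ((j.stalkMap x).hom a)
  refine Eq.trans ?_ key
  show (j.stalkMap (genericPoint X)).hom ((Y.presheaf.stalkSpecializes hs).hom ((Y.presheaf.stalkSpecializes (genericPoint_specializes (j x))).hom a)) = _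
  rw [← CommRingCat.comp_apply (Y.presheaf.stalkSpecializes (genericPoint_specializes (j x))), TopCat.Presheaf.stalkSpecializes_comp]

end Groth.Agent.CommAlg4.OrdTransfer
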