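import Mathlib
import Groth.Prelude.Def_FlatCA
import Groth.Prelude.Def_Found
import Groth.Agent.CAlgH3.FiberMod

/-! Universal injectivity of the map to the adic completion. -/
set_option autoImplicit false
universe u
open TensorProduct

namespace Groth.Agent.CommAlg4

theorem univInj_of_forall_finite {R M N : Type u} [CommRing R] [AddCommGroup M] [Module R M]
    [AddCommGroup N] [Module R N] (l : M →ₗ[R] N)
    (h : ∀ (Q : Type u) [AddCommGroup Q] [Module R Q] [Module.Finite R Q], Function.Injective (l.lTensor Q)) :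
    FlatCA.UnivInj R l := by
  intro Q _ _
  refine (injective_iff_map_eq_zero _).2 fun x hx => ?_
  obtain ⟨Q₁, hQ₁, hsub⟩ := TensorProduct.exists_finite_submodule_left_of_setFinite
    ({x} : Set (Q ⊗[R] M)) (Set.finite_singleton x)
  obtain ⟨y, rfl⟩ := hsub rfl
  have h1 : Q₁.subtype.rTensor N (l.lTensor Q₁ y) = Q₁.subtype.rTensor N 0 := by
    rw [map_zero, ← hx]
    exact LinearMap.congr_fun (by rw [LinearMap.rTensor_comp_lTensor, LinearMap.lTensor_comp_rTensor] :
      Q₁.subtype.rTensor N ∘ₗ l.lTensor Q₁ = l.lTensor Q ∘ₗ Q₁.subtype.rTensor M) y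
  obtain ⟨Q₂, hQ₂, hle, h2⟩ := (Module.Finite.iff_fg.1 hQ₁).exists_rTensor_fg_inclusion_eq h1
  have : Module.Finite R Q₂ := Module.Finite.iff_fg.2 hQ₂
  have h3 : l.lTensor Q₂ ((Q₁.inclusion hle).rTensor M y) = 0 := by
    rw [map_zero] at h2
    rw [← h2]
    exact LinearMap.congr_fun (by rw [LinearMap.rTensor_comp_lTensor, LinearMap.lTensor_comp_rTensor] :
      l.lTensor Q₂ ∘ₗ (Q₁.inclusion hle).rTensor M = (Q₁.inclusion hle).rTensor N ∘ₗ l.lTensor Q₁) y
  have h4 : (Q₁.inclusion hle).rTensor M y = 0 := h Q₂ (by rw [h3, map_zero])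
  rw [show Q₁.subtype = Q₂.subtype.comp (Q₁.inclusion hle) from rfl, LinearMap.rTensor_comp,
    LinearMap.comp_apply, h4, map_zero]

variable {R S : Type u} [CommRing R] [CommRing S] [Algebra R S] {N : Type u} [AddCommGroup N]
  [Module S N] [Module R N] [IsScalarTower R S N]

theorem mem_iInf_of_completion_tensor_eq_zero (I : Ideal R) {Q : Type u} [AddCommGroup Q] [Module R Q]
    (x : N ⊗[R] Q) (hx : (AdicCompletion.of I N).rTensor Q x = 0) :
    x ∈ (⨅ n : ℕ, (I.map (algebraMap R S)) ^ n • ⊤ : Submodule S (N ⊗[R] Q)) := by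
  refine Submodule.mem_iInf _ |>.2 fun n => ?_
  have h1 : ((I ^ n • ⊤ : Submodule R N).mkQ.rTensor Q) x = 0 := by
    rw [← AdicCompletion.eval_comp_of (I := I), LinearMap.rTensor_comp, LinearMap.comp_apply, hx, map_zero]
  obtain ⟨z, rfl⟩ := (rTensor_exact Q (LinearMap.exact_subtype_mkQ (I ^ n • ⊤ : Submodule R N))
    (Submodule.mkQ_surjective _) x).1 h1
  clear h1 hx
  induction z using TensorProduct.induction_on with
  | zero => simp
  | add a b ha hb => rw [map_add]; exact add_mem ha hb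
  | tmul m q =>
    obtain ⟨m, hm⟩ := m
    show m ⊗ₜ[R] q ∈ _
    refine Submodule.smul_induction_on (p := fun m => m ⊗ₜ[R] q ∈ ((I.map (algebraMap R S)) ^ n • ⊤ : Submodule S (N ⊗[R] Q)))
      hm (fun r hr m' _ => ?_) (fun a b ha hb => by rw [TensorProduct.add_tmul]; exact add_mem ha hb)
    rw [← algebraMap_smul S r m', ← TensorProduct.smul_tmul', ← Ideal.map_pow]
    exact Submodule.smul_mem_smul (Ideal.mem_map_of_mem _ hr) Submodule.mem_top

theorem finite_tensor [Module.Finite S N] (Q : Type u) [AddCommGroup Q] [Module R Q] [Module.Finite R Q] :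
    Module.Finite S (N ⊗[R] Q) :=
  Module.Finite.equiv (AlgebraTensorModule.cancelBaseChange R S S N Q)

theorem univInj_completion_of_assoc [IsNoetherianRing S] [Module.Finite S N] (I : Ideal R)
    (h : ∀ (Q : Type u) [AddCommGroup Q] [Module R Q], Module.Finite R Q →
      ∀ q ∈ associatedPrimes S (N ⊗[R] Q), I.map (algebraMap R S) ⊔ q ≠ ⊤) :
    FlatCA.UnivInj R (AdicCompletion.of I N) := by
  refine univInj_of_forall_finite _ fun Q _ _ hQf => (LinearMap.lTensor_inj_iff_rTensor_inj Q _).2 ?_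
  refine (injective_iff_map_eq_zero _).2 fun x hx => by_contra fun hx0 => ?_
  have := finite_tensor (R := R) (S := S) (N := N) Q
  obtain ⟨r, hr⟩ := ((I.map (algebraMap R S)).mem_iInf_smul_pow_eq_bot_iff x).1
    (mem_iInf_of_completion_tensor_eq_zero I x hx)
  obtain ⟨P, hP, hle⟩ := exists_le_isAssociatedPrime_of_isNoetherianRing (R := S) x hx0
  refine h Q hQf P hP ((Ideal.eq_top_iff_one _).2 ?_)
  have h1 : 1 - (r : S) ∈ P := hle (by
    rw [Submodule.mem_colon_singleton, Submodule.mem_bot, sub_smul, one_smul, hr, sub_self])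
  have := Submodule.add_mem_sup (S := I.map (algebraMap R S)) r.2 h1
  rwa [add_sub_cancel] at this

open CAlgH3 in
theorem fiberIdeal_mem_of_mem_ass (p : Ideal R) [p.IsPrime] (q : Ideal S) [q.IsPrime]
    (hq : q.comap (algebraMap R S) = p) (h : q ∈ FlatCA.ass S (FlatCA.fiberMod p S N)) :
    FlatCA.fiberIdeal p q ∈ associatedPrimes (p.Fiber S) (FlatCA.fiberMod p S N) := by
  let := Algebra.TensorProduct.rightAlgebra (R := R) (A := p.ResidueField) (B := S)
  obtain ⟨Q, hQ, hQq⟩ := (FiberMod.ass_fiber_iff p q hq).1 h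
  have hmap : FlatCA.fiberIdeal p q = Q := by
    show q.map (algebraMap S (p.Fiber S)) = Q
    refine le_antisymm (by rw [← hQq]; exact Ideal.map_comap_le) fun f hf => ?_
    obtain ⟨s, hs, t, ht⟩ := FiberMod.exists_ι_mul_eq p f
    refine (Ideal.unit_mul_mem_iff_mem _ (FiberMod.isUnit_ι p hs)).1 ?_
    rw [ht]
    refine Ideal.mem_map_of_mem _ ?_
    rw [← hQq, Ideal.mem_comap, ← ht]
    exact Ideal.mul_mem_left _ _ hf
  rw [hmap]
  obtain ⟨hp, z, hz⟩ := mem_ass.1 hQ
  exact ⟨hp, z, by rw [colon_bot_singleton, ← hz, hp.radical]⟩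

open CAlgH3 in
theorem mem_ass_of_mem_associatedPrimes {A M : Type u} [CommRing A] [IsNoetherianRing A] [AddCommGroup M]
    [Module A M] {q : Ideal A} (hq : q ∈ associatedPrimes A M) : q ∈ FlatCA.ass A M := by
  obtain ⟨hp, x, hx⟩ := (isAssociatedPrime_iff).1 hq
  exact mem_ass.2 ⟨hp, x, by rw [hx, colon_bot_singleton]⟩

open Pointwise in
theorem isCountablyGenerated_of_finiteType [Algebra.FiniteType R S] [Module.Finite S N] :
    CAlg.IsCountablyGenerated R N := by
  obtain ⟨n, f, hf⟩ := Algebra.FiniteType.iff_quotient_mvPolynomial''.1 ‹Algebra.FiniteType R S›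
  obtain ⟨G, hG⟩ := Module.Finite.fg_top (R := S) (M := N)
  let T : Set S := Set.range fun m : Fin n →₀ ℕ => f (MvPolynomial.monomial m 1)
  have hT : Submodule.span R T = ⊤ := by
    have h1 : T = f.toLinearMap '' Set.range (MvPolynomial.basisMonomials (Fin n) R) := by
      rw [← Set.range_comp, MvPolynomial.coe_basisMonomials]; rfl
    rw [h1, Submodule.span_image, Module.Basis.span_eq, Submodule.map_top, LinearMap.range_eq_top]
    exact hf
  refine ⟨T • (G : Set N), (Set.countable_range _).image2 G.countable_toSet _, ?_⟩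
  rw [Submodule.span_smul_of_span_eq_top hT, hG, Submodule.restrictScalars_top]

end Groth.Agent.CommAlg4
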