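import Mathlib.RingTheory.WittVector.Teichmuller
import Mathlib.Algebra.MvPolynomial.Eval
import Mathlib.Tactic

/-!
# Multiplication by a Teichmüller lift

`([t] * x)_n = t ^ p ^ n * x_n`.
-/

set_option linter.all false
set_option autoImplicit false

namespace Groth.Agent.CommAlg4

open WittVector MvPolynomial

variable {p : ℕ} [hp : Fact p.Prime]

theorem teichmuller_mul_coeff_aux {σ : Type*} (t : MvPolynomial σ ℚ) (x : WittVector p (MvPolynomial σ ℚ)) :
    WittVector.teichmuller p t * x = WittVector.mk p fun n => t ^ p ^ n * x.coeff n := by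
  apply (WittVector.ghostMap.bijective_of_invertible p (MvPolynomial σ ℚ)).1
  rw [map_mul]
  funext n
  rw [Pi.mul_apply, ghostMap_apply, ghostMap_apply, ghostMap_apply, ghostComponent_teichmuller,
    ghostComponent_apply, ghostComponent_apply, aeval_wittPolynomial, aeval_wittPolynomial, Finset.mul_sum]
  refine Finset.sum_congr rfl fun i hi => ?_
  rw [Finset.mem_range] at hi
  simp only [WittVector.coeff_mk, mul_pow, ← pow_mul, ← pow_add, Nat.add_sub_cancel' (Nat.lt_succ_iff.mp hi)]
  ring

theorem teichmuller_mul_coeff_aux' {σ : Type*} (t : MvPolynomial σ ℤ) (x : WittVector p (MvPolynomial σ ℤ)) :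
    WittVector.teichmuller p t * x = WittVector.mk p fun n => t ^ p ^ n * x.coeff n := by
  apply WittVector.map_injective (MvPolynomial.map (Int.castRingHom ℚ))
    (MvPolynomial.map_injective _ Int.cast_injective)
  rw [map_mul, WittVector.map_teichmuller, teichmuller_mul_coeff_aux]
  ext n
  simp [WittVector.map_coeff]

/-- The coefficients of `[t] * x`. -/
theorem teichmuller_mul_coeff {R : Type*} [CommRing R] (t : R) (x : WittVector p R) (n : ℕ) :
    (WittVector.teichmuller p t * x).coeff n = t ^ p ^ n * x.coeff n := by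
  let f : MvPolynomial (Option ℕ) ℤ →+* R :=
    MvPolynomial.eval₂Hom (Int.castRingHom R) (fun o => o.elim t x.coeff)
  have ht : f (X none) = t := eval₂Hom_X' _ _ _
  have hx : WittVector.map f (WittVector.mk p fun i => X (some i)) = x := by
    ext i
    rw [WittVector.map_coeff, WittVector.coeff_mk]
    exact eval₂Hom_X' _ _ _
  conv_lhs => rw [← ht, ← hx, ← WittVector.map_teichmuller, ← map_mul, WittVector.map_coeff,
    teichmuller_mul_coeff_aux', WittVector.coeff_mk, WittVector.coeff_mk, map_mul, map_pow, ht]
  congr 1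
  exact eval₂Hom_X' _ _ _

end Groth.Agent.CommAlg4
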