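import Mathlib
import Groth.Prelude.Def_DCoh2
import Groth.Agent.DCat.RFTri
import Groth.Agent.DCat.KHomLimits
import Mathlib.Algebra.Homology.DerivedCategory.Fractions
import Mathlib.Algebra.Homology.HomologicalComplexLimits

/-! Exact countable products and the derived category. -/

set_option autoImplicit false
set_option backward.isDefEq.respectTransparency false
set_option backward.defeqAttrib.useBackward true
set_option linter.style.haveILetI false

universe t w w' v v' u u'

open CategoryTheory CategoryTheory.Limits HomologicalComplex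

namespace Groth.Agent.CommAlg4.ExactProd

variable {T : Type t} {B : Type u} [Category.{v} B] [Abelian B]

/-- A family of complexes as a complex of families. -/
noncomputable def fam (Y : T → CochainComplex B ℤ) : CochainComplex (Discrete T ⥤ B) ℤ where
  X p := Discrete.functor fun n => (Y n).X p
  d p q := Discrete.natTrans fun n => (Y n.as).d p q
  shape p q h := by ext n; exact (Y n.as).shape p q h
  d_comp_d' p q r _ _ := by ext n; simp

/-- A family of maps of complexes as a map of complexes of families. -/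
noncomputable def famMap {Y Z : T → CochainComplex B ℤ} (s : ∀ n, Y n ⟶ Z n) : fam Y ⟶ fam Z where
  f p := Discrete.natTrans fun n => (s n.as).f p
  comm' p q _ := by ext n; exact (s n.as).comm p q

theorem quasiIso_famMap {Y Z : T → CochainComplex B ℤ} (s : ∀ n, Y n ⟶ Z n) (hs : ∀ n, QuasiIso (s n)) :
    QuasiIso (famMap s) := by
  rw [quasiIso_iff]
  intro p
  rw [quasiIsoAt_iff_isIso_homologyMap, NatTrans.isIso_iff_isIso_app]
  intro n
  let E := (evaluation (Discrete T) B).obj n
  have : IsIso (homologyMap ((E.mapHomologicalComplex (ComplexShape.up ℤ)).map (famMap s)) p) := by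
    have := hs n.as
    exact (inferInstance : IsIso (homologyMap (s n.as) p))
  have h := (ShortComplex.mapHomologyIso ((fam Y).sc p) E).hom ≫ E.map (homologyMap (famMap s) p)
  have e : homologyMap ((E.mapHomologicalComplex (ComplexShape.up ℤ)).map (famMap s)) p ≫
      (((fam Z).sc p).mapHomologyIso E).hom =
      (((fam Y).sc p).mapHomologyIso E).hom ≫ E.map (homologyMap (famMap s) p) :=
    ShortComplex.mapHomologyIso_hom_naturality ((shortComplexFunctor _ _ p).map (famMap s)) E
  have : IsIso ((((fam Y).sc p).mapHomologyIso E).hom ≫ E.map (homologyMap (famMap s) p)) := by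
    rw [← e]; infer_instance
  exact IsIso.of_isIso_comp_left (((fam Y).sc p).mapHomologyIso E).hom (E.map (homologyMap (famMap s) p))

variable [HasLimitsOfShape (Discrete T) B] [(lim : (Discrete T ⥤ B) ⥤ B).PreservesEpimorphisms]

instance : (lim : (Discrete T ⥤ B) ⥤ B).Additive where
  map_add {X Y f g} := by
    apply limit.hom_ext
    intro j
    simp

instance : (lim : (Discrete T ⥤ B) ⥤ B).PreservesHomology := by
  haveI := (constLimAdj (J := Discrete T) (C := B)).rightAdjoint_preservesLimits
  exact Functor.preservesHomology_of_preservesEpis_and_kernels _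

/-- The termwise product. -/
noncomputable def prodFan (Y : T → CochainComplex B ℤ) : Fan Y :=
  Fan.mk (((lim : (Discrete T ⥤ B) ⥤ B).mapHomologicalComplex _).obj (fam Y)) fun n =>
    { f := fun p => limit.π (Discrete.functor fun n => (Y n).X p) ⟨n⟩
      comm' := fun p q _ => by
        exact (limMap_π (Discrete.natTrans fun m => (Y m.as).d p q :
          Discrete.functor (fun m => (Y m).X p) ⟶ Discrete.functor (fun m => (Y m).X q)) ⟨n⟩).symm }

/-- It is a product. -/
noncomputable def isLimitProdFan (Y : T → CochainComplex B ℤ) : IsLimit (prodFan Y) :=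
  isLimitOfEval _ _ fun p =>
    (isLimitMapConeFanMkEquiv (eval B (ComplexShape.up ℤ) p) Y _).symm
      (Fan.IsLimit.mk _ (fun c => limit.lift _ (Fan.mk c.pt c.proj))
        (fun c j => limit.lift_π (Fan.mk c.pt c.proj) ⟨j⟩)
        (fun c m hm => limit.hom_ext fun j => (hm j.as).trans (limit.lift_π (Fan.mk c.pt c.proj) j).symm))

/-- The product of a family of maps. -/
noncomputable def prodMap {Y Z : T → CochainComplex B ℤ} (s : ∀ n, Y n ⟶ Z n) :
    (prodFan Y).pt ⟶ (prodFan Z).pt :=
  ((lim : (Discrete T ⥤ B) ⥤ B).mapHomologicalComplex _).map (famMap s)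

theorem prodMap_proj {Y Z : T → CochainComplex B ℤ} (s : ∀ n, Y n ⟶ Z n) (n : T) :
    prodMap s ≫ (prodFan Z).proj n = (prodFan Y).proj n ≫ s n := by
  ext p
  exact limMap_π ((famMap s).f p) ⟨n⟩

theorem quasiIso_prodMap {Y Z : T → CochainComplex B ℤ} (s : ∀ n, Y n ⟶ Z n) (hs : ∀ n, QuasiIso (s n)) :
    QuasiIso (prodMap s) := by
  haveI := quasiIso_famMap s hs
  exact inferInstanceAs (QuasiIso (((lim : (Discrete T ⥤ B) ⥤ B).mapHomologicalComplex _).map (famMap s)))

variable [HasDerivedCategory.{w} B]

/-- The quotient functor to the homotopy category. -/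
abbrev qB : CochainComplex B ℤ ⥤ HomotopyCategory B (ComplexShape.up ℤ) :=
  HomotopyCategory.quotient B (ComplexShape.up ℤ)

/-- Termwise products are products in the derived category. -/
noncomputable def isLimitQh (Y : T → CochainComplex B ℤ) :
    IsLimit (Fan.mk (DerivedCategory.Qh.obj (qB.obj (prodFan Y).pt))
      (fun n => DerivedCategory.Qh.map (qB.map ((prodFan Y).proj n)))) := by
  let Qh := DerivedCategory.Qh (C := B)
  let W := HomotopyCategory.quasiIso B (ComplexShape.up ℤ)
  have hex : ∀ (X : HomotopyCategory B (ComplexShape.up ℤ)) (φ : ∀ n, Qh.obj X ⟶ Qh.obj (qB.obj (Y n))),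
      ∃ ψ : Qh.obj X ⟶ Qh.obj (qB.obj (prodFan Y).pt),
        ∀ n, ψ ≫ Qh.map (qB.map ((prodFan Y).proj n)) = φ n := by
    intro X φ
    choose z hz using fun n => Localization.exists_leftFraction Qh W (φ n)
    let Z : T → CochainComplex B ℤ := fun n => (z n).Y'.as
    let s : ∀ n, Y n ⟶ Z n := fun n => qB.preimage (X := Y n) (Y := Z n) (z n).s
    have hs' : ∀ n, qB.map (s n) = (z n).s := fun n => qB.map_preimage _
    have hs : ∀ n, QuasiIso (s n) := fun n => by
      rw [← mem_quasiIso_iff, ← HomotopyCategory.quotient_map_mem_quasiIso_iff, hs']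
      exact (z n).hs
    haveI hP := quasiIso_prodMap s hs
    haveI : IsIso (Qh.map (qB.map (prodMap s))) :=
      Localization.inverts Qh W _ ((HomotopyCategory.quotient_map_mem_quasiIso_iff _).2
        (by rwa [mem_quasiIso_iff]))
    let hK := DCat.isLimitFanQuotient (isLimitProdFan Z)
    refine ⟨Qh.map (Fan.IsLimit.lift hK (fun n => (z n).f)) ≫ inv (Qh.map (qB.map (prodMap s))), fun n => ?_⟩
    haveI : IsIso (Qh.map (z n).s) := Localization.inverts Qh W _ (z n).hs
    rw [hz n, Category.assoc, ← cancel_mono (Qh.map (z n).s), MorphismProperty.LeftFraction.map_comp_map_s]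
    simp only [Category.assoc, ← Functor.map_comp, ← hs']
    rw [← prodMap_proj, Functor.map_comp, Functor.map_comp, IsIso.inv_hom_id_assoc, ← Functor.map_comp]
    exact congrArg Qh.map (Fan.IsLimit.fac hK _ n)
  have huniq : ∀ (X : HomotopyCategory B (ComplexShape.up ℤ)) (ψ : Qh.obj X ⟶ Qh.obj (qB.obj (prodFan Y).pt)),
      (∀ n, ψ ≫ Qh.map (qB.map ((prodFan Y).proj n)) = 0) → ψ = 0 := by
    intro X ψ h
    obtain ⟨r, hr⟩ := Localization.exists_rightFraction Qh W ψ
    haveI : IsIso (Qh.map r.s) := Localization.inverts Qh W _ r.hs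
    have hf : ∀ n, Qh.map (r.f ≫ qB.map ((prodFan Y).proj n)) = Qh.map 0 := fun n => by
      rw [Functor.map_comp, Functor.map_zero]
      have := Qh.map r.s ≫= h n
      rwa [hr, comp_zero, MorphismProperty.RightFraction.map_s_comp_map_assoc] at this
    choose Z₀ t ht hcomp using fun n => (MorphismProperty.map_eq_iff_postcomp Qh W _ _).1 (hf n)
    let Z : T → CochainComplex B ℤ := fun n => (Z₀ n).as
    let s : ∀ n, Y n ⟶ Z n := fun n => qB.preimage (X := Y n) (Y := Z n) (t n)
    have hs' : ∀ n, qB.map (s n) = t n := fun n => qB.map_preimage _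
    have hs : ∀ n, QuasiIso (s n) := fun n => by
      rw [← mem_quasiIso_iff, ← HomotopyCategory.quotient_map_mem_quasiIso_iff, hs']
      exact ht n
    haveI hP := quasiIso_prodMap s hs
    haveI : IsIso (Qh.map (qB.map (prodMap s))) :=
      Localization.inverts Qh W _ ((HomotopyCategory.quotient_map_mem_quasiIso_iff _).2
        (by rwa [mem_quasiIso_iff]))
    let hK := DCat.isLimitFanQuotient (isLimitProdFan Z)
    have h0 : r.f ≫ qB.map (prodMap s) = 0 := Fan.IsLimit.hom_ext hK _ _ fun n => by
      show (r.f ≫ qB.map (prodMap s)) ≫ qB.map ((prodFan Z).proj n) = 0 ≫ _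
      rw [Category.assoc, ← Functor.map_comp, prodMap_proj, Functor.map_comp, hs', ← Category.assoc, hcomp,
        zero_comp, zero_comp]
    rw [← cancel_epi (Qh.map r.s), ← cancel_mono (Qh.map (qB.map (prodMap s))), hr,
      MorphismProperty.RightFraction.map_s_comp_map, ← Functor.map_comp, h0]
    simp
  exact Fan.IsLimit.mk _
    (fun c => (DerivedCategory.Qh.objObjPreimageIso c.pt).inv ≫
      (hex _ fun n => (DerivedCategory.Qh.objObjPreimageIso c.pt).hom ≫ c.proj n).choose)
    (fun c n => by
      show (_ ≫ _) ≫ _ = _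
      exact (Category.assoc _ _ _).trans ((congrArg (_ ≫ ·)
        ((hex _ fun n => (DerivedCategory.Qh.objObjPreimageIso c.pt).hom ≫ c.proj n).choose_spec n)).trans
        (Iso.inv_hom_id_assoc _ _)))
    (fun c m hm => by
      rw [eq_comm, Iso.inv_comp_eq, eq_comm, ← sub_eq_zero]
      refine huniq _ _ fun n => ?_
      rw [Preadditive.sub_comp, Category.assoc,
        (hex _ fun n => (DerivedCategory.Qh.objObjPreimageIso c.pt).hom ≫ c.proj n).choose_spec n, sub_eq_zero]
      exact congrArg (_ ≫ ·) (hm n))

variable {A : Type u'} [Category.{v'} A] [Abelian A] (F : A ⥤ B) [F.Additive]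
  [HasLimitsOfShape (Discrete T) A] [PreservesLimitsOfShape (Discrete T) F]

/-- `K(A) ⥤ D(B)` commutes with products. -/
theorem preservesLimit_mapHomotopy (X : T → HomotopyCategory A (ComplexShape.up ℤ)) :
    PreservesLimit (Discrete.functor X) (F.mapHomotopyCategory (ComplexShape.up ℤ) ⋙ DerivedCategory.Qh) := by
  let Y : T → CochainComplex A ℤ := fun n => (X n).as
  let c : Fan Y := limit.cone (Discrete.functor Y)
  let hc : IsLimit c := limit.isLimit _
  refine preservesLimit_of_preserves_limit_cone (DCat.isLimitFanQuotient hc) ?_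
  refine (isLimitMapConeFanMkEquiv _ X _).symm ?_
  let FY : T → CochainComplex B ℤ := fun n => (F.mapHomologicalComplex _).obj (Y n)
  haveI : PreservesLimit (Discrete.functor Y) (F.mapHomologicalComplex (ComplexShape.up ℤ)) :=
    preservesLimit_of_preserves_limit_cone hc (isLimitOfEval _ _ fun p =>
      isLimitOfPreserves F (isLimitOfPreserves (eval A (ComplexShape.up ℤ) p) hc))
  let c' : Fan FY := Fan.mk ((F.mapHomologicalComplex _).obj c.pt) fun n => (F.mapHomologicalComplex _).map (c.proj n)
  let hc' : IsLimit c' := isLimitMapConeFanMkEquiv _ Y _ (isLimitOfPreserves (F.mapHomologicalComplex _)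
    (IsLimit.ofIsoLimit hc (Fan.ext (Iso.refl _) (fun _ => (Category.id_comp _).symm))))
  let e : c'.pt ≅ (prodFan FY).pt := hc'.conePointUniqueUpToIso (isLimitProdFan FY)
  refine IsLimit.ofIsoLimit (isLimitQh FY)
    (Fan.ext ((qB ⋙ DerivedCategory.Qh).mapIso e).symm fun n => ?_)
  show DerivedCategory.Qh.map (qB.map ((prodFan FY).proj n)) =
    DerivedCategory.Qh.map (qB.map e.inv) ≫ DerivedCategory.Qh.map (qB.map (c'.proj n))
  rw [← Functor.map_comp, ← Functor.map_comp]
  exact congrArg _ (congrArg _ (hc'.conePointUniqueUpToIso_inv_comp (isLimitProdFan FY) ⟨n⟩).symm)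

open Pretriangulated in
/-- Triangulated functors commuting with a product preserve the derived limit. -/
theorem isRlim_map {C D : Type*} [Category C] [Category D] [Preadditive C] [HasZeroObject C] [HasShift C ℤ]
    [∀ n : ℤ, (shiftFunctor C n).Additive] [Pretriangulated C] [Preadditive D] [HasZeroObject D] [HasShift D ℤ]
    [∀ n : ℤ, (shiftFunctor D n).Additive] [Pretriangulated D]
    (R : C ⥤ D) [R.CommShift ℤ] [R.IsTriangulated] (K : ℕ → C) (t : ∀ n, K (n + 1) ⟶ K n) [HasProduct K]
    [HasProduct fun n => R.obj (K n)] [PreservesLimit (Discrete.functor K) R] (L : C)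
    (hL : DCoh.IsRlim K t L) : DCoh.IsRlim (fun n => R.obj (K n)) (fun n => R.map (t n)) (R.obj L) := by
  obtain ⟨a, c, hT⟩ := hL
  let e := PreservesProduct.iso R K
  refine ⟨R.map a ≫ e.hom, e.inv ≫ R.map c ≫ (R.commShiftIso (1 : ℤ)).hom.app L, ?_⟩
  refine isomorphic_distinguished _ (R.map_distinguished _ hT) _
    (Triangle.isoMk _ _ (Iso.refl _) e.symm e.symm (by simp [e, -PreservesProduct.iso_hom]) ?_ (by simp [e, -PreservesProduct.iso_hom]))
  dsimp
  refine (Iso.comp_inv_eq e).2 ?_
  rw [Category.assoc, Iso.eq_inv_comp]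
  refine Pi.hom_ext _ _ fun n => ?_
  simp [e, PreservesProduct.iso_hom]

end Groth.Agent.CommAlg4.ExactProd
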