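import Mathlib
import Groth.Agent.KumLib.InvFun

set_option autoImplicit false

/-! Plane curve germs isomorphic to the double line `y ^ 2 = 0`. -/

universe u

namespace Groth.Agent.CommAlg4.DoubleLine

open MvPowerSeries

variable (k : Type u) [Field k]

local notation "T" => MvPowerSeries (Fin 2) k

/-- the linear coefficients -/
noncomputable def lin (j : Fin 2) (f : MvPowerSeries (Fin 2) k) : k := constantCoeff (pderiv k j f)

variable {k}

theorem lin_eq_coeff (j : Fin 2) (f : T) : lin k j f = coeff (Finsupp.single j 1) f := by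
  rw [lin, ← coeff_zero_eq_constantCoeff_apply, coeff_pderiv]
  simp

theorem lin_mul (j : Fin 2) (f g : T) :
    lin k j (f * g) = constantCoeff f * lin k j g + constantCoeff g * lin k j f := by
  simp [lin, Derivation.leibniz]

theorem lin_X (j i : Fin 2) : lin k j (X i : T) = if j = i then 1 else 0 := by
  classical
  rw [lin_eq_coeff, coeff_X]
  simp [Finsupp.single_left_inj]

theorem lin_C_mul (j : Fin 2) (c : k) (f : T) : lin k j (C c * f) = c * lin k j f := by
  rw [lin_mul]
  simp [lin]

theorem lin_sub (j : Fin 2) (f g : T) : lin k j (f - g) = lin k j f - lin k j g := by simp [lin]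

theorem exists_decomp {f : T} (hf : constantCoeff f = 0) : ∃ a b : T, f = a * X 0 + b * X 1 := by
  classical
  let g : T := fun m => if m 0 = 0 then coeff m f else 0
  have hg : ∀ m, coeff m g = if m 0 = 0 then coeff m f else 0 := fun m => rfl
  obtain ⟨b, hb⟩ : (X 1 : T) ∣ g := by
    rw [X_dvd_iff]
    intro m hm
    rw [hg]
    split_ifs with h
    · have : m = 0 := by
        ext i
        fin_cases i
        · exact h
        · exact hm
      rw [this, coeff_zero_eq_constantCoeff_apply, hf]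
    · rfl
  obtain ⟨a, ha⟩ : (X 0 : T) ∣ f - g := by
    rw [X_dvd_iff]
    intro m hm
    rw [map_sub, hg, if_pos hm, sub_self]
  refine ⟨a, b, ?_⟩
  rw [mul_comm a, mul_comm b, ← ha, ← hb, sub_add_cancel]

/-- restriction to the axis -/
noncomputable def axis : MvPowerSeries (Fin 2) k →+* PowerSeries k where
  toFun f := PowerSeries.mk fun n => coeff (Finsupp.single 0 n) f
  map_one' := by
    classical
    ext n
    simp [coeff_one, PowerSeries.coeff_one]
  map_zero' := by ext n; simp
  map_add' f g := by ext n; simp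
  map_mul' f g := by
    classical
    ext n
    rw [PowerSeries.coeff_mk, coeff_mul, PowerSeries.coeff_mul, Finsupp.antidiagonal_single,
      Finset.sum_map]
    simp

theorem coeff_axis (f : T) (n : ℕ) :
    PowerSeries.coeff n (axis f) = coeff (Finsupp.single 0 n) f := by simp [axis]

theorem axis_eq_zero_iff (f : T) : axis f = 0 ↔ f ∈ Ideal.span {(X 1 : T)} := by
  classical
  rw [Ideal.mem_span_singleton, X_dvd_iff]
  constructor
  · intro h m hm
    have : m = Finsupp.single 0 (m 0) := by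
      ext i
      fin_cases i
      · simp
      · simpa using hm
    rw [this, ← coeff_axis, h, map_zero]
  · intro h
    ext n
    rw [coeff_axis, h _ (by simp), map_zero]

theorem axis_surjective : Function.Surjective (axis : T → PowerSeries k) := by
  classical
  intro p
  let f : T := fun m => if m 1 = 0 then PowerSeries.coeff (m 0) p else 0
  have hf : ∀ m, coeff m f = if m 1 = 0 then PowerSeries.coeff (m 0) p else 0 := fun m => rfl
  refine ⟨f, ?_⟩
  ext n
  rw [coeff_axis, hf]
  simp

theorem axis_X0 : axis (X 0 : T) = PowerSeries.X := by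
  classical
  ext n
  rw [coeff_axis, coeff_X, PowerSeries.coeff_X]
  simp only [(Finsupp.single_injective (0 : Fin 2)).eq_iff]

theorem constantCoeff_axis (f : T) : PowerSeries.constantCoeff (axis f) = constantCoeff f := by
  rw [← PowerSeries.coeff_zero_eq_constantCoeff_apply, coeff_axis, Finsupp.single_zero,
    coeff_zero_eq_constantCoeff_apply]

theorem near_of_lin {a b : T} (ha : constantCoeff a = 0) (hb : constantCoeff b = 0)
    (h : ∀ j, lin k j a = lin k j b) : KumLib.Near 1 a b := by
  intro d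
  refine ⟨fun hd => ?_, fun hd => ?_⟩
  · obtain rfl : d = 0 := (Finsupp.degree_eq_zero_iff d).1 (by omega)
    rw [coeff_zero_eq_constantCoeff_apply, hb]
  · have hd' : d 0 + d 1 ≤ 1 := by
      simpa [Finsupp.degree_eq_sum, Fin.sum_univ_two] using hd
    rcases Nat.lt_or_ge (d 0 + d 1) 1 with hlt | hge
    · obtain rfl : d = 0 := by
        ext i
        fin_cases i
        · change d 0 = 0; omega
        · change d 1 = 0; omega
      rw [coeff_zero_eq_constantCoeff_apply, coeff_zero_eq_constantCoeff_apply, ha, hb]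
    · have : d = Finsupp.single 0 1 ∨ d = Finsupp.single 1 1 := by
        rcases Nat.eq_zero_or_pos (d 0) with h0 | h0
        · right
          ext i
          fin_cases i
          · simpa using h0
          · simp; omega
        · left
          ext i
          fin_cases i
          · simp; omega
          · simp; omega
      rcases this with rfl | rfl <;> rw [← lin_eq_coeff, ← lin_eq_coeff, h]

theorem sb_mul {b : Fin 2 → T} (hs : HasSubst b) (f g : T) : subst b (f * g) = subst b f * subst b g := by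
  rw [← substAlgHom_apply hs, map_mul, substAlgHom_apply, substAlgHom_apply]

theorem sb_add {b : Fin 2 → T} (hs : HasSubst b) (f g : T) : subst b (f + g) = subst b f + subst b g := by
  rw [← substAlgHom_apply hs, map_add, substAlgHom_apply, substAlgHom_apply]

theorem sb_sub {b : Fin 2 → T} (hs : HasSubst b) (f g : T) : subst b (f - g) = subst b f - subst b g := by
  rw [← substAlgHom_apply hs, map_sub, substAlgHom_apply, substAlgHom_apply]

theorem sb_C {b : Fin 2 → T} (hs : HasSubst b) (c : k) : subst b (C c : T) = C c := by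
  rw [← substAlgHom_apply hs, show (C c : T) = algebraMap k T c from rfl, AlgHom.commutes]

theorem exists_algEquiv_of_inverse {b b' : Fin 2 → T} (hb : ∀ i, constantCoeff (b i) = 0)
    (hb' : ∀ i, constantCoeff (b' i) = 0) (h₁ : ∀ i, subst b (b' i) = X i) (h₂ : ∀ i, subst b' (b i) = X i) :
    ∃ φ : T ≃ₐ[k] T, ∀ i, φ (X i) = b i := by
  have hs := hasSubst_of_constantCoeff_zero hb
  have hs' := hasSubst_of_constantCoeff_zero hb'
  have key : ∀ {c c' : Fin 2 → T}, HasSubst c → HasSubst c' → (∀ i, subst c (c' i) = X i) →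
      ∀ f : T, subst c (subst c' f) = f := fun {c c'} h h' he f => by
    rw [subst_comp_subst_apply h' h, funext he, subst_self, id]
  refine ⟨AlgEquiv.ofAlgHom (substAlgHom hs) (substAlgHom hs')
    (AlgHom.ext fun f => ?_) (AlgHom.ext fun f => ?_), fun i => ?_⟩
  · simp only [AlgHom.comp_apply, AlgHom.id_apply, substAlgHom_apply]
    exact key hs hs' h₁ f
  · simp only [AlgHom.comp_apply, AlgHom.id_apply, substAlgHom_apply]
    exact key hs' hs h₂ f
  · change substAlgHom hs (X i) = b i
    rw [substAlgHom_apply, subst_X hs]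

theorem exists_algEquiv_near {a : Fin 2 → T} (ha : ∀ i, constantCoeff (a i) = 0)
    (h : ∀ i j, lin k j (a i) = lin k j (X i)) : ∃ φ : T ≃ₐ[k] T, ∀ i, φ (X i) = a i := by
  have hn : ∀ i, KumLib.Near 1 (a i) (X i) := fun i =>
    near_of_lin (ha i) (constantCoeff_X i) fun j => h i j
  have hs := hasSubst_of_constantCoeff_zero ha
  have hb := KumLib.subst_bijective_of_near hn
  refine ⟨AlgEquiv.ofBijective (substAlgHom hs) (by rw [coe_substAlgHom]; exact hb), fun i => ?_⟩
  rw [AlgEquiv.ofBijective_apply, substAlgHom_apply, subst_X hs]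

/-- A series with nonzero linear part is a coordinate. -/
theorem exists_algEquiv_X_one {ρ : T} (h0 : constantCoeff ρ = 0) (h1 : lin k 0 ρ ≠ 0 ∨ lin k 1 ρ ≠ 0) :
    ∃ φ : T ≃ₐ[k] T, φ (X 1) = ρ := by
  by_cases hc : lin k 1 ρ = 0
  · have hc0 : lin k 0 ρ ≠ 0 := h1.resolve_right (not_not.2 hc)
    set c := lin k 0 ρ with hcdef
    obtain ⟨φ, hφ⟩ := exists_algEquiv_near (a := ![C c⁻¹ * ρ, X 1])
      (by intro i; fin_cases i <;> simp [h0])
      (by intro i j; fin_cases i <;> fin_cases j <;> simp [lin_C_mul, lin_X, ← hcdef, hc, hc0])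
    obtain ⟨ψ, hψ⟩ := exists_algEquiv_of_inverse (b := ![(X 1 : T), C c * X 0]) (b' := ![C c⁻¹ * X 1, X 0])
      (by intro i; fin_cases i <;> simp) (by intro i; fin_cases i <;> simp)
      (by
        have hs : HasSubst ![(X 1 : T), C c * X 0] :=
          hasSubst_of_constantCoeff_zero (by intro i; fin_cases i <;> simp)
        intro i; fin_cases i
        · simp [sb_mul hs, sb_C hs, subst_X hs, ← mul_assoc, ← map_mul, inv_mul_cancel₀ hc0]
        · simp [subst_X hs])
      (by
        have hs : HasSubst ![C c⁻¹ * X 1, (X 0 : T)] :=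
          hasSubst_of_constantCoeff_zero (by intro i; fin_cases i <;> simp)
        intro i; fin_cases i
        · simp [subst_X hs]
        · simp [sb_mul hs, sb_C hs, subst_X hs, ← mul_assoc, ← map_mul, mul_inv_cancel₀ hc0])
    refine ⟨ψ.trans φ, ?_⟩
    rw [AlgEquiv.trans_apply, hψ]
    change φ (C c * X 0) = ρ
    rw [map_mul, hφ]
    rw [show φ (C c) = C c from φ.commutes c]
    change C c * (C c⁻¹ * ρ) = ρ
    rw [← mul_assoc, ← map_mul, mul_inv_cancel₀ hc0, map_one, one_mul]
  · set c₀ := lin k 0 ρ with hc₀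
    set c := lin k 1 ρ with hcdef
    obtain ⟨φ, hφ⟩ := exists_algEquiv_near (a := ![X 0, C c⁻¹ * (ρ - C c₀ * X 0)])
      (by intro i; fin_cases i <;> simp [h0])
      (by intro i j; fin_cases i <;> fin_cases j <;> simp [lin_C_mul, lin_X, lin_sub, ← hcdef, ← hc₀, hc])
    obtain ⟨ψ, hψ⟩ := exists_algEquiv_of_inverse (b := ![(X 0 : T), C c₀ * X 0 + C c * X 1])
      (b' := ![(X 0 : T), C c⁻¹ * (X 1 - C c₀ * X 0)])
      (by intro i; fin_cases i <;> simp) (by intro i; fin_cases i <;> simp)
      (by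
        have hs : HasSubst ![(X 0 : T), C c₀ * X 0 + C c * X 1] :=
          hasSubst_of_constantCoeff_zero (by intro i; fin_cases i <;> simp)
        intro i; fin_cases i
        · simp [subst_X hs]
        · simp [sb_mul hs, sb_C hs, sb_sub hs, sb_add hs, subst_X hs, ← mul_assoc, ← map_mul, inv_mul_cancel₀ hc])
      (by
        have hs : HasSubst ![(X 0 : T), C c⁻¹ * (X 1 - C c₀ * X 0)] :=
          hasSubst_of_constantCoeff_zero (by intro i; fin_cases i <;> simp)
        intro i; fin_cases i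
        · simp [subst_X hs]
        · simp [sb_mul hs, sb_C hs, sb_sub hs, sb_add hs, subst_X hs, ← mul_assoc, ← map_mul, mul_inv_cancel₀ hc])
    refine ⟨ψ.trans φ, ?_⟩
    rw [AlgEquiv.trans_apply, hψ]
    change φ (C c₀ * X 0 + C c * X 1) = ρ
    rw [map_add, map_mul, map_mul, hφ, hφ, show φ (C c) = C c from φ.commutes c,
      show φ (C c₀) = C c₀ from φ.commutes c₀]
    change C c₀ * X 0 + C c * (C c⁻¹ * (ρ - C c₀ * X 0)) = ρ
    rw [← mul_assoc, ← map_mul, mul_inv_cancel₀ hc, map_one, one_mul]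
    ring

theorem isPrime_span {ρ : T} (h0 : constantCoeff ρ = 0) (h1 : lin k 0 ρ ≠ 0 ∨ lin k 1 ρ ≠ 0) :
    (Ideal.span {ρ}).IsPrime := by
  obtain ⟨φ, hφ⟩ := exists_algEquiv_X_one h0 h1
  have hX : (Ideal.span {(X 1 : T)}) = RingHom.ker (axis (k := k)) :=
    Ideal.ext fun f => (axis_eq_zero_iff f).symm
  haveI : (Ideal.span {(X 1 : T)}).IsPrime := hX ▸ RingHom.ker_isPrime _
  rw [← hφ, show Ideal.span {φ (X 1)} = (Ideal.span {(X 1 : T)}).map φ.toRingEquiv by
    rw [Ideal.map_span, Set.image_singleton]; rfl]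
  exact Ideal.map_isPrime_of_equiv _

theorem injective_endo {θ : PowerSeries k →+* PowerSeries k} (hθ : Function.Surjective θ) :
    Function.Injective θ := by
  rw [injective_iff_map_eq_zero]
  intro f hf
  by_contra hne
  have hX : θ PowerSeries.X = 0 := by
    have h := PowerSeries.X_pow_order_mul_divXPowOrder (f := f)
    rw [← h, map_mul, map_pow] at hf
    have hu : IsUnit (θ f.divXPowOrder) :=
      (PowerSeries.isUnit_divided_by_X_pow_order hne).map θ
    exact eq_zero_of_pow_eq_zero (hu.mul_left_eq_zero.1 hf)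
  obtain ⟨z, hz⟩ := hθ PowerSeries.X
  obtain ⟨w, hw⟩ : PowerSeries.X ∣ z - PowerSeries.C (PowerSeries.constantCoeff z) := by
    rw [PowerSeries.X_dvd_iff]; simp
  have e : z = PowerSeries.C (PowerSeries.constantCoeff z) + PowerSeries.X * w := by rw [← hw]; ring
  rw [e, map_add, map_mul, hX, zero_mul, add_zero] at hz
  rcases eq_or_ne (PowerSeries.constantCoeff z) 0 with h | h
  · rw [h, map_zero, map_zero] at hz
    exact PowerSeries.X_ne_zero hz.symm
  · have := ((IsUnit.mk0 _ h).map PowerSeries.C).map θ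
    rw [hz] at this
    exact PowerSeries.X_prime.not_unit this

/-- The analytic classification. -/
theorem exists_eq_sq {F : T} (e : Nonempty ((T ⧸ Ideal.span {F}) ≃ₐ[k] (T ⧸ Ideal.span {(X 1 : T) ^ 2}))) :
    ∃ ρ w : T, constantCoeff ρ = 0 ∧ (lin k 0 ρ ≠ 0 ∨ lin k 1 ρ ≠ 0) ∧ constantCoeff w ≠ 0 ∧ F = ρ ^ 2 * w := by
  obtain ⟨e⟩ := e
  let ψ : T →+* T ⧸ Ideal.span {(X 1 : T) ^ 2} := e.toRingEquiv.toRingHom.comp (Ideal.Quotient.mk _)
  have hψker : ∀ t, ψ t = 0 → t ∈ Ideal.span {F} := fun t ht =>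
    Ideal.Quotient.eq_zero_iff_mem.1 (e.injective (ht.trans (map_zero e).symm))
  have hψsurj : Function.Surjective ψ := e.surjective.comp Ideal.Quotient.mk_surjective
  have hle : ∀ a ∈ Ideal.span {(X 1 : T) ^ 2}, axis a = 0 := fun a ha => by
    rw [axis_eq_zero_iff]
    rw [Ideal.mem_span_singleton] at ha ⊢
    exact dvd_trans (dvd_pow_self _ two_ne_zero) ha
  let pr' : T →+* PowerSeries k := (Ideal.Quotient.lift _ axis hle).comp ψ
  have hPrsurj : Function.Surjective pr' := fun p => by
    obtain ⟨s, hs⟩ := axis_surjective (k := k) p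
    obtain ⟨t, ht⟩ := hψsurj (Ideal.Quotient.mk _ s)
    exact ⟨t, by simp [pr', ht, hs]⟩
  have hψF : ψ F = 0 := by
    simp [ψ, Ideal.Quotient.eq_zero_iff_mem.2 (Ideal.mem_span_singleton_self F)]
  have hloc : ∀ x : T, constantCoeff x = 0 → PowerSeries.constantCoeff (pr' x) = 0 := by
    intro x hx
    by_contra h
    obtain ⟨v, hv⟩ := (PowerSeries.isUnit_iff_constantCoeff.2 (Ne.isUnit h)).exists_right_inv
    obtain ⟨y, rfl⟩ := hPrsurj v
    have hu : IsUnit (1 - x * y : T) := by
      rw [MvPowerSeries.isUnit_iff_constantCoeff]; simp [hx]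
    have := hu.map pr'
    rw [map_sub, map_mul, hv, map_one, sub_self] at this
    exact not_isUnit_zero this
  have hF0 : constantCoeff F = 0 := by
    by_contra h
    have := (MvPowerSeries.isUnit_iff_constantCoeff.2 (Ne.isUnit h)).map pr'
    rw [show pr' F = 0 by simp [pr', hψF]] at this
    exact not_isUnit_zero this
  have hg : ∀ i : Fin 2, ∃ G : T, pr' (X i) = PowerSeries.X * pr' G := fun i => by
    obtain ⟨w, hw⟩ := PowerSeries.X_dvd_iff.2 (hloc _ (constantCoeff_X i))
    obtain ⟨G, hG⟩ := hPrsurj w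
    exact ⟨G, by rw [hG, hw]⟩
  choose G hG using hg
  set ρ := G 1 * X 0 - G 0 * X 1 with hρ
  have hρ0 : constantCoeff ρ = 0 := by simp [hρ]
  have hρPr : pr' ρ = 0 := by
    simp only [hρ, map_sub, map_mul, hG]
    ring
  have hρlin : lin k 0 ρ ≠ 0 ∨ lin k 1 ρ ≠ 0 := by
    by_contra hcon
    push Not at hcon
    simp [hρ, lin_sub, lin_mul, lin_X] at hcon
    obtain ⟨z, hz⟩ := hPrsurj PowerSeries.X
    have hz0 : constantCoeff z = 0 := by
      by_contra h
      have := (MvPowerSeries.isUnit_iff_constantCoeff.2 (Ne.isUnit h)).map pr'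
      rw [hz] at this
      exact PowerSeries.X_prime.not_unit this
    obtain ⟨a, b, rfl⟩ := exists_decomp hz0
    simp only [map_add, map_mul, hG] at hz
    have h1 : (pr' a * pr' (G 0) + pr' b * pr' (G 1)) * PowerSeries.X = 1 * PowerSeries.X := by
      rw [one_mul]; conv_rhs => rw [← hz]
      ring
    have h2 := mul_right_cancel₀ PowerSeries.X_ne_zero h1
    have h3 := congrArg PowerSeries.constantCoeff h2
    simp [hloc _ hcon.1, hloc _ hcon.2] at h3
  obtain ⟨φ, hφ⟩ := exists_algEquiv_X_one hρ0 hρlin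
  have hker : ∀ t, pr' t = 0 → t ∈ Ideal.span {ρ} := by
    have hax : RingHom.ker (axis (k := k)) ≤ RingHom.ker (pr'.comp φ.toRingEquiv.toRingHom) := by
      intro t ht
      obtain ⟨s, rfl⟩ := Ideal.mem_span_singleton'.1 ((axis_eq_zero_iff t).1 (RingHom.mem_ker.1 ht))
      rw [RingHom.mem_ker, map_mul]
      change _ * pr' (φ (X 1)) = 0
      rw [hφ, hρPr, mul_zero]
    let θ := RingHom.liftOfSurjective (axis (k := k)) axis_surjective ⟨pr'.comp φ.toRingEquiv.toRingHom, hax⟩
    have hθ : ∀ t, θ (axis t) = pr' (φ t) := fun t =>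
      RingHom.liftOfRightInverse_comp_apply _ _ _ _ t
    have hθsurj : Function.Surjective θ := fun p => by
      obtain ⟨t, rfl⟩ := hPrsurj p
      exact ⟨axis (φ.symm t), by rw [hθ, φ.apply_symm_apply]⟩
    intro t ht
    have h1 : axis (φ.symm t) = 0 := injective_endo hθsurj (by rw [hθ, φ.apply_symm_apply, ht, map_zero])
    obtain ⟨s, hs⟩ := Ideal.mem_span_singleton'.1 ((axis_eq_zero_iff _).1 h1)
    rw [← φ.apply_symm_apply t, ← hs, map_mul, hφ]
    exact Ideal.mul_mem_left _ _ (Ideal.mem_span_singleton_self ρ)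
  obtain ⟨γ, hγ⟩ := hψsurj (Ideal.Quotient.mk _ (X 1))
  have hγsq : γ ^ 2 ∈ Ideal.span {F} := hψker _ (by
    rw [map_pow, hγ, ← map_pow, Ideal.Quotient.eq_zero_iff_mem]
    exact Ideal.mem_span_singleton_self _)
  have hγρ : γ ∈ Ideal.span {ρ} := hker _ (by
    simp [pr', hγ, (axis_eq_zero_iff (X 1 : T)).2 (Ideal.mem_span_singleton_self _)])
  obtain ⟨w, hw⟩ := Ideal.mem_span_singleton'.1 (hker F (by simp [pr', hψF]))
  have hρsq : ρ ^ 2 ∈ Ideal.span {F} := by
    obtain ⟨s, hs⟩ := Ideal.Quotient.mk_surjective (ψ ρ)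
    have hs1 : s ∈ Ideal.span {(X 1 : T)} := by
      rw [← axis_eq_zero_iff, ← hρPr]
      simp [pr', ← hs]
    obtain ⟨r, rfl⟩ := Ideal.mem_span_singleton'.1 hs1
    obtain ⟨r', hr'⟩ := hψsurj (Ideal.Quotient.mk _ r)
    have h1 : ρ - r' * γ ∈ Ideal.span {F} := hψker _ (by
      rw [map_sub, map_mul, hr', hγ, ← map_mul, hs, sub_self])
    have e1 : ρ ^ 2 = (ρ - r' * γ) * (ρ + r' * γ) + r' ^ 2 * γ ^ 2 := by ring
    rw [e1]
    exact Ideal.add_mem _ (Ideal.mul_mem_right _ _ h1) (Ideal.mul_mem_left _ _ hγsq)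
  obtain ⟨t, ht⟩ := Ideal.mem_span_singleton'.1 hρsq
  have hρne : ρ ≠ 0 := fun h => by rcases hρlin with h1 | h1 <;> exact h1 (by simp [h, lin])
  have hwt : ρ = w * t := by
    have : ρ * ρ = ρ * (w * t) := by
      rw [← pow_two, ← ht, ← hw]
      ring
    exact mul_left_cancel₀ hρne this
  have hwne : constantCoeff w = 0 := by
    by_contra h
    obtain ⟨w', hw'⟩ := (MvPowerSeries.isUnit_iff_constantCoeff.2 (Ne.isUnit h)).exists_left_inv
    have hρF : ρ ∈ Ideal.span {F} := Ideal.mem_span_singleton'.2 ⟨w', by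
      rw [← hw, ← mul_assoc, hw', one_mul]⟩
    have hγF : γ ∈ Ideal.span {F} := by
      obtain ⟨s, rfl⟩ := Ideal.mem_span_singleton'.1 hγρ
      exact Ideal.mul_mem_left _ _ hρF
    obtain ⟨s, rfl⟩ := Ideal.mem_span_singleton'.1 hγF
    rw [map_mul, hψF, mul_zero, eq_comm, Ideal.Quotient.eq_zero_iff_mem] at hγ
    obtain ⟨r, hr⟩ := Ideal.mem_span_singleton'.1 hγ
    have := congrArg (lin k 1) hr
    simp [pow_two, lin_mul, lin_X] at this
  have htne : constantCoeff t ≠ 0 := by
    intro h
    rcases hρlin with h1 | h1 <;> exact h1 (by rw [hwt, lin_mul, hwne, h]; simp)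
  obtain ⟨t', ht'⟩ := (MvPowerSeries.isUnit_iff_constantCoeff.2 (Ne.isUnit htne)).exists_left_inv
  refine ⟨ρ, t', hρ0, hρlin, ?_, ?_⟩
  · intro h
    have := congrArg constantCoeff ht'
    simp [h] at this
  · calc F = (t' * t) * F := by rw [ht', one_mul]
      _ = ρ ^ 2 * t' := by rw [← ht]; ring

end Groth.Agent.CommAlg4.DoubleLine
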