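import Mathlib
import Groth.Agent.CommAlg4.DoubleLine
import Groth.Agent.KumLib.Apps
import Groth.Prelude.Def_W4c1arstab1appArSing

set_option autoImplicit false

/-! Normal forms of plane curve germs of multiplicity at most two, characteristic different from 2. -/

universe u

namespace Groth.Agent.CommAlg4.GermNormal

open MvPowerSeries DoubleLine

variable {k : Type u} [Field k]

local notation "T" => MvPowerSeries (Fin 2) k

local notation "M" => RingHom.ker (MvPowerSeries.constantCoeff : MvPowerSeries (Fin 2) k →+* k)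

theorem cc_map (φ : T ≃ₐ[k] T) {x : T} (hx : constantCoeff x = 0) : constantCoeff (φ x) = 0 := by
  by_contra h
  have := ((MvPowerSeries.isUnit_iff_constantCoeff (φ := φ x)).2 (Ne.isUnit h)).map φ.symm
  rw [φ.symm_apply_apply, MvPowerSeries.isUnit_iff_constantCoeff, hx] at this
  exact not_isUnit_zero this

theorem map_mem_pow (φ : T ≃ₐ[k] T) {n : ℕ} {x : T} (hx : x ∈ M ^ n) : φ x ∈ M ^ n := by
  have h1 : (M).map (φ : T →+* T) ≤ M := Ideal.map_le_iff_le_comap.2 fun z hz => cc_map φ hz
  have h2 := Ideal.pow_right_mono h1 n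
  rw [← Ideal.map_pow] at h2
  exact h2 (Ideal.mem_map_of_mem (φ : T →+* T) hx)

theorem eq_zero_of_mem_pow {f : T} (h : ∀ n, f ∈ M ^ n) : f = 0 := by
  classical
  have key : ∀ n, ∀ g ∈ M ^ n, ∀ d : Fin 2 →₀ ℕ, Finsupp.degree d < n → coeff d g = 0 := by
    intro n
    induction n with
    | zero => intro g _ d hd; omega
    | succ n ih =>
      intro g hg
      rw [pow_succ'] at hg
      induction hg using Submodule.mul_induction_on' with
      | mem_mul_mem y hy z hz =>
        intro d hd
        rw [coeff_mul]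
        refine Finset.sum_eq_zero fun e he => ?_
        replace he := Finset.HasAntidiagonal.mem_antidiagonal.1 he
        rcases eq_or_ne e.1 0 with h0 | h0
        · rw [h0, coeff_zero_eq_constantCoeff_apply, RingHom.mem_ker.1 hy, zero_mul]
        · rw [ih z hz e.2 ?_, mul_zero]
          have h1 : Finsupp.degree e.1 ≠ 0 := fun h => h0 ((Finsupp.degree_eq_zero_iff _).1 h)
          rw [← he, map_add] at hd
          omega
      | add x hx y hy ihx ihy => intro d hd; rw [map_add, ihx d hd, ihy d hd, add_zero]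
  ext d
  rw [key (Finsupp.degree d + 1) f (h _) d (Nat.lt_succ_self _), map_zero]

theorem exists_poly (n : ℕ) : ∀ f : T, ∃ p : MvPolynomial (Fin 2) k, f - (p : T) ∈ M ^ n := by
  induction n with
  | zero => intro f; exact ⟨0, by simp⟩
  | succ n ih =>
    intro f
    obtain ⟨a, b, hab⟩ := exists_decomp (k := k) (f := f - C (constantCoeff f)) (by simp)
    obtain ⟨p, hp⟩ := ih a
    obtain ⟨q, hq⟩ := ih b
    refine ⟨MvPolynomial.C (constantCoeff f) + p * MvPolynomial.X 0 + q * MvPolynomial.X 1, ?_⟩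
    have hX : ∀ i : Fin 2, (X i : T) ∈ M := fun i => constantCoeff_X i
    have e : f - ((MvPolynomial.C (constantCoeff f) + p * MvPolynomial.X 0 + q * MvPolynomial.X 1 :
        MvPolynomial (Fin 2) k) : T) = (a - (p : T)) * X 0 + (b - (q : T)) * X 1 := by
      simp only [MvPolynomial.coe_add, MvPolynomial.coe_mul, MvPolynomial.coe_C, MvPolynomial.coe_X]
      linear_combination hab
    rw [e, pow_succ]
    exact Ideal.add_mem _ (Ideal.mul_mem_mul hp (hX 0)) (Ideal.mul_mem_mul hq (hX 1))

theorem pderiv_mem_pow (i : Fin 2) : ∀ (n : ℕ) (g : T), g ∈ M ^ (n + 1) → pderiv k i g ∈ M ^ n := by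
  intro n
  induction n with
  | zero => intro g _; simp
  | succ n ih =>
    intro g hg
    rw [pow_succ'] at hg
    induction hg using Submodule.mul_induction_on' with
    | mem_mul_mem y hy z hz =>
      rw [Derivation.leibniz, smul_eq_mul, smul_eq_mul]
      refine Ideal.add_mem _ ?_ (Ideal.mul_mem_right _ _ hz)
      rw [pow_succ']
      exact Ideal.mul_mem_mul hy (ih z hz)
    | add x hx y hy ihx ihy => rw [map_add]; exact Ideal.add_mem _ ihx ihy

/-- chain rule for coordinate changes commuting with the derivation on the variables -/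
theorem pderiv_comm (φ : T ≃ₐ[k] T) (i : Fin 2) (h : ∀ j, pderiv k i (φ (X j)) = φ (pderiv k i (X j))) (f : T) :
    pderiv k i (φ f) = φ (pderiv k i f) := by
  have hpoly : ∀ p : MvPolynomial (Fin 2) k, pderiv k i (φ (p : T)) = φ (pderiv k i (p : T)) := by
    intro p
    induction p using MvPolynomial.induction_on with
    | C c =>
      rw [MvPolynomial.coe_C, show φ (C c) = C c from φ.commutes c, pderiv_C, map_zero]
    | add p q hp hq => simp only [MvPolynomial.coe_add, map_add, hp, hq]
    | mul_X p j hp =>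
      simp only [MvPolynomial.coe_mul, MvPolynomial.coe_X, Derivation.leibniz, map_mul, map_add, smul_eq_mul, hp, h]
  rw [← sub_eq_zero]
  refine eq_zero_of_mem_pow fun n => ?_
  obtain ⟨p, hp⟩ := exists_poly (k := k) (n + 1) f
  have e : pderiv k i (φ f) - φ (pderiv k i f) =
      pderiv k i (φ (f - (p : T))) - φ (pderiv k i (f - (p : T))) := by
    simp only [map_sub, hpoly]; ring
  rw [e]
  exact Ideal.sub_mem _ (pderiv_mem_pow i n _ (map_mem_pow φ hp))
    (map_mem_pow φ (pderiv_mem_pow i n _ hp))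

/-- series in the second variable -/
noncomputable def emb : PowerSeries k →ₐ[k] T := PowerSeries.toMvPowerSeries (1 : Fin 2)

theorem emb_X : emb (PowerSeries.X : PowerSeries k) = (X 1 : T) := PowerSeries.toMvPowerSeries_X _

theorem constantCoeff_emb (h : PowerSeries k) :
    constantCoeff (emb h) = PowerSeries.constantCoeff h := MvPowerSeries.constantCoeff_rename _ _

theorem fix_emb (φ : T ≃ₐ[k] T) (h1 : φ (X 1) = X 1) (h : PowerSeries k) : φ (emb h) = emb h := by
  rw [← sub_eq_zero]
  refine eq_zero_of_mem_pow fun n => ?_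
  induction n generalizing h with
  | zero => simp
  | succ n ih =>
    obtain ⟨w, hw⟩ : PowerSeries.X ∣ h - PowerSeries.C (PowerSeries.constantCoeff h) := by
      rw [PowerSeries.X_dvd_iff]; simp
    have e : h = algebraMap k _ (PowerSeries.constantCoeff h) + PowerSeries.X * w := by
      rw [← hw]
      change h = PowerSeries.C (PowerSeries.constantCoeff h) + (h - PowerSeries.C (PowerSeries.constantCoeff h))
      ring
    have e2 : φ (emb h) - emb h = X 1 * (φ (emb w) - emb w) := by
      conv_lhs => rw [e]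
      simp only [map_add, map_mul, AlgHom.commutes, AlgEquiv.commutes, emb_X, h1]
      ring
    rw [e2, pow_succ']
    exact Ideal.mul_mem_mul (constantCoeff_X _) (ih w)

theorem exists_split (f : T) : ∃ (c : PowerSeries k) (g : T), f = emb c + X 0 * g := by
  classical
  let c : PowerSeries k := PowerSeries.mk fun n => coeff (Finsupp.single 1 n) f
  obtain ⟨g, hg⟩ : (X 0 : T) ∣ f - emb c := by
    rw [X_dvd_iff]
    intro m hm
    have hm' : m = Finsupp.single 1 (m 1) := by
      ext i
      fin_cases i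
      · simpa using hm
      · simp
    have e : coeff m (emb c) = PowerSeries.coeff (m 1) c := by
      have h := MvPowerSeries.coeff_embDomain_rename (R := k) (Function.Embedding.punit (1 : Fin 2)) c
        (Finsupp.single () (m 1))
      rw [Finsupp.embDomain_single] at h
      conv_lhs => rw [hm']
      exact h
    rw [map_sub, e, PowerSeries.coeff_mk, ← hm', sub_self]
  exact ⟨c, g, by rw [← hg]; ring⟩

theorem emb_coeff (h : PowerSeries k) (m : Fin 2 →₀ ℕ) (hm : m 0 ≠ 0) : coeff m (emb h) = 0 := by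
  refine MvPowerSeries.coeff_rename_eq_zero _ h ?_
  rintro ⟨x, rfl⟩
  apply hm
  refine Finsupp.mapDomain_notin_range _ _ ?_
  rintro ⟨⟨⟩, h⟩
  exact absurd h (by decide)

theorem pderiv_emb (h : PowerSeries k) : pderiv k 0 (emb h) = (0 : T) := by
  ext m
  rw [coeff_pderiv, emb_coeff h _ (by simp), zero_mul, map_zero]

/-- square roots of units -/
theorem exists_sqrt [IsAlgClosed k] (h2 : (2 : k) ≠ 0) {w : T} (hw : constantCoeff w ≠ 0) :
    ∃ s : T, constantCoeff s ≠ 0 ∧ s ^ 2 = w := by
  let S : MvPowerSeries Unit k := X ()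
  let u : MvPowerSeries Unit k := C 2 + S
  have hu : IsUnit (constantCoeff u) := by simpa [u, S] using Ne.isUnit h2
  have hb := KumLib.subst_bijective_of_X_mul (fun _ : Unit => u) fun _ => hu
  have hs : HasSubst (fun _ : Unit => X () * u) := hasSubst_of_constantCoeff_zero fun _ => by simp
  obtain ⟨h, hh⟩ := hb.2 S
  have h0 : constantCoeff h = 0 := by
    obtain ⟨r, hr⟩ : ∃ r, constantCoeff h = r := ⟨_, rfl⟩
    have e1 : constantCoeff (subst (fun _ : Unit => X () * u) (h - C r)) = 0 :=
      constantCoeff_subst_eq_zero hs (fun _ => by simp) (by simp [hr])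
    rw [subst_sub hs, KumLib.subst_C' hs, hh, map_sub, constantCoeff_X, constantCoeff_C, zero_sub,
      neg_eq_zero] at e1
    rw [hr, e1]
  have hsh : HasSubst (fun _ : Unit => h) := hasSubst_of_constantCoeff_zero fun _ => h0
  have key : subst (fun _ : Unit => h) (S * u) = S := by
    apply hb.1
    rw [subst_comp_subst_apply hsh hs, subst_X hs]
    rw [show (fun _ : Unit => subst (fun _ : Unit => X () * u) h) = (X : Unit → MvPowerSeries Unit k) from
      funext fun _ => hh, subst_self]
    rfl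
  have hroot : (1 + h) ^ 2 = 1 + S := by
    rw [subst_mul hsh, subst_X hsh] at key
    simp only [u, subst_add hsh, KumLib.subst_C' hsh, S, subst_X hsh] at key
    simp only [S]; rw [← key]
    simp only [map_ofNat]
    ring
  obtain ⟨c, hc⟩ := IsAlgClosed.exists_pow_nat_eq (constantCoeff w) (by norm_num : 0 < 2)
  let v : T := C (constantCoeff w)⁻¹ * w - 1
  have hv : constantCoeff v = 0 := by simp [v, hw]
  have hsv : HasSubst (fun _ : Unit => v) := hasSubst_of_constantCoeff_zero fun _ => hv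
  have hc0 : c ≠ 0 := by rintro rfl; simp at hc; exact hw hc.symm
  refine ⟨C c * (1 + subst (fun _ : Unit => v) h), ?_, ?_⟩
  · simp [constantCoeff_subst_eq_zero hsv (fun _ => hv) h0, hc0]
  · have e := congrArg (substAlgHom (R := k) hsv) hroot
    simp only [map_pow, map_add, map_one, S, substAlgHom_X, substAlgHom_apply] at e
    rw [mul_pow, e, ← map_pow, hc, subst_X hsv]
    simp [v, ← mul_assoc, ← map_mul, hw]

theorem exists_swap : ∃ φ : T ≃ₐ[k] T, φ (X 0) = X 1 ∧ φ (X 1) = X 0 := by
  have hs : HasSubst ![(X 1 : T), X 0] := hasSubst_of_constantCoeff_zero (by intro i; fin_cases i <;> simp)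
  obtain ⟨φ, hφ⟩ := exists_algEquiv_of_inverse (k := k) (b := ![(X 1 : T), X 0]) (b' := ![(X 1 : T), X 0])
    (by intro i; fin_cases i <;> simp) (by intro i; fin_cases i <;> simp)
    (by intro i; fin_cases i <;> simp [subst_X hs]) (by intro i; fin_cases i <;> simp [subst_X hs])
  exact ⟨φ, hφ 0, hφ 1⟩

theorem exists_algEquiv_pair {ρ : T} (h0 : constantCoeff ρ = 0) (hc : lin k 0 ρ ≠ 0) :
    ∃ φ : T ≃ₐ[k] T, φ (X 0) = ρ ∧ φ (X 1) = X 1 := by
  set c := lin k 0 ρ with hcdef
  set e := lin k 1 ρ with hedef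
  obtain ⟨φ, hφ⟩ := exists_algEquiv_near (k := k) (a := ![C c⁻¹ * (ρ - C e * X 1), X 1])
    (by intro i; fin_cases i <;> simp [h0])
    (by intro i j; fin_cases i <;> fin_cases j <;> simp [lin_C_mul, lin_X, lin_sub, ← hcdef, ← hedef, hc])
  obtain ⟨ψ, hψ⟩ := exists_algEquiv_of_inverse (k := k) (b := ![C c * X 0 + C e * X 1, (X 1 : T)])
    (b' := ![C c⁻¹ * (X 0 - C e * X 1), (X 1 : T)])
    (by intro i; fin_cases i <;> simp) (by intro i; fin_cases i <;> simp)
    (by
      have hs : HasSubst ![C c * X 0 + C e * X 1, (X 1 : T)] :=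
        hasSubst_of_constantCoeff_zero (by intro i; fin_cases i <;> simp)
      intro i; fin_cases i
      · simp [sb_mul hs, sb_C hs, sb_sub hs, subst_X hs, ← mul_assoc, ← map_mul, inv_mul_cancel₀ hc]
      · simp [subst_X hs])
    (by
      have hs : HasSubst ![C c⁻¹ * (X 0 - C e * X 1), (X 1 : T)] :=
        hasSubst_of_constantCoeff_zero (by intro i; fin_cases i <;> simp)
      intro i; fin_cases i
      · simp [sb_mul hs, sb_C hs, sb_add hs, subst_X hs, ← mul_assoc, ← map_mul, mul_inv_cancel₀ hc]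
      · simp [subst_X hs])
  refine ⟨ψ.trans φ, ?_, ?_⟩
  · rw [AlgEquiv.trans_apply, hψ]
    change φ (C c * X 0 + C e * X 1) = ρ
    rw [map_add, map_mul, map_mul, hφ, hφ, show φ (C c) = C c from φ.commutes c,
      show φ (C e) = C e from φ.commutes e]
    change C c * (C c⁻¹ * (ρ - C e * X 1)) + C e * X 1 = ρ
    rw [← mul_assoc, ← map_mul, mul_inv_cancel₀ hc, map_one, one_mul]
    ring
  · rw [AlgEquiv.trans_apply, hψ]
    change φ (X 1) = X 1
    rw [hφ]; rfl

/-- normal form when the coefficient of `x₀²` is nonzero -/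
theorem normal_of_coeff [IsAlgClosed k] (h2 : (2 : k) ≠ 0) {F A B D : T}
    (hF : F = A * X 0 ^ 2 + B * (X 0 * X 1) + D * X 1 ^ 2) (hA : constantCoeff A ≠ 0) :
    ∃ (φ : T ≃ₐ[k] T) (u : T), IsUnit u ∧ (φ F = u * X 1 ^ 2 ∨ ∃ n, φ F = u * ArSing.eqn k n) := by
  classical
  set Z := pderiv k 0 F with hZ
  have hZ0 : constantCoeff Z = 0 := by simp [hZ, hF, Derivation.leibniz, Derivation.leibniz_pow]
  have hZ1 : lin k 0 Z = 2 * constantCoeff A := by
    simp [hZ, hF, lin, Derivation.leibniz, Derivation.leibniz_pow, map_ofNat]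
    ring
  obtain ⟨φ₁, h10, h11⟩ := exists_algEquiv_pair hZ0 (by rw [hZ1]; exact mul_ne_zero h2 hA)
  obtain ⟨g, s', hs'⟩ := exists_split (φ₁.symm (X 0))
  have hg0 : PowerSeries.constantCoeff g = 0 := by
    have h := cc_map φ₁.symm (constantCoeff_X (0 : Fin 2))
    rw [hs'] at h
    simpa [constantCoeff_emb] using h
  have hX0 : (X 0 : T) = emb g + Z * φ₁ s' := by
    have h := congrArg φ₁ hs'
    rwa [φ₁.apply_symm_apply, map_add, map_mul, h10, fix_emb φ₁ h11] at h
  have hv : IsUnit (φ₁ s') := by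
    rw [MvPowerSeries.isUnit_iff_constantCoeff]
    refine Ne.isUnit fun h => ?_
    have := congrArg (lin k 0) hX0
    simp [lin, pderiv_emb, Derivation.leibniz, h, hZ0] at this
  obtain ⟨v', hv'⟩ := hv.exists_left_inv
  let b : Fin 2 → T := ![X 0 + emb g, X 1]
  let b' : Fin 2 → T := ![X 0 - emb g, X 1]
  have hb0 : ∀ i, constantCoeff (b i) = 0 := by intro i; fin_cases i <;> simp [b, constantCoeff_emb, hg0]
  have hb0' : ∀ i, constantCoeff (b' i) = 0 := by intro i; fin_cases i <;> simp [b', constantCoeff_emb, hg0]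
  have hbg : ∀ c : Fin 2 → T, (∀ i, constantCoeff (c i) = 0) → c 1 = X 1 → subst c (emb g) = emb g := by
    intro c hc h1
    rw [emb, PowerSeries.subst_toMvPowerSeries (hasSubst_of_constantCoeff_zero hc), h1,
      ← PowerSeries.toMvPowerSeries_eq_subst]
  obtain ⟨τ, hτ⟩ := exists_algEquiv_of_inverse (k := k) hb0 hb0'
    (by
      have hs := hasSubst_of_constantCoeff_zero hb0
      intro i; fin_cases i
      · change subst b (X 0 - emb g) = X 0
        rw [sb_sub hs, hbg b hb0 rfl, subst_X hs]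
        change X 0 + emb g - emb g = X 0
        ring
      · exact subst_X hs 1)
    (by
      have hs := hasSubst_of_constantCoeff_zero hb0'
      intro i; fin_cases i
      · change subst b' (X 0 + emb g) = X 0
        rw [sb_add hs, hbg b' hb0' rfl, subst_X hs]
        change X 0 - emb g + emb g = X 0
        ring
      · exact subst_X hs 1)
  have hτ1 : τ (X 1) = X 1 := hτ 1
  have hτ0 : τ (X 0) = X 0 + emb g := hτ 0
  have hcomm := pderiv_comm τ 0 (fun j => by
    fin_cases j
    · change pderiv k 0 (τ (X 0)) = τ (pderiv k 0 (X 0))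
      rw [hτ0, map_add, pderiv_emb, add_zero, pderiv_X_self, map_one]
    · change pderiv k 0 (τ (X 1)) = τ (pderiv k 0 (X 1))
      rw [hτ1, pderiv_X_of_ne (show (1 : Fin 2) ≠ 0 by decide), map_zero])
  have hτZ : τ Z = X 0 * τ v' := by
    have : Z = (X 0 - emb g) * v' := by
      rw [hX0]
      calc Z = Z * (v' * φ₁ s') := by rw [hv', mul_one]
        _ = _ := by ring
    rw [this, map_mul, map_sub, hτ0, fix_emb τ hτ1, add_sub_cancel_right]
  obtain ⟨c, G', hG⟩ := exists_split (τ F)
  have hdG : G' + X 0 * pderiv k 0 G' = X 0 * τ v' := by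
    rw [← hτZ, hZ, ← hcomm, hG, map_add, pderiv_emb, zero_add, Derivation.leibniz, pderiv_X_self,
      smul_eq_mul, smul_eq_mul, mul_one, add_comm]
  obtain ⟨u, hu⟩ : (X 0 : T) ∣ G' := ⟨τ v' - pderiv k 0 G', by linear_combination hdG⟩
  have hu0 : constantCoeff u ≠ 0 := by
    intro h
    have hv0 : constantCoeff (τ v') ≠ 0 := by
      have h1 : IsUnit (τ v') := (IsUnit.of_mul_eq_one _ hv').map τ
      exact (MvPowerSeries.isUnit_iff_constantCoeff.1 h1).ne_zero
    rw [hu] at hdG
    have := congrArg (lin k 0) hdG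
    simp [lin, Derivation.leibniz, h] at this
    exact hv0 this.symm
  have huu : IsUnit u := MvPowerSeries.isUnit_iff_constantCoeff.2 (Ne.isUnit hu0)
  obtain ⟨sw, hsw0, hsw1⟩ := exists_swap (k := k)
  rw [hu] at hG
  rcases eq_or_ne c 0 with rfl | hc
  · refine ⟨τ.trans sw, sw u, huu.map sw, Or.inl ?_⟩
    rw [AlgEquiv.trans_apply, hG]
    simp only [map_zero, zero_add, map_mul, hsw0]
    ring
  · set m := c.order.toNat with hm
    set c' := c.divXPowOrder with hc'
    have hcc : PowerSeries.X ^ m * c' = c := PowerSeries.X_pow_order_mul_divXPowOrder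
    have hc0 : PowerSeries.constantCoeff c' ≠ 0 :=
      (PowerSeries.isUnit_iff_constantCoeff.1 (PowerSeries.isUnit_divided_by_X_pow_order hc)).ne_zero
    have hm1 : m ≠ 0 := by
      intro h0
      have h := congrArg constantCoeff hG
      rw [map_add, map_mul, constantCoeff_X, zero_mul, add_zero, constantCoeff_emb, ← hcc, h0, pow_zero, one_mul,
        cc_map τ (show constantCoeff F = 0 by simp [hF])] at h
      exact hc0 h.symm
    obtain ⟨u', hu'⟩ := huu.exists_left_inv
    have hu'0 : constantCoeff u' ≠ 0 := fun h => by simpa [h] using congrArg constantCoeff hu'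
    obtain ⟨s, hs0, hs⟩ := exists_sqrt h2 (w := -(emb c') * u') (by simp [constantCoeff_emb, hc0, hu'0])
    obtain ⟨s'', hs''⟩ := (MvPowerSeries.isUnit_iff_constantCoeff.2 (Ne.isUnit hs0)).exists_left_inv
    have hbij := KumLib.subst_bijective_of_X_mul (![s'', 1] : Fin 2 → T) (fun i => by
      fin_cases i
      · exact MvPowerSeries.isUnit_iff_constantCoeff.1 (IsUnit.of_mul_eq_one _ hs'')
      · simp)
    have hsb : HasSubst (fun i => X i * (![s'', 1] : Fin 2 → T) i) :=
      hasSubst_of_constantCoeff_zero fun i => by simp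
    let θ : T ≃ₐ[k] T := AlgEquiv.ofBijective (substAlgHom hsb) (by rw [coe_substAlgHom]; exact hbij)
    have hθ : ∀ i, θ (X i) = X i * (![s'', 1] : Fin 2 → T) i := fun i => by
      simp only [θ, AlgEquiv.ofBijective_apply, substAlgHom_apply, subst_X hsb]
    have hθ0 : θ (X 0) = X 0 * s'' := hθ 0
    have hθ1 : θ (X 1) = X 1 := (hθ 1).trans (mul_one _)
    have key : τ F = (u * s ^ 2) * θ (X 0 ^ 2 - X 1 ^ m) := by
      rw [map_sub, map_pow, map_pow, hθ0, hθ1, hG, ← hcc, map_mul, map_pow, emb_X]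
      linear_combination (-(X 0 ^ 2 * u) * (s'' * s + 1)) * hs'' + (u * X 1 ^ m) * hs +
        (-(X 1 ^ m * emb c')) * hu'
    refine ⟨(τ.trans θ.symm).trans sw, sw (θ.symm (u * s ^ 2)),
      ((huu.mul ((MvPowerSeries.isUnit_iff_constantCoeff.2 (Ne.isUnit hs0)).pow 2)).map θ.symm).map sw,
      Or.inr ⟨m - 1, ?_⟩⟩
    rw [AlgEquiv.trans_apply, AlgEquiv.trans_apply, key, map_mul, θ.symm_apply_apply, map_mul, map_sub,
      map_pow, map_pow, hsw0, hsw1, ArSing.eqn, Nat.sub_add_cancel (Nat.one_le_iff_ne_zero.2 hm1)]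

/-- normal form when the quadratic part is nonzero -/
theorem normal_of_quadratic [IsAlgClosed k] (h2 : (2 : k) ≠ 0) {F A B D : T}
    (hF : F = A * X 0 ^ 2 + B * (X 0 * X 1) + D * X 1 ^ 2)
    (hne : constantCoeff A ≠ 0 ∨ constantCoeff B ≠ 0 ∨ constantCoeff D ≠ 0) :
    ∃ (φ : T ≃ₐ[k] T) (u : T), IsUnit u ∧ (φ F = u * X 1 ^ 2 ∨ ∃ n, φ F = u * ArSing.eqn k n) := by
  suffices h : ∃ ψ : T ≃ₐ[k] T, ∃ A' B' D' : T, ψ F = A' * X 0 ^ 2 + B' * (X 0 * X 1) + D' * X 1 ^ 2 ∧
      constantCoeff A' ≠ 0 by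
    obtain ⟨ψ, A', B', D', hψ, hA'⟩ := h
    obtain ⟨φ, u, hu, h⟩ := normal_of_coeff h2 hψ hA'
    exact ⟨ψ.trans φ, u, hu, by simpa using h⟩
  have hcc : ∀ (ψ : T ≃ₐ[k] T) (x : T), constantCoeff (ψ x) = constantCoeff x := by
    intro ψ x
    have := cc_map ψ (x := x - C (constantCoeff x)) (by simp)
    rw [map_sub, show ψ (C (constantCoeff x)) = C (constantCoeff x) from ψ.commutes _] at this
    simpa [sub_eq_zero] using this
  by_cases hA : constantCoeff A ≠ 0
  · exact ⟨AlgEquiv.refl, A, B, D, hF, hA⟩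
  by_cases hD : constantCoeff D ≠ 0
  · obtain ⟨sw, h0, h1⟩ := exists_swap (k := k)
    refine ⟨sw, sw D, sw B, sw A, ?_, by rw [hcc]; exact hD⟩
    rw [hF]; simp only [map_add, map_mul, map_pow, h0, h1]; ring
  have hB : constantCoeff B ≠ 0 := by tauto
  push Not at hA hD
  let b : Fin 2 → T := ![X 0, X 1 + X 0]
  let b' : Fin 2 → T := ![X 0, X 1 - X 0]
  have hb0 : ∀ i, constantCoeff (b i) = 0 := by intro i; fin_cases i <;> simp [b]
  have hb0' : ∀ i, constantCoeff (b' i) = 0 := by intro i; fin_cases i <;> simp [b']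
  obtain ⟨ψ, hψ⟩ := exists_algEquiv_of_inverse (k := k) hb0 hb0'
    (by intro i; fin_cases i <;>
      simp [b, b', sb_sub (hasSubst_of_constantCoeff_zero hb0), subst_X (hasSubst_of_constantCoeff_zero hb0)])
    (by intro i; fin_cases i <;>
      simp [b, b', sb_add (hasSubst_of_constantCoeff_zero hb0'), subst_X (hasSubst_of_constantCoeff_zero hb0')])
  refine ⟨ψ, ψ A + ψ B + ψ D, ψ B + 2 * ψ D, ψ D, ?_, by simp [hcc, hA, hD, hB]⟩
  rw [hF]
  simp only [map_add, map_mul, map_pow, show ψ (X 0) = X 0 from hψ 0, show ψ (X 1) = X 1 + X 0 from hψ 1]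
  ring

end Groth.Agent.CommAlg4.GermNormal
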