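import Mathlib
import Groth.Agent.CommAlg4.PlaneGermNormal
import Groth.Prelude.Def_W4c1arstab1appArSing

set_option autoImplicit false

/-! Involutions of the complete local rings of `A_r` singularities, characteristic different from 2. -/

universe u

namespace Groth.Agent.CommAlg4.ASInvolution

open MvPowerSeries DoubleLine GermNormal

variable {k : Type u} [Field k]

local notation "T" => MvPowerSeries (Fin 2) k

local notation "M" => RingHom.ker (MvPowerSeries.constantCoeff : MvPowerSeries (Fin 2) k →+* k)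

theorem cc_eq (φ : T ≃ₐ[k] T) (x : T) : constantCoeff (φ x) = constantCoeff x := by
  have := cc_map φ (x := x - C (constantCoeff x)) (by simp)
  rw [map_sub, show φ (C (constantCoeff x)) = C (constantCoeff x) from φ.commutes _] at this
  simpa [sub_eq_zero] using this

theorem X_mem (i : Fin 2) : (X i : T) ∈ M := constantCoeff_X i

theorem auto_ext {φ ψ : T ≃ₐ[k] T} (h : ∀ i, φ (X i) = ψ (X i)) (f : T) : φ f = ψ f := by
  rw [← sub_eq_zero]
  refine eq_zero_of_mem_pow fun n => ?_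
  obtain ⟨p, hp⟩ := exists_poly (k := k) n f
  have hpoly : φ (p : T) = ψ (p : T) := by
    induction p using MvPolynomial.induction_on generalizing f with
    | C c =>
      rw [MvPolynomial.coe_C]
      exact (φ.commutes c).trans (ψ.commutes c).symm
    | add p q hp' hq' =>
      simp only [MvPolynomial.coe_add, map_add]
      rw [hp' (p : T) (by simp), hq' (q : T) (by simp)]
    | mul_X p i hp' =>
      simp only [MvPolynomial.coe_mul, MvPolynomial.coe_X, map_mul, h]
      rw [hp' (p : T) (by simp)]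
  have e : φ f - ψ f = φ (f - (p : T)) - ψ (f - (p : T)) := by rw [map_sub, map_sub, hpoly]; ring
  rw [e]
  exact Ideal.sub_mem _ (map_mem_pow φ hp) (map_mem_pow ψ hp)

theorem hom_ext_quot {J : Ideal T} (hJ : J ≤ M) (ψ₁ ψ₂ : T →ₐ[k] T ⧸ J) (h : ∀ i, ψ₁ (X i) = ψ₂ (X i)) :
    ψ₁ = ψ₂ := by
  have hJ' : J ≠ ⊤ := fun hh => RingHom.ker_ne_top _ (top_le_iff.1 (hh ▸ hJ))
  haveI : Nontrivial (T ⧸ J) := Ideal.Quotient.nontrivial_iff.2 hJ'
  haveI : IsLocalRing (T ⧸ J) := IsLocalRing.of_surjective' (Ideal.Quotient.mk J) Ideal.Quotient.mk_surjective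
  set m : Ideal (T ⧸ J) := (M).map (Ideal.Quotient.mk J) with hm
  have hmtop : m ≠ ⊤ := by
    intro hh
    have h1 : (1 : T ⧸ J) ∈ m := hh ▸ Submodule.mem_top
    obtain ⟨z, hz, hz'⟩ := (Ideal.mem_map_iff_of_surjective _ Ideal.Quotient.mk_surjective).1 h1
    have h2 : z - 1 ∈ J := Ideal.Quotient.eq.1 (hz'.trans (map_one _).symm)
    have h3 := RingHom.mem_ker.1 (hJ h2)
    rw [map_sub, RingHom.mem_ker.1 hz, map_one, zero_sub, neg_eq_zero] at h3
    exact one_ne_zero h3
  have hloc : ∀ ψ : T →ₐ[k] T ⧸ J, (M).map ψ ≤ m := by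
    intro ψ
    rw [Ideal.map_le_iff_le_comap]
    intro x hx
    rw [Ideal.mem_comap]
    obtain ⟨s, hs⟩ := Ideal.Quotient.mk_surjective (ψ x)
    rw [← hs]
    refine Ideal.mem_map_of_mem _ ?_
    rw [RingHom.mem_ker]
    by_contra hc
    have hu : IsUnit (x - C (constantCoeff s) : T) := by
      rw [MvPowerSeries.isUnit_iff_constantCoeff, map_sub, RingHom.mem_ker.1 hx, constantCoeff_C, zero_sub]
      exact (Ne.isUnit hc).neg
    have hu' := hu.map ψ
    rw [map_sub, ← hs, show ψ (C (constantCoeff s)) = Ideal.Quotient.mk J (C (constantCoeff s)) from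
      ψ.commutes _, ← map_sub] at hu'
    exact hmtop (Ideal.eq_top_of_isUnit_mem _ (Ideal.mem_map_of_mem _ (by simp)) hu')
  refine AlgHom.ext fun f => ?_
  rw [← sub_eq_zero]
  have hmem : ∀ n, ψ₁ f - ψ₂ f ∈ m ^ n := by
    intro n
    obtain ⟨p, hp⟩ := exists_poly (k := k) n f
    have hpoly : ψ₁ (p : T) = ψ₂ (p : T) :=
      AlgHom.congr_fun (MvPolynomial.algHom_ext (f := ψ₁.comp (MvPolynomial.coeToMvPowerSeries.algHom k))
        (g := ψ₂.comp (MvPolynomial.coeToMvPowerSeries.algHom k)) fun i => by simpa using h i) p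
    have e : ψ₁ f - ψ₂ f = ψ₁ (f - (p : T)) - ψ₂ (f - (p : T)) := by rw [map_sub, map_sub, hpoly]; ring
    rw [e]
    have hψ : ∀ ψ : T →ₐ[k] T ⧸ J, ψ (f - (p : T)) ∈ m ^ n := fun ψ => by
      have := Ideal.mem_map_of_mem ψ hp
      rw [Ideal.map_pow] at this
      exact Ideal.pow_right_mono (hloc ψ) n this
    exact Ideal.sub_mem _ (hψ ψ₁) (hψ ψ₂)
  have hinf := Ideal.iInf_pow_eq_bot_of_isLocalRing m hmtop
  have : ψ₁ f - ψ₂ f ∈ ⨅ n : ℕ, m ^ n := Ideal.mem_iInf.2 hmem
  rw [hinf] at this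
  exact this

/-- coordinate changes from a pair of series with independent linear parts -/
theorem exists_algEquiv_of_det {a b : T} (ha : constantCoeff a = 0) (hb : constantCoeff b = 0)
    (hdet : lin k 0 a * lin k 1 b - lin k 1 a * lin k 0 b ≠ 0) :
    ∃ φ : T ≃ₐ[k] T, φ (X 0) = a ∧ φ (X 1) = b := by
  obtain ⟨sw, hs0, hs1⟩ := exists_swap (k := k)
  suffices H : ∀ a b : T, constantCoeff a = 0 → constantCoeff b = 0 → lin k 0 a ≠ 0 →
      lin k 0 a * lin k 1 b - lin k 1 a * lin k 0 b ≠ 0 → ∃ φ : T ≃ₐ[k] T, φ (X 0) = a ∧ φ (X 1) = b by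
    by_cases h : lin k 0 a = 0
    · have hb0 : lin k 0 b ≠ 0 := fun hh => hdet (by simp [h, hh])
      obtain ⟨φ, h0, h1⟩ := H b a hb ha hb0 (by intro hh; exact hdet (by linear_combination -hh))
      exact ⟨sw.trans φ, by rw [AlgEquiv.trans_apply, hs0, h1], by rw [AlgEquiv.trans_apply, hs1, h0]⟩
    · exact H a b ha hb h hdet
  intro a b ha hb h hdet
  obtain ⟨φ₁, h10, h11⟩ := exists_algEquiv_pair ha h
  obtain ⟨p, q, hpq⟩ := exists_decomp (cc_map φ₁.symm hb)
  have hb' : b = φ₁ p * a + φ₁ q * X 1 := by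
    have := congrArg φ₁ hpq
    rwa [φ₁.apply_symm_apply, map_add, map_mul, map_mul, h10, h11] at this
  have hq : constantCoeff q ≠ 0 := by
    intro hq
    apply hdet
    rw [hb']
    simp [lin, Derivation.leibniz, ha, hq, cc_eq]
    ring
  obtain ⟨g, hg0, hg1⟩ := exists_algEquiv_pair (k := k) (ρ := sw (φ₁.symm b)) (cc_map sw (cc_map φ₁.symm hb))
    (by
      rw [hpq, map_add, map_mul, map_mul, hs0, hs1]
      simp [lin, Derivation.leibniz, cc_eq, hq])
  refine ⟨(sw.trans (g.trans sw.symm)).trans φ₁, ?_, ?_⟩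
  · rw [AlgEquiv.trans_apply, AlgEquiv.trans_apply, AlgEquiv.trans_apply, hs0, hg1,
      show sw.symm (X 1) = X 0 by rw [← hs0, sw.symm_apply_apply], h10]
  · rw [AlgEquiv.trans_apply, AlgEquiv.trans_apply, AlgEquiv.trans_apply, hs1, hg0,
      sw.symm_apply_apply, φ₁.apply_symm_apply]

theorem axis_mem_pow {n : ℕ} {f : T} (hf : f ∈ M ^ n) : PowerSeries.X ^ n ∣ axis f := by
  have h1 : (M).map (axis (k := k)) ≤ Ideal.span {PowerSeries.X} := by
    rw [Ideal.map_le_iff_le_comap]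
    intro z hz
    rw [Ideal.mem_comap, Ideal.mem_span_singleton, PowerSeries.X_dvd_iff, constantCoeff_axis]
    exact hz
  have h2 := Ideal.pow_right_mono h1 n
  rw [← Ideal.map_pow, Ideal.span_singleton_pow] at h2
  exact Ideal.mem_span_singleton.1 (h2 (Ideal.mem_map_of_mem _ hf))

/-- `y^2 - x^n` is not a square modulo higher order terms -/
theorem not_sq_congr (h2 : (2 : k) ≠ 0) {r : ℕ} (hr : 1 ≤ r) {γ u : T} (hu : constantCoeff u ≠ 0) :
    γ ^ 2 - u * ArSing.eqn k r ∉ M ^ (r + 2) := by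
  intro hE
  have h1 : pderiv k 1 (γ ^ 2 - u * ArSing.eqn k r) ∈ M ^ (r + 1) := pderiv_mem_pow 1 (r + 1) _ hE
  have hγ0 : constantCoeff γ = 0 := by
    have h := RingHom.mem_ker.1 (Ideal.pow_le_self (Nat.succ_ne_zero _) hE)
    simpa [ArSing.eqn] using h
  have hγ1 : lin k 1 γ ≠ 0 := by
    have h3 : γ ^ 2 - u * ArSing.eqn k r ∈ M ^ 3 := Ideal.pow_le_pow_right (by omega) hE
    have h4 := RingHom.mem_ker.1 (show pderiv k 1 (pderiv k 1 (γ ^ 2 - u * ArSing.eqn k r)) ∈ M by
      simpa using pderiv_mem_pow 1 1 _ (pderiv_mem_pow 1 2 _ h3))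
    intro hh
    rw [lin] at hh
    simp [ArSing.eqn, Derivation.leibniz, Derivation.leibniz_pow, hγ0, hh, map_ofNat, pderiv_X_self,
      pderiv_X_of_ne (show (0 : Fin 2) ≠ 1 by decide), h2, hu] at h4
  have hX1 : axis (X 1 : T) = 0 := (axis_eq_zero_iff _).2 (Ideal.mem_span_singleton_self _)
  have e0 := axis_mem_pow hE
  have e1 := axis_mem_pow h1
  simp only [ArSing.eqn, map_sub, map_mul, map_pow, hX1, axis_X0, Derivation.leibniz, Derivation.leibniz_pow,
    pderiv_X_self, pderiv_X_of_ne (show (0 : Fin 2) ≠ 1 by decide), smul_eq_mul, nsmul_eq_mul, map_add,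
    map_natCast, mul_zero, zero_mul, sub_zero, mul_one, zero_pow two_ne_zero, zero_sub, pow_one, add_zero,
    zero_add, Nat.cast_ofNat, map_ofNat, smul_zero] at e0 e1
  have hU : IsUnit (axis u) := by
    rw [PowerSeries.isUnit_iff_constantCoeff, constantCoeff_axis]; exact Ne.isUnit hu
  have hb : IsUnit (2 * axis (pderiv k 1 γ)) := by
    rw [PowerSeries.isUnit_iff_constantCoeff, map_mul, constantCoeff_axis, map_ofNat]
    exact (mul_ne_zero h2 hγ1).isUnit
  have ha : PowerSeries.X ^ (r + 1) ∣ axis γ := by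
    have h5 : PowerSeries.X ^ (r + 1) ∣ axis γ * (2 * axis (pderiv k 1 γ)) := by
      have h6 := dvd_sub e1 (dvd_mul_left (PowerSeries.X ^ (r + 1)) (axis (pderiv k 1 u)))
      convert h6 using 1
      ring
    exact (hb.dvd_mul_right).1 h5
  have h7 : PowerSeries.X ^ (r + 2) ∣ axis γ ^ 2 := by
    refine (pow_dvd_pow _ (by omega : r + 2 ≤ (r + 1) * 2)).trans ?_
    rw [pow_mul]
    exact pow_dvd_pow_of_dvd ha 2
  have h8 : PowerSeries.X ^ (r + 2) ∣ axis u * PowerSeries.X ^ (r + 1) := by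
    have h6 := dvd_sub e0 h7
    convert h6 using 1
    ring
  obtain ⟨w, hw⟩ := h8
  have h9 : axis u = PowerSeries.X * w := by
    refine mul_right_cancel₀ (pow_ne_zero (r + 1) PowerSeries.X_ne_zero) ?_
    rw [hw]; ring
  exact PowerSeries.X_prime.not_unit (isUnit_of_dvd_unit ⟨w, h9⟩ hU)

theorem eqn_mem_sq {r : ℕ} (hr : 1 ≤ r) : ArSing.eqn k r ∈ M ^ 2 :=
  Ideal.sub_mem _ (Ideal.pow_mem_pow (X_mem 1) 2)
    (Ideal.pow_le_pow_right (by omega : 2 ≤ r + 1) (Ideal.pow_mem_pow (X_mem 0) _))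

theorem eqn_ne_zero (r : ℕ) : ArSing.eqn k r ≠ 0 := by
  intro h
  have := congrArg (axis (k := k)) h
  simp [ArSing.eqn, axis_X0, (axis_eq_zero_iff (X 1 : T)).2 (Ideal.mem_span_singleton_self _)] at this

/-- the index of an A-singularity is determined -/
theorem index_eq (h2 : (2 : k) ≠ 0) {r m : ℕ} (hr : 1 ≤ r) (Λ : T ≃ₐ[k] T) {u : T} (hu : IsUnit u)
    (h : Λ (ArSing.eqn k m) = u * ArSing.eqn k r) : m = r := by
  have key : ∀ {r m : ℕ}, 1 ≤ r → r < m → ∀ (Λ : T ≃ₐ[k] T) (u : T), IsUnit u →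
      Λ (ArSing.eqn k m) ≠ u * ArSing.eqn k r := by
    intro r m hr hlt Λ u hu h
    refine not_sq_congr h2 hr (γ := Λ (X 1)) ((MvPowerSeries.isUnit_iff_constantCoeff.1 hu).ne_zero) ?_
    have e : Λ (X 1) ^ 2 - u * ArSing.eqn k r = Λ (X 0 ^ (m + 1)) := by
      rw [← h, ArSing.eqn, map_sub, map_pow]; ring
    rw [e]
    exact map_mem_pow Λ (Ideal.pow_le_pow_right (by omega) (Ideal.pow_mem_pow (X_mem 0) _))
  rcases lt_trichotomy m r with hlt | rfl | hgt
  · exfalso
    obtain ⟨v, hv⟩ := hu.exists_left_inv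
    have h' : Λ.symm (ArSing.eqn k r) = Λ.symm v * ArSing.eqn k m := by
      have : ArSing.eqn k r = v * Λ (ArSing.eqn k m) := by rw [h, ← mul_assoc, hv, one_mul]
      rw [this, map_mul, Λ.symm_apply_apply]
    rcases Nat.eq_zero_or_pos m with rfl | hm
    · have h1 : Λ (ArSing.eqn k 0) ∈ M ^ 2 := h ▸ Ideal.mul_mem_left _ _ (eqn_mem_sq hr)
      have h2' := map_mem_pow Λ.symm h1
      rw [Λ.symm_apply_apply] at h2'
      have := RingHom.mem_ker.1 (show pderiv k 0 (ArSing.eqn k 0) ∈ M by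
        simpa using pderiv_mem_pow 0 1 _ h2')
      simp [ArSing.eqn, Derivation.leibniz_pow, pderiv_X_self,
        pderiv_X_of_ne (show (1 : Fin 2) ≠ 0 by decide)] at this
    · exact key hm hlt Λ.symm _ ((IsUnit.of_mul_eq_one _ hv).map Λ.symm) h'
  · rfl
  · exact absurd h (key hr hgt Λ u hu)

theorem not_double (h2 : (2 : k) ≠ 0) {r : ℕ} (hr : 1 ≤ r) (Λ : T ≃ₐ[k] T) {u : T} (hu : IsUnit u)
    (h : Λ (X 1 ^ 2) = u * ArSing.eqn k r) : False := by
  refine not_sq_congr h2 hr (γ := Λ (X 1)) ((MvPowerSeries.isUnit_iff_constantCoeff.1 hu).ne_zero) ?_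
  rw [← map_pow, h, sub_self]
  exact Ideal.zero_mem _

theorem exists_diag {e0 e1 : k} (h0 : e0 * e0 = 1) (h1 : e1 * e1 = 1) :
    ∃ D : T ≃ₐ[k] T, D (X 0) = C e0 * X 0 ∧ D (X 1) = C e1 * X 1 := by
  refine exists_algEquiv_of_det (by simp) (by simp) ?_
  simp [lin_C_mul, lin_X, left_ne_zero_of_mul_eq_one h0, left_ne_zero_of_mul_eq_one h1]

theorem diag_diag {D : T ≃ₐ[k] T} {e : Fin 2 → k} (he : ∀ i, e i * e i = 1)
    (hD : ∀ i, D (X i) = C (e i) * X i) (f : T) : D (D f) = f := by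
  have := auto_ext (φ := D.trans D) (ψ := AlgEquiv.refl) (fun i => by
    rw [AlgEquiv.trans_apply, hD, map_mul, show D (C (e i)) = C (e i) from D.commutes _, hD, ← mul_assoc,
      ← map_mul, he, map_one, one_mul]
    rfl) f
  simpa using this

theorem pderiv_diag {D : T ≃ₐ[k] T} {e : Fin 2 → k} (hD : ∀ i, D (X i) = C (e i) * X i) (i : Fin 2) (f : T) :
    pderiv k i (D f) = C (e i) * D (pderiv k i f) := by
  have hpoly : ∀ p : MvPolynomial (Fin 2) k, pderiv k i (D (p : T)) = C (e i) * D (pderiv k i (p : T)) := by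
    intro p
    induction p using MvPolynomial.induction_on with
    | C c => rw [MvPolynomial.coe_C, show D (C c) = C c from D.commutes c, pderiv_C, map_zero, mul_zero]
    | add p q hp hq => simp only [MvPolynomial.coe_add, map_add, hp, hq, mul_add]
    | mul_X p j hp =>
      have hX : pderiv k i (D (X j)) = C (e i) * D (pderiv k i (X j)) := by
        rw [hD, Derivation.leibniz, pderiv_C, smul_zero, add_zero, smul_eq_mul]
        by_cases hij : j = i
        · subst hij; rw [pderiv_X_self, map_one]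
        · rw [pderiv_X_of_ne hij, map_zero, mul_zero, mul_zero]
      simp only [MvPolynomial.coe_mul, MvPolynomial.coe_X, Derivation.leibniz, map_mul, map_add, smul_eq_mul,
        hp, hX]
      ring
  rw [← sub_eq_zero]
  refine eq_zero_of_mem_pow fun n => ?_
  obtain ⟨p, hp⟩ := exists_poly (k := k) (n + 1) f
  have e' : pderiv k i (D f) - C (e i) * D (pderiv k i f) =
      pderiv k i (D (f - (p : T))) - C (e i) * D (pderiv k i (f - (p : T))) := by
    simp only [map_sub, hpoly]; ring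
  rw [e']
  exact Ideal.sub_mem _ (pderiv_mem_pow i n _ (map_mem_pow D hp))
    (Ideal.mul_mem_left _ _ (map_mem_pow D (pderiv_mem_pow i n _ hp)))

theorem diag_emb {D : T ≃ₐ[k] T} {e1 : k} (h1 : D (X 1) = C e1 * X 1) (h : PowerSeries k) :
    D (emb h) = emb (PowerSeries.rescale e1 h) := by
  rw [← sub_eq_zero]
  refine eq_zero_of_mem_pow fun n => ?_
  induction n generalizing h with
  | zero => simp
  | succ n ih =>
    obtain ⟨w, hw⟩ : PowerSeries.X ∣ h - PowerSeries.C (PowerSeries.constantCoeff h) := by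
      rw [PowerSeries.X_dvd_iff]; simp
    have e : h = PowerSeries.C (PowerSeries.constantCoeff h) + PowerSeries.X * w := by rw [← hw]; ring
    have hC : ∀ c : k, emb (PowerSeries.C c) = (C c : T) := fun c => PowerSeries.toMvPowerSeries_C _ _
    have hC' : ∀ c : k, PowerSeries.rescale e1 (PowerSeries.C c) = PowerSeries.C c := fun c => by
      ext m; rw [PowerSeries.coeff_rescale, PowerSeries.coeff_C]; split_ifs with hm <;> simp [hm]
    have e2 : D (emb h) - emb (PowerSeries.rescale e1 h) =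
        (C e1 * X 1) * (D (emb w) - emb (PowerSeries.rescale e1 w)) := by
      conv_lhs => rw [e]
      simp only [map_add, map_mul, hC', hC, PowerSeries.rescale_X, emb_X, h1,
        show ∀ c : k, D (C c) = C c from D.commutes]
      ring
    rw [e2, pow_succ']
    exact Ideal.mul_mem_mul (Ideal.mul_mem_left _ _ (X_mem 1)) (ih w)

theorem emb_eq_zero_of_dvd {d : PowerSeries k} (h : (X 0 : T) ∣ emb d) : d = 0 := by
  have h0 : (emb d : T) = 0 := by
    ext m
    rcases eq_or_ne (m 0) 0 with hm | hm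
    · rw [X_dvd_iff.1 h m hm, map_zero]
    · rw [emb_coeff d m hm, map_zero]
  exact PowerSeries.toMvPowerSeries_injective (1 : Fin 2) (h0.trans (map_zero _).symm)

/-- equivariant normal form -/
theorem equivariant_normal [IsAlgClosed k] (h2 : (2 : k) ≠ 0) {D : T ≃ₐ[k] T} {e : Fin 2 → k}
    (he : ∀ i, e i * e i = 1) (hD : ∀ i, D (X i) = C (e i) * X i) {H A B E : T}
    (hH : H = A * X 0 ^ 2 + B * (X 0 * X 1) + E * X 1 ^ 2) (hA : constantCoeff A ≠ 0)
    {δ : k} (hδ : D H = C δ * H) :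
    δ = 1 ∧ ∃ (Ψ : T ≃ₐ[k] T) (v : T), (∀ f, Ψ (D f) = D (Ψ f)) ∧ IsUnit v ∧
      (Ψ H = v * X 0 ^ 2 ∨ ∃ m, e 1 ^ (m + 1) = 1 ∧ Ψ H = v * (X 0 ^ 2 - X 1 ^ (m + 1))) := by
  classical
  have hDC : ∀ c : k, D (C c) = C c := D.commutes
  set Z := pderiv k 0 H with hZ
  have hDZ : C (e 0) * D Z = C δ * Z := by
    rw [hZ, ← pderiv_diag hD, hδ, Derivation.leibniz, pderiv_C, smul_zero, add_zero, smul_eq_mul]
  have hZ0 : constantCoeff Z = 0 := by simp [hZ, hH, Derivation.leibniz, Derivation.leibniz_pow]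
  have hZ1 : lin k 0 Z = 2 * constantCoeff A := by
    simp [hZ, hH, lin, Derivation.leibniz, Derivation.leibniz_pow, map_ofNat]
    ring
  obtain ⟨φ₁, h10, h11⟩ := exists_algEquiv_pair hZ0 (by rw [hZ1]; exact mul_ne_zero h2 hA)
  obtain ⟨g, s', hs'⟩ := exists_split (φ₁.symm (X 0))
  have hg0 : PowerSeries.constantCoeff g = 0 := by
    have h := cc_map φ₁.symm (constantCoeff_X (0 : Fin 2))
    rw [hs'] at h
    simpa [constantCoeff_emb] using h
  have hX0 : (X 0 : T) = emb g + Z * φ₁ s' := by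
    have h := congrArg φ₁ hs'
    rwa [φ₁.apply_symm_apply, map_add, map_mul, h10, fix_emb φ₁ h11] at h
  have hv : IsUnit (φ₁ s') := by
    rw [MvPowerSeries.isUnit_iff_constantCoeff]
    refine Ne.isUnit fun h => ?_
    have := congrArg (lin k 0) hX0
    simp [lin, pderiv_emb, Derivation.leibniz, h, hZ0] at this
  obtain ⟨v', hv'⟩ := hv.exists_left_inv
  obtain ⟨τ, hτ0, hτ1⟩ := exists_algEquiv_of_det (k := k) (a := X 0 + emb g) (b := X 1)
    (by simp [constantCoeff_emb, hg0]) (by simp) (by simp [lin, pderiv_emb])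
  have hcomm := pderiv_comm τ 0 (fun j => by
    fin_cases j
    · change pderiv k 0 (τ (X 0)) = τ (pderiv k 0 (X 0))
      rw [hτ0, map_add, pderiv_emb, add_zero, pderiv_X_self, map_one]
    · change pderiv k 0 (τ (X 1)) = τ (pderiv k 0 (X 1))
      rw [hτ1, pderiv_X_of_ne (show (1 : Fin 2) ≠ 0 by decide), map_zero])
  have hZv : Z = (X 0 - emb g) * v' := by
    rw [hX0]
    calc Z = Z * (v' * φ₁ s') := by rw [hv', mul_one]
      _ = _ := by ring
  have hτg : τ (emb g) = emb g := fix_emb τ hτ1 g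
  have hτZ : τ Z = X 0 * τ v' := by
    rw [hZv, map_mul, map_sub, hτ0, hτg, add_sub_cancel_right]
  have hrg : PowerSeries.rescale (e 1) g = PowerSeries.C (e 0) * g := by
    have hw : IsUnit (τ (D v')) := ((IsUnit.of_mul_eq_one _ hv').map D).map τ
    obtain ⟨w', hw'⟩ := hw.exists_left_inv
    have h := congrArg τ hDZ
    rw [map_mul, map_mul, show τ (C (e 0)) = C (e 0) from τ.commutes _, show τ (C δ) = C δ from τ.commutes _,
      hτZ, hZv, map_mul D, map_sub D, hD, diag_emb (hD 1), map_mul τ, map_sub τ, map_mul τ,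
      show τ (C (e 0)) = C (e 0) from τ.commutes _, hτ0, fix_emb τ hτ1] at h
    have hd : (X 0 : T) ∣ emb (PowerSeries.C (e 0) * g - PowerSeries.rescale (e 1) g) := by
      refine ⟨C (e 0) * C δ * τ v' * w' - C (e 0), ?_⟩
      rw [map_sub, map_mul, show emb (PowerSeries.C (e 0)) = (C (e 0) : T) from PowerSeries.toMvPowerSeries_C _ _]
      have hee : (C (e 0) : T) * C (e 0) = 1 := by rw [← map_mul, he, map_one]
      linear_combination (C (e 0) * w') * h +
        (-(C (e 0) * X 0 + C (e 0) * emb g - emb (PowerSeries.rescale (e 1) g)) * τ (D v') * w') * hee +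
        (-(C (e 0) * X 0 + C (e 0) * emb g - emb (PowerSeries.rescale (e 1) g))) * hw'
    exact (sub_eq_zero.1 (emb_eq_zero_of_dvd hd)).symm
  have hτD : ∀ f, τ (D f) = D (τ f) := auto_ext (φ := D.trans τ) (ψ := τ.trans D) (fun i => by
    fin_cases i
    · change τ (D (X 0)) = D (τ (X 0))
      rw [hD, map_mul, show τ (C (e 0)) = C (e 0) from τ.commutes _, hτ0, map_add, hD, diag_emb (hD 1), hrg,
        map_mul, show emb (PowerSeries.C (e 0)) = (C (e 0) : T) from PowerSeries.toMvPowerSeries_C _ _]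
      ring
    · change τ (D (X 1)) = D (τ (X 1))
      rw [hD, map_mul, show τ (C (e 1)) = C (e 1) from τ.commutes _, hτ1, hD])
  obtain ⟨c, G', hG⟩ := exists_split (τ H)
  have hdG : G' + X 0 * pderiv k 0 G' = X 0 * τ v' := by
    rw [← hτZ, hZ, ← hcomm, hG, map_add, pderiv_emb, zero_add, Derivation.leibniz, pderiv_X_self,
      smul_eq_mul, smul_eq_mul, mul_one, add_comm]
  obtain ⟨u, hu⟩ : (X 0 : T) ∣ G' := ⟨τ v' - pderiv k 0 G', by linear_combination hdG⟩
  have hu0 : constantCoeff u ≠ 0 := by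
    intro h
    have hv0 : constantCoeff (τ v') ≠ 0 :=
      (MvPowerSeries.isUnit_iff_constantCoeff.1 ((IsUnit.of_mul_eq_one _ hv').map τ)).ne_zero
    rw [hu] at hdG
    have := congrArg (lin k 0) hdG
    simp [lin, Derivation.leibniz, h] at this
    exact hv0 this.symm
  have huu : IsUnit u := MvPowerSeries.isUnit_iff_constantCoeff.2 (Ne.isUnit hu0)
  rw [hu] at hG
  have hee : (C (e 0) : T) * C (e 0) = 1 := by rw [← map_mul, he, map_one]
  have hDG : emb (PowerSeries.rescale (e 1) c) + X 0 ^ 2 * D u = C δ * emb c + X 0 ^ 2 * (C δ * u) := by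
    have h := hτD H
    rw [hδ, map_mul, show τ (C δ) = C δ from τ.commutes _, hG, map_add, map_mul, map_mul, hD,
      diag_emb (hD 1)] at h
    linear_combination -h - (X 0 ^ 2 * D u) * hee
  have hc : PowerSeries.rescale (e 1) c = PowerSeries.C δ * c := by
    refine sub_eq_zero.1 (emb_eq_zero_of_dvd ⟨X 0 * (C δ * u - D u), ?_⟩)
    rw [map_sub, map_mul, show emb (PowerSeries.C δ) = (C δ : T) from PowerSeries.toMvPowerSeries_C _ _]
    linear_combination hDG
  have hDu : D u = C δ * u := by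
    refine mul_left_cancel₀ (pow_ne_zero 2 (fun h : (X 0 : T) = 0 => by
      simpa [lin_X] using (show lin k 0 (X 0 : T) = 0 by rw [h, lin, map_zero, map_zero]))) ?_
    rw [hc, map_mul, show emb (PowerSeries.C δ) = (C δ : T) from PowerSeries.toMvPowerSeries_C _ _] at hDG
    linear_combination hDG
  have hδ1 : δ = 1 := by
    have h := congrArg constantCoeff hDu
    rw [cc_eq, map_mul, constantCoeff_C] at h
    exact mul_right_cancel₀ hu0 (by rw [one_mul]; exact h.symm)
  subst hδ1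
  rw [map_one, one_mul] at hc hDu
  refine ⟨rfl, ?_⟩
  rcases eq_or_ne c 0 with rfl | hc0
  · refine ⟨τ, u, hτD, huu, Or.inl ?_⟩
    rw [hG, map_zero, zero_add]
    ring
  · set m := c.order.toNat with hm
    set c' := c.divXPowOrder with hc'
    have hcc : PowerSeries.X ^ m * c' = c := PowerSeries.X_pow_order_mul_divXPowOrder
    have hc'0 : PowerSeries.constantCoeff c' ≠ 0 :=
      (PowerSeries.isUnit_iff_constantCoeff.1 (PowerSeries.isUnit_divided_by_X_pow_order hc0)).ne_zero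
    have hm1 : m ≠ 0 := by
      intro h0
      have h := congrArg constantCoeff hG
      rw [map_add, map_mul, constantCoeff_X, zero_mul, add_zero, constantCoeff_emb, ← hcc, h0, pow_zero, one_mul,
        cc_map τ (show constantCoeff H = 0 by simp [hH])] at h
      exact hc'0 h.symm
    have hrc : PowerSeries.C (e 1 ^ m) * PowerSeries.rescale (e 1) c' = c' := by
      refine mul_left_cancel₀ (pow_ne_zero m PowerSeries.X_ne_zero) ?_
      have h := hc
      rw [← hcc, map_mul, map_pow, PowerSeries.rescale_X, mul_pow, ← map_pow] at h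
      linear_combination h
    have hem : e 1 ^ m = 1 := by
      have h := congrArg PowerSeries.constantCoeff hrc
      rw [map_mul, PowerSeries.constantCoeff_C, ← PowerSeries.coeff_zero_eq_constantCoeff_apply
        (PowerSeries.rescale (e 1) c'), PowerSeries.coeff_rescale, pow_zero, one_mul,
        PowerSeries.coeff_zero_eq_constantCoeff_apply] at h
      exact mul_right_cancel₀ hc'0 (by rw [one_mul]; exact h)
    rw [hem, map_one, one_mul] at hrc
    obtain ⟨u', hu'⟩ := huu.exists_left_inv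
    have hu'0 : constantCoeff u' ≠ 0 := fun h => by simpa [h] using congrArg constantCoeff hu'
    have hDu' : D u' = u' := by
      have h := congrArg D hu'
      rw [map_mul, hDu, map_one] at h
      exact mul_right_cancel₀ huu.ne_zero (h.trans hu'.symm)
    obtain ⟨s, hs0, hs⟩ := exists_sqrt h2 (w := -(emb c') * u') (by simp [constantCoeff_emb, hc'0, hu'0])
    have hDs : D s = s := by
      have h : (D s - s) * (D s + s) = 0 := by
        have h' := congrArg D hs
        rw [map_pow, map_mul, map_neg, diag_emb (hD 1), hrc, hDu'] at h'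
        linear_combination h' - hs
      rcases mul_eq_zero.1 h with h | h
      · exact sub_eq_zero.1 h
      · have h' := congrArg constantCoeff h
        rw [map_add, cc_eq, map_zero, ← two_mul] at h'
        exact absurd h' (mul_ne_zero h2 hs0)
    have hsu : IsUnit s := MvPowerSeries.isUnit_iff_constantCoeff.2 (Ne.isUnit hs0)
    obtain ⟨s'', hs''⟩ := hsu.exists_left_inv
    have hDs'' : D s'' = s'' := by
      have h := congrArg D hs''
      rw [map_mul, hDs, map_one] at h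
      exact mul_right_cancel₀ hsu.ne_zero (h.trans hs''.symm)
    have hs''0 : constantCoeff s'' ≠ 0 := fun h => by simpa [h] using congrArg constantCoeff hs''
    obtain ⟨θ, hθ0, hθ1⟩ := exists_algEquiv_of_det (k := k) (a := X 0 * s'') (b := X 1) (by simp) (by simp)
      (by simp [lin_mul, lin_X, hs''0])
    have hθD : ∀ f, θ (D f) = D (θ f) := auto_ext (φ := D.trans θ) (ψ := θ.trans D) (fun i => by
      fin_cases i
      · change θ (D (X 0)) = D (θ (X 0))
        rw [hD, map_mul, show θ (C (e 0)) = C (e 0) from θ.commutes _, hθ0, map_mul, hD, hDs'']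
        ring
      · change θ (D (X 1)) = D (θ (X 1))
        rw [hD, map_mul, show θ (C (e 1)) = C (e 1) from θ.commutes _, hθ1, hD])
    have key : τ H = (u * s ^ 2) * θ (X 0 ^ 2 - X 1 ^ m) := by
      rw [map_sub, map_pow, map_pow, hθ0, hθ1, hG, ← hcc, map_mul, map_pow, emb_X]
      linear_combination (-(X 0 ^ 2 * u) * (s'' * s + 1)) * hs'' + (u * X 1 ^ m) * hs +
        (-(X 1 ^ m * emb c')) * hu'
    refine ⟨τ.trans θ.symm, θ.symm (u * s ^ 2), fun f => ?_, (huu.mul (hsu.pow 2)).map θ.symm,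
      Or.inr ⟨m - 1, ?_, ?_⟩⟩
    · rw [AlgEquiv.trans_apply, AlgEquiv.trans_apply, hτD, AlgEquiv.symm_apply_eq, hθD, θ.apply_symm_apply]
    · rw [Nat.sub_add_cancel (Nat.one_le_iff_ne_zero.2 hm1)]; exact hem
    · rw [AlgEquiv.trans_apply, key, map_mul, θ.symm_apply_apply, Nat.sub_add_cancel (Nat.one_le_iff_ne_zero.2 hm1)]


section Main

variable [IsAlgClosed k]

local notation "π" r:max => Ideal.Quotient.mk (Ideal.span {ArSing.eqn k r})

theorem span_le_M (r : ℕ) : Ideal.span {ArSing.eqn k r} ≤ M :=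
  (Ideal.span_singleton_le_iff_mem _).2 (by simp [ArSing.eqn])

theorem eqn_second (r : ℕ) : pderiv k 1 (pderiv k 1 (ArSing.eqn k r)) = 2 := by
  have h2' : pderiv k 1 (2 : T) = 0 := by
    rw [← map_ofNat (C (σ := Fin 2) (R := k)) 2]; exact pderiv_C
  simp [ArSing.eqn, Derivation.leibniz, Derivation.leibniz_pow, pderiv_X_self,
    pderiv_X_of_ne (show (0 : Fin 2) ≠ 1 by decide), h2']

/-- decomposition of a series with no constant and linear term -/
theorem exists_quadratic {H : T} (h : H ∈ M ^ 2) :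
    ∃ A B E : T, H = A * X 0 ^ 2 + B * (X 0 * X 1) + E * X 1 ^ 2 := by
  obtain ⟨a, b, hab⟩ := exists_decomp (RingHom.mem_ker.1 (Ideal.pow_le_self two_ne_zero h))
  have h0 := RingHom.mem_ker.1 (show pderiv k 0 H ∈ M by simpa using pderiv_mem_pow 0 1 _ h)
  have h1 := RingHom.mem_ker.1 (show pderiv k 1 H ∈ M by simpa using pderiv_mem_pow 1 1 _ h)
  simp [hab, Derivation.leibniz, pderiv_X_of_ne (show (1 : Fin 2) ≠ 0 by decide),
    pderiv_X_of_ne (show (0 : Fin 2) ≠ 1 by decide)] at h0 h1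
  obtain ⟨A, B₁, hA⟩ := exists_decomp h0
  obtain ⟨B₂, E, hE⟩ := exists_decomp h1
  exact ⟨A, B₁ + B₂, E, by rw [hab, hA, hE]; ring⟩

/-- The classification of involutions. -/
theorem classify (h2 : (2 : k) ≠ 0) {r : ℕ} (hr : 1 ≤ r) (σ : ArSing.ring k r ≃ₐ[k] ArSing.ring k r)
    (hσ : ∀ a, σ (σ a) = a) (hne : σ ≠ AlgEquiv.refl) :
    ∃ φ : ArSing.ring k r ≃ₐ[k] ArSing.ring k r,
      (∃ e0 e1 : k, e0 * e0 = 1 ∧ e1 * e1 = 1 ∧ ¬ (e0 = 1 ∧ e1 = 1) ∧ e0 ^ (r + 1) = 1 ∧
        σ (φ (ArSing.x k r)) = e0 • φ (ArSing.x k r) ∧ σ (φ (ArSing.y k r)) = e1 • φ (ArSing.y k r)) ∨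
      (r = 1 ∧ σ (φ (ArSing.x k r)) = φ (ArSing.y k r) ∧ σ (φ (ArSing.y k r)) = φ (ArSing.x k r)) := by
  classical
  set G := ArSing.eqn k r with hG
  have hGne : G ≠ 0 := eqn_ne_zero r
  let q : T →ₐ[k] ArSing.ring k r := Ideal.Quotient.mkₐ k _
  have hq : Function.Surjective q := Ideal.Quotient.mk_surjective
  have hqG : ∀ t, q t = 0 → ∃ c, c * G = t := fun t ht =>
    Ideal.mem_span_singleton'.1 (Ideal.Quotient.eq_zero_iff_mem.1 ht)
  have hcc : ∀ s t, q s = q t → constantCoeff s = constantCoeff t := fun s t h => by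
    have h1 := RingHom.mem_ker.1 (span_le_M r (Ideal.Quotient.eq.1 h))
    rwa [map_sub, sub_eq_zero] at h1
  -- lifts of the images of the coordinates
  choose S hS using fun i : Fin 2 => hq (σ (q (X i)))
  have hS0 : ∀ i, constantCoeff (S i) = 0 := by
    intro i
    by_contra h
    have hu := ((MvPowerSeries.isUnit_iff_constantCoeff.2 (Ne.isUnit h)).map q).map σ
    rw [hS, hσ] at hu
    obtain ⟨v, hv⟩ := hu.exists_left_inv
    obtain ⟨v', rfl⟩ := hq v
    rw [← map_mul, ← map_one q] at hv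
    simpa using hcc _ _ hv
  let P : k → Fin 2 → T := fun e i => C 2⁻¹ * (X i + C e * S i)
  have hP0 : ∀ e i, constantCoeff (P e i) = 0 := fun e i => by simp [P, hS0]
  have hlinP : ∀ (e : k) (i j : Fin 2),
      lin k j (P e i) = 2⁻¹ * (lin k j (X i) + e * lin k j (S i)) := by
    intro e i j
    simp [P, lin_mul, lin, Derivation.leibniz]
  obtain ⟨e, he, hdet⟩ : ∃ e : Fin 2 → k, (∀ i, e i * e i = 1) ∧
      lin k 0 (P (e 0) 0) * lin k 1 (P (e 1) 1) - lin k 1 (P (e 0) 0) * lin k 0 (P (e 1) 1) ≠ 0 := by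
    by_contra hcon
    push Not at hcon
    have h11 := hcon ![1, 1] (fun i => by fin_cases i <;> simp)
    have h12 := hcon ![1, -1] (fun i => by fin_cases i <;> simp)
    have h21 := hcon ![-1, 1] (fun i => by fin_cases i <;> simp)
    have h22 := hcon ![-1, -1] (fun i => by fin_cases i <;> simp)
    simp [hlinP, lin_X] at h11 h12 h21 h22
    have hk : (2 : k) * 2⁻¹ = 1 := mul_inv_cancel₀ h2
    have : (1 : k) = 0 := by linear_combination h11 + h12 + h21 + h22 - (2 * 2⁻¹ + 1) * hk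
    exact one_ne_zero this
  obtain ⟨Φ, hΦ0, hΦ1⟩ := exists_algEquiv_of_det (hP0 _ _) (hP0 _ _) hdet
  have hΦ : ∀ i, Φ (X i) = P (e i) i := fun i => by
    fin_cases i
    · exact hΦ0
    · exact hΦ1
  obtain ⟨D, hD0, hD1⟩ := exists_diag (k := k) (he 0) (he 1)
  have hD : ∀ i, D (X i) = C (e i) * X i := fun i => by
    fin_cases i
    · exact hD0
    · exact hD1
  have hqC : ∀ c : k, q (C c) = algebraMap k _ c := fun c => q.commutes c
  have hint : ∀ f, σ (q (Φ f)) = q (Φ (D f)) := fun f => by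
    refine AlgHom.congr_fun (hom_ext_quot (span_le_M r) (σ.toAlgHom.comp (q.comp Φ.toAlgHom))
      (q.comp ((D.trans Φ).toAlgHom)) fun i => ?_) f
    change σ (q (Φ (X i))) = q (Φ (D (X i)))
    rw [hD, map_mul Φ, show Φ (C (e i)) = C (e i) from Φ.commutes _, hΦ]
    simp only [P, map_mul, map_add, hqC, hS, hσ, AlgEquiv.commutes]
    have hee : algebraMap k (ArSing.ring k r) (e i) * algebraMap k _ (e i) = 1 := by
      rw [← map_mul, he, map_one]
    linear_combination (-(algebraMap k (ArSing.ring k r) 2⁻¹ * σ (q (X i)))) * hee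
  -- the equation in the new coordinates
  obtain ⟨c, hc⟩ : ∃ c, c * G = Φ (D (Φ.symm G)) := hqG _ (by
    rw [← hint, Φ.apply_symm_apply, show q G = 0 from Ideal.Quotient.eq_zero_iff_mem.2 (Ideal.mem_span_singleton_self _),
      map_zero])
  set H₀ := Φ.symm G with hH₀
  set c' := Φ.symm c with hc'
  have hDH₀ : D H₀ = c' * H₀ := by rw [hc', hH₀, ← map_mul, hc, Φ.symm_apply_apply]
  have hH₀ne : H₀ ≠ 0 := fun h => hGne (by rw [← Φ.apply_symm_apply G, ← hH₀, h, map_zero])
  set δ := constantCoeff c' with hδ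
  have hδ2 : δ * δ = 1 := by
    have h : D c' * c' = 1 := by
      refine mul_right_cancel₀ hH₀ne ?_
      rw [one_mul, mul_assoc, ← hDH₀, ← map_mul, ← hDH₀, diag_diag he hD]
    have h' := congrArg constantCoeff h
    rwa [map_mul, cc_eq, map_one] at h'
  set H := H₀ + C δ * D H₀ with hH
  have hDH : D H = C δ * H := by
    rw [hH, map_add, map_mul, show D (C δ) = C δ from D.commutes _, diag_diag he hD, mul_add, ← mul_assoc, ← map_mul,
      hδ2, map_one, one_mul, add_comm]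
  obtain ⟨w, hw, hΦH⟩ : ∃ w, IsUnit w ∧ Φ H = w * G := by
    refine ⟨Φ (1 + C δ * c'), ?_, ?_⟩
    · refine IsUnit.map Φ ?_
      rw [MvPowerSeries.isUnit_iff_constantCoeff, map_add, map_mul, map_one, constantCoeff_C, ← hδ, hδ2,
        one_add_one_eq_two]
      exact Ne.isUnit h2
    · rw [hH, hDH₀, show H₀ + C δ * (c' * H₀) = (1 + C δ * c') * H₀ by ring, map_mul, hH₀, Φ.apply_symm_apply]
  have hH2 : H ∈ M ^ 2 := by
    rw [show H = Φ.symm (w * G) by rw [← hΦH, Φ.symm_apply_apply]]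
    exact map_mem_pow _ (Ideal.mul_mem_left _ _ (eqn_mem_sq hr))
  -- assembling the automorphism
  have finish : ∀ (Λ : T ≃ₐ[k] T) (v : T), IsUnit v → Λ G = v * G →
      ∃ φ : ArSing.ring k r ≃ₐ[k] ArSing.ring k r, φ (ArSing.x k r) = q (Λ (X 0)) ∧
        φ (ArSing.y k r) = q (Λ (X 1)) := by
    intro Λ v hv h
    refine ⟨Ideal.quotientEquivAlg _ _ Λ ?_, rfl, rfl⟩
    rw [Ideal.map_span, Set.image_singleton]
    change Ideal.span {G} = Ideal.span {Λ G}
    rw [h, Ideal.span_singleton_mul_left_unit hv]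
  have hid : ¬ (e 0 = 1 ∧ e 1 = 1) := by
    rintro ⟨h0, h1⟩
    refine hne (AlgEquiv.ext fun a => ?_)
    obtain ⟨t, rfl⟩ := hq a
    have hDid : ∀ f, D f = f := auto_ext (φ := D) (ψ := AlgEquiv.refl) (fun i => by
      rw [hD]
      fin_cases i
      · simp [h0]
      · simp [h1])
    rw [← Φ.apply_symm_apply t, hint, hDid]
    rfl
  -- data with nonzero square coefficient
  have main : ∀ (Φ D : T ≃ₐ[k] T) (e : Fin 2 → k), (∀ i, e i * e i = 1) → ¬ (e 0 = 1 ∧ e 1 = 1) →
      (∀ i, D (X i) = C (e i) * X i) → (∀ f, σ (q (Φ f)) = q (Φ (D f))) →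
      ∀ (H A B E : T), H = A * X 0 ^ 2 + B * (X 0 * X 1) + E * X 1 ^ 2 → constantCoeff A ≠ 0 →
      D H = C δ * H → (∃ w, IsUnit w ∧ Φ H = w * G) →
      ∃ φ : ArSing.ring k r ≃ₐ[k] ArSing.ring k r, ∃ e0 e1 : k, e0 * e0 = 1 ∧ e1 * e1 = 1 ∧
        ¬ (e0 = 1 ∧ e1 = 1) ∧ e0 ^ (r + 1) = 1 ∧
        σ (φ (ArSing.x k r)) = e0 • φ (ArSing.x k r) ∧ σ (φ (ArSing.y k r)) = e1 • φ (ArSing.y k r) := by
    intro Φ D e he hid hD hint H A B E hAB hA hDH ⟨w, hw, hΦH⟩
    obtain ⟨-, Ψ, v, hΨD, hv, hΨ⟩ := equivariant_normal h2 he hD hAB hA hDH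
    obtain ⟨sw, hs0, hs1⟩ := exists_swap (k := k)
    obtain ⟨v', hv'⟩ := hv.exists_left_inv
    have hsymm : ∀ N : T, Ψ H = v * N → Φ (Ψ.symm N) = (Φ (Ψ.symm v') * w) * G := by
      intro N hN
      have hN' : N = v' * Ψ H := by rw [hN, ← mul_assoc, hv', one_mul]
      rw [hN', map_mul, Ψ.symm_apply_apply, map_mul, hΦH, mul_assoc]
    have hu' : IsUnit (Φ (Ψ.symm v') * w) := (((IsUnit.of_mul_eq_one _ hv').map Ψ.symm).map Φ).mul hw
    set Λ := sw.trans (Ψ.symm.trans Φ) with hΛ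
    rcases hΨ with hΨ | ⟨m, hm, hΨ⟩
    · refine absurd (not_double h2 hr Λ hu' ?_) id
      rw [hΛ, map_pow, AlgEquiv.trans_apply, hs1, ← map_pow, AlgEquiv.trans_apply, hsymm _ hΨ]
    · have hΛG : Λ (ArSing.eqn k m) = (Φ (Ψ.symm v') * w) * G := by
        rw [hΛ, AlgEquiv.trans_apply, ArSing.eqn, map_sub, map_pow, map_pow, hs0, hs1, AlgEquiv.trans_apply,
          hsymm _ hΨ]
      obtain rfl := index_eq h2 hr Λ hu' hΛG
      obtain ⟨φ, hφx, hφy⟩ := finish Λ _ hu' hΛG
      have key : ∀ i, σ (q (Φ (Ψ.symm (X i)))) = e i • q (Φ (Ψ.symm (X i))) := by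
        intro i
        have hcm : D (Ψ.symm (X i)) = Ψ.symm (D (X i)) := by
          rw [eq_comm, AlgEquiv.symm_apply_eq, hΨD, Ψ.apply_symm_apply]
        rw [hint, hcm, hD, map_mul, show Ψ.symm (C (e i)) = C (e i) from Ψ.symm.commutes _, map_mul,
          show Φ (C (e i)) = C (e i) from Φ.commutes _, map_mul, hqC]
        exact (Algebra.smul_def _ _).symm
      refine ⟨φ, e 1, e 0, he 1, he 0, fun h => hid ⟨h.2, h.1⟩, hm, ?_, ?_⟩
      · rw [hφx, hΛ, AlgEquiv.trans_apply, hs0, AlgEquiv.trans_apply]; exact key 1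
      · rw [hφy, hΛ, AlgEquiv.trans_apply, hs1, AlgEquiv.trans_apply]; exact key 0
  obtain ⟨A, B, E, hAB⟩ := exists_quadratic hH2
  obtain ⟨sw, hs0, hs1⟩ := exists_swap (k := k)
  have hswsw : ∀ f, sw (sw f) = f := auto_ext (φ := sw.trans sw) (ψ := AlgEquiv.refl) (fun i => by
    fin_cases i
    · change sw (sw (X 0)) = X 0
      rw [hs0, hs1]
    · change sw (sw (X 1)) = X 1
      rw [hs1, hs0])
  obtain ⟨D', hD'0, hD'1⟩ := exists_diag (k := k) (he 1) (he 0)
  have hD' : ∀ i, D' (X i) = C (![e 1, e 0] i) * X i := fun i => by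
    fin_cases i
    · exact hD'0
    · exact hD'1
  have hswD : ∀ f, sw (D f) = D' (sw f) := auto_ext (φ := D.trans sw) (ψ := sw.trans D') (fun i => by
    fin_cases i
    · change sw (D (X 0)) = D' (sw (X 0))
      rw [hD, map_mul, show sw (C (e 0)) = C (e 0) from sw.commutes _, hs0, hD'1]
    · change sw (D (X 1)) = D' (sw (X 1))
      rw [hD, map_mul, show sw (C (e 1)) = C (e 1) from sw.commutes _, hs1, hD'0])
  have hint' : ∀ f, σ (q ((sw.trans Φ) f)) = q ((sw.trans Φ) (D' f)) := fun f => by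
    rw [AlgEquiv.trans_apply, AlgEquiv.trans_apply, hint, ← hswsw f, ← hswD, hswsw, hswsw]
  by_cases hA : constantCoeff A ≠ 0
  · obtain ⟨φ, h⟩ := main Φ D e he hid hD hint H A B E hAB hA hDH ⟨w, hw, hΦH⟩
    exact ⟨φ, Or.inl h⟩
  by_cases hE : constantCoeff E ≠ 0
  · obtain ⟨φ, h⟩ := main (sw.trans Φ) D' ![e 1, e 0] (fun i => by fin_cases i <;> simp [he])
      (fun h => hid ⟨by simpa using h.2, by simpa using h.1⟩) hD' hint' (sw H) (sw E) (sw B) (sw A)
      (by rw [hAB]; simp only [map_add, map_mul, map_pow, hs0, hs1]; ring)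
      (by rw [cc_eq]; exact hE)
      (by rw [← hswD, hDH, map_mul, show sw (C δ) = C δ from sw.commutes _])
      ⟨w, hw, by rw [AlgEquiv.trans_apply, hswsw, hΦH]⟩
    exact ⟨φ, Or.inl h⟩
  push Not at hA hE
  have hB : constantCoeff B ≠ 0 := by
    intro hB
    have hH3 : H ∈ M ^ 3 := by
      rw [hAB, pow_succ' (M) 2]
      refine Ideal.add_mem _ (Ideal.add_mem _ ?_ ?_) ?_
      · exact Ideal.mul_mem_mul hA (Ideal.pow_mem_pow (X_mem 0) 2)
      · rw [pow_two (M)]
        exact Ideal.mul_mem_mul hB (Ideal.mul_mem_mul (X_mem 0) (X_mem 1))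
      · exact Ideal.mul_mem_mul hE (Ideal.pow_mem_pow (X_mem 1) 2)
    obtain ⟨w', hw'⟩ := hw.exists_left_inv
    have hG3 : G ∈ M ^ 3 := by
      have := Ideal.mul_mem_left _ w' (map_mem_pow Φ hH3)
      rwa [hΦH, ← mul_assoc, hw', one_mul] at this
    have := RingHom.mem_ker.1 (show pderiv k 1 (pderiv k 1 G) ∈ M by
      simpa using pderiv_mem_pow 1 1 _ (pderiv_mem_pow 1 2 _ hG3))
    rw [hG, eqn_second, map_ofNat] at this
    exact h2 this
  have hsign : δ = e 0 * e 1 := by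
    have h01 := congrArg (fun z => constantCoeff (pderiv k 0 (pderiv k 1 z))) hDH
    simp [pderiv_diag hD, Derivation.leibniz, cc_eq] at h01
    simp [hAB, Derivation.leibniz, Derivation.leibniz_pow, pderiv_X_of_ne (show (1 : Fin 2) ≠ 0 by decide),
      pderiv_X_of_ne (show (0 : Fin 2) ≠ 1 by decide)] at h01
    exact mul_right_cancel₀ hB (by linear_combination -h01)
  by_cases he01 : e 0 = e 1
  · obtain ⟨L, hL0, hL1⟩ := exists_algEquiv_of_det (k := k) (a := X 0) (b := X 1 + X 0) (by simp) (by simp)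
      (by simp [lin, Derivation.leibniz])
    have hLD : ∀ f, L (D f) = D (L f) := auto_ext (φ := D.trans L) (ψ := L.trans D) (fun i => by
      fin_cases i
      · change L (D (X 0)) = D (L (X 0))
        rw [hD, map_mul, show L (C (e 0)) = C (e 0) from L.commutes _, hL0, hD]
      · change L (D (X 1)) = D (L (X 1))
        rw [hD, map_mul, show L (C (e 1)) = C (e 1) from L.commutes _, hL1, map_add, hD, hD, he01, mul_add])
    have hsymm : ∀ f, L.symm (D f) = D (L.symm f) := fun f => by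
      rw [AlgEquiv.symm_apply_eq, hLD, L.apply_symm_apply]
    obtain ⟨φ, h⟩ := main (L.symm.trans Φ) D e he hid hD
      (fun f => by rw [AlgEquiv.trans_apply, AlgEquiv.trans_apply, hint, hsymm])
      (L H) (L A + L B + L E) (L B + 2 * L E) (L E)
      (by rw [hAB]; simp only [map_add, map_mul, map_pow, hL0, hL1]; ring)
      (by simp [cc_eq, RingHom.mem_ker.1 hA, RingHom.mem_ker.1 hE, hB])
      (by rw [← hLD, hDH, map_mul, show L (C δ) = C δ from L.commutes _])
      ⟨w, hw, by rw [AlgEquiv.trans_apply, L.symm_apply_apply, hΦH]⟩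
    exact ⟨φ, Or.inl h⟩
  -- the two branches are exchanged
  have hcases : ∀ i, e i = 1 ∨ e i = -1 := fun i => mul_self_eq_one_iff.1 (he i)
  obtain ⟨Φ', D₂, H', B', hΦH', hint₂, hDH', hD₂0, hD₂1, hH', hB'⟩ :
      ∃ (Φ' D₂ : T ≃ₐ[k] T) (H' B' : T), (∃ w, IsUnit w ∧ Φ' H' = w * G) ∧
        (∀ f, σ (q (Φ' f)) = q (Φ' (D₂ f))) ∧ D₂ H' = -H' ∧ D₂ (X 0) = -X 0 ∧ D₂ (X 1) = X 1 ∧
        (∃ A' E' : T, H' = A' * X 0 ^ 2 + B' * (X 0 * X 1) + E' * X 1 ^ 2 ∧ constantCoeff A' = 0 ∧
          constantCoeff E' = 0) ∧ constantCoeff B' ≠ 0 := by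
    have hδm : δ = -1 := by
      rcases hcases 0 with h0 | h0 <;> rcases hcases 1 with h1 | h1 <;> simp [hsign, h0, h1] at he01 ⊢
    rcases hcases 0 with h0 | h0
    · have h1 : e 1 = -1 := (hcases 1).resolve_left fun h => he01 (by rw [h0, h])
      refine ⟨sw.trans Φ, D', sw H, sw B, ⟨w, hw, by rw [AlgEquiv.trans_apply, hswsw, hΦH]⟩, hint', ?_, ?_, ?_,
        ⟨sw E, sw A, ?_, by rw [cc_eq]; exact hE, by rw [cc_eq]; exact hA⟩, by rw [cc_eq]; exact hB⟩
      · rw [← hswD, hDH, map_mul, show sw (C δ) = C δ from sw.commutes _, hδm, map_neg, map_one, neg_one_mul]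
      · rw [hD'0, h1, map_neg, map_one, neg_one_mul]
      · rw [hD'1, h0, map_one, one_mul]
      · rw [hAB]; simp only [map_add, map_mul, map_pow, hs0, hs1]; ring
    · have h1 : e 1 = 1 := (hcases 1).resolve_right fun h => he01 (by rw [h0, h])
      refine ⟨Φ, D, H, B, ⟨w, hw, hΦH⟩, hint, ?_, ?_, ?_, ⟨A, E, hAB, hA, hE⟩, hB⟩
      · rw [hDH, hδm, map_neg, map_one, neg_one_mul]
      · rw [hD, h0, map_neg, map_one, neg_one_mul]
      · rw [hD, h1, map_one, one_mul]
  obtain ⟨A', E', hAB', hA', hE'⟩ := hH'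
  obtain ⟨c, H₁, hsplit⟩ := exists_split H'
  have hDc : D₂ (emb c) = emb c := fix_emb D₂ hD₂1 c
  have hc0 : c = 0 := by
    refine emb_eq_zero_of_dvd ⟨C 2⁻¹ * (D₂ H₁ - H₁), ?_⟩
    have h := hDH'
    rw [hsplit, map_add, map_mul, hDc, hD₂0] at h
    have hk : (C 2⁻¹ : T) * 2 = 1 := by
      rw [← map_ofNat (C (σ := Fin 2) (R := k)) 2, ← map_mul, inv_mul_cancel₀ h2, map_one]
    linear_combination (C 2⁻¹) * h - emb c * hk
  rw [hc0, map_zero, zero_add] at hsplit
  have hX0ne : (X 0 : T) ≠ 0 := fun h => by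
    simpa [lin_X] using (show lin k 0 (X 0 : T) = 0 by rw [h, lin, map_zero, map_zero])
  have hDH₁ : D₂ H₁ = H₁ := by
    have h := hDH'
    rw [hsplit, map_mul, hD₂0] at h
    exact mul_left_cancel₀ hX0ne (by linear_combination -h)
  have hH₁0 : constantCoeff H₁ = 0 := by
    have h := congrArg (lin k 0) (hsplit.symm.trans hAB')
    simpa [lin, Derivation.leibniz, Derivation.leibniz_pow] using h
  have hlin1 : lin k 1 H₁ = constantCoeff B' := by
    have h := congrArg (fun z => constantCoeff (pderiv k 1 (pderiv k 0 z))) (hsplit.symm.trans hAB')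
    simpa [lin, Derivation.leibniz, Derivation.leibniz_pow, pderiv_X_of_ne (show (1 : Fin 2) ≠ 0 by decide),
      pderiv_X_of_ne (show (0 : Fin 2) ≠ 1 by decide)] using h
  obtain ⟨Ψ, hΨ0, hΨ1⟩ := exists_algEquiv_of_det (k := k) (a := X 0) (b := H₁) (by simp) hH₁0
    (by simp [lin_X, hlin1, hB'])
  obtain ⟨L, hL0, hL1⟩ := exists_algEquiv_of_det (k := k) (a := X 1 - X 0) (b := X 1 + X 0) (by simp) (by simp)
    (by
      simp [lin, Derivation.leibniz, pderiv_X_of_ne (show (1 : Fin 2) ≠ 0 by decide),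
        pderiv_X_of_ne (show (0 : Fin 2) ≠ 1 by decide)]
      intro h
      exact h2 (by linear_combination -h))
  obtain ⟨w', hw', hΦw'⟩ := hΦH'
  set Λ := L.trans (Ψ.trans Φ') with hΛ
  have hΛG : Λ (ArSing.eqn k 1) = (4 * w') * G := by
    have e4 : L (ArSing.eqn k 1) = 4 * (X 0 * X 1) := by
      rw [ArSing.eqn, map_sub, map_pow, map_pow, hL0, hL1]; ring
    rw [hΛ, AlgEquiv.trans_apply, e4, AlgEquiv.trans_apply, map_mul Ψ, map_mul Ψ, hΨ0, hΨ1, ← hsplit, map_mul, hΦw',
      map_ofNat, map_ofNat, mul_assoc]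
  have h4 : IsUnit (4 * w' : T) := IsUnit.mul (by
    rw [MvPowerSeries.isUnit_iff_constantCoeff, map_ofNat]
    exact Ne.isUnit fun h => h2 (mul_self_eq_zero.1 (by linear_combination h))) hw'
  obtain rfl := index_eq h2 hr Λ h4 hΛG
  obtain ⟨φ, hφx, hφy⟩ := finish Λ _ h4 hΛG
  refine ⟨φ, Or.inr ⟨rfl, ?_, ?_⟩⟩ <;>
  · rw [hφx, hφy, hΛ, AlgEquiv.trans_apply, AlgEquiv.trans_apply, AlgEquiv.trans_apply,
      AlgEquiv.trans_apply, hint₂, hL0, hL1]
    simp only [map_add, map_sub, hΨ0, hΨ1, hD₂0, hDH₁, map_neg]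
    first | ring | (congr 1; ring)

end Main

end Groth.Agent.CommAlg4.ASInvolution
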