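import Groth.Agent.Coherent.FibreVanish
import Groth.Agent.Coherent.FiniteType
import Groth.Agent.AmpleLib.Generated

/-!
# Coherent modules with zero-dimensional support
-/

set_option autoImplicit false
set_option backward.isDefEq.respectTransparency.types false

universe u

open CategoryTheory CategoryTheory.Limits AlgebraicGeometry Opposite TopologicalSpace
open Groth.Agent.Coherent

namespace Groth.Agent.CommAlg4

/-- In a closed subset of dimension zero of a Noetherian sober space the points are closed and
finitely many. -/
theorem finite_and_isClosed_singleton_of_dim_le_zero {T : Type*} [TopologicalSpace T] [T0Space T]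
    [QuasiSober T] [NoetherianSpace T] {Z : Set T} (hZ : IsClosed Z)
    (hd : topologicalKrullDim Z ≤ 0) : Z.Finite ∧ ∀ z ∈ Z, IsClosed ({z} : Set T) := by
  haveI : QuasiSober Z := hZ.isClosedEmbedding_subtypeVal.quasiSober
  have hmax := Order.krullDim_nonpos_iff_forall_isMax.mp hd
  have h1 : T1Space Z := ⟨fun z => by
    suffices closure {z} = ({z} : Set Z) by rw [← this]; exact isClosed_closure
    refine Set.Subset.antisymm (fun w hw => ?_) subset_closure
    let A : IrreducibleCloseds Z := ⟨closure {w}, isIrreducible_singleton.closure, isClosed_closure⟩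
    let B : IrreducibleCloseds Z := ⟨closure {z}, isIrreducible_singleton.closure, isClosed_closure⟩
    have hAB : A ≤ B := closure_minimal (Set.singleton_subset_iff.2 hw) isClosed_closure
    have hBA : B ≤ A := hmax A hAB
    have hzw : z ⤳ w := specializes_iff_mem_closure.2 hw
    have hwz : w ⤳ z := specializes_iff_mem_closure.2 (hBA (subset_closure rfl))
    exact (hwz.antisymm hzw).eq⟩
  refine ⟨?_, fun z hz => ?_⟩
  · have : Finite Z := by
      have hcov := NoetherianSpace.finite_irreducibleComponents (α := Z)
      refine Set.finite_univ_iff.1 ?_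
      refine Set.Finite.subset (hcov.biUnion (t := fun C => C) fun C hC => ?_) fun z _ =>
        Set.mem_biUnion (irreducibleComponent_mem_irreducibleComponents z) mem_irreducibleComponent
      obtain ⟨η, hη⟩ := QuasiSober.sober hC.1 (isClosed_of_mem_irreducibleComponents C hC)
      rw [← hη.def, closure_singleton]
      exact Set.finite_singleton η
    exact Set.toFinite Z
  · have := hZ.isClosedEmbedding_subtypeVal.isClosedMap _ (isClosed_singleton (x := (⟨z, hz⟩ : Z)))
    simpa using this

variable {X : Scheme.{u}}

/-- A finite-type module supported on finitely many closed points is globally generated. -/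
theorem isGloballyGenerated_of_support_finite (M : X.Modules) (hM : LocallyFinGen M) (Z : Set X)
    (hZ : Z.Finite) (hc : ∀ z ∈ Z, IsClosed ({z} : Set X)) (hsupp : CohB1.support M ⊆ Z) :
    Curv2.IsGloballyGenerated M := by
  haveI hflq := isFlasque_of_support_finite M Z hZ hc hsupp
  refine AmpleLib.isGloballyGenerated_of_locally fun y => ?_
  obtain ⟨U, I, _, s, hyU, hs⟩ := hM y
  refine ⟨U, hyU, fun W hW a z hz => ?_⟩
  obtain ⟨W', hW', hzW', c, hc'⟩ := hs W hW a z hz
  refine ⟨W', hW', hzW', ?_⟩
  rw [hc']
  refine Submodule.sum_mem _ fun i _ => Submodule.smul_mem _ _ ?_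
  obtain ⟨t, ht⟩ := (AddCommGrpCat.epi_iff_surjective _).1
    (hflq.epi (homOfLE (le_top : U ≤ ⊤)).op) (s i)
  refine Submodule.subset_span ⟨t, ?_⟩
  rw [← ht]
  exact (resM_resM M (le_top : U ≤ ⊤) (hW'.trans hW) t).symm

end Groth.Agent.CommAlg4

namespace Groth.Agent.CommAlg4

/-- A proper scheme over a field is Noetherian. -/
theorem isNoetherian_of_over (k : Type u) [Field k] (X : Scheme.{u})
    [X.Over (Spec (CommRingCat.of k))] [IsProper (X ↘ (Spec (CommRingCat.of k)))] :
    AlgebraicGeometry.IsNoetherian X := by
  haveI : IsLocallyNoetherian X :=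
    LocallyOfFiniteType.isLocallyNoetherian (X ↘ (Spec (CommRingCat.of k)))
  haveI : CompactSpace X := QuasiCompact.compactSpace_of_compactSpace (X ↘ (Spec (CommRingCat.of k)))
  exact ⟨⟩

end Groth.Agent.CommAlg4
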