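import Mathlib

/-!
# Horseshoe lemma and long exact sequence of left derived functors on modules
-/

set_option autoImplicit false
set_option linter.all false
set_option backward.isDefEq.respectTransparency false
set_option backward.isDefEq.respectTransparency.types false
set_option backward.defeqAttrib.useBackward true

universe u v w

open CategoryTheory CategoryTheory.Limits

namespace Groth.Agent.CommAlg4.DerivedLES

variable {R : Type u} [CommRing R] {S : ShortComplex (ModuleCat.{u} R)} (hS : S.ShortExact)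
  (P' : ProjectiveResolution S.X₁) (P'' : ProjectiveResolution S.X₃)

include hS in
theorem exists_base : ∃ (h : P''.complex.X 0 ⟶ S.X₂) (s : P''.complex.X 1 ⟶ P'.complex.X 0),
    h ≫ S.g = P''.π.f 0 ∧ s ≫ P'.π.f 0 ≫ S.f = -(P''.complex.d 1 0 ≫ h) := by
  haveI := hS.epi_g
  haveI := hS.mono_f
  let h : P''.complex.X 0 ⟶ S.X₂ := Projective.factorThru (P''.π.f 0) S.g
  have hh : h ≫ S.g = P''.π.f 0 := Projective.factorThru_comp _ _
  have hc : (-(P''.complex.d 1 0 ≫ h)) ≫ S.g = 0 := by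
    rw [Preadditive.neg_comp, Category.assoc, hh, P''.complex_d_comp_π_f_zero, neg_zero]
  let t : P''.complex.X 1 ⟶ S.X₁ := hS.exact.lift _ hc
  have ht : t ≫ S.f = -(P''.complex.d 1 0 ≫ h) := hS.exact.lift_f _ hc
  haveI : Epi (P'.π.f 0) := inferInstance
  refine ⟨h, Projective.factorThru t (P'.π.f 0), hh, ?_⟩
  rw [Projective.factorThru_comp_assoc, ht]

/-- twisting maps of the horseshoe differential -/
structure Twist where
  h : P''.complex.X 0 ⟶ S.X₂
  s : ∀ n, P''.complex.X (n + 1) ⟶ P'.complex.X n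
  h_g : h ≫ S.g = P''.π.f 0
  s_zero : s 0 ≫ P'.π.f 0 ≫ S.f = -(P''.complex.d 1 0 ≫ h)
  s_succ : ∀ n, s (n + 1) ≫ P'.complex.d (n + 1) n = -(P''.complex.d (n + 2) (n + 1) ≫ s n)

include hS in
theorem nonempty_twist : Nonempty (Twist P' P'') := by
  classical
  haveI := hS.mono_f
  obtain ⟨h, s0, hh, hs0⟩ := exists_base hS P' P''
  have e1 : (ShortComplex.mk _ _ P'.complex_d_comp_π_f_zero).Exact :=
    ShortComplex.exact_of_g_is_cokernel _ P'.isColimitCokernelCofork
  have c1 : (-(P''.complex.d 2 1 ≫ s0)) ≫ P'.π.f 0 = 0 := by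
    rw [← cancel_mono S.f, zero_comp, Category.assoc, Preadditive.neg_comp, Category.assoc, hs0]
    simp
  let s1 : P''.complex.X 2 ⟶ P'.complex.X 1 := e1.liftFromProjective (P := P''.complex.X 2) _ c1
  have hs1 : s1 ≫ P'.complex.d 1 0 = -(P''.complex.d 2 1 ≫ s0) := e1.liftFromProjective_comp _ c1
  let T : ℕ → Type u := fun n =>
    { p : (P''.complex.X (n + 1) ⟶ P'.complex.X n) × (P''.complex.X (n + 2) ⟶ P'.complex.X (n + 1)) //
      p.2 ≫ P'.complex.d (n + 1) n = -(P''.complex.d (n + 2) (n + 1) ≫ p.1) }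
  have step : ∀ n (p : T n), ∃ q : T (n + 1), q.1.1 = p.1.2 := by
    rintro n ⟨⟨a, b⟩, hab⟩
    have c : (-(P''.complex.d (n + 3) (n + 2) ≫ b)) ≫ P'.complex.d (n + 1) n = 0 := by
      rw [Preadditive.neg_comp, Category.assoc, hab]; simp
    exact ⟨⟨⟨b, (P'.exact_succ n).liftFromProjective (P := P''.complex.X (n + 3)) _ c⟩,
      (P'.exact_succ n).liftFromProjective_comp _ c⟩, rfl⟩
  choose next hnext using step
  let seq : ∀ n, T n := fun n => Nat.rec (motive := T) ⟨⟨s0, s1⟩, hs1⟩ next n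
  refine ⟨⟨h, fun n => (seq n).1.1, hh, hs0, fun n => ?_⟩⟩
  have hn : (seq (n + 1)).1.1 = (seq n).1.2 := hnext n (seq n)
  show (seq (n + 1)).1.1 ≫ _ = _
  rw [hn]
  exact (seq n).2

variable {P' P''} (T : Twist P' P'')

/-- the horseshoe differential -/
noncomputable def d (n : ℕ) : P'.complex.X (n + 1) ⊞ P''.complex.X (n + 1) ⟶ P'.complex.X n ⊞ P''.complex.X n :=
  biprod.desc (P'.complex.d (n + 1) n ≫ biprod.inl)
    (T.s n ≫ biprod.inl + P''.complex.d (n + 1) n ≫ biprod.inr)

theorem d_comp (n : ℕ) : d T (n + 1) ≫ d T n = 0 := by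
  apply biprod.hom_ext' <;>
    simp [d, Preadditive.add_comp, Preadditive.comp_add, reassoc_of% (T.s_succ n)]

/-- the horseshoe complex -/
noncomputable def cx : ChainComplex (ModuleCat.{u} R) ℕ :=
  ChainComplex.of (fun n => P'.complex.X n ⊞ P''.complex.X n) (d T) (d_comp T)

theorem cx_d (n : ℕ) : (cx T).d (n + 1) n = d T n := by simp [cx]

/-- augmentation -/
noncomputable def π₀ : P'.complex.X 0 ⊞ P''.complex.X 0 ⟶ S.X₂ := biprod.desc (P'.π.f 0 ≫ S.f) T.h

theorem d_π₀ : (cx T).d 1 0 ≫ π₀ T = 0 := by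
  rw [cx_d]
  apply biprod.hom_ext'
  · simp [d, π₀]
  · simp [d, π₀, T.s_zero, Preadditive.add_comp]

/-- inclusion -/
noncomputable def incl : P'.complex ⟶ cx T where
  f n := biprod.inl
  comm' i j (hij : j + 1 = i) := by
    subst hij
    rw [cx_d]
    simp [d]

/-- projection -/
noncomputable def proj : cx T ⟶ P''.complex where
  f n := biprod.snd
  comm' i j (hij : j + 1 = i) := by
    subst hij
    rw [cx_d]
    apply biprod.hom_ext' <;> simp [d, Preadditive.add_comp]

/-- the short complex of resolutions -/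
noncomputable def sc : ShortComplex (ChainComplex (ModuleCat.{u} R) ℕ) :=
  ShortComplex.mk (incl T) (proj T) (by ext n : 1; exact biprod.inl_snd)

noncomputable def splitting (n : ℕ) :
    ((sc T).map (HomologicalComplex.eval (ModuleCat.{u} R) (ComplexShape.down ℕ) n)).Splitting where
  r := biprod.fst
  s := biprod.inr
  f_r := biprod.inl_fst
  s_g := biprod.inr_snd
  id := biprod.total

theorem sc_shortExact : (sc T).ShortExact :=
  HomologicalComplex.shortExact_of_degreewise_shortExact _ fun n => (splitting T n).shortExact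

include hS in
theorem cx_exactAt (n : ℕ) : (cx T).ExactAt (n + 1) :=
  (sc_shortExact T).exactAt_X₂ (n + 1)
    (P'.complex_exactAt_succ n) (P''.complex_exactAt_succ n)

include hS in
theorem exact_and_epi :
    (ShortComplex.mk _ _ (d_π₀ T)).Exact ∧ Epi (π₀ T) := by
  have hfg := (ShortComplex.moduleCat_exact_iff S).1 hS.exact
  have hinj : Function.Injective S.f := (ModuleCat.mono_iff_injective _).1 hS.mono_f
  have he' : ∀ z, P'.π.f 0 z = 0 → ∃ w, P'.complex.d 1 0 w = z :=
    (ShortComplex.moduleCat_exact_iff _).1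
      (ShortComplex.exact_of_g_is_cokernel (ShortComplex.mk _ _ P'.complex_d_comp_π_f_zero) P'.isColimitCokernelCofork)
  have he'' : ∀ z, P''.π.f 0 z = 0 → ∃ w, P''.complex.d 1 0 w = z :=
    (ShortComplex.moduleCat_exact_iff _).1
      (ShortComplex.exact_of_g_is_cokernel (ShortComplex.mk _ _ P''.complex_d_comp_π_f_zero) P''.isColimitCokernelCofork)
  have hs' : Function.Surjective (P'.π.f 0) := (ModuleCat.epi_iff_surjective _).1 inferInstance
  have hs'' : Function.Surjective (P''.π.f 0) := (ModuleCat.epi_iff_surjective _).1 inferInstance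
  have tot : ∀ z : (P'.complex.X 0 ⊞ P''.complex.X 0 : ModuleCat.{u} R),
      (biprod.inl : P'.complex.X 0 ⟶ _) ((biprod.fst : P'.complex.X 0 ⊞ P''.complex.X 0 ⟶ _) z) +
      (biprod.inr : P''.complex.X 0 ⟶ _) ((biprod.snd : P'.complex.X 0 ⊞ P''.complex.X 0 ⟶ _) z) = z := fun z => by
    exact ConcreteCategory.congr_hom (biprod.total (X := P'.complex.X 0) (Y := P''.complex.X 0)) z
  have πl : ∀ a, π₀ T ((biprod.inl : P'.complex.X 0 ⟶ _) a) = S.f (P'.π.f 0 a) := fun a => by
    exact ConcreteCategory.congr_hom (biprod.inl_desc (P'.π.f 0 ≫ S.f) T.h) a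
  have πr : ∀ b, π₀ T ((biprod.inr : P''.complex.X 0 ⟶ _) b) = T.h b := fun b => by
    rw [← ModuleCat.comp_apply, π₀, biprod.inr_desc]
  have hg : ∀ b, S.g (T.h b) = P''.π.f 0 b := fun b => by
    exact ConcreteCategory.congr_hom T.h_g b
  have hgf : ∀ a, S.g (S.f a) = 0 := fun a => by
    rw [← ModuleCat.comp_apply, S.zero]; rfl
  constructor
  · rw [ShortComplex.moduleCat_exact_iff]
    intro z hz
    set a := (biprod.fst : P'.complex.X 0 ⊞ P''.complex.X 0 ⟶ _) z
    set b := (biprod.snd : P'.complex.X 0 ⊞ P''.complex.X 0 ⟶ _) z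
    have h1 : S.f (P'.π.f 0 a) + T.h b = 0 := by
      rw [← πl, ← πr, ← map_add, tot z]; exact hz
    have h2 : P''.π.f 0 b = 0 := by
      have := congrArg (fun y => S.g y) h1
      simpa [hgf, hg] using this
    obtain ⟨b₁, hb₁⟩ := he'' b h2
    have h3 : S.f (P'.π.f 0 (T.s 0 b₁)) = - T.h b := by
      refine (ConcreteCategory.congr_hom T.s_zero b₁).trans ?_
      simp [hb₁]
    have h4 : P'.π.f 0 (a - T.s 0 b₁) = 0 := hinj (by
      rw [map_sub, map_sub, h3, sub_neg_eq_add, h1, map_zero])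
    obtain ⟨a₁, ha₁⟩ := he' _ h4
    refine ⟨(biprod.inl : P'.complex.X 1 ⟶ _) a₁ + (biprod.inr : P''.complex.X 1 ⟶ _) b₁, ?_⟩
    refine (ConcreteCategory.congr_hom (cx_d T 0) _).trans ?_
    erw [map_add]
    refine (congrArg₂ (· + ·) (ConcreteCategory.congr_hom (show biprod.inl ≫ d T 0 = P'.complex.d 1 0 ≫ biprod.inl from biprod.inl_desc _ _) a₁)
      (ConcreteCategory.congr_hom (show biprod.inr ≫ d T 0 = _ from biprod.inr_desc _ _) b₁)).trans ?_
    have : (biprod.inl : P'.complex.X 0 ⟶ P'.complex.X 0 ⊞ P''.complex.X 0) (P'.complex.d 1 0 a₁) +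
        ((biprod.inl : P'.complex.X 0 ⟶ P'.complex.X 0 ⊞ P''.complex.X 0) (T.s 0 b₁) +
          (biprod.inr : P''.complex.X 0 ⟶ P'.complex.X 0 ⊞ P''.complex.X 0) (P''.complex.d 1 0 b₁)) = z := by
      rw [← add_assoc, ← map_add, ha₁, sub_add_cancel, hb₁, tot z]
    exact this
  · rw [ModuleCat.epi_iff_surjective]
    intro y
    obtain ⟨b, hb⟩ := hs'' (S.g y)
    obtain ⟨a₀, ha₀⟩ := hfg (y - T.h b) (by rw [map_sub, hg, hb, sub_self])
    obtain ⟨a, rfl⟩ := hs' a₀
    refine ⟨(biprod.inl : P'.complex.X 0 ⟶ _) a + (biprod.inr : P''.complex.X 0 ⟶ _) b, ?_⟩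
    rw [map_add, πl, πr, ha₀, sub_add_cancel]

/-- the horseshoe resolution -/
noncomputable def res : ProjectiveResolution S.X₂ where
  complex := cx T
  π := (ChainComplex.toSingle₀Equiv _ _).symm ⟨π₀ T, d_π₀ T⟩
  projective n := inferInstanceAs (Projective (P'.complex.X n ⊞ P''.complex.X n))
  quasiIso := ⟨fun n => by
    cases n
    · rw [ChainComplex.quasiIsoAt₀_iff, ShortComplex.quasiIso_iff_of_zeros']
      · refine (ShortComplex.exact_and_epi_g_iff_of_iso ?_).2 (exact_and_epi hS T)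
        exact ShortComplex.isoMk (Iso.refl _) (Iso.refl _) (Iso.refl _) (by simp) (by simp)
      all_goals rfl
    · rw [quasiIsoAt_iff_exactAt']
      · exact cx_exactAt hS T _
      · apply ChainComplex.exactAt_succ_single_obj⟩

variable {D : Type v} [Category.{w} D] [Abelian D] (F : ModuleCat.{u} R ⥤ D) [F.Additive]

theorem mapped_shortExact : ((sc T).map (F.mapHomologicalComplex (ComplexShape.down ℕ))).ShortExact :=
  HomologicalComplex.shortExact_of_degreewise_shortExact _ fun n => ((splitting T n).map F).shortExact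

include hS in
theorem les (n : ℕ) :
    (∃ w₀ : (F.leftDerived n).map S.f ≫ (F.leftDerived n).map S.g = 0,
        (ShortComplex.mk _ _ w₀).Exact) ∧
      ∃ (δ : (F.leftDerived (n + 1)).obj S.X₃ ⟶ (F.leftDerived n).obj S.X₁)
        (w₁ : (F.leftDerived (n + 1)).map S.g ≫ δ = 0) (w₂ : δ ≫ (F.leftDerived n).map S.f = 0),
        (ShortComplex.mk _ _ w₁).Exact ∧ (ShortComplex.mk _ _ w₂).Exact := by
  obtain ⟨P', P''⟩ := (⟨projectiveResolution S.X₁, projectiveResolution S.X₃⟩ :
    ProjectiveResolution S.X₁ × ProjectiveResolution S.X₃)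
  obtain ⟨T⟩ := nonempty_twist hS P' P''
  let P := res hS T
  have hW := mapped_shortExact T F
  let M := F.mapHomologicalComplex (ComplexShape.down ℕ)
  have cf : (incl T).f 0 ≫ P.π.f 0 = P'.π.f 0 ≫ S.f := by
    show biprod.inl ≫ _ = _
    simp [P, res, π₀]
  have cg : (proj T).f 0 ≫ P''.π.f 0 = P.π.f 0 ≫ S.g := by
    show biprod.snd ≫ _ = _
    apply biprod.hom_ext' <;> simp [P, res, π₀, T.h_g]
  let e₁ := fun k => P'.isoLeftDerivedObj F k
  let e₂ := fun k => P.isoLeftDerivedObj F k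
  let e₃ := fun k => P''.isoLeftDerivedObj F k
  have nf : ∀ k, (F.leftDerived k).map S.f =
      (e₁ k).hom ≫ HomologicalComplex.homologyMap (M.map (incl T)) k ≫ (e₂ k).inv := fun k => by
    rw [← cancel_mono (e₂ k).hom, Category.assoc, Category.assoc, Iso.inv_hom_id, Category.comp_id]
    exact ProjectiveResolution.isoLeftDerivedObj_hom_naturality S.f P' P (incl T) cf F k
  have ng : ∀ k, (F.leftDerived k).map S.g =
      (e₂ k).hom ≫ HomologicalComplex.homologyMap (M.map (proj T)) k ≫ (e₃ k).inv := fun k => by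
    rw [← cancel_mono (e₃ k).hom, Category.assoc, Category.assoc, Iso.inv_hom_id, Category.comp_id]
    exact ProjectiveResolution.isoLeftDerivedObj_hom_naturality S.g P P'' (proj T) cg F k
  let δ₀ := hW.δ (n + 1) n rfl
  have z0 : HomologicalComplex.homologyMap (M.map (incl T)) n ≫ HomologicalComplex.homologyMap (M.map (proj T)) n = 0 := by
    rw [← HomologicalComplex.homologyMap_comp, ← M.map_comp]
    have := (sc T).zero
    dsimp [sc] at this
    rw [this, Functor.map_zero, HomologicalComplex.homologyMap_zero]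
  have w₀ : (F.leftDerived n).map S.f ≫ (F.leftDerived n).map S.g = 0 := by
    simp [nf, ng, reassoc_of% z0]
  have z1 : HomologicalComplex.homologyMap (M.map (proj T)) (n + 1) ≫ δ₀ = 0 := hW.comp_δ (n + 1) n rfl
  have z2 : δ₀ ≫ HomologicalComplex.homologyMap (M.map (incl T)) n = 0 := hW.δ_comp (n + 1) n rfl
  refine ⟨⟨w₀, ?_⟩, (e₃ (n + 1)).hom ≫ δ₀ ≫ (e₁ n).inv, ?_, ?_, ?_, ?_⟩
  · exact ShortComplex.exact_of_iso (ShortComplex.isoMk (e₁ n).symm (e₂ n).symm (e₃ n).symm
      (by simp [nf, M, sc]) (by simp [ng, M, sc])) (hW.homology_exact₂ n)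
  · erw [ng]; simp [reassoc_of% z1]
  · erw [nf]; simp [reassoc_of% z2]
  · exact ShortComplex.exact_of_iso (ShortComplex.isoMk (e₂ (n + 1)).symm (e₃ (n + 1)).symm (e₁ n).symm
      (by simp [ng, M, sc]) (by simp [δ₀])) (hW.homology_exact₃ (n + 1) n rfl)
  · exact ShortComplex.exact_of_iso (ShortComplex.isoMk (e₃ (n + 1)).symm (e₁ n).symm (e₂ n).symm
      (by simp [δ₀]) (by simp [nf, M, sc])) (hW.homology_exact₁ (n + 1) n rfl)

include hS in
theorem epi_zero [PreservesFiniteColimits F] : Epi ((F.leftDerived 0).map S.g) := by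
  haveI := hS.epi_g
  have := F.leftDerivedZeroIsoSelf.hom.naturality S.g
  rw [← Iso.app_hom, ← Iso.app_hom] at this
  have e : (F.leftDerived 0).map S.g = (F.leftDerivedZeroIsoSelf.app S.X₂).hom ≫ F.map S.g ≫ (F.leftDerivedZeroIsoSelf.app S.X₃).inv := by
    rw [← Category.assoc, ← this, Category.assoc, Iso.hom_inv_id, Category.comp_id]
  rw [e]
  infer_instance

end Groth.Agent.CommAlg4.DerivedLES
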