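import Mathlib.FieldTheory.IsAlgClosed.Basic
import Mathlib.FieldTheory.Perfect
import Mathlib.LinearAlgebra.Dimension.Finite
import Mathlib.LinearAlgebra.FiniteDimensional.Basic
import Mathlib.LinearAlgebra.FiniteDimensional.Lemmas
import Mathlib.LinearAlgebra.Dimension.OrzechProperty
import Mathlib.RingTheory.OrzechProperty
import Mathlib.Algebra.CharP.Lemmas
import Mathlib.Tactic

/-!
# Lang's theorem for semilinear bijections over algebraically closed fields
-/

set_option linter.all false
set_option autoImplicit false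

universe u v

namespace Groth.Agent.CommAlg4.LangFixed

open Polynomial

variable {k : Type u} [Field k] [IsAlgClosed k] {q : ℕ} (hq : 2 ≤ q)
  {V : Type v} [AddCommGroup V] [Module k V] (φ : V →+ V)
  (hφ : ∀ (a : k) (v : V), φ (a • v) = a ^ q • φ v)

include hq in
theorem exists_artinSchreier (c : k) : ∃ x : k, x ^ q - x = c := by
  obtain ⟨x, hx⟩ := IsAlgClosed.exists_root (X ^ q - X - C c) (by
    have h1 : (X ^ q - X - C c : k[X]).degree = q := by
      rw [degree_sub_eq_left_of_degree_lt, degree_sub_eq_left_of_degree_lt, degree_X_pow]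
      · rw [degree_X_pow, degree_X]; exact_mod_cast lt_of_lt_of_le one_lt_two hq
      · rw [degree_sub_eq_left_of_degree_lt, degree_X_pow]
        · exact lt_of_le_of_lt degree_C_le (by exact_mod_cast (lt_of_lt_of_le zero_lt_two hq))
        · rw [degree_X_pow, degree_X]; exact_mod_cast lt_of_lt_of_le one_lt_two hq
    rw [h1]; exact_mod_cast (by omega : q ≠ 0))
  refine ⟨x, ?_⟩
  simpa [IsRoot, sub_eq_zero] using hx

include hq hφ in
/-- A nonzero finite-dimensional space with an injective semilinear map has a nonzero fixed vector. -/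
theorem exists_fixed_ne_zero [FiniteDimensional k V] [Nontrivial V] (hinj : Function.Injective φ) :
    ∃ w : V, w ≠ 0 ∧ φ w = w := by
  classical
  obtain ⟨v, hv⟩ := exists_ne (0 : V)
  have hdep : ∃ r, ¬ LinearIndependent k (fun i : Fin r => φ^[i] v) := by
    refine ⟨Module.finrank k V + 1, fun h => ?_⟩
    have := h.fintype_card_le_finrank
    simp at this
  let r' := Nat.find hdep
  have hr' : r' ≠ 0 := fun h0 => Nat.find_spec hdep (by
    haveI : IsEmpty (Fin (Nat.find hdep)) := by
      rw [show Nat.find hdep = 0 from h0]; infer_instance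
    exact linearIndependent_empty_type)
  obtain ⟨r, hr⟩ : ∃ r, r' = r + 1 := ⟨r' - 1, by omega⟩
  have hdep1 : ¬ LinearIndependent k (fun i : Fin (r + 1) => φ^[i] v) := hr ▸ Nat.find_spec hdep
  have hind : LinearIndependent k (fun i : Fin r => φ^[i] v) := by
    by_contra h
    have := Nat.find_min' hdep h
    omega
  have hr0 : 0 < r := by
    rcases Nat.eq_zero_or_pos r with h0 | h0
    · exfalso
      subst h0
      exact hdep1 ((linearIndependent_unique_iff (ι := Fin 1) (v := fun i : Fin 1 => φ^[i] v)).mpr (by simpa using hv))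
    · exact h0
  have hmem : φ^[r] v ∈ Submodule.span k (Set.range fun i : Fin r => φ^[i] v) := by
    by_contra hn
    refine hdep1 ?_
    rw [linearIndependent_finSucc']
    exact ⟨hind, hn⟩
  obtain ⟨a, ha⟩ := (Submodule.mem_span_range_iff_exists_fun k).mp hmem
  obtain ⟨j, hj⟩ : ∃ j, a j ≠ 0 := by
    by_contra hc
    push Not at hc
    simp only [hc, zero_smul, Finset.sum_const_zero] at ha
    exact hv ((hinj.iterate r) (by rw [← ha, iterate_map_zero φ r]))
  let a' : ℕ → k := fun i => if h : i < r then a ⟨i, h⟩ else 0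
  let P : ℕ → k[X] := fun i => Nat.rec (C (a' 0) * X ^ q) (fun i Pi => Pi ^ q + C (a' (i + 1)) * X ^ q) i
  have hP0 : P 0 = C (a' 0) * X ^ q := rfl
  have hPs : ∀ i, P (i + 1) = P i ^ q + C (a' (i + 1)) * X ^ q := fun i => rfl
  have hdvd : ∀ i, X ^ q ∣ P i := by
    intro i
    induction i with
    | zero => exact dvd_mul_left _ _
    | succ i ih => rw [hPs]; exact dvd_add (dvd_pow ih (by omega)) (dvd_mul_left _ _)
  have hne : ∀ i, (∃ j ≤ i, a' j ≠ 0) → P i ≠ 0 := by
    intro i
    induction i with
    | zero =>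
      rintro ⟨j, hj, h⟩
      obtain rfl := Nat.le_zero.mp hj
      rw [hP0]
      simp [h, X_ne_zero]
    | succ i ih =>
      intro hex h0
      rw [hPs] at h0
      rcases eq_or_ne (P i) 0 with hi | hi
      · rw [hi, zero_pow (by omega : q ≠ 0), zero_add, mul_eq_zero] at h0
        have h1 : a' (i + 1) = 0 := by
          rcases h0 with h | h
          · exact C_eq_zero.mp h
          · exact absurd h (pow_ne_zero _ X_ne_zero)
        obtain ⟨j, hj, hja⟩ := hex
        rcases Nat.lt_or_ge j (i + 1) with h | h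
        · exact ih ⟨j, by omega, hja⟩ hi
        · exact hja (by rw [show j = i + 1 by omega]; exact h1)
      · have hdeg : q ≤ (P i).natDegree := by
          simpa using natDegree_le_of_dvd (hdvd i) hi
        have h2 : (P i ^ q).natDegree = (C (-a' (i + 1)) * X ^ q).natDegree := by
          rw [eq_neg_of_add_eq_zero_left h0, map_neg, neg_mul]
        rw [natDegree_pow] at h2
        have h3 : (C (-a' (i + 1)) * X ^ q : k[X]).natDegree ≤ q :=
          (natDegree_C_mul_le _ _).trans (natDegree_X_pow_le q)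
        nlinarith
  have hPne : P (r - 1) ≠ 0 :=
    hne _ ⟨j, by omega, by simp only [a', dif_pos j.2]; exact hj⟩
  obtain ⟨Q, hQ⟩ : X ∣ P (r - 1) - X := dvd_sub ((dvd_pow_self X (by omega)).trans (hdvd _)) dvd_rfl
  have hQdeg : Q.degree ≠ 0 := by
    intro h
    have hdeg : q ≤ (P (r - 1)).natDegree := by simpa using natDegree_le_of_dvd (hdvd _) hPne
    have h1 : (P (r - 1) - X).natDegree = (P (r - 1)).natDegree :=
      natDegree_sub_eq_left_of_natDegree_lt (by rw [natDegree_X]; omega)
    have h2 : (X * Q).natDegree ≤ 1 := by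
      refine natDegree_mul_le.trans ?_
      rw [natDegree_X, natDegree_eq_zero_iff_degree_le_zero.mpr h.le]
    rw [hQ] at h1; omega
  obtain ⟨t, ht⟩ := IsAlgClosed.exists_root Q hQdeg
  have hQ0 : Q.coeff 0 = -1 := by
    have := congrArg (fun f => coeff f 1) hQ
    simp only [coeff_sub, coeff_X_one, coeff_X_mul] at this
    rw [← this]
    obtain ⟨S, hS⟩ := hdvd (r - 1)
    rw [hS, coeff_X_pow_mul', if_neg (by omega)]; simp
  have ht0 : t ≠ 0 := by
    rintro rfl
    rw [IsRoot, ← coeff_zero_eq_eval_zero, hQ0] at ht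
    exact one_ne_zero (neg_eq_zero.mp ht)
  let x : ℕ → k := fun i => (P i).eval t
  have hxlast : x (r - 1) = t := by
    have := congrArg (eval t) hQ
    rw [eval_sub, eval_mul, ht, mul_zero, eval_X, sub_eq_zero] at this
    exact this
  refine ⟨∑ i : Fin r, x i • φ^[i] v, fun h0 => ?_, ?_⟩
  · exact ht0 (hxlast ▸ Fintype.linearIndependent_iff.mp hind _ h0 ⟨r - 1, by omega⟩)
  · obtain ⟨r₁, rfl⟩ : ∃ r₁, r = r₁ + 1 := ⟨r - 1, by omega⟩
    rw [map_sum]
    simp only [hφ, ← Function.iterate_succ_apply' φ]
    rw [Fin.sum_univ_castSucc]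
    simp only [Fin.val_castSucc, Fin.val_last]
    rw [show x r₁ = t from hxlast, show Nat.succ r₁ = r₁ + 1 from rfl, ← ha, Finset.smul_sum]
    simp only [smul_smul]
    rw [Fin.sum_univ_succ, Fin.sum_univ_succ (f := fun i => x i • φ^[i] v)]
    have h0 : t ^ q * a 0 = x 0 := by
      simp only [x, hP0, eval_mul, eval_C, eval_pow, eval_X, a', dif_pos hr0]
      rw [mul_comm]
      rfl
    have hs : ∀ i : Fin r₁, x i.succ = x i ^ q + t ^ q * a i.succ := by
      intro i
      have hi : (i : ℕ) + 1 < r₁ + 1 := by omega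
      simp only [x, Fin.val_succ, hPs, eval_add, eval_pow, eval_mul, eval_C, eval_X, a', dif_pos hi]
      rw [mul_comm (a _)]
      rfl
    rw [h0, ← add_assoc, add_comm (∑ i : Fin r₁, _), add_assoc, ← Finset.sum_add_distrib]
    congr 1
    refine Finset.sum_congr rfl fun i _ => ?_
    rw [hs, add_smul]
    simp [Fin.val_succ]

include hq hφ in
/-- Lang: the fixed vectors span. -/
theorem span_fixed_eq_top [FiniteDimensional k V] (hinj : Function.Injective φ) :
    Submodule.span k {v : V | φ v = v} = ⊤ := by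
  classical
  set U := Submodule.span k {v : V | φ v = v} with hU
  have hroot : ∀ c : k, ∃ x, x ^ q = c := fun c => IsAlgClosed.exists_pow_nat_eq c (by omega)
  have hmap : ∀ u ∈ U, φ u ∈ U ∧ ∃ u' ∈ U, φ u' = u := by
    intro u hu
    induction hu using Submodule.span_induction with
    | mem x hx => exact ⟨by rw [show φ x = x from hx]; exact Submodule.subset_span hx,
        x, Submodule.subset_span hx, hx⟩
    | zero => exact ⟨by rw [map_zero]; exact U.zero_mem, 0, U.zero_mem, map_zero φ⟩
    | add x y _ _ hx hy =>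
      obtain ⟨hx1, x', hx2, hx3⟩ := hx
      obtain ⟨hy1, y', hy2, hy3⟩ := hy
      exact ⟨by rw [map_add]; exact add_mem hx1 hy1, x' + y', add_mem hx2 hy2, by rw [map_add, hx3, hy3]⟩
    | smul c x _ hx =>
      obtain ⟨hx1, x', hx2, hx3⟩ := hx
      obtain ⟨d, hd⟩ := hroot c
      exact ⟨by rw [hφ]; exact U.smul_mem _ hx1, d • x', U.smul_mem _ hx2, by rw [hφ, hd, hx3]⟩
  have hsurj' : ∀ u ∈ U, ∀ c : k, ∃ u' ∈ U, φ u' - u' = c • u := by
    intro u hu
    induction hu using Submodule.span_induction with
    | mem x hx =>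
      intro c
      obtain ⟨d, hd⟩ := exists_artinSchreier hq c
      exact ⟨d • x, U.smul_mem _ (Submodule.subset_span hx), by
        rw [hφ, show φ x = x from hx, ← sub_smul, hd]⟩
    | zero => exact fun c => ⟨0, U.zero_mem, by simp⟩
    | add x y _ _ hx hy =>
      intro c
      obtain ⟨x', hx2, hx3⟩ := hx c
      obtain ⟨y', hy2, hy3⟩ := hy c
      exact ⟨x' + y', add_mem hx2 hy2, by rw [map_add, smul_add, ← hx3, ← hy3]; abel⟩
    | smul d x _ hx => intro c; rw [smul_smul]; exact hx (c * d)
  have hsurj : ∀ u ∈ U, ∃ u' ∈ U, φ u' - u' = u := fun u hu => by simpa using hsurj' u hu 1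
  by_contra hne
  have : Nontrivial (V ⧸ U) := Submodule.Quotient.nontrivial_iff.mpr hne
  let ψ : (V ⧸ U) →+ (V ⧸ U) :=
    QuotientAddGroup.map U.toAddSubgroup U.toAddSubgroup φ (fun u hu => (hmap u hu).1)
  have hψ : ∀ v : V, ψ (Submodule.Quotient.mk v) = Submodule.Quotient.mk (φ v) := fun v => rfl
  obtain ⟨w, hw0, hw⟩ := exists_fixed_ne_zero (k := k) hq ψ (fun (a : k) z => by
      obtain ⟨z, rfl⟩ := Submodule.Quotient.mk_surjective _ z
      rw [← Submodule.Quotient.mk_smul, hψ, hψ, hφ, Submodule.Quotient.mk_smul])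
    ((injective_iff_map_eq_zero ψ).mpr fun z hz => by
      obtain ⟨z, rfl⟩ := Submodule.Quotient.mk_surjective _ z
      rw [hψ, Submodule.Quotient.mk_eq_zero] at hz
      obtain ⟨u', hu', hu⟩ := (hmap _ hz).2
      rw [hinj hu] at hu'
      exact (Submodule.Quotient.mk_eq_zero _).mpr hu')
  obtain ⟨w, rfl⟩ := Submodule.Quotient.mk_surjective _ w
  rw [hψ, Submodule.Quotient.eq] at hw
  obtain ⟨u, hu, hu'⟩ := hsurj _ hw
  refine hw0 ((Submodule.Quotient.mk_eq_zero _).mpr ?_)
  have hfix : φ (w - u) = w - u := by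
    rw [map_sub, ← sub_eq_zero]
    have : φ w - φ u - (w - u) = (φ w - w) - (φ u - u) := by abel
    rw [this, hu', sub_self]
  simpa using add_mem (Submodule.subset_span hfix : w - u ∈ U) hu

include hq hφ in
/-- A basis of fixed vectors. -/
theorem exists_basis_fixed [FiniteDimensional k V] (hinj : Function.Injective φ) :
    ∃ (ι : Type v) (b : Module.Basis ι k V), ∀ i, φ (b i) = b i := by
  obtain ⟨s, hs, hsp, hli⟩ := exists_linearIndependent k {v : V | φ v = v}
  rw [span_fixed_eq_top hq φ hφ hinj] at hsp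
  exact ⟨s, Module.Basis.mk hli (by rw [Subtype.range_coe]; exact hsp.ge), fun i => by
    rw [Module.Basis.mk_apply]; exact hs i.2⟩

include hq hφ in
theorem surjective_sub_id [FiniteDimensional k V] (hinj : Function.Injective φ) (v : V) :
    ∃ y, φ y - y = v := by
  obtain ⟨ι, b, hb⟩ := exists_basis_fixed hq φ hφ hinj
  have : Fintype ι := FiniteDimensional.fintypeBasisIndex b
  choose x hx using fun i => exists_artinSchreier hq (b.repr v i)
  refine ⟨∑ i, x i • b i, ?_⟩
  rw [map_sum, ← Finset.sum_sub_distrib]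
  conv_rhs => rw [← b.sum_repr v]
  exact Finset.sum_congr rfl fun i _ => by rw [hφ, hb, ← sub_smul, hx]

include hq hφ in
/-- `φ - 1` is surjective for every semilinear endomorphism (not necessarily injective). -/
theorem surjective_sub_id' [FiniteDimensional k V] (v : V) : ∃ y, φ y - y = v := by
  induction hn : Module.finrank k V using Nat.strong_induction_on generalizing V with
  | _ n ih =>
    subst hn
    by_cases hinj : Function.Injective φ
    · exact surjective_sub_id hq φ hφ hinj v
    have hroot : ∀ c : k, ∃ x, x ^ q = c := fun c => IsAlgClosed.exists_pow_nat_eq c (by omega)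
    let W : Submodule k V :=
      { carrier := Set.range φ
        zero_mem' := ⟨0, map_zero φ⟩
        add_mem' := by rintro _ _ ⟨a, rfl⟩ ⟨b, rfl⟩; exact ⟨a + b, map_add φ a b⟩
        smul_mem' := by
          rintro c _ ⟨a, rfl⟩
          obtain ⟨d, hd⟩ := hroot c
          exact ⟨d • a, by rw [hφ, hd]⟩ }
    have hlt : Module.finrank k W < Module.finrank k V := by
      refine lt_of_le_of_ne (Submodule.finrank_le W) fun he => hinj ?_
      have htop : W = ⊤ := Submodule.eq_top_of_finrank_eq he
      -- a surjective semilinear map of a finite-dimensional space is injective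
      rw [injective_iff_map_eq_zero]
      intro a ha
      by_contra ha0
      obtain ⟨b⟩ := (⟨Module.finBasis k V⟩ : Nonempty (Module.Basis (Fin (Module.finrank k V)) k V))
      have hsp : Submodule.span k (Set.range fun i => φ (b i)) = ⊤ := by
        rw [eq_top_iff, ← htop]
        rintro _ ⟨z, rfl⟩
        rw [← b.sum_repr z, map_sum]
        exact Submodule.sum_mem _ fun i _ => by rw [hφ]; exact Submodule.smul_mem _ _ (Submodule.subset_span ⟨i, rfl⟩)
      have hli : LinearIndependent k (fun i => φ (b i)) :=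
        linearIndependent_of_top_le_span_of_card_eq_finrank hsp.ge (by simp)
      rw [← b.sum_repr a, map_sum] at ha
      simp only [hφ] at ha
      refine ha0 (b.repr.injective ?_)
      rw [map_zero]
      ext i
      exact (pow_eq_zero_iff (by omega)).mp (Fintype.linearIndependent_iff.mp hli _ ha i)
    let φW : W →+ W := (φ.comp W.subtype.toAddMonoidHom).codRestrict W fun z => ⟨z.1, rfl⟩
    obtain ⟨w, hw⟩ := ih _ hlt φW (fun c z => Subtype.ext (hφ c z.1)) ⟨φ v, v, rfl⟩ rfl
    refine ⟨(w : V) - v, ?_⟩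
    have hw' : φ (w : V) - w = φ v := congrArg Subtype.val hw
    have e : φ ((w : V) - v) - ((w : V) - v) = (φ (w : V) - w) - φ v + v := by rw [map_sub]; abel
    rw [e, hw', sub_self, zero_add]

end Groth.Agent.CommAlg4.LangFixed
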