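import Mathlib

/-! Semilinear endomorphisms of finite dimensional spaces for an arbitrary field endomorphism. -/

set_option autoImplicit false
set_option linter.all false

universe u v

namespace Groth.Agent.CommAlg4.SigmaLinGen

open Submodule

variable {k : Type u} [Field k] {σ : k →+* k} {V : Type v} [AddCommGroup V] [Module k V] (T : V →ₛₗ[σ] V)

/-- The span of the image of the `n`-th iterate. -/
def U (n : ℕ) : Submodule k V := Submodule.span k (Set.range ((⇑T)^[n]))

theorem map_mem (n : ℕ) {v : V} (hv : v ∈ U T n) : T v ∈ U T (n + 1) := by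
  induction hv using Submodule.span_induction with
  | mem x hx =>
    obtain ⟨y, rfl⟩ := hx
    exact subset_span ⟨y, Function.iterate_succ_apply' _ _ _⟩
  | zero => rw [map_zero]; exact zero_mem _
  | add x y _ _ hx hy => rw [map_add]; exact add_mem hx hy
  | smul a x _ hx => rw [T.map_smulₛₗ]; exact smul_mem _ _ hx

theorem antitone : Antitone (U T) := antitone_nat_of_succ_le fun n => span_le.mpr (by
  rintro _ ⟨y, rfl⟩
  exact subset_span ⟨T y, (Function.iterate_succ_apply _ _ _).symm⟩)

theorem span_image_eq (n : ℕ) : span k (T '' (U T n : Set V)) = U T (n + 1) :=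
  le_antisymm (span_le.mpr (Set.image_subset_iff.mpr fun v hv => map_mem T n hv))
    (span_mono (by rintro _ ⟨y, rfl⟩; exact ⟨_, subset_span ⟨y, rfl⟩, (Function.iterate_succ_apply' _ _ _).symm⟩))

variable [FiniteDimensional k V]

theorem exists_eventually : ∃ m, ∀ n, m ≤ n → U T n = U T m := by
  obtain ⟨m, hm⟩ := IsArtinian.monotone_stabilizes (R := k) (M := V) ⟨fun n => OrderDual.toDual (U T n), fun a b h => antitone T h⟩
  exact ⟨m, fun n hn => (hm n hn).symm⟩

/-- The stable part. -/
def core : Submodule k V := ⨅ n, U T n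

theorem core_eq : ∃ m, ∀ n, m ≤ n → core T = U T n := by
  obtain ⟨m, hm⟩ := exists_eventually T
  refine ⟨m, fun n hn => le_antisymm (iInf_le _ _) (le_iInf fun i => ?_)⟩
  rw [hm n hn]
  rcases le_total i m with h | h
  · exact antitone T h
  · rw [hm i h]

theorem map_core {v : V} (hv : v ∈ core T) : T v ∈ core T := by
  obtain ⟨m, hm⟩ := core_eq T
  rw [hm (m + 1) (by omega)]
  exact map_mem T m (hm m le_rfl ▸ hv)

theorem iterate_core {v : V} (hv : v ∈ core T) (n : ℕ) : (⇑T)^[n] v ∈ core T := by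
  induction n with
  | zero => exact hv
  | succ n ih => rw [Function.iterate_succ_apply']; exact map_core T ih

theorem span_image_core : span k (T '' (core T : Set V)) = core T := by
  obtain ⟨m, hm⟩ := core_eq T
  nth_rewrite 1 [hm m le_rfl]
  rw [span_image_eq, hm (m + 1) (by omega)]

theorem eq_zero_of_span {W : Submodule k V} (hW : span k (T '' (W : Set V)) = W) {v : V} (hv : v ∈ W) (h : T v = 0) :
    v = 0 := by
  let b := Module.finBasis k W
  have hs : W ≤ span k (Set.range fun i => T (b i : V)) := by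
    conv_lhs => rw [← hW]
    rw [span_le]
    rintro _ ⟨w, hw, rfl⟩
    have := congrArg Subtype.val (b.sum_repr ⟨w, hw⟩)
    simp only [AddSubmonoidClass.coe_finsetSum, SetLike.val_smul] at this
    rw [← this, map_sum]
    exact sum_mem fun i _ => by rw [T.map_smulₛₗ]; exact smul_mem _ _ (subset_span ⟨i, rfl⟩)
  have hli : LinearIndependent k fun i => T (b i : V) := by
    rw [linearIndependent_iff_card_le_finrank_span, Fintype.card_fin]
    exact Submodule.finrank_mono hs
  have hv' := congrArg Subtype.val (b.sum_repr ⟨v, hv⟩)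
  simp only [AddSubmonoidClass.coe_finsetSum, SetLike.val_smul] at hv'
  rw [← hv', map_sum] at h
  simp only [T.map_smulₛₗ] at h
  have h0 : ∀ i, b.repr ⟨v, hv⟩ i = 0 := fun i => σ.injective (by
    rw [map_zero]; exact Fintype.linearIndependent_iff.mp hli _ h i)
  rw [← hv']
  exact Finset.sum_eq_zero fun i _ => by rw [h0 i, zero_smul]

theorem injOn_core {v : V} (hv : v ∈ core T) {n : ℕ} (h : (⇑T)^[n] v = 0) : v = 0 := by
  induction n generalizing v with
  | zero => exact h
  | succ n ih =>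
    rw [Function.iterate_succ_apply] at h
    exact eq_zero_of_span T (span_image_core T) hv (ih (map_core T hv) h)

/-- The vectors killed by some iterate. -/
def nil : Submodule k V where
  carrier := {v | ∃ n : ℕ, (⇑T)^[n] v = 0}
  zero_mem' := ⟨0, rfl⟩
  add_mem' := by
    rintro a b ⟨i, hi⟩ ⟨j, hj⟩
    refine ⟨i + j, ?_⟩
    have hadd : ∀ n (x y : V), (⇑T)^[n] (x + y) = (⇑T)^[n] x + (⇑T)^[n] y := fun n x y =>
      Function.Semiconj₂.iterate (fun x y => map_add T x y) n x y
    have h0 : ∀ n, (⇑T)^[n] (0 : V) = 0 := fun n => Function.iterate_fixed (map_zero T) n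
    rw [hadd, Function.iterate_add_apply (⇑T) i j b, hj, h0, add_comm i j, Function.iterate_add_apply, hi, h0, add_zero]
  smul_mem' := by
    rintro c a ⟨i, hi⟩
    refine ⟨i, ?_⟩
    have : ∀ n (c : k), (⇑T)^[n] (c • a) = (⇑σ)^[n] c • (⇑T)^[n] a := by
      intro n
      induction n with
      | zero => intro c; rfl
      | succ n ih => intro c; rw [Function.iterate_succ_apply', ih, T.map_smulₛₗ, Function.iterate_succ_apply' (⇑σ), Function.iterate_succ_apply' (⇑T)]
    rw [this, hi, smul_zero]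

theorem exists_bound : ∃ N : ℕ, ∀ v ∈ nil T, (⇑T)^[N] v = 0 := by
  obtain ⟨s, hs⟩ := IsNoetherian.noetherian (nil T)
  have hg : ∀ x ∈ s, ∃ n, (⇑T)^[n] x = 0 := fun x hx => (hs ▸ subset_span hx : x ∈ nil T)
  choose! f hf using hg
  refine ⟨s.sup f, fun v hv => ?_⟩
  rw [← hs] at hv
  have h0 : ∀ n, (⇑T)^[n] (0 : V) = 0 := fun n => Function.iterate_fixed (map_zero T) n
  induction hv using Submodule.span_induction with
  | mem x hx =>
    obtain ⟨d, hd⟩ := Nat.exists_eq_add_of_le (Finset.le_sup (f := f) hx)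
    rw [hd, add_comm, Function.iterate_add_apply, hf x hx, h0]
  | zero => exact h0 _
  | add x y _ _ hx hy =>
    rw [Function.Semiconj₂.iterate (fun x y => map_add T x y) (s.sup f) x y, hx, hy, add_zero]
  | smul c x _ hx =>
    have : ∀ n (c : k), (⇑T)^[n] (c • x) = (⇑σ)^[n] c • (⇑T)^[n] x := by
      intro n
      induction n with
      | zero => intro c; rfl
      | succ n ih => intro c; rw [Function.iterate_succ_apply', ih, T.map_smulₛₗ, Function.iterate_succ_apply' (⇑σ), Function.iterate_succ_apply' (⇑T)]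
    rw [this, hx, smul_zero]

theorem surjOn_core (hσ : Function.Surjective σ) {v : V} (hv : v ∈ core T) : ∃ w ∈ core T, T w = v := by
  rw [← span_image_core T] at hv
  induction hv using Submodule.span_induction with
  | mem x hx => obtain ⟨w, hw, rfl⟩ := hx; exact ⟨w, hw, rfl⟩
  | zero => exact ⟨0, zero_mem _, map_zero T⟩
  | add x y _ _ hx hy =>
    obtain ⟨a, ha, rfl⟩ := hx; obtain ⟨b, hb, rfl⟩ := hy
    exact ⟨a + b, add_mem ha hb, map_add T a b⟩
  | smul c x _ hx =>
    obtain ⟨a, ha, rfl⟩ := hx; obtain ⟨d, rfl⟩ := hσ c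
    exact ⟨d • a, smul_mem _ _ ha, T.map_smulₛₗ d a⟩

theorem exists_decomp (hσ : Function.Surjective σ) (v : V) : ∃ u ∈ core T, v - u ∈ nil T := by
  obtain ⟨m, hm⟩ := core_eq T
  have hsurj : ∀ n, ∀ w ∈ core T, ∃ u ∈ core T, (⇑T)^[n] u = w := by
    intro n
    induction n with
    | zero => exact fun w hw => ⟨w, hw, rfl⟩
    | succ n ih =>
      intro w hw
      obtain ⟨a, ha, rfl⟩ := surjOn_core T hσ hw
      obtain ⟨u, hu, rfl⟩ := ih a ha
      exact ⟨u, hu, Function.iterate_succ_apply' _ _ _⟩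
  obtain ⟨u, hu, he⟩ := hsurj m _ (hm m le_rfl ▸ subset_span ⟨v, rfl⟩ : (⇑T)^[m] v ∈ core T)
  refine ⟨u, hu, m, ?_⟩
  have hadd : ∀ n (x y : V), (⇑T)^[n] (x + y) = (⇑T)^[n] x + (⇑T)^[n] y := fun n x y =>
    Function.Semiconj₂.iterate (fun x y => map_add T x y) n x y
  have := hadd m (v - u) u
  rw [sub_add_cancel, he] at this
  exact right_eq_add.mp this

/-- Hypothesis (i). -/
def H2 (σ : k →+* k) : Prop := ∀ (n : ℕ) (b : Fin (n + 1) → k), b ≠ 0 →
  ∃ x : k, x ≠ 0 ∧ x = ∑ i : Fin (n + 1), (⇑σ)^[i.val + 1] x * (⇑σ)^[i.val] (b (Fin.rev i))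

theorem exists_fixed_mem (h2 : H2 σ) (e : V) (he : ∀ m : ℕ, (⇑T)^[m] e ≠ 0) :
    ∃ v ∈ Submodule.span k (Set.range (fun m : ℕ => (⇑T)^[m] e)), v ≠ 0 ∧ T v = v := by
  classical
  let w : ℕ → V := fun m => (⇑T)^[m] e
  have hdep : ∃ n, ¬ LinearIndependent k (fun i : Fin (n + 1) => w i) := ⟨Module.finrank k V, fun h => by
    have := h.fintype_card_le_finrank; simp at this⟩
  have h0 : Nat.find hdep ≠ 0 := by
    intro h
    have h' := Nat.find_spec hdep
    rw [h] at h'
    haveI : Unique (Fin (0 + 1)) := inferInstanceAs (Unique (Fin 1))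
    exact h' (linearIndependent_unique_iff.mpr (he _))
  obtain ⟨n, hn⟩ := Nat.exists_eq_succ_of_ne_zero h0
  have hli : LinearIndependent k (fun i : Fin (n + 1) => w i) := by
    by_contra h; exact Nat.find_min hdep (show n < Nat.find hdep by omega) h
  have hnot := Nat.find_spec hdep
  rw [hn] at hnot
  have hmem : w (n + 1) ∈ span k (Set.range fun i : Fin (n + 1) => w i) := by
    by_contra h
    refine hnot ?_
    have h' := hli.finSnoc h
    convert h' using 1
    funext i
    refine Fin.lastCases ?_ (fun j => ?_) i <;> simp [w]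
  obtain ⟨b, hb⟩ := (mem_span_range_iff_exists_fun k).mp hmem
  have hb0 : b ≠ 0 := by
    rintro rfl
    exact he (n + 1) (hb.symm.trans (Finset.sum_eq_zero fun i _ => zero_smul k (w i)))
  obtain ⟨x, hx0, hx⟩ := h2 n b hb0
  let bb : ℕ → k := fun j => if h : j < n + 1 then b ⟨j, h⟩ else 0
  let X : ℕ → k := fun j => ∑ i ∈ Finset.range (j + 1), (⇑σ)^[i + 1] x * (⇑σ)^[i] (bb (j - i))
  have hXn : X n = x := by
    conv_rhs => rw [hx]
    rw [Finset.sum_fin_eq_sum_range]
    refine Finset.sum_congr rfl fun i hi => ?_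
    rw [Finset.mem_range] at hi
    rw [dif_pos hi]
    simp only [bb, dif_pos (show n - i < n + 1 by omega)]
    congr 3
    ext; simp
  have hX0 : X 0 = σ x * bb 0 := by simp [X]
  have hXs : ∀ j, X (j + 1) = σ (X j) + σ x * bb (j + 1) := fun j => by
    simp only [X]
    rw [Finset.sum_range_succ' _ (j + 1), map_sum]
    congr 1
    refine Finset.sum_congr rfl fun i hi => ?_
    rw [map_mul, ← Function.iterate_succ_apply' (⇑σ), ← Function.iterate_succ_apply' (⇑σ), show j + 1 - (i + 1) = j - i by omega]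
  refine ⟨∑ i : Fin (n + 1), X i • w i, sum_mem fun i _ => smul_mem _ _ (subset_span ⟨i, rfl⟩), fun h => ?_, ?_⟩
  · have := Fintype.linearIndependent_iff.mp hli _ h (Fin.last n)
    rw [Fin.val_last, hXn] at this
    exact hx0 this
  · have hT : ∀ i : ℕ, T (X i • w i) = σ (X i) • w (i + 1) := fun i => by
      rw [T.map_smulₛₗ]; simp only [w, Function.iterate_succ_apply']
    have hbs : w (n + 1) = ∑ i ∈ Finset.range (n + 1), bb i • w i := by
      rw [← hb, Finset.sum_fin_eq_sum_range]
      refine Finset.sum_congr rfl fun i hi => ?_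
      rw [Finset.mem_range] at hi
      simp [bb, dif_pos hi]
    rw [map_sum, Fin.sum_univ_eq_sum_range (fun i => T (X i • w i)) (n + 1),
      Fin.sum_univ_eq_sum_range (fun i => X i • w i) (n + 1), Finset.sum_range_succ]
    simp only [hT]
    rw [hXn, hbs, Finset.smul_sum]
    simp only [smul_smul]
    rw [Finset.sum_range_succ' (fun i => X i • w i) n, Finset.sum_range_succ' (fun i => (σ x * bb i) • w i) n,
      ← add_assoc, ← Finset.sum_add_distrib]
    refine congrArg₂ (· + ·) (Finset.sum_congr rfl fun i _ => ?_) ?_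
    · rw [hXs, add_smul]
    · rw [hX0]

theorem exists_fixed_span_top (h1 : span k (Set.range ⇑T) = ⊤) (h2 : H2 σ) (h3 : ∀ c : k, ∃ y : k, σ y - y + c = 0) :
    span k {v : V | T v = v} = ⊤ := by
  set F := span k {v : V | T v = v} with hF
  have hFT : ∀ x ∈ F, T x ∈ F := fun x hx => by
    induction hx using Submodule.span_induction with
    | mem a ha => rw [show T a = a from ha]; exact subset_span ha
    | zero => rw [map_zero]; exact zero_mem _
    | add a b _ _ ha hb => rw [map_add]; exact add_mem ha hb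
    | smul c a _ ha => rw [T.map_smulₛₗ]; exact smul_mem _ _ ha
  have hsolve : ∀ x ∈ F, ∃ z ∈ F, T z - z + x = 0 := fun x hx => by
    induction hx using Submodule.span_induction with
    | mem a ha =>
      obtain ⟨y, hy⟩ := h3 1
      refine ⟨y • a, smul_mem _ _ (subset_span ha), ?_⟩
      rw [T.map_smulₛₗ, show T a = a from ha, ← sub_smul]
      nth_rewrite 2 [← one_smul k a]
      rw [← add_smul, hy, zero_smul]
    | zero => exact ⟨0, zero_mem _, by simp⟩
    | add a b _ _ ha hb =>
      obtain ⟨z, hz, e⟩ := ha; obtain ⟨z', hz', e'⟩ := hb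
      refine ⟨z + z', add_mem hz hz', ?_⟩
      rw [map_add, show T z + T z' - (z + z') + (a + b) = (T z - z + a) + (T z' - z' + b) by abel, e, e', add_zero]
    | smul c a hmem ha =>
      obtain ⟨nn, cf, g, ht⟩ := Submodule.mem_span_set'.mp hmem
      choose y hy using fun i => h3 (c * cf i)
      refine ⟨∑ i, y i • ((g i : V)), sum_mem fun i _ => smul_mem _ _ (subset_span (g i).2), ?_⟩
      rw [← ht, map_sum, Finset.smul_sum, ← Finset.sum_sub_distrib, ← Finset.sum_add_distrib]
      refine Finset.sum_eq_zero fun i _ => ?_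
      rw [T.map_smulₛₗ, show T (g i : V) = g i from (g i).2, smul_smul, ← sub_smul, ← add_smul, hy, zero_smul]
  by_contra hne
  let Tq : (V ⧸ F) →ₛₗ[σ] (V ⧸ F) := F.mapQ F T hFT
  have h1q : span k (Set.range ⇑Tq) = ⊤ := by
    rw [eq_top_iff]
    rintro q -
    obtain ⟨v, rfl⟩ := Submodule.Quotient.mk_surjective F q
    have hv : v ∈ span k (Set.range ⇑T) := h1 ▸ mem_top
    induction hv using Submodule.span_induction with
    | mem x hx => obtain ⟨y, rfl⟩ := hx; exact subset_span ⟨Submodule.Quotient.mk y, rfl⟩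
    | zero => rw [Submodule.Quotient.mk_zero]; exact zero_mem _
    | add a b _ _ ha hb => rw [Submodule.Quotient.mk_add]; exact add_mem ha hb
    | smul c a _ ha => rw [Submodule.Quotient.mk_smul]; exact smul_mem _ _ ha
  have hinj : ∀ x, Tq x = 0 → x = 0 := fun x hx =>
    eq_zero_of_span Tq (W := ⊤) (by rw [top_coe, Set.image_univ, h1q]) mem_top hx
  obtain ⟨e, he⟩ : ∃ e : V ⧸ F, e ≠ 0 := by
    obtain ⟨x, hx⟩ : ∃ x, x ∉ F := by
      by_contra hc; push Not at hc; exact hne (eq_top_iff.mpr fun x _ => hc x)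
    exact ⟨Submodule.Quotient.mk x, fun h => hx ((Submodule.Quotient.mk_eq_zero F).mp h)⟩
  have hit : ∀ m, (⇑Tq)^[m] e ≠ 0 := by
    intro m
    induction m with
    | zero => exact he
    | succ m ih => rw [Function.iterate_succ_apply']; exact fun h => ih (hinj _ h)
  obtain ⟨q, -, hq0, hq⟩ := exists_fixed_mem Tq h2 e hit
  obtain ⟨v, rfl⟩ := Submodule.Quotient.mk_surjective F q
  obtain ⟨z, hz, e'⟩ := hsolve (T v - v) ((Submodule.Quotient.eq F).mp hq)
  refine hq0 ((Submodule.Quotient.mk_eq_zero F).mpr ?_)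
  have : T (v + z) = v + z := by
    rw [map_add]
    rw [← sub_eq_zero, ← e']; abel
  have := sub_mem (subset_span (s := {v : V | T v = v}) this : v + z ∈ F) hz
  simpa using this

theorem exists_fixed_basis (h1 : span k (Set.range ⇑T) = ⊤) (h2 : H2 σ) (h3 : ∀ c : k, ∃ y : k, σ y - y + c = 0) :
    (∃ b : Module.Basis (Fin (Module.finrank k V)) k V, ∀ i, T (b i) = b i) ∧
      Function.Surjective (fun v : V => v - T v) := by
  obtain ⟨s, hsub, hsp, hli⟩ := exists_linearIndependent k {v : V | T v = v}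
  let B := Module.Basis.mk hli (by rw [Subtype.range_coe, hsp, exists_fixed_span_top T h1 h2 h3])
  let b := B.reindex (B.indexEquiv (Module.finBasis k V))
  have hb : ∀ i, T (b i) = b i := fun i => by
    simp only [b, Module.Basis.reindex_apply, B, Module.Basis.mk_apply]
    exact hsub (Subtype.coe_prop _)
  refine ⟨⟨b, hb⟩, fun w => ?_⟩
  choose y hy using fun i => h3 (b.repr w i)
  refine ⟨∑ i, y i • b i, ?_⟩
  simp only [map_sum, T.map_smulₛₗ, hb, ← Finset.sum_sub_distrib, ← sub_smul]
  conv_rhs => rw [← b.sum_repr w]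
  refine Finset.sum_congr rfl fun i _ => congrArg (· • b i) ?_
  linear_combination -hy i

theorem core_basis (h2 : H2 σ) (h3 : ∀ c : k, ∃ y : k, σ y - y + c = 0) :
    (∃ b : Module.Basis (Fin (Module.finrank k (core T))) k (core T), ∀ i, T (b i : V) = (b i : V)) ∧
      ∀ v ∈ core T, ∃ w ∈ core T, w - T w = v := by
  let T' : core T →ₛₗ[σ] core T :=
    { toFun := fun x => ⟨T x, map_core T x.2⟩
      map_add' := fun x y => Subtype.ext (map_add T x.1 y.1)
      map_smul' := fun c x => Subtype.ext (T.map_smulₛₗ c x.1) }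
  have h1 : span k (Set.range ⇑T') = ⊤ := by
    refine map_injective_of_injective (core T).injective_subtype ?_
    rw [map_span, Submodule.map_top, range_subtype, ← Set.range_comp]
    convert span_image_core T using 2
    rw [← Subtype.range_coe (s := (core T : Set V)), ← Set.range_comp]
    rfl
  obtain ⟨⟨b, hb⟩, hs⟩ := exists_fixed_basis T' h1 h2 h3
  refine ⟨⟨b, fun i => congrArg Subtype.val (hb i)⟩, fun v hv => ?_⟩
  obtain ⟨w, hw⟩ := hs ⟨v, hv⟩
  exact ⟨w, w.2, congrArg Subtype.val hw⟩

theorem surjective_sub (hσ : Function.Surjective σ) (h2 : H2 σ) (h3 : ∀ c : k, ∃ y : k, σ y - y + c = 0) :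
    Function.Surjective (fun v : V => v - T v) := by
  intro v
  obtain ⟨u, hu, hz⟩ := exists_decomp T hσ v
  obtain ⟨w, -, hw⟩ := (core_basis T h2 h3).2 u hu
  obtain ⟨N, hN⟩ := hz
  refine ⟨w + ∑ i ∈ Finset.range N, (⇑T)^[i] (v - u), ?_⟩
  simp only [map_add, map_sum, ← Function.iterate_succ_apply' (⇑T)]
  rw [add_sub_add_comm, hw, ← Finset.sum_sub_distrib, Finset.sum_range_sub' (fun i => (⇑T)^[i] (v - u)), hN,
    Function.iterate_zero, id, sub_zero, add_sub_cancel]

theorem fixed_repr (h2 : H2 σ) (h3 : ∀ c : k, ∃ y : k, σ y - y + c = 0) :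
    ∃ (r : ℕ) (b : Fin r → V), (∀ i, T (b i) = b i) ∧
      ∀ v, T v = v → ∃ c : Fin r → k, (∀ i, σ (c i) = c i) ∧ v = ∑ i, c i • b i := by
  obtain ⟨⟨b, hb⟩, -⟩ := core_basis T h2 h3
  refine ⟨_, fun i => (b i : V), hb, fun v hv => ?_⟩
  have hmem : v ∈ core T := Submodule.mem_iInf _ |>.mpr fun n =>
    subset_span ⟨v, Function.iterate_fixed hv n⟩
  refine ⟨fun i => b.repr ⟨v, hmem⟩ i, fun i => ?_, ?_⟩
  · have h := congrArg Subtype.val (b.sum_repr ⟨v, hmem⟩)
    simp only [AddSubmonoidClass.coe_finsetSum, SetLike.val_smul] at h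
    have h' := congrArg T h
    simp only [map_sum, T.map_smulₛₗ, hb, hv] at h'
    have hh : ∑ j, σ (b.repr ⟨v, hmem⟩ j) • b j = (⟨v, hmem⟩ : core T) := Subtype.ext (by simpa using h'.trans rfl)
    have := congrArg (fun z => b.repr z i) hh
    simpa [b.repr_self, Finsupp.single_apply] using this
  · have h := congrArg Subtype.val (b.sum_repr ⟨v, hmem⟩)
    simp only [AddSubmonoidClass.coe_finsetSum, SetLike.val_smul] at h
    exact h.symm

end Groth.Agent.CommAlg4.SigmaLinGen
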