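import Mathlib

/-!
Resolutions of finite modules over Noetherian rings by finite free modules, and vanishing of `Tor (A/I) M`
read off from them.
-/
set_option autoImplicit false
set_option linter.all false
universe u

open CategoryTheory CategoryTheory.Limits Function

namespace Groth.Agent.CommAlg4.TorRegular

section
set_option backward.isDefEq.respectTransparency false
theorem exists_free_resolution (B M : Type u) [CommRing B] [IsNoetherianRing B] [AddCommGroup M] [Module B M]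
    [Module.Finite B M] :
    ∃ P : ProjectiveResolution (ModuleCat.of B M),
      ∀ n : ℕ, Module.Finite B (P.complex.X n) ∧ Module.Free B (P.complex.X n) := by
  obtain ⟨k₀, q, hq⟩ := Module.Finite.exists_fin' B M
  have hnext : ∀ (m : ℕ) (K : Submodule B (Fin m → B)),
      ∃ (k : ℕ) (f : (Fin k → B) →ₗ[B] (Fin m → B)), LinearMap.range f = K := fun m K => by
    obtain ⟨k, f, hf⟩ := Module.Finite.exists_fin' B K
    exact ⟨k, K.subtype ∘ₗ f, by rw [LinearMap.range_comp_of_range_eq_top _ (LinearMap.range_eq_top.2 hf),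
      Submodule.range_subtype]⟩
  choose k f hf using hnext
  let S := Σ m : ℕ, Submodule B (Fin m → B)
  let next : S → S := fun s => ⟨k s.1 s.2, LinearMap.ker (f s.1 s.2)⟩
  let st : ℕ → S := fun n => Nat.rec ⟨k₀, LinearMap.ker q⟩ (fun _ s => next s) n
  let X : ℕ → ModuleCat.{u} B := fun n => ModuleCat.of B (Fin (st n).1 → B)
  let dd : ∀ n, (Fin (st (n + 1)).1 → B) →ₗ[B] (Fin (st n).1 → B) := fun n => f (st n).1 (st n).2
  have hex : ∀ n, LinearMap.range (dd n) = (st n).2 := fun n => hf _ _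
  have hker : ∀ n, (st (n + 1)).2 = LinearMap.ker (dd n) := fun n => rfl
  have hsq : ∀ n, (ModuleCat.ofHom (dd (n + 1)) : X (n + 2) ⟶ X (n + 1)) ≫
      (ModuleCat.ofHom (dd n) : X (n + 1) ⟶ X n) = 0 := fun n => by
    refine ModuleCat.hom_ext (LinearMap.ext fun x => ?_)
    exact ((hex (n + 1)).trans (hker n)).le (LinearMap.mem_range_self (dd (n + 1)) x)
  let C : ChainComplex (ModuleCat.{u} B) ℕ := ChainComplex.of X (fun n => ModuleCat.ofHom (dd n)) hsq
  have hd : ∀ n, C.d (n + 1) n = ModuleCat.ofHom (dd n) := fun n =>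
    ChainComplex.of_d X (fun n => ModuleCat.ofHom (dd n)) n
  have hproj : ∀ n, Projective (C.X n) := fun n =>
    (IsProjective.iff_projective (R := B) (Fin (st n).1 → B)).1 inferInstance
  have hq0 : LinearMap.range (dd 0) = LinearMap.ker q := hex 0
  let π : C ⟶ (ChainComplex.single₀ (ModuleCat.{u} B)).obj (ModuleCat.of B M) :=
    (ChainComplex.toSingle₀Equiv _ _).symm ⟨ModuleCat.ofHom q, by
      rw [hd 0]
      refine ModuleCat.hom_ext (LinearMap.ext fun x => ?_)
      exact hq0.le (LinearMap.mem_range_self (dd 0) x)⟩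
  have hπ : π.f 0 = ModuleCat.ofHom q := ChainComplex.toSingle₀Equiv_symm_apply_f_zero _ _
  refine ⟨{
    complex := C
    projective := hproj
    π := π
    quasiIso := ⟨fun n => ?_⟩ }, fun n => ⟨?_, ?_⟩⟩
  · cases n with
    | zero =>
      rw [ChainComplex.quasiIsoAt₀_iff, ShortComplex.quasiIso_iff_of_zeros']
      · skip
        refine (ShortComplex.exact_and_epi_g_iff_of_iso
          (S₂ := ShortComplex.mk (C.d 1 0) (π.f 0) (by
            rw [hπ, hd 0]
            exact ModuleCat.hom_ext (LinearMap.ext fun x =>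
              hq0.le (LinearMap.mem_range_self (dd 0) x)))) ?_).2 ⟨?_, ?_⟩
        · exact ShortComplex.isoMk (Iso.refl _) (Iso.refl _) (Iso.refl _) (by simp) (by simp)
        · rw [ShortComplex.moduleCat_exact_iff_range_eq_ker]
          simp only [hπ, hd 0]
          exact hq0
        · simp only [hπ]
          exact (ModuleCat.epi_iff_surjective _).2 hq
      all_goals rfl
    | succ n =>
      rw [quasiIsoAt_iff_exactAt']
      · rw [HomologicalComplex.exactAt_iff' _ (n + 2) (n + 1) n (by simp) (by simp),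
          ShortComplex.moduleCat_exact_iff_range_eq_ker]
        simp only [HomologicalComplex.sc', HomologicalComplex.shortComplexFunctor']
        rw [hd (n + 1), hd n]
        exact (hex (n + 1)).trans (hker n)
      · exact ChainComplex.exactAt_succ_single_obj _ _
  · exact inferInstanceAs (Module.Finite B (Fin (st n).1 → B))
  · exact inferInstanceAs (Module.Free B (Fin (st n).1 → B))

end

section
variable {A : Type u} [CommRing A]
variable {P : ℕ → Type u} [∀ i, AddCommGroup (P i)] [∀ i, Module A (P i)] (d : ∀ i, P (i + 1) →ₗ[A] P i)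

/-- `(A/I) ⊗ P` is exact in positive degrees. -/
def Exk (I : Ideal A) : Prop :=
  ∀ i, ∀ z : P (i + 1), d i z ∈ (I • ⊤ : Submodule A (P i)) → z ∈ LinearMap.range (d (i + 1)) ⊔ (I • ⊤ : Submodule A (P (i + 1)))

variable {M : Type u} [AddCommGroup M] [Module A M] (q : P 0 →ₗ[A] M)

theorem smul_mem_map (I : Ideal A) {N N' : Type u} [AddCommGroup N] [Module A N] [AddCommGroup N'] [Module A N']
    (f : N →ₗ[A] N') {z : N} (hz : z ∈ (I • ⊤ : Submodule A N)) : f z ∈ (I • ⊤ : Submodule A N') :=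
  Submodule.smul_mono (le_refl I) (le_top : (⊤ : Submodule A N).map f ≤ ⊤)
    ((Submodule.map_smul'' I (⊤ : Submodule A N) f).le (Submodule.mem_map_of_mem hz))

theorem mem_sup_span (I : Ideal A) (x : A) {N : Type u} [AddCommGroup N] [Module A N] {z : N} :
    z ∈ ((I ⊔ Ideal.span {x}) • ⊤ : Submodule A N) ↔ ∃ a ∈ (I • ⊤ : Submodule A N), ∃ w, a + x • w = z := by
  rw [Submodule.sup_smul, Submodule.mem_sup, Submodule.ideal_span_singleton_smul]
  constructor
  · rintro ⟨a, ha, b, hb, rfl⟩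
    obtain ⟨w, -, rfl⟩ := (Submodule.mem_smul_pointwise_iff_exists _ _ _).1 hb
    exact ⟨a, ha, w, rfl⟩
  · rintro ⟨a, ha, w, rfl⟩
    exact ⟨a, ha, x • w, (Submodule.mem_smul_pointwise_iff_exists _ _ _).2 ⟨w, trivial, rfl⟩, rfl⟩

theorem exk_step (I : Ideal A) (x : A) (hdd : ∀ i z, d i (d (i + 1) z) = 0) (hq : Surjective q)
    (hq0 : LinearMap.ker q = LinearMap.range (d 0))
    (hxP : ∀ i (z : P i), x • z ∈ (I • ⊤ : Submodule A (P i)) → z ∈ (I • ⊤ : Submodule A (P i)))
    (hxM : ∀ m : M, x • m ∈ (I • ⊤ : Submodule A M) → m ∈ (I • ⊤ : Submodule A M))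
    (h : Exk d I) : Exk d (I ⊔ Ideal.span {x}) := by
  intro i z hz
  obtain ⟨a, ha, w, hw⟩ := (mem_sup_span I x).1 hz
  have key : ∃ v, ∃ b ∈ (I • ⊤ : Submodule A (P i)), d i v + b = w := by
    cases i with
    | zero =>
      have hqd : q (d 0 z) = 0 := hq0.ge (LinearMap.mem_range_self _ z)
      have hm : q w ∈ (I • ⊤ : Submodule A M) := hxM _ (by
        have h1 : x • q w = - q a := by
          rw [← hw, map_add, map_smul, add_comm] at hqd
          exact eq_neg_of_add_eq_zero_left hqd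
        rw [h1]
        exact Submodule.neg_mem _ (smul_mem_map I q ha))
      rw [← LinearMap.range_eq_top.2 hq, ← Submodule.map_top, ← Submodule.map_smul''] at hm
      obtain ⟨b, hb, hbw⟩ := hm
      obtain ⟨v, hv⟩ := hq0.le (show w - b ∈ LinearMap.ker q by rw [LinearMap.mem_ker, map_sub, hbw, sub_self])
      exact ⟨v, b, hb, by rw [hv, sub_add_cancel]⟩
    | succ j =>
      have h1 : x • d j w = - d j a := by
        have h2 := hdd j z
        rw [← hw, map_add, map_smul, add_comm] at h2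
        exact eq_neg_of_add_eq_zero_left h2
      have h3 := h j w (hxP j _ (by rw [h1]; exact Submodule.neg_mem _ (smul_mem_map I (d j) ha)))
      obtain ⟨_, ⟨v, rfl⟩, b, hb, hvb⟩ := Submodule.mem_sup.1 h3
      exact ⟨v, b, hb, hvb⟩
  obtain ⟨v, b, hb, hvb⟩ := key
  have h4 : d i (z - x • v) ∈ (I • ⊤ : Submodule A (P i)) := by
    rw [map_sub, map_smul, ← hw, ← hvb, smul_add, show a + (x • d i v + x • b) - x • d i v = a + x • b by abel]
    exact Submodule.add_mem _ ha (Submodule.smul_mem _ _ hb)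
  obtain ⟨r, hr, c, hc, hrc⟩ := Submodule.mem_sup.1 (h i _ h4)
  exact Submodule.mem_sup.2 ⟨r, hr, c + x • v, (mem_sup_span I x).2 ⟨c, hc, v, rfl⟩,
    by rw [← add_assoc, hrc, sub_add_cancel]⟩

theorem exk_descend [IsNoetherianRing A] [∀ i, Module.Finite A (P i)] (I : Ideal A) (x : A)
    (hx : x ∈ Ideal.jacobson (⊥ : Ideal A)) (hdd : ∀ i z, d i (d (i + 1) z) = 0) (hq : Surjective q)
    (hq0 : LinearMap.ker q = LinearMap.range (d 0))
    (hxP : ∀ i (z : P i), x • z ∈ (I • ⊤ : Submodule A (P i)) → z ∈ (I • ⊤ : Submodule A (P i)))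
    (h : Exk d (I ⊔ Ideal.span {x})) :
    Exk d I ∧ ∀ m : M, x • m ∈ (I • ⊤ : Submodule A M) → m ∈ (I • ⊤ : Submodule A M) := by
  have hex : Exk d I := by
    intro i
    let B : Submodule A (P (i + 1)) := LinearMap.range (d (i + 1)) ⊔ (I • ⊤ : Submodule A (P (i + 1)))
    let Z : Submodule A (P (i + 1)) := (I • ⊤ : Submodule A (P i)).comap (d i)
    have hZ : Z ≤ B ⊔ Ideal.span {x} • Z := by
      intro z hz
      obtain ⟨_, ⟨v, rfl⟩, c, hc, hvc⟩ := Submodule.mem_sup.1 (h i z ((mem_sup_span I x).2 ⟨d i z, hz, 0, by rw [smul_zero, add_zero]⟩))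
      obtain ⟨a, ha, w, rfl⟩ := (mem_sup_span I x).1 hc
      have hw : w ∈ Z := hxP i _ (by
        have h1 : x • d i w = d i z - d i a := by
          rw [← hvc, map_add, hdd, map_add, map_smul, zero_add, add_sub_cancel_left]
        rw [h1]
        exact Submodule.sub_mem _ hz (smul_mem_map I (d i) ha))
      rw [← hvc, ← add_assoc]
      exact Submodule.add_mem_sup (Submodule.add_mem_sup ⟨v, rfl⟩ ha)
        (Submodule.smul_mem_smul (Ideal.mem_span_singleton_self x) hw)
    exact fun z hz => Submodule.le_of_le_smul_of_le_jacobson_bot (IsNoetherian.noetherian Z)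
      ((Ideal.span_singleton_le_iff_mem _).2 hx) hZ hz
  refine ⟨hex, fun m hm => ?_⟩
  obtain ⟨w, rfl⟩ := hq m
  rw [← map_smul, ← LinearMap.range_eq_top.2 hq, ← Submodule.map_top, ← Submodule.map_smul''] at hm
  obtain ⟨a, ha, haw⟩ := hm
  obtain ⟨y, hy⟩ := hq0.le (show x • w - a ∈ LinearMap.ker q by rw [LinearMap.mem_ker, map_sub, haw, sub_self])
  have hy' : d 0 y ∈ ((I ⊔ Ideal.span {x}) • ⊤ : Submodule A (P 0)) :=
    (mem_sup_span I x).2 ⟨-a, Submodule.neg_mem _ ha, w, by rw [hy]; abel⟩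
  obtain ⟨_, ⟨v, rfl⟩, c, hc, hvc⟩ := Submodule.mem_sup.1 (h 0 y hy')
  obtain ⟨b, hb, u, rfl⟩ := (mem_sup_span I x).1 hc
  have hwu : w - d 0 u ∈ (I • ⊤ : Submodule A (P 0)) := hxP 0 _ (by
    have h1 : x • (w - d 0 u) = a + d 0 b := by
      have h2 : d 0 y = d 0 b + x • d 0 u := by rw [← hvc, map_add, hdd, map_add, map_smul, zero_add]
      rw [smul_sub, eq_add_of_sub_eq' hy.symm, h2]; abel
    rw [h1]
    exact Submodule.add_mem _ ha (smul_mem_map I (d 0) hb))
  have hqu : q (d 0 u) = 0 := hq0.ge (LinearMap.mem_range_self _ u)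
  have := smul_mem_map I q hwu
  rwa [map_sub, hqu, sub_zero] at this

end

section
open TensorProduct
variable {A : Type u} [CommRing A]

theorem mk_eq_zero_iff (I : Ideal A) {N : Type u} [AddCommGroup N] [Module A N] (z : N) :
    (1 : A ⧸ I) ⊗ₜ[A] z = 0 ↔ z ∈ (I • ⊤ : Submodule A N) := by
  have h : TensorProduct.quotTensorEquivQuotSMul N I ((1 : A ⧸ I) ⊗ₜ[A] z) = Submodule.Quotient.mk z := by
    rw [show (1 : A ⧸ I) = Ideal.Quotient.mk I 1 from rfl, TensorProduct.quotTensorEquivQuotSMul_mk_tmul, one_smul]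
  rw [← Submodule.Quotient.mk_eq_zero, ← h, LinearEquiv.map_eq_zero_iff]

theorem exists_mk (I : Ideal A) {N : Type u} [AddCommGroup N] [Module A N] (t : (A ⧸ I) ⊗[A] N) :
    ∃ z : N, (1 : A ⧸ I) ⊗ₜ[A] z = t := by
  induction t with
  | zero => exact ⟨0, tmul_zero _ _⟩
  | tmul r z =>
    obtain ⟨r, rfl⟩ := Ideal.Quotient.mk_surjective r
    exact ⟨r • z, by rw [← smul_tmul, Algebra.smul_def, mul_one]; rfl⟩
  | add a b ha hb =>
    obtain ⟨z, rfl⟩ := ha; obtain ⟨w, rfl⟩ := hb
    exact ⟨z + w, tmul_add _ _ _⟩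

theorem isZero_tor_iff {M : Type u} [AddCommGroup M] [Module A M] (Pr : ProjectiveResolution (ModuleCat.of A M))
    (I : Ideal A) :
    (∀ i : ℕ, 1 ≤ i → IsZero (((Tor (ModuleCat.{u} A) i).obj (ModuleCat.of A (A ⧸ I))).obj (ModuleCat.of A M))) ↔
      Exk (P := fun i => Pr.complex.X i) (fun i => (Pr.complex.d (i + 1) i).hom) I := by
  let F₁ := (MonoidalCategory.tensoringLeft (ModuleCat.{u} A)).obj (ModuleCat.of A (A ⧸ I))
  have key : ∀ i : ℕ, IsZero (((Tor (ModuleCat.{u} A) (i + 1)).obj (ModuleCat.of A (A ⧸ I))).obj (ModuleCat.of A M)) ↔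
      LinearMap.range ((Pr.complex.d (i + 2) (i + 1)).hom.lTensor (A ⧸ I)) =
        LinearMap.ker ((Pr.complex.d (i + 1) i).hom.lTensor (A ⧸ I)) := by
    intro i
    have e := Pr.isoLeftDerivedObj F₁ (i + 1)
    rw [show ((Tor (ModuleCat.{u} A) (i + 1)).obj (ModuleCat.of A (A ⧸ I))).obj (ModuleCat.of A M) =
        (F₁.leftDerived (i + 1)).obj (ModuleCat.of A M) from rfl, Iso.isZero_iff e,
      HomologicalComplex.homologyFunctor_obj, ← HomologicalComplex.exactAt_iff_isZero_homology,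
      HomologicalComplex.exactAt_iff' _ (i + 2) (i + 1) i (by simp) (by simp), ShortComplex.moduleCat_exact_iff_range_eq_ker]
    rfl
  have hdd : ∀ i z, (Pr.complex.d (i + 1) i).hom ((Pr.complex.d (i + 2) (i + 1)).hom z) = 0 := fun i z =>
    LinearMap.congr_fun (congrArg ModuleCat.Hom.hom (Pr.complex.d_comp_d (i + 2) (i + 1) i)) z
  constructor
  · intro h i z hz
    have hk : (1 : A ⧸ I) ⊗ₜ[A] z ∈ LinearMap.ker ((Pr.complex.d (i + 1) i).hom.lTensor (A ⧸ I)) := by
      rw [LinearMap.mem_ker, LinearMap.lTensor_tmul, mk_eq_zero_iff]; exact hz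
    rw [← (key i).1 (h (i + 1) (by omega))] at hk
    obtain ⟨t, ht⟩ := hk
    obtain ⟨v, rfl⟩ := exists_mk I t
    rw [LinearMap.lTensor_tmul, ← sub_eq_zero, ← tmul_sub, mk_eq_zero_iff] at ht
    exact Submodule.mem_sup.2 ⟨_, LinearMap.mem_range_self _ v, _, Submodule.neg_mem _ ht,
      by rw [neg_sub, add_sub_cancel]⟩
  · intro h i hi
    obtain ⟨i, rfl⟩ : ∃ j, i = j + 1 := ⟨i - 1, by omega⟩
    refine (key i).2 (le_antisymm ?_ ?_)
    · rintro _ ⟨t, rfl⟩
      obtain ⟨v, rfl⟩ := exists_mk I t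
      rw [LinearMap.mem_ker, LinearMap.lTensor_tmul, LinearMap.lTensor_tmul, hdd, tmul_zero]
    · intro t ht
      obtain ⟨z, rfl⟩ := exists_mk I t
      rw [LinearMap.mem_ker, LinearMap.lTensor_tmul, mk_eq_zero_iff] at ht
      obtain ⟨_, ⟨v, rfl⟩, c, hc, hvc⟩ := Submodule.mem_sup.1 (h i z ht)
      refine ⟨(1 : A ⧸ I) ⊗ₜ[A] v, ?_⟩
      rw [LinearMap.lTensor_tmul, ← hvc, tmul_add, (mk_eq_zero_iff I c).2 hc, add_zero]

end

end Groth.Agent.CommAlg4.TorRegular
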