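import Groth.Agent.CommAlg4.Decaying
import Mathlib.RingTheory.AdicCompletion.Noetherian
import Mathlib.RingTheory.Filtration
import Mathlib.RingTheory.Flat.Tensor
import Mathlib.LinearAlgebra.TensorProduct.Pi

/-!
Decaying functions over a complete Noetherian ring: tensor products and flatness.
-/

set_option linter.all false
set_option autoImplicit false
universe u v w

noncomputable section

open W4c5adicflatcompl
open scoped TensorProduct

namespace Groth.Agent.CommAlg4

theorem decaying_sub_iff {A : Type u} [CommRing A] [IsNoetherianRing A] (I : Ideal A)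
    (Z : Type v) {M : Type w} [AddCommGroup M] [Module A M]
    [Module.Finite A M] (N : Submodule A M) (f : Z → N) :
    f ∈ decaying I Z N ↔ (fun z => (f z : M)) ∈ decaying I Z M := by
  refine ⟨fun h n => (h n).subset fun z hz hm => hz (map_mem_pow N.subtype hm), fun h n => ?_⟩
  obtain ⟨k, hk⟩ := Ideal.exists_pow_inf_eq_pow_smul I N
  refine (h (n + k)).subset fun z hz hm => hz ?_
  have h1 : (f z : M) ∈ (I ^ (n + k) • ⊤ ⊓ N : Submodule A M) := ⟨hm, (f z).2⟩
  rw [hk (n + k) le_add_self, Nat.add_sub_cancel] at h1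
  have h2 : (f z : M) ∈ (I ^ n • N : Submodule A M) := Submodule.smul_mono le_rfl inf_le_right h1
  have h3 : (I ^ n • N : Submodule A M) = Submodule.map N.subtype (I ^ n • ⊤) := by
    rw [Submodule.map_smul'', Submodule.map_subtype_top]
  rw [h3] at h2
  obtain ⟨y, hy, hy'⟩ := h2
  exact Subtype.ext hy' ▸ hy

theorem decaying_tensor {A : Type u} [CommRing A] [IsNoetherianRing A] (I : Ideal A)
    [IsAdicComplete I A] (Z : Type v) (M : Type w) [AddCommGroup M] [Module A M]
    [Module.Finite A M] :
    Function.Injective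
        ((TensorProduct.piScalarRightHom A A M Z) ∘ₗ ((decaying I Z A).subtype.lTensor M)) ∧
      LinearMap.range
        ((TensorProduct.piScalarRightHom A A M Z) ∘ₗ ((decaying I Z A).subtype.lTensor M)) =
        decaying I Z M := by
  classical
  set Φ := (TensorProduct.piScalarRightHom A A M Z) ∘ₗ ((decaying I Z A).subtype.lTensor M) with hΦ
  have hΦt : ∀ (m : M) (g : decaying I Z A) z, Φ (m ⊗ₜ[A] g) z = (g : Z → A) z • m := by
    intro m g z; simp [hΦ]
  obtain ⟨k, φ, hφ⟩ := Module.Finite.exists_fin' A M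
  let e : Fin k → M := fun i => φ (Pi.single i 1)
  have hφe : ∀ c : Fin k → A, φ c = ∑ i, c i • e i := by
    intro c
    conv_lhs => rw [← Finset.univ_sum_single c]
    simp only [map_sum, e]
    refine Finset.sum_congr rfl fun i _ => ?_
    rw [← map_smul, ← Pi.single_smul, smul_eq_mul, mul_one]
  have hrep : ∀ t : M ⊗[A] decaying I Z A, ∃ g : Fin k → decaying I Z A, t = ∑ i, e i ⊗ₜ[A] g i := by
    intro t
    induction t using TensorProduct.induction_on with
    | zero => exact ⟨0, by simp⟩
    | tmul m d =>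
      obtain ⟨c, rfl⟩ := hφ m
      exact ⟨fun i => c i • d, by simp [hφe, TensorProduct.sum_tmul, TensorProduct.smul_tmul]⟩
    | add x y hx hy =>
      obtain ⟨a, rfl⟩ := hx; obtain ⟨b, rfl⟩ := hy
      exact ⟨a + b, by simp [TensorProduct.tmul_add, Finset.sum_add_distrib]⟩
  have hval : ∀ (g : Fin k → decaying I Z A) z, Φ (∑ i, e i ⊗ₜ[A] g i) z = φ (fun i => (g i : Z → A) z) := by
    intro g z; simp only [map_sum, Finset.sum_apply, hΦt, hφe]
  haveI hH : ∀ (N : Submodule A (Fin k → A)), IsHausdorff I N := fun N =>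
    IsHausdorff.of_le_jacobson I N (IsAdicComplete.le_jacobson_bot I)
  haveI : IsHausdorff I M := IsHausdorff.of_le_jacobson I M (IsAdicComplete.le_jacobson_bot I)
  refine ⟨?_, le_antisymm ?_ ?_⟩
  · rw [← LinearMap.ker_eq_bot, LinearMap.ker_eq_bot']
    intro t ht
    obtain ⟨g, rfl⟩ := hrep t
    have hker : ∀ z, (fun i => (g i : Z → A) z) ∈ LinearMap.ker φ := fun z => by
      rw [LinearMap.mem_ker, ← hval, ht]; rfl
    have hdec : (fun z => (⟨_, hker z⟩ : LinearMap.ker φ)) ∈ decaying I Z (LinearMap.ker φ) := by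
      rw [decaying_sub_iff]
      intro n
      refine (Set.finite_iUnion fun i => (g i).2 n).subset fun z hz => ?_
      by_contra hnot
      simp only [Set.mem_iUnion, not_exists, Set.mem_ofPred_eq, not_not] at hnot
      refine hz ?_
      show (fun i => (g i : Z → A) z) ∈ (I ^ n • ⊤ : Submodule A (Fin k → A))
      rw [← Finset.univ_sum_single (fun i => (g i : Z → A) z)]
      exact sum_mem fun i _ => map_mem_pow (LinearMap.single A (fun _ : Fin k => A) i) (hnot i)
    obtain ⟨r, ψ, hψ⟩ := Module.Finite.exists_fin' A (LinearMap.ker φ)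
    obtain ⟨h, hh, hh'⟩ := exists_decaying_lift ψ hψ _ hdec
    let H : Fin r → decaying I Z A := fun j => decayingMap (LinearMap.proj j) (⟨h, hh⟩ : decaying I Z (Fin r → A))
    let Q : Fin r → Fin k → A := fun j => (ψ (Pi.single j 1) : Fin k → A)
    have hg : ∀ i, g i = ∑ j, Q j i • H j := by
      intro i
      apply Subtype.ext; funext z
      have := congrFun (congrArg (Subtype.val : LinearMap.ker φ → Fin k → A) (hh' z)) i
      rw [← this, ← Finset.univ_sum_single (h z), map_sum, AddSubmonoidClass.coe_finsetSum, Finset.sum_apply,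
        AddSubmonoidClass.coe_finsetSum, Finset.sum_apply]
      refine Finset.sum_congr rfl fun j _ => ?_
      have : Pi.single j (h z j) = h z j • (Pi.single j (1 : A) : Fin r → A) := by
        rw [← Pi.single_smul, smul_eq_mul, mul_one]
      rw [this, map_smul]
      simp [Q, H, mul_comm]
    calc (∑ i, e i ⊗ₜ[A] g i) = ∑ j, φ (Q j) ⊗ₜ[A] H j := by
          simp only [hg, hφe, TensorProduct.tmul_sum, TensorProduct.sum_tmul, TensorProduct.smul_tmul]
          exact Finset.sum_comm
      _ = 0 := Finset.sum_eq_zero fun j _ => by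
          rw [LinearMap.mem_ker.mp (ψ (Pi.single j 1)).2, TensorProduct.zero_tmul]
  · rintro _ ⟨t, rfl⟩
    obtain ⟨g, rfl⟩ := hrep t
    rw [map_sum]
    refine sum_mem fun i _ => fun n => ((g i).2 n).subset fun z hz h => hz ?_
    rw [hΦt]
    exact map_mem_pow (LinearMap.toSpanSingleton A M (e i)) h
  · intro f hf
    obtain ⟨h, hh, hh'⟩ := exists_decaying_lift φ hφ f hf
    refine ⟨∑ i, e i ⊗ₜ[A] decayingMap (LinearMap.proj i) (⟨h, hh⟩ : decaying I Z (Fin k → A)), funext fun z => ?_⟩
    rw [hval, ← hh' z]; rfl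

theorem flat_decaying {A : Type u} [CommRing A] [IsNoetherianRing A]
    (I : Ideal A) [IsAdicComplete I A] (Z : Type v) :
    Module.Flat A (decaying I Z A) := by
  rw [Module.Flat.iff_rTensor_injective']
  intro J
  have h := (decaying_tensor I Z J).1
  have key : (LinearMap.compLeft J.subtype Z) ∘ₗ ((TensorProduct.piScalarRightHom A A J Z) ∘ₗ (decaying I Z A).subtype.lTensor J)
      = (decaying I Z A).subtype ∘ₗ (TensorProduct.lid A (decaying I Z A)).toLinearMap ∘ₗ (Submodule.subtype J).rTensor (decaying I Z A) := by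
    refine TensorProduct.ext' fun j g => funext fun z => ?_
    simp [mul_comm]
  have h2 : Function.Injective (⇑((LinearMap.compLeft J.subtype Z) ∘ₗ ((TensorProduct.piScalarRightHom A A J Z) ∘ₗ (decaying I Z A).subtype.lTensor J))) :=
    fun a b hab => h (funext fun z => Subtype.ext (congrFun hab z))
  rw [key] at h2
  exact (Function.Injective.of_comp (f := fun x => ((TensorProduct.lid A (decaying I Z A)) x : Z → A)) h2)

end Groth.Agent.CommAlg4
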