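import Groth.Agent.CommAlg4.Decaying
import Mathlib.RingTheory.Ideal.Operations

/-!
A spanning family modulo `I` gives decaying expansions.
-/

set_option linter.all false
set_option autoImplicit false
universe u v w

noncomputable section

open W4c5adicflatcompl

namespace Groth.Agent.CommAlg4

theorem exists_scalarSum_eq {A : Type u} [CommRing A] {I : Ideal A} [IsAdicComplete I A]
    {M : Type v} [AddCommGroup M] [Module A M] [IsAdicComplete I M] {Z : Type w} (m : Z → M)
    (h : Submodule.span A (Set.range m) ⊔ I • ⊤ = ⊤) (x : M) :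
    ∃ g : decaying I Z A, scalarSum I m g = x := by
  classical
  have step : ∀ n (r : M), r ∈ (I ^ n • ⊤ : Submodule A M) → ∃ c : Z →₀ A, (∀ z, c z ∈ I ^ n) ∧
      r - c.sum (fun z a => a • m z) ∈ (I ^ (n+1) • ⊤ : Submodule A M) := by
    intro n r hr
    rw [← h, Submodule.smul_sup, ← mul_smul, ← pow_succ, Submodule.mem_sup] at hr
    obtain ⟨p, hp, q, hq, rfl⟩ := hr
    obtain ⟨c, hc, rfl⟩ := (Submodule.mem_ideal_smul_span_iff_exists_sum _ _ _).mp hp
    exact ⟨c, hc, by simpa using hq⟩
  choose c hc hc' using step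
  let r : ∀ n : ℕ, {r : M // r ∈ (I ^ n • ⊤ : Submodule A M)} := fun n =>
    Nat.rec ⟨x, by simp⟩ (fun n p => ⟨p.1 - (c n p.1 p.2).sum (fun z a => a • m z), hc' n p.1 p.2⟩) n
  let cn : ℕ → Z →₀ A := fun n => c n (r n).1 (r n).2
  let s : ℕ → Z →₀ A := fun n => ∑ k ∈ Finset.range n, cn k
  have hs : ∀ n, x - (s n).sum (fun z a => a • m z) = (r n).1 := by
    intro n; induction n with
    | zero => simp [s, r]
    | succ n ih =>
      simp only [s] at ih ⊢
      rw [Finset.sum_range_succ, Finsupp.sum_add_index' (by simp) (by simp [add_smul]), ← sub_sub, ih]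
  have hcauchy : ∀ z a b, a ≤ b → s b z - s a z ∈ (I ^ a • ⊤ : Submodule A A) := by
    intro z a b hab
    simp only [s, Finsupp.coe_finsetSum, Finset.sum_apply]
    rw [← Finset.sum_range_add_sum_Ico _ hab, add_sub_cancel_left, smul_eq_mul, Ideal.mul_top]
    exact sum_mem fun k hk => Ideal.pow_le_pow_right (Finset.mem_Ico.mp hk).1 (hc _ _ _ z)
  have hlim : ∀ z, ∃ L : A, ∀ n, s n z - L ∈ (I ^ n • ⊤ : Submodule A A) := by
    intro z
    obtain ⟨L, hL⟩ := IsPrecomplete.prec (I := I) (M := A) inferInstance (f := fun n => s n z)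
      (fun {a b} hab => SModEq.sub_mem.mpr (by rw [← neg_sub]; exact neg_mem (hcauchy z a b hab)))
    exact ⟨L, fun n => SModEq.sub_mem.mp (hL n)⟩
  choose g hg using hlim
  have hgd : g ∈ decaying I Z A := fun n => (s n).support.finite_toSet.subset fun z hz => by
    by_contra h0
    simp only [Finset.mem_coe, Finsupp.mem_support_iff, not_not] at h0
    have := hg z n
    rw [h0, zero_sub] at this
    exact hz ((Submodule.neg_mem_iff _).mp this)
  refine ⟨⟨g, hgd⟩, (IsHausdorff.eq_iff_smodEq (I := I)).mpr fun n => SModEq.sub_mem.mpr ?_⟩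
  have hS : ∀ z, z ∉ (s n).support → g z • m z ∈ (I ^ n • ⊤ : Submodule A M) := fun z hz => by
    have := hg z n
    rw [Finsupp.notMem_support_iff.mp hz, zero_sub, Submodule.neg_mem_iff] at this
    exact map_mem_pow (LinearMap.toSpanSingleton A M (m z)) this
  have h1 := scalarSum_sub_mem m (⟨g, hgd⟩ : decaying I Z A) n _ hS
  have h2 : (∑ z ∈ (s n).support, g z • m z) - (s n).sum (fun z a => a • m z) ∈ (I ^ n • ⊤ : Submodule A M) := by
    rw [Finsupp.sum, ← Finset.sum_sub_distrib]
    refine sum_mem fun z _ => ?_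
    rw [← sub_smul]
    exact map_mem_pow (LinearMap.toSpanSingleton A M (m z)) (x := g z - s n z) (neg_sub (s n z) (g z) ▸ neg_mem (hg z n))
  have h3 := sub_mem (add_mem h1 h2) ((hs n).symm ▸ (r n).2)
  simpa [Subtype.coe_mk] using h3

end Groth.Agent.CommAlg4
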