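import Groth.Prelude.Def_DeltaF
import Mathlib.CategoryTheory.Abelian.CommSq

/-! Effaceable cohomological delta functors are universal. -/

set_option autoImplicit false
set_option linter.all false

universe v u v' u'

open CategoryTheory CategoryTheory.Limits DeltaF

namespace Groth.Agent.CommAlg4.DeltaUniversal

variable {A : Type u} [Category.{v} A] [Abelian A] {B : Type u'} [Category.{v'} B] [Abelian B]
  {T T' : CohDeltaFunctor A B ℕ}

/-- The short exact sequence of a monomorphism. -/
noncomputable abbrev ses {X Y : A} (w : X ⟶ Y) : ShortComplex A :=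
  ShortComplex.mk w (cokernel.π w) (cokernel.condition w)

theorem ses_shortExact {X Y : A} (w : X ⟶ Y) [Mono w] : (ses w).ShortExact :=
  ShortComplex.ShortExact.mk' (ShortComplex.exact_of_g_is_cokernel _ (cokernelIsCokernel w))
    (inferInstanceAs (Mono w)) (inferInstanceAs (Epi (cokernel.π w)))

theorem epi_δ (T : CohDeltaFunctor A B ℕ) (S : ShortComplex A) (hS : S.ShortExact) (n : ℕ)
    (h : (T.F (n + 1)).map S.f = 0) : Epi (T.δ S hS n (n + 1) rfl) :=
  (T.exact₁ S hS n (n + 1) rfl).epi_f h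

variable {n : ℕ} (t : T.F n ⟶ T'.F n)

theorem exists_desc {X Y : A} (w : X ⟶ Y) [Mono w] (h : (T.F (n + 1)).map w = 0) :
    ∃ τ : (T.F (n + 1)).obj X ⟶ (T'.F (n + 1)).obj X,
      T.δ (ses w) (ses_shortExact w) n (n + 1) rfl ≫ τ =
        t.app (ses w).X₃ ≫ T'.δ (ses w) (ses_shortExact w) n (n + 1) rfl := by
  have hS := ses_shortExact w
  haveI := epi_δ T (ses w) hS n h
  refine ⟨(T.exact₃ (ses w) hS n (n + 1) rfl).desc (t.app _ ≫ T'.δ (ses w) hS n (n + 1) rfl) ?_,
    (T.exact₃ (ses w) hS n (n + 1) rfl).g_desc _ _⟩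
  show (T.F n).map (ses w).g ≫ _ = 0
  rw [← Category.assoc, t.naturality, Category.assoc, T'.comp_δ, comp_zero]

variable (hT : T.IsEffaceable)
include hT

/-- The step map in the next degree. -/
noncomputable def stepApp (X : A) : (T.F (n + 1)).obj X ⟶ (T'.F (n + 1)).obj X :=
  haveI := (hT n X).choose_spec.choose_spec.1
  (exists_desc t (hT n X).choose_spec.choose (hT n X).choose_spec.choose_spec.2).choose

theorem stepApp_spec (X : A) :
    ∃ (Y : A) (w : X ⟶ Y) (_ : Mono w), (T.F (n + 1)).map w = 0 ∧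
      T.δ (ses w) (ses_shortExact w) n (n + 1) rfl ≫ stepApp t hT X =
        t.app (ses w).X₃ ≫ T'.δ (ses w) (ses_shortExact w) n (n + 1) rfl :=
  haveI := (hT n X).choose_spec.choose_spec.1
  ⟨_, _, inferInstance, (hT n X).choose_spec.choose_spec.2,
    (exists_desc t (hT n X).choose_spec.choose (hT n X).choose_spec.choose_spec.2).choose_spec⟩

/-- The step map is compatible with every short exact sequence and morphism out of its first term. -/
theorem stepApp_comm (S : ShortComplex A) (hS : S.ShortExact) {X' : A} (φ : S.X₁ ⟶ X') :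
    T.δ S hS n (n + 1) rfl ≫ (T.F (n + 1)).map φ ≫ stepApp t hT X' =
      t.app S.X₃ ≫ T'.δ S hS n (n + 1) rfl ≫ (T'.F (n + 1)).map φ := by
  obtain ⟨Y, u, _, hu, hspec⟩ := stepApp_spec t hT X'
  haveI := hS.mono_f
  haveI := hS.epi_g
  haveI : Mono (pushout.inr S.f (φ ≫ u)) := inferInstance
  let w : X' ⟶ pushout S.f (φ ≫ u) := u ≫ pushout.inr S.f (φ ≫ u)
  haveI : Mono w := mono_comp _ _
  have hw : (T.F (n + 1)).map w = 0 := by rw [Functor.map_comp, hu, zero_comp]
  obtain ⟨τ, hτ⟩ := exists_desc t w hw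
  haveI := epi_δ T (ses u) (ses_shortExact u) n hu
  let ψ : ses u ⟶ ses w :=
    ShortComplex.homMk (𝟙 _) (pushout.inr S.f (φ ≫ u))
      (cokernel.map u w (𝟙 _) (pushout.inr S.f (φ ≫ u)) (by simp [w])) (by simp [w]) (by simp)
  have heq : τ = stepApp t hT X' := by
    rw [← cancel_epi (T.δ (ses u) (ses_shortExact u) n (n + 1) rfl), hspec]
    have h1 := T.δ_natural (ses_shortExact u) (ses_shortExact w) ψ n (n + 1) rfl
    have h2 := T'.δ_natural (ses_shortExact u) (ses_shortExact w) ψ n (n + 1) rfl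
    simp only [ψ, ShortComplex.homMk_τ₁, CategoryTheory.Functor.map_id, Category.comp_id] at h1 h2
    rw [← h1, Category.assoc, hτ, ← Category.assoc, t.naturality, Category.assoc, h2]
  subst heq
  obtain ⟨χ, hχ⟩ := CokernelCofork.IsColimit.desc' hS.gIsCokernel
    (pushout.inl S.f (φ ≫ u) ≫ cokernel.π w)
    (by rw [← Category.assoc, pushout.condition, Category.assoc, Category.assoc,
      ← Category.assoc u, cokernel.condition, comp_zero])
  let Φ : S ⟶ ses w := ShortComplex.homMk φ (pushout.inl S.f (φ ≫ u)) χ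
    (by show φ ≫ w = S.f ≫ _; rw [pushout.condition, Category.assoc]) hχ.symm
  have h1 := T.δ_natural hS (ses_shortExact w) Φ n (n + 1) rfl
  have h2 := T'.δ_natural hS (ses_shortExact w) Φ n (n + 1) rfl
  change (T.F n).map χ ≫ _ = T.δ S hS n (n + 1) rfl ≫ (T.F (n + 1)).map φ at h1
  change (T'.F n).map χ ≫ _ = T'.δ S hS n (n + 1) rfl ≫ (T'.F (n + 1)).map φ at h2
  rw [← Category.assoc, ← h1, Category.assoc, hτ, ← h2]
  exact (Category.assoc _ _ _).symm.trans ((congrArg (· ≫ _) (t.naturality χ)).trans (Category.assoc _ _ _))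

/-- The natural transformation in the next degree. -/
noncomputable def step : T.F (n + 1) ⟶ T'.F (n + 1) where
  app := stepApp t hT
  naturality X X' φ := by
    obtain ⟨Y, w, _, hw, hspec⟩ := stepApp_spec t hT X
    haveI := epi_δ T (ses w) (ses_shortExact w) n hw
    rw [← cancel_epi (T.δ (ses w) (ses_shortExact w) n (n + 1) rfl), ← Category.assoc _ (stepApp t hT X),
      hspec, Category.assoc]
    exact stepApp_comm t hT (ses w) (ses_shortExact w) φ

theorem step_comm (S : ShortComplex A) (hS : S.ShortExact) :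
    T.δ S hS n (n + 1) rfl ≫ (step t hT).app S.X₁ = t.app S.X₃ ≫ T'.δ S hS n (n + 1) rfl := by
  simpa [step] using stepApp_comm t hT S hS (𝟙 S.X₁)

omit t in
theorem isUniversal : T.IsUniversal := by
  intro T' t₀
  let app : ∀ n, T.F n ⟶ T'.F n := fun n =>
    Nat.rec (motive := fun n => T.F n ⟶ T'.F n) t₀ (fun m tm => step tm hT) n
  refine ⟨{ app := app, comm := fun S hS n₀ n₁ h => ?_ }, rfl, fun τ hτ => ?_⟩
  · subst h
    exact step_comm (app n₀) hT S hS
  · refine CohDeltaFunctor.hom_ext fun n => ?_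
    induction n with
    | zero => exact hτ
    | succ n ih =>
      ext X
      obtain ⟨Y, u, hu, hu0⟩ := hT n X
      haveI := hu
      haveI := epi_δ T (ses u) (ses_shortExact u) n hu0
      rw [← cancel_epi (T.δ (ses u) (ses_shortExact u) n (n + 1) rfl)]
      refine (τ.comm (ses u) (ses_shortExact u) n (n + 1) rfl).trans ?_
      rw [ih]
      exact (step_comm (app n) hT (ses u) (ses_shortExact u)).symm

end Groth.Agent.CommAlg4.DeltaUniversal
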