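import Mathlib

/-! Row-wise quasi-isomorphisms of bounded below bicomplexes induce quasi-isomorphisms on total complexes. -/
set_option autoImplicit false
set_option linter.style.haveILetI false
set_option linter.unusedSectionVars false
set_option backward.isDefEq.respectTransparency false
universe v u
open CategoryTheory CategoryTheory.Limits HomologicalComplex HomologicalComplex₂

namespace Groth.Agent.CommAlg4.TotalQuasi

local notation "up'" => ComplexShape.up ℤ

variable {A : Type u} [Category.{v} A] [Abelian A]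
variable (K : HomologicalComplex₂ A up' up') [K.HasTotal up']

/-- The projection to a summand of the total complex. -/
noncomputable def proj (n p q : ℤ) : (K.total up').X n ⟶ (K.X p).X q :=
  K.totalDesc fun i j _ => if h : i = p ∧ j = q then (K.XXIsoOfEq _ _ _ h.1 h.2).hom else 0

theorem ι_proj_self (n p q : ℤ) (h : p + q = n) :
    K.ιTotal up' p q n h ≫ proj K n p q = 𝟙 _ := by
  simp [proj]

theorem ι_proj_ne (n i j p q : ℤ) (h : i + j = n) (hne : ¬(i = p ∧ j = q)) :
    K.ιTotal up' i j n h ≫ proj K n p q = 0 := by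
  simp [proj, dif_neg hne]

theorem d_proj (n p' p q' q : ℤ) (hp : p' + 1 = p) (hq : q' + 1 = q) (h : p + q = n + 1) :
    (K.total up').d n (n + 1) ≫ proj K (n + 1) p q =
      proj K n p' q ≫ (K.d p' p).f q +
        ComplexShape.ε₂ up' up' up' (p, q') • (proj K n p q' ≫ (K.X p).d q' q) := by
  refine total.hom_ext up' fun i j hij => ?_
  have hij' : i + j = n := hij
  rw [total_d, Preadditive.add_comp, Preadditive.comp_add, ι_D₁_assoc, ι_D₂_assoc,
    K.d₁_eq up' (i₁' := i + 1) rfl j (n + 1) (show i + 1 + j = n + 1 by omega),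
    K.d₂_eq up' i (i₂' := j + 1) rfl (n + 1) (show i + (j + 1) = n + 1 by omega),
    Preadditive.comp_add, Linear.comp_units_smul]
  simp only [Linear.units_smul_comp, Category.assoc]
  congr 1
  · rw [show ComplexShape.ε₁ up' up' up' (i, j) = 1 from rfl, one_smul]
    by_cases e : i + 1 = p ∧ j = q
    · obtain rfl : i = p' := by omega
      obtain ⟨rfl, rfl⟩ := e
      rw [ι_proj_self, Category.comp_id, ← Category.assoc, ι_proj_self, Category.id_comp]
    · rw [ι_proj_ne K _ _ _ _ _ _ e, comp_zero, ← Category.assoc,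
        ι_proj_ne K _ _ _ _ _ _ (show ¬(i = p' ∧ j = q) by omega), zero_comp]
  · by_cases e : i = p ∧ j + 1 = q
    · obtain rfl : j = q' := by omega
      obtain ⟨rfl, rfl⟩ := e
      rw [ι_proj_self, Category.comp_id, ← Category.assoc, ι_proj_self, Category.id_comp]
    · rw [ι_proj_ne K _ _ _ _ _ _ e, comp_zero, ← Category.assoc,
        ι_proj_ne K _ _ _ _ _ _ (show ¬(i = p ∧ j = q') by omega), zero_comp, smul_zero, smul_zero]

variable {K}

/-- A map into the total complex with vanishing components below row `r`. -/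
def Supp {T : A} {n : ℤ} (x : T ⟶ (K.total up').X n) (r : ℤ) : Prop :=
  ∀ p q : ℤ, p + q = n → q < r → x ≫ proj K n p q = 0

variable (K) in
/-- Vanishing outside a quadrant. -/
def Quad (a b : ℤ) : Prop := ∀ p q : ℤ, p < a ∨ q < b → IsZero ((K.X p).X q)

theorem eq_zero_of_supp {a b : ℤ} (hK : Quad K a b) {T : A} {n r : ℤ} (x : T ⟶ (K.total up').X n)
    (hx : Supp x r) (hr : n - a < r) : x = 0 := by
  have key : 𝟙 ((K.total up').X n) = ∑ p ∈ Finset.Icc a (n - b),
      proj K n p (n - p) ≫ K.ιTotal up' p (n - p) n (show p + (n - p) = n by omega) := by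
    refine total.hom_ext up' fun i j hij => ?_
    have hij' : i + j = n := hij
    by_cases hz : i < a ∨ j < b
    · exact (hK i j hz).eq_of_src _ _
    obtain rfl : j = n - i := by omega
    rw [Category.comp_id, Preadditive.comp_sum, Finset.sum_eq_single i]
    · rw [← Category.assoc, ι_proj_self, Category.id_comp]
    · intro p _ hp
      rw [← Category.assoc, ι_proj_ne K _ _ _ _ _ _ (fun h => hp h.1.symm), zero_comp]
    · intro h
      exact absurd (Finset.mem_Icc.2 ⟨by omega, by omega⟩) h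
  rw [← Category.comp_id x, key, Preadditive.comp_sum]
  refine Finset.sum_eq_zero fun p hp => ?_
  rw [Finset.mem_Icc] at hp
  rw [← Category.assoc, hx p (n - p) (by omega) (by omega), zero_comp]

theorem supp_min {a b : ℤ} (hK : Quad K a b) {T : A} {n : ℤ} (x : T ⟶ (K.total up').X n) :
    Supp x b := fun p q _ hq => (hK p q (Or.inr hq)).eq_of_tgt _ _

variable {L : HomologicalComplex₂ A up' up'} [L.HasTotal up'] (φ : K ⟶ L)

theorem map_proj (n p q : ℤ) :
    (total.map φ up').f n ≫ proj L n p q = proj K n p q ≫ (φ.f p).f q := by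
  refine total.hom_ext up' fun i j hij => ?_
  rw [ιTotal_map_assoc]
  by_cases e : i = p ∧ j = q
  · obtain ⟨rfl, rfl⟩ := e
    rw [ι_proj_self, Category.comp_id, ← Category.assoc, ι_proj_self, Category.id_comp]
  · rw [ι_proj_ne L _ _ _ _ _ _ e, comp_zero, ← Category.assoc, ι_proj_ne K _ _ _ _ _ _ e, zero_comp]

/-- Acyclicity of the cone of a quasi-isomorphism, up to refinements. -/
theorem exists_cone_lift {X Y : CochainComplex A ℤ} (g : X ⟶ Y) [QuasiIso g] {T : A} (l i k : ℤ)
    (hl : l + 1 = i) (hi : i + 1 = k) (x : T ⟶ X.X k) (y : T ⟶ Y.X i)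
    (hx : x ≫ X.d k (k + 1) = 0) (hxy : x ≫ g.f k = y ≫ Y.d i k) :
    ∃ (T' : A) (π : T' ⟶ T) (_ : Epi π) (w : T' ⟶ X.X i) (v : T' ⟶ Y.X l),
      π ≫ x = w ≫ X.d i k ∧ π ≫ y = w ≫ g.f i + v ≫ Y.d l i := by
  subst hi hl
  have hm : Mono (homologyMap g (l + 1 + 1)) := inferInstance
  have he : Epi (homologyMap g (l + 1)) := inferInstance
  obtain ⟨T₁, π₁, hπ₁, w₀, hw₀⟩ := (mono_homologyMap_iff_up_to_refinements g (l + 1) (l + 1 + 1)
    (l + 1 + 1 + 1) (by simp) (by simp)).1 hm x hx y hxy
  have hc : (π₁ ≫ y - w₀ ≫ g.f (l + 1)) ≫ Y.d (l + 1) (l + 1 + 1) = 0 := by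
    rw [Preadditive.sub_comp, Category.assoc, ← hxy, Category.assoc, g.comm, ← Category.assoc, hw₀,
      Category.assoc, sub_self]
  obtain ⟨T₂, π₂, hπ₂, x₁, hx₁, v, hv⟩ := (epi_homologyMap_iff_up_to_refinements g l (l + 1)
    (l + 1 + 1) (by simp) (by simp)).1 he _ hc
  refine ⟨T₂, π₂ ≫ π₁, inferInstance, π₂ ≫ w₀ + x₁, v, ?_, ?_⟩
  · rw [Preadditive.add_comp, hx₁, add_zero, Category.assoc, Category.assoc, hw₀]
  · rw [Preadditive.comp_sub, sub_eq_iff_eq_add] at hv
    rw [Preadditive.add_comp, Category.assoc, Category.assoc, hv]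
    abel

/-- The cone of the total map is acyclic, up to refinements. -/
theorem exists_total_lift {a b : ℤ} (hK : Quad K a b) (hL : Quad L a b)
    (hrow : ∀ q : ℤ, QuasiIso (((HomologicalComplex.eval A up' q).mapHomologicalComplex up').map φ))
    (k : ℕ) : ∀ (n r : ℤ), n + 3 - a - r ≤ k → ∀ ⦃T : A⦄ (x : T ⟶ (K.total up').X (n + 1 + 1))
    (y : T ⟶ (L.total up').X (n + 1)), x ≫ (K.total up').d (n + 1 + 1) (n + 1 + 1 + 1) = 0 →
    x ≫ (total.map φ up').f (n + 1 + 1) = y ≫ (L.total up').d (n + 1) (n + 1 + 1) →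
    Supp x r → Supp y r →
    ∃ (T' : A) (π : T' ⟶ T) (_ : Epi π) (w : T' ⟶ (K.total up').X (n + 1))
      (v : T' ⟶ (L.total up').X n), π ≫ x = w ≫ (K.total up').d (n + 1) (n + 1 + 1) ∧
        π ≫ y = w ≫ (total.map φ up').f (n + 1) + v ≫ (L.total up').d n (n + 1) := by
  induction k with
  | zero =>
    intro n r hr T x y _ _ hx hy
    refine ⟨T, 𝟙 T, inferInstance, 0, 0, ?_, ?_⟩
    · rw [eq_zero_of_supp hK x hx (by push_cast at hr; omega)]; simp
    · rw [eq_zero_of_supp hL y hy (by push_cast at hr; omega)]; simp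
  | succ k ih =>
    intro n r hr T x y hxd hxy hx hy
    obtain ⟨p, hp⟩ : ∃ p, p + r = n := ⟨n - r, by omega⟩
    let gK := ((HomologicalComplex.eval A up' r).mapHomologicalComplex up').obj K
    let x₀ : T ⟶ (K.X (p + 1 + 1)).X r := x ≫ proj K (n + 1 + 1) (p + 1 + 1) r
    let y₀ : T ⟶ (L.X (p + 1)).X r := y ≫ proj L (n + 1) (p + 1) r
    have hx₀ : x₀ ≫ (K.d (p + 1 + 1) (p + 1 + 1 + 1)).f r = 0 := by
      have := hxd =≫ proj K (n + 1 + 1 + 1) (p + 1 + 1 + 1) r
      rw [Category.assoc, zero_comp, d_proj K (n + 1 + 1) (p + 1 + 1) (p + 1 + 1 + 1) (r - 1) r rfl (by omega)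
        (by omega), Preadditive.comp_add, Linear.comp_units_smul, ← Category.assoc, ← Category.assoc,
        hx (p + 1 + 1 + 1) (r - 1) (by omega) (by omega), zero_comp, smul_zero, add_zero] at this
      exact this
    have hxy₀ : x₀ ≫ (φ.f (p + 1 + 1)).f r = y₀ ≫ (L.d (p + 1) (p + 1 + 1)).f r := by
      have := hxy =≫ proj L (n + 1 + 1) (p + 1 + 1) r
      rw [Category.assoc, map_proj, Category.assoc, d_proj L (n + 1) (p + 1) (p + 1 + 1) (r - 1) r rfl
        (by omega) (by omega), Preadditive.comp_add, Linear.comp_units_smul,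
        ← Category.assoc y (proj L (n + 1) (p + 1 + 1) (r - 1)),
        hy (p + 1 + 1) (r - 1) (by omega) (by omega), zero_comp, smul_zero, add_zero] at this
      simpa [x₀, y₀] using this
    haveI := hrow r
    obtain ⟨T₁, π₁, hπ₁, w₀, v₀, hw₀, hv₀⟩ := exists_cone_lift
      (((HomologicalComplex.eval A up' r).mapHomologicalComplex up').map φ) p (p + 1) (p + 1 + 1) rfl rfl
      x₀ y₀ hx₀ hxy₀
    change π₁ ≫ x₀ = w₀ ≫ (K.d (p + 1) (p + 1 + 1)).f r at hw₀
    change π₁ ≫ y₀ = w₀ ≫ (φ.f (p + 1)).f r + v₀ ≫ (L.d p (p + 1)).f r at hv₀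
    let w : T₁ ⟶ (K.total up').X (n + 1) := w₀ ≫ K.ιTotal up' (p + 1) r (n + 1) (show p + 1 + r = n + 1 by omega)
    let v : T₁ ⟶ (L.total up').X n := v₀ ≫ L.ιTotal up' p r n hp
    let x' := π₁ ≫ x - w ≫ (K.total up').d (n + 1) (n + 1 + 1)
    let y' := π₁ ≫ y - w ≫ (total.map φ up').f (n + 1) - v ≫ (L.total up').d n (n + 1)
    have hwp : ∀ i j, ¬(p + 1 = i ∧ r = j) → w ≫ proj K (n + 1) i j = 0 := fun i j h => by
      simp only [w, Category.assoc, ι_proj_ne K _ _ _ _ _ _ h, comp_zero]
    have hvp : ∀ i j, ¬(p = i ∧ r = j) → v ≫ proj L n i j = 0 := fun i j h => by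
      simp only [v, Category.assoc, ι_proj_ne L _ _ _ _ _ _ h, comp_zero]
    have hx' : Supp x' (r + 1) := by
      intro i j hij hj
      simp only [x', Preadditive.sub_comp, Category.assoc]
      rw [d_proj K (n + 1) (i - 1) i (j - 1) j (by omega) (by omega) hij, Preadditive.comp_add,
        Linear.comp_units_smul, ← Category.assoc w (proj K (n + 1) i (j - 1)),
        hwp i (j - 1) (by omega), zero_comp, smul_zero, add_zero]
      by_cases hjr : j = r
      · subst hjr
        obtain rfl : i = p + 1 + 1 := by omega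
        rw [show p + 1 + 1 - 1 = p + 1 by omega]
        simp only [w, Category.assoc]
        rw [reassoc_of% ι_proj_self]
        exact sub_eq_zero.2 hw₀
      · rw [hx i j hij (by omega), comp_zero, ← Category.assoc w, hwp (i - 1) j (by omega), zero_comp, sub_zero]
    have hy' : Supp y' (r + 1) := by
      intro i j hij hj
      simp only [y', Preadditive.sub_comp, Category.assoc]
      rw [map_proj, d_proj L n (i - 1) i (j - 1) j (by omega) (by omega) hij, Preadditive.comp_add,
        Linear.comp_units_smul, ← Category.assoc v (proj L n i (j - 1)),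
        hvp i (j - 1) (by omega), zero_comp, smul_zero, add_zero]
      by_cases hjr : j = r
      · subst hjr
        obtain rfl : i = p + 1 := by omega
        rw [show p + 1 - 1 = p by omega]
        simp only [w, v, Category.assoc]
        rw [reassoc_of% ι_proj_self, reassoc_of% ι_proj_self]
        rw [sub_sub, sub_eq_zero]
        exact hv₀
      · rw [hy i j hij (by omega), comp_zero, ← Category.assoc w, hwp i j (by omega), zero_comp,
          ← Category.assoc v, hvp (i - 1) j (by omega), zero_comp, sub_zero, sub_zero]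
    have hxd' : x' ≫ (K.total up').d (n + 1 + 1) (n + 1 + 1 + 1) = 0 := by
      simp [x', Preadditive.sub_comp, hxd]
    have hxy' : x' ≫ (total.map φ up').f (n + 1 + 1) = y' ≫ (L.total up').d (n + 1) (n + 1 + 1) := by
      simp [x', y', Preadditive.sub_comp, hxy]
    obtain ⟨T₂, π₂, hπ₂, w', v', hw', hv'⟩ := ih n (r + 1) (by push_cast at hr; omega) x' y' hxd' hxy' hx' hy'
    refine ⟨T₂, π₂ ≫ π₁, inferInstance, π₂ ≫ w + w', π₂ ≫ v + v', ?_, ?_⟩
    · simp only [x', Preadditive.comp_sub, sub_eq_iff_eq_add] at hw'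
      rw [Category.assoc, Preadditive.add_comp, Category.assoc, hw']
      abel
    · simp only [y', Preadditive.comp_sub, sub_eq_iff_eq_add] at hv'
      rw [Category.assoc, Preadditive.add_comp, Preadditive.add_comp, Category.assoc, Category.assoc, hv']
      simp only [w, v, Category.assoc]
      abel

theorem quasiIso_total_map {a b : ℤ} (hK : Quad K a b) (hL : Quad L a b) [QuasiIso φ] :
    QuasiIso (total.map φ up') := by
  have hrow : ∀ q : ℤ, QuasiIso (((HomologicalComplex.eval A up' q).mapHomologicalComplex up').map φ) :=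
    fun q => inferInstance
  have lift : ∀ (n : ℤ) ⦃T : A⦄ (x : T ⟶ (K.total up').X (n + 1 + 1)) (y : T ⟶ (L.total up').X (n + 1)),
      x ≫ (K.total up').d (n + 1 + 1) (n + 1 + 1 + 1) = 0 →
      x ≫ (total.map φ up').f (n + 1 + 1) = y ≫ (L.total up').d (n + 1) (n + 1 + 1) →
      ∃ (T' : A) (π : T' ⟶ T) (_ : Epi π) (w : T' ⟶ (K.total up').X (n + 1))
        (v : T' ⟶ (L.total up').X n), π ≫ x = w ≫ (K.total up').d (n + 1) (n + 1 + 1) ∧
          π ≫ y = w ≫ (total.map φ up').f (n + 1) + v ≫ (L.total up').d n (n + 1) :=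
    fun n T x y h1 h2 => exists_total_lift φ hK hL hrow (n + 3 - a - b).toNat n b (by omega) x y h1 h2
      (supp_min hK x) (supp_min hL y)
  refine ⟨fun m => ?_⟩
  rw [quasiIsoAt_iff_isIso_homologyMap]
  haveI : Mono (homologyMap (total.map φ up') m) := by
    obtain ⟨n, rfl⟩ : ∃ n, m = n + 1 + 1 := ⟨m - 1 - 1, by omega⟩
    rw [mono_homologyMap_iff_up_to_refinements _ (n + 1) (n + 1 + 1) (n + 1 + 1 + 1) (by simp) (by simp)]
    intro T x hx y hxy
    obtain ⟨T', π, hπ, w, v, hw, -⟩ := lift n x y hx hxy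
    exact ⟨T', π, hπ, w, hw⟩
  haveI : Epi (homologyMap (total.map φ up') m) := by
    obtain ⟨n, rfl⟩ : ∃ n, m = n + 1 := ⟨m - 1, by omega⟩
    rw [epi_homologyMap_iff_up_to_refinements _ n (n + 1) (n + 1 + 1) (by simp) (by simp)]
    intro T y hy
    obtain ⟨T', π, hπ, w, v, hw, hv⟩ := lift n (0 : T ⟶ (K.total up').X (n + 1 + 1)) y zero_comp
      (by rw [zero_comp, hy])
    exact ⟨T', π, hπ, w, by rw [← hw, comp_zero], v, hv⟩
  exact isIso_of_mono_of_epi _

end Groth.Agent.CommAlg4.TotalQuasi
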