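import Groth.Agent.HopfLib.Comod
import Groth.Agent.HopfLib.Cartier
import Groth.Agent.CAlgH.NagataIC
import Groth.Agent.CAlgH.NagataFiniteType
import Groth.Agent.NormalizationLib.Finite
import Groth.Prelude.Def_ComodTens
import Groth.Prelude.Def_ComodSub
import Mathlib.LinearAlgebra.ExteriorPower.Basis
import Mathlib.LinearAlgebra.Matrix.Charpoly.Coeff
import Mathlib.LinearAlgebra.Matrix.Charpoly.Eigs
import Mathlib.LinearAlgebra.Eigenspace.Charpoly
import Mathlib.LinearAlgebra.Eigenspace.Triangularizable
import Mathlib.FieldTheory.IsAlgClosed.AlgebraicClosure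

/-!
# The characters of a closed subgroup are finite over the restricted characters

If `G` has matrix coefficients `G i j` generating its coordinate ring, the eigenvalues of a point of
the subgroup in any representation are integral over the coefficients of the characteristic
polynomial of `G`, which are characters (exterior powers).  So all characters lie in the integral
closure of a finitely generated algebra of restricted characters, a finite module.
-/

set_option autoImplicit false
set_option maxHeartbeats 800000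
set_option linter.unusedSectionVars false

universe u v

open TensorProduct HopfRep
open Coalgebra (comul counit)

namespace Groth.Agent.CommAlg4.CharFin

/-! ### Multiplicative matrices -/

section MatrixComod

variable {k : Type u} [CommRing k] {A : Type v} [CommRing A] [Bialgebra k A]

/-- `Δ M = M ⊗ M` and `ε M = 1`. -/
def IsMultMat {ι : Type} [Fintype ι] [DecidableEq ι] (M : Matrix ι ι A) : Prop :=
  (∀ i j, comul (R := k) (M i j) = ∑ l, M i l ⊗ₜ[k] M l j) ∧
    ∀ i j, counit (R := k) (M i j) = if i = j then 1 else 0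

theorem isMultMat_iff {ι : Type} [Fintype ι] [DecidableEq ι] (M : Matrix ι ι A) :
    IsMultMat (k := k) M ↔
      M.map (Bialgebra.comulAlgHom k A) =
          M.map (Algebra.TensorProduct.includeLeft : A →ₐ[k] A ⊗[k] A) *
            M.map (Algebra.TensorProduct.includeRight : A →ₐ[k] A ⊗[k] A) ∧
        M.map (Bialgebra.counitAlgHom k A) = 1 := by
  simp [IsMultMat, ← Matrix.ext_iff, Matrix.mul_apply, Matrix.one_apply,
    Algebra.TensorProduct.tmul_mul_tmul]

theorem IsMultMat.reindex {ι κ : Type} [Fintype ι] [DecidableEq ι] [Fintype κ] [DecidableEq κ]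
    {M : Matrix ι ι A} (hM : IsMultMat (k := k) M) (e : κ ≃ ι) :
    IsMultMat (k := k) (M.submatrix e e) := by
  refine ⟨fun i j => ?_, fun i j => ?_⟩
  · rw [Matrix.submatrix_apply, hM.1, ← e.sum_comp]
    rfl
  · simp [hM.2, e.injective.eq_iff]

theorem constr_single {d : ℕ} (f : Fin d → (Fin d → k) ⊗[k] A) (j : Fin d) :
    (Pi.basisFun k (Fin d)).constr k f (Pi.single j 1) = f j := by
  rw [← Pi.basisFun_apply, Module.Basis.constr_basis]

/-- The comodule of a multiplicative matrix. -/
noncomputable def comodOfMat {d : ℕ} (M : Matrix (Fin d) (Fin d) A) (hM : IsMultMat (k := k) M) :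
    Comod k A (Fin d → k) where
  coact := (Pi.basisFun k (Fin d)).constr k fun j => ∑ i, Pi.single i 1 ⊗ₜ[k] M i j
  coassoc := (Pi.basisFun k (Fin d)).ext fun j => by
    have hb : ∀ j, (Pi.basisFun k (Fin d)).constr k (fun j => ∑ i, Pi.single i (1 : k) ⊗ₜ[k] M i j)
        (Pi.single j 1) = ∑ i, Pi.single i (1 : k) ⊗ₜ[k] M i j := fun j => by
      rw [← Pi.basisFun_apply, Module.Basis.constr_basis]
    simp only [LinearMap.coe_comp, Function.comp_apply, LinearEquiv.coe_coe, Pi.basisFun_apply, hb,
      map_sum, LinearMap.rTensor_tmul, LinearMap.lTensor_tmul, hM.1, TensorProduct.sum_tmul,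
      TensorProduct.tmul_sum, TensorProduct.assoc_tmul]
    exact Finset.sum_comm
  counit_comp := (Pi.basisFun k (Fin d)).ext fun j => by
    simp only [LinearMap.coe_comp, Function.comp_apply, Pi.basisFun_apply, constr_single, map_sum,
      LinearMap.lTensor_tmul, hM.2]
    rw [Finset.sum_eq_single j (fun b _ hb => by simp [hb]) (by simp)]
    simp

/-- The matrix of coefficients of a comodule on `k^d`. -/
noncomputable def coeffMat {d : ℕ} (c : Comod k A (Fin d → k)) : Matrix (Fin d) (Fin d) A :=
  fun i j => TensorProduct.lid k A (LinearMap.rTensor A (LinearMap.proj i) (c.coact (Pi.single j 1)))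

/-- The character of a comodule on `k^d`. -/
noncomputable def chi (p : Σ d : ℕ, Comod k A (Fin d → k)) : A :=
  ∑ i : Fin p.1, coeffMat p.2 i i

theorem coact_single {d : ℕ} (c : Comod k A (Fin d → k)) (j : Fin d) :
    c.coact (Pi.single j 1) = ∑ i, Pi.single i 1 ⊗ₜ[k] coeffMat c i j := by
  classical
  unfold coeffMat
  generalize c.coact (Pi.single j (1 : k)) = t
  induction t using TensorProduct.induction_on with
  | zero => simp
  | add p q hp hq =>
    simp only [map_add, TensorProduct.tmul_add, Finset.sum_add_distrib, ← hp, ← hq]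
  | tmul v a =>
    conv_lhs => rw [pi_eq_sum_univ' v, TensorProduct.sum_tmul]
    refine Finset.sum_congr rfl fun i _ => ?_
    simp [TensorProduct.smul_tmul]

theorem isMultMat_coeffMat {d : ℕ} (c : Comod k A (Fin d → k)) :
    IsMultMat (k := k) (coeffMat c) := by
  refine ⟨fun a b => ?_, fun a b => ?_⟩
  · have hk := @Groth.Agent.HopfLib.sliceL_coact_comul k _ A _ _ _ (Fin d → k) _ _ c
    let f : (Fin d → k) →ₗ[k] k := LinearMap.proj a
    have hc := @Groth.Agent.HopfLib.isComodHom_cf k _ A _ _ _ (Fin d → k) _ _ c f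
    have h2 := LinearMap.congr_fun hc (Pi.single b (1 : k))
    simp only [LinearMap.coe_comp, Function.comp_apply, Groth.Agent.HopfLib.cf,
      Groth.Agent.HopfLib.sliceL, LinearEquiv.coe_coe] at h2
    rw [coact_single c b] at h2
    have e : ∀ l, TensorProduct.lid k A (LinearMap.rTensor A f (c.coact (Pi.single l (1 : k)))) =
        coeffMat c a l := fun l => rfl
    simp only [map_sum, LinearMap.rTensor_tmul, LinearMap.coe_comp, Function.comp_apply,
      LinearEquiv.coe_coe, e] at h2
    have hreg : (Comod.coact (k := k) (A := A) : A →ₗ[k] A ⊗[k] A) = comul := rfl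
    rw [← e b]
    simpa [coact_single, hreg] using h2
  · have h := @Groth.Agent.HopfLib.counit_cf k _ A _ _ _ (Fin d → k) _ _ c
      (LinearMap.proj a : (Fin d → k) →ₗ[k] k) (Pi.single b (1 : k))
    refine h.trans ?_
    simp [Pi.single_apply]

theorem chi_comodOfMat {d : ℕ} (M : Matrix (Fin d) (Fin d) A) (hM : IsMultMat (k := k) M) :
    chi ⟨d, comodOfMat M hM⟩ = M.trace := by
  classical
  refine Finset.sum_congr rfl fun i _ => ?_
  show TensorProduct.lid k A (LinearMap.rTensor A (LinearMap.proj i : (Fin d → k) →ₗ[k] k)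
    ((Pi.basisFun k (Fin d)).constr k (fun j => ∑ i, (Pi.single i 1 : Fin d → k) ⊗ₜ[k] M i j) (Pi.single i 1))) = M i i
  simp only [constr_single, map_sum, LinearMap.rTensor_tmul, TensorProduct.lid_tmul]
  rw [Finset.sum_eq_single i (fun b _ hb => by simp [Ne.symm hb]) (by simp)]
  simp

end MatrixComod

/-! ### Compound matrices -/

section Compound

variable {R : Type u} [CommRing R] {S : Type v} [CommRing S] {N : ℕ}

/-- The matrix of `m × m` minors. -/
noncomputable def compound (m : ℕ) (M : Matrix (Fin N) (Fin N) R) :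
    Matrix (Set.powersetCard (Fin N) m) (Set.powersetCard (Fin N) m) R :=
  fun s t => (M.submatrix (Set.powersetCard.ofFinEmbEquiv.symm s)
    (Set.powersetCard.ofFinEmbEquiv.symm t)).det

theorem compound_eq_toMatrix (m : ℕ) (M : Matrix (Fin N) (Fin N) R) :
    compound m M = LinearMap.toMatrix ((Pi.basisFun R (Fin N)).exteriorPower m)
      ((Pi.basisFun R (Fin N)).exteriorPower m) (exteriorPower.map m (Matrix.toLin' M)) := by
  ext s t
  rw [LinearMap.toMatrix_apply, exteriorPower.basis_apply, exteriorPower.map_apply_ιMulti_family,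
    exteriorPower.basis_repr_apply, exteriorPower.ιMulti_family,
    exteriorPower.ιMultiDual_apply_ιMulti, compound, ← Matrix.det_transpose]
  congr 1
  ext a b
  simp [Matrix.toLin'_apply]

theorem compound_mul (m : ℕ) (M M' : Matrix (Fin N) (Fin N) R) :
    compound m (M * M') = compound m M * compound m M' := by
  rw [compound_eq_toMatrix, compound_eq_toMatrix, compound_eq_toMatrix, Matrix.toLin'_mul,
    exteriorPower.map_comp, LinearMap.toMatrix_comp _ ((Pi.basisFun R (Fin N)).exteriorPower m)]

theorem compound_one (m : ℕ) : compound m (1 : Matrix (Fin N) (Fin N) R) = 1 := by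
  rw [compound_eq_toMatrix, Matrix.toLin'_one, exteriorPower.map_id, LinearMap.toMatrix_id]

theorem compound_map (m : ℕ) (f : R →+* S) (M : Matrix (Fin N) (Fin N) R) :
    compound m (M.map f) = (compound m M).map f := by
  ext s t
  rw [Matrix.map_apply, compound, compound, RingHom.map_det]
  rfl

theorem charpoly_coeff_eq_trace_compound (M : Matrix (Fin N) (Fin N) R) (m : ℕ) (hm : m ≤ N) :
    M.charpoly.coeff (N - m) = (-1) ^ m * (compound m M).trace := by
  have h := M.charpoly_coeff_eq_sum_minors m (by simpa using hm)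
  rw [Fintype.card_fin] at h
  rw [h]
  congr 1
  refine Finset.sum_bij' (fun s hs => (⟨s, by simpa [Set.powersetCard.mem_iff] using hs⟩ : Set.powersetCard (Fin N) m))
    (fun s _ => (s : Finset (Fin N))) (fun _ _ => Finset.mem_univ _)
    (fun s _ => by simpa [Finset.mem_powersetCard] using s.2) (fun _ _ => rfl) (fun _ _ => rfl)
    fun s hs => ?_
  have hc : s.card = m := (Finset.mem_powersetCard.1 hs).2
  show _ = compound m M _ _
  rw [compound, ← Matrix.det_submatrix_equiv_self (s.orderIsoOfFin hc).toEquiv]
  congr 1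

end Compound

theorem IsMultMat.compound {k : Type u} [CommRing k] {A : Type v} [CommRing A] [Bialgebra k A] {N : ℕ}
    {M : Matrix (Fin N) (Fin N) A} (hM : IsMultMat (k := k) M) (m : ℕ) :
    IsMultMat (k := k) (CharFin.compound m M) := by
  classical
  rw [isMultMat_iff] at hM ⊢
  constructor
  · rw [← AlgHom.coe_toRingHom (Bialgebra.comulAlgHom k A), ← compound_map,
      AlgHom.coe_toRingHom, hM.1, compound_mul, ← AlgHom.coe_toRingHom, ← AlgHom.coe_toRingHom,
      compound_map, compound_map]
  · rw [← AlgHom.coe_toRingHom (Bialgebra.counitAlgHom k A), ← compound_map, AlgHom.coe_toRingHom,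
      hM.2, compound_one]

theorem trace_compound_mem {k : Type u} [CommRing k] {A : Type v} [CommRing A] [Bialgebra k A] {N : ℕ}
    {M : Matrix (Fin N) (Fin N) A} (hM : IsMultMat (k := k) M) (m : ℕ) :
    (compound m M).trace ∈ Set.range (chi (k := k) (A := A)) := by
  classical
  let e := (Fintype.equivFin (Set.powersetCard (Fin N) m)).symm
  refine ⟨⟨_, comodOfMat _ ((hM.compound m).reindex e)⟩, ?_⟩
  rw [chi_comodOfMat]
  exact e.sum_comp (fun s => compound m M s s)

/-! ### Eigenvalues of algebra endomorphisms -/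

section Eigen

variable {L : Type u} [Field L] {P : Type v} [CommRing P] [Algebra L P] (ρ : P →ₐ[L] P)

theorem mul_mem_maxGenEigenspace {l l' : L} {x y : P}
    (hx : x ∈ Module.End.maxGenEigenspace ρ.toLinearMap l)
    (hy : y ∈ Module.End.maxGenEigenspace ρ.toLinearMap l') :
    x * y ∈ Module.End.maxGenEigenspace ρ.toLinearMap (l * l') := by
  rw [Module.End.mem_maxGenEigenspace] at hx hy ⊢
  obtain ⟨a, ha⟩ := hx
  obtain ⟨b, hb⟩ := hy
  refine ⟨a + b, ?_⟩
  suffices h : ∀ n a b : ℕ, a + b ≤ n → ∀ x y : P, ((ρ.toLinearMap - l • (1 : Module.End L P)) ^ a) x = 0 →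
      ((ρ.toLinearMap - l' • (1 : Module.End L P)) ^ b) y = 0 →
      ((ρ.toLinearMap - (l * l') • (1 : Module.End L P)) ^ n) (x * y) = 0 from
    h _ _ _ le_rfl _ _ ha hb
  intro n
  induction n with
  | zero =>
    intro a b hab x y hx hy
    rw [show a = 0 by omega, pow_zero, Module.End.one_apply] at hx
    simp [hx]
  | succ n ih =>
    intro a b hab x y hx hy
    rcases a with _ | a
    · rw [pow_zero, Module.End.one_apply] at hx; simp [hx]
    rcases b with _ | b
    · rw [pow_zero, Module.End.one_apply] at hy; simp [hy]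
    have e : (ρ.toLinearMap - (l * l') • (1 : Module.End L P)) (x * y) =
        ((ρ.toLinearMap - l • (1 : Module.End L P)) x) * ρ y +
          l • (x * ((ρ.toLinearMap - l' • (1 : Module.End L P)) y)) := by
      simp [Algebra.smul_def, sub_mul, mul_sub]
      ring
    rw [pow_succ, Module.End.mul_apply, e, map_add, map_smul]
    have hρy : ((ρ.toLinearMap - l' • (1 : Module.End L P)) ^ (b + 1)) (ρ y) = 0 := by
      have hc : Commute ρ.toLinearMap (ρ.toLinearMap - l' • (1 : Module.End L P)) :=
        (Commute.refl _).sub_right ((Commute.one_right _).smul_right l')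
      show ((ρ.toLinearMap - l' • (1 : Module.End L P)) ^ (b + 1)) (ρ.toLinearMap y) = 0
      rw [← Module.End.mul_apply, ← (hc.pow_right (b + 1)).eq, Module.End.mul_apply, hy, map_zero]
    rw [ih a (b + 1) (by omega) _ _ (by rwa [← Module.End.mul_apply, ← pow_succ]) hρy,
      ih (a + 1) b (by omega) _ _ hx (by rwa [← Module.End.mul_apply, ← pow_succ]), smul_zero, add_zero]

/-- The span of the generalised eigenspaces with eigenvalue in a submonoid is a subalgebra. -/
noncomputable def eigAlg (S : Submonoid L) : Subalgebra L P :=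
  Submodule.toSubalgebra (⨆ l : S, Module.End.maxGenEigenspace ρ.toLinearMap (l : L))
    (Submodule.mem_iSup_of_mem 1 (by
      rw [Module.End.mem_maxGenEigenspace]; exact ⟨1, by simp⟩))
    (fun x y hx hy => by
      induction hx using Submodule.iSup_induction' with
      | mem l x hx =>
        induction hy using Submodule.iSup_induction' with
        | mem l' y hy => exact Submodule.mem_iSup_of_mem (l * l') (mul_mem_maxGenEigenspace ρ hx hy)
        | zero => simp
        | add y z _ _ h1 h2 => rw [mul_add]; exact add_mem h1 h2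
      | zero => simp
      | add x z _ _ h1 h2 => rw [add_mul]; exact add_mem h1 h2)

theorem eigenvalue_mem_of_eigAlg_eq_top {S : Submonoid L} (hS : eigAlg ρ S = ⊤) {l : L} {x : P}
    (hx : x ≠ 0) (hl : ρ x = l • x) : l ∈ S := by
  by_contra hlS
  refine hx (Submodule.disjoint_def.1
    (Module.End.independent_maxGenEigenspace ρ.toLinearMap l) x ?_ ?_)
  · rw [Module.End.mem_maxGenEigenspace]; exact ⟨1, by simp [hl]⟩
  · have : x ∈ eigAlg ρ S := hS ▸ Algebra.mem_top
    refine (iSup_le fun m : S => ?_ : (⨆ m : S, Module.End.maxGenEigenspace ρ.toLinearMap (m : L)) ≤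
      ⨆ (j : L) (_ : j ≠ l), Module.End.maxGenEigenspace ρ.toLinearMap j) this
    exact le_iSup₂ (f := fun j (_ : j ≠ l) => Module.End.maxGenEigenspace ρ.toLinearMap j) (m : L)
      fun hm => hlS (hm ▸ m.2)

end Eigen

/-! ### Translation by a point -/

section Translate

variable {k : Type u} [Field k] {B : Type u} [CommRing B] [Bialgebra k B]
  {L : Type u} [Field L] [Algebra k L]

/-- Right translation by an `L`-point. -/
noncomputable def transl (g : B →ₐ[k] L) : L ⊗[k] B →ₐ[L] L ⊗[k] B :=
  Algebra.TensorProduct.lift (Algebra.ofId L _)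
    ((Algebra.TensorProduct.map g (AlgHom.id k B)).comp
      ((Algebra.TensorProduct.comm k B B).toAlgHom.comp (Bialgebra.comulAlgHom k B)))
    fun _ _ => Commute.all _ _

/-- Evaluation at the identity. -/
noncomputable def evalOne : L ⊗[k] B →ₐ[L] L :=
  (Algebra.TensorProduct.rid k L L).toAlgHom.comp
    (Algebra.TensorProduct.map (AlgHom.id L L) (Bialgebra.counitAlgHom k B))

theorem evalOne_tmul (l : L) (b : B) : evalOne (l ⊗ₜ[k] b) = counit (R := k) b • l := by
  simp [evalOne]

theorem transl_mat {d : ℕ} {T : Matrix (Fin d) (Fin d) B} (hT : IsMultMat (k := k) T)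
    (g : B →ₐ[k] L) (i j : Fin d) :
    transl g (1 ⊗ₜ T i j) = ∑ l, g (T l j) ⊗ₜ[k] T i l := by
  simp [transl, hT.1, TensorProduct.sum_tmul, ← Algebra.TensorProduct.one_def]

/-- The row maps. -/
noncomputable def rowMap {d : ℕ} (T : Matrix (Fin d) (Fin d) B) (i : Fin d) :
    (Fin d → L) →ₗ[L] L ⊗[k] B :=
  (Pi.basisFun L (Fin d)).constr L fun j => (1 : L) ⊗ₜ[k] T i j

theorem rowMap_comm {d : ℕ} {T : Matrix (Fin d) (Fin d) B} (hT : IsMultMat (k := k) T)
    (g : B →ₐ[k] L) (i : Fin d) (v : Fin d → L) :
    transl g (rowMap T i v) = rowMap T i (Matrix.toLin' (T.map g) v) := by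
  suffices h : (transl g).toLinearMap ∘ₗ rowMap T i = rowMap T i ∘ₗ Matrix.toLin' (T.map g) from
    LinearMap.congr_fun h v
  refine (Pi.basisFun L (Fin d)).ext fun j => ?_
  simp only [LinearMap.coe_comp, Function.comp_apply, AlgHom.toLinearMap_apply]
  rw [Pi.basisFun_apply, show rowMap (L := L) T i (Pi.single j 1) = (1 : L) ⊗ₜ[k] T i j by
      rw [← Pi.basisFun_apply, rowMap, Module.Basis.constr_basis], transl_mat hT]
  rw [show Matrix.toLin' (T.map g) (Pi.single j 1) = ∑ l, g (T l j) • (Pi.basisFun L (Fin d)) l by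
    ext a
    simp [Matrix.toLin'_apply, Pi.single_apply]]
  simp only [map_sum, map_smul, rowMap, Module.Basis.constr_basis, TensorProduct.smul_tmul',
    smul_eq_mul, mul_one]

theorem evalOne_rowMap {d : ℕ} {T : Matrix (Fin d) (Fin d) B} (hT : IsMultMat (k := k) T)
    (i : Fin d) (v : Fin d → L) : evalOne (rowMap (k := k) T i v) = v i := by
  classical
  suffices h : (evalOne (k := k) (B := B) (L := L)).toLinearMap ∘ₗ rowMap T i = LinearMap.proj i from
    LinearMap.congr_fun h v
  refine (Pi.basisFun L (Fin d)).ext fun j => ?_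
  simp [rowMap, evalOne_tmul, hT.2, ← Pi.basisFun_apply, Finsupp.single_apply]

variable [IsAlgClosed L]

theorem mem_submonoid_of_root {N d : ℕ} {G : Matrix (Fin N) (Fin N) B} (hG : IsMultMat (k := k) G)
    (hgen : Algebra.adjoin k (Set.range fun p : Fin N × Fin N => G p.1 p.2) = ⊤)
    (g : B →ₐ[k] L) (S : Submonoid L) (hS : ∀ l, (G.map g).charpoly.IsRoot l → l ∈ S)
    {T : Matrix (Fin d) (Fin d) B} (hT : IsMultMat (k := k) T) {l : L}
    (hl : (T.map g).charpoly.IsRoot l) : l ∈ S := by
  classical
  obtain ⟨v, hv⟩ := ((Module.End.hasEigenvalue_iff_isRoot_charpoly (Matrix.toLin' (T.map g)) l).2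
    (by rwa [Matrix.charpoly_toLin'])).exists_hasEigenvector
  obtain ⟨i, hi⟩ := Function.ne_iff.1 hv.2
  refine eigenvalue_mem_of_eigAlg_eq_top (transl g) (S := S) ?_ (x := rowMap (k := k) T i v)
    (fun h => hi (by rw [← evalOne_rowMap hT i v, h, map_zero]; rfl))
    (by rw [rowMap_comm hT, hv.apply_eq_smul, map_smul])
  have hmem : ∀ a b, (1 : L) ⊗ₜ[k] G a b ∈ eigAlg (transl g) S := by
    intro a b
    have hv : (Pi.single b (1 : L) : Fin N → L) ∈
        ⨆ m : L, Module.End.maxGenEigenspace (Matrix.toLin' (G.map g)) m := by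
      rw [Module.End.iSup_maxGenEigenspace_eq_top]; trivial
    have key : (⨆ m : L, Module.End.maxGenEigenspace (Matrix.toLin' (G.map g)) m) ≤
        (Subalgebra.toSubmodule (eigAlg (transl g) S)).comap (rowMap (k := k) G a) := by
      refine iSup_le fun m x hx => ?_
      by_cases hm : m ∈ S
      · refine Submodule.mem_iSup_of_mem (⟨m, hm⟩ : S) ?_
        rw [Module.End.mem_maxGenEigenspace] at hx ⊢
        obtain ⟨n, hn⟩ := hx
        refine ⟨n, ?_⟩
        have hcomm : ∀ (n : ℕ) (x : Fin N → L),
            (((transl g).toLinearMap - m • (1 : Module.End L (L ⊗[k] B))) ^ n) (rowMap G a x) =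
              rowMap G a (((Matrix.toLin' (G.map g) - m • (1 : Module.End L (Fin N → L))) ^ n) x) := by
          intro n
          induction n with
          | zero => simp
          | succ n ih =>
            intro x
            rw [pow_succ, pow_succ, Module.End.mul_apply, Module.End.mul_apply, ← ih]
            simp [rowMap_comm hG, map_sub]
        rw [hcomm, hn, map_zero]
      · have : x = 0 := by
          by_contra hx0
          refine hm (hS m ?_)
          rw [← Matrix.charpoly_toLin', ← Module.End.hasEigenvalue_iff_isRoot_charpoly]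
          have h1 : Module.End.maxGenEigenspace (Matrix.toLin' (G.map g)) m ≠ ⊥ :=
            fun h => hx0 (by simpa [h] using hx)
          exact (Module.End.hasUnifEigenvalue_iff_hasUnifEigenvalue_one (k := (⊤ : ℕ∞)) (by simp)).1 h1
        rw [this]; exact zero_mem _
    have := key hv
    rwa [Submodule.mem_comap, ← Pi.basisFun_apply, rowMap, Module.Basis.constr_basis] at this
  refine eq_top_iff.2 fun x hx => ?_
  clear hx
  induction x using TensorProduct.induction_on with
  | zero => exact zero_mem _
  | add p q hp hq => exact add_mem hp hq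
  | tmul c b =>
    rw [show c ⊗ₜ[k] b = c • ((1 : L) ⊗ₜ[k] b) by rw [TensorProduct.smul_tmul', smul_eq_mul, mul_one]]
    refine Subalgebra.smul_mem _ ?_ c
    have hb : b ∈ Algebra.adjoin k (Set.range fun p : Fin N × Fin N => G p.1 p.2) :=
      hgen ▸ Algebra.mem_top
    exact (Algebra.adjoin_le (S := ((eigAlg (transl g) S).restrictScalars k).comap
      (Algebra.TensorProduct.includeRight : B →ₐ[k] L ⊗[k] B)) (by
        rintro _ ⟨p, rfl⟩; exact hmem p.1 p.2)) hb

end Translate

/-! ### Finiteness -/

section Finite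

variable {k : Type u} [Field k]

theorem exists_generating_mat (A : Type u) [CommRing A] [HopfAlgebra k A] [Algebra.FiniteType k A] :
    ∃ (N : ℕ) (G : Matrix (Fin N) (Fin N) A), IsMultMat (k := k) G ∧
      Algebra.adjoin k (Set.range fun p : Fin N × Fin N => G p.1 p.2) = ⊤ := by
  classical
  obtain ⟨s, hs⟩ := (inferInstance : Algebra.FiniteType k A).out
  obtain ⟨U, hUf, hsU, hU⟩ :=
    Groth.Agent.HopfLib.exists_finite_subcomod (k := k) (A := A) (V := A) (↑s) s.finite_toSet
  let cU := ComodSub.Comod.restr (Comod.regular k A) U hU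
  let e : U ≃ₗ[k] (Fin (Module.finrank k U) → k) := (Module.finBasis k U).equivFun
  let c := ComodTens.Comod.ofEquiv e cU
  refine ⟨_, coeffMat c, isMultMat_coeffMat c, eq_top_iff.2 ?_⟩
  rw [← hs]
  refine Algebra.adjoin_le fun x hx => ?_
  set f : (Fin (Module.finrank k U) → k) →ₗ[k] k := counit (R := k) ∘ₗ U.subtype ∘ₗ e.symm.toLinearMap
  have h1 : x = TensorProduct.lid k A (LinearMap.rTensor A f (c.coact (e (⟨x, hsU hx⟩ : U)))) := by
    rw [ComodTens.ofEquiv_coact_apply, ← LinearMap.comp_apply, ← LinearMap.rTensor_comp]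
    have hf : f ∘ₗ (e : U →ₗ[k] (Fin (Module.finrank k U) → k)) = counit (R := k) ∘ₗ U.subtype := by
      ext y; simp [f]
    rw [hf, LinearMap.rTensor_comp, LinearMap.comp_apply, ComodSub.restr_coact_coe]
    exact (((LinearEquiv.eq_symm_apply _).1 (by
      simp [show (Comod.regular k A).coact = comul (R := k) (A := A) from rfl]))).symm
  rw [SetLike.mem_coe, h1, pi_eq_sum_univ' (e (⟨x, hsU hx⟩ : U))]
  simp only [map_sum, map_smul, coact_single, LinearMap.rTensor_tmul, TensorProduct.lid_tmul]
  exact Subalgebra.sum_mem _ fun j _ => Subalgebra.smul_mem _ (Subalgebra.sum_mem _ fun i _ =>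
    Subalgebra.smul_mem _ (by exact Algebra.subset_adjoin ⟨(i, j), rfl⟩) _) _

theorem span_chi_finite [CharZero k] (A B : Type u) [CommRing A] [HopfAlgebra k A] [Algebra.FiniteType k A]
    [CommRing B] [HopfAlgebra k B] [Algebra.FiniteType k B]
    (π : A →ₐc[k] B) (hπ : Function.Surjective π) :
    ∃ F : Finset B, (↑F : Set B) ⊆ Set.range (chi (k := k) (A := B)) ∧
      (↑(Submodule.span k (Set.range (chi (k := k) (A := B)))) : Set B) ⊆
        ↑(Submodule.span (Algebra.adjoin k (π '' Set.range (chi (k := k) (A := A)))) (↑F : Set B)) := by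
  classical
  have : IsReduced B := Groth.Agent.HopfLib.isReduced_of_charZero (k := k)
  have : IsNoetherianRing B := Algebra.FiniteType.isNoetherianRing k B
  obtain ⟨N, G, hG, hgen⟩ := exists_generating_mat (k := k) A
  let π' : A →ₐ[k] B := π
  have hGB : IsMultMat (k := k) (G.map π') := by
    refine ⟨fun i j => ?_, fun i j => ?_⟩
    · simp only [Matrix.map_apply]
      refine (CoalgHomClass.map_comp_comul_apply π (G i j)).symm.trans ?_
      rw [hG.1, map_sum]
      rfl
    · simp only [Matrix.map_apply]
      exact (CoalgHomClass.counit_comp_apply π (G i j)).trans (hG.2 i j)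
  have hgenB : Algebra.adjoin k (Set.range fun p : Fin N × Fin N => (G.map π') p.1 p.2) = ⊤ := by
    rw [show (Set.range fun p : Fin N × Fin N => (G.map π') p.1 p.2) =
        π' '' Set.range fun p : Fin N × Fin N => G p.1 p.2 by rw [← Set.range_comp]; rfl,
      Algebra.adjoin_image, hgen, Algebra.map_top, AlgHom.range_eq_top]
    exact hπ
  let a : Fin (N + 1) → B := fun m => π' ((compound (m : ℕ) G).trace)
  let φ : MvPolynomial (Fin (N + 1)) k →ₐ[k] B := MvPolynomial.aeval a
  letI : Algebra (MvPolynomial (Fin (N + 1)) k) B := φ.toRingHom.toAlgebra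
  have : IsScalarTower k (MvPolynomial (Fin (N + 1)) k) B :=
    IsScalarTower.of_algebraMap_eq fun r => (φ.commutes r).symm
  have : Algebra.FiniteType (MvPolynomial (Fin (N + 1)) k) B :=
    Algebra.FiniteType.of_restrictScalars_finiteType k (MvPolynomial (Fin (N + 1)) k) B
  have hNag : CAlg.IsNagata (MvPolynomial (Fin (N + 1)) k) :=
    Groth.Agent.CAlgH.isNagata_mvPolynomial (Groth.Agent.NormalizationLib.isNagata_field k) _
  have hfin := Groth.Agent.CAlgH.finite_ic_of_isNagata hNag B
  have hint : ∀ p, chi (k := k) (A := B) p ∈ integralClosure (MvPolynomial (Fin (N + 1)) k) B := by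
    intro p
    have hpoint : ∀ q ∈ minimalPrimes B, ∃ P : Polynomial (MvPolynomial (Fin (N + 1)) k),
        P.Monic ∧ Polynomial.aeval (chi p) P ∈ q := by
      intro q hq
      have : q.IsPrime := hq.1.1
      let L := AlgebraicClosure (FractionRing (B ⧸ q))
      let g : B →ₐ[MvPolynomial (Fin (N + 1)) k] L :=
        (IsScalarTower.toAlgHom _ (B ⧸ q) L).comp (Ideal.Quotient.mkₐ _ q)
      let S : Submonoid L := (integralClosure (MvPolynomial (Fin (N + 1)) k) L).toSubsemiring.toSubmonoid
      have hcp : ∀ n, IsIntegral (MvPolynomial (Fin (N + 1)) k)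
          (((G.map π').map g).charpoly.coeff n) := by
        intro n
        rcases le_or_gt n N with hn | hn
        · have hmap : (G.map π').map g = G.map ((g.restrictScalars k).comp π').toRingHom := by
            ext i j; rfl
          rw [← Nat.sub_sub_self hn, charpoly_coeff_eq_trace_compound _ _ (Nat.sub_le N n), hmap,
            compound_map]
          refine (isIntegral_one.neg.pow _).mul ?_
          rw [← AddMonoidHom.map_trace]
          show IsIntegral _ (g (π' ((compound (N - n) G).trace)))
          rw [show π' ((compound (N - n) G).trace) = algebraMap (MvPolynomial (Fin (N + 1)) k) B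
              (MvPolynomial.X ⟨N - n, by omega⟩) from (MvPolynomial.aeval_X a ⟨N - n, by omega⟩).symm,
            AlgHom.commutes]
          exact isIntegral_algebraMap
        · rw [Polynomial.coeff_eq_zero_of_natDegree_lt (by simpa using hn)]
          exact isIntegral_zero
      have hS : ∀ l, ((G.map π').map (g.restrictScalars k)).charpoly.IsRoot l → l ∈ S := by
        intro l hl
        show IsIntegral _ l
        have hl' : ((G.map π').map g).charpoly.IsRoot l := hl
        let Q : Polynomial (integralClosure (MvPolynomial (Fin (N + 1)) k) L) :=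
          ((G.map π').map g).charpoly.toSubring
            (integralClosure (MvPolynomial (Fin (N + 1)) k) L).toSubring (fun x hx => by
              obtain ⟨n, -, rfl⟩ := Polynomial.mem_coeffs_iff.1 hx
              exact hcp n)
        have hQm : Q.Monic := (Polynomial.monic_toSubring _ _ _).2 (Matrix.charpoly_monic _)
        refine isIntegral_trans (A := integralClosure (MvPolynomial (Fin (N + 1)) k) L) l ⟨Q, hQm, ?_⟩
        rw [← Polynomial.eval_map]
        have : Q.map (algebraMap _ L) = ((G.map π').map g).charpoly :=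
          Polynomial.map_toSubring ((G.map π').map g).charpoly
            (integralClosure (MvPolynomial (Fin (N + 1)) k) L).toSubring _
        rw [this]
        exact hl'
      have hgint : IsIntegral (MvPolynomial (Fin (N + 1)) k) (g (chi p)) := by
        have htr : g (chi p) = ((coeffMat p.2).map (g.restrictScalars k)).trace := by
          simp [chi, Matrix.trace]
        rw [htr, Matrix.trace_eq_sum_roots_charpoly]
        refine IsIntegral.multiset_sum fun l hl => ?_
        exact mem_submonoid_of_root hGB hgenB (g.restrictScalars k) S hS (isMultMat_coeffMat p.2)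
          (Polynomial.isRoot_of_mem_roots hl)
      obtain ⟨P, hPm, hP⟩ := hgint
      refine ⟨P, hPm, ?_⟩
      have h0 : g (Polynomial.aeval (chi p) P) = 0 := by
        rw [← Polynomial.aeval_algHom_apply]; exact hP
      rw [← Ideal.Quotient.eq_zero_iff_mem]
      refine (injective_iff_map_eq_zero (algebraMap (B ⧸ q) L)).1 ?_ _ h0
      rw [IsScalarTower.algebraMap_eq (B ⧸ q) (FractionRing (B ⧸ q)) L]
      exact (RingHom.injective (algebraMap (FractionRing (B ⧸ q)) L)).comp (IsFractionRing.injective (B ⧸ q) (FractionRing (B ⧸ q)))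
    choose P hPm hP using hpoint
    have hfinq : (minimalPrimes B).Finite := minimalPrimes.finite_of_isNoetherianRing B
    refine ⟨∏ q ∈ hfinq.toFinset.attach, P q.1 (hfinq.mem_toFinset.1 q.2),
      Polynomial.monic_prod_of_monic _ _ fun q _ => hPm _ _, ?_⟩
    rw [← Polynomial.aeval_def, map_prod]
    have hnil : (∏ q ∈ hfinq.toFinset.attach,
        Polynomial.aeval (chi p) (P q.1 (hfinq.mem_toFinset.1 q.2))) ∈ nilradical B := by
      rw [nilradical, ← Ideal.sInf_minimalPrimes, Submodule.mem_sInf]
      intro q hq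
      rw [← Finset.prod_erase_mul _ _ (Finset.mem_attach _ ⟨q, hfinq.mem_toFinset.2 hq⟩)]
      exact Ideal.mul_mem_left _ _ (hP q hq)
    exact (mem_nilradical.1 hnil).eq_zero
  have hM : (Submodule.span (MvPolynomial (Fin (N + 1)) k) (Set.range (chi (k := k) (A := B)))).FG := by
    have hfg : (integralClosure (MvPolynomial (Fin (N + 1)) k) B).toSubmodule.FG :=
      Module.Finite.iff_fg.1 hfin
    exact hfg.of_le (Submodule.span_le.2 (Set.range_subset_iff.2 hint))
  obtain ⟨F, hF, hFspan⟩ := (Submodule.fg_span_iff_fg_span_finset_subset _).1 hM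
  refine ⟨F, hF, fun x hx => ?_⟩
  have hx' : x ∈ Submodule.span (MvPolynomial (Fin (N + 1)) k) (↑F : Set B) :=
    hFspan ▸ Submodule.span_le_restrictScalars k (MvPolynomial (Fin (N + 1)) k) _ hx
  clear hx
  induction hx' using Submodule.span_induction with
  | mem y hy => exact Submodule.subset_span hy
  | zero => exact zero_mem _
  | add y z _ _ h1 h2 => exact add_mem h1 h2
  | smul r y _ hy =>
    have hr : φ r ∈ Algebra.adjoin k (π '' Set.range (chi (k := k) (A := A))) := by
      have hle : φ.range ≤ Algebra.adjoin k (π '' Set.range (chi (k := k) (A := A))) := by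
        show (MvPolynomial.aeval a).range ≤ _
        rw [← Algebra.adjoin_range_eq_range_aeval]
        refine Algebra.adjoin_mono ?_
        rintro _ ⟨m, rfl⟩
        exact ⟨_, trace_compound_mem hG _, rfl⟩
      exact hle ⟨r, rfl⟩
    exact Submodule.smul_mem _ (⟨φ r, hr⟩ : Algebra.adjoin k (π '' Set.range (chi (k := k) (A := A)))) hy

end Finite

end Groth.Agent.CommAlg4.CharFin
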