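import Mathlib
import Groth.Agent.WildAS.Basic

/-! Automorphisms of Artin–Schreier algebras. -/

set_option autoImplicit false
set_option linter.all false
universe u

open MvPolynomial

namespace Groth.Agent.CommAlg4.ASAut

open Groth.Agent.WildAS

variable {R : Type u} [CommRing R] {n : ℕ} (p : ℕ) [Fact p.Prime] [CharP R p] (a x : Fin n → R)

abbrev cs : Fin n → R := fun i => a i ^ (p - 1)

abbrev A : Type u := Alg p (cs p a) x

theorem root_translate (c : ZMod p) (i : Fin n) (S : Type u) [CommRing S] [Algebra R S] (z : S) :
    (z + algebraMap R S (ZMod.castHom (dvd_refl p) R c * a i)) ^ p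
        - algebraMap R S (cs p a i) * (z + algebraMap R S (ZMod.castHom (dvd_refl p) R c * a i))
      = z ^ p - algebraMap R S (cs p a i) * z := by
  rcases subsingleton_or_nontrivial S with h | h
  · exact Subsingleton.elim _ _
  haveI : CharP S p := by
    have h1 : ((p : ℕ) : S) = 0 := by rw [← map_natCast (algebraMap R S), CharP.cast_eq_zero, map_zero]
    exact (CharP.charP_iff_prime_eq_zero (Fact.out : p.Prime)).2 h1
  have hp : 1 ≤ p := (Fact.out : p.Prime).one_le
  rw [add_pow_char, ← map_pow, mul_pow, ← map_pow (ZMod.castHom (dvd_refl p) R), ZMod.pow_card]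
  simp only [cs, map_mul, map_pow]
  have : algebraMap R S (a i) ^ p = algebraMap R S (a i) ^ (p - 1) * algebraMap R S (a i) := by
    rw [← pow_succ, Nat.sub_add_cancel hp]
  rw [this]; ring

/-- translation `u_i ↦ u_i + d_i a_i`. -/
noncomputable def trans (d : Fin n → ZMod p) : A p a x →ₐ[R] A p a x :=
  Ideal.Quotient.liftₐ _
    (aeval fun i => gen p (cs p a) x i + algebraMap R _ (ZMod.castHom (dvd_refl p) R (d i) * a i))
    (fun b hb => by
      refine RingHom.mem_ker.mp (Ideal.span_le.mpr ?_ hb)
      rintro _ ⟨i, rfl⟩
      show aeval _ (X i ^ p - C (cs p a i) * X i - C (x i)) = 0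
      rw [map_sub, map_sub, map_mul, map_pow, aeval_X, aeval_C, aeval_C, root_translate, gen_pow]
      ring)

@[simp] theorem trans_gen (d : Fin n → ZMod p) (i : Fin n) :
    trans p a x d (gen p (cs p a) x i) =
      gen p (cs p a) x i + algebraMap R _ (ZMod.castHom (dvd_refl p) R (d i) * a i) := by
  show aeval _ (X i) = _
  rw [aeval_X]

theorem trans_comp (d d' : Fin n → ZMod p) :
    (trans p a x d).comp (trans p a x d') = trans p a x (d + d') :=
  Ideal.Quotient.algHom_ext _ (MvPolynomial.algHom_ext fun i => by
    show trans p a x d (trans p a x d' (gen p (cs p a) x i)) = trans p a x (d + d') (gen p (cs p a) x i)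
    rw [trans_gen, map_add, AlgHom.commutes, trans_gen, trans_gen, Pi.add_apply, map_add, add_mul, map_add, add_assoc])

theorem trans_zero : trans p a x 0 = AlgHom.id R _ :=
  Ideal.Quotient.algHom_ext _ (MvPolynomial.algHom_ext fun i => by
    show trans p a x 0 (gen p (cs p a) x i) = gen p (cs p a) x i
    rw [trans_gen, Pi.zero_apply, map_zero, zero_mul, map_zero, add_zero])

noncomputable def transEquiv (d : Fin n → ZMod p) : A p a x ≃ₐ[R] A p a x :=
  AlgEquiv.ofAlgHom (trans p a x d) (trans p a x (-d))
    (by rw [trans_comp, add_neg_cancel, trans_zero]) (by rw [trans_comp, neg_add_cancel, trans_zero])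

@[simp] theorem transEquiv_apply (d : Fin n → ZMod p) (b : A p a x) : transEquiv p a x d b = trans p a x d b := rfl

theorem transEquiv_add (d d' : Fin n → ZMod p) :
    transEquiv p a x (d + d') = transEquiv p a x d * transEquiv p a x d' :=
  AlgEquiv.ext fun b => (AlgHom.congr_fun (trans_comp p a x d d') b).symm

theorem transEquiv_zero : transEquiv p a x 0 = 1 :=
  AlgEquiv.ext fun b => AlgHom.congr_fun (trans_zero p a x) b

theorem transEquiv_nsmul (d : Fin n → ZMod p) : ∀ k : ℕ, transEquiv p a x (k • d) = transEquiv p a x d ^ k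
  | 0 => by rw [zero_smul, transEquiv_zero, pow_zero]
  | k + 1 => by rw [succ_nsmul, transEquiv_add, transEquiv_nsmul d k, pow_succ]

theorem smul_eq (r : R) (z : A p a x) : r • z = algebraMap R (A p a x) r * z := by
  obtain ⟨z, rfl⟩ := Ideal.Quotient.mk_surjective z
  show Ideal.Quotient.mk _ (r • z) = Ideal.Quotient.mk _ (algebraMap R _ r) * Ideal.Quotient.mk _ z
  rw [← map_mul, Algebra.smul_def]

section Domain
variable [IsDomain (A p a x)] (hinj : Function.Injective (algebraMap R (A p a x))) (ha : ∀ i, a i ≠ 0)
include hinj ha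

theorem translate_injective (i : Fin n) : Function.Injective fun c : ZMod p =>
    algebraMap R (A p a x) (ZMod.castHom (dvd_refl p) R c * a i) := by
  haveI : IsDomain R := hinj.isDomain _
  intro c c' h
  exact (ZMod.castHom (dvd_refl p) R).injective (mul_right_cancel₀ (ha i) (hinj h))

theorem exists_eq_trans (σ : A p a x →ₐ[R] A p a x) : ∃ d, σ = trans p a x d := by
  classical
  have key : ∀ i, ∃ c : ZMod p, σ (gen p (cs p a) x i) = gen p (cs p a) x i
      + algebraMap R _ (ZMod.castHom (dvd_refl p) R c * a i) := fun i => by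
    let P : Polynomial (A p a x) := (g p (cs p a) x i).map (algebraMap R _)
    have hP : P ≠ 0 := ((g_monic (cs p a) x (Fact.out : p.Prime).two_le i).map _).ne_zero
    have hd : P.natDegree ≤ p := (Polynomial.natDegree_map_le).trans
      (by haveI : Nontrivial R := (algebraMap R (A p a x)).domain_nontrivial
          rw [g_natDegree (cs p a) x (Fact.out : p.Prime).two_le i])
    have hroot : ∀ z, z ∈ P.roots.toFinset ↔
        z ^ p - algebraMap R _ (cs p a i) * z - algebraMap R _ (x i) = 0 := fun z => by
      rw [Multiset.mem_toFinset, Polynomial.mem_roots hP, Polynomial.IsRoot.def]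
      show Polynomial.eval z ((g p (cs p a) x i).map _) = 0 ↔ _
      rw [Polynomial.eval_map, ← Polynomial.aeval_def, aeval_g]
    let F : ZMod p → A p a x := fun c => gen p (cs p a) x i + algebraMap R _ (ZMod.castHom (dvd_refl p) R c * a i)
    have hsub : Finset.univ.image F ⊆ P.roots.toFinset := fun z hz => by
      obtain ⟨c, -, rfl⟩ := Finset.mem_image.1 hz
      rw [hroot, root_translate, gen_pow]; ring
    have heq := Finset.eq_of_subset_of_card_le hsub (by
      rw [Finset.card_image_of_injective _ (fun c c' h => translate_injective p a x hinj ha i (add_left_cancel h)),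
        Finset.card_univ, ZMod.card]
      exact ((Multiset.toFinset_card_le _).trans (Polynomial.card_roots' P)).trans hd)
    have hmem : σ (gen p (cs p a) x i) ∈ P.roots.toFinset := by
      rw [hroot, ← AlgHom.commutes σ, ← AlgHom.commutes σ (x i), ← map_pow, ← map_mul, ← map_sub, ← map_sub, gen_pow]
      simp
    rw [← heq] at hmem
    obtain ⟨c, -, hc⟩ := Finset.mem_image.1 hmem
    exact ⟨c, hc.symm⟩
  choose d hd using key
  exact ⟨d, Ideal.Quotient.algHom_ext _ (MvPolynomial.algHom_ext fun i => (hd i).trans (trans_gen p a x d i).symm)⟩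

theorem transEquiv_bijective : Function.Bijective (transEquiv p a x) := by
  refine ⟨fun d d' h => funext fun i => ?_, fun σ => ?_⟩
  · have := AlgEquiv.congr_fun h (gen p (cs p a) x i)
    rw [transEquiv_apply, transEquiv_apply, trans_gen, trans_gen] at this
    exact translate_injective p a x hinj ha i (add_left_cancel this)
  · obtain ⟨d, hd⟩ := exists_eq_trans p a x hinj ha σ.toAlgHom
    exact ⟨d, AlgEquiv.ext fun b => (AlgHom.congr_fun hd b).symm⟩

theorem mem_range_of_fixed (b : A p a x) (h : ∀ d, trans p a x d b = b) :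
    b ∈ Set.range (algebraMap R (A p a x)) := by
  classical
  haveI : Nontrivial R := (algebraMap R (A p a x)).domain_nontrivial
  have hp := (Fact.out : p.Prime).two_le
  let B := Groth.Agent.WildAS.basis (cs p a) x hp
  let u := gen p (cs p a) x
  have hb : b = ∑ e, B.repr b e • mono p (cs p a) x e := by
    conv_lhs => rw [← B.sum_repr b]
    simp only [B, basis_apply]
  have key : ∀ i e, (e i : ℕ) ≠ 0 → B.repr b e = 0 := by
    intro i e he
    let rest : (Fin n → Fin p) → A p a x := fun e => ∏ j ∈ Finset.univ.erase i, u j ^ (e j : ℕ)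
    have hmono : ∀ e, mono p (cs p a) x e = rest e * u i ^ (e i : ℕ) := fun e => by
      rw [mul_comm]; exact (Finset.mul_prod_erase _ _ (Finset.mem_univ i)).symm
    let P : Polynomial (A p a x) := ∑ e, Polynomial.C (algebraMap R _ (B.repr b e) * rest e) * Polynomial.X ^ (e i : ℕ)
    have hPc : ∀ c : ZMod p, P.eval (u i + algebraMap R _ (ZMod.castHom (dvd_refl p) R c * a i)) = b := fun c => by
      have h1 := h (Pi.single i c)
      conv_rhs => rw [← h1, hb]
      simp only [P, Polynomial.eval_finsetSum, map_sum, map_smul]
      refine Finset.sum_congr rfl fun e _ => ?_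
      rw [hmono, map_mul (trans p a x _), map_pow (trans p a x _), Polynomial.eval_mul, Polynomial.eval_C, Polynomial.eval_pow, Polynomial.eval_X,
        mul_assoc]
      refine Eq.trans ?_ (smul_eq p a x _ _).symm
      congr 2
      · simp only [rest, map_prod, map_pow]
        refine Finset.prod_congr rfl fun j hj => ?_
        rw [trans_gen, Pi.single_eq_of_ne (Finset.ne_of_mem_erase hj), map_zero, zero_mul, map_zero, add_zero]
      · rw [trans_gen, Pi.single_eq_same]
    have hdeg : (P - Polynomial.C b).natDegree < p := by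
      refine lt_of_le_of_lt (Polynomial.natDegree_sub_le _ _) (max_lt ?_ (by rw [Polynomial.natDegree_C]; omega))
      refine lt_of_le_of_lt (Polynomial.natDegree_sum_le_of_forall_le (n := p - 1) _ _ fun e _ => ?_) (by omega)
      exact (Polynomial.natDegree_C_mul_X_pow_le _ _).trans (by have := (e i).2; omega)
    have hzero : P - Polynomial.C b = 0 := by
      refine Polynomial.eq_zero_of_natDegree_lt_card_of_eval_eq_zero _
        (f := fun c : ZMod p => u i + algebraMap R _ (ZMod.castHom (dvd_refl p) R c * a i))
        (fun c c' h => translate_injective p a x hinj ha i (add_left_cancel h))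
        (fun c => by rw [Polynomial.eval_sub, hPc, Polynomial.eval_C, sub_self]) (by rw [ZMod.card]; exact hdeg)
    have hcoef : P.coeff (e i : ℕ) = 0 := by
      rw [sub_eq_zero.1 hzero, Polynomial.coeff_C, if_neg he]
    simp only [P, Polynomial.finsetSum_coeff, Polynomial.coeff_C_mul_X_pow] at hcoef
    have h2 : ∑ e' : Fin n → Fin p, (if (e i : ℕ) = (e' i : ℕ) then B.repr b e' else 0) • B e' = 0 := by
      have := congrArg (· * u i ^ (e i : ℕ)) hcoef
      simp only [Finset.sum_mul, zero_mul] at this
      rw [← this]
      refine Finset.sum_congr rfl fun e' _ => ?_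
      split_ifs with hh
      · rw [hh, mul_assoc, ← hmono, ← smul_eq]
        simp only [B, basis_apply]
      · simp
    have := Fintype.linearIndependent_iff.1 B.linearIndependent _ h2 e
    simpa using this
  haveI : NeZero p := ⟨by omega⟩
  refine ⟨B.repr b 0, ?_⟩
  conv_rhs => rw [hb, Finset.sum_eq_single (0 : Fin n → Fin p) (fun e _ he => by
    obtain ⟨i, hi⟩ := Function.ne_iff.1 he
    rw [key i e (fun h0 => hi (Fin.ext h0)), zero_smul]) (by simp)]
  refine Eq.trans ?_ (smul_eq p a x _ _).symm
  simp [mono]

end Domain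

end Groth.Agent.CommAlg4.ASAut
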