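import Groth.Agent.CommAlg4.ASchar2

/-! Regular differentials of Artin–Schreier function fields in characteristic `2`. -/

set_option autoImplicit false
set_option backward.isDefEq.respectTransparency false

open FunFld WithZero LocRes Polynomial Groth.Agent.FF
open scoped LaurentSeries Classical

set_option synthInstance.maxHeartbeats 100000

namespace Groth.Agent.CommAlg4.ASchar2

universe u v w

variable {k : Type u} {K : Type v} [Field k] [Field K] [Algebra k K] [Algebra (RatFunc k) K]
  [IsScalarTower k (RatFunc k) K] {F : Type w} [Field F] [Algebra k F]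

local notation "ι" => algebraMap (Polynomial k) (RatFunc k)
local notation "Rk" => RatFunc k
local notation "j" => algebraMap (RatFunc k) K
local notation "xK" => algebraMap (RatFunc k) K RatFunc.X

omit [Algebra (RatFunc k) K] [IsScalarTower k (RatFunc k) K] in
/-- Derivative of a quotient of polynomials in an integral element. -/
theorem val_D_quot_le {P : Place k K} {φ : K →ₐ[k] F⸨X⸩} (hφ : IsExpansionAt P.1 φ) {z u : K} (hz : P.1 z ≤ 1)
    (a b : Polynomial k) (hb : P.1 (aeval z b) = 1) (hu : u * aeval z b = aeval z a) :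
    Valued.v (LocRes.D F (φ u)) ≤ Valued.v (LocRes.D F (φ z)) := by
  have hpoly : ∀ c : Polynomial k, Valued.v (LocRes.D F (φ (aeval z c))) ≤ Valued.v (LocRes.D F (φ z)) := fun c => by
    rw [D_rel φ (show KaehlerDifferential.D k K (aeval z c) = aeval z c.derivative • KaehlerDifferential.D k K z from
      Derivation.map_aeval _ _ _), map_mul, hφ.1]
    exact mul_le_of_le_one_left' (HyperGenus.val_aeval_le_one P hz _)
  have hu1 : P.1 u ≤ 1 := by
    have h := congrArg P.1 hu
    rw [map_mul, hb, mul_one] at h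
    rw [h]; exact HyperGenus.val_aeval_le_one P hz _
  have h := congrArg (fun t => LocRes.D F (φ t)) hu
  simp only [map_mul, Derivation.leibniz, smul_eq_mul] at h
  have h2 : φ (aeval z b) * LocRes.D F (φ u) =
      LocRes.D F (φ (aeval z a)) - φ u * LocRes.D F (φ (aeval z b)) := eq_sub_of_add_eq' h
  have h3 := congrArg (fun t => Valued.v t) h2
  simp only [map_mul, hφ.1, hb, one_mul] at h3
  rw [h3]
  refine (Valued.v.map_sub _ _).trans (max_le (hpoly a) ?_)
  rw [map_mul, hφ.1]
  exact (mul_le_mul' hu1 (hpoly b)).trans_eq (one_mul _)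

variable {y : K} {f : RatFunc k} {P : Place k K} {φ : K →ₐ[k] F⸨X⸩}

/-- The order of `dz` where `f` has a pole, `z` an integral parameter with `t` a uniformizer in `z`. -/
theorem Data.val_D_of_bad [PerfectField k] (d : Data k K y f) (hφ : IsExpansionAt P.1 φ) {p : Place k Rk}
    (hP : IsOver P p) (hp : p.ord f < 0) {z : K} {t : Rk} (ht : p.ord t = 1)
    (hDt : Valued.v (LocRes.D F (φ (j t))) = Valued.v (LocRes.D F (φ z)))
    (hu : Valued.v (LocRes.D F (φ (j (f * t ^ (-p.ord f).toNat)))) ≤ Valued.v (LocRes.D F (φ z))) :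
    Valued.v (LocRes.D F (φ z)) = exp (-(2 * wt f p)) := by
  obtain ⟨P₀, -, hall⟩ := d.bad hp
  obtain ⟨he, hy⟩ := hall P hP
  have hw := wt_bad hp (d.odd p hp)
  set m := (-p.ord f).toNat with hm
  have hm0 : (m : ℤ) = -p.ord f := by omega
  have h2 : (2 : F) = 0 := d.two F
  have hmF : ((m : ℕ) : F) = 1 := by
    obtain ⟨r, hr⟩ := d.odd p hp
    have h1 : ((m : ℤ) : F) = 1 := by
      rw [hm0, hr]; push_cast; rw [h2, zero_mul, zero_add]
      linear_combination (-1 : F) * h2
    exact_mod_cast h1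
  -- `D (φ y)`
  have hDy : Valued.v (LocRes.D F (φ y)) = exp ((m : ℤ) + 1) := by
    have := valued_D_eq_of_ord (T := φ y) (m := -(m : ℤ)) (by rw [hφ.1, hy, hm0]; simp)
      (by push_cast; rw [hmF]; exact neg_ne_zero.mpr one_ne_zero)
    rw [this]; congr 1; ring
  have hDf : Valued.v (LocRes.D F (φ (j f))) = exp ((m : ℤ) + 1) := by
    rw [← d.eq, map_add, map_pow, map_add, Derivation.leibniz_pow, nsmul_eq_mul]
    have h20 : ((2 : ℕ) : F⸨X⸩) = 0 := by
      rw [← map_natCast (HahnSeries.C : F →+* F⸨X⸩) 2, Nat.cast_ofNat, h2, map_zero]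
    rw [h20, zero_mul, zero_add, hDy]
  set T := φ (j t) with hT
  have hvT : Valued.v T = exp (-2) := by
    rw [hT, hφ.1, he, val_eq_exp_neg_ord p (fun h => by rw [h, ord_zero] at ht; exact zero_ne_one ht), ht, ← exp_nsmul]
    norm_num
  have hvf : Valued.v (φ (j f)) = exp (2 * (m : ℤ)) := by
    rw [hφ.1, he, val_eq_exp_neg_ord p d.f_ne, ← exp_nsmul, hm0, nsmul_eq_mul]; push_cast; ring_nf
  rw [map_mul, map_mul, map_pow, map_pow, Derivation.leibniz, Derivation.leibniz_pow, nsmul_eq_mul, smul_eq_mul,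
    smul_eq_mul, smul_eq_mul, show ((m : ℕ) : F⸨X⸩) = 1 by
      rw [← map_natCast (HahnSeries.C : F →+* F⸨X⸩) m, hmF, map_one], one_mul] at hu
  set A := φ (j f) * (T ^ (m - 1) * LocRes.D F T)
  set B := T ^ m * LocRes.D F (φ (j f))
  have hA : Valued.v A = exp 2 * Valued.v (LocRes.D F (φ z)) := by
    rw [map_mul, map_mul, map_pow, hvT, hvf, hDt, ← exp_nsmul, ← mul_assoc, ← exp_add]
    congr 2
    rw [nsmul_eq_mul]
    have : ((m - 1 : ℕ) : ℤ) = (m : ℤ) - 1 := by omega
    rw [this]; ring
  have hB : Valued.v B = exp (1 - (m : ℤ)) := by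
    rw [map_mul, map_pow, hvT, hDf, ← exp_nsmul, ← exp_add]
    congr 1
    rw [nsmul_eq_mul]; ring
  have hlt : Valued.v (A + B) < Valued.v A := by
    refine hu.trans_lt ?_
    rw [hA]
    rcases eq_or_ne (Valued.v (LocRes.D F (φ z))) 0 with h0 | h0
    · exfalso
      rw [h0, le_zero_iff, map_eq_zero, add_eq_zero_iff_eq_neg] at hu
      have : Valued.v A = Valued.v B := by rw [hu, Valuation.map_neg]
      rw [hA, hB, h0, mul_zero] at this
      exact exp_ne_zero this.symm
    · calc Valued.v (LocRes.D F (φ z)) = 1 * Valued.v (LocRes.D F (φ z)) := (one_mul _).symm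
        _ < exp 2 * Valued.v (LocRes.D F (φ z)) := by
          refine mul_lt_mul_of_pos_right ?_ (zero_lt_iff.mpr h0)
          exact exp_zero.symm.trans_lt (exp_lt_exp.mpr (by norm_num : (0 : ℤ) < 2))
  have hAB : Valued.v B = Valued.v A := by
    have := Valuation.map_sub_eq_of_lt_right Valued.v hlt
    rwa [add_sub_cancel_left] at this
  rw [hA, hB] at hAB
  rw [show -(2 * wt f p) = -2 + (1 - (m : ℤ)) by omega, exp_add, hAB, ← mul_assoc, ← exp_add]
  simp

/-- The divisor below cutting out the regular differentials. -/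
noncomputable def diffDiv (f : Rk) : Divisor k Rk := wDiv f - (2 : ℤ) • poles (k := k) (RatFunc.X : Rk)

theorem Data.val_dX [PerfectField k] (d : Data k K y f) (hφ : IsExpansionAt P.1 φ) :
    Valued.v (LocRes.D F (φ xK)) = exp (-conorm K (diffDiv f) P) := by
  have := d.finite
  obtain ⟨p, e, hepos, he⟩ := exists_isOverWith (K := Rk) isFF'_ratFunc P
  have hX0 : (RatFunc.X : Rk) ≠ 0 := RatFunc.X_ne_zero
  rw [conorm_apply isFF'_ratFunc _ ⟨e, he⟩, ow_ramIdx_eq he, diffDiv, Finsupp.sub_apply, Finsupp.smul_apply,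
    poles_apply isFunctionField_ratFunc, wDiv_apply, smul_eq_mul]
  have hjq : ∀ g : Polynomial k, j (ι g) = aeval xK g := fun g => by
    rw [show ι g = aeval (RatFunc.X : Rk) g by
      rw [← RatFunc.algebraMap_X, aeval_algebraMap_apply, aeval_X_left_apply], aeval_algebraMap_apply]
  have hgood : ∀ {t : Rk}, ¬ p.ord f < 0 → p.ord t = 1 → Valued.v (LocRes.D F (φ (j t))) = 1 ∧ e = 1 := by
    intro t hp ht
    obtain ⟨he1, -⟩ := d.good hp ⟨e, he⟩
    obtain rfl := ow_eq he he1
    refine ⟨valued_D_eq_of_ord (m := 1) ?_ (by simp) |>.trans (by simp), rfl⟩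
    rw [hφ.1, he, pow_one, val_eq_exp_neg_ord p (fun h => by rw [h, ord_zero] at ht; exact zero_ne_one ht), ht]
  have hbad : p.ord f < 0 → e = 2 := fun hp => by
    obtain ⟨P₀, -, hall⟩ := d.bad hp
    exact ow_eq he (hall P ⟨e, he⟩).1
  by_cases hX : p.1 RatFunc.X ≤ 1
  · rw [max_eq_right (by have := (val_le_one_iff p hX0).mp hX; omega), mul_zero, sub_zero]
    obtain ⟨q, hq, hq1, hq0⟩ := exists_prime_of_finite p hX
    have hPX : P.1 xK ≤ 1 := (ow_le_one_iff he _).mpr hX
    have hsep := PerfectField.separable_of_irreducible hq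
    have hq' : q.derivative ≠ 0 := fun h => hq.not_isUnit (by
      have := hsep; rw [Polynomial.separable_def, h, isCoprime_zero_right] at this; exact this)
    have hnd : ¬ q ∣ q.derivative := fun h =>
      not_lt.mpr (Polynomial.degree_le_of_dvd h hq') (Polynomial.degree_derivative_lt hq.ne_zero)
    have hDq : Valued.v (LocRes.D F (φ (j (ι q)))) = Valued.v (LocRes.D F (φ xK)) := by
      rw [hjq, D_rel φ (show KaehlerDifferential.D k K (aeval xK q) = aeval xK q.derivative • KaehlerDifferential.D k K xK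
        from Derivation.map_aeval _ _ _), map_mul, hφ.1, ← hjq, he, val_eq_exp_neg_ord p (ι_ne_zero hq'),
        hq0 _ hnd, neg_zero, exp_zero, one_pow, one_mul]
    by_cases hp : p.ord f < 0
    · rw [d.val_D_of_bad hφ ⟨e, he⟩ hp hq1 hDq, hbad hp]
      · norm_num
      set m := (-p.ord f).toNat
      set u := f * ι q ^ m with hu
      have hu0 : u ≠ 0 := mul_ne_zero d.f_ne (pow_ne_zero _ (ι_ne_zero hq.ne_zero))
      have hordu : p.ord u = 0 := by
        rw [hu, ord_mul p d.f_ne (pow_ne_zero _ (ι_ne_zero hq.ne_zero)), ord_pow', hq1]; omega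
      have hden : p.ord (ι u.denom) = 0 := by
        refine hq0 _ fun hdvd => ?_
        have h1 := hq0 u.num fun hdvd' => hq.not_isUnit ((RatFunc.isCoprime_num_denom u).isUnit_of_dvd' hdvd' hdvd)
        obtain ⟨c, hc⟩ := hdvd
        have hc0 : c ≠ 0 := fun h => RatFunc.denom_ne_zero u (by rw [hc, h, mul_zero])
        have h2 : p.ord (ι u.num) = p.ord u + (p.ord (ι q) + p.ord (ι c)) := by
          rw [← ord_mul p (ι_ne_zero hq.ne_zero) (ι_ne_zero hc0), ← map_mul, ← hc,
            ← ord_mul p hu0 (ι_ne_zero (RatFunc.denom_ne_zero u))]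
          congr 1
          have := RatFunc.num_div_denom u
          rw [div_eq_iff (ι_ne_zero (RatFunc.denom_ne_zero u))] at this
          exact this
        have h3 := (val_le_one_iff p (ι_ne_zero hc0)).mp (val_poly_le_one p hX c)
        omega
      refine val_D_quot_le hφ hPX u.num u.denom ?_ ?_
      · rw [← hjq, he, val_eq_exp_neg_ord p (ι_ne_zero (RatFunc.denom_ne_zero u)), hden, neg_zero, exp_zero, one_pow]
      · rw [← hjq, ← hjq, ← map_mul]
        congr 1
        have := RatFunc.num_div_denom u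
        rw [div_eq_iff (ι_ne_zero (RatFunc.denom_ne_zero u))] at this
        exact this.symm
    · obtain ⟨h1, -⟩ := hgood hp hq1
      rw [← hDq, h1, wt, if_neg hp, mul_zero, neg_zero, exp_zero]
  · obtain ⟨-, hordg⟩ := infinite_place p hX
    have hpX : p.ord (RatFunc.X : Rk) = -1 := by
      rw [← RatFunc.algebraMap_X, hordg _ Polynomial.X_ne_zero]; simp
    have hpt : p.ord (RatFunc.X : Rk)⁻¹ = 1 := by rw [ord_inv, hpX]; norm_num
    set z := j (RatFunc.X : Rk)⁻¹ with hz
    have hz1 : P.1 z ≤ 1 := (ow_le_one_iff he _).mpr ((val_le_one_iff p (inv_ne_zero hX0)).mpr (by omega))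
    have hvz : Valued.v (φ z) = exp (-(e : ℤ)) := by
      rw [hφ.1, hz, he, val_eq_exp_neg_ord p (inv_ne_zero hX0), hpt, ← exp_nsmul]; simp
    have hDz : Valued.v (LocRes.D F (φ z)) = exp (-((e : ℤ) * wt f p)) := by
      by_cases hp : p.ord f < 0
      · rw [d.val_D_of_bad hφ ⟨e, he⟩ hp hpt rfl, hbad hp]
        · norm_num
        set m := (-p.ord f).toNat with hm
        have hn0 := RatFunc.num_ne_zero d.f_ne
        have hd0 := RatFunc.denom_ne_zero f
        have hnd : ι f.num = f * ι f.denom := by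
          have := RatFunc.num_div_denom f
          rwa [div_eq_iff (ι_ne_zero hd0)] at this
        have hdeg : f.num.natDegree = f.denom.natDegree + m := by
          have := congrArg p.ord hnd
          rw [ord_mul p d.f_ne (ι_ne_zero hd0), hordg _ hn0, hordg _ hd0] at this
          omega
        have hrev : ∀ g : Polynomial k, aeval z g.reverse * xK ^ g.natDegree = aeval xK g := fun g => by
          have hx0 : xK ≠ 0 := (_root_.map_ne_zero j).mpr hX0
          letI := invertibleOfNonzero hx0
          rw [show z = ⅟xK by rw [invOf_eq_inv, hz, map_inv₀]]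
          exact Polynomial.eval₂_reverse_mul_pow (algebraMap k K) xK g
        refine val_D_quot_le hφ hz1 f.num.reverse f.denom.reverse ?_ ?_
        · have h1 := congrArg P.1 (hrev f.denom)
          rw [map_mul, map_pow, ← hjq, he, he, val_eq_exp_neg_ord p (ι_ne_zero hd0), val_eq_exp_neg_ord p hX0,
            hordg _ hd0, hpX, ← exp_nsmul, ← exp_nsmul, ← exp_nsmul] at h1
          rcases eq_or_ne (P.1 (aeval z f.denom.reverse)) 0 with h0 | h0
          · rw [h0, zero_mul] at h1; exact absurd h1.symm exp_ne_zero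
          · rw [← exp_log h0, ← exp_add, exp_inj, nsmul_eq_mul, nsmul_eq_mul, nsmul_eq_mul] at h1
            push_cast at h1
            rw [← exp_log h0]
            exact (exp_inj.mpr (by linarith)).trans exp_zero
        · refine mul_right_cancel₀ (pow_ne_zero f.num.natDegree ((_root_.map_ne_zero j).mpr hX0)) ?_
          rw [hrev f.num, mul_assoc, map_mul, map_pow, ← hz]
          conv_lhs => rw [hdeg, pow_add, ← mul_assoc (aeval z f.denom.reverse), hrev f.denom, ← hjq,
            mul_comm (j f) (z ^ m), mul_assoc, ← mul_assoc (j f), ← map_mul, ← hnd, hjq,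
            mul_comm (aeval xK f.num), ← mul_assoc, ← mul_pow, hz, ← map_mul, inv_mul_cancel₀ hX0, map_one,
            one_pow, one_mul]
      · obtain ⟨h1, -⟩ := hgood hp hpt
        rw [h1, wt, if_neg hp, mul_zero, neg_zero, exp_zero]
    have hXz : φ xK = (φ z)⁻¹ := by rw [hz, ← map_inv₀, ← map_inv₀, inv_inv]
    rw [hXz, Derivation.leibniz_inv, smul_eq_mul, map_mul, Valuation.map_neg, map_pow, map_inv₀, hvz, hDz,
      ← exp_neg, ← exp_nsmul, ← exp_add, max_eq_left (by omega), hpX]
    congr 1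
    rw [nsmul_eq_mul]; push_cast; ring

theorem Data.deg_diffDiv (d : Data k K y f) (hK : IsFunctionField k K) [PerfectField k] :
    (diffDiv f).deg = (genus k K : ℤ) - 1 := by
  have hX : Transcendental k (RatFunc.X : Rk) :=
    transcendental_of_adjoin_eq_top (isFunctionField_ratFunc (k := k)) RatFunc.adjoin_X
  rw [diffDiv, deg_sub, deg_zsmul, deg_poles isFunctionField_ratFunc hX, RatFunc.adjoin_X,
    IntermediateField.finrank_top, d.genus_eq hK]
  push_cast; ring

/-- The regular differentials `z dx`. -/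
theorem Data.regular_iff [PerfectField k] (d : Data k K y f) (hK : IsFunctionField k K)
    (F : Place k K → Type w) [∀ P, Field (F P)] [∀ P, Algebra k (F P)]
    (φ : ∀ P, K →ₐ[k] (F P)⸨X⸩) (hφ : ∀ P, IsExpansionAt P.1 (φ P)) (w : K) :
    (∀ P, vDiff (φ P) w xK ≤ 1) ↔ ∃ a ∈ L (diffDiv f), w = j a := by
  have h1 : (∀ P, vDiff (φ P) w xK ≤ 1) ↔ w ∈ L (conorm K (diffDiv f)) := by
    refine forall_congr' fun P => ?_
    rw [vDiff, map_mul, (hφ P).1, d.val_dX (hφ P), exp_neg, ← div_eq_mul_inv,
      div_le_one₀ (by exact zero_lt_iff.mpr exp_ne_zero)]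
  rw [h1]
  have hbot : L (diffDiv f - wDiv f) = ⊥ := by
    refine L_eq_bot_of_deg_neg isFunctionField_ratFunc ?_
    rw [deg_sub, d.deg_diffDiv hK, d.genus_eq hK]; omega
  constructor
  · intro hw
    obtain ⟨⟨a, b⟩, rfl⟩ := d.toK_bij.2 w
    obtain ⟨ha, hb⟩ := (d.mem_L_conorm _ a b).mp hw
    rw [hbot, Submodule.mem_bot] at hb
    exact ⟨a, ha, by subst hb; show j a + j 0 * y = j a; rw [map_zero, zero_mul, add_zero]⟩
  · rintro ⟨a, ha, rfl⟩
    have := (d.mem_L_conorm (diffDiv f) a 0).mpr ⟨ha, zero_mem _⟩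
    rwa [map_zero, zero_mul, add_zero] at this

theorem Data.ell_diffDiv [PerfectField k] (d : Data k K y f) (hK : IsFunctionField k K) :
    ell (diffDiv f) = genus k K := by
  have h := ell_ratFunc (D := diffDiv f) (by rw [d.deg_diffDiv hK]; omega)
  rw [d.deg_diffDiv hK] at h
  omega

end Groth.Agent.CommAlg4.ASchar2
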