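import Groth.Agent.ArSing15.Basis
import Mathlib

/-! Even and odd parts for `k[[x,y]]/(y^2-x^(r+1))` in its `k[[x]]`-basis `1, y`. -/

set_option autoImplicit false

universe u

namespace Groth.Agent.CommAlg4.ASFold

open Groth.Agent.ArSing15

variable {k : Type u} [Field k]

local notation "P" => PowerSeries k

variable (k) in
/-- `X ↦ -X`. -/
noncomputable def neg : P →ₐ[k] P :=
  { PowerSeries.rescale (-1 : k) with
    commutes' := fun c => by
      refine PowerSeries.ext fun n => ?_
      show PowerSeries.coeff n (PowerSeries.rescale (-1 : k) (algebraMap k P c)) = _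
      rw [PowerSeries.coeff_rescale, PowerSeries.algebraMap_apply, PowerSeries.coeff_C]
      rcases n with _ | n <;> simp }

theorem coeff_neg (a : P) (n : ℕ) : PowerSeries.coeff n (neg k a) = (-1) ^ n * PowerSeries.coeff n a :=
  PowerSeries.coeff_rescale _ _ _

theorem neg_X : neg k PowerSeries.X = -PowerSeries.X := by
  refine PowerSeries.ext fun n => ?_
  rw [coeff_neg, map_neg, PowerSeries.coeff_X]
  split_ifs with h <;> simp [h]

variable (k) in
/-- `X ↦ X^2`. -/
noncomputable def sq : P →ₐ[k] P := PowerSeries.expand 2 two_ne_zero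

theorem coeff_sq_even (a : P) (n : ℕ) : PowerSeries.coeff (2 * n) (sq k a) = PowerSeries.coeff n a :=
  PowerSeries.coeff_expand_mul 2 two_ne_zero a n

theorem coeff_sq_odd (a : P) (n : ℕ) : PowerSeries.coeff (2 * n + 1) (sq k a) = 0 :=
  PowerSeries.coeff_expand_of_not_dvd 2 two_ne_zero a (by omega)

theorem coeff_X_sq_odd (a : P) (n : ℕ) : PowerSeries.coeff (2 * n + 1) (PowerSeries.X * sq k a) = PowerSeries.coeff n a := by
  rw [PowerSeries.coeff_succ_X_mul, coeff_sq_even]

theorem coeff_X_sq_even (a : P) (n : ℕ) : PowerSeries.coeff (2 * n) (PowerSeries.X * sq k a) = 0 := by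
  rcases n with _ | n
  · simp
  · rw [show 2 * (n + 1) = (2 * n + 1) + 1 by ring, PowerSeries.coeff_succ_X_mul, coeff_sq_odd]

theorem split (a : P) : ∃ c d : P, a = sq k c + PowerSeries.X * sq k d := by
  refine ⟨PowerSeries.mk fun n => PowerSeries.coeff (2 * n) a,
    PowerSeries.mk fun n => PowerSeries.coeff (2 * n + 1) a, PowerSeries.ext fun n => ?_⟩
  rcases Nat.even_or_odd' n with ⟨m, rfl | rfl⟩
  · rw [map_add, coeff_sq_even, coeff_X_sq_even, PowerSeries.coeff_mk, add_zero]
  · rw [map_add, coeff_sq_odd, coeff_X_sq_odd, PowerSeries.coeff_mk, zero_add]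

theorem split_unique {c d c' d' : P} (h : sq k c + PowerSeries.X * sq k d = sq k c' + PowerSeries.X * sq k d') :
    c = c' ∧ d = d' := by
  constructor <;> refine PowerSeries.ext fun n => ?_
  · have := congrArg (PowerSeries.coeff (2 * n)) h
    simpa only [map_add, coeff_sq_even, coeff_X_sq_even, add_zero] using this
  · have := congrArg (PowerSeries.coeff (2 * n + 1)) h
    simpa only [map_add, coeff_sq_odd, coeff_X_sq_odd, zero_add] using this

theorem sq_injective : Function.Injective (sq k) := fun c c' h =>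
  (split_unique (d := 0) (d' := 0) (by simpa using h)).1

theorem neg_eq_self_iff (h2 : (2 : k) ≠ 0) (a : P) : neg k a = a ↔ ∃ c, a = sq k c := by
  constructor
  · intro h
    obtain ⟨c, d, rfl⟩ := split a
    refine ⟨c, ?_⟩
    suffices d = 0 by simp [this]
    refine PowerSeries.ext fun n => ?_
    have := congrArg (PowerSeries.coeff (2 * n + 1)) h
    rw [coeff_neg, map_add, coeff_sq_odd, coeff_X_sq_odd, pow_succ, pow_mul, neg_one_sq, one_pow] at this
    simp only [zero_add, one_mul, neg_mul] at this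
    have h' : (2 : k) * PowerSeries.coeff n d = 0 := by linear_combination -this
    simpa using (mul_eq_zero.1 h').resolve_left h2
  · rintro ⟨c, rfl⟩
    refine PowerSeries.ext fun n => ?_
    rcases Nat.even_or_odd' n with ⟨m, rfl | rfl⟩
    · rw [coeff_neg, pow_mul, neg_one_sq, one_pow, one_mul]
    · rw [coeff_neg, coeff_sq_odd, mul_zero]

theorem neg_eq_neg_self_iff (h2 : (2 : k) ≠ 0) (a : P) : neg k a = -a ↔ ∃ c, a = PowerSeries.X * sq k c := by
  constructor
  · intro h
    obtain ⟨c, d, rfl⟩ := split a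
    refine ⟨d, ?_⟩
    suffices c = 0 by simp [this]
    refine PowerSeries.ext fun n => ?_
    have := congrArg (PowerSeries.coeff (2 * n)) h
    rw [coeff_neg, map_neg, map_add, coeff_sq_even, coeff_X_sq_even, pow_mul, neg_one_sq, one_pow] at this
    simp only [add_zero, one_mul] at this
    have h' : (2 : k) * PowerSeries.coeff n c = 0 := by linear_combination this
    simpa using (mul_eq_zero.1 h').resolve_left h2
  · rintro ⟨c, rfl⟩
    rw [map_mul, neg_X, (neg_eq_self_iff h2 _).2 ⟨c, rfl⟩, neg_mul]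

theorem X_dvd_neg_sub (a : P) : PowerSeries.X ∣ neg k a - a := by
  rw [PowerSeries.X_dvd_iff, map_sub, ← PowerSeries.coeff_zero_eq_constantCoeff_apply, coeff_neg]
  simp

theorem map_xMap {r r' : ℕ} (Θ : ArSing.ring k r' →ₐ[k] ArSing.ring k r) (ψ : P →ₐ[k] P)
    (h : Θ (ArSing.x k r') = ArSing.xMap k r (ψ PowerSeries.X)) (a : P) :
    Θ (ArSing.xMap k r' a) = ArSing.xMap k r (ψ a) := by
  have hJ : Ideal.span ({ArSing.eqn k r} : Set (MvPowerSeries (Fin 2) k)) ≤
      RingHom.ker (MvPowerSeries.constantCoeff : MvPowerSeries (Fin 2) k →+* k) := by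
    rw [Ideal.span_le, Set.singleton_subset_iff]
    simp [ArSing.eqn]
  have key := CommAlg4.ASInvolution.hom_ext_quot hJ
    (Θ.comp ((ArSing.xMap k r').comp axisA)) ((ArSing.xMap k r).comp (ψ.comp axisA)) (fun i => by
      fin_cases i
      · show Θ (ArSing.xMap k r' (CommAlg4.DoubleLine.axis (MvPowerSeries.X 0))) =
          ArSing.xMap k r (ψ (CommAlg4.DoubleLine.axis (MvPowerSeries.X 0)))
        rw [CommAlg4.DoubleLine.axis_X0, xMap_X, h]
      · show Θ (ArSing.xMap k r' (CommAlg4.DoubleLine.axis (MvPowerSeries.X 1))) =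
          ArSing.xMap k r (ψ (CommAlg4.DoubleLine.axis (MvPowerSeries.X 1)))
        rw [(CommAlg4.DoubleLine.axis_eq_zero_iff _).2 (Ideal.mem_span_singleton_self _)]
        simp only [map_zero])
  have := AlgHom.congr_fun key (ι a)
  simpa [axisA_ι] using this

theorem pair_add (r : ℕ) (u v : P × P) : pair k r u + pair k r v = pair k r (u + v) := by
  simp only [pair, Prod.fst_add, Prod.snd_add, map_add]; ring

theorem xMap_mul_pair (r : ℕ) (c : P) (u : P × P) :
    ArSing.xMap k r c * pair k r u = pair k r (c * u.1, c * u.2) := by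
  simp only [pair, map_mul]; ring

theorem x_mul_pair (r : ℕ) (u : P × P) :
    ArSing.x k r * pair k r u = pair k r (PowerSeries.X * u.1, PowerSeries.X * u.2) := by
  rw [← xMap_X, xMap_mul_pair]

theorem mem_span_x_iff (r : ℕ) (u : P × P) :
    pair k r u ∈ Ideal.span {ArSing.x k r} ↔ PowerSeries.X ∣ u.1 ∧ PowerSeries.X ∣ u.2 := by
  rw [Ideal.mem_span_singleton]
  constructor
  · rintro ⟨z, hz⟩
    obtain ⟨v, rfl⟩ := pair_surjective (k := k) r z
    rw [x_mul_pair] at hz
    exact ⟨⟨v.1, congrArg Prod.fst (pair_injective r hz)⟩, ⟨v.2, congrArg Prod.snd (pair_injective r hz)⟩⟩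
  · rintro ⟨⟨a, ha⟩, ⟨b, hb⟩⟩
    exact ⟨pair k r (a, b), by rw [x_mul_pair, ← ha, ← hb]⟩

theorem mem_span_xy_iff (r : ℕ) (u : P × P) :
    pair k r u ∈ Ideal.span {ArSing.x k r, ArSing.y k r} ↔ PowerSeries.X ∣ u.1 := by
  rw [Ideal.mem_span_pair]
  constructor
  · rintro ⟨z, w, hz⟩
    obtain ⟨v, rfl⟩ := pair_surjective (k := k) r z
    obtain ⟨⟨w1, w2⟩, rfl⟩ := pair_surjective (k := k) r w
    rw [mul_comm _ (ArSing.x k r), x_mul_pair, mul_comm _ (ArSing.y k r), y_mul_pair, pair_add] at hz
    have h1 := congrArg Prod.fst (pair_injective r hz)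
    refine ⟨v.1 + PowerSeries.X ^ r * w2, ?_⟩
    rw [← h1]
    show PowerSeries.X * v.1 + PowerSeries.X ^ (r + 1) * w2 = _
    ring
  · rintro ⟨a, ha⟩
    refine ⟨pair k r (a, 0), pair k r (u.2, 0), ?_⟩
    rw [mul_comm _ (ArSing.x k r), x_mul_pair, mul_comm _ (ArSing.y k r), y_mul_pair, pair_add, show u = (u.1, u.2) from rfl, ha]
    simp

theorem isMaximal_span_xy (r : ℕ) : (Ideal.span {ArSing.x k r, ArSing.y k r}).IsMaximal := by
  have h1 : (1 : ArSing.ring k r) = pair k r (1, 0) := by simp [pair]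
  rw [Ideal.isMaximal_iff]
  refine ⟨fun h => ?_, fun J z hle hz hzJ => ?_⟩
  · rw [h1, mem_span_xy_iff] at h
    exact PowerSeries.X_prime.not_unit (isUnit_of_dvd_one h)
  · obtain ⟨⟨a, b⟩, rfl⟩ := pair_surjective (k := k) r z
    rw [mem_span_xy_iff] at hz
    have hu : IsUnit (ArSing.xMap k r a) := by
      refine IsUnit.map _ ?_
      rw [PowerSeries.isUnit_iff_constantCoeff, isUnit_iff_ne_zero]
      exact fun h => hz (PowerSeries.X_dvd_iff.2 h)
    have hyb : ArSing.y k r * ArSing.xMap k r b ∈ J :=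
      J.mul_mem_right _ (hle (Ideal.subset_span (Set.mem_insert_of_mem _ rfl)))
    have := J.sub_mem hzJ hyb
    rw [show pair k r (a, b) - ArSing.y k r * ArSing.xMap k r b = ArSing.xMap k r a from add_sub_cancel_right _ _] at this
    obtain ⟨w, hw⟩ := hu.exists_left_inv
    exact hw ▸ J.mul_mem_left w this

end Groth.Agent.CommAlg4.ASFold
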