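import Mathlib
import Groth.Agent.WildAS.Basic
import Groth.Agent.CommAlg4.ASAut

/-! Translations of Artin–Schreier algebras: elimination, minor elements, saturation. -/

set_option autoImplicit false
set_option linter.all false
universe u

open Polynomial

namespace Groth.Agent.CommAlg4.ASMinor

open Groth.Agent.WildAS Groth.Agent.CommAlg4.ASAut

/-- A polynomial of degree `< p` constant on `p` translates is constant. -/
theorem const_of_translates {p : ℕ} [Fact p.Prime] {A : Type u} [CommRing A] [IsDomain A] [CharP A p]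
    (P : A[X]) (hdeg : P.natDegree < p) (u w t : A) (hw : w ≠ 0)
    (h : ∀ c : ZMod p, P.eval (u + ZMod.castHom (dvd_refl p) A c * w) = t) : P = C t := by
  rw [← sub_eq_zero]
  refine Polynomial.eq_zero_of_natDegree_lt_card_of_eval_eq_zero _
    (f := fun c : ZMod p => u + ZMod.castHom (dvd_refl p) A c * w)
    (fun a b hab => (ZMod.castHom (dvd_refl p) A).injective (mul_right_cancel₀ hw (add_left_cancel hab)))
    (fun c => by rw [eval_sub, h, eval_C, sub_self]) ?_
  rw [natDegree_sub_C, ZMod.card]; exact hdeg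

/-- Elements of `R[S, u]`, `u ^ p = s₁ u + s₀`, are polynomials of degree `< p` in `u` over `R[S]`. -/
theorem exists_poly {R A : Type u} [CommRing R] [CommRing A] [Nontrivial A] [Algebra R A] {p : ℕ} (hp : 2 ≤ p)
    (S : Set A) (u s₁ s₀ : A) (h₁ : s₁ ∈ Algebra.adjoin R S) (h₀ : s₀ ∈ Algebra.adjoin R S)
    (hu : u ^ p = s₁ * u + s₀) (t : A) (ht : t ∈ Algebra.adjoin R (insert u S)) :
    ∃ Q : A[X], Q.natDegree < p ∧ (∀ i, Q.coeff i ∈ Algebra.adjoin R S) ∧ Q.eval u = t := by
  set T := Algebra.adjoin R S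
  have ex : ∃ P : T[X], Polynomial.aeval u P = t := by
    induction ht using Algebra.adjoin_induction with
    | mem x hx =>
      rcases hx with rfl | hx
      · exact ⟨X, aeval_X _⟩
      · exact ⟨C ⟨x, Algebra.subset_adjoin hx⟩, aeval_C _ _⟩
    | algebraMap r => exact ⟨C (algebraMap R T r), aeval_C _ _⟩
    | add x y _ _ hx hy => obtain ⟨P, rfl⟩ := hx; obtain ⟨Q, rfl⟩ := hy; exact ⟨P + Q, map_add _ _ _⟩
    | mul x y _ _ hx hy => obtain ⟨P, rfl⟩ := hx; obtain ⟨Q, rfl⟩ := hy; exact ⟨P * Q, map_mul _ _ _⟩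
  obtain ⟨P, rfl⟩ := ex
  let g : T[X] := X ^ p - (C ⟨s₁, h₁⟩ * X + C ⟨s₀, h₀⟩)
  have hdlt : (C (⟨s₁, h₁⟩ : T) * X + C (⟨s₀, h₀⟩ : T)).degree < (p : WithBot ℕ) :=
    lt_of_le_of_lt degree_linear_le (by exact_mod_cast (show 1 < p by omega))
  have hg : g.Monic := monic_X_pow_sub hdlt
  have hgd : g.natDegree = p := by
    refine natDegree_eq_of_degree_eq_some ?_
    rw [degree_sub_eq_left_of_degree_lt (by rwa [degree_X_pow]), degree_X_pow]
  have hroot : Polynomial.aeval u g = 0 := by
    simp only [g, map_sub, map_add, map_pow, map_mul, aeval_X, aeval_C]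
    show u ^ p - (s₁ * u + s₀) = 0
    rw [hu, sub_self]
  refine ⟨(P %ₘ g).map (algebraMap T A), ?_, fun i => ?_, ?_⟩
  · exact lt_of_le_of_lt natDegree_map_le (lt_of_lt_of_le (natDegree_modByMonic_lt _ hg
      (fun h => by rw [h, natDegree_one] at hgd; omega)) hgd.le)
  · rw [coeff_map]; exact ((P %ₘ g).coeff i).2
  · rw [eval_map, ← aeval_def]
    conv_rhs => rw [← modByMonic_add_div P g]
    rw [map_add, map_mul, hroot, zero_mul, add_zero]

/-- Scaling into a subalgebra is detected on generators. -/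
theorem exists_pow_mul_mem {R : Type u} [CommRing R] {n : ℕ} {p : ℕ} (c x : Fin n → R)
    (S : Subalgebra R (Alg p c x)) (D : R)
    (h : ∀ i, ∃ N : ℕ, algebraMap R _ D ^ N * gen p c x i ∈ S) (t : Alg p c x) :
    ∃ N : ℕ, algebraMap R _ D ^ N * t ∈ S := by
  have hD : ∀ {N M : ℕ} {y : Alg p c x}, algebraMap R _ D ^ N * y ∈ S → algebraMap R _ D ^ (M + N) * y ∈ S :=
    fun {N M y} hy => by rw [pow_add, mul_assoc]; exact mul_mem (pow_mem (S.algebraMap_mem _) _) hy
  obtain ⟨P, rfl⟩ := Ideal.Quotient.mk_surjective t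
  induction P using MvPolynomial.induction_on with
  | C r => exact ⟨0, by rw [pow_zero, one_mul]; exact S.algebraMap_mem r⟩
  | add P Q hP hQ =>
    obtain ⟨N, hN⟩ := hP
    obtain ⟨M, hM⟩ := hQ
    refine ⟨N + M, ?_⟩
    rw [map_add, mul_add]
    exact add_mem (by rw [add_comm N]; exact hD hN) (hD hM)
  | mul_X P i hP =>
    obtain ⟨N, hN⟩ := hP
    obtain ⟨M, hM⟩ := h i
    refine ⟨N + M, ?_⟩
    rw [map_mul, pow_add, mul_mul_mul_comm]
    exact mul_mem hN hM

section Trans
variable {R : Type u} [CommRing R] {n : ℕ} {p : ℕ} [Fact p.Prime] [CharP R p] (a x : Fin n → R)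
  (hinj : Function.Injective (algebraMap R (A p a x)))

include hinj in
theorem charP_alg : CharP (A p a x) p := charP_of_injective_algebraMap hinj p

theorem trans_sub_mem (d : Fin n → ZMod p) (w : R) (hw : ∀ i, w ∣ ZMod.castHom (dvd_refl p) R (d i) * a i)
    (t : A p a x) : trans p a x d t - t ∈ Ideal.span {algebraMap R (A p a x) w} := by
  refine (Ideal.Quotient.eq).1 ?_
  have h : (Ideal.Quotient.mkₐ R (Ideal.span {algebraMap R (A p a x) w})).comp (trans p a x d) = Ideal.Quotient.mkₐ R _ :=
    Ideal.Quotient.algHom_ext _ (MvPolynomial.algHom_ext fun i => by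
      show Ideal.Quotient.mk _ (trans p a x d (gen p _ x i)) = Ideal.Quotient.mk _ (gen p _ x i)
      rw [trans_gen, map_add, add_eq_left, Ideal.Quotient.eq_zero_iff_mem, Ideal.mem_span_singleton]
      exact map_dvd _ (hw i))
  exact AlgHom.congr_fun h t

theorem exists_delta_pow (d : Fin n → ZMod p) (w : R) (hw : ∀ i, w ∣ ZMod.castHom (dvd_refl p) R (d i) * a i)
    (j : ℕ) (t : A p a x) :
    ∃ t', (((trans p a x d).toLinearMap - 1 : Module.End R (A p a x)) ^ j) t = algebraMap R _ w ^ j * t' := by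
  induction j with
  | zero => exact ⟨t, by simp⟩
  | succ j ih =>
    obtain ⟨t', ht'⟩ := ih
    obtain ⟨t'', h2⟩ := Ideal.mem_span_singleton'.1 (trans_sub_mem a x d w hw t')
    refine ⟨t'', ?_⟩
    rw [pow_succ', Module.End.mul_apply, ht']
    show trans p a x d (_ * t') - _ * t' = _
    rw [map_mul, map_pow, AlgHom.commutes, ← mul_sub, ← h2, pow_succ]
    ring

/-- `(σ - 1)^j` on polynomials of degree `≤ j` in an element translated by `e`. -/
theorem delta_pow_aeval (d : Fin n → ZMod p) (z : A p a x) (e : R)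
    (hz : trans p a x d z = z + algebraMap R _ e) :
    ∀ (j : ℕ) (P : R[X]), P.natDegree ≤ j →
      (((trans p a x d).toLinearMap - 1 : Module.End R (A p a x)) ^ j) (Polynomial.aeval z P) =
        algebraMap R _ ((Nat.factorial j : R) * e ^ j * P.coeff j) := by
  intro j
  induction j with
  | zero =>
    intro P hP
    rw [eq_C_of_natDegree_le_zero hP]
    simp
  | succ j ih =>
    intro P hP
    have hco : ∀ l, (P.comp (X + C e)).coeff l =
        ∑ i ∈ Finset.range (j + 2), P.coeff i * (e ^ (i - l) * (i.choose l : R)) := fun l => by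
      conv_lhs => rw [P.as_sum_range' (j + 2) (by omega)]
      simp [sum_comp, ← C_mul_X_pow_eq_monomial, finsetSum_coeff, coeff_C_mul, coeff_X_add_C_pow]
    have h1 : (trans p a x d) (Polynomial.aeval z P) - Polynomial.aeval z P
        = Polynomial.aeval z (P.comp (X + C e) - P) := by
      rw [map_sub, aeval_comp, map_add, aeval_X, aeval_C, ← hz, aeval_algHom_apply]
    have hd : (P.comp (X + C e) - P).natDegree ≤ j := by
      rw [natDegree_le_iff_coeff_eq_zero]
      intro l hl
      rw [coeff_sub, hco, Finset.sum_eq_single l]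
      · simp
      · intro i hi hil
        rw [Nat.choose_eq_zero_of_lt (by have := Finset.mem_range.1 hi; omega)]; simp
      · intro hl2
        rw [Finset.mem_range, not_lt] at hl2
        rw [coeff_eq_zero_of_natDegree_lt (by omega), zero_mul]
    rw [pow_succ, Module.End.mul_apply]
    show (((trans p a x d).toLinearMap - 1 : Module.End R (A p a x)) ^ j) (trans p a x d _ - _) = _
    rw [Module.End.one_apply, h1, ih _ hd, coeff_sub, hco, Finset.sum_range_succ, Finset.sum_range_succ]
    rw [Finset.sum_eq_zero (fun i hi => by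
      rw [Nat.choose_eq_zero_of_lt (Finset.mem_range.1 hi)]; simp)]
    congr 1
    simp [Nat.factorial_succ, Nat.choose_succ_self_right]
    ring

end Trans

end Groth.Agent.CommAlg4.ASMinor
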