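import Mathlib
import Groth.Agent.CommAlg4.ASMinor

/-! The complete intersection of minor elements. -/

set_option autoImplicit false
set_option linter.all false
universe u

open MvPolynomial

namespace Groth.Agent.CommAlg4.ASMinor

open Groth.Agent.WildAS Groth.Agent.CommAlg4.ASAut

variable {R : Type u} [CommRing R] [IsDomain R] {n : ℕ} {p : ℕ} [Fact p.Prime] [CharP R p]
  (a : Fin n → R) (μ : R) (x : Fin n → R) (i₀ : Fin n)

abbrev Idx : Type := {j : Fin n // j ≠ i₀}

abbrev cB (p : ℕ) (j : Idx i₀) : R := (μ * a i₀ * a j.1) ^ (p - 1)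

abbrev xB (p : ℕ) (j : Idx i₀) : R := a i₀ ^ p * x j.1 - a j.1 ^ p * x i₀

abbrev AA (p : ℕ) : Type u := ASAut.A p (fun i => μ * a i) x

abbrev BB (p : ℕ) : Type u := Alg p (cB a μ i₀ p) (xB a x i₀ p)

variable (p) in
noncomputable def zm (j : Idx i₀) : AA a μ x p :=
  algebraMap R _ (a i₀) * gen p (cs p fun i => μ * a i) x j.1 -
    algebraMap R _ (a j.1) * gen p (cs p fun i => μ * a i) x i₀

variable [IsDomain (AA a μ x p)] (hinj : Function.Injective (algebraMap R (AA a μ x p)))

include hinj in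
theorem zm_rel (j : Idx i₀) :
    zm p a μ x i₀ j ^ p - algebraMap R _ (cB a μ i₀ p j) * zm p a μ x i₀ j - algebraMap R _ (xB a x i₀ p j) = 0 := by
  haveI := ASMinor.charP_alg (fun i => μ * a i) x hinj
  obtain ⟨q, hq⟩ : ∃ q, p = q + 1 := ⟨p - 1, by have := (Fact.out : p.Prime).one_le; omega⟩
  rw [zm, sub_pow_char, mul_pow, mul_pow, gen_pow, gen_pow]
  simp only [cB, xB, cs, map_sub, map_mul, map_pow, mul_pow, hq, Nat.add_sub_cancel]
  ring

/-- The map `Z_j ↦ z_j`. -/
noncomputable def psi : BB a μ x i₀ p →ₐ[R] AA a μ x p :=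
  Ideal.Quotient.liftₐ _ (aeval (zm p a μ x i₀)) (fun b hb => by
    refine RingHom.mem_ker.mp (Ideal.span_le.mpr ?_ hb)
    rintro _ ⟨j, rfl⟩
    show aeval _ (X j ^ p - C (cB a μ i₀ p j) * X j - C (xB a x i₀ p j)) = 0
    rw [map_sub, map_sub, map_mul, map_pow, aeval_X, aeval_C, aeval_C, zm_rel a μ x i₀ hinj j])

theorem psi_mk (P : MvPolynomial (Idx i₀) R) :
    psi a μ x i₀ hinj (Ideal.Quotient.mk _ P) = aeval (zm p a μ x i₀) P := rfl

theorem psi_range : (psi a μ x i₀ hinj).range = Algebra.adjoin R (Set.range (zm p a μ x i₀)) := by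
  rw [Algebra.adjoin_range_eq_range_aeval]
  refine le_antisymm ?_ ?_
  · rintro _ ⟨b, rfl⟩
    obtain ⟨P, rfl⟩ := Ideal.Quotient.mk_surjective b
    exact ⟨P, rfl⟩
  · rintro _ ⟨P, rfl⟩
    exact ⟨Ideal.Quotient.mk _ P, rfl⟩

include hinj in
/-- Everything is, up to a power of `a i₀`, a polynomial of degree `< p` in `u i₀` over the minor elements. -/
theorem exists_scaled_poly (t : AA a μ x p) :
    ∃ (N : ℕ) (Q : Polynomial (AA a μ x p)), Q.natDegree < p ∧
      (∀ i, Q.coeff i ∈ Algebra.adjoin R (Set.range (zm p a μ x i₀))) ∧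
      Q.eval (gen p (cs p fun i => μ * a i) x i₀) = algebraMap R _ (a i₀) ^ N * t := by
  obtain ⟨N, hN⟩ := exists_pow_mul_mem (cs p fun i => μ * a i) x
    (Algebra.adjoin R (insert (gen p (cs p fun i => μ * a i) x i₀) (Set.range (zm p a μ x i₀)))) (a i₀) (fun i => by
      rcases eq_or_ne i i₀ with rfl | hi
      · exact ⟨0, by rw [pow_zero, one_mul]; exact Algebra.subset_adjoin (Set.mem_insert _ _)⟩
      · refine ⟨1, ?_⟩
        rw [pow_one, show algebraMap R (AA a μ x p) (a i₀) * gen p (cs p fun i => μ * a i) x i =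
          zm p a μ x i₀ ⟨i, hi⟩ + algebraMap R _ (a i) * gen p (cs p fun i => μ * a i) x i₀ by simp [zm]]
        exact add_mem (Algebra.subset_adjoin (Set.mem_insert_of_mem _ ⟨_, rfl⟩))
          (mul_mem (Subalgebra.algebraMap_mem _ _) (Algebra.subset_adjoin (Set.mem_insert _ _)))) t
  obtain ⟨Q, h1, h2, h3⟩ := exists_poly (Fact.out : p.Prime).two_le _ _ _ _ (Subalgebra.algebraMap_mem _ _)
    (Subalgebra.algebraMap_mem _ _) (gen_pow p (cs p fun i => μ * a i) x i₀) _ hN
  exact ⟨N, Q, h1, h2, h3⟩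

include hinj in
/-- Invariants of the diagonal translation lie in the minor subalgebra up to powers of `a i₀`. -/
theorem exists_pow_mul_mem_of_fixed (h0 : μ * a i₀ ≠ 0) (t : AA a μ x p)
    (ht : trans p (fun i => μ * a i) x 1 t = t) :
    ∃ N : ℕ, algebraMap R _ (a i₀) ^ N * t ∈ Algebra.adjoin R (Set.range (zm p a μ x i₀)) := by
  haveI := ASMinor.charP_alg (fun i => μ * a i) x hinj
  obtain ⟨N, Q, hdeg, hco, hev⟩ := exists_scaled_poly a μ x i₀ hinj t
  refine ⟨N, ?_⟩
  let τ := fun c : ZMod p => trans p (fun i => μ * a i) x (fun _ => c)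
  have hτz : ∀ c j, τ c (zm p a μ x i₀ j) = zm p a μ x i₀ j := fun c j => by
    simp only [τ, zm, map_sub, map_mul, AlgHom.commutes, trans_gen]
    ring
  have hτfix : ∀ c y, y ∈ Algebra.adjoin R (Set.range (zm p a μ x i₀)) → τ c y = y := fun c y hy => by
    have hle : Algebra.adjoin R (Set.range (zm p a μ x i₀)) ≤ AlgHom.equalizer (τ c) (AlgHom.id R _) :=
      Algebra.adjoin_le (by rintro _ ⟨j, rfl⟩; exact hτz c j)
    exact hle hy
  have hτt : ∀ k : ℕ, τ (k : ZMod p) t = t := by
    intro k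
    induction k with
    | zero =>
      show trans p (fun i => μ * a i) x (fun _ => ((0 : ℕ) : ZMod p)) t = t
      rw [show (fun _ : Fin n => ((0 : ℕ) : ZMod p)) = 0 from funext fun _ => Nat.cast_zero, trans_zero]
      rfl
    | succ k ih =>
      have h := AlgHom.congr_fun (trans_comp p (fun i => μ * a i) x (fun _ => (k : ZMod p)) 1) t
      rw [AlgHom.comp_apply, ht] at h
      show trans p (fun i => μ * a i) x (fun _ => ((k + 1 : ℕ) : ZMod p)) t = t
      rw [show (fun _ : Fin n => ((k + 1 : ℕ) : ZMod p)) = (fun _ => (k : ZMod p)) + 1 from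
        funext fun _ => by simp, ← h]
      exact ih
  have hQ : Q = Polynomial.C (algebraMap R _ (a i₀) ^ N * t) := by
    refine const_of_translates Q hdeg (gen p (cs p fun i => μ * a i) x i₀) (algebraMap R _ (μ * a i₀)) _
      ((map_ne_zero_iff _ hinj).2 h0) fun c => ?_
    haveI : NeZero p := ⟨(Fact.out : p.Prime).ne_zero⟩
    have h := congrArg (τ c) hev
    rw [map_mul, map_pow, AlgHom.commutes, show τ c t = t by rw [← ZMod.natCast_zmod_val c]; exact hτt _] at h
    refine Eq.trans ?_ h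
    rw [Polynomial.eval_eq_sum_range, Polynomial.eval_eq_sum_range, map_sum]
    refine Finset.sum_congr rfl fun i _ => ?_
    rw [map_mul (τ c), map_pow (τ c), hτfix c _ (hco i)]
    congr 2
    simp only [τ, trans_gen, map_mul]
    rw [show algebraMap R (AA a μ x p) (ZMod.castHom (dvd_refl p) R c) = ZMod.castHom (dvd_refl p) _ c from
      RingHom.congr_fun (RingHom.ext_zmod ((algebraMap R (AA a μ x p)).comp (ZMod.castHom (dvd_refl p) R)) _) c]
  have := hco 0
  rwa [hQ, Polynomial.coeff_C_zero] at this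

theorem psi_injective [IsNoetherianRing R] (h0 : a i₀ ≠ 0) : Function.Injective (psi a μ x i₀ hinj) := by
  classical
  have hp := (Fact.out : p.Prime).two_le
  haveI : NeZero p := ⟨by omega⟩
  set u₀ := gen p (cs p fun i => μ * a i) x i₀
  haveI := Groth.Agent.WildAS.free (cB a μ i₀ p) (xB a x i₀ p) hp
  haveI := Groth.Agent.WildAS.finite (cB a μ i₀ p) (xB a x i₀ p) hp
  haveI := Groth.Agent.WildAS.finite (cs p fun i => μ * a i) x hp
  let Φ : (Fin p → BB a μ x i₀ p) →ₗ[R] AA a μ x p :=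
    ∑ m : Fin p, (LinearMap.mulRight R (u₀ ^ (m : ℕ))).comp ((psi a μ x i₀ hinj).toLinearMap.comp (LinearMap.proj m))
  have hΦ : ∀ b, Φ b = ∑ m : Fin p, psi a μ x i₀ hinj (b m) * u₀ ^ (m : ℕ) := fun b => by simp [Φ]
  have hsurj : ∀ t, ∃ N : ℕ, algebraMap R _ (a i₀) ^ N * t ∈ LinearMap.range Φ := fun t => by
    obtain ⟨N, Q, hdeg, hco, hev⟩ := exists_scaled_poly a μ x i₀ hinj t
    rw [← psi_range a μ x i₀ hinj] at hco
    choose b hb using fun m : Fin p => hco m
    refine ⟨N, b, ?_⟩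
    rw [hΦ, ← hev, Polynomial.eval_eq_sum_range' hdeg, ← Fin.sum_univ_eq_sum_range (fun i => Q.coeff i * u₀ ^ i)]
    exact Finset.sum_congr rfl fun m _ => by rw [← hb m]; rfl
  let B := Groth.Agent.WildAS.basis (cs p fun i => μ * a i) x hp
  choose N hN using fun e => hsurj (B e)
  have hli : LinearIndependent R (fun e => (⟨_, hN e⟩ : LinearMap.range Φ)) := by
    refine LinearIndependent.of_comp (LinearMap.range Φ).subtype ?_
    refine Fintype.linearIndependent_iff.2 fun g hg e => ?_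
    simp only [Function.comp_apply, Submodule.subtype_apply, ← map_pow, ← smul_eq (p := p) (a := fun i => μ * a i) (x := x)] at hg
    simp only [smul_smul] at hg
    exact (mul_eq_zero.1 (Fintype.linearIndependent_iff.1 B.linearIndependent _ hg e)).resolve_right (pow_ne_zero _ h0)
  have h1 : p ^ n ≤ Module.finrank R (LinearMap.range Φ) := by
    have := hli.fintype_card_le_finrank
    simpa using this
  have h2 : Module.finrank R (Fin p → BB a μ x i₀ p) = p ^ n := by
    rw [Module.finrank_pi_fintype, Finset.sum_const, Finset.card_univ, Fintype.card_fin, Groth.Agent.WildAS.finrank_eq _ _ hp,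
      Fintype.card_subtype_compl, Fintype.card_fin, Fintype.card_subtype_eq, smul_eq_mul, ← pow_succ',
      Nat.sub_add_cancel (Nat.pos_of_ne_zero (fun h => absurd i₀.2 (by omega)))]
  have h3 := Submodule.finrank_quotient_add_finrank (LinearMap.ker Φ)
  rw [(LinearMap.quotKerEquivRange Φ).finrank_eq] at h3
  have hker : LinearMap.ker Φ = ⊥ := Submodule.finrank_eq_zero.1 (by omega)
  rw [injective_iff_map_eq_zero]
  intro b hb
  have : Φ (Pi.single 0 b) = 0 := by
    rw [hΦ, Finset.sum_eq_single (0 : Fin p) (fun m _ hm => by rw [Pi.single_eq_of_ne hm, map_zero, zero_mul]) (by simp),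
      Pi.single_eq_same, hb, zero_mul]
  rw [← LinearMap.mem_ker, hker, Submodule.mem_bot] at this
  simpa using congrFun this 0

include hinj in
theorem ker_aeval [IsNoetherianRing R] (h0 : a i₀ ≠ 0) :
    RingHom.ker (aeval (zm p a μ x i₀) : MvPolynomial (Idx i₀) R →ₐ[R] AA a μ x p) =
      rel p (cB a μ i₀ p) (xB a x i₀ p) := by
  ext P
  rw [RingHom.mem_ker, ← Ideal.Quotient.eq_zero_iff_mem]
  rw [← psi_mk a μ x i₀ hinj]
  exact map_eq_zero_iff _ (psi_injective a μ x i₀ hinj h0)

end Groth.Agent.CommAlg4.ASMinor
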