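import Mathlib
import Groth.Agent.CommAlg4.ASMinor

/-! Invariants of a hyperplane of translations. -/

set_option autoImplicit false
set_option linter.all false
universe u

open Polynomial

namespace Groth.Agent.CommAlg4.ASOrth

open Groth.Agent.WildAS Groth.Agent.CommAlg4.ASAut Groth.Agent.CommAlg4.ASMinor

theorem dvd_of_forall_dvd_mul_pow {R : Type u} [CommRing R] [IsDomain R] [UniqueFactorizationMonoid R] {ι : Type}
    [DecidableEq ι] (S : Finset ι) (hS : S.Nonempty) (a : ι → R)
    (hcop : ∀ i ∈ S, ∀ j ∈ S, i ≠ j → IsRelPrime (a i) (a j)) (j : ℕ) (D : R) (hD : D ≠ 0) :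
    ∀ r, (∀ i ∈ S, D ∣ r * (∏ l ∈ S.erase i, a l) ^ j) → D ∣ r := by
  induction D using UniqueFactorizationMonoid.induction_on_prime with
  | h₁ => exact absurd rfl hD
  | h₂ u hu => exact fun r _ => hu.dvd
  | h₃ E q hE hq ih =>
    intro r h
    have hq' : q ∣ r := by
      by_contra hqr
      have hall : ∀ i ∈ S, ∃ l ∈ S.erase i, q ∣ a l := fun i hi => by
        have h1 := ((dvd_mul_right q E).trans (h i hi))
        have h2 := hq.dvd_of_dvd_pow ((hq.dvd_or_dvd h1).resolve_left hqr)
        exact hq.exists_mem_finset_dvd h2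
      obtain ⟨i, hi⟩ := hS
      obtain ⟨l, hl, hql⟩ := hall i hi
      obtain ⟨o, ho, hqo⟩ := hall l (Finset.mem_of_mem_erase hl)
      exact hq.not_unit (hcop l (Finset.mem_of_mem_erase hl) o (Finset.mem_of_mem_erase ho)
        (Finset.ne_of_mem_erase ho).symm hql hqo)
    obtain ⟨r', rfl⟩ := hq'
    refine mul_dvd_mul_left q (ih hE r' fun i hi => ?_)
    have := h i hi
    rw [mul_assoc] at this
    exact (mul_dvd_mul_iff_left hq.ne_zero).1 this

variable {R : Type u} [CommRing R] [IsDomain R] {n : ℕ} {p : ℕ} [Fact p.Prime] [CharP R p]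
  (a : Fin n → R) (μ : R) (x : Fin n → R) (s : Fin n → ZMod p)

abbrev supp : Finset (Fin n) := Finset.univ.filter (fun i => s i ≠ 0)

abbrev cc (i : Fin n) : R := ZMod.castHom (dvd_refl p) R (s i)

abbrev α : R := ∏ i ∈ supp s, a i

abbrev αi (i : Fin n) : R := ∏ j ∈ (supp s).erase i, a j

abbrev AA : Type u := ASAut.A p (fun i => μ * a i) x

noncomputable abbrev zs : AA (p := p) a μ x :=
  ∑ i ∈ supp s, algebraMap R _ (cc s i * αi a s i) * gen p (cs p fun i => μ * a i) x i

noncomputable abbrev fs : R[X] :=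
  X ^ p - C ((μ * α a s) ^ (p - 1)) * X - C (∑ i ∈ supp s, cc s i * αi a s i ^ p * x i)

variable [IsDomain (AA (p := p) a μ x)] (hinj : Function.Injective (algebraMap R (AA (p := p) a μ x)))

theorem trans_zs (d : Fin n → ZMod p) :
    trans p (fun i => μ * a i) x d (zs a μ x s) =
      zs a μ x s + algebraMap R _ (ZMod.castHom (dvd_refl p) R (∑ i, d i * s i) * (μ * α a s)) := by
  rw [← Finset.sum_filter_of_ne (s := Finset.univ) (p := fun i => s i ≠ 0) (f := fun i => d i * s i)
    (fun i _ h => right_ne_zero_of_mul h)]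
  simp only [zs, map_sum, map_mul, AlgHom.commutes, trans_gen, Finset.sum_mul, ← Finset.sum_add_distrib]
  refine Finset.sum_congr rfl fun i hi => ?_
  rw [show α a s = a i * αi a s i from (Finset.mul_prod_erase _ _ hi).symm]
  simp only [cc, map_mul]
  ring

include hinj in
theorem aeval_fs : Polynomial.aeval (zs a μ x s) (fs a μ x s) = 0 := by
  haveI := ASMinor.charP_alg (fun i => μ * a i) x hinj
  obtain ⟨q, hq⟩ : ∃ q, p = q + 1 := ⟨p - 1, by have := (Fact.out : p.Prime).one_le; omega⟩
  simp only [fs, map_sub, map_pow, map_mul, map_sum, aeval_X, aeval_C, zs, sum_pow_char, Finset.mul_sum,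
    ← Finset.sum_sub_distrib]
  refine Finset.sum_eq_zero fun i hi => ?_
  rw [show α a s = a i * αi a s i from (Finset.mul_prod_erase _ _ hi).symm, mul_pow, gen_pow]
  have hc : cc (R := R) s i ^ p = cc (R := R) s i := by rw [cc, ← map_pow, ZMod.pow_card]
  have hq' : p - 1 = q := by omega
  simp only [cs, ← map_pow, hc, mul_pow, hq']
  simp only [map_mul, map_pow, hq]
  ring

theorem fs_monic : (fs a μ x s).Monic ∧ (fs a μ x s).natDegree = p := by
  have hp := (Fact.out : p.Prime).two_le
  constructor
  · exact g_monic (R := R) (p := p) (σ := Unit) (fun _ => (μ * α a s) ^ (p - 1)) (fun _ => ∑ i ∈ supp s, cc s i * αi a s i ^ p * x i) hp ()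
  · exact g_natDegree (σ := Unit) (fun _ => (μ * α a s) ^ (p - 1)) (fun _ => ∑ i ∈ supp s, cc s i * αi a s i ^ p * x i) hp ()

include hinj in
theorem exists_lt_of_mem_range (t : AA (p := p) a μ x) (ht : t ∈ (Polynomial.aeval (R := R) (zs a μ x s)).range) :
    ∃ P : R[X], P.natDegree < p ∧ Polynomial.aeval (zs a μ x s) P = t := by
  obtain ⟨P, rfl⟩ := ht
  obtain ⟨hm, hd⟩ := fs_monic (p := p) a μ x s
  refine ⟨P %ₘ fs a μ x s, lt_of_lt_of_le (natDegree_modByMonic_lt _ hm (fun h => by
    rw [h, natDegree_one] at hd; exact (Fact.out : p.Prime).ne_zero hd.symm)) hd.le, ?_⟩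
  conv_rhs => rw [← modByMonic_add_div P (fs a μ x s)]
  show _ = Polynomial.aeval (zs a μ x s) (P %ₘ fs a μ x s + fs a μ x s * (P /ₘ fs a μ x s))
  rw [map_add, map_mul, aeval_fs a μ x s hinj, zero_mul, add_zero]

include hinj in
theorem ker_aeval (hs : s ≠ 0) (hμ : μ ≠ 0) (ha : ∀ i, a i ≠ 0) :
    RingHom.ker (Polynomial.aeval (zs a μ x s) : R[X] →ₐ[R] AA (p := p) a μ x) = Ideal.span {fs a μ x s} := by
  haveI := ASMinor.charP_alg (fun i => μ * a i) x hinj
  obtain ⟨hm, hd⟩ := fs_monic (p := p) a μ x s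
  obtain ⟨i1, hi1⟩ := Function.ne_iff.1 hs
  refine le_antisymm (fun P hP => ?_) ((Ideal.span_singleton_le_iff_mem _).2 (aeval_fs a μ x s hinj))
  rw [RingHom.mem_ker] at hP
  rw [Ideal.mem_span_singleton, ← modByMonic_eq_zero_iff_dvd hm]
  set r := P %ₘ fs a μ x s
  have hr : Polynomial.aeval (zs a μ x s) r = 0 := by
    conv_rhs => rw [← hP, ← modByMonic_add_div P (fs a μ x s)]
    rw [map_add, map_mul, aeval_fs a μ x s hinj, zero_mul, add_zero]
  have hrd : r.natDegree < p := lt_of_lt_of_le (natDegree_modByMonic_lt _ hm (fun h => by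
    rw [h, natDegree_one] at hd; exact (Fact.out : p.Prime).ne_zero hd.symm)) hd.le
  have h1 := const_of_translates (r.map (algebraMap R (AA (p := p) a μ x))) (natDegree_map_le.trans_lt hrd)
    (zs a μ x s) (algebraMap R _ (μ * α a s)) 0
    ((map_ne_zero_iff _ hinj).2 (mul_ne_zero hμ (Finset.prod_ne_zero_iff.2 fun i _ => ha i))) (fun c => by
      have h2 := trans_zs a μ x s (Pi.single i1 (c * (s i1)⁻¹))
      have hsum : ∑ i, Pi.single (M := fun _ => ZMod p) i1 (c * (s i1)⁻¹) i * s i = c := by
        simp [Pi.single_apply, ite_mul, inv_mul_cancel₀ hi1, mul_assoc]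
      have h3 := congrArg (trans p (fun i => μ * a i) x (Pi.single i1 (c * (s i1)⁻¹))) hr
      rw [← aeval_algHom_apply, h2, map_zero, hsum, map_mul,
        show algebraMap R (AA (p := p) a μ x) (ZMod.castHom (dvd_refl p) R c) = ZMod.castHom (dvd_refl p) _ c from
          RingHom.congr_fun (RingHom.ext_zmod ((algebraMap R (AA (p := p) a μ x)).comp (ZMod.castHom (dvd_refl p) R)) _) c] at h3
      rw [eval_map, ← aeval_def]; exact h3)
  rw [C_0] at h1
  exact map_injective _ hinj (h1.trans (Polynomial.map_zero _).symm)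

include hinj in
theorem saturation [UniqueFactorizationMonoid R] (hs : s ≠ 0) (hμ : μ ≠ 0) (ha : ∀ i, a i ≠ 0)
    (hcop : ∀ i j, i ≠ j → IsRelPrime (a i) (a j)) :
    ∀ (N : ℕ), N ≤ p → ∀ (P : R[X]), (∀ l, N ≤ l → P.coeff l = 0) → ∀ (D : R) (t : AA (p := p) a μ x), D ≠ 0 →
      algebraMap R _ D * t = Polynomial.aeval (zs a μ x s) P →
      t ∈ (Polynomial.aeval (R := R) (zs a μ x s)).range := by
  haveI := ASMinor.charP_alg (fun i => μ * a i) x hinj
  have hp := (Fact.out : p.Prime).two_le
  intro N
  induction N with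
  | zero =>
    intro _ P hP D t hD h
    have : t = 0 := by
      rw [show P = 0 from Polynomial.ext fun l => by rw [hP l (Nat.zero_le _), coeff_zero], map_zero] at h
      exact (mul_eq_zero.1 h).resolve_left ((map_ne_zero_iff _ hinj).2 hD)
    rw [this]; exact zero_mem _
  | succ j ih =>
    intro hj P hP D t hD h
    have hPd : P.natDegree ≤ j := natDegree_le_iff_coeff_eq_zero.2 fun l hl => hP l hl
    have hdiv : D ∣ P.coeff j := by
      obtain ⟨i1, hi1⟩ := Function.ne_iff.1 hs
      refine dvd_of_forall_dvd_mul_pow (supp s) ⟨i1, by simpa using hi1⟩ a (fun i _ l _ => hcop i l) j D hD _ fun i hi => ?_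
      let d : Fin n → ZMod p := Pi.single i 1
      have hz := trans_zs a μ x s d
      rw [show ∑ l, d l * s l = s i by simp [d, Pi.single_apply, ite_mul]] at hz
      obtain ⟨t', ht'⟩ := exists_delta_pow (p := p) (fun i => μ * a i) x d (μ * a i) (fun l => by
        rcases eq_or_ne l i with rfl | hl
        · exact dvd_mul_left _ _
        · simp [d, Pi.single_eq_of_ne hl]) j t
      have h1 := delta_pow_aeval (p := p) (fun i => μ * a i) x d _ _ hz j P hPd
      rw [← h, ← smul_eq, map_smul, smul_eq, ht'] at h1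
      have h2 : algebraMap R (AA (p := p) a μ x) D * t' =
          algebraMap R _ ((Nat.factorial j : R) * cc s i ^ j * (αi a s i) ^ j * P.coeff j) := by
        refine mul_left_cancel₀ (pow_ne_zero j ((map_ne_zero_iff _ hinj).2 (mul_ne_zero hμ (ha i)))) ?_
        rw [← mul_assoc, mul_comm (_ ^ j) (algebraMap R _ D), mul_assoc, h1,
          show α a s = a i * αi a s i from (Finset.mul_prod_erase _ _ hi).symm]
        simp only [cc, map_mul, map_pow, mul_pow]
        ring
      haveI : NeZero p := ⟨by omega⟩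
      have h3 := congrArg (fun y => (basis (cs p fun i => μ * a i) x hp).repr y 0) h2
      have hone : basis (cs p fun i => μ * a i) x hp 0 = 1 := by simp [basis_apply, mono]
      simp only [← smul_eq, map_smul, Finsupp.smul_apply, smul_eq_mul] at h3
      rw [show algebraMap R (AA (p := p) a μ x) ((Nat.factorial j : R) * cc s i ^ j * (αi a s i) ^ j * P.coeff j) =
        ((Nat.factorial j : R) * cc s i ^ j * (αi a s i) ^ j * P.coeff j) • basis (cs p fun i => μ * a i) x hp 0 by
          rw [hone]; exact (Algebra.algebraMap_eq_smul_one _), map_smul, Finsupp.smul_apply, Module.Basis.repr_self,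
          Finsupp.single_eq_same, smul_eq_mul, mul_one, mul_assoc] at h3
      have hu : IsUnit ((Nat.factorial j : R) * cc s i ^ j) := by
        refine IsUnit.mul ?_ (((Ne.isUnit (Finset.mem_filter.1 hi).2).map _).pow _)
        rw [← map_natCast (ZMod.castHom (dvd_refl p) R)]
        refine (Ne.isUnit ?_).map _
        rw [Ne, ZMod.natCast_eq_zero_iff, (Fact.out : p.Prime).dvd_factorial]
        omega
      rw [mul_comm ((αi a s i) ^ j)] at h3
      exact (hu.dvd_mul_left).1 ⟨_, h3.symm⟩
    obtain ⟨q, hq⟩ := hdiv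
    have h4 := ih (by omega) (P - monomial j (P.coeff j)) (fun l hl => by
      rcases eq_or_lt_of_le hl with rfl | hl
      · simp
      · simp [coeff_monomial, hP l hl, Nat.ne_of_lt hl]) D (t - algebraMap R _ q * zs a μ x s ^ j) hD (by
      rw [mul_sub, h, map_sub, aeval_monomial, hq, map_mul, mul_assoc])
    obtain ⟨Q, hQ⟩ := h4
    refine ⟨Q + C q * X ^ j, ?_⟩
    show Polynomial.aeval (zs a μ x s) (Q + C q * X ^ j) = t
    rw [map_add, map_mul, aeval_C, map_pow, aeval_X, show Polynomial.aeval (zs a μ x s) Q = _ from hQ, sub_add_cancel]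

include hinj in
theorem mem_range_of_fixed [UniqueFactorizationMonoid R] (hs : s ≠ 0) (hμ : μ ≠ 0) (ha : ∀ i, a i ≠ 0)
    (hcop : ∀ i j, i ≠ j → IsRelPrime (a i) (a j)) (t : AA (p := p) a μ x)
    (ht : ∀ ν : Fin n → ZMod p, ∑ i, ν i * s i = 0 → trans p (fun i => μ * a i) x ν t = t) :
    t ∈ (Polynomial.aeval (R := R) (zs a μ x s)).range := by
  classical
  haveI := ASMinor.charP_alg (fun i => μ * a i) x hinj
  obtain ⟨i1, hi1⟩ := Function.ne_iff.1 hs
  have hi1' : i1 ∈ supp s := by simpa using hi1
  set u := gen p (cs p fun i => μ * a i) x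
  set z := zs (p := p) a μ x s
  let D := αi a s i1
  obtain ⟨N, hN⟩ := exists_pow_mul_mem (cs p fun i => μ * a i) x
    (Algebra.adjoin R (insert z (u '' ↑(Finset.univ.erase i1)))) D (fun i => by
      have hmem : ∀ j, j ≠ i1 → u j ∈ Algebra.adjoin R (insert z (u '' ↑(Finset.univ.erase i1))) := fun j hj =>
        Algebra.subset_adjoin (Set.mem_insert_of_mem _ ⟨j, by simp [hj], rfl⟩)
      rcases eq_or_ne i i1 with rfl | hi
      · refine ⟨1, ?_⟩
        have h1 : algebraMap R _ (cc s i) * (algebraMap R _ D ^ 1 * u i) ∈ Algebra.adjoin R (insert z (u '' ↑(Finset.univ.erase i))) := by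
          have : algebraMap R _ (cc s i) * (algebraMap R _ D ^ 1 * u i) =
              z - ∑ j ∈ (supp s).erase i, algebraMap R _ (cc s j * αi a s j) * u j := by
            rw [eq_sub_iff_add_eq, pow_one, ← mul_assoc, ← map_mul]
            exact Finset.add_sum_erase _ (fun j => algebraMap R _ (cc s j * αi a s j) * u j) hi1'
          rw [this]
          exact sub_mem (Algebra.subset_adjoin (Set.mem_insert _ _)) (sum_mem fun j hj =>
            mul_mem (Subalgebra.algebraMap_mem _ _) (hmem j (Finset.ne_of_mem_erase hj)))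
        have hcu : ZMod.castHom (dvd_refl p) R (s i)⁻¹ * cc s i = 1 := by
          rw [cc, ← map_mul, inv_mul_cancel₀ hi1, map_one]
        have := mul_mem (Subalgebra.algebraMap_mem _ (ZMod.castHom (dvd_refl p) R (s i)⁻¹)) h1
        rwa [← mul_assoc, ← map_mul, hcu, map_one, one_mul] at this
      · exact ⟨0, by rw [pow_zero, one_mul]; exact hmem i hi⟩) t
  have elim : ∀ T : Finset (Fin n), i1 ∉ T → ∀ y, y ∈ Algebra.adjoin R (insert z (u '' ↑T)) →
      (∀ ν : Fin n → ZMod p, ∑ i, ν i * s i = 0 → trans p (fun i => μ * a i) x ν y = y) →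
      y ∈ (Polynomial.aeval (R := R) z).range := by
    intro T
    induction T using Finset.induction_on with
    | empty =>
      intro _ y hy _
      rw [Finset.coe_empty, Set.image_empty, insert_empty_eq, Algebra.adjoin_singleton_eq_range_aeval] at hy
      exact hy
    | insert j T hjT ih =>
      intro hT y hy hfix
      rw [Finset.mem_insert, not_or] at hT
      rw [Finset.coe_insert, Set.image_insert_eq, Set.insert_comm] at hy
      obtain ⟨Q, hdeg, hco, hev⟩ := exists_poly (Fact.out : p.Prime).two_le _ _ _ _ (Subalgebra.algebraMap_mem _ _)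
        (Subalgebra.algebraMap_mem _ _) (gen_pow p (cs p fun i => μ * a i) x j) _ hy
      let d : ZMod p → (Fin n → ZMod p) := fun c => Pi.single j c + Pi.single i1 (-(c * s j * (s i1)⁻¹))
      have hd : ∀ c, ∑ i, d c i * s i = 0 := fun c => by
        simp [d, add_mul, Finset.sum_add_distrib, Pi.single_apply, ite_mul, inv_mul_cancel₀ hi1, mul_assoc]
      have hfixS : ∀ c w, w ∈ Algebra.adjoin R (insert z (u '' ↑T)) → trans p (fun i => μ * a i) x (d c) w = w := by
        intro c w hw
        have hle : Algebra.adjoin R (insert z (u '' ↑T)) ≤ AlgHom.equalizer (trans p (fun i => μ * a i) x (d c)) (AlgHom.id R _) :=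
          Algebra.adjoin_le (by
            rintro _ (rfl | ⟨l, hl, rfl⟩)
            · show trans p (fun i => μ * a i) x (d c) z = z
              rw [trans_zs, hd, map_zero, zero_mul, map_zero, add_zero]
            · show trans p (fun i => μ * a i) x (d c) (u l) = u l
              have hlj : l ≠ j := fun h => hjT (h ▸ hl)
              have hli : l ≠ i1 := fun h => hT.2 (h ▸ hl)
              rw [trans_gen, show d c l = 0 by simp [d, Pi.single_eq_of_ne hlj, Pi.single_eq_of_ne hli],
                map_zero, zero_mul, map_zero, add_zero])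
        exact hle hw
      have hQ : Q = C y := by
        refine const_of_translates Q hdeg (u j) (algebraMap R _ (μ * a j)) _
          ((map_ne_zero_iff _ hinj).2 (mul_ne_zero hμ (ha j))) fun c => ?_
        have h := congrArg (trans p (fun i => μ * a i) x (d c)) hev
        rw [hfix _ (hd c)] at h
        refine Eq.trans ?_ h
        rw [eval_eq_sum_range, eval_eq_sum_range, map_sum]
        refine Finset.sum_congr rfl fun i _ => ?_
        rw [map_mul (trans p _ x (d c)), map_pow (trans p _ x (d c)), hfixS c _ (hco i), trans_gen,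
          show d c j = c by simp [d, Pi.single_eq_of_ne (Ne.symm hT.1)]]
        simp only [map_mul]
        rw [show algebraMap R (AA (p := p) a μ x) (ZMod.castHom (dvd_refl p) R c) = ZMod.castHom (dvd_refl p) _ c from
          RingHom.congr_fun (RingHom.ext_zmod ((algebraMap R (AA (p := p) a μ x)).comp (ZMod.castHom (dvd_refl p) R)) _) c]
      have := hco 0
      rw [hQ, coeff_C_zero] at this
      exact ih hT.2 y this hfix
  have hrange := elim _ (Finset.notMem_erase i1 _) _ hN (fun ν hν => by rw [map_mul, map_pow, AlgHom.commutes, ht ν hν])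
  obtain ⟨P, hPd, hP⟩ := exists_lt_of_mem_range a μ x s hinj _ hrange
  refine saturation a μ x s hinj hs hμ ha hcop p le_rfl P (fun l hl => coeff_eq_zero_of_natDegree_lt (by omega)) (D ^ N) t
    (pow_ne_zero _ (Finset.prod_ne_zero_iff.2 fun i _ => ha i)) ?_
  rw [map_pow, hP]

end Groth.Agent.CommAlg4.ASOrth
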