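import Groth.Agent.CommAlg4.ASDiff

/-! Partial-fraction basis of the regular differentials of `y² + y = f` in characteristic `2`. -/

set_option autoImplicit false
set_option backward.isDefEq.respectTransparency false

open FunFld WithZero Polynomial Groth.Agent.FF
open scoped Classical

set_option synthInstance.maxHeartbeats 100000

namespace Groth.Agent.CommAlg4.ASchar2

universe u

variable {k : Type u} [Field k]

local notation "Rk" => RatFunc k

/-- The place of `k(x)` at `α`. -/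
theorem exists_place_at (α : k) : ∃ P : Place k Rk, P.deg = 1 ∧ P.ord ((RatFunc.X : Rk) - RatFunc.C α)⁻¹ = -1 ∧
    (∀ p : Place k Rk, p ≠ P → 0 ≤ p.ord ((RatFunc.X : Rk) - RatFunc.C α)⁻¹) := by
  have hR := isFunctionField_ratFunc (k := k)
  have htop : IntermediateField.adjoin k ({((RatFunc.X : Rk) - RatFunc.C α)⁻¹} : Set Rk) = ⊤ := by
    refine top_unique (RatFunc.adjoin_X.symm.le.trans ?_)
    rw [IntermediateField.adjoin_le_iff, Set.singleton_subset_iff]
    have h1 := IntermediateField.mem_adjoin_simple_self k ((RatFunc.X : Rk) - RatFunc.C α)⁻¹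
    have h2 := add_mem (inv_mem h1)
      ((IntermediateField.adjoin k ({((RatFunc.X : Rk) - RatFunc.C α)⁻¹} : Set Rk)).algebraMap_mem α)
    rw [inv_inv, RatFunc.algebraMap_eq_C, sub_add_cancel] at h2
    exact h2
  obtain ⟨P, h1, h2, h3, -⟩ := genus_zero_of_adjoin_eq_top hR htop (transcendental_of_adjoin_eq_top hR htop)
  exact ⟨P, h1, h2, h3⟩

noncomputable def placeAt (α : k) : Place k Rk := (exists_place_at α).choose

theorem deg_placeAt (α : k) : (placeAt α).deg = 1 := (exists_place_at α).choose_spec.1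

noncomputable def invX (α : k) : Rk := ((RatFunc.X : Rk) - RatFunc.C α)⁻¹

theorem X_sub_C_ne (α : k) : (RatFunc.X : Rk) - RatFunc.C α ≠ 0 := by
  rw [← RatFunc.algebraMap_X, ← RatFunc.algebraMap_C, ← map_sub]
  exact ι_ne_zero (Polynomial.X_sub_C_ne_zero α)

theorem invX_ne (α : k) : invX α ≠ 0 := inv_ne_zero (X_sub_C_ne α)

theorem ord_placeAt (α : k) : (placeAt α).ord (invX α) = -1 := (exists_place_at α).choose_spec.2.1

theorem finite_placeAt (α : k) : (placeAt α).1 RatFunc.X ≤ 1 ∧ (placeAt α).1 ((RatFunc.X : Rk) - RatFunc.C α) < 1 := by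
  have h1 : (placeAt α).1 ((RatFunc.X : Rk) - RatFunc.C α) < 1 := by
    rw [val_lt_one_iff _ (X_sub_C_ne α)]
    have := ord_placeAt α
    rw [invX, ord_inv] at this
    omega
  refine ⟨?_, h1⟩
  rw [show (RatFunc.X : Rk) = ((RatFunc.X : Rk) - RatFunc.C α) + RatFunc.C α by ring]
  refine ((placeAt α).1.map_add _ _).trans (max_le h1.le ?_)
  rw [← RatFunc.algebraMap_eq_C]
  exact (placeAt α).2.1 α

theorem eq_placeAt {p : Place k Rk} {α : k} (h : p.1 ((RatFunc.X : Rk) - RatFunc.C α) < 1) : p = placeAt α := by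
  by_contra hne
  have h1 := (exists_place_at α).choose_spec.2.2 p hne
  rw [ord_inv] at h1
  have h2 := (val_lt_one_iff p (X_sub_C_ne α)).mp h
  omega

theorem placeAt_injective : Function.Injective (placeAt : k → Place k Rk) := by
  intro α β h
  by_contra hne
  have h1 := (finite_placeAt α).2
  rw [h] at h1
  have h2 := (placeAt β).1.map_sub ((RatFunc.X : Rk) - RatFunc.C α) ((RatFunc.X : Rk) - RatFunc.C β)
  rw [sub_sub_sub_cancel_left, ← map_sub, ← RatFunc.algebraMap_eq_C,
    val_algebraMap (placeAt β) (sub_ne_zero.mpr (Ne.symm hne))] at h2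
  exact not_lt.mpr h2 (max_lt h1 (finite_placeAt β).2)

theorem ord_invX_finite {p : Place k Rk} (hX : p.1 RatFunc.X ≤ 1) (α : k) :
    p.ord (invX α) = if p = placeAt α then -1 else 0 := by
  split_ifs with h
  · subst h; exact ord_placeAt α
  · have h1 := (exists_place_at α).choose_spec.2.2 p h
    rw [ord_inv] at h1
    rw [invX, ord_inv]
    have h2 : p.1 ((RatFunc.X : Rk) - RatFunc.C α) ≤ 1 := by
      refine (p.1.map_sub _ _).trans (max_le hX ?_)
      rw [← RatFunc.algebraMap_eq_C]; exact p.2.1 α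
    have := (val_le_one_iff p (X_sub_C_ne α)).mp h2
    omega

theorem ord_invX_infinite {p : Place k Rk} (hX : ¬ p.1 RatFunc.X ≤ 1) (α : k) : p.ord (invX α) = 1 := by
  rw [invX, ord_inv, ← RatFunc.algebraMap_X, ← RatFunc.algebraMap_C, ← map_sub,
    (infinite_place p hX).2 _ (Polynomial.X_sub_C_ne_zero α)]
  simp

variable (B : Finset k) (d : k → ℕ)

/-- Indices of the basis. -/
abbrev IdxA : Type u := {a : ↥B × ℕ // 1 ≤ a.2 ∧ 2 * a.2 + 1 ≤ d (a.1 : k)}

abbrev IdxB : Type u := {b : ↥B // (b : k) ≠ 0}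

noncomputable def elt : IdxA B d ⊕ IdxB B → Rk :=
  Sum.elim (fun a => invX (a.1.1 : k) ^ (a.1.2 + 1)) (fun b => RatFunc.C (b.1 : k) * (invX 0 * invX (b.1 : k)))

def att : IdxA B d ⊕ IdxB B → k := Sum.elim (fun a => (a.1.1 : k)) (fun b => (b.1 : k))

def po : IdxA B d ⊕ IdxB B → ℕ := Sum.elim (fun a => a.1.2 + 1) (fun _ => 1)

theorem att_mem (i : IdxA B d ⊕ IdxB B) : att B d i ∈ B := by
  rcases i with a | b
  · exact a.1.1.2
  · exact b.1.2

theorem elt_ne (i : IdxA B d ⊕ IdxB B) : elt B d i ≠ 0 := by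
  rcases i with a | b
  · exact pow_ne_zero _ (invX_ne _)
  · refine mul_ne_zero ?_ (mul_ne_zero (invX_ne _) (invX_ne _))
    rw [← RatFunc.algebraMap_eq_C]
    exact (_root_.map_ne_zero _).mpr b.2

theorem att_po_injective : Function.Injective fun i => (att B d i, po B d i) := by
  rintro (a | b) (a' | b') h <;> simp only [att, po, Sum.elim_inl, Sum.elim_inr, Prod.mk.injEq] at h
  · exact congrArg Sum.inl (Subtype.ext (Prod.ext (Subtype.ext h.1) (by omega)))
  · have := a.2.1; omega
  · have := a'.2.1; omega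
  · exact congrArg Sum.inr (Subtype.ext (Subtype.ext h.1))

theorem ord_elt (p : Place k Rk) (i : IdxA B d ⊕ IdxB B) : p.ord (elt B d i) =
    Sum.elim (fun a : IdxA B d => ((a.1.2 + 1 : ℕ) : ℤ) * p.ord (invX (a.1.1 : k)))
      (fun b : IdxB B => p.ord (invX 0) + p.ord (invX (b.1 : k))) i := by
  rcases i with a | b
  · simp only [elt, Sum.elim_inl, ord_pow']
  · simp only [elt, Sum.elim_inr]
    rw [ord_mul p ?_ (mul_ne_zero (invX_ne _) (invX_ne _)), ord_mul p (invX_ne _) (invX_ne _),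
      ← RatFunc.algebraMap_eq_C, ord_algebraMap, zero_add]
    rw [← RatFunc.algebraMap_eq_C]
    exact (_root_.map_ne_zero _).mpr b.2

theorem linearIndependent_elt : LinearIndependent k (elt B d) := by
  rw [linearIndependent_iff']
  intro s c hsum
  set S := s.filter fun i => c i ≠ 0 with hS
  by_contra hne
  push Not at hne
  obtain ⟨i, his, hi⟩ := hne
  have hSne : S.Nonempty := ⟨i, Finset.mem_filter.mpr ⟨his, hi⟩⟩
  obtain ⟨α, ⟨i₁, hi₁, hα⟩, hpref⟩ : ∃ α, (∃ i ∈ S, att B d i = α) ∧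
      (α = 0 → ∀ i ∈ S, att B d i = 0) := by
    by_cases h : ∀ i ∈ S, att B d i = 0
    · exact ⟨0, ⟨hSne.choose, hSne.choose_spec, h _ hSne.choose_spec⟩, fun _ => h⟩
    · push Not at h
      obtain ⟨i, hi, hne⟩ := h
      exact ⟨_, ⟨i, hi, rfl⟩, fun h0 => absurd h0 hne⟩
  obtain ⟨i₀, hi₀, hmax⟩ := Finset.exists_max_image (S.filter fun i => att B d i = α) (po B d)
    ⟨i₁, Finset.mem_filter.mpr ⟨hi₁, hα⟩⟩
  obtain ⟨hi₀S, hi₀α⟩ := Finset.mem_filter.mp hi₀
  set P := placeAt α
  have hfin := (finite_placeAt α).1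
  have hord : ∀ i ∈ S, P.ord (elt B d i) = if att B d i = α then -(po B d i : ℤ) else 0 := by
    intro i hi
    rw [ord_elt]
    rcases i with a | b
    · simp only [att, po, Sum.elim_inl]
      rw [ord_invX_finite hfin]
      by_cases h : (a.1.1 : k) = α
      · rw [if_pos (by rw [h]), if_pos h]; ring
      · rw [if_neg (fun e => h (placeAt_injective e).symm), if_neg h, mul_zero]
    · simp only [att, po, Sum.elim_inr]
      rw [ord_invX_finite hfin, ord_invX_finite hfin]
      have hb0 := b.2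
      have hα0 : α ≠ 0 := fun h0 => hb0 (hpref h0 (Sum.inr b) hi)
      rw [if_neg (fun e => hα0 (placeAt_injective e)), zero_add]
      by_cases h : (b.1 : k) = α
      · rw [if_pos (by rw [h]), if_pos h]; simp
      · rw [if_neg (fun e => h (placeAt_injective e).symm), if_neg h]
  have hval : ∀ i ∈ S, P.1 (c i • elt B d i) = exp (-P.ord (elt B d i)) := fun i hi => by
    rw [Algebra.smul_def, map_mul, val_algebraMap P (Finset.mem_filter.mp hi).2, one_mul,
      val_eq_exp_neg_ord P (elt_ne B d i)]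
  have hsum' : ∑ i ∈ S, c i • elt B d i = 0 := by
    rw [← hsum, hS, Finset.sum_filter_of_ne]
    intro i _ h hc
    exact h (by rw [hc, zero_smul])
  have hlt : ∀ i ∈ S \ {i₀}, P.1 (c i • elt B d i) < P.1 (c i₀ • elt B d i₀) := fun i hi => by
    rw [Finset.mem_sdiff, Finset.mem_singleton] at hi
    rw [hval i hi.1, hval i₀ hi₀S, hord i hi.1, hord i₀ hi₀S, if_pos hi₀α, exp_lt_exp]
    split_ifs with h
    · have h1 := hmax i (Finset.mem_filter.mpr ⟨hi.1, h⟩)
      have h2 : po B d i ≠ po B d i₀ := fun e => hi.2 (att_po_injective B d (Prod.ext (h.trans hi₀α.symm) e))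
      omega
    · have : 1 ≤ po B d i₀ := by rcases i₀ with a | b <;> simp [po]
      omega
  have h := Valuation.map_sum_eq_of_lt P.1 hi₀S hlt
  rw [hsum', map_zero, hval i₀ hi₀S] at h
  exact exp_ne_zero h.symm

variable {B d} (h0 : (0 : k) ∈ B) (hd : ∀ α ∈ B, Odd (d α)) (f : (RatFunc k))
  (hpole : ∀ (p : Place k (RatFunc k)) (α : k), α ∈ B → p.1 ((RatFunc.X : RatFunc k) - RatFunc.C α) < 1 → p.ord f = -(d α : ℤ))
  (hint : ∀ p : Place k (RatFunc k), (∀ α ∈ B, 1 ≤ p.1 ((RatFunc.X : RatFunc k) - RatFunc.C α)) → p.1 f ≤ 1)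

include hpole hd in
theorem ord_at {α : k} (hα : α ∈ B) : (placeAt α).ord f = -(d α : ℤ) ∧ wt f (placeAt α) = ((d α + 1) / 2 : ℕ) := by
  have h := hpole _ α hα (finite_placeAt α).2
  refine ⟨h, ?_⟩
  obtain ⟨r, hr⟩ := hd α hα
  rw [wt, if_pos (by omega), h]
  omega

include hint in
theorem ord_off {p : Place k Rk} (hf : f ≠ 0) (h : ∀ α ∈ B, p ≠ placeAt α) : ¬ p.ord f < 0 := by
  have := (val_le_one_iff p hf).mp (hint p fun α hα => not_lt.mp fun hlt => h α hα (eq_placeAt hlt))
  omega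

include hpole hd hint in
theorem deg_wDiv (hf : f ≠ 0) : (wDiv f).deg = ∑ α ∈ B, (((d α + 1) / 2 : ℕ) : ℤ) := by
  have hs : (wDiv f).support ⊆ B.image placeAt := fun p hp => by
    rw [Finsupp.mem_support_iff] at hp
    by_contra hni
    refine hp ?_
    rw [wDiv_apply, wt, if_neg (ord_off f hint hf fun α hα e => hni (Finset.mem_image.mpr ⟨α, hα, e.symm⟩))]
  show Finsupp.sum _ _ = _
  rw [Finsupp.sum_of_support_subset _ hs (fun P n => n * (P.deg : ℤ)) (fun _ _ => zero_mul _), Finset.sum_image placeAt_injective.injOn]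
  refine Finset.sum_congr rfl fun α hα => ?_
  rw [wDiv_apply, (ord_at hd f hpole hα).2, deg_placeAt, Nat.cast_one, mul_one]

include h0 hpole hd hint in
theorem elt_mem (hf : f ≠ 0) (i : IdxA B d ⊕ IdxB B) : elt B d i ∈ L (diffDiv f) := by
  intro p
  rw [diffDiv, Finsupp.sub_apply, Finsupp.smul_apply, poles_apply isFunctionField_ratFunc, wDiv_apply, smul_eq_mul,
    val_le_exp_iff p (elt_ne B d i), ord_elt]
  have hw := wt_nonneg f p
  by_cases hX : p.1 RatFunc.X ≤ 1
  · rw [max_eq_right (by have := (val_le_one_iff p RatFunc.X_ne_zero).mp hX; omega)]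
    rcases i with a | b <;> simp only [Sum.elim_inl, Sum.elim_inr]
    · rw [ord_invX_finite hX]
      split_ifs with h
      · subst h
        rw [(ord_at hd f hpole a.1.1.2).2]
        have := a.2.2
        push_cast
        omega
      · omega
    · rw [ord_invX_finite hX, ord_invX_finite hX]
      split_ifs with h1 h2 h2
      · exact absurd (placeAt_injective (h2.symm.trans h1)) b.2
      · subst h1
        rw [(ord_at hd f hpole h0).2]
        obtain ⟨r, hr⟩ := hd 0 h0
        omega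
      · subst h2
        rw [(ord_at hd f hpole b.1.2).2]
        obtain ⟨r, hr⟩ := hd _ b.1.2
        omega
      · omega
  · have hpX : p.ord (RatFunc.X : Rk) = -1 := by
      rw [← RatFunc.algebraMap_X, (infinite_place p hX).2 _ Polynomial.X_ne_zero]; simp
    rw [hpX, max_eq_left (by norm_num)]
    rcases i with a | b <;> simp only [Sum.elim_inl, Sum.elim_inr]
    · rw [ord_invX_infinite hX]
      have := a.2.1
      push_cast
      omega
    · rw [ord_invX_infinite hX, ord_invX_infinite hX]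
      omega

/-- Reindexing of the higher-order part. -/
def idxEquiv : (Σ α : ↥B, Fin ((d (α : k) - 1) / 2)) ≃ IdxA B d where
  toFun x := ⟨(x.1, (x.2 : ℕ) + 1), by show 1 ≤ (x.2 : ℕ) + 1; omega,
    by show 2 * ((x.2 : ℕ) + 1) + 1 ≤ d (x.1 : k); have := x.2.2; omega⟩
  invFun a := ⟨a.1.1, ⟨a.1.2 - 1, by have := a.2; omega⟩⟩
  left_inv x := by rcases x with ⟨α, i⟩; simp
  right_inv a := by
    rcases a with ⟨⟨α, n⟩, h1, h2⟩
    refine Subtype.ext (Prod.ext rfl ?_)
    show n - 1 + 1 = n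
    exact Nat.sub_add_cancel h1

include h0 hpole hd hint in
theorem span_elt (hf : f ≠ 0) (hell : (ell (diffDiv f) : ℤ) = (wDiv f).deg - 1) :
    Submodule.span k (Set.range (elt B d)) = L (diffDiv f) := by
  haveI : Fintype (IdxA B d) := Fintype.ofEquiv _ idxEquiv
  haveI := finiteDimensional_L (k := k) isFunctionField_ratFunc (diffDiv f)
  refine Submodule.eq_of_le_of_finrank_le
    (Submodule.span_le.mpr (by rintro _ ⟨i, rfl⟩; exact elt_mem h0 hd f hpole hint hf i)) ?_
  rw [finrank_span_eq_card (linearIndependent_elt B d), Fintype.card_sum, ← Fintype.card_congr (idxEquiv (B := B) (d := d)),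
    Fintype.card_sigma, Fintype.card_subtype_compl, Fintype.card_coe]
  simp only [Fintype.card_fin]
  have hB : Fintype.card {b : ↥B // (b : k) = 0} = 1 := Fintype.card_eq_one_iff.mpr
    ⟨⟨⟨0, h0⟩, rfl⟩, fun x => Subtype.ext (Subtype.ext x.2)⟩
  rw [hB, Finset.sum_coe_sort B (fun α => (d α - 1) / 2)]
  rw [deg_wDiv hd f hpole hint hf] at hell
  have h1 : ∑ α ∈ B, (d α + 1) / 2 = ∑ α ∈ B, (d α - 1) / 2 + B.card := by
    rw [Finset.card_eq_sum_ones, ← Finset.sum_add_distrib]
    refine Finset.sum_congr rfl fun α hα => ?_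
    obtain ⟨r, hr⟩ := hd α hα
    omega
  have h2 : 1 ≤ B.card := Finset.card_pos.mpr ⟨0, h0⟩
  have h3 : (ell (diffDiv f) : ℤ) = ((∑ α ∈ B, (d α + 1) / 2 : ℕ) : ℤ) - 1 := by push_cast; exact hell
  show ell (diffDiv f) ≤ _
  omega

end Groth.Agent.CommAlg4.ASchar2
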