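import Mathlib
import Groth.Agent.CAlgH3.Factorial
import Groth.Agent.CAlgH3.Kunz

/-! Purity for Artin–Schreier classes over regular local rings: a class of `K` modulo `x ↦ x^p - x`
which is regular at every height-one prime has a regular representative. -/

set_option autoImplicit false
set_option linter.all false
universe u v

namespace Groth.Agent.CommAlg4.ASPurity

/-- Solutions of a linear system in a flat algebra come from solutions in the base. -/
theorem mem_span_of_flat {R : Type u} [CommRing R] {S : Type v} [CommRing S] [Algebra R S]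
    [Module.Flat R S] {κ ι : Type*} [Fintype κ] [Fintype ι] (M : κ → ι → R) (v : ι → S)
    (h : ∀ k, ∑ i, algebraMap R S (M k i) * v i = 0) :
    ∃ (m : ℕ) (w : Fin m → ι → R) (c : Fin m → S),
      (∀ j k, ∑ i, M k i * w j i = 0) ∧ ∀ i, v i = ∑ j, c j * algebraMap R S (w j i) := by
  classical
  let f : (κ → R) →ₗ[R] (ι → R) := Fintype.linearCombination R (fun k => M k)
  let x : (ι → R) →ₗ[R] S := Fintype.linearCombination R v
  have hxf : x ∘ₗ f = 0 := by
    refine LinearMap.pi_ext' fun k => LinearMap.ext_ring ?_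
    simp only [LinearMap.comp_apply, LinearMap.zero_apply, LinearMap.coe_single, x, f,
      Fintype.linearCombination_apply_single, one_smul]
    simpa [Fintype.linearCombination_apply, Algebra.smul_def] using h k
  obtain ⟨m, a, y, hya, haf⟩ := Module.Flat.exists_factorization_of_comp_eq_zero_of_free hxf
  refine ⟨m, fun j i => a (Pi.single i 1) j, fun j => y (Finsupp.single j 1), fun j k => ?_, fun i => ?_⟩
  · have h1 : a (M k) = 0 := by
      simpa [f, Fintype.linearCombination_apply] using LinearMap.congr_fun haf (Pi.single k 1)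
    have h2 : M k = ∑ i, M k i • (Pi.single i (1 : R) : ι → R) := (pi_eq_sum_univ' (M k))
    rw [h2, map_sum] at h1
    simpa [Finsupp.finsetSum_apply] using congrArg (fun z => z j) h1
  · have h1 : v i = y (a (Pi.single i 1)) := by
      simpa [x, Fintype.linearCombination_apply] using LinearMap.congr_fun hya (Pi.single i 1)
    rw [h1]
    conv_lhs => rw [← Finsupp.univ_sum_single (a (Pi.single i 1))]
    rw [map_sum]
    refine Finset.sum_congr rfl fun j _ => ?_
    rw [← Finsupp.smul_single_one, map_smul, Algebra.smul_def, mul_comm]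

theorem dvd_of_forall_prime_pow {R : Type u} [CommRing R] [IsDomain R]
    [UniqueFactorizationMonoid R] (D : R) (hD : D ≠ 0) :
    ∀ N : R, (∀ (q : R) (k : ℕ), Prime q → q ^ k ∣ D → q ^ k ∣ N) → D ∣ N := by
  induction D using UniqueFactorizationMonoid.induction_on_prime with
  | h₁ => exact absurd rfl hD
  | h₂ u hu => exact fun N _ => hu.dvd
  | h₃ E q hE hq ih =>
    intro N h
    obtain ⟨N', rfl⟩ : q ∣ N := by simpa using h q 1 hq (by simp)
    refine mul_dvd_mul_left q (ih hE N' fun r k hr hrk => ?_)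
    by_cases hrq : r ∣ q
    · obtain ⟨u, rfl⟩ : Associated r q := hr.associated_of_dvd hq hrq
      have h1 := h r (k + 1) hr (by rw [pow_succ']; exact mul_dvd_mul (dvd_mul_right r _) hrk)
      rw [pow_succ', mul_assoc, mul_dvd_mul_iff_left hr.ne_zero] at h1
      exact (Units.dvd_mul_left).mp h1
    · exact hr.pow_dvd_of_dvd_mul_left k hrq (h r k hr (dvd_mul_of_dvd_right hrk q))

section
variable (p : ℕ) [hp : Fact p.Prime] (A : Type u) [CommRing A] [CharP A p]

/-- `A` as an algebra over itself through Frobenius. -/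
@[nolint unusedArguments]
def Frob (_p : ℕ) (A : Type u) : Type u := A

instance : CommRing (Frob p A) := inferInstanceAs (CommRing A)
noncomputable instance : Algebra A (Frob p A) := (frobenius A p).toAlgebra

theorem flat_frob [IsRegularLocalRing A] : Module.Flat A (Frob p A) := by
  haveI : IsRegularRing A := Groth.Agent.CAlgH3.isRegularRing_of_isRegularLocalRing
  exact (Groth.Agent.CAlgH3.Kunz.kunz p A).mp inferInstance

variable {A}

theorem exists_sub_mem_range [IsRegularLocalRing A] [IsDomain A]
    {K : Type v} [Field K] [Algebra A K] [IsFractionRing A K] (f : K)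
    (hloc : ∀ q : A, Prime q → ∃ (h : K) (s b : A), ¬ q ∣ s ∧
      (f - (h ^ p - h)) * algebraMap A K s = algebraMap A K b) :
    ∃ (h : K) (a : A), f - (h ^ p - h) = algebraMap A K a := by
  classical
  haveI := Groth.Agent.CAlgH3.ufm_of_regular A
  haveI : CharP K p := charP_of_injective_algebraMap (IsFractionRing.injective A K) p
  have hp2 : 2 ≤ p := hp.out.two_le
  obtain ⟨f0, g0, hg0', rfl⟩ := IsFractionRing.div_surjective A f
  have hg0 : g0 ≠ 0 := nonZeroDivisors.ne_zero hg0'
  choose H S B hS hH using fun q : {q : A // Prime q} => hloc q.1 q.2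
  choose num den hden hnd using fun q : {q : A // Prime q} => IsFractionRing.div_surjective A (H q)
  let Q : Finset {q : A // Prime q} :=
    (UniqueFactorizationMonoid.factors g0).toFinset.attach.image fun x =>
      ⟨x.1, UniqueFactorizationMonoid.prime_of_factor x.1 (Multiset.mem_toFinset.mp x.2)⟩
  let g : A := g0 * ∏ q ∈ Q, den q
  have hg : g ≠ 0 := mul_ne_zero hg0 (Finset.prod_ne_zero_iff.mpr fun q _ => nonZeroDivisors.ne_zero (hden q))
  have hgK : algebraMap A K g ≠ 0 := (map_ne_zero_iff _ (IsFractionRing.injective A K)).mpr hg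
  obtain ⟨f1, hf1⟩ : ∃ f1, algebraMap A K f0 / algebraMap A K g0 = algebraMap A K f1 / algebraMap A K g := by
    refine ⟨f0 * ∏ q ∈ Q, den q, ?_⟩
    rw [show g = g0 * ∏ q ∈ Q, den q from rfl, map_mul, map_mul, mul_div_mul_right]
    rw [map_ne_zero_iff _ (IsFractionRing.injective A K)]
    exact Finset.prod_ne_zero_iff.mpr fun q _ => nonZeroDivisors.ne_zero (hden q)
  rw [hf1] at hH ⊢
  let P := (UniqueFactorizationMonoid.factors g).toFinset
  have hPp : ∀ π : P, Prime π.1 := fun π =>
    UniqueFactorizationMonoid.prime_of_factor π.1 (Multiset.mem_toFinset.mp π.2)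
  have hsplit : ∀ π : P, ∃ (e : ℕ) (w : A), ¬ π.1 ∣ w ∧ g = π.1 ^ e * w := fun π =>
    WfDvdMonoid.max_power_factor hg (hPp π).irreducible
  choose e w hw hge using hsplit
  have hb : ∀ π : P, ∃ b : A, π.1 ^ (e π * p) ∣ f1 * g ^ (p - 1) - b ^ p + b * g ^ (p - 1) := by
    intro π
    obtain ⟨h, s, hs, hh, hgh⟩ : ∃ (h : K) (s : A), ¬ π.1 ∣ s ∧
        (∃ b, (algebraMap A K f1 / algebraMap A K g - (h ^ p - h)) * algebraMap A K s = algebraMap A K b) ∧
        ∃ b, algebraMap A K g * h = algebraMap A K b := by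
      by_cases hπ : π.1 ∣ g0
      · obtain ⟨q, hq, hqπ⟩ := UniqueFactorizationMonoid.exists_mem_factors_of_dvd hg0 (hPp π).irreducible hπ
        let q' : {q : A // Prime q} := ⟨q, UniqueFactorizationMonoid.prime_of_factor q hq⟩
        have hq' : q' ∈ Q := Finset.mem_image.mpr ⟨⟨q, Multiset.mem_toFinset.mpr hq⟩, Finset.mem_attach _ _, rfl⟩
        refine ⟨H q', S q', fun h => hS q' (hqπ.dvd_iff_dvd_left.mp h), ⟨B q', hH q'⟩, ?_⟩
        refine ⟨g0 * (∏ r ∈ Q.erase q', den r) * num q', ?_⟩
        have hd0 : algebraMap A K (den q') ≠ 0 :=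
          (map_ne_zero_iff _ (IsFractionRing.injective A K)).mpr (nonZeroDivisors.ne_zero (hden q'))
        rw [show g = g0 * ∏ q ∈ Q, den q from rfl, ← Finset.mul_prod_erase Q den hq', ← hnd q']
        simp only [map_mul]
        field_simp
      · refine ⟨0, g0, hπ, ⟨f0, ?_⟩, ⟨0, by simp⟩⟩
        rw [zero_pow (by omega), sub_zero, sub_zero, ← hf1, div_mul_cancel₀]
        exact (map_ne_zero_iff _ (IsFractionRing.injective A K)).mpr hg0
    obtain ⟨b1, hb1⟩ := hh
    obtain ⟨b, hb⟩ := hgh
    refine ⟨b, ?_⟩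
    have key : s * (f1 * g ^ (p - 1) - b ^ p + b * g ^ (p - 1)) = g ^ p * b1 := by
      apply IsFractionRing.injective A K
      simp only [map_mul, map_sub, map_add, map_pow, ← hb, ← hb1]
      have : algebraMap A K g ^ p = algebraMap A K g * algebraMap A K g ^ (p - 1) := by
        rw [← pow_succ', Nat.sub_add_cancel hp.out.one_le]
      field_simp
      rw [mul_pow, this]
      ring
    refine (hPp π).pow_dvd_of_dvd_mul_left _ hs ⟨w π ^ p * b1, ?_⟩
    rw [key, hge π, mul_pow, ← pow_mul]; ring
  choose b hb using hb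
  let J : Ideal A :=
    { carrier := {t | ∃ a, ∀ π : P, π.1 ^ e π ∣ a - t * b π}
      add_mem' := by
        rintro x y ⟨a, ha⟩ ⟨a', ha'⟩
        exact ⟨a + a', fun π => by convert dvd_add (ha π) (ha' π) using 1; ring⟩
      zero_mem' := ⟨0, fun π => by simp⟩
      smul_mem' := by
        rintro c x ⟨a, ha⟩
        exact ⟨c * a, fun π => by convert (ha π).mul_left c using 1; simp; ring⟩ }
  have hgJ : g ∈ J := ⟨0, fun π => by
    rw [zero_sub, dvd_neg, hge π]; exact (dvd_mul_right _ _).mul_right _⟩
  have hpow : ∀ (π : P) (x : A), π.1 ^ e π ∣ x → π.1 ^ (e π * p) ∣ g ^ (p - 1) * x := by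
    intro π x hx
    have h1 : π.1 ^ (e π * (p - 1)) ∣ g ^ (p - 1) := by
      rw [hge π, mul_pow, ← pow_mul]; exact dvd_mul_right _ _
    have h2 : e π * p = e π * (p - 1) + e π := by
      rw [← Nat.mul_succ, Nat.succ_eq_add_one, Nat.sub_add_cancel hp.out.one_le]
    rw [h2, pow_add]; exact mul_dvd_mul h1 hx
  have hJF : J ≤ Ideal.span ((fun x : A => x ^ p) '' J) := by
    rintro t ⟨a, ha⟩
    let a' := g ^ (p - 1) * (a + t * f1)
    have ha' : ∀ π : P, π.1 ^ (e π * p) ∣ a' - t * b π ^ p := fun π => by
      convert dvd_add (hpow π _ (ha π)) ((hb π).mul_left t) using 1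
      simp only [a']; ring
    choose c hc using ha'
    let M : P → Option (Option P) → A := fun π i => match i with
      | none => - b π
      | some none => 1
      | some (some π') => if π' = π then - π.1 ^ e π else 0
    let v : Option (Option P) → Frob p A := fun i => match i with
      | none => t
      | some none => a'
      | some (some π') => c π'
    haveI := flat_frob p A
    obtain ⟨m, W, C, hW, hv⟩ := mem_span_of_flat (S := Frob p A) M v (fun π => by
      simp only [Fintype.sum_option, M, v]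
      rw [Finset.sum_eq_single π (fun π' _ h => by rw [if_neg h, map_zero]; exact zero_mul _) (fun h => absurd (Finset.mem_univ _) h)]
      show ((- b π) ^ p : A) * t + ((1 : A) ^ p * a' + (if π = π then - π.1 ^ e π else 0) ^ p * c π) = 0
      rw [if_pos rfl, ← frobenius_def p (- b π), ← frobenius_def p (- π.1 ^ e π), map_neg, map_neg,
        frobenius_def, frobenius_def, ← pow_mul]
      linear_combination hc π)
    rw [show t = ∑ j, @HMul.hMul A A A _ (C j) ((W j none) ^ p) from hv none]
    refine Ideal.sum_mem _ fun j _ => Ideal.mul_mem_left _ _ (Ideal.subset_span ⟨W j none, ⟨W j (some none), fun π => ?_⟩, rfl⟩)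
    have h1 := hW j π
    simp only [Fintype.sum_option, M] at h1
    rw [Finset.sum_eq_single π (fun π' _ h => by simp [h]) (fun h => absurd (Finset.mem_univ _) h),
      if_pos rfl] at h1
    exact ⟨W j (some (some π)), by linear_combination h1⟩
  have hJtop : J = ⊤ := by
    by_contra hne
    have hm : ∀ n, J ≤ IsLocalRing.maximalIdeal A ^ (n + 1) := by
      intro n
      induction n with
      | zero => simpa using IsLocalRing.le_maximalIdeal hne
      | succ n ih =>
        refine hJF.trans (Ideal.span_le.mpr ?_)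
        rintro _ ⟨x, hx, rfl⟩
        refine Ideal.pow_le_pow_right ?_ (show x ^ p ∈ IsLocalRing.maximalIdeal A ^ ((n + 1) * p) by
          rw [pow_mul]; exact Ideal.pow_mem_pow (ih hx) p)
        nlinarith
    apply hg
    have : g ∈ ⨅ n : ℕ, IsLocalRing.maximalIdeal A ^ n := by
      rw [Ideal.mem_iInf]
      intro n
      exact Ideal.pow_le_pow_right (Nat.le_succ n) (hm n hgJ)
    rwa [Ideal.iInf_pow_eq_bot_of_isLocalRing _ (IsLocalRing.maximalIdeal.isMaximal A).ne_top,
      Ideal.mem_bot] at this
  obtain ⟨a, ha⟩ : (1 : A) ∈ J := hJtop ▸ Submodule.mem_top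
  have hdvd : g ^ p ∣ f1 * g ^ (p - 1) - a ^ p + a * g ^ (p - 1) := by
    refine dvd_of_forall_prime_pow _ (pow_ne_zero _ hg) _ fun q k hq hk => ?_
    rcases Nat.eq_zero_or_pos k with rfl | hk0
    · simp
    obtain ⟨π', hπ', hπq⟩ := UniqueFactorizationMonoid.exists_mem_factors_of_dvd hg hq.irreducible
      (hq.dvd_of_dvd_pow ((dvd_pow_self q hk0.ne').trans hk))
    let π : P := ⟨π', Multiset.mem_toFinset.mpr hπ'⟩
    have hk' : π.1 ^ k ∣ π.1 ^ (e π * p) := by
      have h1 : π.1 ^ k ∣ π.1 ^ (e π * p) * w π ^ p := by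
        rw [pow_mul, ← mul_pow, ← hge π]; exact ((hπq.symm.pow_pow).dvd).trans hk
      exact (hPp π).pow_dvd_of_dvd_mul_right k (fun h => hw π ((hPp π).dvd_of_dvd_pow h)) h1
    refine (hπq.pow_pow.dvd).trans (hk'.trans ?_)
    have h1 := hb π
    have h2 : π.1 ^ e π ∣ a - b π := by simpa using ha π
    have h3 : π.1 ^ (e π * p) ∣ (a - b π) ^ p := by rw [pow_mul]; exact pow_dvd_pow_of_dvd h2 p
    convert dvd_add h1 (dvd_sub (hpow π _ h2) h3) using 1
    rw [sub_pow_char a (b π)]; ring
  obtain ⟨r, hr⟩ := hdvd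
  refine ⟨algebraMap A K a / algebraMap A K g, r, ?_⟩
  have h1 := congrArg (algebraMap A K) hr
  simp only [map_mul, map_sub, map_add, map_pow] at h1
  have h2 : algebraMap A K g ^ p = algebraMap A K g * algebraMap A K g ^ (p - 1) := by
    rw [← pow_succ', Nat.sub_add_cancel hp.out.one_le]
  rw [div_pow]
  field_simp
  rw [h2] at h1 ⊢
  linear_combination algebraMap A K g * h1

end

end Groth.Agent.CommAlg4.ASPurity
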