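import Groth.Agent.FF.DiffExp
import Groth.Agent.FF.Quadratic
import Groth.Agent.FF.HyperGenus
import Groth.Agent.S12519
import Mathlib

/-! Artin–Schreier extensions `y² + y = f` of `k(x)` in characteristic `2`: genus and regular differentials. -/

set_option autoImplicit false
set_option backward.isDefEq.respectTransparency false

open FunFld WithZero LocRes Polynomial Groth.Agent.FF
open scoped LaurentSeries Classical

set_option synthInstance.maxHeartbeats 100000

namespace Groth.Agent.CommAlg4.ASchar2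

universe u v w

variable {k : Type u} {K : Type v} [Field k] [Field K] [Algebra k K] [Algebra (RatFunc k) K]
  [IsScalarTower k (RatFunc k) K]

local notation "ι" => algebraMap (Polynomial k) (RatFunc k)
local notation "Rk" => RatFunc k
local notation "j" => algebraMap (RatFunc k) K

/-- `(1 - ord f)/2` at the poles of `f`. -/
noncomputable def wt (f : Rk) (p : Place k Rk) : ℤ := if p.ord f < 0 then (1 - p.ord f) / 2 else 0

noncomputable def wDiv (f : Rk) : Divisor k Rk :=
  Finsupp.ofSupportFinite (fun p => wt f p)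
    ((finite_support_ord isFunctionField_ratFunc f).subset fun p hp => by
      simp only [Function.mem_support, ne_eq] at hp ⊢
      intro h
      exact hp (by rw [wt, if_neg (by omega)]))

theorem wDiv_apply (f : Rk) (p : Place k Rk) : wDiv f p = wt f p := rfl

theorem wt_nonneg (f : Rk) (p : Place k Rk) : 0 ≤ wt f p := by
  unfold wt; split_ifs <;> omega

theorem wt_bad {f : Rk} {p : Place k Rk} (h : p.ord f < 0) (hodd : Odd (p.ord f)) :
    2 * wt f p = 1 - p.ord f := by
  rw [wt, if_pos h]
  obtain ⟨r, hr⟩ := hodd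
  omega

/-- The standing hypotheses. -/
structure Data (k : Type u) (K : Type v) [Field k] [Field K] [Algebra k K] [Algebra (RatFunc k) K]
    (y : K) (f : RatFunc k) : Prop where
  char : ringChar k = 2
  rank : Module.finrank (RatFunc k) K = 2
  ne : y ∉ Set.range (algebraMap (RatFunc k) K)
  eq : y ^ 2 + y = algebraMap (RatFunc k) K f
  odd : ∀ p : Place k (RatFunc k), p.ord f < 0 → Odd (p.ord f)

variable {y : K} {f : RatFunc k}

omit [IsScalarTower k (RatFunc k) K] in
theorem Data.finite (d : Data k K y f) : FiniteDimensional Rk K :=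
  Module.finite_of_finrank_pos (by rw [d.rank]; omega)

omit [IsScalarTower k (RatFunc k) K] in
theorem Data.two (d : Data k K y f) (L : Type*) [Field L] [Algebra k L] : (2 : L) = 0 := by
  have h : (2 : k) = 0 := by
    have := ringChar.Nat.cast_ringChar (R := k)
    rw [d.char] at this; exact_mod_cast this
  rw [← map_ofNat (algebraMap k L) 2, h, map_zero]

omit [IsScalarTower k (RatFunc k) K] in
theorem Data.f_ne (d : Data k K y f) : f ≠ 0 := fun h => by
  have h1 : y * (y + 1) = 0 := by rw [mul_add, ← sq, mul_one, d.eq, h, map_zero]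
  rcases mul_eq_zero.mp h1 with h2 | h2
  · exact d.ne ⟨0, by rw [map_zero, h2]⟩
  · exact d.ne ⟨-1, by rw [map_neg, map_one]; exact (eq_neg_of_add_eq_zero_left h2).symm⟩

omit [IsScalarTower k (RatFunc k) K] in
theorem Data.separable (d : Data k K y f) : Algebra.IsSeparable Rk K := by
  have := d.finite
  have hint := IsIntegral.of_finite Rk y
  set g : (Rk)[X] := Polynomial.X ^ 2 + Polynomial.X + Polynomial.C (-f) with hg
  have hroot : aeval y g = 0 := by
    simp [hg, map_add, d.eq]
  have hgsep : g.Separable := by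
    refine ⟨0, 1, ?_⟩
    have h2 : (2 : Rk) = 0 := d.two Rk
    simp [hg]
    rw [one_add_one_eq_two, ← map_ofNat (Polynomial.C : Rk →+* (Rk)[X]) 2, h2, map_zero]
  have hy : IsSeparable Rk y := hgsep.of_dvd (minpoly.dvd Rk y hroot)
  have htop : IntermediateField.adjoin Rk ({y} : Set K) = ⊤ := by
    rcases (IntermediateField.isSimpleOrder_of_finrank_prime Rk K (d.rank ▸ Nat.prime_two)).eq_bot_or_eq_top
      (IntermediateField.adjoin Rk ({y} : Set K)) with h | h
    · exact absurd (IntermediateField.mem_bot.mp (IntermediateField.adjoin_simple_eq_bot_iff.mp h)) d.ne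
    · exact h
  have h1 : Algebra.IsSeparable Rk (IntermediateField.adjoin Rk ({y} : Set K)) :=
    (IntermediateField.isSeparable_adjoin_simple_iff_isSeparable _ _).mpr hy
  rw [htop] at h1
  exact Algebra.IsSeparable.of_algHom Rk (⊤ : IntermediateField Rk K) IntermediateField.topEquiv.symm.toAlgHom

omit [IsScalarTower k (RatFunc k) K] in
theorem Data.trace_y (d : Data k K y f) (a b : Rk) :
    Algebra.trace Rk K (j a + j b * y) = b := by
  have := d.finite
  have hint := IsIntegral.of_finite Rk y
  set g : (Rk)[X] := Polynomial.X ^ 2 + Polynomial.X + Polynomial.C (-f) with hg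
  have hgm : g.Monic := by rw [hg]; monicity!
  have hgd : g.natDegree = 2 := by rw [hg]; compute_degree!
  have hroot : aeval y g = 0 := by simp [hg, map_add, d.eq]
  have hdy : (minpoly Rk y).natDegree = 2 := by
    have h1 := minpoly.natDegree_le (A := Rk) y
    have h3 := minpoly.natDegree_pos hint
    have h4 : (minpoly Rk y).natDegree ≠ 1 := fun h => d.ne (minpoly.natDegree_eq_one_iff.mp h)
    rw [d.rank] at h1; omega
  have hmin : minpoly Rk y = g :=
    (Polynomial.eq_of_monic_of_dvd_of_natDegree_le (minpoly.monic hint) hgm (minpoly.dvd Rk y hroot)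
      (by rw [hdy, hgd])).symm
  have hfr : Module.finrank (IntermediateField.adjoin Rk ({y} : Set K)) K = 1 := by
    have h1 := Module.finrank_mul_finrank Rk (IntermediateField.adjoin Rk ({y} : Set K)) K
    rw [IntermediateField.adjoin.finrank hint, hdy, d.rank] at h1
    omega
  have hty : Algebra.trace Rk K y = -1 := by
    rw [trace_eq_finrank_mul_minpoly_nextCoeff, hfr, hmin, Polynomial.nextCoeff_of_natDegree_pos (by rw [hgd]; omega),
      hgd, hg]
    simp
  rw [map_add, ← mul_one (j a), ← Algebra.smul_def, ← Algebra.smul_def, map_smul, map_smul, hty,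
    ← map_one (algebraMap Rk K), Algebra.trace_algebraMap, d.rank, smul_eq_mul, smul_eq_mul, nsmul_eq_mul]
  have h2 : (2 : Rk) = 0 := d.two Rk
  push_cast
  linear_combination (a - b) * h2

variable [PerfectField k]

theorem Data.bad (d : Data k K y f) {p : Place k Rk} (hp : p.ord f < 0) :
    ∃ P : Place k K, IsOver P p ∧ ∀ Q : Place k K, IsOver Q p →
      IsOverWith Q p 2 ∧ Q.1 y = exp (-p.ord f) := by
  have := d.finite
  have := d.separable
  obtain ⟨⟨P, hP, -⟩, h2⟩ := (S12519.result k K d.char d.rank y d.ne f d.eq p).1 ⟨hp, d.odd p hp⟩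
  refine ⟨P, hP, fun Q hQ => ⟨(h2 Q hQ).1, ?_⟩⟩
  have he := (h2 Q hQ).1
  have hbig : 1 < Q.1 y := by
    by_contra hc
    have hle : Q.1 (j f) ≤ 1 := by
      rw [← d.eq]
      exact (Q.1.map_add _ _).trans (max_le (by rw [map_pow]; exact pow_le_one' (not_lt.mp hc) 2) (not_lt.mp hc))
    have := (val_le_one_iff p d.f_ne).mp ((ow_le_one_iff he f).mp hle)
    omega
  have hsum : Q.1 (j f) = Q.1 y ^ 2 := by
    rw [← d.eq, Valuation.map_add_eq_of_lt_left Q.1 ?_, map_pow]
    rw [map_pow, sq]
    calc Q.1 y = 1 * Q.1 y := (one_mul _).symm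
      _ < Q.1 y * Q.1 y := mul_lt_mul_of_pos_right hbig (lt_trans zero_lt_one hbig)
  have h1 := ow_ord_eq he f
  rw [FunFld.Place.ord, hsum, log_pow, nsmul_eq_mul] at h1
  push_cast at h1
  rw [← exp_log (lt_trans zero_lt_one hbig).ne']; congr 1; linarith

theorem Data.good (d : Data k K y f) {p : Place k Rk} (hp : ¬ p.ord f < 0) {P : Place k K} (hP : IsOver P p) :
    IsOverWith P p 1 ∧ P.1 y ≤ 1 := by
  have := d.finite
  have := d.separable
  have he := (S12519.result k K d.char d.rank y d.ne f d.eq p).2 (by omega) P hP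
  refine ⟨he, not_lt.mp fun hbig => ?_⟩
  have h1 : P.1 (j f) ≤ 1 := (ow_le_one_iff he f).mpr ((val_le_one_iff p d.f_ne).mpr (by omega))
  rw [← d.eq, Valuation.map_add_eq_of_lt_left P.1, map_pow] at h1
  · exact not_lt.mpr h1 (one_lt_pow₀ hbig two_ne_zero)
  · rw [map_pow, sq]
    calc P.1 y = 1 * P.1 y := (one_mul _).symm
      _ < P.1 y * P.1 y := mul_lt_mul_of_pos_right hbig (lt_trans zero_lt_one hbig)

/-- Integrality over a place of `k(x)`, on the coordinates. -/
theorem Data.local_iff (d : Data k K y f) (p : Place k Rk) (a b : Rk) :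
    (∀ P : Place k K, IsOver P p → P.1 (j a + j b * y) ≤ 1) ↔ p.1 a ≤ 1 ∧ p.1 b ≤ exp (-wt f p) := by
  have := d.finite
  by_cases hp : p.ord f < 0
  · obtain ⟨P₀, hP₀, hall⟩ := d.bad hp
    have hw := wt_bad hp (d.odd p hp)
    have key : ∀ P : Place k K, IsOver P p →
        (P.1 (j a + j b * y) ≤ 1 ↔ p.1 a ≤ 1 ∧ p.1 b ≤ exp (-wt f p)) := by
      intro P hP
      obtain ⟨he, hy⟩ := hall P hP
      have hb : P.1 (j b * y) ≤ 1 ↔ p.1 b ≤ exp (-wt f p) := by
        rcases eq_or_ne b 0 with rfl | hb0
        · simp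
        rw [map_mul, he, hy, val_eq_exp_neg_ord p hb0, ← exp_nsmul, ← exp_add, ← exp_zero, exp_le_exp, exp_le_exp,
          nsmul_eq_mul]
        push_cast
        omega
      rw [← hb, ← ow_le_one_iff he a]
      refine ⟨fun h => ?_, fun h => (P.1.map_add _ _).trans (max_le h.1 h.2)⟩
      by_cases hne : P.1 (j a) = P.1 (j b * y)
      · rcases eq_or_ne a 0 with rfl | ha0
        · rw [map_zero, map_zero] at hne
          rw [map_zero, map_zero, ← hne]; exact ⟨zero_le, zero_le⟩
        exfalso
        rcases eq_or_ne b 0 with rfl | hb0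
        · rw [map_zero, zero_mul, map_zero] at hne
          exact (map_ne_zero P.1).mpr ((_root_.map_ne_zero j).mpr ha0) hne
        rw [map_mul, he, he, hy, val_eq_exp_neg_ord p hb0, val_eq_exp_neg_ord p ha0, ← exp_nsmul, ← exp_nsmul, ← exp_add,
          exp_inj, nsmul_eq_mul, nsmul_eq_mul] at hne
        obtain ⟨r, hr⟩ := d.odd p hp
        push_cast at hne
        omega
      · rw [Valuation.map_add_of_distinct_val P.1 hne, max_le_iff] at h
        exact h
    exact ⟨fun h => (key P₀ hP₀).mp (h P₀ hP₀), fun h P hP => (key P hP).mpr h⟩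
  · rw [wt, if_neg hp, neg_zero, exp_zero]
    constructor
    · intro h
      letI : Algebra p.O K := ((algebraMap Rk K).comp p.O.subtype).toAlgebra
      haveI : IsScalarTower p.O Rk K := IsScalarTower.of_algebraMap_eq fun _ => rfl
      have hz := (isIntegral_iff_forall_place isFF'_ratFunc p (j a + j b * y)).mpr h
      have hb : p.1 b ≤ 1 := by
        obtain ⟨r, hr⟩ := IsIntegrallyClosed.isIntegral_iff.mp (Algebra.isIntegral_trace (L := Rk) hz)
        rw [d.trace_y] at hr
        exact hr ▸ (mem_O p).mp r.2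
      obtain ⟨P, hP⟩ := exists_over (K' := K) isFF'_ratFunc p
      refine ⟨?_, hb⟩
      obtain ⟨he, hy⟩ := d.good hp hP
      rw [← ow_le_one_iff he]
      rw [show j a = (j a + j b * y) - j b * y by ring]
      refine (P.1.map_sub _ _).trans (max_le (h P hP) ?_)
      rw [map_mul]; exact mul_le_one' ((ow_le_one_iff he b).mpr hb) hy
    · rintro ⟨ha, hb⟩ P hP
      obtain ⟨he, hy⟩ := d.good hp hP
      refine (P.1.map_add _ _).trans (max_le ((ow_le_one_iff he a).mpr ha) ?_)
      rw [map_mul]; exact mul_le_one' ((ow_le_one_iff he b).mpr hb) hy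

/-- The space of a pulled back divisor, on the coordinates. -/
theorem Data.mem_L_conorm (d : Data k K y f) (D : Divisor k Rk) (a b : Rk) :
    j a + j b * y ∈ L (conorm K D) ↔ a ∈ L D ∧ b ∈ L (D - wDiv f) := by
  have := d.finite
  have key : ∀ p : Place k Rk, (∀ P : Place k K, IsOver P p → P.1 (j a + j b * y) ≤ exp (conorm K D P)) ↔
      p.1 a ≤ exp (D p) ∧ p.1 b ≤ exp ((D - wDiv f) p) := by
    intro p
    obtain ⟨s, hs⟩ := p.2.2 (exp (-D p))
    have h := d.local_iff p (s * a) (s * b)
    have e : ∀ v : WithZero (Multiplicative ℤ), ∀ n m : ℤ, exp n * v ≤ exp m ↔ v ≤ exp (m - n) := fun v n m => by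
      rcases eq_or_ne v 0 with rfl | hv
      · simp
      · rw [← exp_log hv, ← exp_add, exp_le_exp, exp_le_exp]; omega
    have e0 : ∀ v : WithZero (Multiplicative ℤ), ∀ n : ℤ, exp n * v ≤ 1 ↔ v ≤ exp (-n) := fun v n =>
      (iff_of_eq (congrArg (fun t => exp n * v ≤ t) exp_zero.symm)).trans
        ((e v n 0).trans (iff_of_eq (by rw [zero_sub])))
    rw [map_mul p.1, map_mul p.1, hs, e0, e, neg_neg,
      show -wt f p - -D p = (D - wDiv f) p by rw [Finsupp.sub_apply, wDiv_apply]; ring] at h
    rw [← h]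
    refine forall₂_congr fun P hP => ?_
    rw [show j (s * a) + j (s * b) * y = j s * (j a + j b * y) by rw [map_mul, map_mul]; ring, map_mul (P.1),
      isOverWith_ramIdx hP s, hs, ← exp_nsmul, e0, conorm_apply isFF'_ratFunc D hP, nsmul_eq_mul,
      mul_neg, neg_neg]
  constructor
  · exact fun h => ⟨fun p => ((key p).mp fun P _ => h P).1, fun p => ((key p).mp fun P _ => h P).2⟩
  · intro h P
    obtain ⟨p, e, -, he⟩ := exists_isOverWith (K := Rk) isFF'_ratFunc P
    exact (key p).mpr ⟨h.1 p, h.2 p⟩ P ⟨e, he⟩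

theorem genus_ratFunc : genus k Rk = 0 := by
  obtain ⟨-, -, -, -, h⟩ := genus_zero_of_adjoin_eq_top isFunctionField_ratFunc RatFunc.adjoin_X
    (transcendental_of_adjoin_eq_top (isFunctionField_ratFunc (k := k)) RatFunc.adjoin_X)
  exact h

theorem ell_ratFunc {D : Divisor k Rk} (h : -1 ≤ D.deg) : (ell D : ℤ) = D.deg + 1 := by
  rw [ell_eq_of_deg_large isFunctionField_ratFunc (by rw [genus_ratFunc]; simpa using h), genus_ratFunc]
  simp

noncomputable def toK (K : Type v) [Field K] [Algebra k K] [Algebra (RatFunc k) K]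
    [IsScalarTower k (RatFunc k) K] (y : K) : (Rk × Rk) →ₗ[k] K :=
  ((IsScalarTower.toAlgHom k Rk K).toLinearMap).coprod
    ((LinearMap.mulRight k y).comp (IsScalarTower.toAlgHom k Rk K).toLinearMap)

theorem Data.toK_bij (d : Data k K y f) : Function.Bijective (toK (k := k) K y) := by
  constructor
  · rw [← LinearMap.ker_eq_bot, Submodule.eq_bot_iff]
    rintro ⟨a, b⟩ h
    change j a + j b * y = 0 at h
    by_cases hb : b = 0
    · subst hb
      rw [map_zero, zero_mul, add_zero, map_eq_zero] at h
      exact Prod.ext h rfl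
    · refine absurd ⟨-a / b, ?_⟩ d.ne
      rw [map_div₀, map_neg, div_eq_iff ((_root_.map_ne_zero j).mpr hb)]
      linear_combination -h
  · intro w
    haveI := d.finite
    obtain ⟨a, b, h⟩ := exists_decomp d.rank d.ne w
    exact ⟨(a, b), h.symm⟩

theorem Data.ell_conorm (d : Data k K y f) (D : Divisor k Rk) :
    ell (conorm K D) = ell D + ell (D - wDiv f) := by
  haveI := finiteDimensional_L isFunctionField_ratFunc D
  haveI := finiteDimensional_L isFunctionField_ratFunc (D - wDiv f)
  let Ψ : (L D × L (D - wDiv f)) →ₗ[k] K := (toK (k := k) K y).comp ((L D).subtype.prodMap (L (D - wDiv f)).subtype)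
  have hinj : Function.Injective Ψ := d.toK_bij.1.comp
    (Function.Injective.prodMap Subtype.val_injective Subtype.val_injective)
  have hmap : LinearMap.range Ψ = L (conorm K D) := by
    refine le_antisymm ?_ fun w hw => ?_
    · rintro _ ⟨⟨a, b⟩, rfl⟩
      exact (d.mem_L_conorm D a.1 b.1).mpr ⟨a.2, b.2⟩
    · obtain ⟨⟨a, b⟩, rfl⟩ := d.toK_bij.2 w
      obtain ⟨ha, hb⟩ := (d.mem_L_conorm D a b).mp hw
      exact ⟨(⟨a, ha⟩, ⟨b, hb⟩), rfl⟩
  rw [ell, ← hmap, LinearMap.finrank_range_of_inj hinj, Module.finrank_prod]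
  rfl

theorem Data.genus_eq (d : Data k K y f) (hK : IsFunctionField k K) :
    (genus k K : ℤ) = (wDiv f).deg - 1 := by
  have := d.finite
  obtain ⟨P, hP, -⟩ := genus_zero_of_adjoin_eq_top isFunctionField_ratFunc RatFunc.adjoin_X
    (transcendental_of_adjoin_eq_top (isFunctionField_ratFunc (k := k)) RatFunc.adjoin_X)
  have hW : 0 ≤ (wDiv f).deg := deg_nonneg fun p => wt_nonneg f p
  set n : ℤ := genus k K + (wDiv f).deg with hn
  set D : Divisor k Rk := Finsupp.single P n with hD
  have hdD : D.deg = n := by rw [hD, deg_single, hP]; simp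
  have h1 := d.ell_conorm D
  have h2 : (conorm K D).deg = 2 * n := by rw [deg_conorm isFF'_ratFunc, d.rank, hdD]; push_cast; ring
  have h3 := ell_eq_of_deg_large hK (D := conorm K D) (by rw [h2]; omega)
  have h4 := ell_ratFunc (D := D) (by omega)
  have h5 := ell_ratFunc (D := D - wDiv f) (by rw [deg_sub, hdD]; omega)
  rw [deg_sub, hdD] at h5
  rw [h1, h2] at h3
  push_cast at h3
  omega

end Groth.Agent.CommAlg4.ASchar2
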