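import Mathlib
import Groth.Agent.DCat.Acyclic
import Groth.Agent.DCat.Hocolim
import Groth.Agent.DCat.RHomExist
import Groth.Agent.DCat.ZeroD
import Groth.Agent.DCat.RFTri
import Groth.Agent.DQCoh.Coproduct
import Groth.Agent.DQCoh.AcyclicPush
import Groth.Agent.S0985

/-! Acyclic complexes compute the derived functor when it commutes with countable sums. -/

set_option autoImplicit false
set_option backward.isDefEq.respectTransparency false
set_option linter.style.haveILetI false
set_option linter.unusedSectionVars false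

universe w w' v v' u u'

open CategoryTheory CategoryTheory.Limits CategoryTheory.Pretriangulated HomologicalComplex
open Groth.Agent.DCat
open scoped ZeroObject

namespace Groth.Agent.CommAlg4.AcyclicUnit

variable {A : Type u} [Category.{v} A] [Abelian A] [HasDerivedCategory.{w} A]
  {B : Type u'} [Category.{v'} B] [Abelian B] [HasDerivedCategory.{w'} B] (F : A ⥤ B) [F.Additive]
  [(F.mapHomotopyCategory (ComplexShape.up ℤ) ⋙ DerivedCategory.Qh).HasRightDerivedFunctor
    (HomotopyCategory.quasiIso A (ComplexShape.up ℤ))]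

/-- The total right derived functor. -/
noncomputable abbrev RD : DerivedCategory A ⥤ DerivedCategory B :=
  (F.mapHomotopyCategory (ComplexShape.up ℤ) ⋙ DerivedCategory.Qh).totalRightDerived
    DerivedCategory.Qh (HomotopyCategory.quasiIso A (ComplexShape.up ℤ))

/-- Its unit. -/
noncomputable abbrev uD : F.mapHomotopyCategory (ComplexShape.up ℤ) ⋙ DerivedCategory.Qh ⟶ DerivedCategory.Qh ⋙ RD F :=
  (F.mapHomotopyCategory (ComplexShape.up ℤ) ⋙ DerivedCategory.Qh).totalRightDerivedUnit
    DerivedCategory.Qh (HomotopyCategory.quasiIso A (ComplexShape.up ℤ))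

/-- The unit is an isomorphism once `F` inverts a K-injective resolution. -/
theorem isIso_unit_of_qis (hK : EnoughKInj A) {K I : CochainComplex A ℤ} (s : K ⟶ I) [QuasiIso s]
    (hI : I.IsKInjective)
    (h : (CochainComplex.mappingCone s).Acyclic →
      ((F.mapHomologicalComplex (ComplexShape.up ℤ)).obj (CochainComplex.mappingCone s)).Acyclic) :
    IsIso ((uD F).app ((HomotopyCategory.quotient A (ComplexShape.up ℤ)).obj K)) := by
  let qs := (HomotopyCategory.quotient A (ComplexShape.up ℤ)).map s
  have hqs : HomotopyCategory.quasiIso A (ComplexShape.up ℤ) qs :=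
    (HomotopyCategory.quotient_map_mem_quasiIso_iff s).2 (by rw [mem_quasiIso_iff]; infer_instance)
  haveI : IsIso (DerivedCategory.Qh.map qs) :=
    Localization.inverts DerivedCategory.Qh (HomotopyCategory.quasiIso A (ComplexShape.up ℤ)) qs hqs
  haveI := isIso_unit_of_kInj hK (F.mapHomotopyCategory (ComplexShape.up ℤ) ⋙ DerivedCategory.Qh) I hI
  haveI : IsIso ((F.mapHomotopyCategory (ComplexShape.up ℤ) ⋙ DerivedCategory.Qh).map qs) := by
    haveI := DCat.Acyclic.isIso_Q_map_map (F := F) s h
    exact (NatIso.isIso_map_iff (DerivedCategory.quotientCompQhIso B)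
      ((F.mapHomologicalComplex (ComplexShape.up ℤ)).map s)).2 inferInstance
  have hn := (uD F).naturality qs
  haveI : IsIso ((uD F).app ((HomotopyCategory.quotient A (ComplexShape.up ℤ)).obj K) ≫
      (RD F).map (DerivedCategory.Qh.map qs)) := by
    have e : (uD F).app ((HomotopyCategory.quotient A (ComplexShape.up ℤ)).obj K) ≫
        (RD F).map (DerivedCategory.Qh.map qs) = (F.mapHomotopyCategory (ComplexShape.up ℤ) ⋙ DerivedCategory.Qh).map qs ≫
        (uD F).app ((HomotopyCategory.quotient A (ComplexShape.up ℤ)).obj I) := hn.symm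
    rw [e]; infer_instance
  exact IsIso.of_isIso_comp_right _ ((RD F).map (DerivedCategory.Qh.map qs))

variable [PreservesFiniteLimits F] [EnoughInjectives A] [HasInjectiveResolutions A]

/-- Bounded below complexes of acyclic objects compute the derived functor. -/
theorem isIso_unit_bddBelow (hK : EnoughKInj A) (K : CochainComplex A ℤ) (n : ℤ) [K.IsStrictlyGE n]
    (hX : ∀ m, Acyclic.Acy F (K.X m)) :
    IsIso ((uD F).app ((HomotopyCategory.quotient A (ComplexShape.up ℤ)).obj K)) := by
  obtain ⟨L, i, hq, hL, hn⟩ := CochainComplex.Plus.modelCategoryQuillen.exists_quasiIso_injective K n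
  haveI := hq
  haveI := hn
  haveI := hL
  refine isIso_unit_of_qis F hK i (CochainComplex.isKInjective_of_injective L n) fun hc => ?_
  haveI : (CochainComplex.mappingCone i).IsStrictlyGE (n - 1) := by
    rw [CochainComplex.isStrictlyGE_iff]
    intro j hj
    rw [CochainComplex.mappingCone.isZero_X_iff]
    exact ⟨CochainComplex.isZero_of_isStrictlyGE _ n _ (by omega),
      CochainComplex.isZero_of_isStrictlyGE _ n _ (by omega)⟩
  exact Acyclic.acyclic_map_boundedBelow _ (n - 1) hc
    (Acyclic.acy_mappingCone_X i hX fun m => Acyclic.acy_injective (L.X m))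

theorem acy_zero {X : A} (hX : IsZero X) : Acyclic.Acy F X := fun i _ => (F.rightDerived i).map_isZero hX

omit [EnoughInjectives A] [HasInjectiveResolutions A] [HasDerivedCategory.{w} A] in
/-- The sequence of stupid truncations. -/
theorem exists_stupidSeq (C : CochainComplex A ℤ) :
    ∃ (L : ℕ ⥤ CochainComplex A ℤ) (c : Cocone L), c.pt = C ∧
      (∀ n, (L.obj n).IsStrictlyGE (-(n : ℤ))) ∧ ∀ (n : ℕ) (i : ℤ), -(n : ℤ) ≤ i → IsIso ((c.ι.app n).f i) := by
  choose P ι hmono hz hiso using fun n : ℕ => DQCoh.exists_stupid C (-(n : ℤ))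
  have h0 : ∀ n, ι n ≫ cokernel.π (ι (n + 1)) = 0 := fun n => by
    ext i
    rw [comp_f, zero_f]
    by_cases hi : -((n + 1 : ℕ) : ℤ) ≤ i
    · haveI := hiso (n + 1) i hi
      have : (cokernel.π (ι (n + 1))).f i = 0 := by
        rw [← cancel_epi ((ι (n + 1)).f i), ← comp_f, cokernel.condition, zero_f, comp_zero]
      rw [this, comp_zero]
    · exact (hz n i (by omega)).eq_of_src _ _
  haveI := hmono
  let f : ∀ n, P n ⟶ P (n + 1) := fun n => Abelian.monoLift (ι (n + 1)) (ι n) (h0 n)
  have hf : ∀ n, f n ≫ ι (n + 1) = ι n := fun n => Abelian.monoLift_comp _ _ _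
  let c : Cocone (Functor.ofSequence f) :=
    { pt := C
      ι := NatTrans.ofSequence ι fun n => by
        rw [Functor.ofSequence_map_homOfLE_succ]
        exact (hf n).trans (Category.comp_id (ι n)).symm }
  exact ⟨Functor.ofSequence f, c, rfl, fun n => (CochainComplex.isStrictlyGE_iff _ _).2 fun i hi => hz n i hi,
    fun n i hi => hiso n i hi⟩

theorem isIso_homologyMap_of_isIso_f {K L : CochainComplex B ℤ} (f : K ⟶ L) (i : ℤ)
    (h : ∀ j, i - 1 ≤ j → j ≤ i + 1 → IsIso (f.f j)) : IsIso (homologyMap f i) := by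
  have : IsIso ((shortComplexFunctor B (ComplexShape.up ℤ) i).map f) := by
    haveI : IsIso (((shortComplexFunctor B (ComplexShape.up ℤ) i).map f).τ₁) := h _ (by simp) (by simp; omega)
    haveI : IsIso (((shortComplexFunctor B (ComplexShape.up ℤ) i).map f).τ₂) := h _ (by omega) (by omega)
    haveI : IsIso (((shortComplexFunctor B (ComplexShape.up ℤ) i).map f).τ₃) := h _ (by simp; omega) (by simp)
    exact ShortComplex.isIso_of_isIso _
  exact (inferInstance : IsIso ((ShortComplex.homologyFunctor B).map ((shortComplexFunctor B (ComplexShape.up ℤ) i).map f)))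

variable [HasColimitsOfShape ℕ A] [HasExactColimitsOfShape ℕ A] [HasColimitsOfShape (Discrete ℕ) A]
  [HasColimitsOfShape (Discrete ℕ) (DerivedCategory A)]
  [PreservesColimitsOfShape (Discrete ℕ) (DerivedCategory.Q (C := A))]
  [HasColimitsOfShape ℕ B] [(RD F).CommShift ℤ] [(RD F).IsTriangulated]

/-- `F` keeps exact an exact complex of acyclic objects when `RF` commutes with countable sums. -/
theorem acyclic_map_of_sums (hK : EnoughKInj A) (hB : SeqMono B)
    (hsum : ∀ i : ℤ, PreservesColimitsOfShape (Discrete ℕ) (RD F ⋙ DerivedCategory.homologyFunctor B i))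
    (C : CochainComplex A ℤ) (hC : C.Acyclic) (hX : ∀ m, Acyclic.Acy F (C.X m)) :
    ((F.mapHomologicalComplex (ComplexShape.up ℤ)).obj C).Acyclic := by
  obtain ⟨L, c, rfl, hGE, hiso⟩ := exists_stupidSeq C
  intro i
  rw [exactAt_iff_isZero_homology]
  haveI := hsum i
  let H := RD F ⋙ DerivedCategory.homologyFunctor B i
  let G : CochainComplex A ℤ ⥤ B :=
    F.mapHomologicalComplex (ComplexShape.up ℤ) ⋙ DerivedCategory.Q ⋙ DerivedCategory.homologyFunctor B i
  let α : HomotopyCategory.quotient A (ComplexShape.up ℤ) ⋙ (F.mapHomotopyCategory (ComplexShape.up ℤ) ⋙ DerivedCategory.Qh) ≅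
      F.mapHomologicalComplex (ComplexShape.up ℤ) ⋙ DerivedCategory.Q :=
    (Functor.associator _ _ _).symm ≪≫ Functor.isoWhiskerRight (F.mapHomotopyCategoryFactors (ComplexShape.up ℤ)) DerivedCategory.Qh ≪≫
      Functor.associator _ _ _ ≪≫ Functor.isoWhiskerLeft _ (DerivedCategory.quotientCompQhIso B)
  let τ : F.mapHomologicalComplex (ComplexShape.up ℤ) ⋙ DerivedCategory.Q ⟶ DerivedCategory.Q ⋙ RD F :=
    α.inv ≫ Functor.whiskerLeft _ (uD F) ≫ (Functor.associator _ _ _).inv ≫
      Functor.whiskerRight (DerivedCategory.quotientCompQhIso A).hom (RD F)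
  let η : G ⟶ DerivedCategory.Q ⋙ H :=
    (Functor.associator _ _ _).inv ≫ Functor.whiskerRight τ (DerivedCategory.homologyFunctor B i) ≫
      (Functor.associator _ _ _).hom
  have hacy : ∀ n m, Acyclic.Acy F ((L.obj n).X m) := fun n m => by
    by_cases hm : -(n : ℤ) ≤ m
    · haveI := hiso n m hm
      exact (hX m).of_iso (asIso ((c.ι.app n).f m)).symm
    · haveI := hGE n
      exact acy_zero F ((L.obj n).isZero_of_isStrictlyGE (-(n : ℤ)) m (by omega))
  haveI : ∀ n, IsIso (η.app (L.obj n)) := fun n => by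
    haveI := hGE n
    haveI := isIso_unit_bddBelow F hK (L.obj n) (-(n : ℤ)) (hacy n)
    haveI : IsIso (τ.app (L.obj n)) := by
      simp only [τ, NatTrans.comp_app, Functor.whiskerLeft_app, Functor.whiskerRight_app]
      infer_instance
    simp only [η, NatTrans.comp_app, Functor.whiskerRight_app]
    infer_instance
  haveI : IsIso (Functor.whiskerLeft L η) := by
    haveI : ∀ n, IsIso ((Functor.whiskerLeft L η).app n) := fun n => inferInstanceAs (IsIso (η.app (L.obj n)))
    exact NatIso.isIso_of_isIso_app _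
  -- the colimit of the sequence is the complex
  let hcol : IsColimit c := isColimitOfEval _ _ fun m =>
    isColimitOfEventuallyIso _ (-m).toNat fun k hk => hiso k m (by omega)
  let e0 : colimit L ≅ c.pt := (colimit.isColimit L).coconePointUniqueUpToIso hcol
  have hz : IsZero (DerivedCategory.Q.obj (colimit L)) := by
    haveI : QuasiIso (0 : c.pt ⟶ (0 : CochainComplex A ℤ)) := (quasiIso_iff _).2 fun j => by
      rw [quasiIsoAt_iff_isIso_homologyMap]
      exact ⟨0, ((exactAt_iff_isZero_homology _ _).1 (hC j)).eq_of_src _ _,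
        ((homologyFunctor A (ComplexShape.up ℤ) j).map_isZero (isZero_zero _)).eq_of_src _ _⟩
    exact (((DerivedCategory.Q).map_isZero (isZero_zero _)).of_iso
      (asIso (DerivedCategory.Q.map (0 : c.pt ⟶ (0 : CochainComplex A ℤ))))).of_iso (DerivedCategory.Q.mapIso e0)
  obtain ⟨e, -⟩ := homological_hocolim hB H _ _ _ _ (S0985.result L)
  have hz1 : IsZero (colimit (L ⋙ DerivedCategory.Q ⋙ H)) := by
    refine ((H.map_isZero hz).of_iso e).of_iso ?_
    let φ : L ⋙ DerivedCategory.Q ⋙ H ⟶
        Functor.ofSequence (fun n => H.map (DerivedCategory.Q.map (L.map (homOfLE (Nat.le_succ n))))) :=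
      NatTrans.ofSequence (fun n => 𝟙 _) fun n => by
        rw [Functor.ofSequence_map_homOfLE_succ]
        exact (Category.comp_id _).trans (Category.id_comp _).symm
    haveI : ∀ n, IsIso (φ.app n) := fun n => inferInstanceAs (IsIso (𝟙 _))
    haveI : IsIso φ := NatIso.isIso_of_isIso_app φ
    exact HasColimit.isoOfNatIso (asIso φ)
  have hG : IsColimit (G.mapCocone c) := isColimitOfEventuallyIso _ (1 - i).toNat fun k hk => by
    show IsIso (G.map (c.ι.app k))
    refine (NatIso.isIso_map_iff (Functor.isoWhiskerLeft (F.mapHomologicalComplex (ComplexShape.up ℤ))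
      (DerivedCategory.homologyFunctorFactors B i)) (c.ι.app k)).2 ?_
    exact isIso_homologyMap_of_isIso_f ((F.mapHomologicalComplex (ComplexShape.up ℤ)).map (c.ι.app k)) i fun j hj _ => by
      haveI := hiso k j (by omega)
      show IsIso (F.map ((c.ι.app k).f j))
      infer_instance
  have hz2 : IsZero (G.obj c.pt) := by
    refine hz1.of_iso ?_
    exact (hG.coconePointUniqueUpToIso (colimit.isColimit (L ⋙ G))) ≪≫
      HasColimit.isoOfNatIso (asIso (Functor.whiskerLeft L η))
  exact hz2.of_iso ((DerivedCategory.homologyFunctorFactors B i).app _).symm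

/-- Complexes of acyclic objects compute `RF` when it commutes with countable sums. -/
theorem isIso_unit_of_sums (hB : SeqMono B)
    (hsum : ∀ i : ℤ, PreservesColimitsOfShape (Discrete ℕ) (RD F ⋙ DerivedCategory.homologyFunctor B i))
    (hres : ∀ M : CochainComplex A ℤ,
      ∃ (I : CochainComplex A ℤ) (f : M ⟶ I), I.IsKInjective ∧ QuasiIso f ∧ ∀ n, Injective (I.X n))
    (K : CochainComplex A ℤ) (hX : ∀ m, Acyclic.Acy F (K.X m)) :
    IsIso ((uD F).app ((HomotopyCategory.quotient A (ComplexShape.up ℤ)).obj K)) := by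
  have hK : EnoughKInj A := fun M => by
    obtain ⟨I, f, h1, h2, -⟩ := hres M
    exact ⟨I, f, h1, h2⟩
  obtain ⟨I, s, hI, hs, hinj⟩ := hres K
  haveI := hs
  haveI := hinj
  exact isIso_unit_of_qis F hK s hI fun hc => acyclic_map_of_sums F hK hB hsum _ hc
    (Acyclic.acy_mappingCone_X s hX fun m => Acyclic.acy_injective (I.X m))

end Groth.Agent.CommAlg4.AcyclicUnit
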