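import Groth.Agent.LambdaLib.KRRExt
import Groth.Agent.LambdaLib.KRRThms
import Groth.Agent.LambdaLib.KRRGammaExt
import Mathlib

/-!
# Adams–Riemann–Roch for an elementary projection

After splitting `e = Σ u_a`, the functional is `G ↦ Σ_a G(u_a) / Π_{b≠a} (1 - u_b/u_a)`; the formula is
then the identity `(1 - y)(1 + ⋯ + y^{j-1}) = 1 - y^j`, checked in a universal domain.
-/

set_option autoImplicit false
set_option maxHeartbeats 1000000
set_option backward.isDefEq.respectTransparency false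

universe u v

open Finset Polynomial

namespace Groth.Agent.CommAlg4.AdamsRR

variable {S : Type u} [CommRing S] {S' : Type v} [CommRing S'] {m : ℕ}

/-- `Σ h_n t^n = Π (1 - v_a t)⁻¹`. -/
noncomputable def hser (v : Fin m → S) : PowerSeries S :=
  (∏ a, (1 - PowerSeries.C (v a) * PowerSeries.X)).invOfUnit 1

theorem prod_mul_hser (v : Fin m → S) : (∏ a, (1 - PowerSeries.C (v a) * PowerSeries.X)) * hser v = 1 :=
  PowerSeries.mul_invOfUnit _ _ (by simp [map_prod])

theorem eq_hser {v : Fin m → S} {Q : PowerSeries S}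
    (h : (∏ a, (1 - PowerSeries.C (v a) * PowerSeries.X)) * Q = 1) : Q = hser v :=
  calc Q = Q * ((∏ a, (1 - PowerSeries.C (v a) * PowerSeries.X)) * hser v) := by rw [prod_mul_hser, mul_one]
    _ = hser v := by rw [← mul_assoc, mul_comm Q, h, one_mul]

theorem map_hser (φ : S →+* S') (v : Fin m → S) :
    PowerSeries.map φ (hser v) = hser (fun a => φ (v a)) := by
  refine eq_hser ?_
  simpa [map_prod] using congrArg (PowerSeries.map φ) (prod_mul_hser v)

theorem map_coeff_hser (φ : S →+* S') (v : Fin m → S) (n : ℕ) :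
    φ (PowerSeries.coeff n (hser v)) = PowerSeries.coeff n (hser (fun a => φ (v a))) := by
  rw [← map_hser, PowerSeries.coeff_map]

/-- `G ↦ Σ coeff_l(G) h_l`. -/
noncomputable def Fun (v : Fin m → S) (G : Polynomial S) : S :=
  G.sum fun l c => c * PowerSeries.coeff l (hser v)

theorem Fun_add (v : Fin m → S) (G G' : Polynomial S) : Fun v (G + G') = Fun v G + Fun v G' :=
  Polynomial.sum_add_index _ _ _ (by simp) (by intros; ring)

theorem Fun_monomial (v : Fin m → S) (l : ℕ) (c : S) :
    Fun v (monomial l c) = c * PowerSeries.coeff l (hser v) :=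
  Polynomial.sum_monomial_index _ _ (by simp)

theorem map_Fun (φ : S →+* S') (v : Fin m → S) (G : Polynomial S) :
    φ (Fun v G) = Fun (fun a => φ (v a)) (G.map φ) := by
  induction G using Polynomial.induction_on' with
  | add p q hp hq => rw [Fun_add, map_add, hp, hq, Polynomial.map_add, Fun_add]
  | monomial n c => rw [Fun_monomial, map_mul, map_coeff_hser, Polynomial.map_monomial, Fun_monomial]

/-- Partial fractions. -/
theorem coeff_hser_field {F : Type u} [Field F] {v : Fin m → F} (hm : 0 < m) (hv : Function.Injective v)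
    (h0 : ∀ a, v a ≠ 0) (n : ℕ) :
    PowerSeries.coeff n (hser v) =
      ∑ a, (∏ b ∈ univ.erase a, (1 - v b * (v a)⁻¹))⁻¹ * v a ^ n := by
  classical
  set c : Fin m → F := fun a => (∏ b ∈ univ.erase a, (1 - v b * (v a)⁻¹))⁻¹ with hc
  have hcne : ∀ a, ∏ b ∈ univ.erase a, (1 - v b * (v a)⁻¹) ≠ 0 := by
    intro a
    refine Finset.prod_ne_zero_iff.2 fun b hb => ?_
    rw [sub_ne_zero, ne_comm, ← div_eq_mul_inv]
    exact fun h => (Finset.mem_erase.1 hb).1 (hv ((div_eq_one_iff_eq (h0 a)).1 h))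
  have key : (∑ a, Polynomial.C (c a) * ∏ b ∈ univ.erase a, (1 - Polynomial.C (v b) * Polynomial.X)) = 1 := by
    refine Polynomial.eq_of_degrees_lt_of_eval_index_eq (v := fun a => (v a)⁻¹) (univ : Finset (Fin m))
      (fun a _ b _ h => hv (inv_injective h)) ?_ ?_ fun a _ => ?_
    · refine lt_of_le_of_lt (Polynomial.degree_sum_le _ _) ?_
      refine (Finset.sup_lt_iff (by rw [Finset.card_univ, Fintype.card_fin]; exact WithBot.bot_lt_coe m)).2 fun a _ => ?_
      refine lt_of_le_of_lt (Polynomial.degree_mul_le _ _) ?_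
      refine lt_of_le_of_lt (add_le_add Polynomial.degree_C_le le_rfl) ?_
      rw [zero_add]
      refine lt_of_le_of_lt (Polynomial.degree_prod_le _ _) ?_
      refine lt_of_le_of_lt (Finset.sum_le_sum (g := fun _ => (1 : WithBot ℕ)) fun b _ => ?_) ?_
      · refine (Polynomial.degree_sub_le _ _).trans (max_le ?_ (Polynomial.degree_C_mul_X_le _))
        exact Polynomial.degree_one_le.trans (by decide)
      · rw [Finset.sum_const, Finset.card_erase_of_mem (Finset.mem_univ a), Finset.card_univ,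
          Fintype.card_fin, nsmul_one]
        exact_mod_cast Nat.sub_lt hm one_pos
    · rw [Polynomial.degree_one, Finset.card_univ, Fintype.card_fin]
      exact_mod_cast hm
    · rw [Polynomial.eval_finsetSum, Finset.sum_eq_single a, Polynomial.eval_one]
      · simp only [Polynomial.eval_mul, Polynomial.eval_C, Polynomial.eval_prod, Polynomial.eval_sub,
          Polynomial.eval_one, Polynomial.eval_X]
        exact inv_mul_cancel₀ (hcne a)
      · intro b _ hba
        rw [Polynomial.eval_mul, Polynomial.eval_prod]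
        refine mul_eq_zero_of_right _ (Finset.prod_eq_zero (Finset.mem_erase.2 ⟨Ne.symm hba, Finset.mem_univ a⟩) ?_)
        simp [h0 a]
      · simp
  have hQ : (∑ a, PowerSeries.C (c a) * PowerSeries.mk fun n => v a ^ n) = hser v := by
    refine eq_hser ?_
    rw [Finset.mul_sum]
    have h1 := congrArg (Polynomial.coeToPowerSeries.ringHom (R := F)) key
    simp only [map_sum, map_mul, map_prod, map_sub, map_one, Polynomial.coeToPowerSeries.ringHom_apply,
      Polynomial.coe_C, Polynomial.coe_X] at h1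
    refine Eq.trans (Finset.sum_congr rfl fun a _ => ?_) h1
    have hg : (1 - PowerSeries.C (v a) * PowerSeries.X) * (PowerSeries.mk fun n => v a ^ n) = 1 := by
      ext n
      rw [sub_mul, one_mul, map_sub, mul_assoc, PowerSeries.coeff_C_mul, PowerSeries.coeff_mk,
        PowerSeries.coeff_one]
      rcases n with _ | n
      · simp
      · simp [pow_succ']
    rw [← Finset.mul_prod_erase univ (fun b => 1 - PowerSeries.C (v b) * PowerSeries.X) (Finset.mem_univ a)]
    linear_combination (PowerSeries.C (c a) *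
      ∏ b ∈ univ.erase a, (1 - PowerSeries.C (v b) * PowerSeries.X)) * hg
  rw [← hQ]
  simp [PowerSeries.coeff_mk, hc]

theorem Fun_field {F : Type u} [Field F] {v : Fin m → F} (hm : 0 < m) (hv : Function.Injective v)
    (h0 : ∀ a, v a ≠ 0) (G : Polynomial F) :
    Fun v G = ∑ a, (∏ b ∈ univ.erase a, (1 - v b * (v a)⁻¹))⁻¹ * G.eval (v a) := by
  induction G using Polynomial.induction_on' with
  | add p q hp hq =>
    rw [Fun_add, hp, hq, ← Finset.sum_add_distrib]
    exact Finset.sum_congr rfl fun a _ => by rw [Polynomial.eval_add, mul_add]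
  | monomial n c =>
    rw [Fun_monomial, coeff_hser_field hm hv h0, Finset.mul_sum]
    exact Finset.sum_congr rfl fun a _ => by rw [Polynomial.eval_monomial]; ring

/-- The identity over a field. -/
theorem field_identity {F : Type u} [Field F] {v : Fin m → F} (hm : 0 < m) (hv : Function.Injective v)
    (h0 : ∀ a, v a ≠ 0) (j : ℕ) (hjF : (j : F) ≠ 0) (hvj : Function.Injective fun a => v a ^ j) (i : ℕ) (G : Polynomial F)
    (hG : ∀ a, G.eval (v a) * ∏ b, ∑ l ∈ range j, (v b * (v a)⁻¹) ^ l = (j : F) * v a ^ (i * j)) :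
    Fun v G = PowerSeries.coeff i (hser fun a => v a ^ j) := by
  classical
  rw [Fun_field hm hv h0, coeff_hser_field hm hvj (fun a => pow_ne_zero _ (h0 a))]
  refine Finset.sum_congr rfl fun a _ => ?_
  have hP : ∀ w : Fin m → F, Function.Injective w → (∀ a, w a ≠ 0) →
      ∏ b ∈ univ.erase a, (1 - w b * (w a)⁻¹) ≠ 0 := by
    intro w hw hw0
    refine Finset.prod_ne_zero_iff.2 fun b hb => ?_
    rw [sub_ne_zero, ne_comm, ← div_eq_mul_inv]
    exact fun h => (Finset.mem_erase.1 hb).1 (hw ((div_eq_one_iff_eq (hw0 a)).1 h))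
  have h1 := hG a
  rw [← Finset.mul_prod_erase univ _ (Finset.mem_univ a), mul_inv_cancel₀ (h0 a)] at h1
  simp only [one_pow, Finset.sum_const, Finset.card_range, nsmul_one] at h1
  have hsplit : ∏ b ∈ univ.erase a, (1 - v b ^ j * (v a ^ j)⁻¹) =
      (∏ b ∈ univ.erase a, (1 - v b * (v a)⁻¹)) *
        ∏ b ∈ univ.erase a, ∑ l ∈ range j, (v b * (v a)⁻¹) ^ l := by
    rw [← Finset.prod_mul_distrib]
    exact Finset.prod_congr rfl fun b _ => by rw [mul_neg_geom_sum, mul_pow, inv_pow]
  have hA := hP v hv h0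
  have hB := hP (fun a => v a ^ j) hvj (fun a => pow_ne_zero _ (h0 a))
  have h2 : G.eval (v a) * ∏ b ∈ univ.erase a, ∑ l ∈ range j, (v b * (v a)⁻¹) ^ l = v a ^ (i * j) :=
    mul_left_cancel₀ hjF (by linear_combination h1)
  rw [← pow_mul, mul_comm j i, ← h2, hsplit, mul_inv]
  have hS : ∏ b ∈ univ.erase a, ∑ l ∈ range j, (v b * (v a)⁻¹) ^ l ≠ 0 := fun h => hB (by rw [hsplit, h, mul_zero])
  generalize (∏ b ∈ univ.erase a, ∑ l ∈ range j, (v b * (v a)⁻¹) ^ l) = Sp at hS ⊢
  generalize (∏ b ∈ univ.erase a, (1 - v b * (v a)⁻¹)) = Ap at hA ⊢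
  field_simp

/-- An element of `S[T]/Π(T - v_a)` is a unit if all its values at the `v_a` are. -/
theorem isUnit_of_forall_lift {p : Polynomial S} {v : Fin m → S} (hp : p = ∏ a, (Polynomial.X - Polynomial.C (v a)))
    (x : AdjoinRoot p)
    (h : ∀ a, ∀ h : p.eval₂ (RingHom.id S) (v a) = 0, IsUnit (AdjoinRoot.lift (RingHom.id S) (v a) h x)) :
    IsUnit x := by
  by_contra hx
  obtain ⟨M, hM, hxM⟩ := exists_max_ideal_of_mem_nonunits hx
  have hprime := hM.isPrime
  have h0 : ∏ a, (AdjoinRoot.root p - AdjoinRoot.of p (v a)) ∈ M := by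
    have h1 : AdjoinRoot.mk p (∏ a, (Polynomial.X - Polynomial.C (v a))) = 0 := by rw [← hp, AdjoinRoot.mk_self]
    simp only [map_prod, map_sub, AdjoinRoot.mk_X, AdjoinRoot.mk_C] at h1
    rw [h1]; exact zero_mem _
  obtain ⟨a, -, ha⟩ := hprime.prod_mem_iff.1 h0
  have hev : p.eval₂ (RingHom.id S) (v a) = 0 := by
    rw [hp, Polynomial.eval₂_finsetProd]
    exact Finset.prod_eq_zero (Finset.mem_univ a) (by simp)
  have hcong : x - AdjoinRoot.of p (AdjoinRoot.lift (RingHom.id S) (v a) hev x) ∈ M := by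
    induction x using AdjoinRoot.induction_on with
    | ih G =>
      rw [AdjoinRoot.lift_mk, Polynomial.eval₂_id]
      obtain ⟨Q, hQ⟩ := Polynomial.X_sub_C_dvd_sub_C_eval (a := v a) (p := G)
      rw [← AdjoinRoot.mk_C, ← map_sub, hQ, map_mul, map_sub, AdjoinRoot.mk_X, AdjoinRoot.mk_C]
      exact M.mul_mem_right _ ha
  have hmem := sub_mem hxM hcong
  rw [sub_sub_cancel] at hmem
  exact hprime.ne_top (Ideal.eq_top_of_isUnit_mem _ hmem ((h a hev).map _))

theorem ge_geom_sum_eq {R : Type u} [CommRing R] (x y x' : R) (hx : x * x' = 1) (j : ℕ) :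
    x ^ (j - 1) * (∑ l ∈ range j, (y * x') ^ l) = ∑ l ∈ range j, y ^ l * x ^ (j - 1 - l) := by
  rw [Finset.mul_sum]
  refine Finset.sum_congr rfl fun l hl => ?_
  have hl' : l < j := Finset.mem_range.1 hl
  rw [mul_pow, show j - 1 = (j - 1 - l) + l by omega, pow_add, Nat.add_sub_cancel]
  have h1 : (x * x') ^ l = 1 := by rw [hx, one_pow]
  rw [mul_pow] at h1
  linear_combination (x ^ (j - 1 - l) * y ^ l) * h1

/-- The universal denominators. -/
noncomputable def den (j m : ℕ) : MvPolynomial (Fin m) ℤ :=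
  (j : MvPolynomial (Fin m) ℤ) * (∏ a, MvPolynomial.X a) *
    ∏ a, ∏ b, ∑ l ∈ range j, (MvPolynomial.X b) ^ l * (MvPolynomial.X a) ^ (j - 1 - l)

theorem den_ne_zero {j : ℕ} (hj : 1 ≤ j) (m : ℕ) : den j m ≠ 0 := by
  intro h
  have := congrArg (MvPolynomial.eval fun _ => (1 : ℤ)) h
  simp [den, Finset.prod_const] at this
  omega

/-- The theta class. -/
noncomputable def theta (j : ℕ) (v : Fin m → S) (t' : S) : S := ∏ b, ∑ l ∈ range j, (v b * t') ^ l

theorem map_theta (φ : S →+* S') (j : ℕ) (v : Fin m → S) (t' : S) :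
    φ (theta j v t') = theta j (fun b => φ (v b)) (φ t') := by simp [theta, map_prod, map_sum]

theorem aeval_bottPoly (j : ℕ) (v : Fin m → S) :
    MvPolynomial.aeval (fun i : Fin m => MvPolynomial.aeval v (MvPolynomial.esymm (Fin m) ℤ (i.1 + 1)))
      (KRR.bottPoly j m) = ∏ b, ∑ l ∈ range j, v b ^ l := by
  have h1 : MvPolynomial.aeval (fun i : Fin m => MvPolynomial.esymm (Fin m) ℤ (i.1 + 1))
      (KRR.bottPoly j m) = KRR.bottSym j m := by
    have h := congrArg Subtype.val ((MvPolynomial.esymmAlgEquiv (Fin m) ℤ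
      (Fintype.card_fin _)).apply_symm_apply ⟨_, KRR.bottSym_isSymmetric j m⟩)
    rw [MvPolynomial.esymmAlgEquiv_apply, MvPolynomial.esymmAlgHom_apply] at h
    exact h
  rw [← MvPolynomial.comp_aeval, AlgHom.comp_apply, h1]
  simp [KRR.bottSym, map_prod, map_sum]

/-- The specialised identity. -/
theorem ring_identity (hm : 0 < m) {j : ℕ} (hj : 1 ≤ j) (v : Fin m → S) (hj' : IsUnit (j : S))
    (hv : ∀ a, IsUnit (v a))
    (hθ : ∀ a, ∀ v' : S, v a * v' = 1 → IsUnit (theta j v v')) {p : Polynomial S}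
    (hp : p = ∏ a, (Polynomial.X - Polynomial.C (v a))) (t' w : AdjoinRoot p)
    (ht : t' * AdjoinRoot.root p = 1) (hw : w * theta j (fun b => AdjoinRoot.of p (v b)) t' = 1)
    (i : ℕ) :
    ∃ G : Polynomial S, AdjoinRoot.mk p G = (j : AdjoinRoot p) * w * AdjoinRoot.root p ^ (i * j) ∧
      Fun v G = PowerSeries.coeff i (hser fun a => v a ^ j) := by
  classical
  let B := MvPolynomial (Fin m) ℤ
  let R0 := Localization.Away (den j m)
  have : IsDomain R0 := IsLocalization.isDomain_of_le_nonZeroDivisors _ (M := Submonoid.powers (den j m))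
    (powers_le_nonZeroDivisors_of_noZeroDivisors (den_ne_zero hj m))
  let u : Fin m → R0 := fun a => algebraMap B R0 (MvPolynomial.X a)
  have hden : IsUnit (algebraMap B R0 (den j m)) := IsLocalization.Away.algebraMap_isUnit _
  simp only [den] at hden
  rw [map_mul, map_mul, IsUnit.mul_iff, IsUnit.mul_iff] at hden
  obtain ⟨⟨-, hu⟩, hH⟩ := hden
  rw [map_prod] at hu hH
  have hua : ∀ a, IsUnit (u a) := fun a => isUnit_of_dvd_unit (Finset.dvd_prod_of_mem _ (Finset.mem_univ a)) hu
  have hθ0 : ∀ a, ∀ u' : R0, u a * u' = 1 → IsUnit (theta j u u') := by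
    intro a u' hu'
    have ha := isUnit_of_dvd_unit (Finset.dvd_prod_of_mem _ (Finset.mem_univ a)) hH
    simp only [map_prod, map_sum, map_mul, map_pow] at ha
    refine IsUnit.prod_iff.2 fun b _ => ?_
    have hb := isUnit_of_dvd_unit (Finset.dvd_prod_of_mem _ (Finset.mem_univ b)) ha
    rw [← ge_geom_sum_eq (u a) (u b) u' hu'] at hb
    exact isUnit_of_mul_isUnit_right hb
  let p0 : Polynomial R0 := ∏ a, (Polynomial.X - Polynomial.C (u a))
  have hrootu : IsUnit (AdjoinRoot.root p0) := by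
    refine isUnit_of_forall_lift rfl _ fun a h => ?_
    rw [AdjoinRoot.lift_root]
    exact hua a
  obtain ⟨t0, ht0⟩ := hrootu.exists_left_inv
  have hthu : IsUnit (theta j (fun b => AdjoinRoot.of p0 (u b)) t0) := by
    refine isUnit_of_forall_lift rfl _ fun a h => ?_
    rw [map_theta]
    have hof : (fun b => AdjoinRoot.lift (RingHom.id R0) (u a) h (AdjoinRoot.of p0 (u b))) = u :=
      funext fun b => AdjoinRoot.lift_of h
    rw [hof]
    refine hθ0 a _ ?_
    have h1 := congrArg (AdjoinRoot.lift (RingHom.id R0) (u a) h) ht0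
    rw [map_mul, AdjoinRoot.lift_root, map_one] at h1
    rw [mul_comm]; exact h1
  obtain ⟨w0, hw0⟩ := hthu.exists_left_inv
  obtain ⟨G0, hG0⟩ := AdjoinRoot.mk_surjective ((j : AdjoinRoot p0) * w0 * AdjoinRoot.root p0 ^ (i * j))
  have huniv : Fun u G0 = PowerSeries.coeff i (hser fun a => u a ^ j) := by
    let F := FractionRing R0
    refine IsFractionRing.injective R0 F ?_
    rw [map_Fun, map_coeff_hser]
    simp only [map_pow]
    have hinjB : Function.Injective (algebraMap B R0) := IsLocalization.injective _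
      (powers_le_nonZeroDivisors_of_noZeroDivisors (den_ne_zero hj m))
    have hinj : Function.Injective fun a => algebraMap R0 F (u a) ^ j := by
      intro a b hab
      simp only [← map_pow, u] at hab
      have := hinjB (IsFractionRing.injective R0 F hab)
      rw [MvPolynomial.X_pow_eq_monomial, MvPolynomial.X_pow_eq_monomial,
        MvPolynomial.monomial_left_inj (one_ne_zero), Finsupp.single_left_inj (by omega)] at this
      exact this
    refine field_identity hm (fun a b h => hinj (show algebraMap R0 F (u a) ^ j = _ by rw [h])) (fun a => ?_) j ?_ hinj i _ fun a => ?_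
    · exact ((hua a).map (algebraMap R0 F)).ne_zero
    · have hjB : (j : B) ≠ 0 := Nat.cast_ne_zero.2 (by omega)
      have := (IsFractionRing.injective R0 F).comp hinjB |>.ne hjB
      simpa using this
    · have hev : p0.eval₂ (algebraMap R0 F) (algebraMap R0 F (u a)) = 0 := by
        rw [Polynomial.eval₂_finsetProd]
        exact Finset.prod_eq_zero (Finset.mem_univ a) (by simp)
      let φ := AdjoinRoot.lift (algebraMap R0 F) _ hev
      have h1 : φ t0 = (algebraMap R0 F (u a))⁻¹ := by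
        refine eq_inv_of_mul_eq_one_left ?_
        rw [← AdjoinRoot.lift_root (i := algebraMap R0 F) hev, ← map_mul, ht0, map_one]
      have h2 : φ (AdjoinRoot.mk p0 G0) * φ (theta j (fun b => AdjoinRoot.of p0 (u b)) t0) =
          (j : F) * algebraMap R0 F (u a) ^ (i * j) := by
        rw [← map_mul, hG0]
        rw [show (j : AdjoinRoot p0) * w0 * AdjoinRoot.root p0 ^ (i * j) * theta j (fun b => AdjoinRoot.of p0 (u b)) t0 =
          (j : AdjoinRoot p0) * AdjoinRoot.root p0 ^ (i * j) by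
            linear_combination ((j : AdjoinRoot p0) * AdjoinRoot.root p0 ^ (i * j)) * hw0]
        simp [φ]
      rw [map_theta, h1, AdjoinRoot.lift_mk] at h2
      rw [Polynomial.eval_map]
      simpa [theta, φ] using h2
  have hunit : IsUnit (MvPolynomial.eval₂Hom (Int.castRingHom S) v (den j m)) := by
    simp only [den, map_mul, map_natCast, map_prod, MvPolynomial.eval₂Hom_X', map_sum, map_pow]
    refine (hj'.mul (IsUnit.prod_iff.2 fun a _ => hv a)).mul (IsUnit.prod_iff.2 fun a _ => ?_)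
    obtain ⟨a', ha'⟩ := (hv a).exists_right_inv
    have h := hθ a a' ha'
    rw [theta] at h
    refine IsUnit.prod_iff.2 fun b _ => ?_
    rw [← ge_geom_sum_eq (v a) (v b) a' ha']
    exact ((hv a).pow _).mul (IsUnit.prod_iff.1 h b (Finset.mem_univ b))
  let ψ : R0 →+* S := IsLocalization.Away.lift (den j m) hunit
  have hψu : ∀ a, ψ (u a) = v a := fun a => by
    exact (IsLocalization.Away.lift_eq _ hunit _).trans (MvPolynomial.eval₂Hom_X' _ _ _)
  have hpmap : p0.map ψ = p := by simp [p0, hp, Polynomial.map_prod, hψu]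
  let Ψ : AdjoinRoot p0 →+* AdjoinRoot p := AdjoinRoot.lift ((AdjoinRoot.of p).comp ψ) (AdjoinRoot.root p) (by
    rw [← Polynomial.eval₂_map, hpmap, AdjoinRoot.eval₂_root])
  have hΨt : Ψ t0 = t' := by
    refine (left_inv_eq_right_inv ?_ (by rw [mul_comm]; exact ht) : Ψ t0 = t')
    rw [← map_one Ψ, ← ht0, map_mul]
    simp [Ψ]
  have hΨw : Ψ w0 = w := by
    refine (left_inv_eq_right_inv (a := theta j (fun b => AdjoinRoot.of p (v b)) t') ?_ (by rw [mul_comm]; exact hw) : Ψ w0 = w)
    rw [← map_one Ψ, ← hw0, map_mul, map_theta Ψ, hΨt]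
    simp [Ψ, hψu]
  refine ⟨G0.map ψ, ?_, ?_⟩
  · rw [← hΨw, show AdjoinRoot.root p = Ψ (AdjoinRoot.root p0) by simp [Ψ], ← map_natCast Ψ, ← map_pow,
      ← map_mul, ← map_mul, ← hG0]
    simp only [Ψ, AdjoinRoot.lift_mk]
    rw [← Polynomial.eval₂_map]
    exact (AdjoinRoot.aeval_eq _).symm.trans (by rw [Polynomial.aeval_def, AdjoinRoot.algebraMap_eq])
  · have := congrArg ψ huniv
    rw [map_Fun, map_coeff_hser] at this
    simpa [hψu] using this

section Main

variable {Z : Type} [CommRing Z]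

open LambdaRing Groth.Agent.LambdaLib
open scoped TensorProduct

variable {K : Type u} [CommRing K] [LambdaOps K] {P : PosStructure K}

theorem lamSeries_mul_line (hK : HasSplitting K P) {w : K} (hw : P.IsLine w) (x : K) :
    lamSeries (x * w) = PowerSeries.rescale w (lamSeries x) := by
  have key : ∀ p ∈ P.pos, lamSeries (p * w) = PowerSeries.rescale w (lamSeries p) := fun p hp => by
    ext k
    rw [coeff_lamSeries, PowerSeries.coeff_rescale, coeff_lamSeries, lam_mul_line hK hp hw, mul_comm]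
  obtain ⟨a, b, ha, hb, rfl⟩ := P.exists_sub x
  have h1 := key a ha
  rw [show a * w = (a - b) * w + b * w by ring, lamSeries_add, key b hb,
    show lamSeries a = lamSeries (a - b) * lamSeries b by rw [← lamSeries_add, sub_add_cancel], map_mul] at h1
  exact ((isUnit_lamSeries b).map (PowerSeries.rescale w)).mul_left_inj.1 h1

theorem sigmaSeries_map {L : PosLambdaRing.{u}} {φ : K →+* L.carrier} (hφ : IsExtension P L.posStr φ) {e : K}
    {m : ℕ} {y : Fin m → L.carrier} (hy : ∀ a, L.posStr.IsLine (y a)) (hsum : ∑ a, y a = φ e) :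
    PowerSeries.map φ (KRR.sigmaSeries e) = hser y := by
  refine eq_hser ?_
  have h1 : PowerSeries.rescale (-1 : K) (lamSeries e) * KRR.sigmaSeries e = 1 := by
    refine PowerSeries.mul_invOfUnit _ _ ?_
    rw [← PowerSeries.coeff_zero_eq_constantCoeff_apply, PowerSeries.coeff_rescale, coeff_lamSeries,
      LambdaOps.lam_zero]
    simp
  have h2 := congrArg (PowerSeries.map φ) h1
  rw [map_mul, map_one] at h2
  have h3 : PowerSeries.map φ (PowerSeries.rescale (-1 : K) (lamSeries e)) =
      ∏ a, (1 - PowerSeries.C (y a) * PowerSeries.X) := by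
    have : PowerSeries.map φ (PowerSeries.rescale (-1 : K) (lamSeries e)) =
        PowerSeries.rescale (-1 : L.carrier) (lamSeries (φ e)) := by
      ext n
      simp [PowerSeries.coeff_rescale, coeff_lamSeries, hφ.isLambdaHom n e]
    rw [this, ← hsum, lamSeries_sum, map_prod]
    refine Finset.prod_congr rfl fun a _ => ?_
    rw [lamSeries_of_line (lam_line_eq_zero L.posStr (hy a))]
    ext n
    rw [PowerSeries.coeff_rescale, map_add, map_sub]
    rcases n with _ | _ | n <;> simp [PowerSeries.coeff_one, PowerSeries.coeff_X]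
  rwa [h3] at h2

theorem extPoly_map {L : PosLambdaRing.{u}} {φ : K →+* L.carrier} (hφ : IsExtension P L.posStr φ) {e : K}
    {m : ℕ} (hm : (P.aug e).toNat = m) {y : Fin m → L.carrier} (hy : ∀ a, L.posStr.IsLine (y a))
    (hsum : ∑ a, y a = φ e) :
    (KRR.extPoly P e).map φ = ∏ a, (Polynomial.X - Polynomial.C (y a)) := by
  rw [Finset.prod_eq_multiset_prod,
    show (fun a => (Polynomial.X - Polynomial.C (y a))) = (fun t => Polynomial.X - Polynomial.C t) ∘ y from rfl,
    ← Multiset.map_map, Multiset.prod_X_sub_X_eq_sum_esymm, Multiset.card_map]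
  simp only [KRR.extPoly, Polynomial.map_sum, hm, Finset.card_val, Finset.card_univ, Fintype.card_fin]
  refine Finset.sum_congr rfl fun i _ => ?_
  rw [Polynomial.map_mul, Polynomial.map_C, Polynomial.map_pow, Polynomial.map_X, map_mul, map_pow, map_neg,
    map_one, hφ.isLambdaHom, ← hsum, lam_sum_lines univ y (fun a _ => lam_line_eq_zero L.posStr (hy a)),
    ← Finset.esymm_map_val, map_mul, map_pow, map_neg, map_one, mul_assoc]

variable {e : K} {r j : ℕ} [inst : LambdaOps (AdjoinRoot (KRR.extPoly P e))]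
  {Pe : PosStructure (AdjoinRoot (KRR.extPoly P e))}

theorem bott_eq (hext : IsExtension P Pe (AdjoinRoot.of (KRR.extPoly P e)))
    (hline : Pe.IsLine (AdjoinRoot.root (KRR.extPoly P e))) (hsplit : HasSplitting _ Pe)
    (hr : P.aug e = r + 1) {linv : AdjoinRoot (KRR.extPoly P e)}
    (hlinv : linv * AdjoinRoot.root (KRR.extPoly P e) = 1) :
    Pe.aug (AdjoinRoot.of (KRR.extPoly P e) e * linv) = r + 1 ∧
    KRR.bott Pe j (AdjoinRoot.of (KRR.extPoly P e) e * linv) =
      MvPolynomial.aeval (fun i : Fin (r + 1) =>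
        linv ^ (i.1 + 1) * AdjoinRoot.of (KRR.extPoly P e) (LambdaOps.lam (i.1 + 1) e)) (KRR.bottPoly j (r + 1)) := by
  have haug : Pe.aug (AdjoinRoot.of (KRR.extPoly P e) e * linv) = r + 1 := by
    have h := congrArg Pe.aug hlinv
    rw [map_mul, map_one, hline.2, mul_one] at h
    rw [map_mul, h, mul_one, hext.aug_comp, hr]
  refine ⟨haug, ?_⟩
  have hlam : ∀ k, LambdaOps.lam k (AdjoinRoot.of (KRR.extPoly P e) e * linv) =
      linv ^ k * AdjoinRoot.of (KRR.extPoly P e) (LambdaOps.lam k e) := by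
    intro k
    have h := congrArg (PowerSeries.coeff k)
      (lamSeries_mul_line hsplit hline (AdjoinRoot.of (KRR.extPoly P e) e * linv))
    rw [coeff_lamSeries, PowerSeries.coeff_rescale, coeff_lamSeries,
      show AdjoinRoot.of (KRR.extPoly P e) e * linv * AdjoinRoot.root (KRR.extPoly P e) =
        AdjoinRoot.of (KRR.extPoly P e) e by rw [mul_assoc, hlinv, mul_one],
      ← hext.isLambdaHom] at h
    rw [h, ← mul_assoc, ← mul_pow, hlinv, one_pow, one_mul]
  have hN : (Pe.aug (AdjoinRoot.of (KRR.extPoly P e) e * linv)).toNat = r + 1 := by rw [haug]; omega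
  unfold KRR.bott
  simp only [hlam]
  rw [hN]

theorem isUnit_bott (hext : IsExtension P Pe (AdjoinRoot.of (KRR.extPoly P e)))
    (hline : Pe.IsLine (AdjoinRoot.root (KRR.extPoly P e))) (hsplit : HasSplitting _ Pe)
    (hK : HasSplitting K P) (he : e ∈ P.pos) (hr : P.aug e = r + 1) {linv : AdjoinRoot (KRR.extPoly P e)}
    (hlinv : linv * AdjoinRoot.root (KRR.extPoly P e) = 1) {N : ℕ} (hN : gammaFiltration Pe N = ⊥) (hZ : IsUnit (j : Z)) :
    IsUnit ((1 : Z) ⊗ₜ[ℤ] KRR.bott Pe j (AdjoinRoot.of (KRR.extPoly P e) e * linv)) := by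
  obtain ⟨haug, hbott⟩ := bott_eq (j := j) hext hline hsplit hr hlinv
  set β := KRR.bott Pe j (AdjoinRoot.of (KRR.extPoly P e) e * linv) with hβ
  have hlinv1 : Pe.aug linv = 1 := by
    have h := congrArg Pe.aug hlinv
    rwa [map_mul, map_one, hline.2, mul_one] at h
  have haugβ : Pe.aug β = (j : ℤ) ^ (r + 1) := by
    have h1 := aeval_bottPoly (S := ℤ) j (fun _ : Fin (r + 1) => (1 : ℤ))
    simp only [one_pow, Finset.sum_const, Finset.card_range, nsmul_one, Finset.prod_const, Finset.card_univ,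
      Fintype.card_fin] at h1
    rw [hbott, ← h1]
    show Pe.aug.toIntAlgHom _ = _
    rw [← AlgHom.comp_apply, MvPolynomial.comp_aeval]
    refine congrArg (fun v => MvPolynomial.aeval v _) (funext fun i => ?_)
    show Pe.aug _ = _
    have hc : P.aug (LambdaOps.lam (i.1 + 1) e) = ((r + 1).choose (i.1 + 1) : ℤ) := by
      rw [aug_lam_eq_choose hK he, show (P.aug e).toNat = r + 1 by omega]
    rw [map_mul, map_pow, hlinv1, one_pow, one_mul, hext.aug_comp, hc, aeval_esymm_eq]
    simp
  have hnil : IsNilpotent (β - ((j ^ (r + 1) : ℕ) : AdjoinRoot (KRR.extPoly P e))) := by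
    refine ⟨N + 1, ?_⟩
    have h0 : Pe.aug (β - ((j ^ (r + 1) : ℕ) : AdjoinRoot (KRR.extPoly P e))) = 0 := by
      rw [map_sub, map_natCast, haugβ]; push_cast; ring
    have h := pow_mem Pe (mem_one_of_aug_eq_zero Pe h0) (N + 1)
    have h2 := gammaFiltration_antitone Pe (show N ≤ 1 * (N + 1) by omega) h
    rwa [hN, AddSubgroup.mem_bot] at h2
  let ι : AdjoinRoot (KRR.extPoly P e) →+* Z ⊗[ℤ] AdjoinRoot (KRR.extPoly P e) :=
    (Algebra.TensorProduct.includeRight (R := ℤ) (A := Z)
      (B := AdjoinRoot (KRR.extPoly P e))).toRingHom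
  have hju : IsUnit (((j ^ (r + 1) : ℕ) : Z ⊗[ℤ] AdjoinRoot (KRR.extPoly P e))) := by
    have h := ((hZ).map
      (Algebra.TensorProduct.includeLeftRingHom : Z →+*
        Z ⊗[ℤ] AdjoinRoot (KRR.extPoly P e))).pow (r + 1)
    simpa using h
  have hnil' : IsNilpotent (ι (β - ((j ^ (r + 1) : ℕ) : AdjoinRoot (KRR.extPoly P e)))) := by
    obtain ⟨n, hn⟩ := hnil
    exact ⟨n, by rw [← map_pow, hn]; exact map_zero ι⟩
  have hfin := hnil'.isUnit_add_left_of_commute hju (Commute.all _ _)
  have : ι β = ((j ^ (r + 1) : ℕ) : Z ⊗[ℤ] AdjoinRoot (KRR.extPoly P e)) +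
      ι (β - ((j ^ (r + 1) : ℕ) : AdjoinRoot (KRR.extPoly P e))) := by
    rw [map_sub, map_natCast, add_sub_cancel]
  show IsUnit (ι β)
  rw [this]
  exact hfin

theorem exists_inv_bott (hext : IsExtension P Pe (AdjoinRoot.of (KRR.extPoly P e)))
    (hline : Pe.IsLine (AdjoinRoot.root (KRR.extPoly P e))) (hsplit : HasSplitting _ Pe)
    (hK : HasSplitting K P) (he : e ∈ P.pos) (hr : P.aug e = r + 1) {linv : AdjoinRoot (KRR.extPoly P e)}
    (hlinv : linv * AdjoinRoot.root (KRR.extPoly P e) = 1) {N : ℕ} (hN : gammaFiltration Pe N = ⊥)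
    (hZ : IsUnit (j : Z)) :
    ∃ w : Z ⊗[ℤ] AdjoinRoot (KRR.extPoly P e),
      w * ((1 : Z) ⊗ₜ[ℤ] KRR.bott Pe j (AdjoinRoot.of (KRR.extPoly P e) e * linv)) = 1 :=
  (isUnit_bott hext hline hsplit hK he hr hlinv hN hZ).exists_left_inv

theorem main_identity (hext : IsExtension P Pe (AdjoinRoot.of (KRR.extPoly P e)))
    (hline : Pe.IsLine (AdjoinRoot.root (KRR.extPoly P e))) (hsplit : HasSplitting _ Pe)
    (hK : HasSplitting K P) (he : e ∈ P.pos) (hr : P.aug e = r + 1) (hj : 1 ≤ j) (hZ : IsUnit (j : Z)) [Module.Flat ℤ Z]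
    (f : AdjoinRoot (KRR.extPoly P e) →ₗ[K] K)
    (hf : ∀ i : ℕ, i ≤ r → f (AdjoinRoot.root (KRR.extPoly P e) ^ i) = KRR.sigma i e)
    {linv : AdjoinRoot (KRR.extPoly P e)} (hlinv : linv * AdjoinRoot.root (KRR.extPoly P e) = 1)
    (w : Z ⊗[ℤ] AdjoinRoot (KRR.extPoly P e))
    (hw : w * ((1 : Z) ⊗ₜ[ℤ] KRR.bott Pe j (AdjoinRoot.of (KRR.extPoly P e) e * linv)) = 1)
    (i : ℕ) :
    (1 : Z) ⊗ₜ[ℤ] adams P j (KRR.sigma i e) =
      LinearMap.lTensor (Z) f.toAddMonoidHom.toIntLinearMap
        ((j : Z ⊗[ℤ] AdjoinRoot (KRR.extPoly P e)) * w *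
          ((1 : Z) ⊗ₜ[ℤ] (AdjoinRoot.root (KRR.extPoly P e) ^ (i * j)))) := by
  classical
  obtain ⟨L, φ, m, y, hφ, hL, hm, hy, hsum⟩ := exists_ext_fin hK he
  obtain rfl : m = r + 1 := by omega
  let φℤ : K →ₐ[ℤ] L.carrier := φ.toIntAlgHom
  let g : Z ⊗[ℤ] K →ₐ[ℤ] Z ⊗[ℤ] L.carrier := Algebra.TensorProduct.map (AlgHom.id ℤ Z) φℤ
  have hg : Function.Injective g := by
    exact Module.Flat.lTensor_preserves_injective_linearMap φℤ.toLinearMap hφ.injective
  apply hg
  let iL : L.carrier →+* Z ⊗[ℤ] L.carrier :=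
    (Algebra.TensorProduct.includeRight (R := ℤ) (A := Z) (B := L.carrier)).toRingHom
  let v : Fin (r + 1) → Z ⊗[ℤ] L.carrier := fun a => iL (y a)
  let pL : Polynomial (Z ⊗[ℤ] L.carrier) := ∏ a, (Polynomial.X - Polynomial.C (v a))
  have hpL : (KRR.extPoly P e).map (iL.comp φ) = pL := by
    rw [← Polynomial.map_map, extPoly_map hφ hm hy hsum, Polynomial.map_prod]
    simp [pL, v]
  let Φ0 : AdjoinRoot (KRR.extPoly P e) →+* AdjoinRoot pL :=
    AdjoinRoot.lift ((AdjoinRoot.of pL).comp (iL.comp φ)) (AdjoinRoot.root pL) (by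
      rw [← Polynomial.eval₂_map, hpL, AdjoinRoot.eval₂_root])
  let ΦZ : Z →+* AdjoinRoot pL := (AdjoinRoot.of pL).comp Algebra.TensorProduct.includeLeftRingHom
  let Φ : Z ⊗[ℤ] AdjoinRoot (KRR.extPoly P e) →ₐ[ℤ] AdjoinRoot pL :=
    Algebra.TensorProduct.productMap ΦZ.toIntAlgHom Φ0.toIntAlgHom
  have hΦ : ∀ z x, Φ (z ⊗ₜ[ℤ] x) = ΦZ z * Φ0 x := fun z x => rfl
  -- evaluation of the functional
  have hFn : ∀ x, ∃ G : Polynomial (Z ⊗[ℤ] L.carrier), AdjoinRoot.mk pL G = Φ x ∧
      Fun v G = g (LinearMap.lTensor Z f.toAddMonoidHom.toIntLinearMap x) := by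
    intro x
    induction x using TensorProduct.induction_on with
    | zero => exact ⟨0, by simp, by simp [Fun]⟩
    | add a b ha hb =>
      obtain ⟨G, hG1, hG2⟩ := ha
      obtain ⟨G', hG1', hG2'⟩ := hb
      exact ⟨G + G', by rw [map_add, map_add, hG1, hG1'], by rw [Fun_add, map_add, map_add, hG2, hG2']⟩
    | tmul z x =>
      induction x using AdjoinRoot.induction_on with
      | ih Q =>
        induction Q using Polynomial.induction_on' with
        | add p q hp hq =>
          obtain ⟨G, hG1, hG2⟩ := hp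
          obtain ⟨G', hG1', hG2'⟩ := hq
          refine ⟨G + G', ?_, ?_⟩
          · rw [map_add, hG1, hG1', map_add, TensorProduct.tmul_add, map_add]
          · rw [Fun_add, hG2, hG2', map_add, TensorProduct.tmul_add, map_add, map_add]
        | monomial n c =>
          refine ⟨Polynomial.monomial n ((z ⊗ₜ[ℤ] (1 : L.carrier)) * iL (φ c)), ?_, ?_⟩
          · rw [hΦ, ← Polynomial.C_mul_X_pow_eq_monomial, ← Polynomial.C_mul_X_pow_eq_monomial]
            simp [Φ0, ΦZ, mul_assoc]
          · rw [Fun_monomial, show PowerSeries.coeff n (hser v) = iL (φ (KRR.sigma n e)) by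
              rw [KRR.sigma, ← PowerSeries.coeff_map φ, sigmaSeries_map hφ hy hsum, map_coeff_hser]]
            rw [LinearMap.lTensor_tmul, ← Polynomial.C_mul_X_pow_eq_monomial, map_mul, AdjoinRoot.mk_C,
              map_pow, AdjoinRoot.mk_X]
            show _ = g (z ⊗ₜ[ℤ] f _)
            rw [map_of_mul, f_root_pow he hr f hf]
            simp [g, φℤ, iL, Algebra.TensorProduct.tmul_mul_tmul]
  obtain ⟨G, hG1, hG2⟩ := hFn ((j : Z ⊗[ℤ] AdjoinRoot (KRR.extPoly P e)) * w *
    ((1 : Z) ⊗ₜ[ℤ] (AdjoinRoot.root (KRR.extPoly P e) ^ (i * j))))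
  -- well-definedness of the functional
  have hwd : ∀ G G' : Polynomial (Z ⊗[ℤ] L.carrier), AdjoinRoot.mk pL G = AdjoinRoot.mk pL G' →
      Fun v G = Fun v G' := by
    intro G G' h
    obtain ⟨Q, hQ⟩ := AdjoinRoot.mk_eq_mk.1 h
    have hkill : ∀ Q : Polynomial (Z ⊗[ℤ] L.carrier), Fun v (pL * Q) = 0 := by
      intro Q
      induction Q using Polynomial.induction_on' with
      | add p q hp hq => rw [mul_add, Fun_add, hp, hq, add_zero]
      | monomial n c =>
        have hk : ∀ G : Polynomial K, Fun (fun a => v a) (G.map (iL.comp φ)) =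
            iL (φ (f (AdjoinRoot.mk (KRR.extPoly P e) G))) := by
          intro G
          induction G using Polynomial.induction_on' with
          | add p q hp hq => rw [Polynomial.map_add, Fun_add, hp, hq, map_add, map_add, map_add, map_add]
          | monomial l b =>
            rw [Polynomial.map_monomial, Fun_monomial, show PowerSeries.coeff l (hser v) = iL (φ (KRR.sigma l e)) by
              rw [KRR.sigma, ← PowerSeries.coeff_map φ, sigmaSeries_map hφ hy hsum, map_coeff_hser],
              ← Polynomial.C_mul_X_pow_eq_monomial, map_mul, AdjoinRoot.mk_C, map_pow, AdjoinRoot.mk_X,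
              map_of_mul, f_root_pow he hr f hf, map_mul, map_mul]
            rfl
        have h1 := hk (KRR.extPoly P e * Polynomial.X ^ n)
        rw [map_mul, AdjoinRoot.mk_self, zero_mul, map_zero, map_zero, map_zero, Polynomial.map_mul, hpL,
          Polynomial.map_pow, Polynomial.map_X] at h1
        rw [← Polynomial.C_mul_X_pow_eq_monomial, show pL * (Polynomial.C c * Polynomial.X ^ n) = Polynomial.C c * (pL * Polynomial.X ^ n) by ring]
        have hC : ∀ H : Polynomial (Z ⊗[ℤ] L.carrier), Fun v (Polynomial.C c * H) = c * Fun v H := by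
          intro H
          induction H using Polynomial.induction_on' with
          | add p q hp hq => rw [mul_add, Fun_add, hp, hq, Fun_add, mul_add]
          | monomial l b => rw [Polynomial.C_mul_monomial, Fun_monomial, Fun_monomial, mul_assoc]
        rw [hC, h1, mul_zero]
    have : G = G' + pL * Q := by rw [← hQ]; ring
    rw [this, Fun_add, hkill, add_zero]
  -- the theta class
  have hroot : Φ0 (AdjoinRoot.root (KRR.extPoly P e)) = AdjoinRoot.root pL := AdjoinRoot.lift_root _
  have ht : Φ0 linv * AdjoinRoot.root pL = 1 := by rw [← hroot, ← map_mul, hlinv, map_one]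
  have hθ : Φ0 (KRR.bott Pe j (AdjoinRoot.of (KRR.extPoly P e) e * linv)) =
      theta j (fun b => AdjoinRoot.of pL (v b)) (Φ0 linv) := by
    rw [(bott_eq (j := j) hext hline hsplit hr hlinv).2]
    show Φ0.toIntAlgHom _ = _
    rw [← AlgHom.comp_apply, MvPolynomial.comp_aeval, theta,
      ← aeval_bottPoly j (fun b => AdjoinRoot.of pL (v b) * Φ0 linv)]
    refine congrArg (fun v => MvPolynomial.aeval v _) (funext fun a => ?_)
    show Φ0 _ = _
    rw [map_mul, map_pow, show Φ0 (AdjoinRoot.of (KRR.extPoly P e) (LambdaOps.lam (a.1 + 1) e)) =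
      AdjoinRoot.of pL (iL (φ (LambdaOps.lam (a.1 + 1) e))) from AdjoinRoot.lift_of _,
      hφ.isLambdaHom, ← hsum, lam_sum_lines univ y (fun b _ => lam_line_eq_zero L.posStr (hy b)),
      MvPolynomial.esymm, map_sum, map_sum, map_sum, Finset.mul_sum]
    refine Finset.sum_congr rfl fun t htm => ?_
    simp only [map_prod, MvPolynomial.aeval_X, v, Finset.prod_mul_distrib, Finset.prod_const,
      (Finset.mem_powersetCard.mp htm).2]
    ring
  have hw' : Φ w * theta j (fun b => AdjoinRoot.of pL (v b)) (Φ0 linv) = 1 := by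
    rw [← hθ]
    have h := congrArg Φ hw
    rw [map_mul, map_one, hΦ, map_one, one_mul] at h
    exact h
  have hju : IsUnit ((j : Z ⊗[ℤ] L.carrier)) := by
    have h := (hZ).map
      (Algebra.TensorProduct.includeLeftRingHom : Z →+* Z ⊗[ℤ] L.carrier)
    simpa using h
  have hvu : ∀ a, IsUnit (v a) := fun a => (isUnit_of_isLine L.posStr (hy a)).map iL
  have hθu : ∀ a, ∀ v' : Z ⊗[ℤ] L.carrier, v a * v' = 1 → IsUnit (theta j v v') := by
    intro a v' hv'
    have hev : pL.eval₂ (RingHom.id _) (v a) = 0 := by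
      rw [Polynomial.eval₂_finsetProd]
      exact Finset.prod_eq_zero (Finset.mem_univ a) (by simp)
    let q := AdjoinRoot.lift (RingHom.id _) (v a) hev
    have h1 := congrArg q hw'
    have h2 := congrArg q ht
    rw [map_mul, AdjoinRoot.lift_root, map_one] at h2
    have h3 : q (Φ0 linv) = v' := left_inv_eq_right_inv h2 hv'
    rw [map_mul, map_one, map_theta, h3] at h1
    have hof : (fun b => q (AdjoinRoot.of pL (v b))) = v := funext fun b => AdjoinRoot.lift_of hev
    rw [hof] at h1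
    exact isUnit_iff_exists_inv.2 ⟨_, (mul_comm _ _).trans h1⟩
  obtain ⟨G', hG'1, hG'2⟩ := ring_identity (Nat.succ_pos r) hj v hju hvu hθu rfl (Φ0 linv) (Φ w) ht hw' i
  have hGG : AdjoinRoot.mk pL G = AdjoinRoot.mk pL G' := by
    rw [hG1, hG'1, map_mul, map_mul, map_natCast]
    congr 1
    refine (hΦ _ _).trans ?_
    rw [map_one, one_mul, map_pow, hroot]
  rw [← hG2, hwd G G' hGG, hG'2]
  show g ((1 : Z) ⊗ₜ[ℤ] adams P j (KRR.sigma i e)) = _
  have hpow : (fun a => v a ^ j) = fun a => iL (adamsRingHom hL j (y a)) := by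
    funext a
    show iL (y a) ^ j = iL (adams L.posStr j (y a))
    rw [adams_of_isLine _ (hy a), map_pow]
  rw [hpow, ← map_coeff_hser iL, ← map_coeff_hser (adamsRingHom hL j),
    ← sigmaSeries_map hφ hy hsum, PowerSeries.coeff_map]
  show g _ = iL (adams L.posStr j (φ (KRR.sigma i e)))
  rw [← adams_map hφ]
  rfl

theorem adams_riemann_roch (hK : HasSplitting K P) (he : e ∈ P.pos) (hr : P.aug e = r + 1)
    (hext : IsExtension P Pe (AdjoinRoot.of (KRR.extPoly P e)))
    (hline : Pe.IsLine (AdjoinRoot.root (KRR.extPoly P e))) (hsplit : HasSplitting _ Pe) (hj : 1 ≤ j) (hZ : IsUnit (j : Z)) [Module.Flat ℤ Z]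
    (f : AdjoinRoot (KRR.extPoly P e) →ₗ[K] K)
    (hf : ∀ i : ℕ, i ≤ r → f (AdjoinRoot.root (KRR.extPoly P e) ^ i) = KRR.sigma i e)
    {linv : AdjoinRoot (KRR.extPoly P e)} (hlinv : linv * AdjoinRoot.root (KRR.extPoly P e) = 1)
    (w : Z ⊗[ℤ] AdjoinRoot (KRR.extPoly P e))
    (hw : w * ((1 : Z) ⊗ₜ[ℤ] KRR.bott Pe j (AdjoinRoot.of (KRR.extPoly P e) e * linv)) = 1)
    (x : AdjoinRoot (KRR.extPoly P e)) :
    (1 : Z) ⊗ₜ[ℤ] adams P j (f x) =
      LinearMap.lTensor (Z) f.toAddMonoidHom.toIntLinearMap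
        ((j : Z ⊗[ℤ] AdjoinRoot (KRR.extPoly P e)) * w *
          ((1 : Z) ⊗ₜ[ℤ] adams Pe j x)) := by
  induction x using AdjoinRoot.induction_on with
  | ih Q =>
    induction Q using Polynomial.induction_on' with
    | add p q hp hq =>
      simp only [map_add, ← adamsHom_apply] at hp hq ⊢
      rw [TensorProduct.tmul_add, hp, hq, TensorProduct.tmul_add, mul_add, map_add]
    | monomial n c =>
      rw [← Polynomial.C_mul_X_pow_eq_monomial, map_mul, AdjoinRoot.mk_C, map_pow, AdjoinRoot.mk_X,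
        map_of_mul, f_root_pow he hr f hf, adams_mul hK, adams_mul hsplit, ← adams_map hext,
        adams_of_isLine _ (isLine_pow Pe hline n), ← pow_mul]
      have hmul : ∀ (z : Z ⊗[ℤ] AdjoinRoot (KRR.extPoly P e)) (b : K) (y),
          LinearMap.lTensor (Z) f.toAddMonoidHom.toIntLinearMap
            (z * ((1 : Z) ⊗ₜ[ℤ] (AdjoinRoot.of (KRR.extPoly P e) b * y))) =
          ((1 : Z) ⊗ₜ[ℤ] b) *
            LinearMap.lTensor (Z) f.toAddMonoidHom.toIntLinearMap
              (z * ((1 : Z) ⊗ₜ[ℤ] y)) := by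
        intro z b y
        induction z using TensorProduct.induction_on with
        | zero => simp
        | add p q hp hq => simp only [add_mul, map_add, mul_add, hp, hq]
        | tmul c d =>
          simp only [Algebra.TensorProduct.tmul_mul_tmul, LinearMap.lTensor_tmul, mul_one, one_mul]
          show c ⊗ₜ[ℤ] f _ = c ⊗ₜ[ℤ] (b * f (d * y))
          rw [mul_left_comm, map_of_mul]
      rw [hmul, ← main_identity hext hline hsplit hK he hr hj hZ f hf hlinv w hw n,
        Algebra.TensorProduct.tmul_mul_tmul, one_mul]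

end Main

end Groth.Agent.CommAlg4.AdamsRR
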