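import Groth.Agent.FF.RiemannRoch
import Groth.Prelude.Def_AdFn
import Mathlib

set_option autoImplicit false

/-! Every element of a completion of a function field is congruent to an element of the field modulo the integers. -/

universe u

namespace Groth.Agent.CommAlg4.AdeleApprox

variable {k K : Type u} [Field k] [Field K] [Algebra k K]

theorem exists_sub_mem_Ov (v : FunFld.Place k K) (a : AdFn.Kv v) :
    ∃ x : K, a - AdFn.toKv v x ∈ AdFn.Ov v := by
  have hO : IsOpen {z : AdFn.Kv v | a - z ∈ AdFn.Ov v} :=
    (AdFn.isOpen_Ov v).preimage (continuous_const.sub continuous_id)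
  obtain ⟨y, hy⟩ := (UniformSpace.Completion.denseRange_coe (α := WithVal v.1)).exists_mem_open hO
    ⟨a, by simp⟩
  exact ⟨(WithVal.equiv v.1) y, by rw [AdFn.toKv_apply]; simpa using hy⟩

end Groth.Agent.CommAlg4.AdeleApprox
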