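import Mathlib

/-!
Idempotent matrices up to Murray–von Neumann equivalence, Quillen patching and gluing of
idempotents along two comaximal elements.
-/

set_option autoImplicit false

namespace Groth.Agent.CommAlg4.IdemSim

open Matrix Polynomial

variable {R S : Type*} [CommRing R] [CommRing S]
variable {l m n : Type*} [Fintype l] [Fintype m] [Fintype n]

/-- Two (idempotent) square matrices define isomorphic projective modules. -/
def Sim (e : Matrix m m R) (e' : Matrix n n R) : Prop :=
  ∃ (x : Matrix m n R) (y : Matrix n m R), x * y = e ∧ y * x = e'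

theorem Sim.symm {e : Matrix m m R} {e' : Matrix n n R} (h : Sim e e') : Sim e' e :=
  let ⟨x, y, h₁, h₂⟩ := h
  ⟨y, x, h₂, h₁⟩

theorem Sim.refl {e : Matrix m m R} (he : e * e = e) : Sim e e := ⟨e, e, he, he⟩

theorem Sim.trans {e : Matrix l l R} {e' : Matrix m m R} {e'' : Matrix n n R}
    (he : e * e = e) (he'' : e'' * e'' = e'') (h : Sim e e') (h' : Sim e' e'') : Sim e e'' := by
  obtain ⟨x, y, h₁, h₂⟩ := h
  obtain ⟨x', y', h₃, h₄⟩ := h'
  refine ⟨x * x', y' * y, ?_, ?_⟩
  · calc x * x' * (y' * y) = x * (x' * y') * y := by simp only [Matrix.mul_assoc]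
      _ = (x * y) * (x * y) := by rw [h₃, ← h₂]; simp only [Matrix.mul_assoc]
      _ = e := by rw [h₁, he]
  · calc y' * y * (x * x') = y' * (y * x) * x' := by simp only [Matrix.mul_assoc]
      _ = (y' * x') * (y' * x') := by rw [h₂, ← h₃]; simp only [Matrix.mul_assoc]
      _ = e'' := by rw [h₄, he'']

theorem Sim.map {e : Matrix m m R} {e' : Matrix n n R} (h : Sim e e') (f : R →+* S) :
    Sim (e.map f) (e'.map f) := by
  obtain ⟨x, y, h₁, h₂⟩ := h
  exact ⟨x.map f, y.map f, by rw [← Matrix.map_mul, h₁], by rw [← Matrix.map_mul, h₂]⟩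

theorem map_idem {e : Matrix m m R} (he : e * e = e) (f : R →+* S) :
    e.map f * e.map f = e.map f := by rw [← Matrix.map_mul, he]

theorem map_smul_ringHom {p q : Type*} (c : R) (M : Matrix p q R) (f : R →+* S) :
    (c • M).map f = f c • M.map f := by
  ext; simp

/-- Gluing of two idempotents which are equivalent up to `c * d`, `c` and `d` comaximal. -/
theorem exists_glue [DecidableEq m] [DecidableEq n] (c d : R) (hcd : IsCoprime c d)
    {e : Matrix m m R} {e' : Matrix n n R} (he : e * e = e) (he' : e' * e' = e')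
    (α : Matrix n m R) (β : Matrix m n R) (hβα : β * α = (c * d) • e) (hαβ : α * β = (c * d) • e')
    (hα₁ : e' * α = α) (hα₂ : α * e = α) (hβ₁ : e * β = β) (hβ₂ : β * e' = β) :
    ∃ g : Matrix (m ⊕ n) (m ⊕ n) R, g * g = g ∧
      (∀ (S : Type _) [CommRing S] (f : R →+* S), IsUnit (f c) → Sim (g.map f) (e.map f)) ∧
      (∀ (S : Type _) [CommRing S] (f : R →+* S), IsUnit (f d) → Sim (g.map f) (e'.map f)) := by
  obtain ⟨u, w, huw⟩ := hcd
  refine ⟨fromBlocks ((u * c) • e) (u • β) (w • α) ((w * d) • e'), ?_, ?_, ?_⟩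
  · rw [fromBlocks_multiply]
    congr 1
    · simp only [Matrix.smul_mul, Matrix.mul_smul, he, hβα, smul_smul, ← add_smul]
      congr 1; linear_combination (u * c) * huw
    · simp only [Matrix.smul_mul, Matrix.mul_smul, hβ₁, hβ₂, smul_smul, ← add_smul]
      congr 1; linear_combination u * huw
    · simp only [Matrix.smul_mul, Matrix.mul_smul, hα₁, hα₂, smul_smul, ← add_smul]
      congr 1; linear_combination w * huw
    · simp only [Matrix.smul_mul, Matrix.mul_smul, he', hαβ, smul_smul, ← add_smul]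
      congr 1; linear_combination (w * d) * huw
  · intro S _ f hc
    obtain ⟨v, hv⟩ := hc.exists_left_inv
    refine ⟨fromRows (((u * c) • e).map f) ((w • α).map f),
      fromCols (e.map f) (v • β.map f), ?_, ?_⟩
    · rw [fromRows_mul_fromCols, fromBlocks_map]
      simp only [map_smul_ringHom, Matrix.smul_mul, Matrix.mul_smul, ← Matrix.map_mul, he, hβ₁,
        hα₂, hαβ, smul_smul]
      simp only [map_mul]
      congr 2
      · linear_combination f u * hv
      · linear_combination f w * f d * hv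
    · rw [fromCols_mul_fromRows]
      simp only [map_smul_ringHom, Matrix.smul_mul, Matrix.mul_smul, ← Matrix.map_mul, he, hβα,
        smul_smul]
      simp only [map_mul, ← add_smul]
      conv_rhs => rw [← one_smul S (e.map f)]
      congr 1
      have := congrArg f huw
      simp only [map_add, map_mul, map_one] at this
      linear_combination this + (f w * f d) * hv
  · intro S _ f hd
    obtain ⟨v, hv⟩ := hd.exists_left_inv
    refine ⟨fromRows ((u • β).map f) (((w * d) • e').map f),
      fromCols (v • α.map f) (e'.map f), ?_, ?_⟩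
    · rw [fromRows_mul_fromCols, fromBlocks_map]
      simp only [map_smul_ringHom, Matrix.smul_mul, Matrix.mul_smul, ← Matrix.map_mul, he', hα₁,
        hβ₂, hβα, smul_smul]
      simp only [map_mul]
      congr 2
      · linear_combination f u * f c * hv
      · linear_combination f w * hv
    · rw [fromCols_mul_fromRows]
      simp only [map_smul_ringHom, Matrix.smul_mul, Matrix.mul_smul, ← Matrix.map_mul, he', hαβ,
        smul_smul]
      simp only [map_mul, ← add_smul]
      conv_rhs => rw [← one_smul S (e'.map f)]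
      congr 1
      have := congrArg f huw
      simp only [map_add, map_mul, map_one] at this
      linear_combination this + (f u * f c) * hv

section Modules

variable [DecidableEq m] [DecidableEq n]
variable {M M' : Type*} [AddCommGroup M] [AddCommGroup M'] [Module R M] [Module R M']

omit [Fintype l] in
/-- Matrices of two retracts are equivalent if the retracts are isomorphic. -/
theorem sim_of_linearEquiv (i : M →ₗ[R] m → R) (p : (m → R) →ₗ[R] M) (hpi : p ∘ₗ i = .id)
    (i' : M' →ₗ[R] n → R) (p' : (n → R) →ₗ[R] M') (hpi' : p' ∘ₗ i' = .id) (φ : M ≃ₗ[R] M') :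
    Sim (LinearMap.toMatrix' (i ∘ₗ p)) (LinearMap.toMatrix' (i' ∘ₗ p')) := by
  refine ⟨LinearMap.toMatrix' (i ∘ₗ φ.symm.toLinearMap ∘ₗ p'),
    LinearMap.toMatrix' (i' ∘ₗ φ.toLinearMap ∘ₗ p), ?_, ?_⟩
  · rw [← LinearMap.toMatrix'_comp]
    congr 1
    refine LinearMap.ext fun v => ?_
    have h : ∀ x, p' (i' x) = x := fun x => LinearMap.congr_fun hpi' x
    simp [h]
  · rw [← LinearMap.toMatrix'_comp]
    congr 1
    refine LinearMap.ext fun v => ?_
    have h : ∀ x, p (i x) = x := fun x => LinearMap.congr_fun hpi x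
    simp [h]

omit [Fintype l] in
/-- Retracts with equivalent matrices are isomorphic. -/
theorem nonempty_linearEquiv_of_sim (i : M →ₗ[R] m → R) (p : (m → R) →ₗ[R] M)
    (hpi : p ∘ₗ i = .id) (i' : M' →ₗ[R] n → R) (p' : (n → R) →ₗ[R] M') (hpi' : p' ∘ₗ i' = .id)
    (h : Sim (LinearMap.toMatrix' (i ∘ₗ p)) (LinearMap.toMatrix' (i' ∘ₗ p'))) :
    Nonempty (M ≃ₗ[R] M') := by
  obtain ⟨x, y, h₁, h₂⟩ := h
  have hp : ∀ v, p (i v) = v := fun v => LinearMap.congr_fun hpi v
  have hp' : ∀ v, p' (i' v) = v := fun v => LinearMap.congr_fun hpi' v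
  have e₁ : ∀ v, x.mulVec (y.mulVec v) = i (p v) := fun v => by
    rw [Matrix.mulVec_mulVec, h₁, LinearMap.toMatrix'_mulVec, LinearMap.comp_apply]
  have e₂ : ∀ v, y.mulVec (x.mulVec v) = i' (p' v) := fun v => by
    rw [Matrix.mulVec_mulVec, h₂, LinearMap.toMatrix'_mulVec, LinearMap.comp_apply]
  refine ⟨LinearEquiv.ofLinearMap (p' ∘ₗ y.mulVecLin ∘ₗ i) (p ∘ₗ x.mulVecLin ∘ₗ i') ?_ ?_⟩
  · refine LinearMap.ext fun v => ?_
    have e : i (p (x.mulVec (i' v))) = x.mulVec (i' v) := by
      rw [← e₁, e₂, hp']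
    simp [e, e₂, hp']
  · refine LinearMap.ext fun v => ?_
    have e : i' (p' (y.mulVec (i v))) = y.mulVec (i v) := by
      rw [← e₂, e₁, hp]
    simp [e, e₁, hp]

end Modules

/-- A finitely generated projective module is a retract of a finite free one. -/
theorem exists_retract (R : Type*) [CommRing R] (M : Type*) [AddCommGroup M] [Module R M]
    [Module.Finite R M] [Module.Projective R M] :
    ∃ (k : ℕ) (i : M →ₗ[R] Fin k → R) (p : (Fin k → R) →ₗ[R] M), p ∘ₗ i = .id := by
  obtain ⟨k, f, hf⟩ := Module.Finite.exists_fin' R M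
  obtain ⟨g, hg⟩ := Module.projective_lifting_property f LinearMap.id hf
  exact ⟨k, g, f, hg⟩

theorem retract_idem [DecidableEq m] {M : Type*} [AddCommGroup M] [Module R M]
    (i : M →ₗ[R] m → R) (p : (m → R) →ₗ[R] M) (hpi : p ∘ₗ i = .id) :
    LinearMap.toMatrix' (i ∘ₗ p) * LinearMap.toMatrix' (i ∘ₗ p) = LinearMap.toMatrix' (i ∘ₗ p) := by
  rw [← LinearMap.toMatrix'_comp]
  congr 1
  refine LinearMap.ext fun v => ?_
  have h : ∀ x, p (i x) = x := fun x => LinearMap.congr_fun hpi x
  simp [h]

/-- `f` is a localisation at `s`, as far as numerators and the kernel are concerned. -/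
def Clears (f : R →+* S) (s : Submonoid R) : Prop :=
  (∀ x : S, ∃ t ∈ s, ∃ r : R, f r = f t * x) ∧ (∀ r : R, f r = 0 → ∃ t ∈ s, t * r = 0)

theorem clears_of_isLocalization (s : Submonoid R) [Algebra R S] [IsLocalization s S] :
    Clears (algebraMap R S) s := by
  refine ⟨fun x => ?_, fun r hr => ?_⟩
  · obtain ⟨⟨r, t⟩, h⟩ := IsLocalization.surj s x
    exact ⟨t, t.2, r, by rw [mul_comm]; exact h.symm⟩
  · obtain ⟨t, ht⟩ := (IsLocalization.map_eq_zero_iff s S r).mp hr
    exact ⟨t, t.2, ht⟩

theorem Clears.polynomial {f : R →+* S} {s : Submonoid R} (h : Clears f s) :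
    Clears (mapRingHom f) (s.map (C : R →+* R[X])) := by
  refine ⟨fun x => ?_, fun r hr => ?_⟩
  · induction x using Polynomial.induction_on' with
    | add p q hp hq =>
      obtain ⟨_, ⟨t, ht, rfl⟩, a, ha⟩ := hp
      obtain ⟨_, ⟨t', ht', rfl⟩, b, hb⟩ := hq
      refine ⟨C (t * t'), ⟨t * t', s.mul_mem ht ht', rfl⟩, C t' * a + C t * b, ?_⟩
      simp only [map_add, map_mul, coe_mapRingHom, map_C] at *
      linear_combination (C (f t') : S[X]) * ha + (C (f t) : S[X]) * hb
    | monomial k a =>
      obtain ⟨t, ht, b, hb⟩ := h.1 a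
      exact ⟨C t, ⟨t, ht, rfl⟩, monomial k b, by simp [hb, C_mul_monomial]⟩
  · classical
    have h0 : ∀ i, f (r.coeff i) = 0 := fun i => by
      have := congrArg (fun p => coeff p i) hr
      simpa using this
    choose t ht htr using fun i => h.2 _ (h0 i)
    refine ⟨C (∏ i ∈ r.support, t i), ⟨_, prod_mem fun i _ => ht i, rfl⟩, ?_⟩
    ext i
    rw [coeff_C_mul, coeff_zero]
    by_cases hi : i ∈ r.support
    · rw [← Finset.prod_erase_mul _ _ hi, mul_assoc, htr i, mul_zero]
    · rw [notMem_support_iff.mp hi, mul_zero]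

theorem Clears.exists_matrix {p q : Type*} [Finite p] [Finite q] {f : R →+* S} {s : Submonoid R}
    (h : Clears f s) (W : Matrix p q S) :
    ∃ t ∈ s, ∃ W' : Matrix p q R, W'.map f = f t • W := by
  classical
  cases nonempty_fintype p
  cases nonempty_fintype q
  choose t ht r hr using fun x : p × q => h.1 (W x.1 x.2)
  refine ⟨∏ x, t x, prod_mem fun x _ => ht x,
    Matrix.of fun i j => (∏ x ∈ Finset.univ.erase (i, j), t x) * r (i, j), ?_⟩
  refine Matrix.ext fun i j => ?_
  rw [Matrix.map_apply, Matrix.of_apply, map_mul, hr, ← mul_assoc, ← map_mul,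
    Finset.prod_erase_mul _ _ (Finset.mem_univ (i, j))]
  rfl

theorem Clears.exists_kill {p q : Type*} [Finite p] [Finite q] {f : R →+* S} {s : Submonoid R}
    (h : Clears f s) (W : Matrix p q R) (hW : W.map f = 0) : ∃ t ∈ s, t • W = 0 := by
  classical
  cases nonempty_fintype p
  cases nonempty_fintype q
  choose t ht htr using fun x : p × q => h.2 (W x.1 x.2)
    (congrFun (congrFun hW x.1) x.2)
  refine ⟨∏ x, t x, prod_mem fun x _ => ht x, Matrix.ext fun i j => ?_⟩
  rw [Matrix.smul_apply, Matrix.zero_apply, smul_eq_mul,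
    ← Finset.prod_erase_mul _ _ (Finset.mem_univ (i, j)), mul_assoc, htr (i, j), mul_zero]

section Patching

variable {A : Type*} [CommRing A]

theorem mul_eq_zero_comp_C_mul_X {D : A[X][X]} {t : A} (h0 : D.coeff 0 = 0) (ht : C (C t) * D = 0) :
    D.comp (C (C t) * X) = 0 := by
  ext1 k
  rw [comp_C_mul_X_coeff, coeff_zero]
  rcases k with _ | k
  · rw [h0, zero_mul]
  · have := congrArg (fun p => coeff p (k + 1)) ht
    simp only [coeff_C_mul, coeff_zero] at this
    rw [pow_succ', ← mul_assoc, mul_comm (D.coeff _) (C t), this, zero_mul]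

theorem exists_not_mem_sim (E : Matrix m m A[X]) (hE : E * E = E) (P : Ideal A) [P.IsPrime]
    {B : Type*} [CommRing B] [Algebra A B] [IsLocalization P.primeCompl B]
    (h : Sim (E.map (mapRingHom (algebraMap A B)))
      ((E.map (evalRingHom 0)).map ((C : B →+* B[X]).comp (algebraMap A B)))) :
    ∃ a ∉ P, ∀ b d : A[X], Sim (E.map (compRingHom b)) (E.map (compRingHom (b + C a * d))) := by
  classical
  set ι := algebraMap A B with hι
  set j : A[X][X] →+* B[X][X] := mapRingHom (mapRingHom ι) with hj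
  set φ₁ : A[X] →+* A[X][X] := eval₂RingHom (C.comp C) (C X + X) with hφ₁
  set ψ₁ : B[X] →+* B[X][X] := eval₂RingHom (C.comp C) (C X + X) with hψ₁
  have hjφ : j.comp φ₁ = ψ₁.comp (mapRingHom ι) := by
    apply Polynomial.ringHom_ext <;> simp [hj, hφ₁, hψ₁]
  have hjC : j.comp C = C.comp (mapRingHom ι) := by
    apply Polynomial.ringHom_ext <;> simp [hj]
  have hj_sub : ∀ (t : A) (D : A[X][X]),
      j (D.comp (C (C t) * X)) = (j D).comp (C (C (ι t)) * X) := by
    intro t D
    simp [hj, Polynomial.map_comp]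
  obtain ⟨u, v, huv, hvu⟩ := h
  set e₀ := (E.map (evalRingHom 0)).map ((C : B →+* B[X]).comp ι) with he₀
  have he₀φ : e₀.map ψ₁ = e₀.map C := by
    refine Matrix.ext fun i k => ?_
    simp [he₀, hψ₁]
  set Ej := E.map (mapRingHom ι) with hEj
  have hEj2 : Ej * Ej = Ej := map_idem hE _
  set W := u.map C * v.map ψ₁ with hW
  set W' := u.map ψ₁ * v.map C with hW'
  have hWW' : W * W' = Ej.map C := by
    calc W * W' = u.map C * (v.map ψ₁ * u.map ψ₁) * v.map C := by
          simp only [hW, hW', Matrix.mul_assoc]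
      _ = (u * e₀ * v).map C := by
          rw [← Matrix.map_mul, hvu, he₀φ, ← Matrix.map_mul, ← Matrix.map_mul]
      _ = _ := by rw [← hvu]; rw [show u * (v * u) * v = (u * v) * (u * v) by
            simp only [Matrix.mul_assoc], huv, hEj2]
  have hW'W : W' * W = Ej.map ψ₁ := by
    calc W' * W = u.map ψ₁ * (v.map C * u.map C) * v.map ψ₁ := by
          simp only [hW, hW', Matrix.mul_assoc]
      _ = (u * e₀ * v).map ψ₁ := by
          rw [← Matrix.map_mul, hvu, ← he₀φ, ← Matrix.map_mul, ← Matrix.map_mul]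
      _ = _ := by rw [← hvu]; rw [show u * (v * u) * v = (u * v) * (u * v) by
            simp only [Matrix.mul_assoc], huv, hEj2]
  have hψev : (evalRingHom (0 : B[X])).comp ψ₁ = RingHom.id _ := by
    apply Polynomial.ringHom_ext <;> simp [hψ₁]
  have hCev : (evalRingHom (0 : B[X])).comp C = RingHom.id _ := by
    apply Polynomial.ringHom_ext <;> simp
  have hφev : (evalRingHom (0 : A[X])).comp φ₁ = RingHom.id _ := by
    apply Polynomial.ringHom_ext <;> simp [hφ₁]
  -- lift a matrix which specialises to `E` at `Y = 0`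
  have lift : ∀ Z : Matrix m m B[X][X], Z.map (evalRingHom (0 : B[X])) = Ej →
      ∃ t ∈ P.primeCompl, ∀ t' : A, ∃ Z' : Matrix m m A[X][X],
        Z'.map (evalRingHom (0 : A[X])) = E ∧
        Z'.map j = (Z.map (compRingHom (C (C (ι (t * t'))) * X))) := by
    intro Z hZ
    obtain ⟨_, ⟨_, ⟨t, ht, rfl⟩, rfl⟩, Q, hQ⟩ :=
      (((clears_of_isLocalization (S := B) P.primeCompl).polynomial).polynomial).exists_matrix
        ((Z - Ej.map C).map divX)
    refine ⟨t, ht, fun t' => ⟨E.map C + (C (C t') * X) • Q.map (compRingHom (C (C (t * t')) * X)),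
      ?_, ?_⟩⟩
    · refine Matrix.ext fun i k => ?_
      simp
    · refine Matrix.ext fun i k => ?_
      have hq : j (Q i k) = C (C (ι t)) * (Z i k - C (Ej i k)).divX := by
        have := congrFun (congrFun hQ i) k
        simpa [hj] using this
      have hz : (Z i k).coeff 0 = Ej i k := by
        have := congrFun (congrFun hZ i) k
        simpa [coeff_zero_eq_eval_zero] using this
      have hd : Z i k = C (Ej i k) + X * (Z i k - C (Ej i k)).divX := by
        conv_lhs => rw [← sub_add_cancel (Z i k) (C (Ej i k)),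
          ← X_mul_divX_add (Z i k - C (Ej i k))]
        simp [hz, add_comm]
      simp only [Matrix.map_apply, Matrix.add_apply, Matrix.smul_apply, smul_eq_mul,
        coe_compRingHom_apply]
      conv_rhs => rw [hd]
      rw [map_add, map_mul, hj_sub, hq,
        show j (C (E i k)) = C (Ej i k) from RingHom.congr_fun hjC _]
      simp only [hj, coe_mapRingHom, map_C, map_X, add_comp, mul_comp, C_comp,
        X_comp, map_mul]
      ring
  have hev : ∀ Z : Matrix m m B[X], (Z.map C).map (evalRingHom (0 : B[X])) = Z ∧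
      (Z.map ψ₁).map (evalRingHom (0 : B[X])) = Z := fun Z =>
    ⟨Matrix.ext fun i k => RingHom.congr_fun hCev _, Matrix.ext fun i k => RingHom.congr_fun hψev _⟩
  have huv' : Ej = u * v := huv.symm
  obtain ⟨t₁, ht₁, L₁⟩ := lift W (by rw [hW, Matrix.map_mul, (hev _).1, (hev _).2, huv])
  obtain ⟨t₂, ht₂, L₂⟩ := lift W' (by rw [hW', Matrix.map_mul, (hev _).1, (hev _).2, huv])
  obtain ⟨Z₁, hZ₁, hjZ₁⟩ := L₁ t₂
  obtain ⟨Z₂, hZ₂, hjZ₂⟩ := L₂ t₁
  rw [mul_comm t₂ t₁] at hjZ₂
  set s := t₁ * t₂ with hs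
  set D₁ := Z₁ * Z₂ - E.map C with hD₁
  set D₂ := Z₂ * Z₁ - (E.map φ₁).map (compRingHom (C (C s) * X)) with hD₂
  have hsubφ : ((E.map φ₁).map (compRingHom (C (C s) * X))).map j =
      (Ej.map ψ₁).map (compRingHom (C (C (ι s)) * X)) := by
    refine Matrix.ext fun i k => ?_
    simp only [Matrix.map_apply, coe_compRingHom_apply, hj_sub]
    rw [show j (φ₁ (E i k)) = ψ₁ (Ej i k) from RingHom.congr_fun hjφ _]
  have j1 : D₁.map j = 0 := by
    rw [hD₁, Matrix.map_sub j (map_sub j), Matrix.map_mul, hjZ₁, hjZ₂, ← Matrix.map_mul, hWW',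
      sub_eq_zero]
    refine Matrix.ext fun i k => ?_
    simp only [Matrix.map_apply, coe_compRingHom_apply, C_comp]
    exact (RingHom.congr_fun hjC (E i k)).symm
  have j2 : D₂.map j = 0 := by
    rw [hD₂, Matrix.map_sub j (map_sub j), Matrix.map_mul, hjZ₁, hjZ₂, ← Matrix.map_mul, hW'W,
      hsubφ, sub_self]
  have hcl := ((clears_of_isLocalization (S := B) P.primeCompl).polynomial).polynomial
  obtain ⟨_, ⟨_, ⟨k₁, hk₁, rfl⟩, rfl⟩, hD₁k⟩ := hcl.exists_kill D₁ j1
  obtain ⟨_, ⟨_, ⟨k₂, hk₂, rfl⟩, rfl⟩, hD₂k⟩ := hcl.exists_kill D₂ j2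
  set k := k₁ * k₂ with hk
  have z1 : D₁.map (evalRingHom (0 : A[X])) = 0 := by
    rw [hD₁, Matrix.map_sub _ (map_sub _), Matrix.map_mul, hZ₁, hZ₂, hE, sub_eq_zero]
    refine Matrix.ext fun i k => ?_
    simp
  have z2 : D₂.map (evalRingHom (0 : A[X])) = 0 := by
    rw [hD₂, Matrix.map_sub _ (map_sub _), Matrix.map_mul, hZ₁, hZ₂, hE, sub_eq_zero]
    refine Matrix.ext fun i k => ?_
    simp only [Matrix.map_apply, coe_compRingHom_apply, coe_evalRingHom, eval_comp, eval_mul,
      eval_X, mul_zero]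
    exact (RingHom.congr_fun hφev (E i k)).symm
  have fin : ∀ {D : Matrix m m A[X][X]} {k' : A}, k' ∣ k → C (C k') • D = 0 →
      D.map (evalRingHom (0 : A[X])) = 0 → D.map (compRingHom (C (C k) * X)) = 0 := by
    intro D k' hk' hD hz
    refine Matrix.ext fun i l => ?_
    simp only [Matrix.map_apply, coe_compRingHom_apply, Matrix.zero_apply]
    refine mul_eq_zero_comp_C_mul_X ?_ ?_
    · rw [coeff_zero_eq_eval_zero]; exact congrFun (congrFun hz i) l
    · obtain ⟨c, hc⟩ := hk'
      rw [hc, map_mul, map_mul, mul_comm (C (C k')), mul_assoc,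
        show C (C k') * D i l = 0 from congrFun (congrFun hD i) l, mul_zero]
  have f1 := fin ⟨k₂, rfl⟩ hD₁k z1
  have f2 := fin ⟨k₁, mul_comm k₁ k₂⟩ hD₂k z2
  refine ⟨s * k, P.primeCompl.mul_mem (P.primeCompl.mul_mem ht₁ ht₂)
    (P.primeCompl.mul_mem hk₁ hk₂), fun b d => ?_⟩
  set σ := compRingHom (C (C k) * X : A[X][X]) with hσ
  rw [hD₁, Matrix.map_sub _ (map_sub _), Matrix.map_mul, sub_eq_zero] at f1
  rw [hD₂, Matrix.map_sub _ (map_sub _), Matrix.map_mul, sub_eq_zero] at f2
  have key : Sim ((E.map C).map σ) (((E.map φ₁).map (compRingHom (C (C s) * X))).map σ) :=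
    ⟨_, _, f1, f2⟩
  set ev : A[X][X] →+* A[X] := eval₂RingHom (compRingHom b) d with hev'
  have := key.map ev
  convert this using 1
  · refine Matrix.ext fun i l => ?_
    simp [hσ, hev']
  · have : (((ev.comp σ).comp (compRingHom (C (C s) * X))).comp φ₁) =
        compRingHom (b + C (s * k) * d) := by
      apply Polynomial.ringHom_ext
      · intro a; simp [hσ, hev', hφ₁]
      · simp [hσ, hev', hφ₁, map_mul]; ring
    refine Matrix.ext fun i l => ?_
    exact (RingHom.congr_fun this _).symm

/-- Quillen patching for idempotent matrices. -/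
theorem quillen_patching (E : Matrix m m A[X]) (hE : E * E = E)
    (h : ∀ (P : Ideal A) [P.IsPrime],
      Sim (E.map (mapRingHom (algebraMap A (Localization.AtPrime P))))
        ((E.map (evalRingHom 0)).map
          ((C : Localization.AtPrime P →+* (Localization.AtPrime P)[X]).comp
            (algebraMap A (Localization.AtPrime P))))) :
    Sim E ((E.map (evalRingHom 0)).map C) := by
  let I : Ideal A :=
    { carrier := {a | ∀ b d : A[X],
        Sim (E.map (compRingHom b)) (E.map (compRingHom (b + C a * d)))}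
      zero_mem' := fun b d => by simpa using Sim.refl (map_idem hE (compRingHom b))
      add_mem' := fun {a a'} ha ha' b d => by
        refine Sim.trans (map_idem hE _) (map_idem hE _) (ha b d) ?_
        have := ha' (b + C a * d) d
        rwa [add_assoc, ← add_mul, ← C_add] at this
      smul_mem' := fun c a ha b d => by
        have := ha b (C c * d)
        rwa [← mul_assoc, ← C_mul, mul_comm a c] at this }
  have h1 : I = ⊤ := by
    by_contra hI
    obtain ⟨P, hP, hIP⟩ := Ideal.exists_le_maximal I hI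
    have := hP.isPrime
    obtain ⟨a, ha, haI⟩ := exists_not_mem_sim E hE P (h P)
    exact ha (hIP haI)
  have := (I.eq_top_iff_one.mp h1) X (-X)
  convert this using 1
  · refine Matrix.ext fun i l => ?_
    simp
  · refine Matrix.ext fun i l => ?_
    simp

end Patching

end Groth.Agent.CommAlg4.IdemSim
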