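import Mathlib
import Groth.Agent.CommAlg4.IdemSim

/-!
Affine Horrocks theorem and its globalisation, for bundles on the projective line given by
idempotent matrices and transition matrices.
-/

set_option autoImplicit false

noncomputable section

namespace Groth.Agent.CommAlg4.Horrocks

open Matrix Polynomial LaurentPolynomial
open Groth.Agent.CommAlg4.IdemSim

variable {A : Type*} [CommRing A] {B : Type*} [CommRing B]

/-- `X ↦ T`. -/
def pos : A[X] →+* A[T;T⁻¹] := Polynomial.toLaurent

/-- `X ↦ T⁻¹`. -/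
def neg : A[X] →+* A[T;T⁻¹] :=
  (LaurentPolynomial.invert (R := A)).toAlgHom.toRingHom.comp Polynomial.toLaurent

theorem pos_injective : Function.Injective (pos : A[X] → A[T;T⁻¹]) :=
  Polynomial.toLaurent_injective

theorem neg_injective : Function.Injective (neg : A[X] → A[T;T⁻¹]) :=
  (LaurentPolynomial.invert (R := A)).injective.comp Polynomial.toLaurent_injective

@[simp] theorem pos_C (a : A) : pos (Polynomial.C a) = LaurentPolynomial.C a :=
  Polynomial.toLaurent_C a

@[simp] theorem pos_X : pos (Polynomial.X : A[X]) = LaurentPolynomial.T 1 :=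
  Polynomial.toLaurent_X

@[simp] theorem neg_C (a : A) : neg (Polynomial.C a) = LaurentPolynomial.C a := by
  simp [neg]

@[simp] theorem neg_X : neg (Polynomial.X : A[X]) = LaurentPolynomial.T (-1) := by
  simp [neg]

theorem neg_apply (p : A[X]) : neg p = LaurentPolynomial.invert (pos p) := rfl

theorem pos_X_pow (k : ℕ) : pos (Polynomial.X ^ k : A[X]) = LaurentPolynomial.T (k : ℤ) := by
  rw [map_pow, pos_X, LaurentPolynomial.T_pow, mul_one]

theorem neg_X_pow (k : ℕ) : neg (Polynomial.X ^ k : A[X]) = LaurentPolynomial.T (-(k : ℤ)) := by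
  rw [map_pow, neg_X, LaurentPolynomial.T_pow, mul_neg, mul_one]

theorem invert_pos (p : A[X]) : LaurentPolynomial.invert (pos p) = neg p := rfl

theorem invert_neg (p : A[X]) : LaurentPolynomial.invert (neg p) = pos p :=
  LaurentPolynomial.involutive_invert _

/-- base change of Laurent polynomials -/
def lmap (f : A →+* B) : A[T;T⁻¹] →+* B[T;T⁻¹] := AddMonoidAlgebra.mapRingHom ℤ f

@[simp] theorem lmap_C (f : A →+* B) (a : A) :
    lmap f (LaurentPolynomial.C a) = LaurentPolynomial.C (f a) := by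
  rw [← LaurentPolynomial.single_eq_C, ← LaurentPolynomial.single_eq_C]
  exact AddMonoidAlgebra.mapRingHom_single f 0 a

@[simp] theorem lmap_T (f : A →+* B) (k : ℤ) :
    lmap f (LaurentPolynomial.T k) = LaurentPolynomial.T k := by
  exact (AddMonoidAlgebra.mapRingHom_single f k 1).trans (by rw [map_one]; rfl)

theorem lmap_pos (f : A →+* B) (p : A[X]) : lmap f (pos p) = pos (p.map f) :=
  RingHom.congr_fun (f := (lmap f).comp pos) (g := pos.comp (mapRingHom f))
    (Polynomial.ringHom_ext (by simp) (by simp)) p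

theorem lmap_neg (f : A →+* B) (p : A[X]) : lmap f (neg p) = neg (p.map f) :=
  RingHom.congr_fun (f := (lmap f).comp neg) (g := neg.comp (mapRingHom f))
    (Polynomial.ringHom_ext (by simp) (by simp)) p

variable {m n p q : Type*}

theorem map_map_pos (f : A →+* B) (M : Matrix p q A[X]) :
    (M.map pos).map (lmap f) = (M.map (mapRingHom f)).map pos :=
  Matrix.ext fun i j => lmap_pos f (M i j)

theorem map_map_neg (f : A →+* B) (M : Matrix p q A[X]) :
    (M.map neg).map (lmap f) = (M.map (mapRingHom f)).map neg :=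
  Matrix.ext fun i j => lmap_neg f (M i j)

/-- clearing negative powers -/
theorem exists_pos_eq_T_mul (v : A[T;T⁻¹]) :
    ∃ D : ℕ, ∀ d : ℤ, (D : ℤ) ≤ d → ∃ P : A[X], pos P = LaurentPolynomial.T d * v := by
  obtain ⟨D, f, hf⟩ := LaurentPolynomial.exists_T_pow v
  refine ⟨D, fun d hd => ⟨Polynomial.X ^ (d - D).toNat * f, ?_⟩⟩
  rw [map_mul, pos_X_pow, show pos f = v * LaurentPolynomial.T (D : ℤ) from hf,
    Int.toNat_of_nonneg (by lia), mul_left_comm, ← LaurentPolynomial.T_add, sub_add_cancel,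
    mul_comm]

theorem exists_pos_eq_T_smul [Finite p] [Finite q] (M : Matrix p q A[T;T⁻¹]) :
    ∃ D : ℕ, ∀ d : ℤ, (D : ℤ) ≤ d → ∃ P : Matrix p q A[X],
      P.map (pos (A := A)) = (LaurentPolynomial.T d : A[T;T⁻¹]) • M := by
  classical
  cases nonempty_fintype p
  cases nonempty_fintype q
  choose D hD using fun x : p × q => exists_pos_eq_T_mul (M x.1 x.2)
  refine ⟨Finset.univ.sup D, fun d hd => ?_⟩
  choose P hP using fun x : p × q => hD x d
    (le_trans (by exact_mod_cast Finset.le_sup (Finset.mem_univ x)) hd)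
  exact ⟨Matrix.of fun i j => P (i, j), Matrix.ext fun i j => hP (i, j)⟩

theorem exists_neg_eq_T_smul [Finite p] [Finite q] (M : Matrix p q A[T;T⁻¹]) :
    ∃ D : ℕ, ∀ d : ℤ, (D : ℤ) ≤ d → ∃ P : Matrix p q A[X],
      P.map (neg (A := A)) = (LaurentPolynomial.T (-d) : A[T;T⁻¹]) • M := by
  obtain ⟨D, hD⟩ := exists_pos_eq_T_smul (M.map LaurentPolynomial.invert)
  refine ⟨D, fun d hd => ?_⟩
  obtain ⟨P, hP⟩ := hD d hd
  refine ⟨P, Matrix.ext fun i j => ?_⟩
  rw [Matrix.map_apply, neg_apply, show pos (P i j) = _ from congrFun (congrFun hP i) j]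
  simp only [Matrix.smul_apply, Matrix.map_apply, smul_eq_mul, map_mul,
    LaurentPolynomial.invert_T]
  rw [LaurentPolynomial.involutive_invert (M i j)]

theorem exists_reflect (r : A[X]) (N : ℕ) (hN : r.natDegree ≤ N) :
    ∃ p : A[X], pos p = LaurentPolynomial.T (N : ℤ) * neg r ∧ p.coeff N = r.coeff 0 ∧
      p.natDegree ≤ N := by
  refine ⟨∑ k ∈ Finset.range (N + 1), Polynomial.monomial (N - k) (r.coeff k), ?_, ?_, ?_⟩
  · conv_rhs => rw [r.as_sum_range_C_mul_X_pow' (show r.natDegree < N + 1 by lia),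
      map_sum, Finset.mul_sum]
    rw [map_sum]
    refine Finset.sum_congr rfl fun k hk => ?_
    rw [← Polynomial.C_mul_X_pow_eq_monomial, map_mul, map_mul, pos_C, pos_X_pow, neg_C, neg_X_pow,
      mul_left_comm, ← LaurentPolynomial.T_add]
    congr 2
    rw [Finset.mem_range] at hk
    lia
  · rw [Polynomial.finsetSum_coeff, Finset.sum_eq_single 0]
    · simp
    · intro k hk hk0
      rw [Polynomial.coeff_monomial, if_neg (by rw [Finset.mem_range] at hk; lia)]
    · simp
  · exact Polynomial.natDegree_sum_le_of_forall_le _ _ fun k _ =>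
      (Polynomial.natDegree_monomial_le _).trans (Nat.sub_le N k)

section Bundle

variable [Fintype m] [Fintype n]

/-- A vector bundle on the projective line over `A`. -/
structure Bundle (E : Matrix m m A[X]) (F : Matrix n n A[X]) (U : Matrix m n A[T;T⁻¹])
    (V : Matrix n m A[T;T⁻¹]) : Prop where
  hE : E * E = E
  hF : F * F = F
  hUV : U * V = E.map pos
  hVU : V * U = F.map neg
  hU₁ : E.map pos * U = U
  hU₂ : U * F.map neg = U
  hV₁ : F.map neg * V = V
  hV₂ : V * E.map pos = V

variable {E : Matrix m m A[X]} {F : Matrix n n A[X]} {U : Matrix m n A[T;T⁻¹]}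
  {V : Matrix n m A[T;T⁻¹]}

theorem Bundle.of_mul_eq (hE : E * E = E) (hF : F * F = F) (hUV : U * V = E.map pos)
    (hVU : V * U = F.map neg) :
    ∃ (U' : Matrix m n A[T;T⁻¹]) (V' : Matrix n m A[T;T⁻¹]), Bundle E F U' V' := by
  have hp : E.map pos * E.map pos = E.map pos := map_idem hE _
  have hn : F.map neg * F.map neg = F.map neg := map_idem hF _
  refine ⟨E.map pos * U * F.map neg, F.map neg * V * E.map pos, hE, hF, ?_, ?_, ?_, ?_, ?_, ?_⟩
  · calc _ = E.map pos * (U * ((F.map neg * F.map neg) * V)) * E.map pos := by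
          simp only [Matrix.mul_assoc]
      _ = E.map pos * ((U * V) * (U * V)) * E.map pos := by
          rw [hn, ← hVU]; simp only [Matrix.mul_assoc]
      _ = _ := by rw [hUV, hp, hp, hp]
  · calc _ = F.map neg * (V * ((E.map pos * E.map pos) * U)) * F.map neg := by
          simp only [Matrix.mul_assoc]
      _ = F.map neg * ((V * U) * (V * U)) * F.map neg := by
          rw [hp, ← hUV]; simp only [Matrix.mul_assoc]
      _ = _ := by rw [hVU, hn, hn, hn]
  · simp only [← Matrix.mul_assoc, hp]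
  · simp only [Matrix.mul_assoc, hn]
  · simp only [← Matrix.mul_assoc, hn]
  · simp only [Matrix.mul_assoc, hp]

theorem Bundle.map (h : Bundle E F U V) (f : A →+* B) :
    Bundle (E.map (mapRingHom f)) (F.map (mapRingHom f)) (U.map (lmap f)) (V.map (lmap f)) where
  hE := map_idem h.hE _
  hF := map_idem h.hF _
  hUV := by rw [← Matrix.map_mul, h.hUV, map_map_pos]
  hVU := by rw [← Matrix.map_mul, h.hVU, map_map_neg]
  hU₁ := by rw [← map_map_pos, ← Matrix.map_mul, h.hU₁]
  hU₂ := by rw [← map_map_neg, ← Matrix.map_mul, h.hU₂]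
  hV₁ := by rw [← map_map_neg, ← Matrix.map_mul, h.hV₁]
  hV₂ := by rw [← map_map_pos, ← Matrix.map_mul, h.hV₂]

theorem Bundle.symm (h : Bundle E F U V) :
    Bundle F E (V.map (LaurentPolynomial.invert (R := A)).toAlgHom.toRingHom)
      (U.map (LaurentPolynomial.invert (R := A)).toAlgHom.toRingHom) := by
  have hp : ∀ {k l : Type _} (M : Matrix k l A[X]),
      (M.map (pos (A := A))).map (LaurentPolynomial.invert (R := A)).toAlgHom.toRingHom =
        M.map (neg (A := A)) :=
    fun M => Matrix.ext fun i j => invert_pos (M i j)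
  have hn : ∀ {k l : Type _} (M : Matrix k l A[X]),
      (M.map (neg (A := A))).map (LaurentPolynomial.invert (R := A)).toAlgHom.toRingHom =
        M.map (pos (A := A)) :=
    fun M => Matrix.ext fun i j => invert_neg (M i j)
  exact
    { hE := h.hF
      hF := h.hE
      hUV := by rw [← Matrix.map_mul, h.hVU, hn]
      hVU := by rw [← Matrix.map_mul, h.hUV, hp]
      hU₁ := by rw [← hn F, ← Matrix.map_mul, h.hV₁]
      hU₂ := by rw [← hp E, ← Matrix.map_mul, h.hV₂]
      hV₁ := by rw [← hp E, ← Matrix.map_mul, h.hU₁]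
      hV₂ := by rw [← hn F, ← Matrix.map_mul, h.hU₂] }

/-- Splitting off a trivial rank one summand of `E`. -/
theorem split_E {σ : Matrix m (Fin 1) A[X]} {f : Matrix (Fin 1) m A[X]}
    (hE : E * E = E) (hσ : E * σ = σ) (hf : f * E = f) (hfσ : f * σ = 1) :
    (E - σ * f) * (E - σ * f) = E - σ * f ∧ (E - σ * f) * E = E - σ * f ∧
      (E - σ * f) * σ = 0 ∧ f * (E - σ * f) = 0 := by
  have h1 : (E - σ * f) * E = E - σ * f := by rw [Matrix.sub_mul, hE, Matrix.mul_assoc, hf]
  have h2 : (E - σ * f) * σ = 0 := by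
    rw [Matrix.sub_mul, hσ, Matrix.mul_assoc, hfσ, Matrix.mul_one, sub_self]
  refine ⟨?_, h1, h2, ?_⟩
  · rw [Matrix.mul_sub, h1, ← Matrix.mul_assoc, h2, Matrix.zero_mul, sub_zero]
  · rw [Matrix.mul_sub, hf, ← Matrix.mul_assoc, hfσ, Matrix.one_mul, sub_self]

theorem Bundle.split (h : Bundle E F U V) {σ : Matrix m (Fin 1) A[X]}
    {y : Matrix n (Fin 1) A[X]} {f : Matrix (Fin 1) m A[X]} {g : Matrix (Fin 1) n A[X]} (k : ℤ)
    (hσ : E * σ = σ) (hy : F * y = y) (hσy : σ.map (pos (A := A)) = (LaurentPolynomial.T k : A[T;T⁻¹]) • (U * y.map (neg (A := A))))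
    (hf : f * E = f) (hfσ : f * σ = 1) (hg : g * F = g) (hgy : g * y = 1) :
    ∃ (U' : Matrix m n A[T;T⁻¹]) (V' : Matrix n m A[T;T⁻¹]),
      Bundle (E - σ * f) (F - y * g) U' V' := by
  obtain ⟨hE', hE'E, hE'σ, -⟩ := split_E h.hE hσ hf hfσ
  obtain ⟨hF', hF'F, hF'y, -⟩ := split_E h.hF hy hg hgy
  set E' := E - σ * f with hE'def
  set F' := F - y * g with hF'def
  have e1 : E'.map pos * (U * y.map neg) = 0 := by
    have h1 : E'.map pos * σ.map pos = 0 := by
      rw [← Matrix.map_mul, hE'σ, Matrix.map_zero _ (map_zero _)]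
    rw [hσy, Matrix.mul_smul] at h1
    have := congrArg (fun M => (LaurentPolynomial.T (-k) : A[T;T⁻¹]) • M) h1
    rwa [smul_smul, ← LaurentPolynomial.T_add, neg_add_cancel, LaurentPolynomial.T_zero, one_smul,
      smul_zero] at this
  have e2 : V * σ.map pos = (LaurentPolynomial.T k : A[T;T⁻¹]) • y.map neg := by
    rw [hσy, Matrix.mul_smul, ← Matrix.mul_assoc, h.hVU, ← Matrix.map_mul, hy]
  refine Bundle.of_mul_eq (U := E'.map pos * U) (V := F'.map neg * V) hE' hF' ?_ ?_
  · have : E'.map pos * U * F'.map neg = E'.map pos * U := by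
      rw [hF'def, Matrix.map_sub neg (map_sub neg), Matrix.map_mul, Matrix.mul_sub,
        Matrix.mul_assoc _ _ (F.map neg), h.hU₂, ← Matrix.mul_assoc _ (y.map neg),
        Matrix.mul_assoc (E'.map pos) U (y.map neg), e1, Matrix.zero_mul, sub_zero]
    rw [← Matrix.mul_assoc, this, Matrix.mul_assoc, h.hUV, ← Matrix.map_mul, hE'E]
  · have : F'.map neg * V * E'.map pos = F'.map neg * V := by
      rw [hE'def, Matrix.map_sub pos (map_sub pos), Matrix.map_mul, Matrix.mul_sub,
        Matrix.mul_assoc _ _ (E.map pos), h.hV₂, ← Matrix.mul_assoc _ (σ.map pos),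
        Matrix.mul_assoc _ V (σ.map pos), e2, Matrix.mul_smul, ← Matrix.map_mul, hF'y,
        Matrix.map_zero _ (map_zero _), smul_zero, Matrix.zero_mul, sub_zero]
    rw [← Matrix.mul_assoc, this, Matrix.mul_assoc, h.hVU, ← Matrix.map_mul, hF'F]

end Bundle

section Field

variable {K : Type*} [Field K] [Fintype m] [Fintype n]

omit [Fintype m] in
theorem exists_X_pow_smul (w : Matrix n (Fin 1) K[X]) (hw : w ≠ 0) :
    ∃ (a : ℕ) (w' : Matrix n (Fin 1) K[X]), w = (Polynomial.X ^ a : K[X]) • w' ∧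
      ∃ i, (w' i 0).coeff 0 ≠ 0 := by
  obtain ⟨i₀, hi₀⟩ : ∃ i, w i 0 ≠ 0 := by
    by_contra h
    push Not at h
    exact hw (Matrix.ext fun i j => by rw [Subsingleton.elim j 0, h i, Matrix.zero_apply])
  clear hw
  induction hd : (w i₀ 0).natDegree using Nat.strong_induction_on generalizing w with
  | _ d IH =>
    by_cases h : ∃ i, (w i 0).coeff 0 ≠ 0
    · exact ⟨0, w, by simp, h⟩
    · push Not at h
      let w₁ : Matrix n (Fin 1) K[X] := Matrix.of fun i j => (w i j).divX
      have hw₁ : w = (Polynomial.X : K[X]) • w₁ := Matrix.ext fun i j => by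
        conv_lhs => rw [← X_mul_divX_add (w i j)]
        rw [Subsingleton.elim j 0, h i]
        simp [w₁]
      have hne : w₁ i₀ 0 ≠ 0 := by
        intro h0
        apply hi₀
        rw [hw₁, Matrix.smul_apply, h0, smul_zero]
      have hlt : (w₁ i₀ 0).natDegree < d := by
        rw [← hd]
        conv_rhs => rw [hw₁, Matrix.smul_apply, smul_eq_mul, natDegree_X_mul hne]
        exact Nat.lt_succ_self _
      obtain ⟨a, w', ha, hi⟩ := IH _ hlt w₁ hne rfl
      exact ⟨a + 1, w', by rw [hw₁, ha, smul_smul, pow_succ'], hi⟩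

variable {E : Matrix m m K[X]} {F : Matrix n n K[X]} {U : Matrix m n K[T;T⁻¹]}
  {V : Matrix n m K[T;T⁻¹]}

/-- Over a field, every non-zero section has an exact degree. -/
theorem exists_degree (h : Bundle E F U V) (u : Matrix m (Fin 1) K[X]) (hu : E * u = u)
    (hu0 : u ≠ 0) :
    ∃ (k : ℤ) (y : Matrix n (Fin 1) K[X]), F * y = y ∧
      u.map (pos (A := K)) = (LaurentPolynomial.T k : K[T;T⁻¹]) • (U * y.map (neg (A := K))) ∧
      ∃ i, (y i 0).coeff 0 ≠ 0 := by
  obtain ⟨D, hD⟩ := exists_neg_eq_T_smul (V * u.map pos)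
  obtain ⟨w, hw⟩ := hD D le_rfl
  have hu' : U * (V * u.map pos) = u.map pos := by
    rw [← Matrix.mul_assoc, h.hUV, ← Matrix.map_mul, hu]
  have hw' : u.map (pos (A := K)) = (LaurentPolynomial.T (D : ℤ) : K[T;T⁻¹]) •
      (U * w.map (neg (A := K))) := by
    rw [hw, Matrix.mul_smul, smul_smul, ← LaurentPolynomial.T_add, add_neg_cancel,
      LaurentPolynomial.T_zero, one_smul, hu']
  have hw0 : w ≠ 0 := by
    rintro rfl
    rw [Matrix.map_zero _ (map_zero _), Matrix.mul_zero, smul_zero] at hw'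
    exact hu0 (Matrix.map_injective pos_injective (hw'.trans (Matrix.map_zero _ (map_zero _)).symm))
  have hFw : F * w = w := by
    refine Matrix.map_injective neg_injective ?_
    show (F * w).map neg = w.map neg
    rw [Matrix.map_mul, hw, Matrix.mul_smul, ← Matrix.mul_assoc, h.hV₁]
  obtain ⟨a, w', rfl, hi⟩ := exists_X_pow_smul w hw0
  refine ⟨D - a, w', ?_, ?_, hi⟩
  · refine Matrix.ext fun i j => mul_left_cancel₀ (pow_ne_zero a Polynomial.X_ne_zero) ?_
    rw [Matrix.mul_smul] at hFw
    exact congrFun (congrFun hFw i) j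
  · rw [hw', map_smul_ringHom, neg_X_pow, Matrix.mul_smul, smul_smul, ← LaurentPolynomial.T_add,
      sub_eq_add_neg]

/-- rank of an idempotent matrix over `K[X]` -/
def rk [DecidableEq m] (E : Matrix m m K[X]) : ℕ :=
  Module.finrank K[X] (LinearMap.range (Matrix.toLin' E))

theorem rk_split [DecidableEq m] {σ : Matrix m (Fin 1) K[X]} {f : Matrix (Fin 1) m K[X]}
    (hE : E * E = E) (hσ : E * σ = σ) (hf : f * E = f) (hfσ : f * σ = 1) :
    rk (E - σ * f) < rk E := by
  obtain ⟨-, -, -, hfE'⟩ := split_E hE hσ hf hfσ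
  have hEE' : E * (E - σ * f) = E - σ * f := by rw [Matrix.mul_sub, hE, ← Matrix.mul_assoc, hσ]
  set E' := E - σ * f
  let v : m → K[X] := fun i => σ i 0
  have hv : v ∈ LinearMap.range (Matrix.toLin' E) := ⟨v, by
    funext i
    rw [Matrix.toLin'_apply]
    exact congrFun (congrFun hσ i) 0⟩
  let φ : K[X] × LinearMap.range (Matrix.toLin' E') →ₗ[K[X]] LinearMap.range (Matrix.toLin' E) :=
    LinearMap.coprod (LinearMap.toSpanSingleton _ _ ⟨v, hv⟩)
      (Submodule.inclusion (by
        rintro _ ⟨x, rfl⟩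
        exact ⟨Matrix.toLin' E' x, by
          rw [← LinearMap.comp_apply, ← Matrix.toLin'_mul, hEE']⟩))
  have hφ : Function.Injective φ := by
    rw [injective_iff_map_eq_zero]
    rintro ⟨c, x, hx⟩ h0
    obtain ⟨z, rfl⟩ := hx
    have h1 : c • v + Matrix.toLin' E' z = 0 := congrArg Subtype.val h0
    have h2 := congrArg (Matrix.toLin' f) h1
    rw [map_add, map_smul, map_zero, ← LinearMap.comp_apply, ← Matrix.toLin'_mul, hfE',
      map_zero, LinearMap.zero_apply, add_zero] at h2
    have h3 : Matrix.toLin' f v = fun _ => 1 := by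
      funext i
      rw [Matrix.toLin'_apply]
      have := congrFun (congrFun hfσ i) 0
      rwa [Subsingleton.elim i 0] at this ⊢
    rw [h3] at h2
    have hc : c = 0 := by simpa using congrFun h2 0
    subst hc
    rw [zero_smul, zero_add] at h1
    exact Prod.ext rfl (Subtype.ext h1)
  have := LinearMap.finrank_le_finrank_of_injective hφ
  rw [Module.finrank_prod, Module.finrank_self] at this
  unfold rk
  lia

end Field

section Local

variable [Fintype m] [Fintype n] [IsLocalRing A]
variable {E : Matrix m m A[X]} {F : Matrix n n A[X]} {U : Matrix m n A[T;T⁻¹]}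
  {V : Matrix n m A[T;T⁻¹]}

local notation "𝔪" => IsLocalRing.maximalIdeal A
local notation "κ" => IsLocalRing.ResidueField A
local notation "π" => mapRingHom (IsLocalRing.residue A)
local notation "πL" => lmap (IsLocalRing.residue A)

theorem eq_zero_of_map_eq_zero [DecidableEq m] (hE : E * E = E) (h0 : E.map π = 0) : E = 0 := by
  have h1 : E.map (evalRingHom 0) = 0 := by
    set e := E.map (evalRingHom 0) with he
    have he2 : e * e = e := map_idem hE _
    have hu : IsUnit (1 - e) := by
      rw [Matrix.isUnit_iff_isUnit_det]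
      refine isUnit_of_map_unit (IsLocalRing.residue A) _ ?_
      have : (1 - e).map (IsLocalRing.residue A) = 1 := by
        refine Matrix.ext fun i j => ?_
        have h2 : IsLocalRing.residue A ((E i j).coeff 0) = 0 := by
          have := congrArg (fun p => Polynomial.coeff p 0) (congrFun (congrFun h0 i) j)
          simpa using this
        simp [he, ← coeff_zero_eq_eval_zero, Matrix.one_apply, h2, apply_ite (IsLocalRing.residue A)]
      rw [RingHom.map_det, RingHom.mapMatrix_apply, this, Matrix.det_one]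
      exact isUnit_one
    exact hu.mul_left_cancel (by rw [Matrix.sub_mul, Matrix.one_mul, he2, sub_self,
      Matrix.mul_zero])
  have h2 : ∀ k : ℕ, ∃ M : Matrix m m A[X], E = (Polynomial.X ^ k : A[X]) • M := by
    intro k
    induction k with
    | zero => exact ⟨E, by simp⟩
    | succ k ih =>
      obtain ⟨M, hM⟩ := ih
      obtain ⟨M₁, hM₁⟩ : ∃ M₁ : Matrix m m A[X], E = (Polynomial.X : A[X]) • M₁ := by
        refine ⟨E.map divX, Matrix.ext fun i j => ?_⟩
        conv_lhs => rw [← X_mul_divX_add (E i j)]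
        have : (E i j).coeff 0 = 0 := by
          rw [coeff_zero_eq_eval_zero]; exact congrFun (congrFun h1 i) j
        simp [this]
      refine ⟨M₁ * M, ?_⟩
      conv_lhs => rw [← hE]
      conv_lhs => arg 1; rw [hM₁]
      conv_lhs => arg 2; rw [hM]
      rw [Matrix.smul_mul, Matrix.mul_smul, smul_smul, pow_succ']
  refine Matrix.ext fun i j => Polynomial.ext fun k => ?_
  obtain ⟨M, hM⟩ := h2 (k + 1)
  rw [hM, Matrix.smul_apply, smul_eq_mul, coeff_X_pow_mul', if_neg (by lia), Matrix.zero_apply,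
    coeff_zero]

theorem exists_lift {p q : Type*} (M : Matrix p q κ[X]) : ∃ M' : Matrix p q A[X], M'.map π = M := by
  choose f hf using fun x : p × q =>
    Polynomial.map_surjective _ IsLocalRing.residue_surjective (M x.1 x.2)
  exact ⟨Matrix.of fun i j => f (i, j), Matrix.ext fun i j => hf (i, j)⟩

theorem mem_smul_top_of_map_eq_zero {p q : Type*} [Finite p] [Finite q]
    (M : Matrix p q A[T;T⁻¹]) (hM : M.map πL = 0) :
    M ∈ 𝔪 • (⊤ : Submodule A (Matrix p q A[T;T⁻¹])) := by
  classical
  cases nonempty_fintype p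
  cases nonempty_fintype q
  rw [Matrix.matrix_eq_sum_single M]
  refine Submodule.sum_mem _ fun i _ => Submodule.sum_mem _ fun j _ => ?_
  have hl : ∀ k, (M i j).coeff k ∈ 𝔪 := fun k => by
    rw [← IsLocalRing.residue_eq_zero_iff]
    have := congrArg (fun v => v.coeff k) (congrFun (congrFun hM i) j)
    simpa [lmap] using this
  rw [← AddMonoidAlgebra.sum_coeff_single (M i j)]
  rw [Finsupp.sum, ← Matrix.singleAddMonoidHom_apply, map_sum]
  refine Submodule.sum_mem _ fun k _ => ?_
  rw [Matrix.singleAddMonoidHom_apply,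
    show AddMonoidAlgebra.single k ((M i j).coeff k) =
      (M i j).coeff k • AddMonoidAlgebra.single k (1 : A) by
        rw [AddMonoidAlgebra.smul_single, smul_eq_mul, mul_one], ← Matrix.smul_single]
  exact Submodule.smul_mem_smul (hl k) Submodule.mem_top

theorem map_eq_zero_of_mem_smul_top {p q : Type*}
    (M : Matrix p q A[X]) (hM : M ∈ 𝔪 • (⊤ : Submodule A (Matrix p q A[X]))) : M.map π = 0 := by
  refine Submodule.smul_induction_on hM (fun a ha x _ => ?_) (fun x y hx hy => ?_)
  · refine Matrix.ext fun i j => ?_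
    have := (IsLocalRing.residue_eq_zero_iff a).mpr ha
    simp [Matrix.map_apply, Polynomial.smul_eq_C_mul, this]
  · rw [Matrix.map_add _ (map_add _), hx, hy, add_zero]

variable (E F U)

/-- `σ ↦ E σ` -/
def Φ : Matrix m (Fin 1) A[X] →ₗ[A] Matrix m (Fin 1) A[T;T⁻¹] where
  toFun σ := (E * σ).map pos
  map_add' a b := by rw [Matrix.mul_add, Matrix.map_add _ (map_add _)]
  map_smul' c a := by
    refine Matrix.ext fun i j => ?_
    rw [Matrix.mul_smul, RingHom.id_apply, Matrix.map_apply, Matrix.smul_apply, Matrix.smul_apply,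
      Matrix.map_apply, Polynomial.smul_eq_C_mul, map_mul, pos_C, Algebra.smul_def]
    rfl

/-- `y ↦ T^k U F y` -/
def Ψ (k : ℤ) : Matrix n (Fin 1) A[X] →ₗ[A] Matrix m (Fin 1) A[T;T⁻¹] where
  toFun y := (LaurentPolynomial.T k : A[T;T⁻¹]) • (U * (F * y).map neg)
  map_add' a b := by rw [Matrix.mul_add, Matrix.map_add _ (map_add _), Matrix.mul_add, smul_add]
  map_smul' c a := by
    rw [Matrix.mul_smul, RingHom.id_apply,
      show (c • (F * a)).map neg = (LaurentPolynomial.C c : A[T;T⁻¹]) • (F * a).map neg from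
        Matrix.ext fun i j => by
          rw [Matrix.map_apply, Matrix.smul_apply, Matrix.smul_apply, Matrix.map_apply,
            Polynomial.smul_eq_C_mul, map_mul, neg_C, smul_eq_mul],
      Matrix.mul_smul, smul_comm]
    exact Matrix.ext fun i j => by simp [Algebra.smul_def]

/-- `v ↦ E v` -/
def Ξ : Matrix m (Fin 1) A[T;T⁻¹] →ₗ[A] Matrix m (Fin 1) A[T;T⁻¹] where
  toFun v := E.map pos * v
  map_add' a b := Matrix.mul_add _ a b
  map_smul' c a := Matrix.mul_smul _ c a

variable {E F U}

omit [IsLocalRing A] in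
theorem Ξ_of_fixed {v : Matrix m (Fin 1) A[T;T⁻¹]} (hv : E.map pos * v = v) :
    v ∈ LinearMap.range (Ξ E) := ⟨v, hv⟩

omit [IsLocalRing A] in
theorem range_le (h : Bundle E F U V) (k : ℤ) :
    LinearMap.range (Φ E) ⊔ LinearMap.range (Ψ F U k) ≤ LinearMap.range (Ξ E) := by
  refine sup_le ?_ ?_
  · rintro _ ⟨σ, rfl⟩
    refine Ξ_of_fixed ?_
    show E.map pos * (E * σ).map pos = (E * σ).map pos
    rw [← Matrix.map_mul, ← Matrix.mul_assoc, h.hE]
  · rintro _ ⟨y, rfl⟩
    refine Ξ_of_fixed ?_
    show E.map pos * ((LaurentPolynomial.T k : A[T;T⁻¹]) • (U * (F * y).map neg)) =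
      (LaurentPolynomial.T k : A[T;T⁻¹]) • (U * (F * y).map neg)
    rw [Matrix.mul_smul, ← Matrix.mul_assoc, h.hU₁]

omit [IsLocalRing A] in
theorem exists_bound (h : Bundle E F U V) :
    ∃ d : ℕ, ∀ k : ℤ, ∃ W : Submodule A (Matrix m (Fin 1) A[T;T⁻¹]), W.FG ∧
      W ≤ LinearMap.range (Ξ E) ∧ ((d : ℤ) ≤ k → W = ⊥) ∧
      LinearMap.range (Ξ E) ≤ LinearMap.range (Φ E) ⊔ LinearMap.range (Ψ F U k) ⊔ W := by
  classical
  let c : m → Matrix m (Fin 1) A[X] := fun i => Matrix.single i 0 1
  choose D hD using fun i => exists_neg_eq_T_smul (V * (E * c i).map pos)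
  refine ⟨Finset.univ.sup D, fun k => ?_⟩
  let g : m × Finset.Ico (k - (Finset.univ.sup D : ℕ)) 0 → Matrix m (Fin 1) A[T;T⁻¹] :=
    fun x => (LaurentPolynomial.T (x.2 : ℤ) : A[T;T⁻¹]) • (E * c x.1).map pos
  refine ⟨Submodule.span A (Set.range g), Submodule.fg_span (Set.finite_range g), ?_, ?_, ?_⟩
  · rw [Submodule.span_le]
    rintro _ ⟨x, rfl⟩
    refine Ξ_of_fixed ?_
    rw [Matrix.mul_smul, ← Matrix.map_mul, ← Matrix.mul_assoc, h.hE]
  · intro hk
    rw [Submodule.span_eq_bot]
    rintro _ ⟨⟨i, j, hj⟩, rfl⟩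
    rw [Finset.mem_Ico] at hj
    lia
  · rintro _ ⟨v, rfl⟩
    show E.map pos * v ∈ _
    rw [Matrix.matrix_eq_sum_single v, Matrix.mul_sum]
    refine Submodule.sum_mem _ fun i _ => ?_
    rw [Fin.sum_univ_one]
    have hcol : ∀ a : A[T;T⁻¹],
        E.map pos * Matrix.single i 0 a = a • (E * c i).map (pos (A := A)) := by
      intro a
      rw [Matrix.map_mul, ← Matrix.mul_smul]
      congr 1
      refine Matrix.ext fun r s => ?_
      simp [c, Matrix.single_apply]
    rw [hcol]
    induction v i 0 using LaurentPolynomial.induction_on' with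
    | add p q hp hq => rw [add_smul]; exact Submodule.add_mem _ hp hq
    | C_mul_T j a =>
      rw [mul_smul, show LaurentPolynomial.C a = algebraMap A A[T;T⁻¹] a from rfl, algebraMap_smul]
      refine Submodule.smul_mem _ a ?_
      by_cases hj0 : 0 ≤ j
      · refine Submodule.mem_sup_left (Submodule.mem_sup_left
          ⟨(Polynomial.X ^ j.toNat : A[X]) • c i, ?_⟩)
        show (E * ((Polynomial.X ^ j.toNat : A[X]) • c i)).map (pos (A := A)) = _
        rw [Matrix.mul_smul, map_smul_ringHom, pos_X_pow, Int.toNat_of_nonneg hj0]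
      by_cases hjk : (Finset.univ.sup D : ℕ) ≤ k - j
      · obtain ⟨w, hw⟩ := hD i (k - j)
          (le_trans (by exact_mod_cast Finset.le_sup (Finset.mem_univ i)) hjk)
        refine Submodule.mem_sup_left (Submodule.mem_sup_right ⟨w, ?_⟩)
        show (LaurentPolynomial.T k : A[T;T⁻¹]) • (U * (F * w).map neg) = _
        rw [Matrix.map_mul, ← Matrix.mul_assoc, h.hU₂, hw, Matrix.mul_smul, smul_smul,
          ← LaurentPolynomial.T_add, show k + -(k - j) = j by ring, ← Matrix.mul_assoc, h.hUV,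
          ← Matrix.map_mul, ← Matrix.mul_assoc, h.hE]
      · exact Submodule.mem_sup_right (Submodule.subset_span
          ⟨⟨i, ⟨j, Finset.mem_Ico.mpr ⟨by lia, by lia⟩⟩⟩, rfl⟩)

/-- Existence of the required section modulo the maximal ideal. -/
theorem exists_section_residue [DecidableEq m] (h : Bundle E F U V) (hne : E.map π ≠ 0) (d : ℕ) :
    ∃ (u : Matrix m (Fin 1) κ[X]) (f : Matrix (Fin 1) m κ[X]) (k : ℤ)
      (y : Matrix n (Fin 1) κ[X]), E.map π * u = u ∧ f * u = 1 ∧ F.map π * y = y ∧
      u.map (pos (A := κ)) = (LaurentPolynomial.T k : κ[T;T⁻¹]) • (U.map πL * y.map (neg (A := κ))) ∧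
      (∃ i, (y i 0).coeff 0 ≠ 0) ∧
      ((d : ℤ) ≤ k ∨ ∃ c : m → κ[X], ∀ i, E.map π * Matrix.single i (0 : Fin 1) (1 : κ[X]) = c i • u) := by
  set Ē := E.map π with hĒ
  have hĒ2 : Ē * Ē = Ē := map_idem h.hE _
  set R := LinearMap.range (Matrix.toLin' Ē) with hR
  let b := Module.finBasis κ[X] R
  let col : R → Matrix m (Fin 1) κ[X] := fun x => Matrix.of fun i _ => (x : m → κ[X]) i
  have hfix : ∀ x : R, Ē * col x = col x := by
    rintro ⟨_, z, rfl⟩
    refine Matrix.ext fun i j => ?_
    show (Ē.mulVec (Matrix.toLin' Ē z)) i = Matrix.toLin' Ē z i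
    rw [Matrix.toLin'_apply, Matrix.mulVec_mulVec, hĒ2]
  have hr : 0 < Module.finrank κ[X] R := by
    rw [Module.finrank_pos_iff, Submodule.nontrivial_iff_ne_bot, Ne, LinearMap.range_eq_bot]
    exact fun h0 => hne (Matrix.toLin'.injective (h0.trans (map_zero _).symm))
  let i₁ : Fin (Module.finrank κ[X] R) := ⟨0, hr⟩
  let φ : (m → κ[X]) →ₗ[κ[X]] κ[X] := (b.coord i₁) ∘ₗ (Matrix.toLin' Ē).rangeRestrict
  let f : Matrix (Fin 1) m κ[X] := Matrix.of fun _ i => φ (Pi.single i 1)
  have hf : ∀ x : R, (f * col x) 0 0 = b.coord i₁ x := by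
    intro x
    have : (Matrix.toLin' Ē).rangeRestrict (x : m → κ[X]) = x := by
      refine Subtype.ext ?_
      funext i
      show (Matrix.toLin' Ē x) i = _
      rw [Matrix.toLin'_apply]
      exact congrFun (congrFun (hfix x) i) 0
    conv_rhs => rw [← this]
    show _ = φ x
    rw [LinearMap.pi_apply_eq_sum_univ φ]
    simp [f, col, Matrix.mul_apply, mul_comm]
    congr! with i
    simp [Pi.single_apply, eq_comm]
  have hone : ∀ {M : Matrix (Fin 1) (Fin 1) κ[X]}, M 0 0 = 1 → M = 1 := fun hM => by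
    refine Matrix.ext fun i j => ?_
    rw [Subsingleton.elim i 0, Subsingleton.elim j 0, hM, Matrix.one_apply_eq]
  have hcol0 : ∀ {u : Matrix m (Fin 1) κ[X]}, f * u = 1 → u ≠ 0 := by
    rintro u hu rfl
    rw [Matrix.mul_zero] at hu
    exact one_ne_zero (congrFun (congrFun hu 0) 0).symm
  have hf₁ : f * col (b i₁) = 1 := hone (by rw [hf]; simp)
  obtain ⟨k₁, y₁, hy₁, huy₁, hi₁⟩ := exists_degree (h.map (IsLocalRing.residue A)) (col (b i₁))
    (hfix _) (hcol0 hf₁)
  by_cases hr1 : Module.finrank κ[X] R = 1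
  · refine ⟨col (b i₁), f, k₁, y₁, hfix _, hf₁, hy₁, huy₁, hi₁,
      Or.inr ⟨fun i => b.coord i₁ ⟨Ē.mulVec (Pi.single i 1), Pi.single i 1, rfl⟩, fun i => ?_⟩⟩
    have hsub : Subsingleton (Fin (Module.finrank κ[X] R)) := by rw [hr1]; infer_instance
    set x : R := ⟨Ē.mulVec (Pi.single i 1), Pi.single i 1, rfl⟩
    have hx : x = b.coord i₁ x • b i₁ := by
      conv_lhs => rw [← b.sum_repr x]
      rw [Fintype.sum_subsingleton _ i₁]
      rfl
    refine Matrix.ext fun r s => ?_
    have h3 := congrFun (congrArg Subtype.val hx) r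
    rw [Subsingleton.elim s 0]
    show _ = b.coord i₁ x * (b i₁ : m → κ[X]) r
    refine Eq.trans ?_ h3
    simp [x, Matrix.mul_apply, Matrix.mulVec, dotProduct, Matrix.single_apply, Pi.single_apply]
  · let i₂ : Fin (Module.finrank κ[X] R) := ⟨1, by lia⟩
    have hf₂ : f * col (b i₂) = 0 := by
      refine Matrix.ext fun i j => ?_
      rw [Subsingleton.elim i 0, Subsingleton.elim j 0, hf]
      simp [i₁, i₂, Module.Basis.repr_self]
    have hne2 : col (b i₂) ≠ 0 := fun h0 => b.ne_zero i₂ (Subtype.ext (funext fun i =>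
      congrFun (congrFun h0 i) 0))
    obtain ⟨k₂, y₂, hy₂, huy₂, ⟨i, hi⟩⟩ := exists_degree (h.map (IsLocalRing.residue A))
      (col (b i₂)) (hfix _) hne2
    obtain ⟨J, hJd, hJ1⟩ : ∃ J : ℕ, (d : ℤ) ≤ k₂ + J ∧ k₁ < k₂ + J :=
      ⟨((d : ℤ) - k₂).toNat + (k₁ + 1 - k₂).toNat, by lia, by lia⟩
    obtain ⟨e, he⟩ : ∃ e : ℕ, (e : ℤ) = k₂ + J - k₁ := ⟨(k₂ + J - k₁).toNat, by lia⟩
    refine ⟨col (b i₁) + (Polynomial.X ^ J : κ[X]) • col (b i₂), f, k₂ + J,
      y₂ + (Polynomial.X ^ e : κ[X]) • y₁, ?_, ?_, ?_, ?_, ⟨i, ?_⟩, Or.inl hJd⟩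
    · rw [Matrix.mul_add, Matrix.mul_smul, hfix, hfix]
    · rw [Matrix.mul_add, Matrix.mul_smul, hf₁, hf₂, smul_zero, add_zero]
    · rw [Matrix.mul_add, Matrix.mul_smul, hy₁, hy₂]
    · rw [Matrix.map_add _ (map_add _), Matrix.map_add _ (map_add _), map_smul_ringHom,
        map_smul_ringHom, pos_X_pow, neg_X_pow, huy₁, huy₂, Matrix.mul_add, Matrix.mul_smul,
        smul_add, smul_smul, smul_smul, ← LaurentPolynomial.T_add, ← LaurentPolynomial.T_add, he,
        show k₂ + J + -(k₂ + J - k₁) = k₁ by ring, add_comm (J : ℤ), add_comm]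
    · have he0 : e ≠ 0 := by rintro rfl; simp at he; lia
      simpa [Polynomial.coeff_X_pow_mul', he0, Ne.symm he0] using hi

theorem span_entries_eq_top_iff {p : Type*} [Fintype p] [DecidableEq p] {R : Type*} [CommRing R]
    (v : Matrix p (Fin 1) R) (h : Ideal.span (Set.range fun i => v i 0) = ⊤) :
    ∃ f : Matrix (Fin 1) p R, f * v = 1 := by
  obtain ⟨c, hc⟩ := Ideal.mem_span_range_iff_exists_fun.mp (h ▸ Submodule.mem_top : (1 : R) ∈ _)
  refine ⟨Matrix.of fun _ i => c i, Matrix.ext fun i j => ?_⟩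
  rw [Subsingleton.elim i 0, Subsingleton.elim j 0, Matrix.mul_apply, Matrix.one_apply_eq, ← hc]
  rfl

theorem mul_mem_span_entries {p : Type*} [Fintype p] {R : Type*} [CommRing R]
    (h : Matrix (Fin 1) p R) (v : Matrix p (Fin 1) R) :
    (h * v) 0 0 ∈ Ideal.span (Set.range fun i => v i 0) := by
  rw [Matrix.mul_apply]
  exact Ideal.sum_mem _ fun i _ => Ideal.mul_mem_left _ _ (Ideal.subset_span ⟨i, rfl⟩)

theorem exists_split_data [DecidableEq m] [DecidableEq n] (h : Bundle E F U V) (hne : E.map π ≠ 0) :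
    ∃ (σ : Matrix m (Fin 1) A[X]) (y : Matrix n (Fin 1) A[X]) (f : Matrix (Fin 1) m A[X])
      (g : Matrix (Fin 1) n A[X]) (k : ℤ), E * σ = σ ∧ F * y = y ∧
      σ.map (pos (A := A)) = (LaurentPolynomial.T k : A[T;T⁻¹]) • (U * y.map (neg (A := A))) ∧
      f * E = f ∧ f * σ = 1 ∧ g * F = g ∧ g * y = 1 := by
  classical
  obtain ⟨d, hd⟩ := exists_bound h
  obtain ⟨u, f₀, k, yb, hu, hfu, hyb, huy, ⟨i, hi⟩, hor⟩ := exists_section_residue h hne d
  obtain ⟨W, hWfg, hWle, hWbot, hWsup⟩ := hd k
  set S := LinearMap.range (Φ E) ⊔ LinearMap.range (Ψ F U k) with hS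
  -- vanishing of H¹
  have hΞS : LinearMap.range (Ξ E) ≤ S := by
    rcases hor with hk | ⟨c, hc⟩
    · exact hWsup.trans (by rw [hWbot hk, sup_bot_eq])
    · have hmod : LinearMap.range (Ξ E) ≤ S ⊔ 𝔪 • LinearMap.range (Ξ E) := by
        rintro v ⟨v₀, rfl⟩
        set v := Ξ E v₀ with hv
        have hvfix : E.map pos * v = v := by
          show E.map pos * (E.map pos * v₀) = E.map pos * v₀
          rw [← Matrix.mul_assoc, ← Matrix.map_mul, h.hE]
        obtain ⟨x, hx⟩ : ∃ x : κ[T;T⁻¹], v.map πL = x • u.map (pos (A := κ)) := by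
          refine ⟨∑ i, (v.map πL) i 0 * pos (c i), ?_⟩
          conv_lhs => rw [← hvfix, Matrix.map_mul, map_map_pos,
            Matrix.matrix_eq_sum_single (v.map πL), Matrix.mul_sum]
          rw [Finset.sum_smul]
          refine Finset.sum_congr rfl fun j _ => ?_
          rw [Fin.sum_univ_one, mul_smul, ← map_smul_ringHom, ← hc j,
            Matrix.map_mul (f := pos (A := κ)), ← Matrix.mul_smul]
          congr 1
          refine Matrix.ext fun r s => ?_
          simp [Matrix.single_apply]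
        obtain ⟨p₁, p₂, hp⟩ : ∃ p₁ p₂ : κ[X], x = pos p₁ + neg p₂ := by
          clear hx
          induction x using LaurentPolynomial.induction_on' with
          | add p q hp hq =>
            obtain ⟨a, b, rfl⟩ := hp
            obtain ⟨a', b', rfl⟩ := hq
            exact ⟨a + a', b + b', by simp only [map_add]; abel⟩
          | C_mul_T j a =>
            rcases le_total 0 j with hj | hj
            · exact ⟨Polynomial.C a * Polynomial.X ^ j.toNat, 0, by
                rw [map_zero, add_zero, map_mul, pos_C, pos_X_pow, Int.toNat_of_nonneg hj]⟩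
            · exact ⟨0, Polynomial.C a * Polynomial.X ^ (-j).toNat, by
                rw [map_zero, zero_add, map_mul, neg_C, neg_X_pow,
                  Int.toNat_of_nonneg (by lia), neg_neg]⟩
        obtain ⟨σ₀, hσ₀⟩ := exists_lift (A := A) (p₁ • u)
        obtain ⟨y₀, hy₀⟩ := exists_lift (A := A) (p₂ • yb)
        have hS' : Φ E σ₀ + Ψ F U k y₀ ∈ S :=
          Submodule.add_mem_sup (LinearMap.mem_range_self _ _) (LinearMap.mem_range_self _ _)
        refine Submodule.mem_sup.mpr ⟨_, hS', v - (Φ E σ₀ + Ψ F U k y₀), ?_,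
          add_sub_cancel _ _⟩
        have hker : (v - (Φ E σ₀ + Ψ F U k y₀)).map πL = 0 := by
          rw [Matrix.map_sub _ (map_sub _), sub_eq_zero, Matrix.map_add _ (map_add _), hx, hp,
            add_smul]
          congr 1
          · show _ = ((E * σ₀).map pos).map πL
            rw [map_map_pos, Matrix.map_mul, hσ₀, Matrix.mul_smul, hu, map_smul_ringHom]
          · show _ = ((LaurentPolynomial.T k : A[T;T⁻¹]) • (U * (F * y₀).map neg)).map πL
            rw [map_smul_ringHom, lmap_T, Matrix.map_mul, map_map_neg, Matrix.map_mul, hy₀,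
              Matrix.mul_smul, hyb, map_smul_ringHom, Matrix.mul_smul, huy, smul_comm]
        have hfix' : Ξ E (v - (Φ E σ₀ + Ψ F U k y₀)) = v - (Φ E σ₀ + Ψ F U k y₀) := by
          obtain ⟨w, hw⟩ := range_le h k hS'
          rw [map_sub, ← hw]
          show E.map pos * v - E.map pos * (E.map pos * w) = v - E.map pos * w
          rw [hvfix, ← Matrix.mul_assoc, ← Matrix.map_mul, h.hE]
        rw [← hfix', ← Submodule.map_top, ← Submodule.map_smul'']
        exact Submodule.mem_map_of_mem (mem_smul_top_of_map_eq_zero _ hker)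
      have hW' : W ≤ S := Submodule.le_of_le_smul_of_le_jacobson_bot hWfg
        (IsLocalRing.maximalIdeal_le_jacobson ⊥) <| by
          calc W ≤ S ⊔ 𝔪 • LinearMap.range (Ξ E) := hWle.trans hmod
            _ ≤ S ⊔ 𝔪 • (S ⊔ W) := sup_le_sup_left (Submodule.smul_mono le_rfl hWsup) _
            _ ≤ S ⊔ 𝔪 • W := by
              rw [Submodule.smul_sup]
              exact sup_le le_sup_left (sup_le (Submodule.smul_le_right.trans le_sup_left)
                le_sup_right)
      exact hWsup.trans (sup_le le_rfl hW')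
  -- lift the section
  obtain ⟨σ₁, hσ₁⟩ := exists_lift (A := A) u
  obtain ⟨y₁, hy₁⟩ := exists_lift (A := A) yb
  set v₀ := Φ E σ₁ - Ψ F U k y₁ with hv₀
  have hv₀ker : v₀.map πL = 0 := by
    rw [hv₀, Matrix.map_sub _ (map_sub _), sub_eq_zero]
    show ((E * σ₁).map pos).map πL =
      ((LaurentPolynomial.T k : A[T;T⁻¹]) • (U * (F * y₁).map neg)).map πL
    rw [map_map_pos, Matrix.map_mul, hσ₁, hu, map_smul_ringHom, lmap_T, Matrix.map_mul,
      map_map_neg, Matrix.map_mul, hy₁, hyb, huy]
  have hv₀fix : Ξ E v₀ = v₀ := by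
    obtain ⟨w, hw⟩ := range_le h k (Submodule.sub_mem _
      (Submodule.mem_sup_left (LinearMap.mem_range_self _ σ₁))
      (Submodule.mem_sup_right (LinearMap.mem_range_self _ y₁)))
    rw [hv₀, ← hw]
    show E.map pos * (E.map pos * w) = E.map pos * w
    rw [← Matrix.mul_assoc, ← Matrix.map_mul, h.hE]
  have hv₀mem : v₀ ∈ 𝔪 • S := by
    refine Submodule.smul_mono le_rfl hΞS ?_
    rw [← hv₀fix, ← Submodule.map_top, ← Submodule.map_smul'']
    exact Submodule.mem_map_of_mem (mem_smul_top_of_map_eq_zero _ hv₀ker)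
  rw [hS, Submodule.smul_sup, ← Submodule.map_top, ← Submodule.map_top, ← Submodule.map_smul'',
    ← Submodule.map_smul'', Submodule.mem_sup] at hv₀mem
  obtain ⟨_, ⟨a, ha, rfl⟩, _, ⟨b, hb, rfl⟩, hab⟩ := hv₀mem
  have ha0 := map_eq_zero_of_mem_smul_top a ha
  have hb0 := map_eq_zero_of_mem_smul_top b hb
  set σ := E * (σ₁ - a) with hσ
  set y := F * (y₁ + b) with hy
  have hEσ : E * σ = σ := by rw [hσ, ← Matrix.mul_assoc, h.hE]
  have hFy : F * y = y := by rw [hy, ← Matrix.mul_assoc, h.hF]
  have heq : σ.map (pos (A := A)) = (LaurentPolynomial.T k : A[T;T⁻¹]) • (U * y.map (neg (A := A))) := by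
    show Φ E (σ₁ - a) = Ψ F U k (y₁ + b)
    rw [map_sub, map_add]
    rw [eq_sub_iff_add_eq] at hab
    rw [← hab]
    abel
  have hσπ : σ.map π = u := by
    rw [hσ, Matrix.map_mul, Matrix.map_sub _ (map_sub _), hσ₁, ha0, sub_zero, hu]
  have hyπ : y.map π = yb := by
    rw [hy, Matrix.map_mul, Matrix.map_add _ (map_add _), hy₁, hb0, add_zero, hyb]
  -- unimodularity of `σ`
  set q := y i 0 with hq
  have hq0 : IsUnit (q.coeff 0) := by
    rw [← IsLocalRing.residue_ne_zero_iff_isUnit]
    rw [← hyπ] at hi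
    simpa using hi
  have hJ : Ideal.span (Set.range fun i => σ i 0) = ⊤ := by
    set J := Ideal.span (Set.range fun i => σ i 0) with hJdef
    obtain ⟨D, hD⟩ := exists_pos_eq_T_smul (V.submatrix (fun _ : Fin 1 => i) id)
    obtain ⟨N, hN₁, hN₂⟩ : ∃ N : ℕ, (D : ℤ) ≤ N - k ∧ q.natDegree ≤ N :=
      ⟨q.natDegree + ((D : ℤ) + k).toNat, by lia, by lia⟩
    obtain ⟨hrow, hhrow⟩ := hD ((N : ℤ) - k) hN₁
    obtain ⟨P, hP, hPN, hPdeg⟩ := exists_reflect q N hN₂
    have hPJ : P ∈ J := by
      have : (hrow * σ) 0 0 = P := by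
        refine pos_injective ?_
        have e1 : V * σ.map pos = (LaurentPolynomial.T k : A[T;T⁻¹]) • y.map (neg (A := A)) := by
          rw [heq, Matrix.mul_smul, ← Matrix.mul_assoc, h.hVU, ← Matrix.map_mul, hFy]
        have e2 : (hrow * σ).map (pos (A := A)) =
            (LaurentPolynomial.T ((N : ℤ) - k) : A[T;T⁻¹]) •
              (V * σ.map pos).submatrix (fun _ : Fin 1 => i) id := by
          rw [Matrix.map_mul, hhrow, Matrix.smul_mul]
          rfl
        have := congrFun (congrFun e2 0) 0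
        rw [e1] at this
        rw [hP]
        refine this.trans ?_
        simp only [Matrix.smul_apply, Matrix.submatrix_apply, id_eq, Matrix.map_apply, smul_eq_mul]
        rw [← mul_assoc, ← LaurentPolynomial.T_add, sub_add_cancel]
      exact this ▸ mul_mem_span_entries hrow σ
    obtain ⟨a₀, ha₀⟩ := hq0.exists_left_inv
    have hP' : (Polynomial.C a₀ * P).Monic := by
      refine Polynomial.monic_of_natDegree_le_of_coeff_eq_one N
        ((Polynomial.natDegree_C_mul_le _ _).trans hPdeg) ?_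
      rw [Polynomial.coeff_C_mul, hPN, ha₀]
    have : Module.Finite A (A[X] ⧸ Ideal.span {Polynomial.C a₀ * P}) := hP'.finite_quotient
    have hle : Ideal.span {Polynomial.C a₀ * P} ≤ J :=
      (Ideal.span_singleton_le_iff_mem _).mpr (Ideal.mul_mem_left _ _ hPJ)
    have hfin : Module.Finite A (A[X] ⧸ J) :=
      Module.Finite.of_surjective ((Ideal.Quotient.factorₐ A hle).toLinearMap)
        (Ideal.Quotient.factor_surjective hle)
    obtain ⟨f₁, hf₁⟩ := exists_lift (A := A) f₀
    set r := 1 - (f₁ * σ) 0 0 with hr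
    have hrker : r ∈ Ideal.map Polynomial.C 𝔪 := by
      have : r ∈ RingHom.ker π := by
        rw [RingHom.mem_ker, hr, map_sub, map_one]
        have : ((f₁ * σ).map π) 0 0 = 1 := by
          rw [Matrix.map_mul, hf₁, hσπ, hfu, Matrix.one_apply_eq]
        rw [Matrix.map_apply] at this
        rw [this, sub_self]
      rwa [Polynomial.ker_mapRingHom, IsLocalRing.ker_residue] at this
    have htop : (⊤ : Submodule A (A[X] ⧸ J)) ≤ 𝔪 • (⊤ : Submodule A (A[X] ⧸ J)) := by
      rintro x -
      obtain ⟨z, rfl⟩ := Ideal.Quotient.mk_surjective x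
      have hz : Ideal.Quotient.mk J z = Ideal.Quotient.mk J (r * z) := by
        rw [Ideal.Quotient.eq, hr, sub_mul, one_mul, sub_sub_cancel]
        exact Ideal.mul_mem_right _ _ (mul_mem_span_entries f₁ σ)
      rw [hz, Ideal.smul_top_eq_map, Submodule.restrictScalars_mem,
        IsScalarTower.algebraMap_eq A A[X] (A[X] ⧸ J), ← Ideal.map_map]
      exact Ideal.mem_map_of_mem _ (Ideal.mul_mem_right _ _ hrker)
    have hbot := Submodule.eq_bot_of_le_smul_of_le_jacobson_bot 𝔪
      (⊤ : Submodule A (A[X] ⧸ J)) hfin.fg_top htop (IsLocalRing.maximalIdeal_le_jacobson ⊥)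
    rw [Ideal.eq_top_iff_one, ← Ideal.Quotient.eq_zero_iff_mem]
    exact (Submodule.mem_bot A).mp (hbot ▸ Submodule.mem_top)
  obtain ⟨f, hf⟩ := span_entries_eq_top_iff σ hJ
  -- unimodularity of `y`
  have hJ' : Ideal.span (Set.range fun i => y i 0) = ⊤ := by
    set J := Ideal.span (Set.range fun i => y i 0)
    obtain ⟨D, hD⟩ := exists_neg_eq_T_smul (f.map pos * U)
    obtain ⟨w, hw₁⟩ : ∃ w : ℕ, (D : ℤ) ≤ w - k := ⟨((D : ℤ) + k).toNat, by lia⟩
    obtain ⟨hrow, hhrow⟩ := hD ((w : ℤ) - k) hw₁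
    have hX : (Polynomial.X ^ w : A[X]) ∈ J := by
      have : (hrow * y) 0 0 = Polynomial.X ^ w := by
        refine neg_injective ?_
        have e2 : (f.map pos) * σ.map (pos (A := A)) = 1 := by
          rw [← Matrix.map_mul, hf, Matrix.map_one _ (map_zero _) (map_one _)]
        rw [heq, Matrix.mul_smul, ← Matrix.mul_assoc] at e2
        have e3 : (hrow * y).map (neg (A := A)) =
            (LaurentPolynomial.T (-((w : ℤ) - k) + -k) : A[T;T⁻¹]) • (1 : Matrix _ _ _) := by
          rw [Matrix.map_mul, hhrow, Matrix.smul_mul, ← e2, smul_smul, ← LaurentPolynomial.T_add]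
          congr 2
          ring
        have := congrFun (congrFun e3 0) 0
        rw [Matrix.map_apply] at this
        rw [this, neg_X_pow]
        simp only [Matrix.smul_apply, Matrix.one_apply_eq, smul_eq_mul, mul_one]
        congr 1
        ring
      exact this ▸ mul_mem_span_entries hrow y
    rw [Ideal.eq_top_iff_one]
    obtain ⟨a₀, ha₀⟩ := hq0.exists_left_inv
    have hcop : IsCoprime q (Polynomial.X : A[X]) := by
      refine ⟨Polynomial.C a₀, -(Polynomial.C a₀ * q.divX), ?_⟩
      have h1 : (Polynomial.C a₀ : A[X]) * Polynomial.C (q.coeff 0) = 1 := by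
        rw [← map_mul, ha₀, map_one]
      linear_combination (-(Polynomial.C a₀ : A[X])) * X_mul_divX_add q + h1
    obtain ⟨s, t, hst⟩ := hcop.pow_right (n := w)
    rw [← hst]
    exact J.add_mem (J.mul_mem_left _ (Ideal.subset_span ⟨i, rfl⟩)) (J.mul_mem_left _ hX)
  obtain ⟨g, hg⟩ := span_entries_eq_top_iff y hJ'
  exact ⟨σ, y, f * E, g * F, k, hEσ, hFy, heq, by rw [Matrix.mul_assoc, h.hE],
    by rw [Matrix.mul_assoc, hEσ, hf], by rw [Matrix.mul_assoc, h.hF],
    by rw [Matrix.mul_assoc, hFy, hg]⟩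

end Local

/-- **Affine Horrocks theorem.** -/
theorem exists_sim_one [Fintype m] [Fintype n] [DecidableEq m] [DecidableEq n] [IsLocalRing A]
    {E : Matrix m m A[X]} {F : Matrix n n A[X]} {U : Matrix m n A[T;T⁻¹]}
    {V : Matrix n m A[T;T⁻¹]} (h : Bundle E F U V) :
    ∃ r : ℕ, Sim E (1 : Matrix (Fin r) (Fin r) A[X]) := by
  induction hr : rk (E.map (mapRingHom (IsLocalRing.residue A))) using Nat.strong_induction_on
    generalizing E F U V with
  | _ r IH =>
    by_cases hne : E.map (mapRingHom (IsLocalRing.residue A)) = 0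
    · refine ⟨0, 0, 0, ?_, Subsingleton.elim _ _⟩
      rw [Matrix.mul_zero, eq_zero_of_map_eq_zero h.hE hne]
    · obtain ⟨σ, y, f, g, k, hσ, hy, hσy, hf, hfσ, hg, hgy⟩ := exists_split_data h hne
      obtain ⟨U', V', h'⟩ := h.split k hσ hy hσy hf hfσ hg hgy
      have hlt : rk ((E - σ * f).map (mapRingHom (IsLocalRing.residue A))) < r := by
        rw [← hr, Matrix.map_sub _ (map_sub _), Matrix.map_mul]
        exact rk_split (map_idem h.hE _) (by rw [← Matrix.map_mul, hσ])
          (by rw [← Matrix.map_mul, hf])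
          (by rw [← Matrix.map_mul, hfσ, Matrix.map_one _ (map_zero _) (map_one _)])
      obtain ⟨r', x, z, hxz, hzx⟩ := IH _ hlt h' rfl
      obtain ⟨hE', -, hE'σ, hfE'⟩ := split_E h.hE hσ hf hfσ
      refine ⟨1 + r', (Matrix.fromCols σ ((E - σ * f) * x)).submatrix id finSumFinEquiv.symm,
        (Matrix.fromRows f (z * (E - σ * f))).submatrix finSumFinEquiv.symm id, ?_, ?_⟩
      · rw [Matrix.submatrix_mul_equiv, Matrix.submatrix_id_id, Matrix.fromCols_mul_fromRows,
          Matrix.mul_assoc _ x, ← Matrix.mul_assoc x, hxz, hE', hE', add_sub_cancel]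
      · rw [← Matrix.submatrix_mul _ _ _ id _ Function.bijective_id, Matrix.fromRows_mul_fromCols,
          hfσ, ← Matrix.mul_assoc f, hfE', Matrix.zero_mul, Matrix.mul_assoc z, hE'σ,
          Matrix.mul_zero, ← Matrix.mul_assoc, Matrix.mul_assoc z, hE', ← hxz,
          show z * (x * z) * x = (z * x) * (z * x) by simp only [Matrix.mul_assoc], hzx,
          Matrix.one_mul, Matrix.fromBlocks_one, Matrix.submatrix_one_equiv]

/-- **Horrocks + Quillen**: the restriction of a bundle to the affine line is extended. -/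
theorem sim_eval_zero [Fintype m] [Fintype n]
    {E : Matrix m m A[X]} {F : Matrix n n A[X]} {U : Matrix m n A[T;T⁻¹]}
    {V : Matrix n m A[T;T⁻¹]} (h : Bundle E F U V) :
    Sim E ((E.map (evalRingHom 0)).map Polynomial.C) := by
  classical
  refine quillen_patching E h.hE fun P _ => ?_
  set ι := algebraMap A (Localization.AtPrime P)
  obtain ⟨r, hr⟩ := exists_sim_one (h.map ι)
  have h0 := hr.map ((Polynomial.C : Localization.AtPrime P →+* _).comp (evalRingHom 0))
  rw [Matrix.map_one _ (map_zero _) (map_one _)] at h0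
  have e : (E.map (mapRingHom ι)).map
      ((Polynomial.C : Localization.AtPrime P →+* _).comp (evalRingHom 0)) =
      (E.map (evalRingHom 0)).map ((Polynomial.C : Localization.AtPrime P →+* _).comp ι) := by
    refine Matrix.ext fun i j => ?_
    simp [← coeff_zero_eq_eval_zero]
  rw [e] at h0
  exact hr.trans (map_idem h.hE _) (map_idem (map_idem h.hE _) _) h0.symm

/-- Two constant idempotents which become equivalent after gluing along `c` and `X ^ j`,
`c (0) = 1`, are equivalent. -/
theorem sim_of_glue [Fintype m] [Fintype n] {e : Matrix m m A} {e' : Matrix n n A}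
    (he : e * e = e) (he' : e' * e' = e') (α : Matrix n m A[X]) (β : Matrix m n A[X]) (c : A[X])
    (hc : c.coeff 0 = 1) (j : ℕ)
    (hβα : β * α = (c * Polynomial.X ^ j) • e.map Polynomial.C)
    (hαβ : α * β = (c * Polynomial.X ^ j) • e'.map Polynomial.C) :
    Sim e e' := by
  classical
  have hE : e.map Polynomial.C * e.map Polynomial.C = e.map (Polynomial.C (R := A)) := map_idem he _
  have hE' : e'.map Polynomial.C * e'.map Polynomial.C = e'.map (Polynomial.C (R := A)) :=
    map_idem he' _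
  set E := e.map (Polynomial.C (R := A))
  set E' := e'.map (Polynomial.C (R := A))
  -- normalise
  have h1 : E' * α * E * (E * β * E') = (c * Polynomial.X ^ j) • E' := by
    calc _ = E' * (α * ((E * E) * β)) * E' := by simp only [Matrix.mul_assoc]
      _ = _ := by
        rw [hE]
        have : (c * Polynomial.X ^ j) • (α * (E * β)) = α * β * (α * β) := by
          calc _ = α * ((c * Polynomial.X ^ j) • E * β) := by
                rw [Matrix.smul_mul, Matrix.mul_smul]
            _ = _ := by rw [← hβα]; simp only [Matrix.mul_assoc]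
        rw [hαβ, Matrix.smul_mul, Matrix.mul_smul, hE', smul_smul] at this
        have hreg : ∀ {x y : Matrix n n A[X]},
            (c * Polynomial.X ^ j) • x = (c * Polynomial.X ^ j) • y → x = y := by
          intro x y hxy
          have hc0 : c ∈ nonZeroDivisors A[X] :=
            Polynomial.mem_nonZeroDivisors_iff.mpr fun a ha => by
              simpa [hc] using congrArg (fun p => Polynomial.coeff p 0) ha
          refine Matrix.ext fun r s => ?_
          have := congrFun (congrFun hxy r) s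
          simp only [Matrix.smul_apply, smul_eq_mul] at this
          exact (mul_cancel_left_mem_nonZeroDivisors
            (mul_mem hc0 (Polynomial.monic_X_pow j).mem_nonZeroDivisors)).mp this
        rw [hreg (this.trans (smul_smul _ _ _).symm), Matrix.mul_smul, Matrix.smul_mul, hE', hE']
  have h2 : E * β * E' * (E' * α * E) = (c * Polynomial.X ^ j) • E := by
    calc _ = E * (β * ((E' * E') * α)) * E := by simp only [Matrix.mul_assoc]
      _ = _ := by
        rw [hE']
        have : (c * Polynomial.X ^ j) • (β * (E' * α)) = β * α * (β * α) := by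
          calc _ = β * ((c * Polynomial.X ^ j) • E' * α) := by
                rw [Matrix.smul_mul, Matrix.mul_smul]
            _ = _ := by rw [← hαβ]; simp only [Matrix.mul_assoc]
        rw [hβα, Matrix.smul_mul, Matrix.mul_smul, hE, smul_smul] at this
        have hreg : ∀ {x y : Matrix m m A[X]},
            (c * Polynomial.X ^ j) • x = (c * Polynomial.X ^ j) • y → x = y := by
          intro x y hxy
          have hc0 : c ∈ nonZeroDivisors A[X] :=
            Polynomial.mem_nonZeroDivisors_iff.mpr fun a ha => by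
              simpa [hc] using congrArg (fun p => Polynomial.coeff p 0) ha
          refine Matrix.ext fun r s => ?_
          have := congrFun (congrFun hxy r) s
          simp only [Matrix.smul_apply, smul_eq_mul] at this
          exact (mul_cancel_left_mem_nonZeroDivisors
            (mul_mem hc0 (Polynomial.monic_X_pow j).mem_nonZeroDivisors)).mp this
        rw [hreg (this.trans (smul_smul _ _ _).symm), Matrix.mul_smul, Matrix.smul_mul, hE, hE]
  have hcop : IsCoprime c (Polynomial.X ^ j : A[X]) := by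
    refine IsCoprime.pow_right ⟨1, -c.divX, ?_⟩
    have := X_mul_divX_add c
    rw [hc, map_one] at this
    linear_combination -this
  obtain ⟨g, hg, hgc, hgd⟩ := exists_glue c (Polynomial.X ^ j) hcop hE hE' (E' * α * E)
    (E * β * E') h2 h1 (by simp only [← Matrix.mul_assoc, hE'])
    (by simp only [Matrix.mul_assoc, hE]) (by simp only [← Matrix.mul_assoc, hE])
    (by simp only [Matrix.mul_assoc, hE'])
  -- at infinity the glued idempotent is constant
  have hL : Sim (g.map (neg (A := A))) (E'.map (neg (A := A))) := hgd _ (neg (A := A)) (by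
    rw [neg_X_pow]; exact LaurentPolynomial.isUnit_T _)
  have hEE : E'.map (neg (A := A)) = E'.map (pos (A := A)) := Matrix.ext fun r s => by simp [E']
  obtain ⟨x, y, hxy, hyx⟩ := hL
  obtain ⟨U', V', hB⟩ := Bundle.of_mul_eq (F := g) (U := y) (V := x) hE' hg (hyx.trans hEE) hxy
  have hext := sim_eval_zero hB.symm
  have he0 : Sim (g.map (evalRingHom 0)) e := by
    have := hgc A (evalRingHom 0) (by simp [← coeff_zero_eq_eval_zero, hc])
    simpa [E, Matrix.map_map, Function.comp_def] using this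
  have he1 : Sim (g.map (evalRingHom 1)) e' := by
    have := hgd A (evalRingHom 1) (by simp)
    simpa [E', Matrix.map_map, Function.comp_def] using this
  have h01 : Sim (g.map (evalRingHom 1)) (g.map (evalRingHom 0)) := by
    have := hext.map (evalRingHom (1 : A))
    simpa [Matrix.map_map, Function.comp_def] using this
  exact he0.symm.trans he he' (h01.symm.trans (map_idem hg _) he' he1)

section Modules

variable {R S : Type*} [CommRing R] [CommRing S] [Algebra R S]
variable {M : Type*} [AddCommGroup M] [Module R M] [Fintype m] [DecidableEq m]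

open scoped TensorProduct

theorem exists_retract_baseChange (i : M →ₗ[R] m → R) (p : (m → R) →ₗ[R] M)
    (hpi : p ∘ₗ i = .id) :
    ∃ (i' : S ⊗[R] M →ₗ[S] m → S) (p' : (m → S) →ₗ[S] S ⊗[R] M), p' ∘ₗ i' = .id ∧
      LinearMap.toMatrix' (i' ∘ₗ p') =
        (LinearMap.toMatrix' (i ∘ₗ p)).map (algebraMap R S) := by
  let ε : S ⊗[R] (m → R) ≃ₗ[S] (m → S) := TensorProduct.piScalarRight R S S m
  refine ⟨ε.toLinearMap ∘ₗ i.baseChange S, p.baseChange S ∘ₗ ε.symm.toLinearMap, ?_, ?_⟩
  · refine LinearMap.ext fun x => ?_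
    simp only [LinearMap.comp_apply, LinearEquiv.coe_coe, LinearEquiv.symm_apply_apply,
      LinearMap.id_apply]
    rw [← LinearMap.comp_apply, ← LinearMap.baseChange_comp, hpi, LinearMap.baseChange_id,
      LinearMap.id_apply]
  · refine Matrix.ext fun r s => ?_
    have hs : ε.symm (Pi.single s 1) = 1 ⊗ₜ[R] Pi.single s 1 := by
      rw [LinearEquiv.symm_apply_eq]
      ext t
      simp [ε, Pi.single_apply]
    simp only [LinearMap.toMatrix'_apply, Matrix.map_apply, LinearMap.comp_apply,
      LinearEquiv.coe_coe]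
    rw [hs]
    simp [ε, Algebra.algebraMap_eq_smul_one]

end Modules

end Groth.Agent.CommAlg4.Horrocks
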