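import Mathlib
import Groth.Agent.CommAlg4.IdemSim
import Groth.Agent.CommAlg4.Horrocks
import Groth.Agent.HenselLib.Perm

/-!
Finite projective modules along `B[1/t] → B'[1/t]` when `B → B'` is an isomorphism modulo all
powers of `t` and `t` is in both Jacobson radicals: approximation of idempotent matrices.
-/

set_option autoImplicit false
set_option linter.unusedSectionVars false

noncomputable section

universe u

namespace Groth.Agent.CommAlg4.ApproxIdem

open Matrix Groth.Agent.CommAlg4.IdemSim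
open scoped TensorProduct

/-- `L = B[1/t]`, `L' = B'[1/t]`, `B ⧸ tⁿ = B' ⧸ tⁿ`, `t` in both Jacobson radicals. -/
structure Approx {B B' L L' : Type*} [CommRing B] [CommRing B'] [CommRing L] [CommRing L']
    [Algebra L L'] (ψ : B →+* B') (t : B) (ι : B →+* L) (ι' : B' →+* L') : Prop where
  comm : (algebraMap L L').comp ι = ι'.comp ψ
  unit : IsUnit (ι t)
  clear : ∀ z : L, ∃ (k : ℕ) (b : B), z * ι t ^ k = ι b
  clear' : ∀ z : L', ∃ (k : ℕ) (b : B'), z * ι' (ψ t) ^ k = ι' b
  ker' : ∀ b : B', ι' b = 0 → ∃ k : ℕ, ψ t ^ k * b = 0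
  dense : ∀ (b' : B') (k : ℕ), ∃ b : B, ψ t ^ k ∣ b' - ψ b
  dvd : ∀ (b : B) (k : ℕ), ψ t ^ k ∣ ψ b → t ^ k ∣ b
  jac : t ∈ (⊥ : Ideal B).jacobson
  jac' : ψ t ∈ (⊥ : Ideal B').jacobson

theorem isUnit_one_add_smul {R : Type*} [CommRing R] {t : R} (ht : t ∈ (⊥ : Ideal R).jacobson)
    {m : Type*} [Fintype m] [DecidableEq m] (C : Matrix m m R) : IsUnit (1 + t • C) := by
  rw [Matrix.isUnit_iff_isUnit_det]
  obtain ⟨c, hc⟩ : t ∣ (1 + t • C).det - 1 := by
    rw [← Ideal.mem_span_singleton, ← Ideal.Quotient.eq, RingHom.map_det, map_one]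
    have : (Ideal.Quotient.mk (Ideal.span {t})).mapMatrix (1 + t • C) = 1 := by
      refine Matrix.ext fun i j => ?_
      simp [Matrix.one_apply, apply_ite (Ideal.Quotient.mk (Ideal.span {t})),
        Ideal.Quotient.mk_singleton_self]
    rw [this, Matrix.det_one]
  rw [show (1 + t • C).det = t * c + 1 by rw [← hc, sub_add_cancel]]
  exact Ideal.mem_jacobson_bot.mp ht c

/-- Close idempotents are equivalent. -/
theorem sim_of_isUnit {R : Type*} [CommRing R] {m : Type*} [Fintype m] [DecidableEq m]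
    {e e' : Matrix m m R} (he : e * e = e) (he' : e' * e' = e')
    (hu : IsUnit (e * e' + (1 - e) * (1 - e'))) : Sim e e' := by
  have h1 : e * (e * e' + (1 - e) * (1 - e')) = e * e' := by
    simp only [Matrix.mul_add, Matrix.mul_sub, Matrix.sub_mul, Matrix.mul_one, Matrix.one_mul,
      ← Matrix.mul_assoc, he]
    abel
  have h2 : (e * e' + (1 - e) * (1 - e')) * e' = e * e' := by
    simp only [Matrix.add_mul, Matrix.mul_sub, Matrix.sub_mul, Matrix.mul_one, Matrix.one_mul,
      Matrix.mul_assoc, he']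
    abel
  obtain ⟨⟨u, v, huv, hvu⟩, hu'⟩ := hu
  simp only at hu'
  rw [← hu'] at h1 h2
  refine ⟨e * u, v * e, ?_, ?_⟩
  · rw [Matrix.mul_assoc, ← Matrix.mul_assoc u, huv, Matrix.one_mul, he]
  · rw [Matrix.mul_assoc, ← Matrix.mul_assoc e e, he, h1, ← h2, ← Matrix.mul_assoc, hvu,
      Matrix.one_mul]

section

variable {B B' L L' : Type*} [CommRing B] [CommRing B'] [CommRing L] [CommRing L'] [Algebra L L']
variable {ψ : B →+* B'} {t : B} {ι : B →+* L} {ι' : B' →+* L'}
variable {m n l : Type*} [Fintype m] [Fintype n] [Fintype l]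

/-- `M` is divisible by `t ^ k`. -/
def Small (h : Approx ψ t ι ι') (k : ℤ) (M : Matrix m n L') : Prop :=
  ∃ C : Matrix m n B',
    M = ((((h.unit.map (algebraMap L L')).unit) ^ k : L'ˣ) : L') • C.map ι'

variable (h : Approx ψ t ι ι')

include h

theorem algebraMap_ι (b : B) : algebraMap L L' (ι b) = ι' (ψ b) := RingHom.congr_fun h.comm b

theorem coe_zpow_natCast (k : ℕ) :
    ((((h.unit.map (algebraMap L L')).unit) ^ (k : ℤ) : L'ˣ) : L') = ι' (ψ t ^ k) := by
  rw [zpow_natCast, Units.val_pow_eq_pow_val, IsUnit.unit_spec, algebraMap_ι h, map_pow]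

theorem Small.add {k : ℤ} {M N : Matrix m n L'} (hM : Small h k M) (hN : Small h k N) :
    Small h k (M + N) := by
  obtain ⟨C, rfl⟩ := hM
  obtain ⟨D, rfl⟩ := hN
  exact ⟨C + D, by rw [Matrix.map_add _ (map_add _), smul_add]⟩

theorem Small.neg {k : ℤ} {M : Matrix m n L'} (hM : Small h k M) : Small h k (-M) := by
  obtain ⟨C, rfl⟩ := hM
  refine ⟨-C, ?_⟩
  rw [← smul_neg]
  congr 1
  exact Matrix.ext fun i j => by simp

theorem Small.sub {k : ℤ} {M N : Matrix m n L'} (hM : Small h k M) (hN : Small h k N) :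
    Small h k (M - N) := by
  rw [sub_eq_add_neg]; exact hM.add h (hN.neg h)

theorem Small.mul {k k' : ℤ} {M : Matrix m n L'} {N : Matrix n l L'} (hM : Small h k M)
    (hN : Small h k' N) : Small h (k + k') (M * N) := by
  obtain ⟨C, rfl⟩ := hM
  obtain ⟨D, rfl⟩ := hN
  refine ⟨C * D, ?_⟩
  rw [Matrix.smul_mul, Matrix.mul_smul, smul_smul, Matrix.map_mul, _root_.zpow_add,
    Units.val_mul]

theorem Small.mono {k k' : ℤ} {M : Matrix m n L'} (hM : Small h k M) (hk : k' ≤ k) :
    Small h k' M := by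
  obtain ⟨C, rfl⟩ := hM
  obtain ⟨d, rfl⟩ : ∃ d : ℕ, k = k' + d := ⟨(k - k').toNat, by lia⟩
  refine ⟨(ψ t ^ d) • C, ?_⟩
  rw [map_smul_ringHom, smul_smul, _root_.zpow_add, Units.val_mul, coe_zpow_natCast h d]

theorem Small.exists' (M : Matrix m n L') : ∃ k : ℤ, Small h k M := by
  classical
  choose k b hb using fun x : m × n => h.clear' (M x.1 x.2)
  refine ⟨-((Finset.univ.sup k : ℕ) : ℤ),
    Matrix.of fun i j => ψ t ^ (Finset.univ.sup k - k (i, j)) * b (i, j),
    Matrix.ext fun i j => ?_⟩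
  simp only [Matrix.smul_apply, Matrix.map_apply, Matrix.of_apply, smul_eq_mul, map_mul]
  rw [← hb (i, j)]
  dsimp only
  rw [← map_pow ι', ← coe_zpow_natCast h, ← coe_zpow_natCast h, mul_comm (M i j),
    ← mul_assoc, ← mul_assoc, ← Units.val_mul, ← Units.val_mul, ← _root_.zpow_add,
    ← _root_.zpow_add,
    show -((Finset.univ.sup k : ℕ) : ℤ) + ((Finset.univ.sup k - k (i, j) : ℕ) : ℤ) + (k (i, j) : ℤ)
      = 0 by rw [Nat.cast_sub (Finset.le_sup (Finset.mem_univ (i, j)))]; ring,
    zpow_zero, Units.val_one, one_mul]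

theorem Small.one [DecidableEq m] : Small h 0 (1 : Matrix m m L') :=
  ⟨1, by rw [zpow_zero, Units.val_one, one_smul, Matrix.map_one _ (map_zero _) (map_one _)]⟩

theorem Small.exists_approx (M : Matrix m n L') (k : ℤ) :
    ∃ M₀ : Matrix m n L, Small h k (M - M₀.map (algebraMap L L')) := by
  obtain ⟨j, hj⟩ := Small.exists' h M
  obtain ⟨C, rfl⟩ := hj
  obtain ⟨d, hd⟩ : ∃ d : ℕ, k ≤ j + d := ⟨(k - j).toNat, by lia⟩
  choose b c hc using fun x : m × n => h.dense (C x.1 x.2) d
  refine ⟨((h.unit.unit ^ j : Lˣ) : L) • (Matrix.of fun i j => ι (b (i, j))),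
    Small.mono h (k := j + d) ⟨Matrix.of fun i j => c (i, j), ?_⟩ hd⟩
  refine Matrix.ext fun i i' => ?_
  have hu : algebraMap L L' ((h.unit.unit ^ j : Lˣ) : L) =
      ((((h.unit.map (algebraMap L L')).unit) ^ j : L'ˣ) : L') := by
    have : Units.map (algebraMap L L').toMonoidHom h.unit.unit =
        (h.unit.map (algebraMap L L')).unit := Units.ext (by simp)
    rw [← this, ← map_zpow]
    rfl
  simp only [Matrix.sub_apply, Matrix.smul_apply, Matrix.map_apply, Matrix.of_apply, smul_eq_mul,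
    map_mul, hu, algebraMap_ι h]
  rw [← mul_sub, ← map_sub, hc (i, i'), map_mul, ← mul_assoc, _root_.zpow_add, Units.val_mul,
    ← coe_zpow_natCast h d]
  convert rfl using 3
  simp [Units.val_pow_eq_pow_val, algebraMap_ι h]

theorem exists_of_small {k : ℕ} {M : Matrix m n L}
    (hM : Small h k (M.map (algebraMap L L'))) : ∃ C : Matrix m n B, M = ι t ^ k • C.map ι := by
  obtain ⟨D, hD⟩ := hM
  have key : ∀ i j, ∃ c : B, M i j = ι t ^ k * ι c := by
    intro i j
    obtain ⟨a, b, hab⟩ := h.clear (M i j)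
    have h1 : ι' (ψ b) = ι' (ψ t ^ (k + a) * D i j) := by
      have := congrFun (congrFun hD i) j
      simp only [Matrix.map_apply, Matrix.smul_apply, smul_eq_mul, coe_zpow_natCast h] at this
      rw [← algebraMap_ι h, ← hab, map_mul, this, map_pow (algebraMap L L'), algebraMap_ι h,
        map_mul, map_pow, map_pow, pow_add]
      ring
    obtain ⟨e, he⟩ := h.ker' (ψ b - ψ t ^ (k + a) * D i j) (by rw [map_sub, h1, sub_self])
    obtain ⟨c, hc⟩ := h.dvd (t ^ e * b) (e + (k + a)) ⟨D i j, by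
      rw [map_mul, map_pow, pow_add, mul_assoc]
      rw [mul_sub, sub_eq_zero] at he
      exact he⟩
    refine ⟨c, (h.unit.pow (e + a)).mul_left_cancel ?_⟩
    have := congrArg ι hc
    simp only [map_mul, map_pow] at this
    rw [← hab] at this
    linear_combination this
  choose c hc using key
  exact ⟨Matrix.of c, Matrix.ext fun i j => hc i j⟩

theorem isUnit_of_small [DecidableEq m] {M : Matrix m m L}
    (hM : Small h 1 ((M - 1).map (algebraMap L L'))) : IsUnit M := by
  obtain ⟨C, hC⟩ := exists_of_small h (k := 1) (by simpa using hM)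
  have : M = ι.mapMatrix (1 + t • C) := by
    rw [sub_eq_iff_eq_add'] at hC
    rw [hC, map_add, map_one, RingHom.mapMatrix_apply, map_smul_ringHom, pow_one]
  rw [this]
  exact (isUnit_one_add_smul h.jac C).map ι.mapMatrix

theorem isUnit_of_small' [DecidableEq m] {M : Matrix m m L'} (hM : Small h 1 (M - 1)) :
    IsUnit M := by
  obtain ⟨C, hC⟩ := hM
  rw [show ((1 : ℤ)) = ((1 : ℕ) : ℤ) from rfl, coe_zpow_natCast h, pow_one,
    sub_eq_iff_eq_add'] at hC
  have : M = ι'.mapMatrix (1 + ψ t • C) := by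
    rw [hC, map_add, map_one, RingHom.mapMatrix_apply, map_smul_ringHom]
  rw [this]
  exact (isUnit_one_add_smul h.jac' C).map ι'.mapMatrix

theorem sim_of_small [DecidableEq m] {e e' : Matrix m m L'} (he : e * e = e) (he' : e' * e' = e')
    {k : ℤ} (hk : k ≤ 0) (hek : Small h k e) (hee' : Small h (1 - k) (e' - e)) : Sim e e' := by
  refine sim_of_isUnit he he' (isUnit_of_small' h ?_)
  have : e * e' + (1 - e) * (1 - e') - 1 = (e + e - 1) * (e' - e) := by
    simp only [Matrix.mul_sub, Matrix.sub_mul, Matrix.add_mul, Matrix.mul_one, Matrix.one_mul, he]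
    abel
  rw [this]
  exact ((hek.add h hek).sub h ((Small.one h).mono h hk)).mul h hee' |>.mono h (by lia)

/-- Injectivity on idempotents. -/
theorem sim_of_sim_map {e : Matrix m m L} {e' : Matrix n n L} (he : e * e = e) (he' : e' * e' = e')
    (hs : Sim (e.map (algebraMap L L')) (e'.map (algebraMap L L'))) : Sim e e' := by
  classical
  set φ := algebraMap L L'
  obtain ⟨x₀, y₀, hxy, hyx⟩ := hs
  have hE := map_idem he φ
  have hE' := map_idem he' φ
  set x := e.map φ * x₀ * e'.map φ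
  set y := e'.map φ * y₀ * e.map φ
  have hxy' : x * y = e.map φ := by
    calc x * y = e.map φ * (x₀ * ((e'.map φ * e'.map φ) * y₀)) * e.map φ := by
          simp only [x, y, Matrix.mul_assoc]
      _ = e.map φ * ((x₀ * y₀) * (x₀ * y₀)) * e.map φ := by
          rw [hE', ← hyx]; simp only [Matrix.mul_assoc]
      _ = _ := by rw [hxy, hE, hE, hE]
  have hyx' : y * x = e'.map φ := by
    calc y * x = e'.map φ * (y₀ * ((e.map φ * e.map φ) * x₀)) * e'.map φ := by
          simp only [x, y, Matrix.mul_assoc]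
      _ = e'.map φ * ((y₀ * x₀) * (y₀ * x₀)) * e'.map φ := by
          rw [hE, ← hxy]; simp only [Matrix.mul_assoc]
      _ = _ := by rw [hyx, hE', hE', hE']
  obtain ⟨k₁, hk₁⟩ := Small.exists' h x
  obtain ⟨k₂, hk₂⟩ := Small.exists' h y
  obtain ⟨k₃, hk₃⟩ := Small.exists' h (e.map φ)
  obtain ⟨k₄, hk₄⟩ := Small.exists' h (e'.map φ)
  obtain ⟨k, hk⟩ : ∃ k : ℤ, k ≤ k₁ ∧ k ≤ k₂ ∧ k ≤ k₃ ∧ k ≤ k₄ ∧ k ≤ 0 :=
    ⟨min k₁ (min k₂ (min k₃ (min k₄ 0))), by lia⟩
  have hx := hk₁.mono h hk.1
  have hy := hk₂.mono h hk.2.1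
  have he3 := hk₃.mono h hk.2.2.1
  have he4 := hk₄.mono h hk.2.2.2.1
  obtain ⟨a, ha⟩ := Small.exists_approx h x (1 - 3 * k)
  obtain ⟨b, hb⟩ := Small.exists_approx h y (1 - 3 * k)
  set x₁ := e * a * e'
  set y₁ := e' * b * e
  have hx₁ : Small h (1 - k) (x - x₁.map φ) := by
    have : x - x₁.map φ = e.map φ * (x - a.map φ) * e'.map φ := by
      simp only [x₁, Matrix.map_mul, Matrix.mul_sub, Matrix.sub_mul]
      congr 1
      simp only [x, Matrix.mul_assoc]
      rw [← Matrix.mul_assoc (e.map φ) (e.map φ), hE, hE']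
    rw [this]
    exact ((he3.mul h ha).mul h he4).mono h (by lia)
  have hy₁ : Small h (1 - k) (y - y₁.map φ) := by
    have : y - y₁.map φ = e'.map φ * (y - b.map φ) * e.map φ := by
      simp only [y₁, Matrix.map_mul, Matrix.mul_sub, Matrix.sub_mul]
      congr 1
      simp only [y, Matrix.mul_assoc]
      rw [← Matrix.mul_assoc (e'.map φ) (e'.map φ), hE', hE]
    rw [this]
    exact ((he4.mul h hb).mul h he3).mono h (by lia)
  have hy₁' : Small h k (y₁.map φ) := by
    have := hy.sub h (hy₁.mono h (show k ≤ 1 - k by lia))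
    rwa [sub_sub_cancel] at this
  have hx₁' : Small h k (x₁.map φ) := by
    have := hx.sub h (hx₁.mono h (show k ≤ 1 - k by lia))
    rwa [sub_sub_cancel] at this
  have hu : IsUnit (1 + (x₁ * y₁ - e)) := by
    refine isUnit_of_small h ?_
    rw [add_sub_cancel_left, Matrix.map_sub _ (map_sub _), Matrix.map_mul, ← hxy',
      show x₁.map φ * y₁.map φ - x * y = -((x - x₁.map φ) * y₁.map φ + x * (y - y₁.map φ)) by
        simp only [Matrix.sub_mul, Matrix.mul_sub]; abel]
    exact (((hx₁.mul h hy₁').mono h (by lia)).add h ((hx.mul h hy₁).mono h (by lia))).neg h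
  have hv : IsUnit (1 + (y₁ * x₁ - e')) := by
    refine isUnit_of_small h ?_
    rw [add_sub_cancel_left, Matrix.map_sub _ (map_sub _), Matrix.map_mul, ← hyx',
      show y₁.map φ * x₁.map φ - y * x = -((y - y₁.map φ) * x₁.map φ + y * (x - x₁.map φ)) by
        simp only [Matrix.sub_mul, Matrix.mul_sub]; abel]
    exact (((hy₁.mul h hx₁').mono h (by lia)).add h ((hy.mul h hx₁).mono h (by lia))).neg h
  have r1 : e * x₁ = x₁ := by simp only [x₁, ← Matrix.mul_assoc, he]
  have r2 : x₁ * e' = x₁ := by simp only [x₁, Matrix.mul_assoc, he']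
  have r3 : e' * y₁ = y₁ := by simp only [y₁, ← Matrix.mul_assoc, he']
  have r4 : y₁ * e = y₁ := by simp only [y₁, Matrix.mul_assoc, he]
  obtain ⟨u', hu'⟩ := hu.exists_right_inv
  obtain ⟨v', hv'⟩ := hv.exists_left_inv
  have hu1 : e * (1 + (x₁ * y₁ - e)) = x₁ * y₁ := by
    rw [Matrix.mul_add, Matrix.mul_one, Matrix.mul_sub, ← Matrix.mul_assoc, r1, he, add_sub_cancel]
  have hv1 : (1 + (y₁ * x₁ - e')) * e' = y₁ * x₁ := by
    rw [Matrix.add_mul, Matrix.one_mul, Matrix.sub_mul, Matrix.mul_assoc, r2, he', add_sub_cancel]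
  have A1 : x₁ * y₁ * u' = e := by rw [← hu1, Matrix.mul_assoc, hu', Matrix.mul_one]
  have A2 : v' * (y₁ * x₁) = e' := by rw [← hv1, ← Matrix.mul_assoc, hv', Matrix.one_mul]
  refine ⟨x₁, y₁ * (u' * e), ?_, ?_⟩
  · rw [← Matrix.mul_assoc, ← Matrix.mul_assoc, A1, he]
  · have : y₁ * (u' * e) = v' * y₁ * e := by
      calc y₁ * (u' * e) = e' * y₁ * (u' * e) := by rw [r3]
        _ = v' * y₁ * (x₁ * y₁ * u') * e := by rw [← A2]; simp only [Matrix.mul_assoc]
        _ = _ := by rw [A1, Matrix.mul_assoc _ e, he]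
    rw [this, Matrix.mul_assoc v' y₁ e, r4, Matrix.mul_assoc, A2]

/-- A split surjection over `L'` is approximated by one over `L`. -/
theorem exists_split_approx [DecidableEq m] [DecidableEq n] {P : Matrix m n L'}
    {Q : Matrix n m L'} (hPQ : P * Q = 1) :
    ∃ (P₀ : Matrix m n L) (Q₀ : Matrix n m L), P₀ * Q₀ = 1 ∧
      Sim ((1 - Q₀ * P₀).map (algebraMap L L')) (1 - Q * P) := by
  set φ := algebraMap L L'
  obtain ⟨k₁, hk₁⟩ := Small.exists' h P
  obtain ⟨k₂, hk₂⟩ := Small.exists' h Q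
  obtain ⟨k, hk⟩ : ∃ k : ℤ, k ≤ k₁ ∧ k ≤ k₂ ∧ k ≤ 0 := ⟨min k₁ (min k₂ 0), by lia⟩
  have hP := hk₁.mono h hk.1
  have hQ := hk₂.mono h hk.2.1
  obtain ⟨a, ha⟩ := Small.exists_approx h P (1 - 8 * k)
  obtain ⟨b, hb⟩ := Small.exists_approx h Q (1 - 8 * k)
  have hb' : Small h k (b.map φ) := by
    have := hQ.sub h (hb.mono h (show k ≤ 1 - 8 * k by lia))
    rwa [sub_sub_cancel] at this
  have ha' : Small h k (a.map φ) := by
    have := hP.sub h (ha.mono h (show k ≤ 1 - 8 * k by lia))
    rwa [sub_sub_cancel] at this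
  have hd : Small h (1 - 7 * k) ((a * b - 1).map φ) := by
    rw [Matrix.map_sub _ (map_sub _), Matrix.map_mul, Matrix.map_one _ (map_zero _) (map_one _),
      ← hPQ, show a.map φ * b.map φ - P * Q = -((P - a.map φ) * b.map φ + P * (Q - b.map φ)) by
        simp only [Matrix.sub_mul, Matrix.mul_sub]; abel]
    exact (((ha.mul h hb').mono h (by lia)).add h ((hP.mul h hb).mono h (by lia))).neg h
  obtain ⟨⟨w, w', hww', hw'w⟩, hw⟩ := isUnit_of_small h (hd.mono h (show (1:ℤ) ≤ 1 - 7 * k by lia))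
  simp only at hw
  subst hw
  have hw'1 : Small h 0 (w'.map φ) := by
    obtain ⟨C, hC⟩ := exists_of_small h (k := 1) (by
      simpa using hd.mono h (show (1:ℤ) ≤ 1 - 7 * k by lia))
    obtain ⟨⟨z, z', hzz', hz'z⟩, hz⟩ := isUnit_one_add_smul h.jac C
    simp only at hz
    have : w' = z'.map ι := by
      rw [pow_one, ← map_smul_ringHom, sub_eq_iff_eq_add'] at hC
      have e : w' * (a * b) = 1 := hw'w
      calc w' = w' * (((1 + t • C) * z').map ι) := by
            rw [← hz, hzz', Matrix.map_one _ (map_zero _) (map_one _), Matrix.mul_one]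
        _ = _ := by
            rw [Matrix.map_mul, Matrix.map_add _ (map_add _),
              Matrix.map_one _ (map_zero _) (map_one _), ← hC, ← Matrix.mul_assoc, e,
              Matrix.one_mul]
    refine ⟨z'.map ψ, ?_⟩
    rw [this, zpow_zero, Units.val_one, one_smul, Matrix.map_map, Matrix.map_map]
    exact Matrix.ext fun i j => algebraMap_ι h (z' i j)
  refine ⟨a, b * w', by rw [← Matrix.mul_assoc, hww'], ?_⟩
  set E₀ := (1 - b * w' * a).map φ with hE₀
  have hE₀i : E₀ * E₀ = E₀ := map_idem (by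
    simp only [Matrix.mul_sub, Matrix.sub_mul, Matrix.mul_one, Matrix.one_mul]
    rw [show b * w' * a * (b * w' * a) = b * w' * (a * b * w') * a by simp only [Matrix.mul_assoc],
      hww', Matrix.mul_one, sub_self, sub_zero]) _
  have hE' : (1 - Q * P) * (1 - Q * P) = 1 - Q * P := by
    simp only [Matrix.mul_sub, Matrix.sub_mul, Matrix.mul_one, Matrix.one_mul]
    rw [show Q * P * (Q * P) = Q * (P * Q) * P by simp only [Matrix.mul_assoc],
      hPQ, Matrix.mul_one, sub_self, sub_zero]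
  have hE₀k : Small h (2 * k) E₀ := by
    rw [hE₀, Matrix.map_sub _ (map_sub _), Matrix.map_one _ (map_zero _) (map_one _),
      Matrix.map_mul, Matrix.map_mul]
    exact ((Small.one h).mono h (by lia)).sub h (((hb'.mul h hw'1).mul h ha').mono h (by lia))
  have hwd : Small h (1 - 7 * k) (w'.map φ - 1) := by
    have : w'.map φ - 1 = -((w'.map φ) * (a * b - 1).map φ) := by
      rw [← Matrix.map_mul, Matrix.mul_sub, Matrix.mul_one,
        show w' * (a * b) = 1 from hw'w, Matrix.map_sub _ (map_sub _),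
        Matrix.map_one _ (map_zero _) (map_one _), neg_sub]
    rw [this]
    exact ((hw'1.mul h hd).mono h (by lia)).neg h
  refine sim_of_small h hE₀i hE' (k := 2 * k) (by lia) hE₀k ?_
  have : 1 - Q * P - E₀ = b.map φ * (w'.map φ - 1) * a.map φ -
      ((Q - b.map φ) * P + b.map φ * (P - a.map φ)) := by
    rw [hE₀, Matrix.map_sub _ (map_sub _), Matrix.map_one _ (map_zero _) (map_one _),
      Matrix.map_mul, Matrix.map_mul]
    simp only [Matrix.mul_sub, Matrix.sub_mul, Matrix.mul_one]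
    abel
  rw [this]
  exact (((hb'.mul h hwd).mul h ha').mono h (by lia)).sub h
    (((hb.mul h hP).mono h (by lia)).add h ((hb'.mul h ha).mono h (by lia)))

end

section Modules

variable {B B' L L' : Type u} [CommRing B] [CommRing B'] [CommRing L] [CommRing L'] [Algebra L L']
variable {ψ : B →+* B'} {t : B} {ι : B →+* L} {ι' : B' →+* L'}

/-- Surjectivity on idempotents, henselian case. -/
theorem exists_idem (h : Approx ψ t ι ι') {m : Type} [Fintype m] [DecidableEq m]
    [HenselianRing B (Ideal.span {t})] {e' : Matrix m m L'}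
    (he' : e' * e' = e') :
    ∃ e : Matrix m m L, e * e = e ∧ Sim (e.map (algebraMap L L')) e' := by
  set φ := algebraMap L L'
  obtain ⟨k₁, hk₁⟩ := Small.exists' h e'
  obtain ⟨k, hk⟩ : ∃ k : ℤ, k ≤ k₁ ∧ k ≤ 0 := ⟨min k₁ 0, by lia⟩
  have hE' := hk₁.mono h hk.1
  obtain ⟨a, ha⟩ := Small.exists_approx h e' (1 - 4 * k)
  have ha' : Small h k (a.map φ) := by
    have := hE'.sub h (ha.mono h (show k ≤ 1 - 4 * k by lia))
    rwa [sub_sub_cancel] at this
  obtain ⟨N, hN⟩ : ∃ N : ℕ, (N : ℤ) = 1 - 3 * k := ⟨(1 - 3 * k).toNat, by lia⟩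
  have hε : Small h N ((a * a - a).map φ) := by
    rw [Matrix.map_sub _ (map_sub _), Matrix.map_mul,
      show a.map φ * a.map φ - a.map φ =
        (e' - a.map φ) - ((e' - a.map φ) * a.map φ + e' * (e' - a.map φ)) by
        simp only [Matrix.sub_mul, Matrix.mul_sub, he']; abel, hN]
    exact (ha.mono h (by lia)).sub h
      (((ha.mul h ha').mono h (by lia)).add h ((hE'.mul h ha).mono h (by lia)))
  obtain ⟨η, hη⟩ := exists_of_small h hε
  set S := Algebra.adjoin B ({η} : Set (Matrix m m B))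
  let _ : CommRing S :=
    { (inferInstance : Ring S) with
      mul_comm := (Algebra.adjoinCommRingOfComm B (by simp)).mul_comm }
  have : Algebra.IsIntegral B S := ⟨fun x => by
    have := Matrix.isIntegral (x : Matrix m m B)
    exact (isIntegral_algHom_iff S.val Subtype.val_injective).mp this⟩
  have hH : HenselianRing S ((Ideal.span {t}).map (algebraMap B S)) :=
    Groth.Agent.HenselLib.henselianRing_of_isIntegral _ S
  set J := (Ideal.span {t}).map (algebraMap B S)
  let ε : S := algebraMap B S (t ^ N) * ⟨η, Algebra.self_mem_adjoin_singleton B η⟩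
  have hN0 : 0 < N := by lia
  have hεJ : ε ∈ J := Ideal.mul_mem_right _ _ (Ideal.mem_map_of_mem _
    (Ideal.pow_mem_of_mem _ (Ideal.mem_span_singleton_self t) N hN0))
  obtain ⟨c, hc⟩ := (Ideal.mem_jacobson_bot.mp (hH.jac hεJ) 4).exists_left_inv
  let f : Polynomial S := Polynomial.X ^ 2 - Polynomial.X + Polynomial.C (c * ε)
  have hf : f.Monic := by
    have : f = Polynomial.X ^ 2 + (-Polynomial.X + Polynomial.C (c * ε)) := by simp [f]; ring
    rw [this]
    refine Polynomial.monic_X_pow_add (lt_of_le_of_lt (Polynomial.degree_add_le _ _) ?_)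
    rw [Polynomial.degree_neg]
    exact max_lt (lt_of_le_of_lt Polynomial.degree_X_le (by norm_num))
      (lt_of_le_of_lt Polynomial.degree_C_le (by norm_num))
  obtain ⟨w, hw, hwJ⟩ := hH.is_henselian f hf 0 (by simpa [f] using Ideal.mul_mem_left J c hεJ)
    (by
      have : f.derivative.eval 0 = -1 := by simp [f, Polynomial.derivative_X_pow]
      rw [this, map_neg, map_one]
      exact ⟨-1, by simp⟩)
  rw [sub_zero] at hwJ
  have hweq : w * (w - 1) = -(c * ε) := by
    simp [f] at hw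
    linear_combination hw
  obtain ⟨d, hd⟩ := (Ideal.mem_jacobson_bot.mp (hH.jac hwJ) (-1)).exists_left_inv
  have hwN : w = algebraMap B S (t ^ N) * (d * c * ⟨η, Algebra.self_mem_adjoin_singleton B η⟩) := by
    linear_combination (norm := (simp only [ε]; ring)) -w * hd - d * hweq
  let g : S →+* Matrix m m L := ι.mapMatrix.comp S.val.toRingHom
  have hcomm : ∀ s : S, g s * a = a * g s := by
    have hηa : ι.mapMatrix η * a = a * ι.mapMatrix η := by
      have h1 : (a * a - a) * a = a * (a * a - a) := by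
        simp only [Matrix.sub_mul, Matrix.mul_sub, Matrix.mul_assoc]
      rw [hη, Matrix.smul_mul, Matrix.mul_smul] at h1
      exact (h.unit.pow N).smul_left_cancel.mp h1
    rintro ⟨s, hs⟩
    show ι.mapMatrix s * a = a * ι.mapMatrix s
    induction hs using Algebra.adjoin_induction with
    | mem x hx => rw [Set.mem_singleton_iff.mp hx]; exact hηa
    | algebraMap r =>
      have e : ι.mapMatrix (algebraMap B (Matrix m m B) r) = ι r • 1 := by
        refine Matrix.ext fun i j => ?_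
        simp [Matrix.algebraMap_matrix_apply, Matrix.one_apply, apply_ite ι]
      rw [e, Matrix.smul_mul, Matrix.mul_smul, Matrix.one_mul, Matrix.mul_one]
    | add x y _ _ hx hy => rw [map_add, Matrix.add_mul, Matrix.mul_add, hx, hy]
    | mul x y _ _ hx hy =>
      rw [map_mul, Matrix.mul_assoc, hy, ← Matrix.mul_assoc, hx, Matrix.mul_assoc]
  have hgε : g ε = a * a - a := by
    rw [hη, map_mul]
    show ι.mapMatrix (algebraMap B (Matrix m m B) (t ^ N)) * ι.mapMatrix η = _
    rw [← map_mul, ← Algebra.smul_def, RingHom.mapMatrix_apply, map_smul_ringHom, map_pow]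
  set W := g w
  have hidem : (a + (1 - (a + a)) * W) * (a + (1 - (a + a)) * W) = a + (1 - (a + a)) * W := by
    have h4 : g (1 + 4 * ε) =
        1 + ((a * a - a) + (a * a - a) + (a * a - a) + (a * a - a)) := by
      rw [show (1 + 4 * ε : S) = 1 + (ε + ε + ε + ε) by ring]
      simp only [map_add, map_one, hgε]
    have e1 : g ε + g (1 + 4 * ε) * (W * W - W) = 0 := by
      rw [← map_mul g w w, ← map_sub, ← map_mul, ← map_add, ← map_zero g]
      congr 1
      linear_combination (1 + 4 * ε) * hweq - ε * hc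
    rw [hgε, h4] at e1
    rw [← sub_eq_zero, ← e1]
    have hWa : W * a = a * W := hcomm w
    have hWa' : ∀ M : Matrix m m L, W * (a * M) = a * (W * M) := fun M => by
      rw [← Matrix.mul_assoc, hWa, Matrix.mul_assoc]
    simp only [Matrix.mul_add, Matrix.add_mul, Matrix.mul_sub, Matrix.sub_mul, Matrix.one_mul,
      Matrix.mul_one, Matrix.mul_assoc, hWa, hWa']
    abel
  refine ⟨a + (1 - (a + a)) * W, hidem, ?_⟩
  · set e₀ := (a + (1 - (a + a)) * W).map φ
    have hW : Small h N (W.map φ) := by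
      have : W = ι t ^ N • g (d * c * ⟨η, Algebra.self_mem_adjoin_singleton B η⟩) := by
        show g w = _
        rw [hwN, map_mul]
        show ι.mapMatrix (algebraMap B (Matrix m m B) (t ^ N)) * ι.mapMatrix _ = _
        rw [← map_mul, ← Algebra.smul_def, RingHom.mapMatrix_apply, map_smul_ringHom, map_pow]
        rfl
      rw [this, map_smul_ringHom, map_pow, algebraMap_ι h, ← map_pow, ← coe_zpow_natCast h]
      exact ⟨(d * c * ⟨η, Algebra.self_mem_adjoin_singleton B η⟩ : S).1.map ψ, by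
        congr 1
        exact Matrix.ext fun i j => algebraMap_ι h _⟩
    have hsm : Small h (1 - 2 * k) (e' - e₀) := by
      have : e' - e₀ = (e' - a.map φ) - (W.map φ - (a.map φ + a.map φ) * W.map φ) := by
        simp only [e₀, Matrix.map_add _ (map_add φ), Matrix.map_mul, Matrix.map_sub _ (map_sub φ),
          Matrix.map_one _ (map_zero φ) (map_one φ), Matrix.sub_mul, Matrix.one_mul]
        abel
      rw [this]
      exact (ha.mono h (by lia)).sub h
        ((hW.mono h (by lia)).sub h (((ha'.add h ha').mul h hW).mono h (by lia)))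
    refine sim_of_small h (map_idem hidem φ) he' (k := k) hk.2 ?_ (hsm.mono h (by lia))
    have := hE'.sub h (hsm.mono h (show k ≤ 1 - 2 * k by lia))
    rwa [sub_sub_cancel] at this

theorem nonempty_linearEquiv (h : Approx ψ t ι ι') (M N : Type u) [AddCommGroup M] [Module L M]
    [Module.Finite L M] [Module.Projective L M] [AddCommGroup N] [Module L N] [Module.Finite L N]
    [Module.Projective L N] (e : L' ⊗[L] M ≃ₗ[L'] L' ⊗[L] N) : Nonempty (M ≃ₗ[L] N) := by
  classical
  obtain ⟨k, i, p, hpi⟩ := exists_retract L M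
  obtain ⟨l, i', p', hpi'⟩ := exists_retract L N
  obtain ⟨iS, pS, hS, hSE⟩ := Horrocks.exists_retract_baseChange (S := L') i p hpi
  obtain ⟨iS', pS', hS', hSE'⟩ := Horrocks.exists_retract_baseChange (S := L') i' p' hpi'
  have := sim_of_linearEquiv iS pS hS iS' pS' hS' e
  rw [hSE, hSE'] at this
  exact nonempty_linearEquiv_of_sim i p hpi i' p' hpi'
    (sim_of_sim_map h (retract_idem i p hpi) (retract_idem i' p' hpi') this)

theorem exists_stablyFree (h : Approx ψ t ι ι') (M' : Type u) [AddCommGroup M'] [Module L' M']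
    (n m : ℕ) (θ : (M' × (Fin n → L')) ≃ₗ[L'] (Fin m → L')) :
    ∃ (M : Type u) (_ : AddCommGroup M) (_ : Module L M), Module.Finite L M ∧
      (∃ n m : ℕ, Nonempty ((M × (Fin n → L)) ≃ₗ[L] (Fin m → L))) ∧
      Nonempty (L' ⊗[L] M ≃ₗ[L'] M') := by
  classical
  let i' : M' →ₗ[L'] Fin m → L' := θ.toLinearMap ∘ₗ LinearMap.inl L' M' _
  let p' : (Fin m → L') →ₗ[L'] M' := LinearMap.fst L' M' _ ∘ₗ θ.symm.toLinearMap
  let Pl : (Fin m → L') →ₗ[L'] (Fin n → L') := LinearMap.snd L' M' _ ∘ₗ θ.symm.toLinearMap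
  let Ql : (Fin n → L') →ₗ[L'] (Fin m → L') := θ.toLinearMap ∘ₗ LinearMap.inr L' M' _
  have hpi' : p' ∘ₗ i' = .id := LinearMap.ext fun v => by simp [p', i']
  have hPQ : LinearMap.toMatrix' Pl * LinearMap.toMatrix' Ql = 1 := by
    rw [← LinearMap.toMatrix'_comp, ← LinearMap.toMatrix'_id]
    congr 1
    exact LinearMap.ext fun v => by simp [Pl, Ql]
  have he' : LinearMap.toMatrix' (i' ∘ₗ p') =
      1 - LinearMap.toMatrix' Ql * LinearMap.toMatrix' Pl := by
    rw [← LinearMap.toMatrix'_comp, ← LinearMap.toMatrix'_id, ← map_sub]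
    congr 1
    refine LinearMap.ext fun v => θ.symm.injective ?_
    simp [i', p', Pl, Ql, Prod.ext_iff]
  obtain ⟨P₀, Q₀, hPQ₀, hsim⟩ := exists_split_approx h hPQ
  set e₀ := 1 - Q₀ * P₀ with he₀
  have he₀i : e₀ * e₀ = e₀ := by
    simp only [he₀, Matrix.mul_sub, Matrix.sub_mul, Matrix.mul_one, Matrix.one_mul]
    rw [show Q₀ * P₀ * (Q₀ * P₀) = Q₀ * (P₀ * Q₀) * P₀ by simp only [Matrix.mul_assoc],
      hPQ₀, Matrix.mul_one, sub_self, sub_zero]
  let f₀ := Matrix.toLin' e₀
  let M := LinearMap.range f₀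
  have hp : f₀.rangeRestrict ∘ₗ M.subtype = .id := by
    refine LinearMap.ext ?_
    rintro ⟨_, z, rfl⟩
    refine Subtype.ext ?_
    show f₀ (f₀ z) = f₀ z
    rw [← LinearMap.comp_apply, ← Matrix.toLin'_mul, he₀i]
  have hker : ∀ z : M, Matrix.toLin' P₀ (z : Fin m → L) = 0 := by
    rintro ⟨_, z, rfl⟩
    show Matrix.toLin' P₀ (f₀ z) = 0
    rw [← LinearMap.comp_apply, ← Matrix.toLin'_mul, he₀, Matrix.mul_sub, Matrix.mul_one,
      ← Matrix.mul_assoc, hPQ₀, Matrix.one_mul, sub_self, map_zero, LinearMap.zero_apply]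
  have hzero : ∀ b, f₀ (Matrix.toLin' Q₀ b) = 0 := by
    intro b
    rw [← LinearMap.comp_apply, ← Matrix.toLin'_mul, he₀, Matrix.sub_mul, Matrix.one_mul,
      Matrix.mul_assoc, hPQ₀, Matrix.mul_one, sub_self, map_zero, LinearMap.zero_apply]
  have hPQv : ∀ b, Matrix.toLin' P₀ (Matrix.toLin' Q₀ b) = b := fun b => by
    rw [← LinearMap.comp_apply, ← Matrix.toLin'_mul, hPQ₀, Matrix.toLin'_one, LinearMap.id_apply]
  refine ⟨M, inferInstance, inferInstance, inferInstance, ⟨n, m, ⟨LinearEquiv.ofLinearMap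
    (M.subtype.coprod (Matrix.toLin' Q₀)) (f₀.rangeRestrict.prod (Matrix.toLin' P₀)) ?_ ?_⟩⟩, ?_⟩
  · refine LinearMap.ext fun v => ?_
    show f₀ v + Matrix.toLin' Q₀ (Matrix.toLin' P₀ v) = v
    rw [← LinearMap.comp_apply (Matrix.toLin' Q₀), ← Matrix.toLin'_mul, ← LinearMap.add_apply,
      ← map_add, he₀, sub_add_cancel, Matrix.toLin'_one, LinearMap.id_apply]
  · refine LinearMap.ext fun ⟨z, b⟩ => Prod.ext (Subtype.ext ?_) ?_
    · show f₀ ((z : Fin m → L) + Matrix.toLin' Q₀ b) = z
      rw [map_add, hzero, add_zero]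
      exact congrArg Subtype.val (LinearMap.congr_fun hp z)
    · show Matrix.toLin' P₀ ((z : Fin m → L) + Matrix.toLin' Q₀ b) = b
      rw [map_add, hker, hPQv, zero_add]
  · obtain ⟨iS, pS, hS, hSE⟩ := Horrocks.exists_retract_baseChange (S := L') M.subtype _ hp
    refine nonempty_linearEquiv_of_sim iS pS hS i' p' hpi' ?_
    rw [hSE, show M.subtype ∘ₗ f₀.rangeRestrict = f₀ from LinearMap.ext fun _ => rfl,
      LinearMap.toMatrix'_toLin', he']
    exact hsim

theorem exists_finiteProjective (h : Approx ψ t ι ι') [HenselianRing B (Ideal.span {t})]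
    (M' : Type u) [AddCommGroup M'] [Module L' M'] [Module.Finite L' M'] [Module.Projective L' M'] :
    ∃ (M : Type u) (_ : AddCommGroup M) (_ : Module L M), Module.Finite L M ∧
      Module.Projective L M ∧ Nonempty (L' ⊗[L] M ≃ₗ[L'] M') := by
  classical
  obtain ⟨k, i', p', hpi'⟩ := exists_retract L' M'
  obtain ⟨e₀, he₀i, hsim⟩ := exists_idem h (retract_idem i' p' hpi')
  let f₀ := Matrix.toLin' e₀
  let M := LinearMap.range f₀
  have hp : f₀.rangeRestrict ∘ₗ M.subtype = .id := by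
    refine LinearMap.ext ?_
    rintro ⟨_, z, rfl⟩
    refine Subtype.ext ?_
    show f₀ (f₀ z) = f₀ z
    rw [← LinearMap.comp_apply, ← Matrix.toLin'_mul, he₀i]
  refine ⟨M, inferInstance, inferInstance, inferInstance,
    Module.Projective.of_split _ _ hp, ?_⟩
  obtain ⟨iS, pS, hS, hSE⟩ := Horrocks.exists_retract_baseChange (S := L') M.subtype _ hp
  refine nonempty_linearEquiv_of_sim iS pS hS i' p' hpi' ?_
  rw [hSE, show M.subtype ∘ₗ f₀.rangeRestrict = f₀ from LinearMap.ext fun _ => rfl,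
    LinearMap.toMatrix'_toLin']
  exact hsim

end Modules

end Groth.Agent.CommAlg4.ApproxIdem
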