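import Mathlib

/-!
The combinatorics of Ax's theorem on the number of zeros of a form over a finite field:
a lower bound for the `p`-adic valuation of a multinomial coefficient whose weighted sums
are divisible by `p ^ f - 1`.
-/

namespace Groth.Agent.CommAlg4

open Finset

/-- The cyclic shift by `i` of a list of base-`p` digits, folded modulo `f`. -/
def cycDigits (p f : ℕ) : List ℕ → ℕ → ℕ
  | [], _ => 0
  | a :: l, i => a * p ^ (i % f) + cycDigits p f l (i + 1)

theorem cast_pow_mod_eq (p f : ℕ) (hp : 1 ≤ p) (i : ℕ) :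
    ((p : ZMod (p ^ f - 1)) ^ (i % f)) = (p : ZMod (p ^ f - 1)) ^ i := by
  have h1 : (p : ZMod (p ^ f - 1)) ^ f = 1 := by
    have h : ((p ^ f - 1 : ℕ) : ZMod (p ^ f - 1)) = 0 := ZMod.natCast_self _
    rw [Nat.cast_sub (Nat.one_le_pow _ _ hp), sub_eq_zero] at h
    exact_mod_cast h
  conv_rhs => rw [← Nat.mod_add_div i f, pow_add, pow_mul, h1, one_pow, mul_one]

theorem cast_cycDigits (p f : ℕ) (hp : 1 ≤ p) : ∀ (l : List ℕ) (i : ℕ),
    ((cycDigits p f l i : ℕ) : ZMod (p ^ f - 1)) =
      (p : ZMod (p ^ f - 1)) ^ i * (Nat.ofDigits p l : ℕ) := by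
  intro l
  induction l with
  | nil => intro i; simp [cycDigits]
  | cons a l ih =>
    intro i
    rw [cycDigits, Nat.ofDigits_cons]
    simp only [Nat.cast_add, Nat.cast_mul, Nat.cast_pow, ih, Nat.cast_id]
    rw [cast_pow_mod_eq p f hp, pow_succ]
    ring

theorem ofDigits_eq_zero_of_cycDigits (p f : ℕ) (hp : 1 ≤ p) : ∀ (l : List ℕ) (i : ℕ),
    cycDigits p f l i = 0 → Nat.ofDigits p l = 0 := by
  intro l
  induction l with
  | nil => intro i _; simp
  | cons a l ih =>
    intro i h
    rw [cycDigits, Nat.add_eq_zero_iff] at h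
    have hp' : p ^ (i % f) ≠ 0 := pow_ne_zero _ (by omega)
    have ha : a = 0 := (mul_eq_zero.mp h.1).resolve_right hp'
    rw [Nat.ofDigits_cons, ha, ih _ h.2]
    simp

theorem sum_pow_add_mod (p f c : ℕ) :
    ∑ i ∈ range f, p ^ ((i + c) % f) = ∑ i ∈ range f, p ^ i := by
  rcases Nat.eq_zero_or_pos f with rfl | hf
  · simp
  haveI : NeZero f := ⟨hf.ne'⟩
  rw [← Fin.sum_univ_eq_sum_range (fun i => p ^ ((i + c) % f)),
    ← Fin.sum_univ_eq_sum_range (fun i => p ^ i)]
  refine Fintype.sum_equiv (Equiv.addRight (Fin.ofNat f c)) _ _ fun i => ?_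
  simp [Fin.val_add]

theorem sum_cycDigits (p f : ℕ) : ∀ (l : List ℕ) (c : ℕ),
    ∑ i ∈ range f, cycDigits p f l (i + c) = l.sum * ∑ i ∈ range f, p ^ i := by
  intro l
  induction l with
  | nil => intro c; simp [cycDigits]
  | cons a l ih =>
    intro c
    simp only [cycDigits, sum_add_distrib, add_assoc]
    rw [ih, ← mul_sum, sum_pow_add_mod, List.sum_cons, add_mul]

theorem digits_sum_pow_sub_one (p : ℕ) (hp : 2 ≤ p) : ∀ f : ℕ,
    (p.digits (p ^ f - 1)).sum = f * (p - 1) := by
  intro f
  induction f with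
  | zero => simp
  | succ f ih =>
    have h1 : 1 ≤ p ^ f := Nat.one_le_pow _ _ (by omega)
    obtain ⟨m, hm⟩ : ∃ m, p ^ f = m + 1 := ⟨p ^ f - 1, by omega⟩
    have h2 : p ^ (f + 1) - 1 = (p - 1) + p * m := by
      rw [pow_succ, hm, add_mul, one_mul, mul_comm m p]
      omega
    rw [h2, Nat.digits_add p (by omega) (p - 1) m (by omega) (Or.inl (by omega)), List.sum_cons]
    rw [hm, Nat.add_sub_cancel] at ih
    rw [ih, add_mul, one_mul, add_comm]

theorem digits_sum_pow_mul (p : ℕ) (hp : 2 ≤ p) (a : ℕ) : ∀ n : ℕ,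
    (p.digits (p ^ n * a)).sum = (p.digits a).sum := by
  intro n
  rcases Nat.eq_zero_or_pos a with rfl | ha
  · simp
  rw [Nat.digits_base_pow_mul (by omega) ha]
  simp

/-- **Ax's valuation bound.** -/
theorem ax_multinomial_valuation {ι : Type*} (p f n N d j : ℕ) [hp : Fact p.Prime] (hf : 1 ≤ f)
    (hd : 0 < d) (hj : j * d < N) (s : Finset ι) (w : ι → Fin N → ℕ)
    (hw : ∀ u ∈ s, ∑ l, w u l = d) (k : ι → ℕ)
    (hk : ∑ u ∈ s, k u = (p ^ f - 1) * p ^ n)
    (he : ∀ l, (p ^ f - 1) ∣ ∑ u ∈ s, w u l * k u) :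
    f * j ≤ padicValNat p (Nat.multinomial s k) +
      f * (univ.filter fun l => ∑ u ∈ s, w u l * k u = 0).card := by
  classical
  have hp2 : 2 ≤ p := hp.out.two_le
  have hQ : 1 ≤ p ^ f - 1 := by
    have : p ≤ p ^ f := Nat.le_self_pow (by omega) p
    omega
  set Q := p ^ f - 1 with hQdef
  set R : ℕ → ι → ℕ := fun i u => cycDigits p f (p.digits (k u)) i with hR
  set E : ℕ → Fin N → ℕ := fun i l => ∑ u ∈ s, w u l * R i u with hE
  set Z := univ.filter fun l : Fin N => ∑ u ∈ s, w u l * k u = 0 with hZ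
  have hRc : ∀ i u, ((R i u : ℕ) : ZMod Q) = (p : ZMod Q) ^ i * (k u : ℕ) := by
    intro i u
    have h := cast_cycDigits p f (by omega) (p.digits (k u)) i
    rw [Nat.ofDigits_digits] at h
    exact h
  have hEdvd : ∀ i l, Q ∣ E i l := by
    intro i l
    rw [← ZMod.natCast_eq_zero_iff]
    simp only [hE]
    push_cast
    simp only [hRc]
    have h := (ZMod.natCast_eq_zero_iff _ _).mpr (he l)
    push_cast at h
    have h' := congrArg (fun z => (p : ZMod Q) ^ i * z) h
    rw [mul_zero, mul_sum] at h'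
    rw [← h']
    exact sum_congr rfl fun u _ => by ring
  have hEpos : ∀ i l, l ∉ Z → Q ≤ E i l := by
    intro i l hl
    refine Nat.le_of_dvd (Nat.pos_of_ne_zero fun h0 => hl ?_) (hEdvd i l)
    rw [hZ, mem_filter]
    refine ⟨mem_univ _, sum_eq_zero fun u hu => ?_⟩
    have h := (sum_eq_zero_iff.mp h0) u hu
    rcases mul_eq_zero.mp h with h | h
    · rw [h, zero_mul]
    · have h' := ofDigits_eq_zero_of_cycDigits p f (by omega) _ _ h
      rw [Nat.ofDigits_digits] at h'
      rw [h', mul_zero]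
  have hT : ∀ i, Q ∣ ∑ u ∈ s, R i u := by
    intro i
    rw [← ZMod.natCast_eq_zero_iff]
    push_cast
    simp only [hRc]
    rw [← mul_sum]
    have h := congrArg (fun m : ℕ => (m : ZMod Q)) hk
    push_cast at h
    rw [h, ZMod.natCast_self, zero_mul, mul_zero]
  choose t ht using hT
  have hbound : ∀ i, j + 1 ≤ t i + Z.card := by
    intro i
    have h1 : (N - Z.card) * Q ≤ d * (Q * t i) := by
      rw [← ht i, mul_sum]
      calc (N - Z.card) * Q = ∑ _l ∈ Zᶜ, Q := by
            rw [sum_const, smul_eq_mul, card_compl, Fintype.card_fin]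
        _ ≤ ∑ l ∈ Zᶜ, E i l := sum_le_sum fun l hl => hEpos i l (mem_compl.mp hl)
        _ ≤ ∑ l, E i l := sum_le_sum_of_subset (subset_univ _)
        _ = ∑ u ∈ s, d * R i u := by
            simp only [hE]
            rw [sum_comm]
            exact sum_congr rfl fun u hu => by rw [← sum_mul, hw u hu]
    have h2 : N - Z.card ≤ d * t i := by
      refine Nat.le_of_mul_le_mul_right ?_ hQ
      calc (N - Z.card) * Q ≤ d * (Q * t i) := h1
        _ = d * t i * Q := by ring
    have h3 : Z.card ≤ d * Z.card := Nat.le_mul_of_pos_left _ hd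
    have h4 : d * j < d * (t i + Z.card) := by
      rw [mul_add, mul_comm d j]
      omega
    exact Nat.lt_of_mul_lt_mul_left h4
  have hsum : (∑ u ∈ s, (p.digits (k u)).sum) = (p - 1) * ∑ i ∈ range f, t i := by
    have hg : (p - 1) * ∑ i ∈ range f, p ^ i = Q := by
      rw [hQdef, mul_comm, ← geom_sum_mul_of_one_le (by omega : 1 ≤ p) f]
    have h : (∑ u ∈ s, (p.digits (k u)).sum) * ∑ i ∈ range f, p ^ i =
        Q * ∑ i ∈ range f, t i := by
      rw [sum_mul, mul_sum]
      simp only [← ht]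
      rw [sum_comm]
      refine sum_congr rfl fun u _ => ?_
      have h0 := sum_cycDigits p f (p.digits (k u)) 0
      simp only [add_zero] at h0
      simpa [hR] using h0.symm
    have hg0 : 0 < ∑ i ∈ range f, p ^ i := by
      rcases Nat.eq_zero_or_pos (∑ i ∈ range f, p ^ i) with h0 | h0
      · rw [h0, mul_zero] at hg; omega
      · exact h0
    refine Nat.eq_of_mul_eq_mul_right hg0 ?_
    rw [h, ← hg]
    ring
  have hval : (p - 1) * padicValNat p (Nat.multinomial s k) + (p - 1) * f =
      ∑ u ∈ s, (p.digits (k u)).sum := by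
    have hspec := Nat.multinomial_spec s k
    have hv := congrArg (padicValNat p) hspec
    have hne : (∏ u ∈ s, Nat.factorial (k u)) ≠ 0 :=
      prod_ne_zero_iff.mpr fun u _ => Nat.factorial_ne_zero _
    rw [padicValNat.mul hne (Nat.multinomial_pos s k).ne'] at hv
    have hvprod : ∀ t' : Finset ι, (p - 1) * padicValNat p (∏ u ∈ t', Nat.factorial (k u)) +
        ∑ u ∈ t', (p.digits (k u)).sum = ∑ u ∈ t', k u := by
      intro t'
      induction t' using Finset.induction_on with
      | empty => simp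
      | insert a t' ha ih =>
        rw [prod_insert ha, sum_insert ha, sum_insert ha, padicValNat.mul
          (Nat.factorial_ne_zero _) (prod_ne_zero_iff.mpr fun u _ => Nat.factorial_ne_zero _),
          mul_add, sub_one_mul_padicValNat_factorial]
        have := Nat.digit_sum_le p (k a)
        omega
    have h1 := hvprod s
    have h2 := congrArg (fun m => (p - 1) * m) hv
    simp only [mul_add] at h2
    rw [sub_one_mul_padicValNat_factorial, hk, mul_comm Q (p ^ n), digits_sum_pow_mul p hp2,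
      hQdef, digits_sum_pow_sub_one p hp2, mul_comm (p ^ n), ← hQdef] at h2
    rw [hk] at h1
    have hle : f * (p - 1) ≤ Q * p ^ n := by
      have := Nat.digit_sum_le p Q
      rw [hQdef, digits_sum_pow_sub_one p hp2, ← hQdef] at this
      exact this.trans (Nat.le_mul_of_pos_right _ (by positivity))
    rw [mul_comm (p - 1) f]
    omega
  have h5 : f * (j + 1) ≤ (∑ i ∈ range f, t i) + f * Z.card := by
    have h := sum_le_sum fun i (_ : i ∈ range f) => hbound i
    simpa [sum_add_distrib] using h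
  have h6 : padicValNat p (Nat.multinomial s k) + f = ∑ i ∈ range f, t i := by
    refine Nat.eq_of_mul_eq_mul_left (show 0 < p - 1 by omega) ?_
    rw [mul_add, hval, hsum]
  rw [mul_add, mul_one] at h5
  omega

end Groth.Agent.CommAlg4
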