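import Mathlib
import Groth.Agent.CommAlg4.AxDigits

/-!
Ax's theorem: a homogeneous form of degree `d` in `N > j * d` variables over a field with `q`
elements has a number of zeros divisible by `q ^ j`.
-/

namespace Groth.Agent.CommAlg4

open Finset

/-- A character of the multiplicative monoid of a finite field, summed against a power. -/
theorem sum_monoidHom_pow_eq_zero {k R : Type*} [Field k] [Fintype k] [CommRing R] [IsDomain R]
    (τ : k →* R) (hτ : Function.Injective τ) (e : ℕ) (he : ¬ (Fintype.card k - 1) ∣ e) :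
    ∑ a : k, τ a ^ e = 0 := by
  classical
  obtain ⟨g, hg⟩ : ∃ g : kˣ, orderOf g = Fintype.card kˣ := by
    obtain ⟨g, hg⟩ := IsCyclic.exists_ofOrder_eq_natCard (α := kˣ)
    exact ⟨g, by rw [hg, Nat.card_eq_fintype_card]⟩
  rw [Fintype.card_units] at hg
  have hge : τ (g : k) ^ e - 1 ≠ 0 := by
    rw [sub_ne_zero, ← map_pow]
    intro h
    rw [← map_one τ] at h
    apply he
    rw [← hg, orderOf_dvd_iff_pow_eq_one, Units.ext_iff, Units.val_pow_eq_pow_val, Units.val_one]
    exact hτ h
  have h : (τ (g : k) ^ e - 1) * ∑ a : k, τ a ^ e = 0 := by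
    rw [sub_mul, one_mul, mul_sum, sub_eq_zero]
    refine Fintype.sum_equiv (Equiv.mulLeft₀ (g : k) g.ne_zero) _ _ fun a => ?_
    simp [mul_pow, map_mul]
  exact (mul_eq_zero.mp h).resolve_left hge

/-- **Ax's theorem.** -/
theorem ax_card_zeros {k : Type*} [Field k] [Fintype k] [DecidableEq k] (N d j : ℕ) (hd : 0 < d)
    (F : MvPolynomial (Fin N) k) (hF : F.IsHomogeneous d) (hj : j * d < N) :
    Fintype.card k ^ j ∣ Fintype.card {x : Fin N → k // MvPolynomial.eval x F = 0} := by
  classical
  obtain ⟨p, hchar⟩ := CharP.exists k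
  obtain ⟨f, hp, hq⟩ := FiniteField.card k p
  haveI : Fact p.Prime := ⟨hp⟩
  haveI : PerfectRing k p := PerfectField.toPerfectRing p
  set n : ℕ := (f : ℕ) * j with hn
  set M : ℕ := (p ^ (f : ℕ) - 1) * p ^ n with hM
  let τ : k →* WittVector p k := WittVector.teichmuller p
  let π : WittVector p k →+* k := WittVector.constantCoeff
  have hπτ : ∀ a, π (τ a) = a := fun a => WittVector.teichmuller_coeff_zero p a
  have hτinj : Function.Injective τ := fun a b h => by simpa [hπτ] using congrArg π h
  have hQ : 1 ≤ p ^ (f : ℕ) - 1 := by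
    have h1 : p ≤ p ^ (f : ℕ) := Nat.le_self_pow f.ne_zero p
    have h2 := hp.two_le
    omega
  have hdvd_p : ∀ x : WittVector p k, π x = 0 → (p : WittVector p k) ∣ x := by
    intro x hx
    rw [← Ideal.mem_span_singleton, ← (WittVector.irreducible p).maximalIdeal_eq]
    intro hu
    exact (hu.map π).ne_zero hx
  -- the value of the lifted form
  let v : (Fin N → k) → WittVector p k := fun x =>
    ∑ u ∈ F.support, τ (F.coeff u) * ∏ l, τ (x l) ^ (u l)
  have hπv : ∀ x, π (v x) = MvPolynomial.eval x F := by
    intro x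
    rw [MvPolynomial.eval_eq' x F]
    simp [v, map_sum, map_prod, hπτ]
  have hMn : n ≤ M := by
    calc n ≤ p ^ n := (Nat.lt_pow_self hp.one_lt).le
      _ ≤ M := Nat.le_mul_of_pos_left _ hQ
  have hzero : ∀ x, MvPolynomial.eval x F = 0 → (p : WittVector p k) ^ n ∣ v x ^ M := by
    intro x hx
    exact (pow_dvd_pow _ hMn).trans (pow_dvd_pow_of_dvd (hdvd_p _ ((hπv x).trans hx)) M)
  have hunit : ∀ x, MvPolynomial.eval x F ≠ 0 → (p : WittVector p k) ^ n ∣ v x ^ M - 1 := by
    intro x hx
    have h1 : (p : WittVector p k) ∣ v x ^ (p ^ (f : ℕ) - 1) - 1 := by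
      refine hdvd_p _ ?_
      rw [map_sub, map_pow, hπv, map_one, ← hq, FiniteField.pow_card_sub_one_eq_one _ hx, sub_self]
    have h2 := dvd_sub_pow_of_dvd_sub h1 n
    rw [one_pow, ← pow_mul, ← hM] at h2
    exact (pow_dvd_pow _ (Nat.le_succ n)).trans h2
  -- the power sum
  have hS : (p : WittVector p k) ^ n ∣ ∑ x, v x ^ M := by
    have hexp : ∑ x, v x ^ M = ∑ c ∈ F.support.piAntidiag M,
        ((Nat.multinomial F.support c : ℕ) : WittVector p k) *
          ((∏ u ∈ F.support, τ (F.coeff u) ^ c u) *
            ∏ l, ∑ a : k, τ a ^ (∑ u ∈ F.support, u l * c u)) := by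
      simp only [v, Finset.sum_pow_eq_sum_piAntidiag]
      rw [sum_comm]
      refine sum_congr rfl fun c _ => ?_
      rw [← mul_sum]
      congr 1
      rw [Fintype.prod_sum, mul_sum]
      refine sum_congr rfl fun x _ => ?_
      simp only [mul_pow, prod_mul_distrib, ← Finset.prod_pow, ← pow_mul]
      congr 1
      rw [prod_comm]
      exact prod_congr rfl fun l _ => Finset.prod_pow_eq_pow_sum _ _ _
    rw [hexp]
    refine dvd_sum fun c hc => ?_
    rw [Finset.mem_piAntidiag] at hc
    by_cases he : ∀ l : Fin N, (p ^ (f : ℕ) - 1) ∣ ∑ u ∈ F.support, u l * c u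
    · have hw : ∀ u ∈ F.support, ∑ l, (u : Fin N → ℕ) l = d := by
        intro u hu
        have h := hF (MvPolynomial.mem_support_iff.mp hu)
        rw [Finsupp.weight_apply, Finsupp.sum_fintype _ _ (by simp)] at h
        simpa using h
      have hbound := ax_multinomial_valuation p f n N d j f.pos hd hj F.support
        (fun u => (u : Fin N → ℕ)) hw c hc.1 he
      set Z := univ.filter fun l : Fin N => ∑ u ∈ F.support, u l * c u = 0 with hZ
      have h1 : (p : WittVector p k) ^ padicValNat p (Nat.multinomial F.support c) ∣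
          ((Nat.multinomial F.support c : ℕ) : WittVector p k) := by
        rw [← Nat.cast_pow]
        exact Nat.cast_dvd_cast pow_padicValNat_dvd
      have h2 : (p : WittVector p k) ^ ((f : ℕ) * Z.card) ∣
          ∏ l, ∑ a : k, τ a ^ (∑ u ∈ F.support, u l * c u) := by
        rw [← prod_mul_prod_compl Z]
        refine Dvd.dvd.mul_right ?_ _
        rw [prod_congr rfl (g := fun _ => ((Fintype.card k : ℕ) : WittVector p k)) (fun l hl => by
          rw [hZ, mem_filter] at hl
          simp [hl.2]), prod_const, hq, Nat.cast_pow, ← pow_mul]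
      refine (pow_dvd_pow _ hbound).trans ?_
      rw [pow_add]
      exact mul_dvd_mul h1 (h2.trans (dvd_mul_left _ _))
    · push Not at he
      obtain ⟨l, hl⟩ := he
      rw [← hq] at hl
      rw [prod_eq_zero (mem_univ l) (sum_monoidHom_pow_eq_zero τ hτinj _ hl), mul_zero, mul_zero]
      exact dvd_zero _
  -- conclusion
  have hcount : (p : WittVector p k) ^ n ∣
      (Fintype.card {x : Fin N → k // MvPolynomial.eval x F = 0} : WittVector p k) := by
    have hterm : ∀ x, (p : WittVector p k) ^ n ∣
        v x ^ M - (if MvPolynomial.eval x F = 0 then 0 else 1) := by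
      intro x
      split_ifs with hx
      · simpa using hzero x hx
      · exact hunit x hx
    have h1 : (p : WittVector p k) ^ n ∣
        ∑ x, (if MvPolynomial.eval x F = 0 then 0 else (1 : WittVector p k)) := by
      have h := dvd_sub hS (dvd_sum (s := univ) fun x _ => hterm x)
      rwa [← sum_sub_distrib, sum_congr rfl fun x _ => sub_sub_cancel _ _] at h
    have h2 : (p : WittVector p k) ^ n ∣ (Fintype.card (Fin N → k) : WittVector p k) := by
      rw [Fintype.card_fun, Fintype.card_fin, hq, ← pow_mul, Nat.cast_pow]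
      refine pow_dvd_pow _ ?_
      rw [hn]
      exact Nat.mul_le_mul le_rfl ((Nat.le_mul_of_pos_right j hd).trans hj.le)
    have h3 : (Fintype.card {x : Fin N → k // MvPolynomial.eval x F = 0} : WittVector p k) =
        (Fintype.card (Fin N → k) : WittVector p k) -
          ∑ x, (if MvPolynomial.eval x F = 0 then 0 else (1 : WittVector p k)) := by
      rw [eq_sub_iff_add_eq, Fintype.card_subtype, ← Finset.sum_boole, ← sum_add_distrib,
        ← Finset.card_univ, Finset.cast_card]
      refine sum_congr rfl fun x _ => ?_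
      split_ifs <;> simp
    rw [h3]
    exact dvd_sub h2 h1
  rw [hq, ← pow_mul]
  set z := Fintype.card {x : Fin N → k // MvPolynomial.eval x F = 0}
  rcases Nat.eq_zero_or_pos z with hz | hz
  · rw [hz]; exact dvd_zero _
  obtain ⟨e, m, hm, hzm⟩ := Nat.exists_eq_pow_mul_and_not_dvd hz.ne' p hp.ne_one
  have hmu : IsUnit (m : WittVector p k) := by
    by_contra hnu
    apply hm
    have : (p : WittVector p k) ∣ (m : WittVector p k) := by
      rw [← Ideal.mem_span_singleton, ← (WittVector.irreducible p).maximalIdeal_eq]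
      exact hnu
    have h0 := map_dvd π this
    rw [map_natCast, map_natCast, CharP.cast_eq_zero, zero_dvd_iff] at h0
    exact (CharP.cast_eq_zero_iff k p m).mp h0
  rw [hzm, Nat.cast_mul, Nat.cast_pow, hmu.dvd_mul_right,
    pow_dvd_pow_iff (WittVector.irreducible p).ne_zero (WittVector.irreducible p).not_isUnit]
    at hcount
  rw [hzm]
  exact (pow_dvd_pow p hcount).trans (dvd_mul_right _ _)

end Groth.Agent.CommAlg4
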