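import Mathlib.RingTheory.Artinian.Module
import Mathlib.Algebra.Module.Torsion.Basic
import Mathlib.RingTheory.Finiteness.Basic

set_option linter.all false
set_option autoImplicit false
universe u v

namespace Groth.Agent.CommAlg4

/-- A finite module killed by an ideal with Artinian quotient ring is Artinian. -/
theorem artinian_of_annihilated {R : Type u} [CommRing R] (I : Ideal R) [IsArtinianRing (R ⧸ I)]
    (M : Type v) [AddCommGroup M] [Module R M] [Module.Finite R M]
    (h : ∀ a ∈ I, ∀ m : M, a • m = 0) : IsArtinian R M := by
  have ht : Module.IsTorsionBySet R M I := fun m a => h a a.2 m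
  letI := ht.module
  haveI : IsScalarTower R (R ⧸ I) M := ht.isScalarTower
  haveI : Module.Finite (R ⧸ I) M := Module.Finite.of_restrictScalars_finite R (R ⧸ I) M
  exact isArtinian_of_surjective_algebraMap (R := R ⧸ I) (S := R) Ideal.Quotient.mk_surjective

end Groth.Agent.CommAlg4
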