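import Groth.Agent.BertiniLib.Affine

/-!
# Bertini for smooth affine algebras, with the relative dimension
-/

set_option autoImplicit false
set_option backward.isDefEq.respectTransparency.types false

universe u

open KaehlerDifferential TensorProduct Module

namespace Groth.Agent.CommAlg4

open Groth.Agent

variable {k : Type u} [Field k] {A : Type u} [CommRing A] [Algebra k A] {m : ℕ}

/-- On an affine variety which is locally standard smooth of relative dimension `r`, the general member of
a family `∑ c_j s_j` generating first jets is locally standard smooth of relative dimension `r - 1`. -/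
theorem exists_poly_smoothRel_quotient [Algebra.FiniteType k A] (r : ℕ)
    (hA : Ideal.span {f : A | Algebra.IsStandardSmoothOfRelativeDimension r k (Localization.Away f)} = ⊤)
    (s : Fin m → A) (hjet : Submodule.span A (Set.range fun j => (s j, D k A (s j))) = ⊤) :
    ∃ g : MvPolynomial (Fin m) k, g ≠ 0 ∧ ∀ c : Fin m → k, MvPolynomial.eval c g ≠ 0 →
      Ideal.span {f : A ⧸ Ideal.span {∑ j, algebraMap k A (c j) * s j} |
        Algebra.IsStandardSmoothOfRelativeDimension (r - 1) k (Localization.Away f)} = ⊤ := by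
  classical
  have : IsNoetherianRing A := Algebra.FiniteType.isNoetherianRing k A
  obtain ⟨T, hT, hspan⟩ := Submodule.fg_span_iff_fg_span_finset_subset
    {f : A | Algebra.IsStandardSmoothOfRelativeDimension r k (Localization.Away f)} |>.1
      (IsNoetherian.noetherian (Ideal.span
        {f : A | Algebra.IsStandardSmoothOfRelativeDimension r k (Localization.Away f)}))
  have key : ∀ f₀ ∈ T, ∃ g : MvPolynomial (Fin m) k, g ≠ 0 ∧ ∀ c : Fin m → k,
      MvPolynomial.eval c g ≠ 0 →
        ∀ (q : Ideal (A ⧸ Ideal.span {∑ j, algebraMap k A (c j) * s j})) (_ : q.IsPrime),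
          f₀ ∉ q.comap (Ideal.Quotient.mk _) → ∃ f', f' ∉ q ∧
            Algebra.IsStandardSmoothOfRelativeDimension (r - 1) k (Localization.Away f') := by
    intro f₀ hf₀
    have hr : Algebra.IsStandardSmoothOfRelativeDimension r k (Localization.Away f₀) := hT hf₀
    let C := Localization.Away f₀
    cases subsingleton_or_nontrivial C with
    | inl h =>
      refine ⟨1, one_ne_zero, fun c _ q hq hf₀q => ?_⟩
      have h0 : algebraMap A C 1 = algebraMap A _ 0 := Subsingleton.elim _ _
      obtain ⟨⟨_, N, rfl⟩, hN⟩ := (IsLocalization.eq_iff_exists (Submonoid.powers f₀) _).1 h0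
      simp only [mul_one, mul_zero] at hN
      exact absurd ((Ideal.IsPrime.comap _ : (q.comap (Ideal.Quotient.mk _)).IsPrime).mem_of_pow_mem N
        (hN ▸ Ideal.zero_mem _)) hf₀q
    | inr h =>
    have : Algebra.IsStandardSmooth k C :=
      Algebra.IsStandardSmoothOfRelativeDimension.isStandardSmooth r
    have hfr : Module.finrank C Ω[C⁄k] = r := Module.finrank_eq_of_rank_eq
      (Algebra.IsStandardSmoothOfRelativeDimension.rank_kaehlerDifferential r)
    let b : Module.Basis (Fin r) C Ω[C⁄k] := Module.finBasisOfFinrankEq C Ω[C⁄k] hfr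
    obtain ⟨g, hg0, hg⟩ := BertiniLib.exists_poly_singular (k := k) b (fun j => algebraMap A C (s j))
      0 (BertiniLib.span_pairs_localization f₀ s hjet)
    refine ⟨g, hg0, fun c hc => ?_⟩
    set l := ∑ j, algebraMap k A (c j) * s j with hl
    intro q hq hf₀q
    set Q := q.comap (Ideal.Quotient.mk (Ideal.span {l}))
    have hQp : Q.IsPrime := Ideal.IsPrime.comap _
    have hd : Disjoint (Submonoid.powers f₀ : Set A) (Q : Set A) := by
      rw [Set.disjoint_left]
      rintro _ ⟨N, rfl⟩ h
      exact hf₀q (hQp.mem_of_pow_mem N h)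
    have hlc : algebraMap A C l = 0 + ∑ j, algebraMap k C (c j) * algebraMap A C (s j) := by
      simp [hl, ← IsScalarTower.algebraMap_apply]
    have hlQ : algebraMap A C l ∈ Q.map (algebraMap A C) :=
      Ideal.mem_map_of_mem _ (by
        show Ideal.Quotient.mk _ l ∈ q
        rw [Ideal.Quotient.eq_zero_iff_mem.2 (Ideal.mem_span_singleton_self l)]
        exact q.zero_mem)
    obtain ⟨i, hi⟩ : ∃ i, b.repr (D k C (algebraMap A C l)) i ∉ Q.map (algebraMap A C) := by
      by_contra h
      push Not at h
      refine hc (hg c _ (IsLocalization.isPrime_of_isPrime_disjoint _ C Q hQp hd) ?_ ?_)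
      · exact hlc ▸ hlQ
      · exact fun i => hlc ▸ h i
    exact BertiniLib.exists_standardSmooth_quotient (k := k) (r := r) (C := C) f₀ b l q hf₀q i hi
  choose! g hg0 hg using key
  refine ⟨∏ f₀ ∈ T, g f₀, Finset.prod_ne_zero_iff.2 hg0, fun c hc => ?_⟩
  rw [map_prod, Finset.prod_ne_zero_iff] at hc
  by_contra hne
  obtain ⟨q, hq, hle⟩ := Ideal.exists_le_maximal _ hne
  set Q := q.comap (Ideal.Quotient.mk (Ideal.span {∑ j, algebraMap k A (c j) * s j}))
  obtain ⟨f₀, hf₀, hf₀Q⟩ : ∃ f₀ ∈ T, f₀ ∉ Q := by
    by_contra h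
    push Not at h
    have hQp : Q.IsPrime := Ideal.IsPrime.comap _
    exact hQp.ne_top (top_unique ((hA.symm.trans hspan).le.trans (Ideal.span_le.2 h)))
  obtain ⟨f', hf', hss⟩ := hg f₀ hf₀ c (hc f₀ hf₀) q hq.isPrime hf₀Q
  exact hf' (hle (Ideal.subset_span hss))

end Groth.Agent.CommAlg4
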