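import Mathlib

/-! Bounded injective complexes and vanishing of `Hom(Y, X⟦i⟧)`. -/
set_option autoImplicit false
set_option linter.style.haveILetI false
set_option backward.isDefEq.respectTransparency false
universe w v u
open CategoryTheory CategoryTheory.Limits HomologicalComplex DerivedCategory

namespace Groth.Agent.CommAlg4.BoundedInj

variable {A : Type u} [Category.{v} A] [Abelian A] [HasDerivedCategory.{w} A]

/-- Vanishing of `Hom(Y, X⟦i⟧)` kills the maps from `Y` placed in degree `i`. -/
theorem hom_single_eq_zero (X : DerivedCategory A) (Y : A) (i : ℤ)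
    (h : ∀ φ : (singleFunctor A 0).obj Y ⟶ X⟦i⟧, φ = 0) (ψ : (singleFunctor A i).obj Y ⟶ X) :
    ψ = 0 := by
  apply (shiftFunctor (DerivedCategory A) i).map_injective
  rw [Functor.map_zero]
  have := h ((((singleFunctors A).shiftIso i 0 i (add_zero i)).inv.app Y) ≫ ψ⟦i⟧')
  exact (cancel_epi (((singleFunctors A).shiftIso i 0 i (add_zero i)).inv.app Y)).1
    (this.trans comp_zero.symm)

/-- Conversely. -/
theorem hom_shift_eq_zero (X : DerivedCategory A) (Y : A) (i : ℤ)
    (h : ∀ ψ : (singleFunctor A i).obj Y ⟶ X, ψ = 0) (φ : (singleFunctor A 0).obj Y ⟶ X⟦i⟧) :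
    φ = 0 := by
  obtain ⟨ψ, hψ⟩ := (shiftFunctor (DerivedCategory A) i).map_surjective
    (((singleFunctors A).shiftIso i 0 i (add_zero i)).hom.app Y ≫ φ)
  rw [h ψ, Functor.map_zero] at hψ
  exact (cancel_epi (((singleFunctors A).shiftIso i 0 i (add_zero i)).hom.app Y)).1
    (hψ.symm.trans comp_zero.symm)

/-- If no nonzero map leaves any object in degree `i`, then `H^i` vanishes. -/
theorem exactAt_of_hom_eq_zero (K : CochainComplex A ℤ) (i : ℤ)
    (h : ∀ (Y : A) (ψ : (singleFunctor A i).obj Y ⟶ Q.obj K), ψ = 0) : K.ExactAt i := by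
  obtain ⟨z, hz, hz'⟩ : ∃ z : (HomologicalComplex.single A (ComplexShape.up ℤ) i).obj (K.cycles i) ⟶ K,
      z.f i = (singleObjXSelf (ComplexShape.up ℤ) i (K.cycles i)).hom ≫ K.iCycles i ∧ Q.map z = 0 :=
    ⟨mkHomFromSingle (K.iCycles i) (fun k _ => K.iCycles_d i k),
      mkHomFromSingle_f (K.iCycles i) (fun k _ => K.iCycles_d i k), h _ _⟩
  have h1 : homologyMap z i = 0 := by
    have := homologyFunctorFactors_hom_naturality z i
    rw [hz', Functor.map_zero, zero_comp] at this
    exact (cancel_epi ((homologyFunctorFactors A i).hom.app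
      ((HomologicalComplex.single A (ComplexShape.up ℤ) i).obj (K.cycles i)))).1
      (this.symm.trans comp_zero.symm)
  have h2 : cyclesMap z i =
      (singleObjCyclesSelfIso (ComplexShape.up ℤ) i (K.cycles i)).hom := by
    rw [← cancel_mono (K.iCycles i), cyclesMap_i, hz, singleObjCyclesSelfIso_hom, Category.assoc]
  have h3 := homologyπ_naturality z i
  rw [h1, comp_zero, h2] at h3
  have h4 : K.homologyπ i = 0 :=
    (cancel_epi (singleObjCyclesSelfIso (ComplexShape.up ℤ) i (K.cycles i)).hom).1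
      (h3.symm.trans comp_zero.symm)
  rw [exactAt_iff_isZero_homology, IsZero.iff_id_eq_zero, ← cancel_epi (K.homologyπ i), h4]
  simp

variable (I : CochainComplex A ℤ) [I.IsKInjective]

/-- Cocycles with values in a K-injective complex are coboundaries when the shifted `Hom`s vanish. -/
theorem exists_preimage (Y : A) (i j : ℤ) (hij : j + 1 = i)
    (h : ∀ ψ : (singleFunctor A i).obj Y ⟶ Q.obj I, ψ = 0)
    (z : Y ⟶ I.X i) (hz : z ≫ I.d i (i + 1) = 0) : ∃ w : Y ⟶ I.X j, w ≫ I.d j i = z := by
  obtain ⟨m, hm⟩ : ∃ m : (HomologicalComplex.single A (ComplexShape.up ℤ) i).obj Y ⟶ I,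
      m.f i = (singleObjXSelf (ComplexShape.up ℤ) i Y).hom ≫ z :=
    ⟨mkHomFromSingle z (fun k hk => by obtain rfl : i + 1 = k := hk; exact hz),
      mkHomFromSingle_f z _⟩
  have h0 : Q.map m = 0 := h _
  have h1 : (HomotopyCategory.quotient A (ComplexShape.up ℤ)).map m =
      (HomotopyCategory.quotient A (ComplexShape.up ℤ)).map 0 := by
    apply (CochainComplex.IsKInjective.Qh_map_bijective _ I).injective
    rw [← cancel_mono ((quotientCompQhIso A).hom.app I)]
    refine ((quotientCompQhIso A).hom.naturality m).trans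
      (Eq.trans ?_ ((quotientCompQhIso A).hom.naturality 0).symm)
    rw [h0, Q.map_zero]
  let ho := HomotopyCategory.homotopyOfEq _ _ h1
  have hc := ho.comm i
  rw [dNext_eq _ (show (ComplexShape.up ℤ).Rel i (i + 1) from rfl),
    prevD_eq _ (show (ComplexShape.up ℤ).Rel j i from hij)] at hc
  have hd : ((HomologicalComplex.single A (ComplexShape.up ℤ) i).obj Y).d i (i + 1) = 0 :=
    (isZero_single_obj_X (ComplexShape.up ℤ) i Y (i + 1) (by omega)).eq_of_tgt _ _
  rw [hd, zero_comp, zero_add, hm, zero_f, add_zero] at hc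
  exact ⟨(singleObjXSelf (ComplexShape.up ℤ) i Y).inv ≫ ho.hom i j, by
    rw [Category.assoc, ← hc, Iso.inv_hom_id_assoc]⟩

/-- Above the vanishing range the cycles of a K-injective complex of injectives are injective. -/
theorem injective_cycles (hI : ∀ n, Injective (I.X n)) (i : ℤ)
    (h : ∀ (Y : A) (ψ : (singleFunctor A (i + 1)).obj Y ⟶ Q.obj I), ψ = 0) :
    Injective (I.cycles i) := by
  obtain ⟨w, hw⟩ := exists_preimage I (I.cycles (i + 1)) (i + 1) i rfl (h _) (I.iCycles (i + 1))
    (I.iCycles_d _ _)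
  obtain ⟨r, hr⟩ : ∃ r : I.X i ⟶ I.cycles i,
      r ≫ I.iCycles i = 𝟙 _ - I.toCycles i (i + 1) ≫ w := by
    refine ⟨I.liftCycles (𝟙 _ - I.toCycles i (i + 1) ≫ w) (i + 1) (by simp) ?_, I.liftCycles_i _ _ _ _⟩
    rw [Preadditive.sub_comp, Category.id_comp, Category.assoc, hw, toCycles_i, sub_self]
  have : Injective (I.X i) := hI i
  refine Retract.injective ⟨I.iCycles i, r, ?_⟩ 
  rw [← cancel_mono (I.iCycles i), Category.assoc, hr, Preadditive.comp_sub, Category.comp_id,
    Category.id_comp, ← Category.assoc]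
  have : I.iCycles i ≫ I.toCycles i (i + 1) = 0 := by
    rw [← cancel_mono (I.iCycles (i + 1)), Category.assoc, toCycles_i, iCycles_d, zero_comp]
  rw [this, zero_comp, sub_zero]

omit [I.IsKInjective] in
theorem hom_eq_zero_of_isZero (I : CochainComplex A ℤ) [I.IsKInjective] (i : ℤ) (h : IsZero (I.X i))
    (Y : A) (ψ : (singleFunctor A i).obj Y ⟶ Q.obj I) : ψ = 0 := by
  obtain ⟨f, hf⟩ := (CochainComplex.IsKInjective.Qh_map_bijective
    ((HomotopyCategory.quotient A _).obj ((HomologicalComplex.single A (ComplexShape.up ℤ) i).obj Y))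
    I).surjective ((quotientCompQhIso A).hom.app _ ≫ ψ ≫ (quotientCompQhIso A).inv.app I)
  obtain ⟨m, rfl⟩ := (HomotopyCategory.quotient A _).map_surjective f
  have : m = 0 := from_single_hom_ext (h.eq_of_tgt _ _)
  rw [this, Functor.map_zero, Functor.map_zero] at hf
  rw [← cancel_epi ((quotientCompQhIso A).hom.app _),
    ← cancel_mono ((quotientCompQhIso A).inv.app I), Category.assoc]
  exact hf.symm.trans (by simp)

/-- Truncation gives a bounded injective complex. -/
theorem exists_bounded (I : CochainComplex A ℤ) (hI : ∀ n, Injective (I.X n)) (a b : ℤ)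
    [I.IsStrictlyGE a]
    (h : ∀ (i : ℤ), b < i → ∀ (Y : A) (ψ : (singleFunctor A i).obj Y ⟶ Q.obj I), ψ = 0) :
    (I.truncLE b).IsStrictlyGE a ∧ (I.truncLE b).IsStrictlyLE b ∧
      (∀ n, Injective ((I.truncLE b).X n)) ∧ QuasiIso (I.ιTruncLE b) := by
  have : I.IsKInjective := CochainComplex.isKInjective_of_injective I a
  refine ⟨inferInstance, inferInstance, fun n => ?_, ?_⟩
  · rcases lt_trichotomy n b with hn | rfl | hn
    · have := hI n
      exact Injective.of_iso (I.truncLEXIso b n hn).symm inferInstance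
    · have := injective_cycles I hI n (h (n + 1) (by omega))
      exact Injective.of_iso (I.truncLEXIsoCycles n).symm inferInstance
    · exact ((I.truncLE b).isZero_of_isStrictlyLE b n hn).injective
  · rw [CochainComplex.quasiIso_ιTruncLE_iff, CochainComplex.isLE_iff]
    exact fun i hi => exactAt_of_hom_eq_zero I i (h i hi)

end Groth.Agent.CommAlg4.BoundedInj
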