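import Mathlib

/-! Roofs between bounded above / bounded complexes in the homotopy category. -/
set_option autoImplicit false
set_option linter.style.haveILetI false
set_option backward.isDefEq.respectTransparency false
universe w v u
open CategoryTheory CategoryTheory.Limits HomologicalComplex

namespace Groth.Agent.CommAlg4.BoundedRoofs

variable {A : Type u} [Category.{v} A] [Abelian A]

theorem isIso_ιTruncLE_f (K : CochainComplex A ℤ) (n j : ℤ) (h : j < n) :
    IsIso ((K.ιTruncLE n).f j) := by
  let e := ComplexShape.embeddingUpIntLE n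
  have hi : e.f (n - j).natAbs = j := by
    change n - ((n - j).natAbs : ℤ) = j
    omega
  have hb : ¬ e.op.BoundaryGE (n - j).natAbs := by
    rw [ComplexShape.Embedding.op_boundaryGE_iff, ComplexShape.boundaryLE_embeddingUpIntLE_iff,
      Int.natAbs_eq_zero]
    omega
  have h1 : IsIso ((HomologicalComplex.op K).πTruncGE e.op |>.f j) := by
    dsimp [HomologicalComplex.πTruncGE]
    rw [e.op.isIso_liftExtend_f_iff _ _ hi]
    exact HomologicalComplex.isIso_restrictionToTruncGE' _ _ _ hb
  exact inferInstanceAs (IsIso ((HomologicalComplex.op K).πTruncGE e.op |>.f j).unop)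

/-- A homotopy into `L` lifts to `τ_{≤n} L` from a complex below `n`. -/
theorem quotient_map_eq_of_comp_ι {K L : CochainComplex A ℤ} (n : ℤ) [K.IsStrictlyLE n]
    (u v : K ⟶ L.truncLE n)
    (h : (HomotopyCategory.quotient A (ComplexShape.up ℤ)).map (u ≫ L.ιTruncLE n) =
      (HomotopyCategory.quotient A (ComplexShape.up ℤ)).map (v ≫ L.ιTruncLE n)) :
    (HomotopyCategory.quotient A (ComplexShape.up ℤ)).map u =
      (HomotopyCategory.quotient A (ComplexShape.up ℤ)).map v := by
  let ho := HomotopyCategory.homotopyOfEq _ _ h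
  have ex : ∀ i j, ∃ k : K.X i ⟶ (L.truncLE n).X j, k ≫ (L.ιTruncLE n).f j = ho.hom i j := by
    intro i j
    by_cases hr : (ComplexShape.up ℤ).Rel j i
    · rcases lt_or_ge j n with hj | hj
      · have := isIso_ιTruncLE_f L n j hj
        exact ⟨ho.hom i j ≫ inv ((L.ιTruncLE n).f j), by simp⟩
      · have hz : IsZero (K.X i) := K.isZero_of_isStrictlyLE n i (by
          simp only [ComplexShape.up_Rel] at hr
          omega)
        exact ⟨0, hz.eq_of_src _ _⟩
    · exact ⟨0, by rw [ho.zero i j hr, zero_comp]⟩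
  choose k hk using ex
  have hmono : ∀ j, Mono ((L.ιTruncLE n).f j) := fun j =>
    inferInstanceAs (Mono ((HomologicalComplex.ιTruncLE L (ComplexShape.embeddingUpIntLE n)).f j))
  refine HomotopyCategory.eq_of_homotopy _ _
    { hom := k
      zero := fun i j hij => by
        rw [← cancel_mono ((L.ιTruncLE n).f j), hk, ho.zero i j hij, zero_comp]
      comm := fun i => ?_ }
  rw [← cancel_mono ((L.ιTruncLE n).f i)]
  have := ho.comm i
  simp only [dNext_eq _ (show (ComplexShape.up ℤ).Rel i (i + 1) from rfl),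
    prevD_eq _ (show (ComplexShape.up ℤ).Rel (i - 1) i from sub_add_cancel i 1)] at this ⊢
  rw [HomologicalComplex.comp_f, HomologicalComplex.comp_f] at this
  simp only [Preadditive.add_comp, Category.assoc, hk]
  rw [← (L.ιTruncLE n).comm (i - 1) i, ← Category.assoc (k i (i - 1)), hk]
  exact this

/-- Lift of a map from a complex below `n` to `τ_{≤n}`. -/
theorem exists_lift {K L : CochainComplex A ℤ} (n : ℤ) [K.IsStrictlyLE n] (f : K ⟶ L) :
    ∃ g : K ⟶ L.truncLE n, g ≫ L.ιTruncLE n = f :=
  ⟨inv (K.ιTruncLE n) ≫ CochainComplex.truncLEMap f n, by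
    rw [Category.assoc, CochainComplex.ιTruncLE_naturality, IsIso.inv_hom_id_assoc]⟩

variable [HasDerivedCategory.{w} A]

theorem isLE_of_quasiIso {K L : CochainComplex A ℤ} (s : K ⟶ L) [QuasiIso s] (n : ℤ)
    [K.IsLE n] : L.IsLE n := by
  rw [← DerivedCategory.isLE_Q_obj_iff]
  have := (DerivedCategory.isLE_Q_obj_iff K n).2 inferInstance
  exact DerivedCategory.TStructure.t.isLE_of_iso (asIso (DerivedCategory.Q.map s)) n

theorem isLE_of_quasiIso' {K L : CochainComplex A ℤ} (s : K ⟶ L) [QuasiIso s] (n : ℤ)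
    [L.IsLE n] : K.IsLE n := by
  rw [← DerivedCategory.isLE_Q_obj_iff]
  have := (DerivedCategory.isLE_Q_obj_iff L n).2 inferInstance
  exact DerivedCategory.TStructure.t.isLE_of_iso (asIso (DerivedCategory.Q.map s)).symm n

theorem isGE_of_quasiIso {K L : CochainComplex A ℤ} (s : K ⟶ L) [QuasiIso s] (n : ℤ)
    [K.IsGE n] : L.IsGE n := by
  rw [← DerivedCategory.isGE_Q_obj_iff]
  have := (DerivedCategory.isGE_Q_obj_iff K n).2 inferInstance
  exact DerivedCategory.TStructure.t.isGE_of_iso (asIso (DerivedCategory.Q.map s)) n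

end Groth.Agent.CommAlg4.BoundedRoofs
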