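import Mathlib
import Groth.Prelude.Def_CE

/-! Cartan–Eilenberg resolutions of bounded below complexes. -/
set_option autoImplicit false
set_option linter.style.haveILetI false
set_option backward.isDefEq.respectTransparency false
universe v u
open CategoryTheory CategoryTheory.Limits HomologicalComplex
open scoped ZeroObject

namespace Groth.Agent.CommAlg4.CartanEilenberg

attribute [local instance] Abelian.hasFiniteBiproducts

variable {A : Type u} [Category.{v} A] [Abelian A]

theorem injective_of_isZero {X : A} (h : IsZero X) : Injective X :=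
  ⟨fun _ _ _ => ⟨0, h.eq_of_tgt _ _⟩⟩

section Step

variable [EnoughInjectives A]

theorem exists_inj (X : A) (P : Prop) (h : P → IsZero X) :
    ∃ (W : A) (j : X ⟶ W), Injective W ∧ Mono j ∧ (P → IsZero W) := by
  by_cases hP : P
  · exact ⟨X, 𝟙 X, injective_of_isZero (h hP), inferInstance, fun _ => h hP⟩
  · exact ⟨Injective.under X, Injective.ι X, inferInstance, inferInstance, fun hP' => absurd hP' hP⟩

theorem exists_inj' (X : A) (P : Prop) :
    ∃ (W : A) (j : X ⟶ W), Injective W ∧ (¬ P → Mono j) ∧ (P → IsZero W) := by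
  by_cases hP : P
  · exact ⟨0, 0, injective_of_isZero (Limits.isZero_zero A), fun h => absurd hP h, fun _ => isZero_zero A⟩
  · exact ⟨Injective.under X, Injective.ι X, inferInstance, fun _ => inferInstance,
      fun hP' => absurd hP' hP⟩

theorem exists_step (K : CochainComplex A ℤ) (n : ℤ) [K.IsStrictlyGE n] :
    ∃ (E : CochainComplex A ℤ) (f : K ⟶ E), E.IsStrictlyGE n ∧ (∀ p, Mono (f.f p)) ∧
      (∀ p, Mono (homologyMap f p)) ∧ (∀ p, Injective (E.X p)) ∧
      (∀ p, Injective (E.cycles p)) ∧ (∀ p, Injective (E.homology p)) := by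
  classical
  choose W j hW hj hW0 using fun p : ℤ => exists_inj' (K.X p) (p ≤ n)
  have hH0 : ∀ p : ℤ, p < n → IsZero (K.homology p) := fun p hp =>
    ExactAt.isZero_homology (ExactAt.of_isZero (K.isZero_of_isStrictlyGE n p hp))
  choose J q hJ hq hJ0 using fun p : ℤ => exists_inj (K.homology p) (p < n) (hH0 p)
  have hI : ∀ p, Injective (J p) := hJ
  let h : ∀ p, K.X p ⟶ J p := fun p =>
    Injective.factorThru (K.homologyπ p ≫ q p) (K.iCycles p)
  have hh : ∀ p, K.iCycles p ≫ h p = K.homologyπ p ≫ q p := fun p =>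
    Injective.comp_factorThru _ _
  have hdh : ∀ i p, K.d i p ≫ h p = 0 := by
    intro i p
    rw [← K.toCycles_i, Category.assoc, hh, ← Category.assoc, toCycles_comp_homologyπ, zero_comp]
  let d : ∀ p : ℤ, (W p ⊞ J p) ⊞ W (p + 1) ⟶ (W (p + 1) ⊞ J (p + 1)) ⊞ W (p + 1 + 1) :=
    fun p => biprod.snd ≫ biprod.inl ≫ biprod.inl
  have dd : ∀ p, d p ≫ d (p + 1) = 0 := fun p => by simp [d]
  let E : CochainComplex A ℤ := CochainComplex.of (fun p => (W p ⊞ J p) ⊞ W (p + 1)) d dd
  have Ed : ∀ p, E.d p (p + 1) = d p := fun p =>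
    CochainComplex.of_d (fun p => (W p ⊞ J p) ⊞ W (p + 1)) d p
  let φ : ∀ p, K.X p ⟶ (W p ⊞ J p) ⊞ W (p + 1) := fun p =>
    biprod.lift (biprod.lift (j p) (h p)) (K.d p (p + 1) ≫ j (p + 1))
  let f : K ⟶ E :=
    { f := φ
      comm' := fun i k hik => by
        obtain rfl : i + 1 = k := hik
        rw [Ed]
        show φ i ≫ d i = K.d i (i + 1) ≫ φ (i + 1)
        apply biprod.hom_ext
        · apply biprod.hom_ext <;> simp [φ, d, hdh]
        · simp [φ, d] }
  have hGE : E.IsStrictlyGE n := by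
    rw [CochainComplex.isStrictlyGE_iff]
    intro p hp
    show IsZero ((W p ⊞ J p) ⊞ W (p + 1))
    rw [biprod_isZero_iff, biprod_isZero_iff]
    exact ⟨⟨hW0 p (by omega), hJ0 p hp⟩, hW0 (p + 1) (by omega)⟩
  -- the third component of the differential kills cycles
  have hsnd : ∀ p, E.iCycles p ≫ (biprod.snd : (W p ⊞ J p) ⊞ W (p + 1) ⟶ _) = 0 := by
    intro p
    have h1 : E.iCycles p ≫ d p = 0 := by rw [← Ed]; exact E.iCycles_d p (p + 1)
    have h2 := h1 =≫ (biprod.fst ≫ biprod.fst)
    simpa [d] using h2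
  have hkill : ∀ i p, E.d i p ≫ (biprod.fst ≫ biprod.snd : (W p ⊞ J p) ⊞ W (p + 1) ⟶ J p) = 0 := by
    intro i p
    by_cases hip : i + 1 = p
    · subst hip
      rw [Ed]
      simp [d]
    · rw [E.shape i p hip, zero_comp]
  let s : ∀ p, E.homology p ⟶ J p := fun p =>
    E.homologyι p ≫ E.descOpcycles (biprod.fst ≫ biprod.snd : (W p ⊞ J p) ⊞ W (p + 1) ⟶ J p)
      (p - 1) (by simp) (hkill _ _)
  have hs : ∀ p, E.homologyπ p ≫ s p =
      E.iCycles p ≫ (biprod.fst ≫ biprod.snd : (W p ⊞ J p) ⊞ W (p + 1) ⟶ J p) := fun p => by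
    simp [s]
  refine ⟨E, f, hGE, ?_, ?_, ?_, ?_, ?_⟩
  · intro p
    refine Preadditive.mono_of_cancel_zero _ fun {T} (x : T ⟶ K.X p) (hx : x ≫ φ p = 0) => ?_
    have e3 : x ≫ K.d p (p + 1) ≫ j (p + 1) = 0 := by
      have := hx =≫ biprod.snd
      simpa [φ] using this
    have e1 : x ≫ j p = 0 := by
      have := hx =≫ (biprod.fst ≫ biprod.fst)
      simpa [φ] using this
    have e2 : x ≫ h p = 0 := by
      have := hx =≫ (biprod.fst ≫ biprod.snd)
      simpa [φ] using this
    rcases lt_trichotomy p n with hp | hp | hp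
    · exact (K.isZero_of_isStrictlyGE n p hp).eq_of_tgt _ _
    · haveI := hj (p + 1) (by omega)
      have e4 : x ≫ K.d p (p + 1) = 0 := by
        rw [← cancel_mono (j (p + 1)), Category.assoc, e3, zero_comp]
      let z := K.liftCycles x (p + 1) (by simp) e4
      have hz : z ≫ K.iCycles p = x := K.liftCycles_i _ _ _ _
      have h5 : z ≫ K.homologyπ p = 0 := by
        haveI := hq p
        rw [← cancel_mono (q p), Category.assoc, ← hh, ← Category.assoc, hz, e2, zero_comp]
      haveI : IsIso (K.homologyπ p) :=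
        K.isIso_homologyπ (p - 1) p (by simp)
          ((K.isZero_of_isStrictlyGE n (p - 1) (by omega)).eq_of_src _ _)
      have h6 : z = 0 := by rw [← cancel_mono (K.homologyπ p), h5, zero_comp]
      rw [← hz, h6, zero_comp]
    · haveI := hj p (by omega)
      rw [← cancel_mono (j p), e1, zero_comp]
  · intro p
    haveI := hq p
    have : homologyMap f p ≫ s p = q p := by
      rw [← cancel_epi (K.homologyπ p), ← hh, homologyπ_naturality_assoc, hs,
        cyclesMap_i_assoc]
      show K.iCycles p ≫ φ p ≫ _ = _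
      simp [φ]
    haveI : Mono (homologyMap f p ≫ s p) := this ▸ hq p
    exact mono_of_mono _ (s p)
  · intro p
    show Injective ((W p ⊞ J p) ⊞ W (p + 1))
    haveI := hW p; haveI := hW (p + 1); haveI := hJ p
    infer_instance
  · intro p
    haveI := hW p; haveI := hW (p + 1); haveI := hJ p
    refine Retract.injective (Y := W p ⊞ J p)
      ⟨E.iCycles p ≫ (biprod.fst : (W p ⊞ J p) ⊞ W (p + 1) ⟶ _),
        E.liftCycles (biprod.inl : _ ⟶ (W p ⊞ J p) ⊞ W (p + 1)) (p + 1) (by simp)
          (by rw [Ed]; simp [d]), ?_⟩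
    rw [← cancel_mono (E.iCycles p), Category.assoc, liftCycles_i, Category.id_comp]
    apply biprod.hom_ext
    · simp
    · rw [hsnd]; simp
  · intro p
    obtain ⟨r, rfl⟩ : ∃ r, p = r + 1 := ⟨p - 1, by simp⟩
    let u : J (r + 1) ⟶ E.cycles (r + 1) :=
      E.liftCycles (biprod.inr ≫ biprod.inl : _ ⟶ (W (r + 1) ⊞ J (r + 1)) ⊞ W (r + 1 + 1))
        (r + 1 + 1) (by simp) (by rw [Ed]; simp [d])
    haveI := hJ (r + 1)
    refine Retract.injective (Y := J (r + 1)) ⟨s (r + 1), u ≫ E.homologyπ (r + 1), ?_⟩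
    rw [← cancel_epi (E.homologyπ (r + 1)), ← Category.assoc, hs, Category.comp_id]
    let w : E.cycles (r + 1) ⟶ E.X r :=
      E.iCycles (r + 1) ≫ (biprod.fst ≫ biprod.fst ≫ biprod.inr :
        (W (r + 1) ⊞ J (r + 1)) ⊞ W (r + 1 + 1) ⟶ (W r ⊞ J r) ⊞ W (r + 1))
    have key : 𝟙 (E.cycles (r + 1)) =
        (E.iCycles (r + 1) ≫ (biprod.fst ≫ biprod.snd :
          (W (r + 1) ⊞ J (r + 1)) ⊞ W (r + 1 + 1) ⟶ _)) ≫ u + w ≫ E.toCycles r (r + 1) := by
      rw [← cancel_mono (E.iCycles (r + 1))]
      simp only [Preadditive.add_comp, Category.assoc, Category.id_comp, u, w, liftCycles_i,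
        toCycles_i, Ed]
      apply biprod.hom_ext
      · apply biprod.hom_ext <;> simp [d]
      · simp [d, hsnd]
    have := key =≫ E.homologyπ (r + 1)
    simpa using this.symm

theorem exists_step' (K : CochainComplex A ℤ) (n : ℤ) (hK : K.IsStrictlyGE n) :
    ∃ (E : CochainComplex A ℤ) (f : K ⟶ E), E.IsStrictlyGE n ∧ (∀ p, Mono (f.f p)) ∧
      (∀ p, Mono (homologyMap f p)) ∧ (∀ p, Injective (E.X p)) ∧
      (∀ p, Injective (E.cycles p)) ∧ (∀ p, Injective (E.homology p)) :=
  exists_step K n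

end Step

section ShortExact

variable {K E : CochainComplex A ℤ} (f : K ⟶ E) [Mono f]

noncomputable abbrev seq : ShortComplex (CochainComplex A ℤ) :=
  ShortComplex.mk f (cokernel.π f) (cokernel.condition f)

theorem seq_shortExact : (seq f).ShortExact where
  exact := ShortComplex.exact_cokernel f

theorem shortExact_eval (p : ℤ) :
    ((seq f).map (eval A (ComplexShape.up ℤ) p)).ShortExact :=
  (seq_shortExact f).map_of_exact _

theorem shortExact_homology (hf : ∀ p, Mono (homologyMap f p)) (p : ℤ) :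
    ((seq f).map (homologyFunctor A (ComplexShape.up ℤ) p)).ShortExact := by
  have hS := seq_shortExact f
  have hδ : hS.δ p (p + 1) (by simp) = 0 := by
    haveI : Mono (homologyMap (seq f).f (p + 1)) := hf (p + 1)
    rw [← cancel_mono (homologyMap (seq f).f (p + 1)), hS.δ_comp, zero_comp]
  haveI : Mono ((seq f).map (homologyFunctor A (ComplexShape.up ℤ) p)).f := hf p
  haveI : Epi ((seq f).map (homologyFunctor A (ComplexShape.up ℤ) p)).g :=
    (hS.homology_exact₃ p (p + 1) (by simp)).epi_f hδ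
  exact ⟨hS.homology_exact₂ p⟩

theorem shortExact_cycles (hf : ∀ p, Mono (homologyMap f p)) (p : ℤ) :
    ((seq f).map (cyclesFunctor A (ComplexShape.up ℤ) p)).ShortExact := by
  have hS := seq_shortExact f
  haveI := hS.mono_f
  haveI := hS.epi_g
  haveI : Epi (homologyMap (cokernel.π f) p) := (shortExact_homology f hf p).epi_g
  haveI : Mono ((seq f).map (cyclesFunctor A (ComplexShape.up ℤ) p)).f := by
    show Mono (cyclesMap f p); infer_instance
  haveI : Epi ((seq f).map (cyclesFunctor A (ComplexShape.up ℤ) p)).g := by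
    show Epi (cyclesMap (cokernel.π f) p)
    rw [epi_iff_surjective_up_to_refinements]
    intro T z
    obtain ⟨T₁, p₁, hp₁, a, ha⟩ := surjective_up_to_refinements_of_epi
      (homologyMap (cokernel.π f) p) (z ≫ (cokernel f).homologyπ p)
    obtain ⟨T₂, p₂, hp₂, e, he⟩ := surjective_up_to_refinements_of_epi (E.homologyπ p) a
    have hd : (p₂ ≫ p₁ ≫ z - e ≫ cyclesMap (cokernel.π f) p) ≫ (cokernel f).homologyπ p = 0 := by
      rw [Preadditive.sub_comp, Category.assoc, Category.assoc, ha, Category.assoc,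
        ← homologyπ_naturality, ← Category.assoc e, ← he, Category.assoc, sub_self]
    obtain ⟨T₃, p₃, hp₃, b, hb⟩ :=
      ((cokernel f).comp_homologyπ_eq_zero_iff_up_to_refinements (p - 1) p (by simp) _).1 hd
    obtain ⟨T₄, p₄, hp₄, b', hb'⟩ :=
      surjective_up_to_refinements_of_epi ((cokernel.π f).f (p - 1)) b
    refine ⟨T₄, p₄ ≫ p₃ ≫ p₂ ≫ p₁, inferInstance,
      p₄ ≫ p₃ ≫ e + b' ≫ E.toCycles (p - 1) p, ?_⟩
    have : E.toCycles (p - 1) p ≫ cyclesMap (cokernel.π f) p =
        (cokernel.π f).f (p - 1) ≫ (cokernel f).toCycles (p - 1) p := by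
      rw [← cancel_mono ((cokernel f).iCycles p)]
      simp
    have hb'' : b' ≫ (cokernel.π f).f (p - 1) ≫ (cokernel f).toCycles (p - 1) p =
        p₄ ≫ p₃ ≫ (p₂ ≫ p₁ ≫ z - e ≫ cyclesMap (cokernel.π f) p) := by
      rw [← Category.assoc, ← hb', Category.assoc, ← hb]
    simp only [Preadditive.add_comp, Category.assoc, this, hb'', Preadditive.comp_sub]
    abel
  exact ⟨cycles_left_exact (seq f) hS.exact p⟩

end ShortExact

section Iterate

variable [EnoughInjectives A] {n : ℤ}

/-- A stage: a complex in degrees `≥ n`. -/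
structure St (A : Type u) [Category.{v} A] [Abelian A] (n : ℤ) where
  K : CochainComplex A ℤ
  hK : K.IsStrictlyGE n

noncomputable def St.E (s : St A n) : CochainComplex A ℤ := (exists_step' s.K n s.hK).choose

noncomputable def St.f (s : St A n) : s.K ⟶ s.E := (exists_step' s.K n s.hK).choose_spec.choose

theorem St.spec (s : St A n) :
    s.E.IsStrictlyGE n ∧ (∀ p, Mono (s.f.f p)) ∧ (∀ p, Mono (homologyMap s.f p)) ∧
      (∀ p, Injective (s.E.X p)) ∧ (∀ p, Injective (s.E.cycles p)) ∧
      (∀ p, Injective (s.E.homology p)) :=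
  (exists_step' s.K n s.hK).choose_spec.choose_spec

instance (s : St A n) : Mono s.f :=
  haveI := s.spec.2.1
  mono_of_mono_f _ inferInstance

noncomputable def St.next (s : St A n) : St A n where
  K := cokernel s.f
  hK := by
    rw [CochainComplex.isStrictlyGE_iff]
    intro p hp
    haveI := s.spec.1
    haveI : Epi ((cokernel.π s.f).f p) := inferInstance
    exact IsZero.of_epi ((cokernel.π s.f).f p) (s.E.isZero_of_isStrictlyGE n p hp)

variable (K : CochainComplex A ℤ) (n) [hK : K.IsStrictlyGE n]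

noncomputable def stage : ℕ → St A n
  | 0 => ⟨K, hK⟩
  | q + 1 => (stage q).next

noncomputable def rows : ℤ → CochainComplex A ℤ
  | Int.ofNat q => (stage n K q).E
  | Int.negSucc _ => 0

noncomputable def dRows : ∀ q : ℤ, rows n K q ⟶ rows n K (q + 1)
  | Int.ofNat q => cokernel.π (stage n K q).f ≫ (stage n K (q + 1)).f
  | Int.negSucc _ => 0

theorem dRows_sq : ∀ q : ℤ, dRows n K q ≫ dRows n K (q + 1) = 0
  | Int.ofNat q => by
    show (cokernel.π (stage n K q).f ≫ (stage n K (q + 1)).f) ≫
      cokernel.π (stage n K (q + 1)).f ≫ (stage n K (q + 1 + 1)).f = 0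
    rw [Category.assoc, cokernel.condition_assoc, zero_comp, comp_zero]
  | Int.negSucc _ => zero_comp

noncomputable def dbl : CochainComplex (CochainComplex A ℤ) ℤ :=
  CochainComplex.of (rows n K) (dRows n K) (dRows_sq n K)

theorem dbl_d (q : ℤ) : (dbl n K).d q (q + 1) = dRows n K q :=
  CochainComplex.of_d (rows n K) (dRows n K) q

noncomputable def aug : K ⟶ (dbl n K).X 0 := (stage n K 0).f

theorem aug_d : aug n K ≫ (dbl n K).d 0 1 = 0 := by
  have h : (dbl n K).d 0 1 = dRows n K 0 := dbl_d n K 0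
  rw [h]
  exact cokernel.condition_assoc (stage n K 0).f _ |>.trans zero_comp

theorem isZero_X (p q : ℤ) (hp : p < n) : IsZero (((dbl n K).X q).X p) := by
  show IsZero ((rows n K q).X p)
  rcases q with q | q
  · haveI := (stage n K q).spec.1
    exact (stage n K q).E.isZero_of_isStrictlyGE n p hp
  · exact Functor.map_isZero (eval A (ComplexShape.up ℤ) p) (Limits.isZero_zero _)

theorem isInjResolutionVia (F : CochainComplex A ℤ ⥤ A) [F.PreservesZeroMorphisms]
    (hF : ∀ q, ((seq (stage n K q).f).map F).ShortExact)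
    (hinj : ∀ q, Injective (F.obj (stage n K q).E)) :
    CE.IsInjResolutionVia ((F.mapHomologicalComplex (ComplexShape.up ℤ)).obj (dbl n K))
      (F.obj K) (F.map (aug n K)) := by
  refine ⟨?_, ?_, ?_, ?_, (hF 0).mono_f, ?_⟩
  · show F.map (aug n K) ≫ F.map ((dbl n K).d 0 1) = 0
    rw [← F.map_comp, aug_d, F.map_zero]
  · rw [CochainComplex.isStrictlyGE_iff]
    intro q hq
    rcases q with q | q
    · exact absurd hq (not_lt.2 (Int.natCast_nonneg q))
    · exact F.map_isZero (Limits.isZero_zero _)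
  · intro q
    rcases q with q | q
    · exact hinj q
    · exact injective_of_isZero (F.map_isZero (Limits.isZero_zero _))
  · intro q hq
    rcases q with (_ | m) | q
    · exact absurd rfl hq
    · rw [exactAt_iff' _ (Int.ofNat m) (Int.ofNat (m + 1)) (Int.ofNat (m + 1 + 1)) (by simp)
        (by simp), ShortComplex.exact_iff_exact_up_to_refinements]
      intro T (x : T ⟶ F.obj (stage n K (m + 1)).E) hx
      have hd : ∀ k : ℕ, F.map ((dbl n K).d (Int.ofNat k) (Int.ofNat (k + 1))) =
          F.map (cokernel.π (stage n K k).f) ≫ F.map (stage n K (k + 1)).f := fun k => by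
        rw [← F.map_comp]; exact congrArg F.map (dbl_d n K (Int.ofNat k))
      change x ≫ F.map ((dbl n K).d (Int.ofNat (m + 1)) (Int.ofNat (m + 1 + 1))) = 0 at hx
      rw [hd (m + 1), ← Category.assoc] at hx
      haveI := (hF (m + 1 + 1)).mono_f
      have hx' : x ≫ F.map (cokernel.π (stage n K (m + 1)).f) = 0 :=
        (cancel_mono ((seq (stage n K (m + 1 + 1)).f).map F).f).1 (hx.trans zero_comp.symm)
      obtain ⟨T', p, hp, y, hy⟩ := (hF (m + 1)).exact.exact_up_to_refinements x hx'
      haveI := (hF m).epi_g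
      obtain ⟨T'', p', hp', z, hz⟩ :=
        surjective_up_to_refinements_of_epi ((seq (stage n K m).f).map F).g y
      refine ⟨T'', p' ≫ p, epi_comp _ _, z, ?_⟩
      show (p' ≫ p) ≫ x = z ≫ F.map ((dbl n K).d (Int.ofNat m) (Int.ofNat (m + 1)))
      rw [hd m, Category.assoc, hy]
      exact (Category.assoc _ _ _).symm.trans ((congrArg (· ≫ _) hz).trans (Category.assoc _ _ _))
    · exact ExactAt.of_isZero (F.map_isZero (Limits.isZero_zero _))
  · rw [ShortComplex.exact_iff_exact_up_to_refinements]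
    intro T (x : T ⟶ F.obj (stage n K 0).E) hx
    change x ≫ F.map ((dbl n K).d 0 1) = 0 at hx
    have hd : F.map ((dbl n K).d 0 1) =
        F.map (cokernel.π (stage n K 0).f) ≫ F.map (stage n K 1).f := by
      rw [← F.map_comp]; exact congrArg F.map (dbl_d n K 0)
    rw [hd, ← Category.assoc] at hx
    haveI := (hF 1).mono_f
    have hx' : x ≫ F.map (cokernel.π (stage n K 0).f) = 0 :=
      (cancel_mono ((seq (stage n K 1).f).map F).f).1 (hx.trans zero_comp.symm)
    exact (hF 0).exact.exact_up_to_refinements x hx'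

end Iterate

end Groth.Agent.CommAlg4.CartanEilenberg
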