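import Groth.Agent.CliffStr.Spin
import Groth.Agent.Et18.EvenAzumaya
import Groth.Agent.Et18.EvenSplit
import Mathlib.LinearAlgebra.ExteriorAlgebra.Basis

/-!
# Clifford algebras of regular forms of even rank are matrix algebras fppf locally
-/

set_option autoImplicit false
universe u v

open CliffordAlgebra TensorProduct

noncomputable section

namespace Groth.Agent.CommAlg4.CliffEven

open CliffStr (Spinor bcTo bcTo_tmul bcHom_mem bcEquiv exists_even_odd eq_zero_of_even_of_odd algebraMap_mem_even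
  toDual_basisFun eq_zero_of_add_eq_zero central_parts mem_center_iff NearArf odd_mul_rel isUnit_det_of_regular
  eq_top_of_mulLeft_contract cliffBasis ι_mul_mem_odd)
open Et18.EvenSplit (splitMat qv_split exists_etale_split)

section bc

variable {R : Type u} [CommRing R] {M : Type u} [AddCommGroup M] [Module R M] [Module.Free R M] [Module.Finite R M]

/-- The even part commutes with base change. -/
theorem exists_even_bc_equiv (A : Type u) [CommRing A] [Algebra R A] (Q : QuadraticForm R M) :
    Nonempty ((A ⊗[R] CliffordAlgebra.even Q) ≃ₐ[A] CliffordAlgebra.even (QuadGrp.baseChangeForm A Q)) := by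
  let QA := QuadGrp.baseChangeForm A Q
  -- base change of the even part
  let j : A ⊗[R] CliffordAlgebra.even Q →ₐ[A] CliffordAlgebra.even QA :=
    ((bcTo A Q).comp (Algebra.TensorProduct.map (AlgHom.id A A) (CliffordAlgebra.even Q).val)).codRestrict _ fun y => by
      rw [← Subalgebra.mem_toSubmodule, CliffordAlgebra.even_toSubmodule]
      induction y using TensorProduct.induction_on with
      | zero => rw [map_zero]; exact zero_mem _
      | add a c ha hc => rw [map_add]; exact add_mem ha hc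
      | tmul a x =>
        rw [AlgHom.comp_apply, Algebra.TensorProduct.map_tmul, bcTo_tmul]
        refine Submodule.smul_mem _ _ (bcHom_mem _ Q ?_)
        have := x.2
        rwa [← Subalgebra.mem_toSubmodule, CliffordAlgebra.even_toSubmodule] at this
  have hjinj : Function.Injective j := by
    let π : CliffordAlgebra Q →ₗ[R] CliffordAlgebra.even Q :=
      (LinearEquiv.ofEq _ _ (CliffordAlgebra.even_toSubmodule Q).symm).toLinearMap.comp
        ((evenOdd Q 0).projectionOnto (evenOdd Q 1) (evenOdd_isCompl (Q := Q)))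
    have hπ : π.comp (CliffordAlgebra.even Q).val.toLinearMap = LinearMap.id := LinearMap.ext fun x => Subtype.ext (by
      have hx := x.2
      rw [← Subalgebra.mem_toSubmodule, CliffordAlgebra.even_toSubmodule] at hx
      show ((evenOdd Q 0).projectionOnto (evenOdd Q 1) (evenOdd_isCompl (Q := Q)) (x : CliffordAlgebra Q) : CliffordAlgebra Q) = x
      exact congrArg Subtype.val (Submodule.projectionOnto_apply_left (evenOdd_isCompl (Q := Q)) ⟨_, hx⟩))
    have hinj : Function.Injective ((CliffordAlgebra.even Q).val.toLinearMap.lTensor A) := fun x y hxy => by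
      have h := congrArg (π.lTensor A) hxy
      simpa only [← LinearMap.comp_apply, ← LinearMap.lTensor_comp, hπ, LinearMap.lTensor_id, LinearMap.id_apply] using h
    have hj : ∀ y, ((j y : CliffordAlgebra QA)) = bcTo A Q ((CliffordAlgebra.even Q).val.toLinearMap.lTensor A y) := fun y => by
      induction y using TensorProduct.induction_on with
      | zero => simp
      | add a c ha hc => rw [map_add, Subalgebra.coe_add, ha, hc, map_add, map_add]
      | tmul a x => rfl
    intro x y hxy
    have h := congrArg Subtype.val hxy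
    rw [hj, hj] at h
    exact hinj ((bcEquiv A Q).injective h)
  have hjsurj : Function.Surjective j := by
    rintro ⟨y, hy⟩
    rw [← Subalgebra.mem_toSubmodule, CliffordAlgebra.even_toSubmodule] at hy
    have key : ∀ s : A ⊗[R] CliffordAlgebra Q, ∃ s₀ : A ⊗[R] CliffordAlgebra.even Q,
        bcTo A Q s - (j s₀ : CliffordAlgebra QA) ∈ evenOdd QA 1 := by
      intro s
      induction s using TensorProduct.induction_on with
      | zero => exact ⟨0, by simp⟩
      | add a c ha hc =>
        obtain ⟨a₀, ha⟩ := ha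
        obtain ⟨c₀, hc⟩ := hc
        exact ⟨a₀ + c₀, by rw [map_add, map_add, Subalgebra.coe_add, add_sub_add_comm]; exact add_mem ha hc⟩
      | tmul a x =>
        obtain ⟨x₀, h0, x₁, h1, hx⟩ := exists_even_odd x
        refine ⟨a ⊗ₜ ⟨x₀, by rw [← Subalgebra.mem_toSubmodule, CliffordAlgebra.even_toSubmodule]; exact h0⟩, ?_⟩
        show bcTo A Q (a ⊗ₜ x) - bcTo A Q (a ⊗ₜ x₀) ∈ _
        rw [← map_sub, ← TensorProduct.tmul_sub, ← hx, add_sub_cancel_left, bcTo_tmul]
        exact Submodule.smul_mem _ _ (bcHom_mem _ Q h1)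
    obtain ⟨s, rfl⟩ := (bcEquiv A Q).surjective y
    obtain ⟨s₀, hs⟩ := key s
    refine ⟨s₀, Subtype.ext (sub_eq_zero.1 (eq_zero_of_even_of_odd (sub_mem hy ?_) hs)).symm⟩
    have := (j s₀).2
    rwa [← Subalgebra.mem_toSubmodule, CliffordAlgebra.even_toSubmodule] at this
  exact ⟨AlgEquiv.ofBijective j ⟨hjinj, hjsurj⟩⟩

end bc

section spinor

variable {A : Type u} [CommRing A] {m : ℕ}

local notation "Q₀" => (0 : QuadraticForm A (Fin m → A))

theorem ι_mul_mem_even {y : CliffordAlgebra Q₀} (x : Fin m → A) (hy : y ∈ evenOdd Q₀ 1) : ι Q₀ x * y ∈ evenOdd Q₀ 0 := by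
  simpa [show (1 : ZMod 2) + 1 = 0 from rfl] using SetLike.mul_mem_graded (ι_mem_evenOdd_one Q₀ x) hy

theorem contract_mem (φ : Module.Dual A (Fin m → A)) (y : CliffordAlgebra Q₀) :
    (y ∈ evenOdd Q₀ 0 → contractLeft φ y ∈ evenOdd Q₀ 1) ∧ (y ∈ evenOdd Q₀ 1 → contractLeft φ y ∈ evenOdd Q₀ 0) := by
  refine ⟨fun hy => ?_, fun hy => ?_⟩
  · induction y, hy using CliffordAlgebra.even_induction with
    | algebraMap r => simp
    | add a c _ _ ha hc => rw [map_add]; exact add_mem ha hc
    | ι_mul_ι_mul m₁ m₂ a ha ih =>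
      rw [mul_assoc, contractLeft_ι_mul, contractLeft_ι_mul]
      exact sub_mem (Submodule.smul_mem _ _ (ι_mul_mem_odd m₂ ha))
        (ι_mul_mem_odd m₁ (sub_mem (Submodule.smul_mem _ _ ha) (ι_mul_mem_even m₂ ih)))
  · induction y, hy using CliffordAlgebra.odd_induction with
    | ι v => rw [contractLeft_ι]; exact algebraMap_mem_even _
    | add a c _ _ ha hc => rw [map_add]; exact add_mem ha hc
    | ι_mul_ι_mul m₁ m₂ a ha ih =>
      rw [mul_assoc, contractLeft_ι_mul, contractLeft_ι_mul]
      exact sub_mem (Submodule.smul_mem _ _ (ι_mul_mem_even m₂ ha))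
        (ι_mul_mem_even m₁ (sub_mem (Submodule.smul_mem _ _ ha) (ι_mul_mem_odd m₂ ih)))

theorem zmod_two_cases : ∀ i : ZMod 2, i = 0 ∨ i = 1 := by decide

theorem zmod_two_ne : ∀ c i : ZMod 2, ¬ c = i → i + 1 = c ∧ c + 1 = i := by decide

theorem zmod_two_succ_ne : ∀ i : ZMod 2, ¬ i + 1 = i := by decide

/-- Bases of the two halves of the spinors. -/
theorem exists_half_basis (hm : 1 ≤ m) (i : ZMod 2) :
    Nonempty (Module.Basis (Fin (2 ^ (m - 1))) A (evenOdd Q₀ i)) := by
  classical
  let bV : Module.Basis (Finset (Fin m)) A (CliffordAlgebra Q₀) := (Pi.basisFun A (Fin m)).ExteriorAlgebra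
  have hbV : ∀ s : Finset (Fin m), bV s ∈ evenOdd Q₀ (s.card : ZMod 2) := fun s => by
    refine Submodule.mem_iSup_of_mem ⟨s.card, rfl⟩ ?_
    have h := ExteriorAlgebra.basis_eq_coe_basis (Pi.basisFun A (Fin m)) (⟨s, rfl⟩ : Set.powersetCard (Fin m) s.card)
    show (Pi.basisFun A (Fin m)).ExteriorAlgebra s ∈ _
    rw [show (Pi.basisFun A (Fin m)).ExteriorAlgebra s = _ from h]
    exact ((Pi.basisFun A (Fin m)).exteriorPower s.card _).2
  let w : {s : Finset (Fin m) // (s.card : ZMod 2) = i} → evenOdd Q₀ i := fun s => ⟨bV s.1, by have h := hbV s.1; rw [s.2] at h; exact h⟩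
  have hli : LinearIndependent A w :=
    LinearIndependent.of_comp (evenOdd Q₀ i).subtype (bV.linearIndependent.comp _ Subtype.val_injective)
  have hsp : ⊤ ≤ Submodule.span A (Set.range w) := fun x _ => by
    have hx := bV.sum_repr (x : CliffordAlgebra Q₀)
    rw [← Finset.sum_filter_add_sum_filter_not Finset.univ (fun s : Finset (Fin m) => (s.card : ZMod 2) = i)] at hx
    set X := ∑ s ∈ Finset.univ.filter (fun s : Finset (Fin m) => (s.card : ZMod 2) = i), bV.repr (x : CliffordAlgebra Q₀) s • bV s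
    set Y := ∑ s ∈ Finset.univ.filter (fun s : Finset (Fin m) => ¬ (s.card : ZMod 2) = i), bV.repr (x : CliffordAlgebra Q₀) s • bV s
    have hX : X ∈ evenOdd Q₀ i := sum_mem fun s hs => Submodule.smul_mem _ _ (by have h := hbV s; rw [(Finset.mem_filter.1 hs).2] at h; exact h)
    have hY : Y ∈ evenOdd Q₀ (i + 1) := sum_mem fun s hs => Submodule.smul_mem _ _ (by
      have h := (Finset.mem_filter.1 hs).2
      rw [(zmod_two_ne _ _ h).1]
      exact hbV s)
    have hY' : Y ∈ evenOdd Q₀ i := by
      rw [show Y = (x : CliffordAlgebra Q₀) - X from eq_sub_of_add_eq' hx]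
      exact sub_mem x.2 hX
    have h0 : Y = 0 := by
      rcases zmod_two_cases i with rfl | rfl
      · exact eq_zero_of_even_of_odd hY' (by simpa using hY)
      · exact eq_zero_of_even_of_odd (by simpa [show (1 : ZMod 2) + 1 = 0 from rfl] using hY) hY'
    rw [h0, add_zero] at hx
    have hmem : (x : CliffordAlgebra Q₀) ∈ (Submodule.span A (Set.range w)).map (evenOdd Q₀ i).subtype := by
      rw [← hx]
      exact sum_mem fun s hs => Submodule.smul_mem _ _
        ⟨w ⟨s, (Finset.mem_filter.1 hs).2⟩, Submodule.subset_span ⟨_, rfl⟩, rfl⟩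
    obtain ⟨x', hx', hxx⟩ := hmem
    rwa [show x = x' from Subtype.ext hxx.symm]
  have hcard : Fintype.card {s : Finset (Fin m) // (s.card : ZMod 2) = i} = 2 ^ (m - 1) := by
    obtain ⟨m', rfl⟩ : ∃ m', m = m' + 1 := ⟨m - 1, by omega⟩
    let tog : Finset (Fin (m' + 1)) → Finset (Fin (m' + 1)) := fun s => if 0 ∈ s then s.erase 0 else insert 0 s
    have htog : ∀ s, tog (tog s) = s := fun s => by
      by_cases h : 0 ∈ s
      · simp [tog, h, Finset.insert_erase h]
      · simp [tog, h]
    have hcardtog : ∀ s, ((tog s).card : ZMod 2) = (s.card : ZMod 2) + 1 := fun s => by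
      by_cases h : 0 ∈ s
      · simp only [tog, if_pos h]
        rw [← Finset.card_erase_add_one h, Nat.cast_add, Nat.cast_one, add_assoc, show (1 : ZMod 2) + 1 = 0 from rfl,
          add_zero]
      · simp [tog, h]
    have h2 : ∀ j : ZMod 2, j + 1 + 1 = j := by decide
    let e : {s : Finset (Fin (m' + 1)) // (s.card : ZMod 2) = i} ≃ {s : Finset (Fin (m' + 1)) // ¬ (s.card : ZMod 2) = i} :=
      { toFun := fun s => ⟨tog s.1, by rw [hcardtog, s.2]; exact zmod_two_succ_ne i⟩
        invFun := fun s => ⟨tog s.1, by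
          have h := s.2
          rw [hcardtog]
          exact (zmod_two_ne _ _ h).2⟩
        left_inv := fun s => Subtype.ext (htog _)
        right_inv := fun s => Subtype.ext (htog _) }
    have h3 := Fintype.card_congr (Equiv.sumCompl fun s : Finset (Fin (m' + 1)) => (s.card : ZMod 2) = i)
    rw [Fintype.card_sum, ← Fintype.card_congr e, Fintype.card_finset, Fintype.card_fin, pow_succ] at h3
    simp only [Nat.add_sub_cancel]
    omega
  exact ⟨(Module.Basis.mk hli hsp).reindex (Fintype.equivFinOfCardEq hcard)⟩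

end spinor

section split

variable {A : Type u} [CommRing A] {V : Type u} [AddCommGroup V] [Module A V] {m : ℕ}

/-- The spin representation of a form with hyperbolic coordinates. -/
theorem exists_spin (Q : QuadraticForm A V) (b : Module.Basis (Fin (m + m)) A V)
    (hQ : ∀ x, Q x = ∑ j : Fin m, b.repr x (finSumFinEquiv (Sum.inl j)) * b.repr x (finSumFinEquiv (Sum.inr j))) :
    ∃ Φ : CliffordAlgebra Q ≃ₐ[A] Module.End A (Spinor A m),
      ∀ x (i : ZMod 2), ∀ y ∈ evenOdd (0 : QuadraticForm A (Fin m → A)) i,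
        Φ (ι Q x) y ∈ evenOdd (0 : QuadraticForm A (Fin m → A)) (i + 1) := by
  let Q₀ : QuadraticForm A (Fin m → A) := 0
  let left : V →ₗ[A] (Fin m → A) := (LinearMap.funLeft A A fun j : Fin m => finSumFinEquiv (Sum.inl j)).comp b.equivFun.toLinearMap
  let right : V →ₗ[A] (Fin m → A) := (LinearMap.funLeft A A fun j : Fin m => finSumFinEquiv (Sum.inr j)).comp b.equivFun.toLinearMap
  let vec : V →ₗ[A] Module.End A (Spinor A m) :=
    (LinearMap.mul A (Spinor A m)).comp ((ι Q₀).comp left) +
      (CliffordAlgebra.contractLeft (Q := Q₀)).comp (((Pi.basisFun A (Fin m)).toDual).comp right)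
  have hvec : ∀ x y, vec x y = ι Q₀ (left x) * y + contractLeft ((Pi.basisFun A (Fin m)).toDual (right x)) y :=
    fun x y => rfl
  have hsq : ∀ x, vec x * vec x = algebraMap A _ (Q x) := fun x => by
    refine LinearMap.ext fun y => ?_
    rw [Module.End.mul_apply, hvec, hvec, Module.algebraMap_end_apply, mul_add, map_add, contractLeft_ι_mul,
      contractLeft_contractLeft, ← mul_assoc, ι_sq_scalar]
    simp only [Q₀, QuadraticMap.zero_apply, map_zero, zero_mul, zero_add, add_zero, add_sub_cancel]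
    rw [toDual_basisFun, hQ]
    congr 1
    refine Finset.sum_congr rfl fun j _ => ?_
    simp [left, right, LinearMap.funLeft_apply, mul_comm]
  let Φ : CliffordAlgebra Q →ₐ[A] Module.End A (Spinor A m) := CliffordAlgebra.lift Q ⟨vec, hsq⟩
  have hΦι : ∀ x, Φ (ι Q x) = vec x := fun x => lift_ι_apply _ _ _
  have hgen : ∀ z : Fin m ⊕ Fin m → A, ∃ x, (fun j => b.equivFun x (finSumFinEquiv (Sum.inl j))) = z ∘ Sum.inl ∧
      (fun j => b.equivFun x (finSumFinEquiv (Sum.inr j))) = z ∘ Sum.inr := fun z =>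
    ⟨b.equivFun.symm (z ∘ finSumFinEquiv.symm), funext fun j => by rw [LinearEquiv.apply_symm_apply, Function.comp_apply, Equiv.symm_apply_apply, Function.comp_apply],
      funext fun j => by rw [LinearEquiv.apply_symm_apply, Function.comp_apply, Equiv.symm_apply_apply, Function.comp_apply]⟩
  have hL : ∀ a : CliffordAlgebra Q₀, LinearMap.mulLeft A a ∈ Φ.range := by
    intro a
    induction a using CliffordAlgebra.left_induction with
    | algebraMap r =>
      rw [show LinearMap.mulLeft A (algebraMap A (CliffordAlgebra Q₀) r) = algebraMap A _ r from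
        LinearMap.ext fun y => by simp [Algebra.smul_def]]
      exact Φ.range.algebraMap_mem r
    | add a c ha hc =>
      rw [show LinearMap.mulLeft A (a + c) = LinearMap.mulLeft A a + LinearMap.mulLeft A c from
        LinearMap.ext fun y => add_mul a c y]
      exact add_mem ha hc
    | ι_mul a v ha =>
      obtain ⟨x, hx1, hx2⟩ := hgen (Sum.elim v 0)
      rw [LinearMap.mulLeft_mul]
      refine mul_mem ⟨ι Q x, LinearMap.ext fun y => ?_⟩ ha
      show Φ (ι Q x) y = ι Q₀ v * y
      rw [hΦι, hvec, show left x = v from hx1, show right x = 0 from hx2, map_zero, map_zero, LinearMap.zero_apply,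
        add_zero]
  have hd : ∀ i, contractLeft ((Pi.basisFun A (Fin m)).coord i) ∈ Φ.range := fun i => by
    obtain ⟨x, hx1, hx2⟩ := hgen (Sum.elim 0 (Pi.single i 1))
    refine ⟨ι Q x, LinearMap.ext fun y => ?_⟩
    show Φ (ι Q x) y = _
    rw [hΦι, hvec, show left x = 0 from hx1, show right x = Pi.single i 1 from hx2, map_zero, zero_mul, zero_add,
      ← Pi.basisFun_apply, Module.Basis.coe_toDual_self]
  have hsurj : Function.Surjective Φ := fun T => by
    have h : T ∈ Φ.range := (eq_top_of_mulLeft_contract (S := Φ.range) (b := Pi.basisFun A (Fin m)) hL hd) ▸ Algebra.mem_top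
    exact h
  have hbij : Function.Bijective Φ := by
    let bV := cliffBasis (Q := Q₀) (Pi.basisFun A (Fin m))
    let bE := bV.linearMap bV
    let bC := cliffBasis (Q := Q) b
    have hc : Fintype.card (Finset (Fin (m + m))) = Fintype.card (Finset (Fin m) × Finset (Fin m)) := by
      simp [pow_add]
    haveI := Module.Finite.of_basis bC
    let e : Module.End A (Spinor A m) ≃ₗ[A] CliffordAlgebra Q := bE.equiv bC (Fintype.equivOfCardEq hc.symm)
    have hi := OrzechProperty.injective_of_surjective_endomorphism (e.toLinearMap.comp Φ.toLinearMap)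
      (e.surjective.comp hsurj)
    exact ⟨fun p q hpq => hi (congrArg e hpq), hsurj⟩
  refine ⟨AlgEquiv.ofBijective Φ hbij, fun x i y hy => ?_⟩
  show Φ (ι Q x) y ∈ _
  rw [hΦι, hvec]
  rcases ((by decide : ∀ j : ZMod 2, j = 0 ∨ j = 1) i) with rfl | rfl
  · rw [zero_add]
    exact add_mem (ι_mul_mem_odd _ hy) ((contract_mem _ y).1 hy)
  · rw [show (1 : ZMod 2) + 1 = 0 from rfl]
    exact add_mem (ι_mul_mem_even _ hy) ((contract_mem _ y).2 hy)

/-- The two matrix algebras. -/
theorem exists_matrix (hm : 1 ≤ m) (Q : QuadraticForm A V) (b : Module.Basis (Fin (m + m)) A V)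
    (hQ : ∀ x, Q x = ∑ j : Fin m, b.repr x (finSumFinEquiv (Sum.inl j)) * b.repr x (finSumFinEquiv (Sum.inr j))) :
    Nonempty (CliffordAlgebra Q ≃ₐ[A] Matrix (Fin (2 ^ m)) (Fin (2 ^ m)) A) ∧
    Nonempty (CliffordAlgebra.even Q ≃ₐ[A]
      (Matrix (Fin (2 ^ (m - 1))) (Fin (2 ^ (m - 1))) A × Matrix (Fin (2 ^ (m - 1))) (Fin (2 ^ (m - 1))) A)) := by
  classical
  obtain ⟨Φ, hΦ⟩ := exists_spin Q b hQ
  let Q₀ : QuadraticForm A (Fin m → A) := 0
  let bV := (cliffBasis (Q := Q₀) (Pi.basisFun A (Fin m))).reindex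
    (Fintype.equivFinOfCardEq (show Fintype.card (Finset (Fin m)) = 2 ^ m by simp))
  refine ⟨⟨Φ.trans (LinearMap.toMatrixAlgEquiv bV)⟩, ?_⟩
  have h11 : ∀ i : ZMod 2, i + 1 + 1 = i := by decide
  have hpres : ∀ a ∈ evenOdd Q 0, ∀ (i : ZMod 2), ∀ y ∈ evenOdd Q₀ i, Φ a y ∈ evenOdd Q₀ i := by
    intro a ha
    induction a, ha using CliffordAlgebra.even_induction with
    | algebraMap r => intro i y hy; rw [AlgEquiv.commutes, Module.algebraMap_end_apply]; exact Submodule.smul_mem _ _ hy
    | add a c _ _ ha hc => intro i y hy; rw [map_add, LinearMap.add_apply]; exact add_mem (ha i y hy) (hc i y hy)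
    | ι_mul_ι_mul m₁ m₂ a _ ha =>
      intro i y hy
      rw [map_mul, map_mul, Module.End.mul_apply, Module.End.mul_apply]
      have := hΦ m₁ _ _ (hΦ m₂ _ _ (ha i y hy))
      rwa [h11] at this
  have hswap : ∀ a ∈ evenOdd Q 1, ∀ (i : ZMod 2), ∀ y ∈ evenOdd Q₀ i, Φ a y ∈ evenOdd Q₀ (i + 1) := by
    intro a ha
    induction a, ha using CliffordAlgebra.odd_induction with
    | ι v => intro i y hy; exact hΦ v i y hy
    | add a c _ _ ha hc => intro i y hy; rw [map_add, LinearMap.add_apply]; exact add_mem (ha i y hy) (hc i y hy)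
    | ι_mul_ι_mul m₁ m₂ a _ ha =>
      intro i y hy
      rw [map_mul, map_mul, Module.End.mul_apply, Module.End.mul_apply]
      have := hΦ m₁ _ _ (hΦ m₂ _ _ (ha i y hy))
      rwa [h11] at this
  have hev : ∀ a : CliffordAlgebra.even Q, (a : CliffordAlgebra Q) ∈ evenOdd Q 0 := fun a => by
    have := a.2
    rwa [← Subalgebra.mem_toSubmodule, CliffordAlgebra.even_toSubmodule] at this
  let res : ∀ i : ZMod 2, CliffordAlgebra.even Q → Module.End A (evenOdd Q₀ i) := fun i a =>
    (Φ (a : CliffordAlgebra Q)).restrict (hpres _ (hev a) i)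
  have hres : ∀ i a y, ((res i a y : evenOdd Q₀ i) : CliffordAlgebra Q₀) = Φ (a : CliffordAlgebra Q) y := fun i a y => rfl
  let ρ : ∀ i : ZMod 2, CliffordAlgebra.even Q →ₐ[A] Module.End A (evenOdd Q₀ i) := fun i =>
    AlgHom.ofLinearMap
      { toFun := res i
        map_add' := fun a c => LinearMap.ext fun y => Subtype.ext (by
          rw [LinearMap.add_apply, Submodule.coe_add, hres, hres, hres, Subalgebra.coe_add, map_add, LinearMap.add_apply])
        map_smul' := fun r a => LinearMap.ext fun y => Subtype.ext (by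
          rw [RingHom.id_apply, LinearMap.smul_apply, Submodule.coe_smul, hres, hres, Subalgebra.coe_smul, map_smul,
            LinearMap.smul_apply]) }
      (LinearMap.ext fun y => Subtype.ext (show Φ ((1 : CliffordAlgebra.even Q) : CliffordAlgebra Q) y = y by
        rw [OneMemClass.coe_one, map_one, Module.End.one_apply]))
      (fun a c => LinearMap.ext fun y => Subtype.ext (show Φ ((a * c : CliffordAlgebra.even Q) : CliffordAlgebra Q) y =
          Φ (a : CliffordAlgebra Q) (Φ (c : CliffordAlgebra Q) y) by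
        rw [Subalgebra.coe_mul, map_mul, Module.End.mul_apply]))
  let θ : CliffordAlgebra.even Q →ₐ[A] Module.End A (evenOdd Q₀ 0) × Module.End A (evenOdd Q₀ 1) := (ρ 0).prod (ρ 1)
  have hθ : Function.Bijective θ := by
    constructor
    · refine (injective_iff_map_eq_zero θ).2 fun a ha => Subtype.ext (Φ.injective ?_)
      rw [ZeroMemClass.coe_zero, map_zero]
      refine LinearMap.ext fun y => ?_
      obtain ⟨y₀, h0, y₁, h1, rfl⟩ := exists_even_odd y
      have e0 : Φ (a : CliffordAlgebra Q) y₀ = 0 := congrArg Subtype.val (LinearMap.congr_fun (congrArg Prod.fst ha) ⟨y₀, h0⟩)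
      have e1 : Φ (a : CliffordAlgebra Q) y₁ = 0 := congrArg Subtype.val (LinearMap.congr_fun (congrArg Prod.snd ha) ⟨y₁, h1⟩)
      rw [map_add, e0, e1, add_zero, LinearMap.zero_apply]
    · rintro ⟨g0, g1⟩
      let pr0 := (evenOdd Q₀ 0).projectionOnto (evenOdd Q₀ 1) (evenOdd_isCompl (Q := Q₀))
      let pr1 := (evenOdd Q₀ 1).projectionOnto (evenOdd Q₀ 0) (evenOdd_isCompl (Q := Q₀)).symm
      obtain ⟨a, ha⟩ := Φ.surjective
        ((evenOdd Q₀ 0).subtype.comp (g0.comp pr0) + (evenOdd Q₀ 1).subtype.comp (g1.comp pr1))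
      obtain ⟨a₀, h0, a₁, h1, rfl⟩ := exists_even_odd a
      have hT0 : ∀ y : evenOdd Q₀ 0, Φ (a₀ + a₁) y = g0 y := fun y => by
        rw [ha]
        simp [pr0, pr1, Submodule.projectionOnto_apply_left, Submodule.projectionOnto_apply_right]
      have hT1 : ∀ y : evenOdd Q₀ 1, Φ (a₀ + a₁) y = g1 y := fun y => by
        rw [ha]
        simp [pr0, pr1, Submodule.projectionOnto_apply_left, Submodule.projectionOnto_apply_right]
      refine ⟨⟨a₀, by rw [← Subalgebra.mem_toSubmodule, CliffordAlgebra.even_toSubmodule]; exact h0⟩, Prod.ext ?_ ?_⟩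
      · refine LinearMap.ext fun y => Subtype.ext ?_
        show Φ a₀ (y : CliffordAlgebra Q₀) = _
        have h := hT0 y
        rw [map_add, LinearMap.add_apply] at h
        refine sub_eq_zero.1 (eq_zero_of_even_of_odd (sub_mem (hpres _ h0 0 y y.2) (g0 y).2) ?_)
        rw [← h, sub_add_cancel_left]
        exact neg_mem (by simpa using hswap _ h1 0 y y.2)
      · refine LinearMap.ext fun y => Subtype.ext ?_
        show Φ a₀ (y : CliffordAlgebra Q₀) = _
        have h := hT1 y
        rw [map_add, LinearMap.add_apply] at h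
        refine sub_eq_zero.1 (eq_zero_of_even_of_odd ?_ (sub_mem (hpres _ h0 1 y y.2) (g1 y).2))
        rw [← h, sub_add_cancel_left]
        exact neg_mem (by simpa [show (1 : ZMod 2) + 1 = 0 from rfl] using hswap _ h1 1 y y.2)
  obtain ⟨b0⟩ := exists_half_basis (A := A) hm 0
  obtain ⟨b1⟩ := exists_half_basis (A := A) hm 1
  exact ⟨(AlgEquiv.ofBijective θ hθ).trans
    (AlgEquiv.prodCongr (LinearMap.toMatrixAlgEquiv b0) (LinearMap.toMatrixAlgEquiv b1))⟩

end split

section main

variable {R : Type u} [CommRing R] {V : Type u} [AddCommGroup V] [Module R V] [Module.Free R V] [Module.Finite R V]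
  {Q : QuadraticForm R V} {m : ℕ}

/-- Fppf locally the Clifford algebra is split. -/
theorem exists_fppf_matrix (hm : 1 ≤ m) (hV : Module.finrank R V = 2 * m) (hQ : QuadGrp.IsRegular Q) [Nontrivial R] :
    ∃ (A : Type u) (_ : CommRing A) (_ : Algebra R A), Module.FaithfullyFlat R A ∧ Algebra.FinitePresentation R A ∧
      Nonempty ((A ⊗[R] CliffordAlgebra Q) ≃ₐ[A] Matrix (Fin (2 ^ m)) (Fin (2 ^ m)) A) ∧
      Nonempty ((A ⊗[R] CliffordAlgebra.even Q) ≃ₐ[A]
        (Matrix (Fin (2 ^ (m - 1))) (Fin (2 ^ (m - 1))) A × Matrix (Fin (2 ^ (m - 1))) (Fin (2 ^ (m - 1))) A)) := by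
  classical
  let b : Module.Basis (Fin (m + m)) R V := Module.finBasisOfFinrankEq R V (by omega)
  obtain ⟨A, _, _, het, hff, G, hG, hcf⟩ := exists_etale_split (m := m) (QuadLib.liftMat b Q) (by
    rw [← QuadLib.polarMat_eq]; exact isUnit_det_of_regular b hQ)
  let bA := b.baseChange A
  let e := Matrix.toLinearEquiv bA G hG
  let b' : Module.Basis (Fin (m + m)) A (A ⊗[R] V) := bA.map e
  have hQA : ∀ x, QuadGrp.baseChangeForm A Q x =
      ∑ j : Fin m, b'.repr x (finSumFinEquiv (Sum.inl j)) * b'.repr x (finSumFinEquiv (Sum.inr j)) := fun x => by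
    rw [← qv_split, QuadLib.baseChangeForm_eq b (Q := Q) A x]
    have hx : ((b.baseChange A).repr x : Fin (m + m) → A) = Matrix.mulVec G (b'.repr x : Fin (m + m) → A) := by
      have := LinearMap.toMatrix_mulVec_repr bA bA e.toLinearMap (e.symm x)
      rw [show LinearMap.toMatrix bA bA e.toLinearMap = G from LinearMap.toMatrix_toLin _ _ G,
        LinearEquiv.coe_toLinearMap, e.apply_symm_apply] at this
      exact this.symm
    rw [hx, QuadLib.qv_transpose_mul_mul, ← sub_eq_zero, ← dotProduct_sub, ← Matrix.sub_mulVec]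
    refine (QuadLib.qv_eq_zero_iff _).2 ?_ _
    rw [QuadLib.cf_sub, hcf, sub_self]
  obtain ⟨⟨Φ⟩, ⟨Ψ⟩⟩ := exists_matrix hm (QuadGrp.baseChangeForm A Q) b' hQA
  obtain ⟨ε⟩ := exists_even_bc_equiv A Q
  haveI := het
  exact ⟨A, inferInstance, inferInstance, hff, inferInstance, ⟨(bcEquiv A Q).trans Φ⟩, ⟨ε.trans Ψ⟩⟩

open Et18.EvenAz (span_nearSet nearSet cen)

/-- Odd elements commuting with all near Arf elements vanish. -/
theorem odd_eq_zero (hV : Module.finrank R V = 2 * m) (hQ : QuadGrp.IsRegular Q) [Nontrivial R]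
    {a : CliffordAlgebra Q} (ha : a ∈ evenOdd Q 1)
    (hc : ∀ t r y, NearArf Q t r y → a * y = y * a) : a = 0 := by
  let J : Ideal R := LinearMap.ker (LinearMap.toSpanSingleton R _ a)
  have hJ : (1 : R) ∈ J := by
    refine (Ideal.span_le.2 ?_ : Ideal.span (nearSet Q) ≤ J) (span_nearSet hV hQ ▸ Submodule.mem_top)
    rintro r ⟨t, y, hy⟩
    have e1 : (algebraMap R _ t - 2 * y) * a = 0 := by
      have e2 := odd_mul_rel hy.rel ha
      rw [hc t r y hy, sub_mul] at e2
      rw [sub_mul, two_mul, add_mul]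
      nth_rw 1 [e2]
      noncomm_ring
    show r • a = 0
    rw [Algebra.smul_def, ← hy.sq, mul_assoc, e1, mul_zero]
  simpa [J] using hJ

theorem center_eq_bot (hV : Module.finrank R V = 2 * m) (hQ : QuadGrp.IsRegular Q) [Nontrivial R] :
    Subalgebra.center R (CliffordAlgebra Q) = ⊥ := by
  refine eq_bot_iff.2 fun y hy => ?_
  obtain ⟨y₀, h0, y₁, h1, rfl⟩ := exists_even_odd y
  have hp := central_parts h0 h1 rfl ((mem_center_iff _).1 hy)
  obtain ⟨c, hc⟩ := CliffStr.even_central_mem_range (Module.finBasis R V) hQ h0 fun x => (hp x).1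
  have h1' : y₁ = 0 := odd_eq_zero hV hQ h1 fun t r y hy => by
    have h2 : y₁ ∈ Subalgebra.center R (CliffordAlgebra Q) := (mem_center_iff _).2 fun x => (hp x).2
    exact (Subalgebra.mem_center_iff.1 h2 y).symm
  exact Algebra.mem_bot.2 ⟨c, by rw [h1', add_zero]; exact hc.symm⟩

theorem centralizer_centre (hV : Module.finrank R V = 2 * m) (hQ : QuadGrp.IsRegular Q) [Nontrivial R] :
    Subalgebra.centralizer R
      ((CliffordAlgebra.even Q).val '' (Subalgebra.center R (CliffordAlgebra.even Q) : Set (CliffordAlgebra.even Q))) =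
      CliffordAlgebra.even Q := by
  refine le_antisymm (fun a ha => ?_) fun a ha => ?_
  · rw [Subalgebra.mem_centralizer_iff] at ha
    obtain ⟨a₀, h0, a₁, h1, rfl⟩ := exists_even_odd a
    have h1' : a₁ = 0 := odd_eq_zero hV hQ h1 fun t r y hy => by
      have h2 := ha y ⟨(cen hy : Et18.EvenAz.C0 Q), (cen hy).2, rfl⟩
      have h3 := CliffStr.commute_even (CliffStr.pair_commute_of_rel hy.rel) h0
      rw [mul_add, add_mul, ← h3] at h2
      exact (add_left_cancel h2).symm
    rw [h1', add_zero, ← Subalgebra.mem_toSubmodule, CliffordAlgebra.even_toSubmodule]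
    exact h0
  · rw [Subalgebra.mem_centralizer_iff]
    rintro _ ⟨z, hz, rfl⟩
    exact (congrArg Subtype.val (Subalgebra.mem_center_iff.1 hz ⟨a, ha⟩)).symm

omit [Module.Finite R V] in
theorem ι_injective_summand : Function.Injective (ι Q) ∧
    ∃ W : Submodule R (CliffordAlgebra Q), IsCompl (LinearMap.range (ι Q)) W := by
  obtain ⟨B, hB⟩ := CliffStr.exists_toExterior Q
  let π : CliffordAlgebra Q →ₗ[R] V := (ExteriorAlgebra.ιInv).comp (changeForm hB)
  have hπ : ∀ x, π (ι Q x) = x := fun x => by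
    show ExteriorAlgebra.ιInv (changeForm hB (ι Q x)) = x
    rw [changeForm_ι]
    exact ExteriorAlgebra.ι_leftInverse x
  refine ⟨fun x y h => by rw [← hπ x, ← hπ y, h], LinearMap.ker π, isCompl_iff.2 ⟨?_, ?_⟩⟩
  · refine Submodule.disjoint_def.2 ?_
    rintro _ ⟨x, rfl⟩ hx
    rw [LinearMap.mem_ker, hπ] at hx
    rw [hx, map_zero]
  · refine codisjoint_iff.2 (eq_top_iff.2 fun y _ => Submodule.mem_sup.2
      ⟨ι Q (π y), ⟨_, rfl⟩, y - ι Q (π y), ?_, add_sub_cancel _ _⟩)
    rw [LinearMap.mem_ker, map_sub, hπ, sub_self]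

end main

end Groth.Agent.CommAlg4.CliffEven
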