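import Mathlib

/-!
# Commutator pairing of a group with central commutators
-/

set_option autoImplicit false

universe u

namespace Groth.Agent.CommAlg4.CommPairing

open Subgroup
open scoped commutatorElement

/-- The number of characters is at most the order of the group. -/
theorem natCard_monoidHom_le {G : Type*} [Group G] [Finite G] {K : Type*} [Field K] :
    Finite (G →* Kˣ) ∧ Nat.card (G →* Kˣ) ≤ Nat.card G := by
  classical
  haveI := Fintype.ofFinite G
  have hli := linearIndependent_monoidHom G K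
  haveI : Finite (G →* K) := hli.finite
  haveI := Fintype.ofFinite (G →* K)
  let ι : (G →* Kˣ) → (G →* K) := fun f => (Units.coeHom K).comp f
  have hι : Function.Injective ι := fun f g h => MonoidHom.ext fun x => Units.ext (DFunLike.congr_fun h x)
  refine ⟨Finite.of_injective ι hι, (Nat.card_le_card_of_injective ι hι).trans ?_⟩
  have := hli.fintype_card_le_finrank
  rw [Module.finrank_fintype_fun_eq_card] at this
  simpa [Nat.card_eq_fintype_card] using this

/-- If the characters `B x` kill `M`, the kernel of `B` has index at most that of `M`. -/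
theorem index_ker_le {X Y : Type*} [Group X] [Group Y] {K : Type*} [Field K] (B : X →* (Y →* Kˣ))
    (M : Subgroup Y) [M.Normal] [M.FiniteIndex] (hM : ∀ x, ∀ y ∈ M, B x y = 1) :
    B.ker.FiniteIndex ∧ B.ker.index ≤ M.index := by
  obtain ⟨hfin, hle⟩ := natCard_monoidHom_le (G := Y ⧸ M) (K := K)
  let f : X ⧸ B.ker → (Y ⧸ M →* Kˣ) := fun q => Quotient.liftOn' q
    (fun x => QuotientGroup.lift M (B x) (fun y hy => hM x y hy)) (fun a b hab => by
      have h : B a = B b := by
        rw [QuotientGroup.leftRel_apply, MonoidHom.mem_ker, map_mul, map_inv] at hab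
        exact inv_mul_eq_one.1 hab
      refine QuotientGroup.monoidHom_ext _ (MonoidHom.ext fun y => ?_)
      exact DFunLike.congr_fun h y)
  have hf : Function.Injective f := by
    intro p q h
    induction p using QuotientGroup.induction_on with | _ a => ?_
    induction q using QuotientGroup.induction_on with | _ b => ?_
    rw [QuotientGroup.eq, MonoidHom.mem_ker, map_mul, map_inv, inv_mul_eq_one]
    exact MonoidHom.ext fun y => DFunLike.congr_fun h (QuotientGroup.mk y)
  haveI : Finite (X ⧸ B.ker) := Finite.of_injective f hf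
  exact ⟨Subgroup.finiteIndex_of_finite_quotient, (Nat.card_le_card_of_injective f hf).trans hle⟩

variable {K : Type*} [Field K] {Γ : Type u} [Group Γ] (ι : Kˣ →* Γ) (hι : Function.Injective ι)
  (hcent : ι.range = Subgroup.center Γ) (hcomm : commutator Γ ≤ ι.range)

include hι hcent hcomm

theorem exists_pairing : ∃ e : Γ →* (Γ →* Kˣ), ∀ x y, ι (e x y) = ⁅x, y⁆ := by
  have hmem : ∀ x y : Γ, ⁅x, y⁆ ∈ ι.range := fun x y =>
    hcomm (Subgroup.commutator_mem_commutator (Subgroup.mem_top x) (Subgroup.mem_top y))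
  choose e he using hmem
  have hc : ∀ (a b c : Γ), a * ⁅b, c⁆ * a⁻¹ = ⁅b, c⁆ := fun a b c => by
    have : ⁅b, c⁆ ∈ Subgroup.center Γ := hcent ▸ ⟨e b c, he b c⟩
    rw [Subgroup.mem_center_iff.1 this a, mul_inv_cancel_right]
  have hr : ∀ x y z, e x (y * z) = e x y * e x z := fun x y z => hι (by
    rw [map_mul, he, he, he, ← hc y x z]
    simp only [commutatorElement_def, mul_inv_rev, mul_assoc, inv_mul_cancel_left])
  have hl : ∀ x y z, e (x * y) z = e x z * e y z := fun x y z => hι (by
    rw [map_mul, he, he, he]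
    have h2 : ⁅x, z⁆ * ⁅y, z⁆ = ⁅y, z⁆ * ⁅x, z⁆ := by
      have : ⁅y, z⁆ ∈ Subgroup.center Γ := hcent ▸ ⟨e y z, he y z⟩
      exact Subgroup.mem_center_iff.1 this _
    rw [h2]
    conv_rhs => rw [← hc x y z]
    simp only [commutatorElement_def, mul_inv_rev, mul_assoc, inv_mul_cancel_left])
  exact ⟨MonoidHom.mk' (fun x => MonoidHom.mk' (e x) (hr x)) (fun a b => MonoidHom.ext (hl a b)), he⟩

theorem index_centralizer_eq [ι.range.FiniteIndex] (H : Subgroup Γ) (hH : ι.range ≤ H) :
    (Subgroup.centralizer (H : Set Γ)).index = ι.range.relIndex H := by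
  classical
  obtain ⟨e, he⟩ := exists_pairing ι hι hcent hcomm
  have he1 : ∀ x y, e x y = 1 ↔ y * x = x * y := fun x y => by
    rw [← hι.eq_iff, map_one, he, commutatorElement_eq_one_iff_mul_comm]
    exact eq_comm
  -- `Γ` against `H / Z`
  let B : Γ →* (H →* Kˣ) := MonoidHom.mk' (fun x => (e x).comp H.subtype)
    (fun a b => MonoidHom.ext fun y => by simp)
  have hker : B.ker = Subgroup.centralizer (H : Set Γ) := by
    ext x
    rw [MonoidHom.mem_ker, Subgroup.mem_centralizer_iff, DFunLike.ext_iff]
    exact ⟨fun h y hy => (he1 x y).1 (h ⟨y, hy⟩), fun h y => (he1 x y).2 (h y y.2)⟩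
  have hcenter : ∀ z ∈ ι.range, ∀ g, g * z = z * g := fun z hz g =>
    Subgroup.mem_center_iff.1 (hcent ▸ hz) g
  haveI : (ι.range.subgroupOf H).Normal := ⟨fun z hz g => by
    have h := hcenter z.1 hz g.1
    have : g * z * g⁻¹ = z := Subtype.ext (by simp [h])
    rw [this]; exact hz⟩
  haveI : (ι.range.subgroupOf H).FiniteIndex := inferInstance
  obtain ⟨hfi, h1⟩ := index_ker_le B (ι.range.subgroupOf H)
    (fun x y hy => (he1 x y).2 (hcenter y.1 hy x).symm)
  rw [hker] at hfi h1
  haveI := hfi
  -- `H` against `Γ / C(H)`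
  haveI hn : (Subgroup.centralizer (H : Set Γ)).Normal := by rw [← hker]; infer_instance
  let B' : H →* (Γ →* Kˣ) := e.comp H.subtype
  have hker' : B'.ker = ι.range.subgroupOf H := by
    ext y
    rw [MonoidHom.mem_ker, Subgroup.mem_subgroupOf, hcent, Subgroup.mem_center_iff, DFunLike.ext_iff]
    exact ⟨fun h g => (he1 y.1 g).1 (h g), fun h g => (he1 y.1 g).2 (h g)⟩
  obtain ⟨-, h2⟩ := index_ker_le B' (Subgroup.centralizer (H : Set Γ))
    (fun y x hx => (he1 y.1 x).2 (Subgroup.mem_centralizer_iff.1 hx y.1 y.2).symm)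
  rw [hker'] at h2
  exact le_antisymm h1 h2

end Groth.Agent.CommAlg4.CommPairing
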