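import Mathlib.RingTheory.Ideal.KrullsHeightTheorem
import Mathlib.RingTheory.Nullstellensatz
import Mathlib.RingTheory.MvPolynomial.Basic

/-!
# Fewer equations than unknowns have a non-zero common solution
-/

set_option autoImplicit false
universe u

open MvPolynomial

namespace Groth.Agent.CommAlg4

/-- Fewer than `N` polynomials vanishing at the origin of `k^N` vanish at another point. -/
theorem exists_ne_zero_common_zero {k : Type u} [Field k] [IsAlgClosed k] {N : ℕ} {ι : Type*} (T : Finset ι)
    (p : ι → MvPolynomial (Fin N) k) (h0 : ∀ i ∈ T, eval 0 (p i) = 0) (hT : T.card < N) :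
    ∃ x : Fin N → k, x ≠ 0 ∧ ∀ i ∈ T, eval x (p i) = 0 := by
  classical
  by_contra! hall
  let m : Ideal (MvPolynomial (Fin N) k) := RingHom.ker (eval (0 : Fin N → k))
  have hm : m.IsPrime := RingHom.ker_isPrime _
  let s : Finset (MvPolynomial (Fin N) k) := T.image p
  have hle : Ideal.span (s : Set (MvPolynomial (Fin N) k)) ≤ m := by
    rw [Ideal.span_le]
    intro q hq
    obtain ⟨i, hi, rfl⟩ := Finset.mem_image.1 (Finset.mem_coe.1 hq)
    exact h0 i hi
  have hmin : m ∈ (Ideal.span (s : Set (MvPolynomial (Fin N) k))).minimalPrimes := by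
    refine ⟨⟨hm, hle⟩, fun J hJ _ => ?_⟩
    intro q hq
    have hq' : q ∈ vanishingIdeal k (zeroLocus k (Ideal.span (s : Set (MvPolynomial (Fin N) k)))) := by
      rw [mem_vanishingIdeal_iff]
      intro x hx
      by_cases hx0 : x = 0
      · subst hx0
        rw [aeval_eq_eval]
        exact hq
      · obtain ⟨i, hi, hne⟩ := hall x hx0
        exact absurd (by
          have := hx (p i) (Ideal.subset_span (Finset.mem_coe.2 (Finset.mem_image_of_mem p hi)))
          rwa [aeval_eq_eval] at this) hne
    rw [vanishingIdeal_zeroLocus_eq_radical] at hq'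
    exact (hJ.1.radical_le_iff.2 hJ.2) hq'
  have h1 := Ideal.height_le_card_of_mem_minimalPrimes_span_finset hmin
  let ev : ℕ → (MvPolynomial (Fin N) k →ₐ[k] MvPolynomial (Fin N) k) := fun j =>
    aeval fun i => if i.1 < j then 0 else X i
  have hp : ∀ j, (RingHom.ker (ev j).toRingHom).IsPrime := fun j => RingHom.ker_isPrime _
  have hlt : ∀ j, j < N → RingHom.ker (ev j).toRingHom < RingHom.ker (ev (j + 1)).toRingHom := fun j hj => by
    have hc : (ev (j + 1)).comp (ev j) = ev (j + 1) := MvPolynomial.algHom_ext fun i => by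
      simp only [ev, AlgHom.comp_apply, aeval_X]
      split_ifs with h1 h2 <;> simp_all
      omega
    refine lt_of_le_of_ne (fun q hq => ?_) fun heq => ?_
    · rw [RingHom.mem_ker] at hq ⊢
      rw [← hc]
      show ev (j + 1) (ev j q) = 0
      rw [show ev j q = 0 from hq, map_zero]
    · have h2 : (X ⟨j, hj⟩ : MvPolynomial (Fin N) k) ∈ RingHom.ker (ev (j + 1)).toRingHom := by
        simp [ev, RingHom.mem_ker]
      rw [← heq, RingHom.mem_ker] at h2
      simp [ev, X_ne_zero] at h2
  have hh : ∀ j, j ≤ N → (j : ℕ∞) ≤ (RingHom.ker (ev j).toRingHom).height := fun j => by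
    induction j with
    | zero => simp
    | succ j ih =>
      intro hj
      have := hp j
      have := hp (j + 1)
      refine le_trans ?_ (Ideal.height_add_one_le_of_lt_of_isPrime (hlt j (by omega)))
      push_cast
      exact add_le_add_left (ih (by omega)) 1
  have hmN : RingHom.ker (ev N).toRingHom ≤ m := fun q hq => by
    rw [RingHom.mem_ker] at hq ⊢
    have h3 : (eval (0 : Fin N → k)).comp (ev N).toRingHom = eval 0 :=
      ringHom_ext (fun r => by simp [ev]) fun i => by simp [ev, i.2]
    rw [← h3, RingHom.comp_apply]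
    show eval 0 ((ev N).toRingHom q) = 0
    rw [hq, map_zero]
  have h4 := (hh N le_rfl).trans ((Ideal.height_mono hmN).trans h1)
  have h5 : s.card ≤ T.card := Finset.card_image_le
  have h6 : N ≤ s.card := by exact_mod_cast h4
  omega

end Groth.Agent.CommAlg4
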