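import Groth.Agent.FlatMorAdm.Nagata

/-!
# Refining a compactification so that disjoint closed subsets keep disjoint closures
-/

set_option autoImplicit false
set_option backward.isDefEq.respectTransparency.types false

universe u v

open CategoryTheory Limits AlgebraicGeometry TopologicalSpace

namespace Groth.Agent.CommAlg4

open Groth.Agent.FlatMorAdm Groth.Agent.BlowUpLib in
/-- One admissible blow-up of a proper Noetherian compactification separates one disjoint pair. -/
theorem exists_refine_disjoint_one {X Y S : Scheme.{u}} [IsLocallyNoetherian S] [CompactSpace S]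
    (j : X ⟶ Y) [IsOpenImmersion j] (p : Y ⟶ S) [IsProper p]
    (C₁ C₂ : Set X) (h₁ : IsClosed C₁) (h₂ : IsClosed C₂) (hd : C₁ ∩ C₂ = ∅) :
    ∃ (Y' : Scheme.{u}) (c : Y' ⟶ Y) (j' : X ⟶ Y'), IsProper c ∧ IsOpenImmersion j' ∧ j' ≫ c = j ∧
      closure (j'.base '' C₁) ∩ closure (j'.base '' C₂) = ∅ := by
  haveI : CompactSpace Y := QuasiCompact.compactSpace_of_compactSpace p
  haveI : IsLocallyNoetherian Y := LocallyOfFiniteType.isLocallyNoetherian p
  haveI : IsNoetherian Y := {}
  obtain ⟨E, hE, hsep⟩ := exists_separating_blowUp (𝟙 Y) j.opensRange (NoetherianSpace.isCompact _)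
    (closure (j.base '' C₂)) isClosed_closure (NoetherianSpace.isCompact _)
    (closure (j.base '' C₁)) isClosed_closure ∅ isClosed_empty (by
      intro z hz₁ hz₂ hzV
      obtain ⟨x, hx⟩ := (hzV : z ∈ Set.range j.base)
      have key : ∀ C : Set X, IsClosed C → z ∈ closure (j.base '' C) → x ∈ C := fun C hC hz => by
        have : x ∈ closure C := by
          rw [j.isOpenEmbedding.isInducing.closure_eq_preimage_closure_image]
          show j.base x ∈ closure (j.base '' C)
          rw [hx]; exact hz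
        rwa [hC.closure_eq] at this
      exact (Set.eq_empty_iff_forall_notMem.1 hd x ⟨key C₁ h₁ hz₁, key C₂ h₂ hz₂⟩).elim)
  obtain ⟨Y', c, hc⟩ := exists_isBlowUp (I := E)
  haveI : IsProper c := isProper_of_isBlowUp hc hE.1
  obtain ⟨j', hj', hjo⟩ := exists_lift_of_isIso c j.opensRange
    (ProjLib.isIso_morphismRestrict hc _ hE.2) j le_rfl
  refine ⟨Y', c, j', ‹_›, hjo inferInstance, hj', ?_⟩
  rw [Set.eq_empty_iff_forall_notMem]
  rintro z ⟨hz₁, hz₂⟩
  have hsub : ∀ C : Set X, j'.base '' C ⊆ c ⁻¹' (closure (j.base '' C) ∩ (j.opensRange : Set Y)) := by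
    rintro C _ ⟨x, hx, rfl⟩
    have e : c (j' x) = j x := by rw [← Scheme.Hom.comp_apply, hj']
    exact ⟨(congrArg (· ∈ closure (j.base '' C)) e).mpr (subset_closure ⟨x, hx, rfl⟩),
      (congrArg (· ∈ (j.opensRange : Set Y)) e).mpr ⟨x, rfl⟩⟩
  exact hsep Y' c hc Y' c (𝟙 _) (by simp) z
    (closure_mono (by simpa using hsub C₁) hz₁) (closure_mono (by simpa using hsub C₂) hz₂)

/-- A finite family of disjoint pairs of closed subsets can be separated in a finer compactification. -/
theorem exists_refine_disjoint {X Y S : Scheme.{u}} [IsLocallyNoetherian S] [CompactSpace S]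
    (j : X ⟶ Y) [IsOpenImmersion j] (p : Y ⟶ S) [IsProper p]
    {ι : Type v} [Finite ι] (C₁ C₂ : ι → Set X) (h₁ : ∀ i, IsClosed (C₁ i)) (h₂ : ∀ i, IsClosed (C₂ i))
    (hd : ∀ i, C₁ i ∩ C₂ i = ∅) :
    ∃ (Y' : Scheme.{u}) (c : Y' ⟶ Y) (j' : X ⟶ Y'), IsProper c ∧ IsOpenImmersion j' ∧
      DenseRange j'.base ∧ j' ≫ c = j ∧
      ∀ i, closure (j'.base '' C₁ i) ∩ closure (j'.base '' C₂ i) = ∅ := by
  classical
  have key : ∀ s : Finset ι, ∃ (Y' : Scheme.{u}) (c : Y' ⟶ Y) (j' : X ⟶ Y'), IsProper c ∧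
      IsOpenImmersion j' ∧ j' ≫ c = j ∧
      ∀ i ∈ s, closure (j'.base '' C₁ i) ∩ closure (j'.base '' C₂ i) = ∅ := by
    intro s
    induction s using Finset.induction with
    | empty => exact ⟨Y, 𝟙 Y, j, inferInstance, inferInstance, Category.comp_id j, by simp⟩
    | insert a s _ ih =>
      obtain ⟨Y₁, c₁, j₁, hc₁, hj₁, he₁, hs₁⟩ := ih
      obtain ⟨Y₂, c₂, j₂, hc₂, hj₂, he₂, hs₂⟩ := exists_refine_disjoint_one j₁ (c₁ ≫ p)
        (C₁ a) (C₂ a) (h₁ a) (h₂ a) (hd a)
      refine ⟨Y₂, c₂ ≫ c₁, j₂, inferInstance, hj₂, by rw [← Category.assoc, he₂, he₁], ?_⟩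
      intro i hi
      rcases Finset.mem_insert.1 hi with rfl | hi
      · exact hs₂
      · refine Set.eq_empty_of_subset_empty fun z hz => ?_
        have hm : ∀ C : Set X, z ∈ closure (j₂.base '' C) → c₂ z ∈ closure (j₁.base '' C) := by
          intro C hzC
          refine closure_mono ?_ (image_closure_subset_closure_image c₂.continuous ⟨z, hzC, rfl⟩)
          rintro _ ⟨_, ⟨x, hx, rfl⟩, rfl⟩
          exact ⟨x, hx, by rw [← he₂, Scheme.Hom.comp_apply]⟩
        exact (hs₁ i hi).le ⟨hm _ hz.1, hm _ hz.2⟩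
  haveI := Fintype.ofFinite ι
  obtain ⟨Y', c, j', hc, hj', he, hs⟩ := key Finset.univ
  haveI : CompactSpace Y' := QuasiCompact.compactSpace_of_compactSpace (c ≫ p)
  haveI : IsLocallyNoetherian Y' := LocallyOfFiniteType.isLocallyNoetherian (c ≫ p)
  haveI : IsNoetherian Y' := {}
  haveI : NoetherianSpace X := j'.isOpenEmbedding.isInducing.noetherianSpace
  haveI : QuasiCompact j' := quasiCompact_of_compactSpace j'
  refine ⟨j'.image, j'.imageι ≫ c, j'.toImage, inferInstance, inferInstance, j'.toImage.denseRange,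
    by rw [Scheme.Hom.toImage_imageι_assoc, he], fun i => ?_⟩
  refine Set.eq_empty_of_subset_empty fun z hz => ?_
  have hm : ∀ C : Set X, z ∈ closure (j'.toImage.base '' C) → j'.imageι z ∈ closure (j'.base '' C) := by
    intro C hzC
    refine closure_mono ?_ (image_closure_subset_closure_image j'.imageι.continuous ⟨z, hzC, rfl⟩)
    rintro _ ⟨_, ⟨x, hx, rfl⟩, rfl⟩
    refine ⟨x, hx, ?_⟩
    rw [← Scheme.Hom.comp_apply, Scheme.Hom.toImage_imageι]
  exact (hs i (Finset.mem_univ i)).le ⟨hm _ hz.1, hm _ hz.2⟩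

end Groth.Agent.CommAlg4
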