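import Mathlib
import Groth.Prelude.Def_CohDer
import Groth.Agent.DCat.CompactEnv
import Groth.Agent.DCat.RHomExist
import Groth.Agent.DCat.LeftRes

/-! Compact objects of a derived category are retracts of bounded complexes of finite sums of generators. -/
set_option autoImplicit false
set_option linter.style.haveILetI false
set_option linter.unusedSectionVars false
set_option backward.isDefEq.respectTransparency false
universe v u
open CategoryTheory CategoryTheory.Limits HomologicalComplex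

namespace Groth.Agent.CommAlg4.CompactRetract

attribute [local instance] Abelian.hasFiniteBiproducts

section Coprod

variable {C : Type*} [Category C] [HasZeroMorphisms C] [HasCoproducts.{v} C]

/-- The inclusion of the subsum on `S`. -/
noncomputable def incl {J : Type v} (E : J → C) (S : J → Prop) :
    (∐ fun j : Subtype S => E j) ⟶ ∐ E :=
  Sigma.desc fun j => Sigma.ι E j.1

open Classical in
/-- The projection to the subsum on `S`. -/
noncomputable def proj {J : Type v} (E : J → C) (S : J → Prop) :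
    ∐ E ⟶ ∐ fun j : Subtype S => E j :=
  Sigma.desc fun j => if h : S j then Sigma.ι (fun j : Subtype S => E j) ⟨j, h⟩ else 0

variable {J : Type v} (E : J → C) (S : J → Prop)

theorem ι_proj_pos (j : J) (h : S j) :
    Sigma.ι E j ≫ proj E S = Sigma.ι (fun j : Subtype S => E j) ⟨j, h⟩ := by
  simp [proj, dif_pos h]

theorem ι_proj_neg (j : J) (h : ¬ S j) : Sigma.ι E j ≫ proj E S = 0 := by
  simp [proj, dif_neg h]

theorem ι_incl (j : Subtype S) :
    Sigma.ι (fun j : Subtype S => E j) j ≫ incl E S = Sigma.ι E j.1 := Sigma.ι_desc _ _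

theorem incl_proj : incl E S ≫ proj E S = 𝟙 _ := Sigma.hom_ext _ _ fun j => by
  rw [← Category.assoc, ι_incl, ι_proj_pos E S j.1 j.2, Category.comp_id]

theorem incl_proj_not : incl E S ≫ proj E (fun j => ¬ S j) = 0 := Sigma.hom_ext _ _ fun j => by
  rw [← Category.assoc, ι_incl, ι_proj_neg E _ j.1 (not_not_intro j.2), comp_zero]

end Coprod

variable {A : Type u} [Category.{v} A] [Abelian A] [HasCoproducts.{v} A]

theorem shortExact_subsum {J : Type v} (E : J → A) (S : J → Prop) :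
    (ShortComplex.mk (incl E S) (proj E fun j => ¬ S j) (incl_proj_not E S)).ShortExact :=
  ShortComplex.Splitting.shortExact
    { r := proj E S
      s := incl E fun j => ¬ S j
      f_r := incl_proj E S
      s_g := incl_proj E _
      id := Sigma.hom_ext _ _ fun j => by
        simp only [Preadditive.comp_add, Category.comp_id]
        by_cases h : S j
        · rw [reassoc_of% ι_proj_pos E S j h, reassoc_of% ι_proj_neg E (fun j => ¬ S j) j (not_not_intro h),
            ι_incl, zero_comp, add_zero]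
        · rw [reassoc_of% ι_proj_neg E S j h, reassoc_of% ι_proj_pos E (fun j => ¬ S j) j h,
            ι_incl, zero_comp, zero_add] }

/-- Finite support of maps into sums out of a compact object of the abelian category. -/
theorem exists_finset_hom (X : A) {J : Type v} (E : J → A)
    [PreservesColimitsOfShape (Discrete J) (preadditiveCoyoneda.obj (Opposite.op X))]
    (x : X ⟶ ∐ E) : ∃ s : Finset J, x ≫ proj E (fun j => ¬ j ∈ s) = 0 := by
  classical
  let G := preadditiveCoyoneda.obj (Opposite.op X)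
  let H : AddSubgroup (X ⟶ ∐ E) :=
    { carrier := {y | ∃ s : Finset J, y ≫ proj E (fun j => ¬ j ∈ s) = 0}
      zero_mem' := ⟨∅, zero_comp⟩
      add_mem' := by
        rintro a b ⟨s, hs⟩ ⟨t, ht⟩
        have key : ∀ (s : Finset J) (u : Finset J), s ⊆ u →
            ∃ m, proj E (fun j => ¬ j ∈ s) ≫ m = proj E (fun j => ¬ j ∈ u) := fun s u hsu =>
          ⟨incl E (fun j => ¬ j ∈ s) ≫ proj E (fun j => ¬ j ∈ u), Sigma.hom_ext _ _ fun j => by
            by_cases h : j ∈ s
            · rw [reassoc_of% ι_proj_neg E (fun j => ¬ j ∈ s) j (not_not_intro h), zero_comp,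
                ι_proj_neg E (fun j => ¬ j ∈ u) j (not_not_intro (hsu h))]
            · rw [reassoc_of% ι_proj_pos E (fun j => ¬ j ∈ s) j h,
                reassoc_of% ι_incl E (fun j => ¬ j ∈ s) ⟨j, h⟩]⟩
        obtain ⟨m, hm⟩ := key s (s ∪ t) Finset.subset_union_left
        obtain ⟨m', hm'⟩ := key t (s ∪ t) Finset.subset_union_right
        refine ⟨s ∪ t, ?_⟩
        rw [Preadditive.add_comp]
        nth_rw 1 [← hm]
        rw [← hm', reassoc_of% hs, reassoc_of% ht, zero_comp, zero_comp, add_zero]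
      neg_mem' := by
        rintro a ⟨s, hs⟩
        exact ⟨s, by rw [Preadditive.neg_comp, hs, neg_zero]⟩ }
  let hc := isColimitCofanMkObjOfIsColimit G _ _ (coproductIsCoproduct E)
  have hι : ∀ (j : J) (y : X ⟶ E j), y ≫ Sigma.ι E j ∈ H := fun j y =>
    ⟨{j}, by rw [Category.assoc, ι_proj_neg E (fun i => ¬ i ∈ ({j} : Finset J)) j (by simp), comp_zero]⟩
  have h0 : AddCommGrpCat.ofHom (QuotientAddGroup.mk' H) =
      (0 : G.obj (∐ E) ⟶ AddCommGrpCat.of ((X ⟶ ∐ E) ⧸ H)) :=
    Cofan.IsColimit.hom_ext hc _ _ fun j => by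
      ext (y : X ⟶ E j)
      exact (QuotientAddGroup.eq_zero_iff _).2 (hι j y)
  exact (QuotientAddGroup.eq_zero_iff x).1 (ConcreteCategory.congr_hom h0 x)

/-- A complex whose terms are given as sums. -/
structure Pres (A : Type u) [Category.{v} A] [Abelian A] [HasCoproducts.{v} A] where
  J : ℤ → Type v
  E : ∀ i, J i → A
  d : ∀ i, ∐ E i ⟶ ∐ E (i + 1)
  sq : ∀ i, d i ≫ d (i + 1) = 0

noncomputable def Pres.cx (P : Pres A) : CochainComplex A ℤ :=
  CochainComplex.of (fun i => ∐ P.E i) P.d P.sq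

theorem Pres.cx_d (P : Pres A) (i : ℤ) : P.cx.d i (i + 1) = P.d i :=
  CochainComplex.of_d (fun i => ∐ P.E i) P.d i

variable (P : Pres A) (S : ∀ i, P.J i → Prop)
  (hS : ∀ i, incl (P.E i) (S i) ≫ P.d i ≫ proj (P.E (i + 1)) (fun j => ¬ S (i + 1) j) = 0)

theorem proj_incl_add {J : Type v} (E : J → A) (S : J → Prop) :
    proj E S ≫ incl E S + proj E (fun j => ¬ S j) ≫ incl E (fun j => ¬ S j) = 𝟙 _ :=
  Sigma.hom_ext _ _ fun j => by
    simp only [Preadditive.comp_add, Category.comp_id]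
    by_cases h : S j
    · rw [reassoc_of% ι_proj_pos E S j h, reassoc_of% ι_proj_neg E (fun j => ¬ S j) j (not_not_intro h),
        ι_incl, zero_comp, add_zero]
    · rw [reassoc_of% ι_proj_neg E S j h, reassoc_of% ι_proj_pos E (fun j => ¬ S j) j h,
        ι_incl, zero_comp, zero_add]

include hS in
theorem d_stable (i : ℤ) :
    (incl (P.E i) (S i) ≫ P.d i ≫ proj (P.E (i + 1)) (S (i + 1))) ≫ incl (P.E (i + 1)) (S (i + 1)) =
      incl (P.E i) (S i) ≫ P.d i := by
  conv_rhs => rw [← Category.comp_id (P.d i), ← proj_incl_add (P.E (i + 1)) (S (i + 1))]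
  rw [Preadditive.comp_add, Preadditive.comp_add, reassoc_of% hS i, zero_comp, add_zero]
  simp

noncomputable def sub : Pres A where
  J i := Subtype (S i)
  E i j := P.E i j.1
  d i := incl (P.E i) (S i) ≫ P.d i ≫ proj (P.E (i + 1)) (S (i + 1))
  sq i := by
    rw [← Category.assoc _ (incl _ _), d_stable P S hS]
    simp [reassoc_of% P.sq]

noncomputable def quot : Pres A where
  J i := Subtype (fun j => ¬ S i j)
  E i j := P.E i j.1
  d i := incl (P.E i) (fun j => ¬ S i j) ≫ P.d i ≫ proj (P.E (i + 1)) (fun j => ¬ S (i + 1) j)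
  sq i := by
    have key : proj (P.E (i + 1)) (fun j => ¬ S (i + 1) j) ≫ incl (P.E (i + 1)) (fun j => ¬ S (i + 1) j) ≫
        P.d (i + 1) ≫ proj (P.E (i + 1 + 1)) (fun j => ¬ S (i + 1 + 1) j) =
          P.d (i + 1) ≫ proj (P.E (i + 1 + 1)) (fun j => ¬ S (i + 1 + 1) j) := by
      conv_rhs => rw [← Category.id_comp (P.d (i + 1)), ← proj_incl_add (P.E (i + 1)) (S (i + 1))]
      simp [Preadditive.add_comp, hS]
    simp only [Category.assoc, key]
    simp [reassoc_of% P.sq]

noncomputable def subι : (sub P S hS).cx ⟶ P.cx where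
  f i := incl (P.E i) (S i)
  comm' i k hk := by
    obtain rfl : i + 1 = k := hk
    rw [Pres.cx_d, Pres.cx_d]
    exact (d_stable P S hS i).symm

noncomputable def quotπ : P.cx ⟶ (quot P S hS).cx where
  f i := proj (P.E i) (fun j => ¬ S i j)
  comm' i k hk := by
    obtain rfl : i + 1 = k := hk
    rw [Pres.cx_d, Pres.cx_d]
    show proj (P.E i) (fun j => ¬ S i j) ≫ incl (P.E i) (fun j => ¬ S i j) ≫ P.d i ≫
      proj (P.E (i + 1)) (fun j => ¬ S (i + 1) j) = P.d i ≫ proj (P.E (i + 1)) (fun j => ¬ S (i + 1) j)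
    conv_rhs => rw [← Category.id_comp (P.d i), ← proj_incl_add (P.E i) (S i)]
    simp [Preadditive.add_comp, hS]

theorem subι_quotπ : subι P S hS ≫ quotπ P S hS = 0 := by
  ext i
  exact incl_proj_not (P.E i) (S i)

theorem shortExact_sub :
    (ShortComplex.mk (subι P S hS) (quotπ P S hS) (subι_quotπ P S hS)).ShortExact :=
  shortExact_of_degreewise_shortExact _ fun i => shortExact_subsum (P.E i) (S i)

variable [HasDerivedCategory.{v} A]

theorem exists_lift_sub {K : DerivedCategory A} (g : K ⟶ DerivedCategory.Q.obj P.cx)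
    (h : g ≫ DerivedCategory.Q.map (quotπ P S hS) = 0) :
    ∃ g' : K ⟶ DerivedCategory.Q.obj (sub P S hS).cx,
      g' ≫ DerivedCategory.Q.map (subι P S hS) = g := by
  obtain ⟨g', hg'⟩ := Pretriangulated.Triangle.coyoneda_exact₂ _
    (DerivedCategory.triangleOfSES_distinguished (shortExact_sub P S hS)) g h
  exact ⟨g', hg'.symm⟩

variable [IsGrothendieckAbelian.{v} A] [HasCoproducts.{v} (DerivedCategory A)]
  {K : DerivedCategory A} (hK : CohDer.IsCompactObject K)

include hK in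
theorem exists_finset_coprod {X : CochainComplex A ℤ} {ι : Type v} (Y : ι → CochainComplex A ℤ)
    (φ : X ⟶ ∐ Y) (g : K ⟶ DerivedCategory.Q.obj X) :
    ∃ s : Finset ι, g ≫ DerivedCategory.Q.map (φ ≫ proj Y (fun j => ¬ j ∈ s)) = 0 := by
  classical
  haveI := DCat.RHomExist.preservesCoproducts_Q (A := A) ι
  let Q := DerivedCategory.Q (C := A)
  let e := PreservesCoproduct.iso Q Y
  obtain ⟨s, hs⟩ := (DCat.isCompactObject_iff K).1 hK ι (fun j => Q.obj (Y j))
    (g ≫ Q.map φ ≫ e.hom)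
  refine ⟨s, ?_⟩
  have h0 : DCat.finProj (fun j => Q.obj (Y j)) s ≫ e.inv ≫ Q.map (proj Y (fun j => ¬ j ∈ s)) = 0 :=
    Sigma.hom_ext _ _ fun j => by
      rw [← Category.assoc, DCat.ι_finProj, comp_zero]
      split_ifs with hj
      · rw [PreservesCoproduct.inv_hom, ι_comp_sigmaComparison_assoc, ← Functor.map_comp,
          ι_proj_neg Y (fun j => ¬ j ∈ s) j (not_not_intro hj), Functor.map_zero]
      · rw [zero_comp]
  calc g ≫ Q.map (φ ≫ proj Y (fun j => ¬ j ∈ s))
      = (g ≫ Q.map φ ≫ e.hom) ≫ e.inv ≫ Q.map (proj Y (fun j => ¬ j ∈ s)) := by simp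
    _ = 0 := by rw [← hs, Category.assoc, h0, comp_zero]

include hK in
theorem exists_finset_single {X : CochainComplex A ℤ} (c : ℤ) {J : Type v} (E : J → A)
    (φ : X ⟶ (single A (ComplexShape.up ℤ) c).obj (∐ E)) (g : K ⟶ DerivedCategory.Q.obj X) :
    ∃ s : Finset J, g ≫ DerivedCategory.Q.map
      (φ ≫ (single A (ComplexShape.up ℤ) c).map (proj E (fun j => ¬ j ∈ s))) = 0 := by
  classical
  let F := single A (ComplexShape.up ℤ) c
  let e := PreservesCoproduct.iso F E
  obtain ⟨s, hs⟩ := exists_finset_coprod hK (fun j => F.obj (E j)) (φ ≫ e.hom) g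
  refine ⟨s, ?_⟩
  have h : F.map (proj E (fun j => ¬ j ∈ s)) =
      e.hom ≫ proj (fun j => F.obj (E j)) (fun j => ¬ j ∈ s) ≫
        sigmaComparison F (fun j : Subtype (fun j => ¬ j ∈ s) => E j) := by
    rw [← cancel_epi e.inv, e.inv_hom_id_assoc]
    refine Sigma.hom_ext _ _ fun j => ?_
    rw [PreservesCoproduct.inv_hom, ι_comp_sigmaComparison_assoc, ← Functor.map_comp]
    by_cases hj : j ∈ s
    · rw [ι_proj_neg E (fun j => ¬ j ∈ s) j (not_not_intro hj),
        reassoc_of% ι_proj_neg (fun j => F.obj (E j)) (fun j => ¬ j ∈ s) j (not_not_intro hj),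
        Functor.map_zero, zero_comp]
    · rw [ι_proj_pos E (fun j => ¬ j ∈ s) j hj,
        reassoc_of% ι_proj_pos (fun j => F.obj (E j)) (fun j => ¬ j ∈ s) j hj,
        ι_comp_sigmaComparison]
  rw [h, ← Category.assoc, ← Category.assoc, Functor.map_comp, ← Category.assoc g, hs, zero_comp]

include hK in
theorem exists_finset_locallyFinite {X : CochainComplex A ℤ} {ι : Type v}
    (Y : ι → CochainComplex A ℤ) (f : ∀ n, X ⟶ Y n) (t : ℤ → Finset ι)
    (ht : ∀ i n, n ∉ t i → (f n).f i = 0) (g : K ⟶ DerivedCategory.Q.obj X) :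
    ∃ s : Finset ι, ∀ n, n ∉ s → g ≫ DerivedCategory.Q.map (f n) = 0 := by
  classical
  let φi : ∀ i, X.X i ⟶ (∐ Y).X i := fun i => ∑ n ∈ t i, (f n).f i ≫ (Sigma.ι Y n).f i
  have hφ : ∀ (i : ℤ) (u : Finset ι), t i ⊆ u → φi i = ∑ n ∈ u, (f n).f i ≫ (Sigma.ι Y n).f i :=
    fun i u hu => Finset.sum_subset hu (fun n _ hn => by rw [ht i n hn, zero_comp])
  let φ : X ⟶ ∐ Y :=
    { f := φi
      comm' := fun i k _ => by
        rw [hφ i (t i ∪ t k) Finset.subset_union_left, hφ k (t i ∪ t k) Finset.subset_union_right,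
          Preadditive.sum_comp, Preadditive.comp_sum]
        refine Finset.sum_congr rfl fun n _ => ?_
        rw [Category.assoc, (Sigma.ι Y n).comm, (f n).comm_assoc] }
  obtain ⟨s, hs⟩ := exists_finset_coprod hK Y φ g
  refine ⟨s, fun n hn => ?_⟩
  let co : (∐ fun j : Subtype (fun j => ¬ j ∈ s) => Y j) ⟶ Y n :=
    Sigma.desc fun j => if h : j.1 = n then eqToHom (congrArg Y h) else 0
  have hco : ∀ m, Sigma.ι Y m ≫ proj Y (fun j => ¬ j ∈ s) ≫ co =
      if h : m = n then eqToHom (congrArg Y h) else 0 := fun m => by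
    by_cases hm : m ∈ s
    · rw [reassoc_of% ι_proj_neg Y (fun j => ¬ j ∈ s) m (not_not_intro hm), zero_comp,
        dif_neg (fun e : m = n => hn (e ▸ hm))]
    · rw [reassoc_of% ι_proj_pos Y (fun j => ¬ j ∈ s) m hm]
      simp [co]
  have hf : φ ≫ proj Y (fun j => ¬ j ∈ s) ≫ co = f n := by
    ext i
    show φi i ≫ (proj Y (fun j => ¬ j ∈ s) ≫ co).f i = _
    rw [hφ i (insert n (t i)) (Finset.subset_insert _ _), Preadditive.sum_comp,
      Finset.sum_eq_single n]
    · rw [Category.assoc, ← comp_f, hco n, dif_pos rfl]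
      simp
    · intro m _ hm
      rw [Category.assoc, ← comp_f, hco m, dif_neg hm, zero_f, comp_zero]
    · intro h
      exact absurd (Finset.mem_insert_self n (t i)) h
  rw [← hf, ← Category.assoc φ, Functor.map_comp, reassoc_of% hs, zero_comp]

include hK in
/-- A compact object is bounded above. -/
theorem exists_isLE : ∃ b : ℤ, K.IsLE b := by
  let X := DerivedCategory.Q.objPreimage K
  let e : DerivedCategory.Q.obj X ≅ K := DerivedCategory.Q.objObjPreimageIso K
  obtain ⟨s, hs⟩ := exists_finset_locallyFinite hK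
    (fun n : ULift.{v} ℕ => X.truncGE (n.down : ℤ)) (fun n => X.πTruncGE (n.down : ℤ))
    (fun i => (Finset.range (i.toNat + 1)).map ⟨ULift.up, fun a b h => congrArg ULift.down h⟩)
    (fun i n hn => by
      have : i < (n.down : ℤ) := by
        by_contra h
        exact hn (Finset.mem_map.2 ⟨n.down, Finset.mem_range.2 (by omega), rfl⟩)
      exact (CochainComplex.isZero_of_isStrictlyGE _ (n.down : ℤ) i this).eq_of_tgt _ _)
    e.inv
  obtain ⟨n, hn⟩ := Infinite.exists_notMem_finset s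
  refine ⟨(n.down : ℤ), ?_⟩
  haveI : X.IsLE (n.down : ℤ) := by
    rw [CochainComplex.isLE_iff]
    intro i hi
    rw [exactAt_iff_isZero_homology]
    have h0 : DerivedCategory.Q.map (X.πTruncGE (n.down : ℤ)) = 0 := by
      rw [← cancel_epi e.inv, hs n hn, comp_zero]
    have h1 : homologyMap (X.πTruncGE (n.down : ℤ)) i = 0 := by
      have := (DerivedCategory.homologyFunctorFactors A i).hom.naturality (X.πTruncGE (n.down : ℤ))
      dsimp at this
      rw [h0, Functor.map_zero, zero_comp] at this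
      exact (cancel_epi ((DerivedCategory.homologyFunctorFactors A i).hom.app X)).1
        (this.symm.trans comp_zero.symm)
    haveI : QuasiIsoAt (X.πTruncGE (n.down : ℤ)) i :=
      X.quasiIsoAt_πTruncGE (n.down : ℤ) i (by omega)
    haveI := (quasiIsoAt_iff_isIso_homologyMap _ _).1 this
    rw [IsZero.iff_id_eq_zero, ← cancel_mono (homologyMap (X.πTruncGE (n.down : ℤ)) i)]
    simp [h1]
  exact DerivedCategory.TStructure.t.isLE_of_iso e (n.down : ℤ)

/-- Presentations with terms in `S₀`, zero outside `[a, b]` and finite below `c`. -/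
def Pres.Good (P : Pres A) (S₀ : Set A) (a b c : ℤ) : Prop :=
  (∀ i j, P.E i j ∈ S₀) ∧ (∀ i, i < a ∨ b < i → IsEmpty (P.J i)) ∧ (∀ i, i < c → Finite (P.J i))

include hK in
theorem step {S₀ : Set A}
    (h2 : ∀ X ∈ S₀, ∀ ι : Type v,
      PreservesColimitsOfShape (Discrete ι) (preadditiveCoyoneda.obj (Opposite.op X)))
    (a b c : ℤ) (P : Pres A) (hP : P.Good S₀ a b c) (g : K ⟶ DerivedCategory.Q.obj P.cx) :
    ∃ (P' : Pres A) (f : P'.cx ⟶ P.cx) (g' : K ⟶ DerivedCategory.Q.obj P'.cx),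
      P'.Good S₀ a b (c + 1) ∧ g' ≫ DerivedCategory.Q.map f = g := by
  classical
  haveI : Finite (P.J (c - 1)) := hP.2.2 (c - 1) (by omega)
  -- the image of the previous differential
  obtain ⟨F₁, hF₁⟩ : ∃ F₁ : Finset (P.J c), P.cx.d (c - 1) c ≫ proj (P.E c) (fun j => ¬ j ∈ F₁) = 0 := by
    haveI := Fintype.ofFinite (P.J (c - 1))
    have hx : ∀ j : P.J (c - 1), ∃ s : Finset (P.J c),
        (Sigma.ι (P.E (c - 1)) j ≫ P.cx.d (c - 1) c) ≫ proj (P.E c) (fun i => ¬ i ∈ s) = 0 := fun j =>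
      haveI := h2 _ (hP.1 (c - 1) j) (P.J c)
      exists_finset_hom _ (P.E c) _
    choose s hs using hx
    refine ⟨Finset.univ.biUnion s, Sigma.hom_ext _ _ fun j => ?_⟩
    have : proj (P.E c) (fun i => ¬ i ∈ Finset.univ.biUnion s) =
        proj (P.E c) (fun i => ¬ i ∈ s j) ≫ incl (P.E c) (fun i => ¬ i ∈ s j) ≫
          proj (P.E c) (fun i => ¬ i ∈ Finset.univ.biUnion s) := by
      conv_lhs => rw [← Category.id_comp (proj (P.E c) (fun i => ¬ i ∈ Finset.univ.biUnion s)),
        ← proj_incl_add (P.E c) (fun i => ¬ i ∈ s j)]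
      simp only [Preadditive.add_comp, Category.assoc]
      rw [add_eq_left]
      refine Sigma.hom_ext _ _ fun i => ?_
      rw [comp_zero]
      by_cases hi : i ∈ s j
      · rw [reassoc_of% ι_proj_pos (P.E c) (fun i => ¬¬ i ∈ s j) i (not_not_intro hi),
          reassoc_of% ι_incl (P.E c) (fun i => ¬¬ i ∈ s j) ⟨i, not_not_intro hi⟩,
          ι_proj_neg (P.E c) _ i (not_not_intro (Finset.mem_biUnion.2 ⟨j, Finset.mem_univ _, hi⟩))]
      · rw [reassoc_of% ι_proj_neg (P.E c) (fun i => ¬¬ i ∈ s j) i (not_not.not.2 hi), zero_comp]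
    rw [this, comp_zero, ← Category.assoc, ← Category.assoc, hs j, zero_comp]
  let k : ∐ P.E c ⟶ ∐ P.E c :=
    proj (P.E c) (fun j => ¬ j ∈ F₁) ≫ incl (P.E c) (fun j => ¬ j ∈ F₁)
  let φ : P.cx ⟶ (single A (ComplexShape.up ℤ) c).obj (∐ P.E c) :=
    mkHomToSingle (k : P.cx.X c ⟶ ∐ P.E c) (fun i hi => by
      obtain rfl : i = c - 1 := by simp at hi; omega
      rw [reassoc_of% hF₁, zero_comp])
  obtain ⟨F₂, hF₂⟩ := exists_finset_single hK c (P.E c) φ g
  -- the subcomplex
  let Sub : ∀ i, P.J i → Prop := fun i j => ∀ e : i = c, (e ▸ j : P.J c) ∈ F₁ ∪ F₂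
  have hne : ∀ i, i ≠ c → ∀ (j : P.J i), Sub i j := fun i hi j e => absurd e hi
  have hc : ∀ j : P.J c, Sub c j ↔ j ∈ F₁ ∪ F₂ := fun j => ⟨fun h => h rfl, fun h _ => h⟩
  have hkc : ∀ {T : A} (x : T ⟶ ∐ P.E c), x ≫ proj (P.E c) (fun j => ¬ j ∈ F₁) = 0 →
      x ≫ proj (P.E c) (fun j => ¬ Sub c j) = 0 := fun x hx => by
    have : proj (P.E c) (fun j => ¬ Sub c j) =
        k ≫ proj (P.E c) (fun j => ¬ Sub c j) := Sigma.hom_ext _ _ fun j => by
      by_cases hj : j ∈ F₁
      · rw [ι_proj_neg (P.E c) (fun j => ¬ Sub c j) j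
            (not_not_intro ((hc j).2 (Finset.mem_union_left _ hj)))]
        simp [k, reassoc_of% ι_proj_neg (P.E c) (fun j => ¬ j ∈ F₁) j (not_not_intro hj)]
      · simp [k, reassoc_of% ι_proj_pos (P.E c) (fun j => ¬ j ∈ F₁) j hj,
          reassoc_of% ι_incl (P.E c) (fun j => ¬ j ∈ F₁) ⟨j, hj⟩]
    rw [this]
    simp [k, reassoc_of% hx]
  have hS : ∀ i, incl (P.E i) (Sub i) ≫ P.d i ≫ proj (P.E (i + 1)) (fun j => ¬ Sub (i + 1) j) = 0 := by
    intro i
    by_cases hi : i + 1 = c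
    · subst hi
      have h := hkc (incl (P.E i) (Sub i) ≫ P.d i) (by
        have hF₁' : P.cx.d i (i + 1) ≫ proj (P.E (i + 1)) (fun j => ¬ j ∈ F₁) = 0 := by
          have e : i + 1 - 1 = i := by omega
          rwa [e] at hF₁
        rw [Pres.cx_d] at hF₁'
        rw [Category.assoc, hF₁', comp_zero])
      simpa using h
    · have : proj (P.E (i + 1)) (fun j => ¬ Sub (i + 1) j) = 0 := Sigma.hom_ext _ _ fun j => by
        rw [ι_proj_neg _ _ j (not_not_intro (hne (i + 1) hi j)), comp_zero]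
      rw [this, comp_zero, comp_zero]
  -- the projection factors through the single complex
  let T := quot P Sub hS
  have hTz : ∀ i, i ≠ c → IsZero (T.cx.X i) := fun i hi => by
    rw [IsZero.iff_id_eq_zero]
    exact Sigma.hom_ext _ _ fun j => absurd (hne i hi j.1) j.2
  let r : ∐ (fun j : Subtype (fun j => ¬ j ∈ F₂) => P.E c j.1) ⟶ T.cx.X c :=
    incl (P.E c) (fun j => ¬ j ∈ F₂) ≫ proj (P.E c) (fun j => ¬ Sub c j)
  let ρ : (single A (ComplexShape.up ℤ) c).obj (∐ fun j : Subtype (fun j => ¬ j ∈ F₂) => P.E c j.1) ⟶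
      T.cx := mkHomFromSingle r (fun i hi => (hTz i (by simp at hi; omega)).eq_of_tgt _ _)
  have hq : quotπ P Sub hS =
      (φ ≫ (single A (ComplexShape.up ℤ) c).map (proj (P.E c) (fun j => ¬ j ∈ F₂))) ≫ ρ := by
    ext i
    by_cases hi : i = c
    · subst hi
      rw [comp_f, comp_f, mkHomToSingle_f, single_map_f_self, mkHomFromSingle_f]
      simp only [Category.assoc, Iso.inv_hom_id_assoc]
      show proj (P.E i) (fun j => ¬ Sub i j) = _
      refine Sigma.hom_ext _ _ fun j => ?_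
      by_cases hj : j ∈ F₁
      · rw [ι_proj_neg (P.E i) (fun j => ¬ Sub i j) j
            (not_not_intro ((hc j).2 (Finset.mem_union_left _ hj)))]
        simp [k, reassoc_of% ι_proj_neg (P.E i) (fun j => ¬ j ∈ F₁) j (not_not_intro hj)]
      · simp only [k, Category.assoc, reassoc_of% ι_proj_pos (P.E i) (fun j => ¬ j ∈ F₁) j hj,
          reassoc_of% ι_incl (P.E i) (fun j => ¬ j ∈ F₁) ⟨j, hj⟩, r]
        by_cases hj' : j ∈ F₂
        · rw [ι_proj_neg (P.E i) (fun j => ¬ Sub i j) j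
              (not_not_intro ((hc j).2 (Finset.mem_union_right _ hj'))),
            reassoc_of% ι_proj_neg (P.E i) (fun j => ¬ j ∈ F₂) j (not_not_intro hj'), zero_comp]
        · rw [reassoc_of% ι_proj_pos (P.E i) (fun j => ¬ j ∈ F₂) j hj',
            reassoc_of% ι_incl (P.E i) (fun j => ¬ j ∈ F₂) ⟨j, hj'⟩]
    · exact (hTz i hi).eq_of_tgt _ _
  obtain ⟨g', hg'⟩ := exists_lift_sub P Sub hS g (by
    rw [hq, Functor.map_comp, reassoc_of% hF₂, zero_comp])
  refine ⟨sub P Sub hS, subι P Sub hS, g', ⟨fun i j => hP.1 i j.1, fun i hi => ?_, fun i hi => ?_⟩, hg'⟩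
  · exact ⟨fun j => (hP.2.1 i hi).false j.1⟩
  · by_cases hi' : i = c
    · subst hi'
      exact Finite.of_injective (fun j : Subtype (Sub i) => (⟨j.1, (hc j.1).1 j.2⟩ : {x // x ∈ F₁ ∪ F₂}))
        (fun x y h => Subtype.ext (by simpa using congrArg Subtype.val h))
    · haveI := hP.2.2 i (by omega)
      exact Subtype.finite

include hK in
theorem exists_retract (S₀ : Set A)
    (h1 : ∀ X : A, ∃ (ι : Type v) (E : ι → A) (π : ∐ E ⟶ X), (∀ i, E i ∈ S₀) ∧ Epi π)
    (h2 : ∀ X ∈ S₀, ∀ ι : Type v,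
      PreservesColimitsOfShape (Discrete ι) (preadditiveCoyoneda.obj (Opposite.op X))) :
    ∃ (L : CochainComplex A ℤ) (a b : ℤ),
      (∀ i : ℤ, i < a ∨ b < i → IsZero (L.X i)) ∧
      (∀ i : ℤ, ∃ (n : ℕ) (E : Fin n → A), (∀ j, E j ∈ S₀) ∧ Nonempty (L.X i ≅ ⨁ E)) ∧
      Nonempty (Retract K (DerivedCategory.Q.obj L)) := by
  classical
  obtain ⟨b, hb⟩ := exists_isLE hK
  obtain ⟨X, hX, ⟨eK⟩⟩ := K.exists_iso_Q_obj_of_isLE b
  haveI := hX
  let PS : A → Prop := fun Y => ∃ (J : Type v) (E : J → A), (∀ j, E j ∈ S₀) ∧ Nonempty (Y ≅ ∐ E) ∧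
    (IsZero Y → IsEmpty J)
  have hPS0 : ∃ Z : A, IsZero Z ∧ PS Z := by
    have h : IsZero (∐ fun x : PEmpty.{v + 1} => (x.elim : A)) := by
      rw [IsZero.iff_id_eq_zero]
      exact Sigma.hom_ext _ _ fun x => x.elim
    exact ⟨_, h, PEmpty, fun x => x.elim, fun x => x.elim, ⟨Iso.refl _⟩, fun _ => inferInstance⟩
  have hPS : ∀ Y : A, ∃ (Z : A) (π : Z ⟶ Y), PS Z ∧ Epi π := fun Y => by
    obtain ⟨ι, E, π, hE, hπ⟩ := h1 Y
    by_cases hz : IsZero (∐ E)
    · obtain ⟨Z, hZ, hPZ⟩ := hPS0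
      exact ⟨Z, hZ.to_ _ ≫ π, hPZ, epi_of_epi_fac (show hz.to_ Z ≫ hZ.to_ _ ≫ π = π by
        rw [← Category.assoc, hz.eq_of_src (hz.to_ Z ≫ hZ.to_ _) (𝟙 _), Category.id_comp])⟩
    · exact ⟨∐ E, π, ⟨ι, E, hE, ⟨Iso.refl _⟩, fun h => absurd h hz⟩, hπ⟩
  obtain ⟨R, α, hRb, hR, -, hα⟩ := DCat.LeftRes.exists_resolution PS hPS0 hPS X b
  choose J E hE he hJ using hR
  let e : ∀ i, R.X i ≅ ∐ E i := fun i => (he i).some
  let P : Pres A :=
    { J := J
      E := E
      d := fun i => (e i).inv ≫ R.d i (i + 1) ≫ (e (i + 1)).hom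
      sq := fun i => by simp }
  let eP : P.cx ≅ R := Hom.isoOfComponents (fun i => (e i).symm) (fun i k hk => by
    obtain rfl : i + 1 = k := hk
    rw [Pres.cx_d]
    simp [P])
  haveI := hα
  let g₀ : K ⟶ DerivedCategory.Q.obj P.cx :=
    eK.hom ≫ inv (DerivedCategory.Q.map (eP.hom ≫ α))
  let r₀ : DerivedCategory.Q.obj P.cx ⟶ K := DerivedCategory.Q.map (eP.hom ≫ α) ≫ eK.inv
  have hgr : g₀ ≫ r₀ = 𝟙 K := by simp [g₀, r₀]
  have hJe : ∀ i, b < i → IsEmpty (P.J i) := fun i hi => hJ i (R.isZero_of_isStrictlyLE b i hi)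
  -- truncate below
  let SS : ℕ → ∀ i, P.J i → Prop := fun n i _ => -(n : ℤ) ≤ i
  have hSS : ∀ n i, incl (P.E i) (SS n i) ≫ P.d i ≫ proj (P.E (i + 1)) (fun j => ¬ SS n (i + 1) j) = 0 := by
    intro n i
    refine Sigma.hom_ext _ _ fun j => ?_
    have : proj (P.E (i + 1)) (fun j => ¬ SS n (i + 1) j) = 0 := Sigma.hom_ext _ _ fun k => by
      have := j.2
      rw [ι_proj_neg _ _ k (not_not_intro (show -(n : ℤ) ≤ i + 1 by omega)), comp_zero]
    rw [this]
    simp
  obtain ⟨s, hs⟩ := exists_finset_locallyFinite hK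
    (fun n : ULift.{v} ℕ => (quot P (SS n.down) (hSS n.down)).cx)
    (fun n => quotπ P (SS n.down) (hSS n.down))
    (fun i => (Finset.range (-i).toNat).map ⟨ULift.up, fun a b h => congrArg ULift.down h⟩)
    (fun i n hn => by
      have : -(n.down : ℤ) ≤ i := by
        by_contra h
        exact hn (Finset.mem_map.2 ⟨n.down, Finset.mem_range.2 (by omega), rfl⟩)
      exact Sigma.hom_ext _ _ fun j => by
        rw [comp_zero]
        exact ι_proj_neg _ _ j (not_not_intro this)) g₀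
  obtain ⟨n, hn⟩ := Infinite.exists_notMem_finset s
  obtain ⟨g₁, hg₁⟩ := exists_lift_sub P (SS n.down) (hSS n.down) g₀ (hs n hn)
  let a : ℤ := -(n.down : ℤ)
  have base : (sub P (SS n.down) (hSS n.down)).Good S₀ a b a := by
    refine ⟨fun i j => hE i j.1, fun i hi => ?_, fun i hi => ?_⟩
    · rcases hi with hi | hi
      · exact ⟨fun j => by have := j.2; simp only [SS] at this; omega⟩
      · exact ⟨fun j => (hJe i hi).false j.1⟩
    · haveI : IsEmpty ((sub P (SS n.down) (hSS n.down)).J i) :=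
        ⟨fun j => by have := j.2; simp only [SS] at this; omega⟩
      infer_instance
  -- iterate
  have iter : ∀ m : ℕ, ∃ (P' : Pres A) (g : K ⟶ DerivedCategory.Q.obj P'.cx)
      (r : DerivedCategory.Q.obj P'.cx ⟶ K), P'.Good S₀ a b (a + m) ∧ g ≫ r = 𝟙 K := by
    intro m
    induction m with
    | zero =>
      refine ⟨_, g₁, DerivedCategory.Q.map (subι P (SS n.down) (hSS n.down)) ≫ r₀, ?_, ?_⟩
      · simpa using base
      · rw [← Category.assoc, hg₁, hgr]
    | succ m ih =>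
      obtain ⟨P', g, r, hP', hgr'⟩ := ih
      obtain ⟨P'', f, g', hP'', hg'⟩ := step hK h2 a b (a + m) P' hP' g
      refine ⟨P'', g', DerivedCategory.Q.map f ≫ r, ?_, ?_⟩
      · rwa [show a + ((m + 1 : ℕ) : ℤ) = a + m + 1 by push_cast; ring]
      · rw [← Category.assoc, hg', hgr']
  obtain ⟨P', g, r, hP', hgr'⟩ := iter (b + 1 - a).toNat
  have hfin : ∀ i, Finite (P'.J i) := fun i => by
    by_cases hi : b < i
    · haveI := hP'.2.1 i (Or.inr hi)
      infer_instance
    · exact hP'.2.2 i (by omega)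
  refine ⟨P'.cx, a, b, fun i hi => ?_, fun i => ?_, ⟨⟨g, r, hgr'⟩⟩⟩
  · haveI := hP'.2.1 i hi
    show IsZero (∐ P'.E i)
    rw [IsZero.iff_id_eq_zero]
    exact Sigma.hom_ext _ _ fun x => isEmptyElim x
  · haveI := hfin i
    let ε := (Finite.equivFin (P'.J i)).symm
    exact ⟨Nat.card (P'.J i), fun j => P'.E i (ε j), fun j => hP'.1 i _,
      ⟨(biproduct.isoCoproduct (P'.E i)).symm ≪≫
        (biproduct.whiskerEquiv ε (fun j => Iso.refl _)).symm⟩⟩

end Groth.Agent.CommAlg4.CompactRetract
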