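import Mathlib
import Groth.Agent.S6270

/-! Completion of a surjection onto a flat module that is projective modulo the ideal. -/
set_option autoImplicit false
universe u
open TensorProduct

namespace Groth.Agent.CommAlg4

variable {R : Type u} [CommRing R]

theorem projective_quot_of_flat (I J : Ideal R) (hnil : IsNilpotent (I.map (Ideal.Quotient.mk J)))
    (M : Type u) [AddCommGroup M] [Module R M] [Module.Flat R M]
    [Module.Projective (R ⧸ I) (M ⧸ (I • ⊤ : Submodule R M))] :
    Module.Projective (R ⧸ J) (M ⧸ (J • ⊤ : Submodule R M)) := by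
  let I' : Ideal (R ⧸ J) := I.map (Ideal.Quotient.mk J)
  let φ : R ⧸ I →+* (R ⧸ J) ⧸ I' :=
    Ideal.Quotient.lift I ((Ideal.Quotient.mk I').comp (Ideal.Quotient.mk J)) fun x hx =>
      Ideal.Quotient.eq_zero_iff_mem.2 (Ideal.mem_map_of_mem _ hx)
  let : Algebra (R ⧸ I) ((R ⧸ J) ⧸ I') := φ.toAlgebra
  have : IsScalarTower R (R ⧸ I) ((R ⧸ J) ⧸ I') := IsScalarTower.of_algebraMap_eq fun x => rfl
  have hI0 : Module.Projective (R ⧸ I) ((R ⧸ I) ⊗[R] M) :=
    Module.Projective.of_equiv
      ((quotTensorEquivQuotSMul M I).symm.extendScalarsOfSurjective Ideal.Quotient.mk_surjective)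
  have h1 : Module.Projective ((R ⧸ J) ⧸ I') (((R ⧸ J) ⧸ I') ⊗[R ⧸ I] ((R ⧸ I) ⊗[R] M)) := inferInstance
  have h2 : Module.Projective ((R ⧸ J) ⧸ I') (((R ⧸ J) ⧸ I') ⊗[R] M) :=
    Module.Projective.of_equiv
      (AlgebraTensorModule.cancelBaseChange R (R ⧸ I) ((R ⧸ J) ⧸ I') ((R ⧸ J) ⧸ I') M)
  have h3 : Module.Projective ((R ⧸ J) ⧸ I') (((R ⧸ J) ⧸ I') ⊗[R ⧸ J] ((R ⧸ J) ⊗[R] M)) :=
    Module.Projective.of_equiv
      (AlgebraTensorModule.cancelBaseChange R (R ⧸ J) ((R ⧸ J) ⧸ I') ((R ⧸ J) ⧸ I') M).symm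
  have h4 := Groth.Agent.S6270.result I' hnil ((R ⧸ J) ⊗[R] M) h3
  exact Module.Projective.of_equiv
    ((quotTensorEquivQuotSMul M J).extendScalarsOfSurjective Ideal.Quotient.mk_surjective)

theorem exists_lift_of_surjective (J : Ideal R) {A B C : Type u} [AddCommGroup A] [Module R A]
    [Module (R ⧸ J) A] [IsScalarTower R (R ⧸ J) A] [Module.Projective (R ⧸ J) A]
    [AddCommGroup B] [Module R B] [AddCommGroup C] [Module R C]
    (hB : Module.IsTorsionBySet R B J) (q : B →ₗ[R] C) (hq : Function.Surjective q) (φ : A →ₗ[R] C) :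
    ∃ ψ : A →ₗ[R] B, q ∘ₗ ψ = φ := by
  let := hB.module
  have hC : Module.IsTorsionBySet R C J := fun c a => by
    obtain ⟨b, rfl⟩ := hq c
    rw [← map_smul]
    exact (congrArg q (@hB b a)).trans (map_zero q)
  let := hC.module
  have := hB.isScalarTower (S := R)
  have := hC.isScalarTower (S := R)
  obtain ⟨ψ, hψ⟩ := Module.projective_lifting_property
    (q.extendScalarsOfSurjective (Ideal.Quotient.mk_surjective (I := J)))
    (φ.extendScalarsOfSurjective (Ideal.Quotient.mk_surjective (I := J))) hq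
  exact ⟨ψ.restrictScalars R, LinearMap.ext fun a => LinearMap.congr_fun hψ a⟩

variable (I : Ideal R) {K P M : Type u} [AddCommGroup K] [Module R K] [AddCommGroup P] [Module R P]
    [AddCommGroup M] [Module R M] (f : K →ₗ[R] P) (g : P →ₗ[R] M)

theorem reduceModIdeal_injective [Module.Flat R M] (J : Ideal R) (hf : Function.Injective f)
    (hg : Function.Surjective g) (hfg : Function.Exact f g) :
    Function.Injective (f.reduceModIdeal J) := by
  refine (injective_iff_map_eq_zero _).2 fun x hx => ?_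
  obtain ⟨k, rfl⟩ := Submodule.Quotient.mk_surjective _ x
  rw [LinearMap.reduceModIdeal_apply] at hx
  have h1 : f.lTensor (R ⧸ J) (1 ⊗ₜ k) = 0 := by
    rw [LinearMap.lTensor_tmul, ← quotTensorEquivQuotSMul_symm_mk J (f k), hx, map_zero]
  have h2 := (LinearMap.lTensor_injective_of_exact_of_flat g hg f hf hfg (R ⧸ J)) (h1.trans (map_zero _).symm)
  have h3 := congrArg (quotTensorEquivQuotSMul K J) h2
  rw [map_zero, ← map_one (Ideal.Quotient.mk J), quotTensorEquivQuotSMul_mk_tmul, one_smul] at h3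
  exact h3

theorem reduceModIdeal_exact (J : Ideal R) (hg : Function.Surjective g) (hfg : Function.Exact f g)
    (y : P ⧸ (J • ⊤ : Submodule R P)) (hy : g.reduceModIdeal J y = 0) :
    ∃ x, f.reduceModIdeal J x = y := by
  obtain ⟨p, rfl⟩ := Submodule.Quotient.mk_surjective _ y
  rw [LinearMap.reduceModIdeal_apply, Submodule.Quotient.mk_eq_zero] at hy
  have : g p ∈ Submodule.map g (J • ⊤ : Submodule R P) := by
    rwa [Submodule.map_smul'', Submodule.map_top, LinearMap.range_eq_top.2 hg]
  obtain ⟨j, hj, hj'⟩ := this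
  obtain ⟨k, hk⟩ := (hfg (p - j)).1 (by rw [map_sub, hj', sub_self])
  refine ⟨Submodule.Quotient.mk k, ?_⟩
  rw [LinearMap.reduceModIdeal_apply, Submodule.Quotient.eq, hk]
  simpa using neg_mem hj

theorem reduceModIdeal_natural {m n : ℕ} (hmn : m ≤ n) (h : P →ₗ[R] M) (x : P ⧸ (I ^ n • ⊤ : Submodule R P)) :
    AdicCompletion.transitionMap I M hmn (h.reduceModIdeal (I ^ n) x) =
      h.reduceModIdeal (I ^ m) (AdicCompletion.transitionMap I P hmn x) := by
  obtain ⟨p, rfl⟩ := Submodule.Quotient.mk_surjective _ x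
  rfl

theorem adicCompletion_map_injective [Module.Flat R M] (hf : Function.Injective f)
    (hg : Function.Surjective g) (hfg : Function.Exact f g) :
    Function.Injective (AdicCompletion.map I f) := fun x y h => AdicCompletion.ext fun n =>
  reduceModIdeal_injective f g (I ^ n) hf hg hfg (by
    rw [← AdicCompletion.map_val_apply, ← AdicCompletion.map_val_apply, h])

theorem adicCompletion_map_exact [Module.Flat R M] (hf : Function.Injective f)
    (hg : Function.Surjective g) (hfg : Function.Exact f g) :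
    Function.Exact (AdicCompletion.map I f) (AdicCompletion.map I g) := by
  intro x
  constructor
  · intro hx
    have : ∀ n, ∃ y, f.reduceModIdeal (I ^ n) y = x.val n := fun n =>
      reduceModIdeal_exact f g (I ^ n) hg hfg _ (by
        rw [← AdicCompletion.map_val_apply, hx, AdicCompletion.val_zero_apply])
    choose y hy using this
    exact ⟨⟨y, fun {m n} hmn => reduceModIdeal_injective f g (I ^ m) hf hg hfg (by
      rw [← reduceModIdeal_natural, hy, hy, x.2 hmn])⟩, AdicCompletion.ext hy⟩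
  · rintro ⟨y, rfl⟩
    refine AdicCompletion.ext fun n => ?_
    rw [AdicCompletion.map_val_apply, AdicCompletion.map_val_apply, AdicCompletion.val_zero_apply]
    obtain ⟨k, hk⟩ := Submodule.Quotient.mk_surjective _ (y.val n)
    rw [← hk, LinearMap.reduceModIdeal_apply, LinearMap.reduceModIdeal_apply, hfg.apply_apply_eq_zero,
      Submodule.Quotient.mk_zero]

/-- Lifting a section one step. -/
theorem exists_section_succ [Module.Flat R M] [Module.Projective (R ⧸ I) (M ⧸ (I • ⊤ : Submodule R M))]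
    (hg : Function.Surjective g) (hfg : Function.Exact f g) (n : ℕ)
    (s : M ⧸ (I ^ n • ⊤ : Submodule R M) →ₗ[R] P ⧸ (I ^ n • ⊤ : Submodule R P))
    (hs : ∀ x, g.reduceModIdeal (I ^ n) (s x) = x) :
    ∃ s' : M ⧸ (I ^ (n + 1) • ⊤ : Submodule R M) →ₗ[R] P ⧸ (I ^ (n + 1) • ⊤ : Submodule R P),
      (∀ x, g.reduceModIdeal (I ^ (n + 1)) (s' x) = x) ∧
      ∀ x, AdicCompletion.transitionMap I P (Nat.le_succ n) (s' x) =
        s (AdicCompletion.transitionMap I M (Nat.le_succ n) x) := by
  have : Module.Projective (R ⧸ I ^ (n + 1)) (M ⧸ (I ^ (n + 1) • ⊤ : Submodule R M)) :=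
    projective_quot_of_flat I (I ^ (n + 1))
      ⟨n + 1, by rw [← Ideal.map_pow, Ideal.map_quotient_self]; rfl⟩ M
  let h : P ⧸ (I ^ (n + 1) • ⊤ : Submodule R P) →ₗ[R]
      (M ⧸ (I ^ (n + 1) • ⊤ : Submodule R M)) × (P ⧸ (I ^ n • ⊤ : Submodule R P)) :=
    ((g.reduceModIdeal (I ^ (n + 1))).restrictScalars R).prod
      (AdicCompletion.transitionMap I P (Nat.le_succ n))
  have hmem : ∀ x, (x, s (AdicCompletion.transitionMap I M (Nat.le_succ n) x)) ∈ LinearMap.range h := fun x => by
    obtain ⟨m, rfl⟩ := Submodule.Quotient.mk_surjective _ x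
    obtain ⟨p, rfl⟩ := hg m
    have h0 : g.reduceModIdeal (I ^ n)
        (s (AdicCompletion.transitionMap I M (Nat.le_succ n) (Submodule.Quotient.mk (g p))) - Submodule.Quotient.mk p) = 0 := by
      rw [map_sub, hs, LinearMap.reduceModIdeal_apply]
      exact sub_self _
    obtain ⟨k, hk⟩ := reduceModIdeal_exact f g (I ^ n) hg hfg _ h0
    obtain ⟨k, rfl⟩ := Submodule.Quotient.mk_surjective _ k
    refine ⟨Submodule.Quotient.mk (p + f k), Prod.ext ?_ ?_⟩
    · show g.reduceModIdeal (I ^ (n + 1)) (Submodule.Quotient.mk (p + f k)) = _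
      rw [LinearMap.reduceModIdeal_apply, map_add, hfg.apply_apply_eq_zero, add_zero]
    · show Submodule.Quotient.mk (p + f k) = _
      rw [Submodule.Quotient.mk_add, ← LinearMap.reduceModIdeal_apply (I := I ^ n) f k, hk, add_sub_cancel]
  obtain ⟨ψ, hψ⟩ := exists_lift_of_surjective (I ^ (n + 1))
    (Module.isTorsionBySet_quotient_ideal_smul P (I ^ (n + 1))) h.rangeRestrict h.surjective_rangeRestrict
    (((LinearMap.id.prod (s ∘ₗ AdicCompletion.transitionMap I M (Nat.le_succ n)))).codRestrict _ hmem)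
  have hψ' : ∀ x, h (ψ x) = (x, s (AdicCompletion.transitionMap I M (Nat.le_succ n) x)) := fun x =>
    congrArg Subtype.val (LinearMap.congr_fun hψ x)
  exact ⟨ψ, fun x => congrArg Prod.fst (hψ' x), fun x => congrArg Prod.snd (hψ' x)⟩

theorem exists_adicCompletion_section [Module.Flat R M]
    [Module.Projective (R ⧸ I) (M ⧸ (I • ⊤ : Submodule R M))]
    (hg : Function.Surjective g) (hfg : Function.Exact f g) :
    ∃ s : AdicCompletion I M →ₗ[AdicCompletion I R] AdicCompletion I P,
      AdicCompletion.map I g ∘ₗ s = LinearMap.id := by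
  classical
  let S : ∀ n, { s : M ⧸ (I ^ n • ⊤ : Submodule R M) →ₗ[R] P ⧸ (I ^ n • ⊤ : Submodule R P) //
      ∀ x, g.reduceModIdeal (I ^ n) (s x) = x } := fun n =>
    Nat.rec ⟨0, fun x => by
      obtain ⟨m, rfl⟩ := Submodule.Quotient.mk_surjective _ x
      rw [LinearMap.zero_apply, map_zero, eq_comm, Submodule.Quotient.mk_eq_zero]
      simp⟩
      (fun n s => ⟨_, (exists_section_succ I f g hg hfg n s.1 s.2).choose_spec.1⟩) n
  have hS : ∀ {m n : ℕ} (hmn : m ≤ n) (x),
      AdicCompletion.transitionMap I P hmn ((S n).1 x) =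
        (S m).1 (AdicCompletion.transitionMap I M hmn x) := by
    intro m n hmn
    induction n, hmn using Nat.le_induction with
    | base =>
      intro x
      obtain ⟨p, hp⟩ := Submodule.Quotient.mk_surjective _ ((S m).1 x)
      obtain ⟨q, rfl⟩ := Submodule.Quotient.mk_surjective _ x
      rw [← hp]
      exact hp
    | succ n hmn ih =>
      intro x
      have h1 := (exists_section_succ I f g hg hfg n (S n).1 (S n).2).choose_spec.2 x
      obtain ⟨p, hp⟩ := Submodule.Quotient.mk_surjective _ ((S (n + 1)).1 x)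
      obtain ⟨q, hq⟩ := Submodule.Quotient.mk_surjective _ x
      have h2 := ih (AdicCompletion.transitionMap I M (Nat.le_succ n) x)
      rw [← h1] at h2
      change AdicCompletion.transitionMap I P hmn
        (AdicCompletion.transitionMap I P (Nat.le_succ n) ((S (n + 1)).1 x)) = _ at h2
      rw [← hp] at h2 ⊢
      rw [← hq] at h2 ⊢
      exact h2
  refine ⟨{ toFun := fun x => ⟨fun n => (S n).1 (x.val n), fun {m n} hmn => by rw [hS hmn, x.2 hmn]⟩
            map_add' := fun x y => AdicCompletion.ext fun n => map_add (S n).1 _ _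
            map_smul' := fun r x => AdicCompletion.ext fun n => ?_ },
    LinearMap.ext fun x => AdicCompletion.ext fun n => (S n).2 (x.val n)⟩
  show (S n).1 (r.val n • x.val n) = r.val n • (S n).1 (x.val n)
  obtain ⟨a, ha⟩ := Submodule.Quotient.mk_surjective _ (r.val n)
  obtain ⟨b, hb⟩ := Submodule.Quotient.mk_surjective _ (x.val n)
  obtain ⟨c, hc⟩ := Submodule.Quotient.mk_surjective _ ((S n).1 (x.val n))
  rw [← hc, ← ha, ← hb]
  have : (S n).1 (a • Submodule.Quotient.mk b) = a • Submodule.Quotient.mk c := by rw [map_smul, hb, hc]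
  exact this

end Groth.Agent.CommAlg4
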