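import Groth.Prelude.Def_W4c3cyccovratcurvTree
import Mathlib

open W4c3cyccovratcurv SimpleGraph
open scoped Classical

namespace Groth.Agent.CommAlg4.ConicTree

variable {n k : ℕ} (G : SimpleGraph (Fin n)) (u w : Fin n)

/-- move the branches at `w` to `u` -/
def collapse : SimpleGraph (Fin n) :=
  SimpleGraph.fromRel fun a b => (a = u ∧ b = w) ∨ (a ≠ w ∧ b ≠ w ∧ (G.Adj a b ∨ (a = u ∧ G.Adj w b)))

variable {G u w}

lemma collapse_adj {a b : Fin n} : (collapse G u w).Adj a b ↔ a ≠ b ∧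
    (((a = u ∧ b = w) ∨ (a ≠ w ∧ b ≠ w ∧ (G.Adj a b ∨ (a = u ∧ G.Adj w b)))) ∨
     ((b = u ∧ a = w) ∨ (b ≠ w ∧ a ≠ w ∧ (G.Adj b a ∨ (b = u ∧ G.Adj w a))))) := Iff.rfl

lemma collapse_isTree (hG : G.IsTree) (h : G.Adj u w) : (collapse G u w).IsTree := by
  have hne : Nonempty (Fin n) := ⟨u⟩
  let f : Fin n → Fin n := fun x => if x = w then u else x
  have huw : (collapse G u w).Adj u w := collapse_adj.mpr ⟨h.ne, Or.inl (Or.inl ⟨rfl, rfl⟩)⟩
  have hf : ∀ x, (collapse G u w).Reachable x (f x) := by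
    intro x
    by_cases hx : x = w
    · simp only [f, hx, if_true]; exact huw.symm.reachable
    · simp only [f, hx, if_false]; exact Reachable.refl _
  have hstep : ∀ a b, G.Adj a b → (collapse G u w).Reachable (f a) (f b) := by
    intro a b hab
    by_cases he : f a = f b
    · rw [he]
    · refine Adj.reachable (collapse_adj.mpr ⟨he, ?_⟩)
      by_cases ha : a = w
      · subst ha
        have hb : b ≠ a := hab.ne'
        simp only [f, if_true, hb, if_false] at he ⊢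
        exact Or.inl (Or.inr ⟨h.ne, hb, Or.inr ⟨trivial, hab⟩⟩)
      · by_cases hb : b = w
        · subst hb
          simp only [f, if_true, ha, if_false] at he ⊢
          exact Or.inr (Or.inr ⟨h.ne, ha, Or.inr ⟨trivial, hab.symm⟩⟩)
        · simp only [f, ha, hb, if_false] at he ⊢
          exact Or.inl (Or.inr ⟨ha, hb, Or.inl hab⟩)
  have hconn : (collapse G u w).Connected := by
    refine ⟨fun a b => ?_⟩
    refine (hf a).trans (Reachable.trans ?_ (hf b).symm)
    obtain ⟨p⟩ := hG.connected.preconnected a b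
    induction p with
    | nil => exact Reachable.refl _
    | cons hadj _ ih => exact (hstep _ _ hadj).trans ih
  rw [isTree_iff_connected_and_card]
  refine ⟨hconn, le_antisymm ?_ hconn.card_vert_le_card_edgeSet_add_one⟩
  rw [← (isTree_iff_connected_and_card.mp hG).2, add_le_add_iff_right]
  let g : Sym2 (Fin n) → Sym2 (Fin n) := fun e => if e = s(u, w) then e else Sym2.map f e
  have hsub : (collapse G u w).edgeSet ⊆ g '' G.edgeSet := by
    intro e he
    induction e using Sym2.ind with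
    | _ a b =>
      have key : ∀ a b : Fin n, a ≠ b →
          ((a = u ∧ b = w) ∨ (a ≠ w ∧ b ≠ w ∧ (G.Adj a b ∨ (a = u ∧ G.Adj w b)))) → s(a, b) ∈ g '' G.edgeSet := by
        rintro a b hab (⟨rfl, rfl⟩ | ⟨ha, hb, hG' | ⟨rfl, hG'⟩⟩)
        · exact ⟨s(a, b), h, by simp [g]⟩
        · refine ⟨s(a, b), hG', ?_⟩
          have : s(a, b) ≠ s(u, w) := by
            intro e; rcases Sym2.eq_iff.mp e with ⟨-, h2⟩ | ⟨h1, -⟩
            · exact hb h2
            · exact ha h1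
          simp [g, this, f, ha, hb]
        · refine ⟨s(w, b), hG', ?_⟩
          have : s(w, b) ≠ s(a, w) := by
            intro e; rcases Sym2.eq_iff.mp e with ⟨h1, -⟩ | ⟨-, h2⟩
            · exact ha h1.symm
            · exact hab h2.symm
          simp [g, this, f, hb]
      obtain ⟨hab, h1 | h1⟩ := collapse_adj.mp he
      · exact key a b hab h1
      · rw [Sym2.eq_swap]; exact key b a hab.symm h1
  calc Nat.card (collapse G u w).edgeSet ≤ Nat.card (g '' G.edgeSet) := Nat.card_mono (Set.toFinite _) hsub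
    _ ≤ Nat.card G.edgeSet := Nat.card_image_le (Set.toFinite _)

lemma conicAdj_symm {T₁ T₂ : MarkedTree k} (h : ConicAdj T₁ T₂) : ConicAdj T₂ T₁ := by
  obtain ⟨u₁, w₁, u₂, w₂, h₁, h₂, φ, hc, hm⟩ := h
  refine ⟨u₂, w₂, u₁, w₁, h₂, h₁, φ.symm, ?_, fun i => ?_⟩
  · rw [← hc]; exact φ.symm_apply_apply _
  · rw [← hm i]; exact φ.symm_apply_apply _

lemma step (hG : G.IsTree) (m : Fin k → Fin n) (h : G.Adj u w) :
    ConicAdj (⟨n, G, hG, m⟩ : MarkedTree k)
      ⟨n, collapse G u w, collapse_isTree hG h, fun i => if m i = w then u else m i⟩ := by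
  refine ⟨u, w, u, w, h, collapse_adj.mpr ⟨h.ne, Or.inl (Or.inl ⟨rfl, rfl⟩)⟩,
    { toEquiv := Equiv.refl _, map_rel_iff' := ?_ }, rfl, fun i => ?_⟩
  · rintro ⟨a, ha⟩ ⟨b, hb⟩
    show (contract (collapse G u w) u w).Adj ⟨a, ha⟩ ⟨b, hb⟩ ↔ (contract G u w).Adj ⟨a, ha⟩ ⟨b, hb⟩
    simp only [contract, SimpleGraph.fromRel_adj, ne_eq, Subtype.mk.injEq, collapse_adj]
    constructor
    · rintro ⟨hab, h1⟩
      refine ⟨hab, ?_⟩
      rcases h1 with (⟨-, h2⟩ | ⟨rfl, -, h2⟩) | (⟨-, h2⟩ | ⟨rfl, -, h2⟩)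
      · rcases h2 with (⟨-, e⟩ | ⟨-, -, h3⟩) | (⟨-, e⟩ | ⟨-, -, h3⟩)
        · exact absurd e hb
        · exact Or.inl h3
        · exact absurd e ha
        · exact Or.inr h3
      · rcases h2 with (⟨e, -⟩ | ⟨e, -, -⟩) | (⟨e, -⟩ | ⟨-, e, -⟩)
        · exact absurd e.symm h.ne
        · exact absurd trivial e
        · exact absurd e.symm hab
        · exact absurd trivial e
      · rcases h2 with (⟨-, e⟩ | ⟨-, -, h3⟩) | (⟨-, e⟩ | ⟨-, -, h3⟩)
        · exact absurd e ha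
        · exact Or.inr h3
        · exact absurd e hb
        · exact Or.inl h3
      · rcases h2 with (⟨e, -⟩ | ⟨e, -, -⟩) | (⟨e, -⟩ | ⟨-, e, -⟩)
        · exact absurd e.symm h.ne
        · exact absurd trivial e
        · exact absurd e hab
        · exact absurd trivial e
    · rintro ⟨hab, h1⟩
      refine ⟨hab, ?_⟩
      rcases h1 with h2 | h2
      · exact Or.inl (Or.inl ⟨hab, Or.inl (Or.inr ⟨ha, hb, h2⟩)⟩)
      · exact Or.inr (Or.inl ⟨Ne.symm hab, Or.inl (Or.inr ⟨hb, ha, h2⟩)⟩)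
  · by_cases hi : m i = w
    · simp [contractMark, hi, h.ne]
    · simp [contractMark, hi]

variable [NeZero n]

/-- the canonical star -/
def star (n : ℕ) [NeZero n] : SimpleGraph (Fin n) := SimpleGraph.fromRel fun a _ => a = 0

lemma to_star : ∀ (N : ℕ) (G : SimpleGraph (Fin n)) (hG : G.IsTree) (m : Fin k → Fin n),
    {v | v ≠ 0 ∧ ¬ G.Adj 0 v}.ncard + {i | m i ≠ 0}.ncard = N →
    ∃ (G' : SimpleGraph (Fin n)) (hG' : G'.IsTree), G' = star n ∧
      Relation.ReflTransGen ConicAdj (⟨n, G, hG, m⟩ : MarkedTree k) ⟨n, G', hG', fun _ => 0⟩ := by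
  intro N
  induction N using Nat.strong_induction_on with
  | _ N ih =>
    intro G hG m hN
    -- one move from an edge at 0
    have move : ∀ w, G.Adj 0 w → (∃ b, b ≠ 0 ∧ ¬ G.Adj 0 b ∧ G.Adj w b) ∨ (∃ i, m i = w) →
        ∃ (G' : SimpleGraph (Fin n)) (hG' : G'.IsTree), G' = star n ∧
          Relation.ReflTransGen ConicAdj (⟨n, G, hG, m⟩ : MarkedTree k) ⟨n, G', hG', fun _ => 0⟩ := by
      intro w hw hcase
      have hs1 : {v | v ≠ 0 ∧ ¬ (collapse G 0 w).Adj 0 v} ⊆ {v | v ≠ 0 ∧ ¬ G.Adj 0 v} := by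
        rintro v ⟨hv0, hv⟩
        refine ⟨hv0, fun ha => hv (collapse_adj.mpr ⟨Ne.symm hv0, ?_⟩)⟩
        by_cases hvw : v = w
        · exact Or.inl (Or.inl ⟨rfl, hvw⟩)
        · exact Or.inl (Or.inr ⟨hw.ne, hvw, Or.inl ha⟩)
      have hs2 : {i | (if m i = w then 0 else m i) ≠ 0} ⊆ {i | m i ≠ 0} := by
        intro i hi
        simp only [Set.mem_setOf_eq] at hi ⊢
        split_ifs at hi with h
        · exact absurd rfl hi
        · exact hi
      have hlt : {v | v ≠ 0 ∧ ¬ (collapse G 0 w).Adj 0 v}.ncard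
          + {i | (if m i = w then 0 else m i) ≠ 0}.ncard < N := by
        rcases hcase with ⟨b, hb0, hb, hwb⟩ | ⟨i, hi⟩
        · have h1 := Set.ncard_lt_ncard (s := {v | v ≠ 0 ∧ ¬ (collapse G 0 w).Adj 0 v}) (t := {v | v ≠ 0 ∧ ¬ G.Adj 0 v})
            (Set.ssubset_iff_of_subset hs1 |>.mpr ⟨b, ⟨hb0, hb⟩, fun hh => hh.2
              (collapse_adj.mpr ⟨Ne.symm hb0, Or.inl (Or.inr ⟨hw.ne, hwb.ne', Or.inr ⟨rfl, hwb⟩⟩)⟩)⟩)
          have h2 := Set.ncard_le_ncard hs2
          omega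
        · have h1 := Set.ncard_le_ncard hs1
          have h2 := Set.ncard_lt_ncard (s := {i | (if m i = w then 0 else m i) ≠ 0}) (t := {i | m i ≠ 0})
            (Set.ssubset_iff_of_subset hs2 |>.mpr ⟨i, by
              simp only [Set.mem_setOf_eq, hi]; exact hw.ne', by simp [hi]⟩)
          omega
      obtain ⟨G', hG', e, hr⟩ := ih _ hlt _ (collapse_isTree hG hw) _ rfl
      exact ⟨G', hG', e, Relation.ReflTransGen.head (step hG m hw) hr⟩
    have main : (∃ v, v ≠ 0 ∧ ¬ G.Adj 0 v) → ∃ w b, G.Adj 0 w ∧ b ≠ 0 ∧ ¬ G.Adj 0 b ∧ G.Adj w b := by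
      rintro ⟨v, hv0, hv⟩
      obtain ⟨p⟩ := hG.connected.preconnected 0 v
      obtain ⟨d, -, hd1, hd2⟩ := p.exists_boundary_dart {x | x = 0 ∨ G.Adj 0 x} (Or.inl rfl)
        (by simp [hv0, hv])
      simp only [Set.mem_setOf_eq, not_or] at hd1 hd2
      rcases hd1 with h | h
      · exact absurd (h ▸ d.adj) hd2.2
      · exact ⟨_, _, h, hd2.1, hd2.2, d.adj⟩
    by_cases hA : ∃ v, v ≠ 0 ∧ ¬ G.Adj 0 v
    · obtain ⟨w, b, hw, hb⟩ := main hA
      exact move w hw (Or.inl ⟨b, hb⟩)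
    by_cases hB : ∃ i, m i ≠ 0
    · obtain ⟨i, hi⟩ := hB
      push_neg at hA
      exact move (m i) (hA _ hi) (Or.inr ⟨i, rfl⟩)
    push_neg at hA hB
    have hGs : G = star n := by
      ext a b
      simp only [star, SimpleGraph.fromRel_adj]
      constructor
      · intro hab
        refine ⟨hab.ne, ?_⟩
        by_contra hc
        push_neg at hc
        obtain ⟨ha, hb⟩ := hc
        have p1 : (SimpleGraph.Walk.cons (hA a ha).symm Walk.nil).IsPath := by
          simp [ha]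
        have p2 : (SimpleGraph.Walk.cons hab (Walk.cons (hA b hb).symm Walk.nil)).IsPath := by
          simp [ha, hb, hab.ne]
        have := hG.IsAcyclic.path_unique ⟨_, p1⟩ ⟨_, p2⟩
        have := congrArg (fun q : G.Path a 0 => q.1.length) this
        simp at this
      · rintro ⟨hab, rfl | rfl⟩
        · exact hA b (Ne.symm hab)
        · exact (hA a hab).symm
    have hm : m = fun _ => 0 := funext hB
    subst hm
    exact ⟨G, hG, hGs, Relation.ReflTransGen.refl⟩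

theorem main (T₁ T₂ : MarkedTree k) (h : T₁.n = T₂.n) : Relation.ReflTransGen ConicAdj T₁ T₂ := by
  obtain ⟨n, G₁, hG₁, m₁⟩ := T₁
  obtain ⟨n', G₂, hG₂, m₂⟩ := T₂
  simp only at h
  subst h
  haveI : Nonempty (Fin n) := hG₁.connected.nonempty
  haveI : NeZero n := ⟨fun h0 => by subst h0; exact Fin.elim0 (Classical.arbitrary (Fin 0))⟩
  obtain ⟨A, hA, eA, r1⟩ := to_star _ G₁ hG₁ m₁ rfl
  obtain ⟨B, hB, eB, r2⟩ := to_star _ G₂ hG₂ m₂ rfl
  subst eA eB
  exact r1.trans ((Relation.reflTransGen_swap).mp (Relation.ReflTransGen.mono (fun _ _ h => conicAdj_symm h) _ _ r2))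

end Groth.Agent.CommAlg4.ConicTree
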