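import Groth.Agent.CommAlg4.ConstExtTower
import Mathlib.FieldTheory.IsAlgClosed.AlgebraicClosure
import Mathlib.FieldTheory.PurelyInseparable.Basic
import Mathlib.Algebra.Polynomial.Identities

/-! Constant field extensions of function fields: number and ramification of places above a
split nonsingular place. -/

set_option autoImplicit false
set_option backward.isDefEq.respectTransparency false

open FunFld WithZero TensorProduct
open scoped Classical

namespace Groth.Agent.CommAlg4.ConstExt

universe u v

variable {k k' : Type u} {K K' : Type v} [Field k] [Field k'] [Field K] [Field K']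
  [Algebra k k'] [Algebra k K] [Algebra K K'] [Algebra k' K'] [Algebra k K']
  [IsScalarTower k k' K'] [IsScalarTower k K K']

/-- a place of `K'` over the constants `k'`, regarded over `k` -/
def restr (Q : Place k' K') : Place k K' :=
  ⟨Q.1, fun c => by rw [IsScalarTower.algebraMap_apply k k' K']; exact Q.2.1 _, Q.2.2⟩

theorem val_const_le [FiniteDimensional k k'] (R : Place k K') (c : k') : R.1 (algebraMap k' K' c) ≤ 1 := by
  have hc : IsIntegral R.O (algebraMap k' K' c) :=
    (IsIntegral.of_finite k c).map_of_comp_eq (algebraMap k R.O) (algebraMap k' K') (by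
      ext x
      simp only [RingHom.comp_apply]
      rw [← IsScalarTower.algebraMap_apply k k' K']
      rfl)
  obtain ⟨d, hd⟩ := IsIntegrallyClosed.isIntegral_iff.mp hc
  exact hd ▸ (FF.mem_O R).mp d.2

theorem exists_restr_eq [FiniteDimensional k k'] (R : Place k K') : ∃ Q : Place k' K', restr Q = R :=
  ⟨⟨R.1, val_const_le R, R.2.2⟩, rfl⟩

theorem finrank_eq_finrank [FiniteDimensional k k'] (h : Function.Bijective (Algebra.TensorProduct.productMap
    (IsScalarTower.toAlgHom k k' K') (IsScalarTower.toAlgHom k K K'))) :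
    Module.finrank K K' = Module.finrank k k' := by
  let f : K ⊗[k] k' →ₐ[K] K' := Algebra.TensorProduct.lift (Algebra.ofId K K')
    (IsScalarTower.toAlgHom k k' K') (fun _ _ => Commute.all _ _)
  have hf : Function.Bijective f := by
    have e : ⇑f = (Algebra.TensorProduct.productMap
        (IsScalarTower.toAlgHom k k' K') (IsScalarTower.toAlgHom k K K')) ∘ Algebra.TensorProduct.comm k K k' := by
      funext t
      induction t using TensorProduct.induction_on with
      | zero => simp
      | tmul a c => simp [f, mul_comm]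
      | add x y hx hy => simp only [map_add, Function.comp_apply] at *; rw [hx, hy]
    rw [e]
    exact h.comp (Algebra.TensorProduct.comm k K k').bijective
  rw [← (AlgEquiv.ofBijective f hf).toLinearEquiv.finrank_eq, Module.finrank_baseChange]

theorem mem_pow_maximalIdeal_iff {F : Type u} {L : Type v} [Field F] [Field L] [Algebra F L] (Q : Place F L) (n : ℕ)
    (z : Q.O) : z ∈ IsLocalRing.maximalIdeal Q.O ^ n ↔ Q.1 (z : L) ≤ exp (-(n : ℤ)) := by
  obtain ⟨t, ht0, ht⟩ := FF.exists_uniformizer Q
  let π : Q.O := ⟨t, (FF.mem_O Q).2 (by rw [ht, ← exp_zero, exp_le_exp]; norm_num)⟩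
  have hmax : IsLocalRing.maximalIdeal Q.O = Ideal.span {π} := by
    refine le_antisymm (fun w hw => ?_) ((Ideal.span_singleton_le_iff_mem _).2 ?_)
    · have hlt : Q.1 (w : L) < 1 := (FF.residue_eq_zero_iff Q).1 ((IsLocalRing.residue_eq_zero_iff w).2 hw)
      refine Ideal.mem_span_singleton'.2 ⟨⟨(w : L) / t, (FF.mem_O Q).2 ?_⟩, Subtype.ext (div_mul_cancel₀ _ ht0)⟩
      rw [map_div₀, ht, div_le_one₀ exp_pos]
      simpa using FF.pow_le_exp_neg hlt 1
    · rw [← IsLocalRing.residue_eq_zero_iff, FF.residue_eq_zero_iff Q]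
      show Q.1 t < 1
      rw [ht, ← exp_zero, exp_lt_exp]
      norm_num
  rw [hmax, Ideal.span_singleton_pow, Ideal.mem_span_singleton']
  constructor
  · rintro ⟨a, rfl⟩
    show Q.1 ((a : L) * t ^ n) ≤ _
    rw [map_mul, map_pow, ht, ← exp_nsmul]
    refine (mul_le_mul' ((FF.mem_O Q).1 a.2) le_rfl).trans (le_of_eq ?_)
    rw [one_mul]
    congr 1
    simp
  · intro hz
    refine ⟨⟨(z : L) / t ^ n, (FF.mem_O Q).2 ?_⟩, Subtype.ext (div_mul_cancel₀ _ (pow_ne_zero _ ht0))⟩
    rw [map_div₀, map_pow, ht, ← exp_nsmul, div_le_one₀ exp_pos]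
    refine hz.trans (le_of_eq ?_)
    congr 1
    simp

set_option maxHeartbeats 1000000 in
theorem count_places [FiniteDimensional k k'] (h : Function.Bijective (Algebra.TensorProduct.productMap
      (IsScalarTower.toAlgHom k k' K') (IsScalarTower.toAlgHom k K K')))
    (hK : FunFld.IsFunctionField k K) (P : Place k K) [Algebra P.O K'] [IsScalarTower P.O K K']
    (hcl : ∀ z : K', IsIntegral P.O z → z ∈ Algebra.adjoin P.O (Set.range (algebraMap k' K')))
    (hsplit : ∀ Q : Place k' K', IsOver (restr (k := k) Q) P → Q.deg = 1) :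
    {Q : Place k' K' | IsOver (restr (k := k) Q) P}.Finite ∧
    {Q : Place k' K' | IsOver (restr (k := k) Q) P}.ncard = Field.finSepDegree k (IsLocalRing.ResidueField P.O) ∧
    ∀ Q : Place k' K', IsOver (restr (k := k) Q) P →
      IsOverWith (restr (k := k) Q) P (Module.finrank (separableClosure k (IsLocalRing.ResidueField P.O))
        (IsLocalRing.ResidueField P.O)) := by
  haveI := finiteDimensional h
  haveI hκfin : FiniteDimensional k (IsLocalRing.ResidueField P.O) := FF.finiteDimensional_residue' hK.1 P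
  have hrinj : Function.Injective (restr (k := k) : Place k' K' → Place k K') := fun a b hab => by
    have := congrArg Subtype.val hab
    exact Subtype.ext this
  have hfin : {Q : Place k' K' | IsOver (restr (k := k) Q) P}.Finite :=
    Set.Finite.preimage (f := restr (k := k)) hrinj.injOn (FF.finite_over (K' := K') hK.1 P)
  let Ps := (FF.finite_over (K' := K') hK.1 P).toFinset
  have himg : ∀ z : K', IsIntegral P.O z → ∃ η, Φ (k' := k') P η = z := by
    intro z hz
    have hz' := hcl z hz
    clear hz
    induction hz' using Algebra.adjoin_induction with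
    | mem y hy => obtain ⟨c, rfl⟩ := hy; exact ⟨c ⊗ₜ 1, by rw [Φ_tmul, map_one, mul_one]⟩
    | algebraMap r => exact ⟨1 ⊗ₜ r, by rw [Φ_tmul, map_one, one_mul]⟩
    | add x y _ _ hx hy => obtain ⟨a, rfl⟩ := hx; obtain ⟨b, rfl⟩ := hy; exact ⟨a + b, map_add _ _ _⟩
    | mul x y _ _ hx hy => obtain ⟨a, rfl⟩ := hx; obtain ⟨b, rfl⟩ := hy; exact ⟨a * b, map_mul _ _ _⟩
  have hΦle : ∀ (η : k' ⊗[k] P.O) (R : Place k K'), IsOver R P → R.1 (Φ (K' := K') P η) ≤ 1 := by
    intro η R hR
    induction η using TensorProduct.induction_on with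
    | zero => rw [map_zero, map_zero]; exact zero_le_one
    | tmul c o =>
      rw [Φ_tmul, map_mul, IsScalarTower.algebraMap_apply P.O K K']
      exact mul_le_one' (val_const_le R c) (FF.isOver_val_le hR ((FF.mem_O P).1 o.2))
    | add x y hx hy => rw [map_add]; exact (R.1.map_add _ _).trans (max_le hx hy)
  have hO : ∀ (η : k' ⊗[k] P.O) (Q : Place k' K'), IsOver (restr (k := k) Q) P → Φ (K' := K') P η ∈ Q.O :=
    fun η Q hQ => (FF.mem_O Q).2 (hΦle η _ hQ)
  let rm : ∀ Q : Place k' K', IsOver (restr (k := k) Q) P → (P.O →+* Q.O) := fun Q hQ => FF.ringMap hQ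
  let rs : ∀ Q : Place k' K', IsOver (restr (k := k) Q) P →
      (IsLocalRing.ResidueField P.O →+* IsLocalRing.ResidueField Q.O) := fun Q hQ => FF.resMap hQ
  let ρ := Algebra.TensorProduct.map (AlgHom.id k k') (red P)
  have hρs : Function.Surjective ρ :=
    TensorProduct.map_surjective Function.surjective_id IsLocalRing.residue_surjective
  -- the embedding of the residue field attached to a place
  have hσ : ∀ Q : Place k' K', ∀ hQ : IsOver (restr (k := k) Q) P,
      ∃ σ : IsLocalRing.ResidueField P.O →ₐ[k] k', ∀ a,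
        algebraMap k' (IsLocalRing.ResidueField Q.O) (σ a) = rs Q hQ a := by
    intro Q hQ
    have hsurj : Function.Surjective (algebraMap k' (IsLocalRing.ResidueField Q.O)) := fun w => by
      obtain ⟨c, hc⟩ := (finrank_eq_one_iff_of_nonzero' (1 : IsLocalRing.ResidueField Q.O) one_ne_zero).1
        (hsplit Q hQ) w
      exact ⟨c, by rw [← hc, Algebra.smul_def, mul_one]⟩
    let e : k' ≃+* IsLocalRing.ResidueField Q.O := RingEquiv.ofBijective _ ⟨RingHom.injective _, hsurj⟩
    refine ⟨{ e.symm.toRingHom.comp (rs Q hQ) with commutes' := fun c => ?_ }, fun a => ?_⟩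
    · show e.symm (rs Q hQ (algebraMap k (IsLocalRing.ResidueField P.O) c)) = algebraMap k k' c
      rw [RingEquiv.symm_apply_eq]
      show IsLocalRing.residue Q.O (rm Q hQ (algebraMap k P.O c)) = IsLocalRing.residue Q.O _
      congr 1
      exact Subtype.ext ((IsScalarTower.algebraMap_apply k K K' c).symm.trans (IsScalarTower.algebraMap_apply k k' K' c))
    · exact e.apply_symm_apply _
  choose σ hσ using hσ
  -- lifts compute residues
  have hlift : ∀ Q : Place k' K', ∀ hQ : IsOver (restr (k := k) Q) P, ∀ η : k' ⊗[k] P.O,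
      IsLocalRing.residue Q.O ⟨Φ (K' := K') P η, hO η Q hQ⟩ =
        algebraMap k' (IsLocalRing.ResidueField Q.O)
          (Algebra.TensorProduct.productMap (AlgHom.id k k') (σ Q hQ) (ρ η)) := by
    intro Q hQ η
    induction η using TensorProduct.induction_on with
    | zero =>
      rw [show (⟨Φ (K' := K') P 0, hO 0 Q hQ⟩ : Q.O) = 0 from Subtype.ext (map_zero _)]
      simp only [map_zero]
    | tmul c o =>
      simp only [ρ, Algebra.TensorProduct.map_tmul, AlgHom.id_apply, Algebra.TensorProduct.productMap_apply_tmul,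
        map_mul, hσ]
      show _ = IsLocalRing.residue Q.O (algebraMap k' Q.O c) * IsLocalRing.residue Q.O (rm Q hQ o)
      rw [← map_mul]
      exact congrArg _ (Subtype.ext ((Φ_tmul P c o).trans (by rw [IsScalarTower.algebraMap_apply P.O K K']; rfl)))
    | add x y hx hy =>
      rw [show (⟨Φ (K' := K') P (x + y), hO (x + y) Q hQ⟩ : Q.O) =
        ⟨_, hO x Q hQ⟩ + ⟨_, hO y Q hQ⟩ from Subtype.ext (map_add _ _ _)]
      simp only [map_add, hx, hy]
  have hzero : ∀ Q : Place k' K', ∀ hQ : IsOver (restr (k := k) Q) P, ∀ η : k' ⊗[k] P.O,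
      Q.1 (Φ (K' := K') P η) < 1 ↔ Algebra.TensorProduct.productMap (AlgHom.id k k') (σ Q hQ) (ρ η) = 0 := by
    intro Q hQ η
    have e := FF.residue_eq_zero_iff Q (x := ⟨Φ (K' := K') P η, hO η Q hQ⟩)
    rw [hlift Q hQ η, map_eq_zero] at e
    exact e.symm
  -- the bijection with the embeddings
  let C := AlgebraicClosure k'
  let τ : {Q : Place k' K' // IsOver (restr (k := k) Q) P} → (IsLocalRing.ResidueField P.O →ₐ[k] C) := fun Q =>
    (IsScalarTower.toAlgHom k k' C).comp (σ Q.1 Q.2)
  have τinj : Function.Injective τ := by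
    rintro ⟨Q, hQ⟩ ⟨Q', hQ'⟩ hττ
    have hσeq : σ Q hQ = σ Q' hQ' := AlgHom.ext fun a =>
      (algebraMap k' C).injective (DFunLike.congr_fun hττ a)
    by_contra hne
    have hne' : restr (k := k) Q ≠ restr (k := k) Q' := fun h' => hne (Subtype.ext (hrinj h'))
    obtain ⟨y, hy⟩ := FF.exists_approx Ps (fun R => if R = restr (k := k) Q' then 1 else 0) (fun _ => -1)
    have hyQ : Q.1 y < 1 := by
      have h1 := hy (restr (k := k) Q) (by simpa [Ps] using hQ)
      rw [if_neg hne', sub_zero] at h1
      exact h1.trans_lt (by rw [← exp_zero, exp_lt_exp]; norm_num)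
    have hyQ' : Q'.1 (y - 1) < 1 := by
      have h1 := hy (restr (k := k) Q') (by simpa [Ps] using hQ')
      rw [if_pos rfl] at h1
      exact h1.trans_lt (by rw [← exp_zero, exp_lt_exp]; norm_num)
    have hyint : IsIntegral P.O y := (FF.isIntegral_iff_forall_place hK.1 P y).2 fun R hR => by
      have h1 := hy R (by simpa [Ps] using hR)
      by_cases hR' : R = restr (k := k) Q'
      · subst hR'
        rw [show y = (y - 1) + 1 by ring]
        exact (Valuation.map_add _ _ _).trans (max_le hyQ'.le (le_of_eq (map_one _)))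
      · rw [if_neg hR', sub_zero] at h1
        exact h1.trans (by rw [← exp_zero, exp_le_exp]; norm_num)
    obtain ⟨η, rfl⟩ := himg y hyint
    have h1 := (hzero Q hQ η).1 hyQ
    rw [hσeq, ← hzero Q' hQ' η] at h1
    have h2 := Valuation.map_sub_eq_of_lt_left Q'.1 (x := 1) (y := Φ (K' := K') P η) (by rwa [map_one])
    rw [Valuation.map_sub_swap, map_one] at h2
    exact hyQ'.ne h2
  have τsurj : Function.Surjective τ := by
    intro t
    by_contra hno
    push Not at hno
    haveI : Fintype {Q : Place k' K' // IsOver (restr (k := k) Q) P} := hfin.fintype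
    have ha : ∀ Q : {Q : Place k' K' // IsOver (restr (k := k) Q) P}, ∃ a, τ Q a ≠ t a := fun Q => by
      by_contra hall
      push Not at hall
      exact hno Q (AlgHom.ext hall)
    choose a ha using ha
    let xQ : {Q : Place k' K' // IsOver (restr (k := k) Q) P} → k' ⊗[k] IsLocalRing.ResidueField P.O :=
      fun Q => (1 : k') ⊗ₜ a Q - σ Q.1 Q.2 (a Q) ⊗ₜ 1
    obtain ⟨η, hη⟩ := hρs (∏ Q, xQ Q)
    have hall : ∀ R : Place k K', IsOver R P → R.1 (Φ (K' := K') P η) < 1 := by
      intro R hR
      obtain ⟨Q, rfl⟩ := exists_restr_eq (k' := k') R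
      refine (hzero Q hR η).2 ?_
      rw [hη, map_prod]
      refine Finset.prod_eq_zero (Finset.mem_univ (⟨Q, hR⟩ : {Q : Place k' K' // IsOver (restr (k := k) Q) P})) ?_
      simp [xQ]
    obtain ⟨π, hπ0, hπ⟩ := FF.exists_uniformizer P
    let E := ∑ R ∈ Ps, ramIdx R P
    have hint := (FF.isIntegral_iff_forall_place hK.1 P (Φ (K' := K') P η ^ E * (algebraMap K K' π)⁻¹)).2 fun R hR => by
      rw [map_mul, map_pow, map_inv₀, FF.isOverWith_ramIdx hR π, hπ, mul_inv_le_iff₀ (pow_pos exp_pos _), one_mul]
      refine (pow_le_pow_left₀ zero_le (show R.1 (Φ (K' := K') P η) ≤ exp (-1 : ℤ) by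
        simpa using FF.pow_le_exp_neg (hall R hR) 1) E).trans ?_
      have hle : ramIdx R P ≤ E := Finset.single_le_sum (fun R _ => Nat.zero_le (ramIdx R P)) (by simpa [Ps] using hR)
      rw [← exp_nsmul, ← exp_nsmul, exp_le_exp, nsmul_eq_mul, nsmul_eq_mul]
      have : (ramIdx R P : ℤ) ≤ E := by exact_mod_cast hle
      linarith
    obtain ⟨θ, hθ⟩ := himg _ hint
    let πO : P.O := ⟨π, (FF.mem_O P).2 (by rw [hπ, ← exp_zero, exp_le_exp]; norm_num)⟩
    have hπres : IsLocalRing.residue P.O πO = 0 := (FF.residue_eq_zero_iff P).2 (by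
      show P.1 π < 1
      rw [hπ, ← exp_zero, exp_lt_exp]; norm_num)
    have hrel : η ^ E = ((1 : k') ⊗ₜ[k] πO) * θ := by
      apply Φ_injective (K' := K') h P
      rw [map_pow, map_mul, hθ, Φ_tmul, map_one, one_mul, IsScalarTower.algebraMap_apply P.O K K']
      show _ = algebraMap K K' π * (_ * (algebraMap K K' π)⁻¹)
      rw [mul_left_comm, mul_inv_cancel₀ ((map_ne_zero _).2 hπ0), mul_one]
    let ψ := Algebra.TensorProduct.productMap (IsScalarTower.toAlgHom k k' C) t
    have h0 : ψ (ρ η) ^ E = 0 := by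
      rw [← map_pow, ← map_pow, hrel, map_mul, map_mul, show ρ ((1 : k') ⊗ₜ[k] πO) = 0 by
        simp only [ρ, Algebra.TensorProduct.map_tmul, AlgHom.id_apply]
        rw [show red P πO = 0 from hπres, tmul_zero], map_zero, zero_mul]
    have h1 : ψ (ρ η) = 0 := IsNilpotent.eq_zero ⟨E, h0⟩
    rw [hη, map_prod, Finset.prod_eq_zero_iff] at h1
    obtain ⟨Q, -, hQ0⟩ := h1
    apply ha Q
    simp only [xQ, ψ, map_sub, Algebra.TensorProduct.productMap_apply_tmul, map_one, one_mul, mul_one,
      sub_eq_zero] at hQ0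
    exact hQ0.symm
  have hcard : {Q : Place k' K' | IsOver (restr (k := k) Q) P}.ncard =
      Field.finSepDegree k (IsLocalRing.ResidueField P.O) := by
    rw [← Nat.card_coe_set_eq, Field.finSepDegree_eq_of_isAlgClosed k (IsLocalRing.ResidueField P.O) C]
    exact Nat.card_congr (Equiv.ofBijective τ ⟨τinj, τsurj⟩)
  -- the ramification bound
  set i := Module.finrank (separableClosure k (IsLocalRing.ResidueField P.O)) (IsLocalRing.ResidueField P.O) with hi
  have hbound : ∀ Q : Place k' K', ∀ hQ : IsOver (restr (k := k) Q) P, ramIdx (restr (k := k) Q) P ≤ i := by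
    intro Q hQ
    set e := ramIdx (restr (k := k) Q) P with he
    have he0 : 0 < e := FF.ramIdx_pos hQ
    let I : Ideal Q.O := IsLocalRing.maximalIdeal Q.O ^ e
    have hker : ∀ o ∈ IsLocalRing.maximalIdeal P.O, ((Ideal.Quotient.mk I).comp (rm Q hQ)) o = 0 := by
      intro o ho
      refine Ideal.Quotient.eq_zero_iff_mem.2 ((mem_pow_maximalIdeal_iff Q e _).2 ?_)
      exact FF.isOver_val_le_exp hQ ((FF.residue_eq_zero_iff P).1 ((IsLocalRing.residue_eq_zero_iff o).2 ho))
    letI : Algebra k' (Q.O ⧸ I) := ((Ideal.Quotient.mk I).comp (algebraMap k' Q.O)).toAlgebra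
    letI : Algebra k (Q.O ⧸ I) := ((algebraMap k' (Q.O ⧸ I)).comp (algebraMap k k')).toAlgebra
    haveI : IsScalarTower k k' (Q.O ⧸ I) := IsScalarTower.of_algebraMap_eq fun _ => rfl
    let θ : IsLocalRing.ResidueField P.O →ₐ[k] Q.O ⧸ I :=
      { Ideal.Quotient.lift (IsLocalRing.maximalIdeal P.O) ((Ideal.Quotient.mk I).comp (rm Q hQ)) hker with
        commutes' := fun c => by
          show Ideal.Quotient.mk I (rm Q hQ (algebraMap k P.O c)) =
            Ideal.Quotient.mk I (algebraMap k' Q.O (algebraMap k k' c))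
          congr 1
          exact Subtype.ext ((IsScalarTower.algebraMap_apply k K K' c).symm.trans
            (IsScalarTower.algebraMap_apply k k' K' c)) }
    have hθ : ∀ o : P.O, θ (IsLocalRing.residue P.O o) = Ideal.Quotient.mk I (rm Q hQ o) := fun _ => rfl
    let δ := Algebra.TensorProduct.productMap (IsScalarTower.toAlgHom k k' (Q.O ⧸ I)) θ
    have hδ : ∀ η, δ (ρ η) = Ideal.Quotient.mk I ⟨Φ (K' := K') P η, hO η Q hQ⟩ := by
      intro η
      induction η using TensorProduct.induction_on with
      | zero =>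
        rw [show (⟨Φ (K' := K') P 0, hO 0 Q hQ⟩ : Q.O) = 0 from Subtype.ext (map_zero _)]
        simp only [map_zero]
      | tmul c o =>
        simp only [δ, ρ, Algebra.TensorProduct.map_tmul, AlgHom.id_apply, Algebra.TensorProduct.productMap_apply_tmul]
        show Ideal.Quotient.mk I (algebraMap k' Q.O c) * θ (IsLocalRing.residue P.O o) = _
        rw [hθ, ← map_mul]
        exact congrArg _ <| Subtype.ext (((Φ_tmul P c o).trans (by rw [IsScalarTower.algebraMap_apply P.O K K']; rfl)).symm)
      | add x y hx hy =>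
        rw [show (⟨Φ (K' := K') P (x + y), hO (x + y) Q hQ⟩ : Q.O) =
          ⟨_, hO x Q hQ⟩ + ⟨_, hO y Q hQ⟩ from Subtype.ext (map_add _ _ _)]
        simp only [map_add, hx, hy]
    have hsep : ∀ a : separableClosure k (IsLocalRing.ResidueField P.O),
        θ (a : IsLocalRing.ResidueField P.O) = algebraMap k' (Q.O ⧸ I) (σ Q hQ a) := by
      rintro ⟨a, ha⟩
      show θ a = algebraMap k' (Q.O ⧸ I) (σ Q hQ a)
      have hsp : (minpoly k a).Separable := mem_separableClosure_iff.1 ha
      set x := θ a with hx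
      set y := algebraMap k' (Q.O ⧸ I) (σ Q hQ a) with hy
      have hfx : ((minpoly k a).map (algebraMap k (Q.O ⧸ I))).eval x = 0 := by
        rw [Polynomial.eval_map, ← Polynomial.aeval_def, hx, Polynomial.aeval_algHom_apply, minpoly.aeval, map_zero]
      have hy' : y = (IsScalarTower.toAlgHom k k' (Q.O ⧸ I)).comp (σ Q hQ) a := rfl
      have hfy : ((minpoly k a).map (algebraMap k (Q.O ⧸ I))).eval y = 0 := by
        rw [Polynomial.eval_map, ← Polynomial.aeval_def, hy', Polynomial.aeval_algHom_apply, minpoly.aeval, map_zero]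
      have hfy' : IsUnit (((minpoly k a).map (algebraMap k (Q.O ⧸ I))).derivative.eval y) := by
        rw [Polynomial.derivative_map, Polynomial.eval_map, ← Polynomial.aeval_def, hy,
          Polynomial.aeval_algebraMap_apply]
        refine (Ne.isUnit ?_).map _
        rw [Polynomial.aeval_algHom_apply]
        exact (map_ne_zero_iff _ (σ Q hQ).toRingHom.injective).2
          (hsp.aeval_derivative_ne_zero (minpoly.aeval k a))
      have hnil : IsNilpotent (x - y) := by
        obtain ⟨o, rfl⟩ := IsLocalRing.residue_surjective a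
        refine ⟨e, ?_⟩
        rw [hx, hy, hθ, show algebraMap k' (Q.O ⧸ I) (σ Q hQ (IsLocalRing.residue P.O o)) =
          Ideal.Quotient.mk I (algebraMap k' Q.O (σ Q hQ (IsLocalRing.residue P.O o))) from rfl, ← map_sub,
          ← map_pow, Ideal.Quotient.eq_zero_iff_mem]
        refine Ideal.pow_mem_pow ?_ e
        rw [← IsLocalRing.residue_eq_zero_iff, map_sub, sub_eq_zero]
        show rs Q hQ (IsLocalRing.residue P.O o) = algebraMap k' (IsLocalRing.ResidueField Q.O) _
        exact (hσ Q hQ _).symm
      obtain ⟨c, hc⟩ := Polynomial.binomExpansion ((minpoly k a).map (algebraMap k (Q.O ⧸ I))) y (x - y)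
      rw [add_sub_cancel, hfx, hfy, zero_add] at hc
      have hu : IsUnit (((minpoly k a).map (algebraMap k (Q.O ⧸ I))).derivative.eval y + c * (x - y)) :=
        IsNilpotent.isUnit_add_left_of_commute ((Commute.all c (x - y)).isNilpotent_mul_left hnil) hfy'
          (Commute.all _ _)
      have h0 : (((minpoly k a).map (algebraMap k (Q.O ⧸ I))).derivative.eval y + c * (x - y)) * (x - y) = 0 := by
        linear_combination -hc
      exact sub_eq_zero.1 (hu.mul_right_eq_zero.1 h0)
    let b := Module.finBasis (separableClosure k (IsLocalRing.ResidueField P.O)) (IsLocalRing.ResidueField P.O)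
    have hspan : ⊤ ≤ Submodule.span k' (Set.range fun l => θ (b l)) := by
      intro w _
      obtain ⟨z, rfl⟩ := Ideal.Quotient.mk_surjective w
      obtain ⟨y, hy⟩ := FF.exists_approx Ps (fun R => if R = restr (k := k) Q then (z : K') else 0)
        (fun R => if R = restr (k := k) Q then -(e : ℤ) else 0)
      have hyQ : Q.1 (y - z) ≤ exp (-(e : ℤ)) := by
        have h1 := hy (restr (k := k) Q) (by simpa [Ps] using hQ)
        rwa [if_pos rfl, if_pos rfl] at h1
      have hyint : IsIntegral P.O y := (FF.isIntegral_iff_forall_place hK.1 P y).2 fun R hR => by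
        have h1 := hy R (by simpa [Ps] using hR)
        by_cases hR' : R = restr (k := k) Q
        · subst hR'
          rw [show y = (y - (z : K')) + z by ring]
          refine (Valuation.map_add _ _ _).trans (max_le (hyQ.trans ?_) ((FF.mem_O Q).1 z.2))
          rw [← exp_zero, exp_le_exp]; omega
        · rwa [if_neg hR', if_neg hR', sub_zero, exp_zero] at h1
      obtain ⟨η, rfl⟩ := himg y hyint
      have e1 : Ideal.Quotient.mk I z = δ (ρ η) := by
        rw [hδ, eq_comm, Ideal.Quotient.eq, mem_pow_maximalIdeal_iff]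
        exact hyQ
      rw [e1]
      generalize ρ η = t
      induction t using TensorProduct.induction_on with
      | zero => rw [map_zero]; exact zero_mem _
      | tmul c a =>
        simp only [δ, Algebra.TensorProduct.productMap_apply_tmul]
        rw [← b.sum_repr a, map_sum, Finset.mul_sum]
        refine Submodule.sum_mem _ fun l _ => ?_
        rw [IntermediateField.smul_def, smul_eq_mul, map_mul, hsep, ← mul_assoc]
        rw [show IsScalarTower.toAlgHom k k' (Q.O ⧸ I) c * algebraMap k' (Q.O ⧸ I) (σ Q hQ (b.repr a l)) * θ (b l) =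
          (c * σ Q hQ (b.repr a l)) • θ (b l) by rw [Algebra.smul_def, map_mul]; rfl]
        exact Submodule.smul_mem _ _ (Submodule.subset_span ⟨l, rfl⟩)
      | add x y hx hy => rw [map_add]; exact add_mem hx hy
    obtain ⟨t, ht0, ht⟩ := FF.exists_uniformizer Q
    let π : Q.O := ⟨t, (FF.mem_O Q).2 (by rw [ht, ← exp_zero, exp_le_exp]; norm_num)⟩
    have hli : LinearIndependent k' (fun j : Fin e => Ideal.Quotient.mk I (π ^ (j : ℕ))) := by
      refine Fintype.linearIndependent_iff.2 fun g hg => ?_
      by_contra hne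
      push Not at hne
      obtain ⟨j1, hj1⟩ := hne
      obtain ⟨j0, hj0, hmin⟩ := Finset.exists_min_image (Finset.univ.filter fun j => g j ≠ 0) (fun j => (j : ℕ))
        ⟨j1, by simp [hj1]⟩
      have hg0 : g j0 ≠ 0 := (Finset.mem_filter.1 hj0).2
      have hmem : (∑ j, algebraMap k' Q.O (g j) * π ^ (j : ℕ)) ∈ I := by
        rw [← Ideal.Quotient.eq_zero_iff_mem, map_sum]
        refine Eq.trans (Finset.sum_congr rfl fun j _ => ?_) hg
        rw [map_mul, Algebra.smul_def]
        rfl
      rw [mem_pow_maximalIdeal_iff] at hmem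
      have hterm : ∀ j, Q.1 (((algebraMap k' Q.O (g j) * π ^ (j : ℕ) : Q.O)) : K') ≤
          (if g j = 0 then 0 else exp (-((j : ℕ) : ℤ))) := by
        intro j
        split_ifs with hj
        · simp [hj]
        · show Q.1 (algebraMap k' K' (g j) * t ^ (j : ℕ)) ≤ _
          rw [map_mul, FF.val_algebraMap Q hj, one_mul, map_pow, ht, ← exp_nsmul]
          refine le_of_eq ?_
          congr 1
          simp
      have hlead : Q.1 (((algebraMap k' Q.O (g j0) * π ^ (j0 : ℕ) : Q.O)) : K') = exp (-((j0 : ℕ) : ℤ)) := by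
        show Q.1 (algebraMap k' K' (g j0) * t ^ (j0 : ℕ)) = _
        rw [map_mul, FF.val_algebraMap Q hg0, one_mul, map_pow, ht, ← exp_nsmul]
        congr 1
        simp
      rw [← Finset.add_sum_erase _ _ (Finset.mem_univ j0)] at hmem
      have hrest : Q.1 ((∑ j ∈ Finset.univ.erase j0, algebraMap k' Q.O (g j) * π ^ (j : ℕ) : Q.O) : K') <
          Q.1 (((algebraMap k' Q.O (g j0) * π ^ (j0 : ℕ) : Q.O)) : K') := by
        rw [hlead, AddSubmonoidClass.coe_finsetSum]
        refine Q.1.map_sum_lt exp_ne_zero fun j hj => (hterm j).trans_lt ?_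
        split_ifs with hgj
        · exact exp_pos
        · rw [exp_lt_exp, neg_lt_neg_iff]
          have h1 := hmin j (by simp [hgj])
          have h2 : (j : ℕ) ≠ (j0 : ℕ) := fun hh => (Finset.mem_erase.1 hj).1 (Fin.ext hh)
          omega
      have hval : Q.1 ((algebraMap k' Q.O (g j0) * π ^ (j0 : ℕ) +
          ∑ j ∈ Finset.univ.erase j0, algebraMap k' Q.O (g j) * π ^ (j : ℕ) : Q.O) : K') = exp (-((j0 : ℕ) : ℤ)) :=
        (Valuation.map_add_eq_of_lt_left Q.1 hrest).trans hlead
      rw [hval, exp_le_exp] at hmem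
      have := j0.2
      omega
    haveI : Module.Finite k' (Q.O ⧸ I) := ⟨⟨Finset.univ.image (fun l => θ (b l)), by
      rw [Finset.coe_image, Finset.coe_univ, Set.image_univ]; exact top_le_iff.1 hspan⟩⟩
    have h1 := hli.fintype_card_le_finrank
    have h2 : Module.finrank k' (Q.O ⧸ I) ≤ i := by
      have h3 := finrank_range_le_card (R := k') (fun l => θ (b l))
      rw [Set.finrank, top_le_iff.1 hspan, finrank_top, Fintype.card_fin] at h3
      exact h3
    rw [Fintype.card_fin] at h1
    exact h1.trans h2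
  refine ⟨hfin, hcard, fun Q hQ => ?_⟩
  have hsum := FF.sum_ramIdx_mul_deg (K' := K') hK.1 P Ps (fun R => by simp [Ps])
  have hdegR : ∀ Q : Place k' K', IsOver (restr (k := k) Q) P → (restr (k := k) Q).deg = Module.finrank k k' := by
    intro Q hQ
    show Module.finrank k (IsLocalRing.ResidueField (restr (k := k) Q).O) = _
    letI : Algebra k (IsLocalRing.ResidueField Q.O) :=
      ((algebraMap k' (IsLocalRing.ResidueField Q.O)).comp (algebraMap k k')).toAlgebra
    haveI : IsScalarTower k k' (IsLocalRing.ResidueField Q.O) := IsScalarTower.of_algebraMap_eq fun _ => rfl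
    let ee : IsLocalRing.ResidueField (restr (k := k) Q).O ≃ₐ[k] IsLocalRing.ResidueField Q.O :=
      AlgEquiv.ofRingEquiv (f := RingEquiv.refl (IsLocalRing.ResidueField Q.O)) fun c => by
        show IsLocalRing.residue Q.O _ = IsLocalRing.residue Q.O (algebraMap k' Q.O (algebraMap k k' c))
        congr 1
        exact Subtype.ext (IsScalarTower.algebraMap_apply k k' K' c)
    rw [ee.toLinearEquiv.finrank_eq, ← Module.finrank_mul_finrank k k' (IsLocalRing.ResidueField Q.O),
      show Module.finrank k' (IsLocalRing.ResidueField Q.O) = 1 from hsplit Q hQ, mul_one]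
  let S' := hfin.toFinset
  have hPs : Ps = S'.image (restr (k := k)) := by
    ext R
    simp only [Ps, S', Set.Finite.mem_toFinset, Finset.mem_image, Set.mem_setOf_eq]
    refine ⟨fun hR => ?_, fun ⟨Q, hQ, e⟩ => e ▸ hQ⟩
    obtain ⟨Q, rfl⟩ := exists_restr_eq (k' := k') R
    exact ⟨Q, hR, rfl⟩
  rw [hPs, Finset.sum_image fun a _ b _ hab => hrinj hab, finrank_eq_finrank h] at hsum
  have hsum' : (∑ Q ∈ S', ramIdx (restr (k := k) Q) P) * Module.finrank k k' =
      P.deg * Module.finrank k k' := by
    rw [Finset.sum_mul, mul_comm P.deg, ← hsum]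
    exact Finset.sum_congr rfl fun Q hQ => by rw [hdegR Q (hfin.mem_toFinset.1 hQ)]
  have htot : ∑ Q ∈ S', ramIdx (restr (k := k) Q) P = P.deg :=
    Nat.eq_of_mul_eq_mul_right Module.finrank_pos hsum'
  have hdegP : P.deg = ∑ _Q ∈ S', i := by
    rw [Finset.sum_const, smul_eq_mul, ← Set.ncard_eq_toFinset_card _ hfin, hcard]
    exact (Field.finSepDegree_mul_finInsepDegree k (IsLocalRing.ResidueField P.O)).symm
  have heq := (Finset.sum_eq_sum_iff_of_le fun Q hQ => hbound Q (hfin.mem_toFinset.1 hQ)).1
    (htot.trans hdegP) Q (hfin.mem_toFinset.2 hQ)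
  rw [← heq]
  exact FF.isOverWith_ramIdx hQ

end Groth.Agent.CommAlg4.ConstExt
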