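import Groth.Agent.CommAlg4.ConstExtTower
import Groth.Agent.FF.HyperGenus
import Mathlib.FieldTheory.IsAlgClosed.AlgebraicClosure
import Mathlib.FieldTheory.IntermediateField.Adjoin.Basic

/-! Constant field extensions of function fields: poles of a fixed function split completely
over a finite extension of the constants. -/

set_option autoImplicit false
set_option backward.isDefEq.respectTransparency false

open FunFld WithZero TensorProduct
open scoped Classical

namespace Groth.Agent.CommAlg4.ConstExt

universe u v w

section Degree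

variable {k F : Type u} {K : Type v} {L : Type w} [Field k] [Field F] [Field K] [Field L]
  [Algebra k F] [Algebra k K] [Algebra K L] [Algebra F L] [Algebra k L] [IsScalarTower k F L] [IsScalarTower k K L]
  (h : Function.Bijective (Algebra.TensorProduct.productMap
    (IsScalarTower.toAlgHom k F L) (IsScalarTower.toAlgHom k K L)))

theorem algebraMap_mem_adjoin_simple {x r : K} (hr : r ∈ IntermediateField.adjoin k ({x} : Set K)) :
    algebraMap K L r ∈ IntermediateField.adjoin F ({algebraMap K L x} : Set L) := by
  induction hr using IntermediateField.adjoin_induction with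
  | mem a ha =>
    rw [Set.mem_singleton_iff] at ha
    subst ha
    exact IntermediateField.mem_adjoin_simple_self _ _
  | algebraMap c =>
    rw [← IsScalarTower.algebraMap_apply k K L, IsScalarTower.algebraMap_apply k F L]
    exact (IntermediateField.adjoin F ({algebraMap K L x} : Set L)).algebraMap_mem _
  | add a b _ _ ha hb => rw [map_add]; exact add_mem ha hb
  | inv a _ ha => rw [map_inv₀]; exact inv_mem ha
  | mul a b _ _ ha hb => rw [map_mul]; exact mul_mem ha hb

include h in
theorem finrank_adjoin_eq [Algebra.IsAlgebraic k F] {x : K} (hx : Transcendental k x)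
    [FiniteDimensional (IntermediateField.adjoin k ({x} : Set K)) K] :
    Transcendental F (algebraMap K L x) ∧
      FiniteDimensional (IntermediateField.adjoin F ({algebraMap K L x} : Set L)) L ∧
      Module.finrank (IntermediateField.adjoin F ({algebraMap K L x} : Set L)) L =
        Module.finrank (IntermediateField.adjoin k ({x} : Set K)) K := by
  set xb := algebraMap K L x with hxb
  set M := IntermediateField.adjoin F ({xb} : Set L)
  let ω := Module.finBasis (IntermediateField.adjoin k ({x} : Set K)) K
  have htr : Transcendental F xb := fun halg => hx ((isAlgebraic_algebraMap_iff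
    (algebraMap K L).injective).mp (IsAlgebraic.restrictScalars k halg))
  let v : Fin (Module.finrank (IntermediateField.adjoin k ({x} : Set K)) K) → L := fun i => algebraMap K L (ω i)
  have hspan : ⊤ ≤ Submodule.span M (Set.range v) := by
    rintro z -
    obtain ⟨t, rfl⟩ := h.2 z
    induction t using TensorProduct.induction_on with
    | zero => rw [map_zero]; exact zero_mem _
    | tmul c a =>
      have e : Algebra.TensorProduct.productMap (IsScalarTower.toAlgHom k F L) (IsScalarTower.toAlgHom k K L)
          (c ⊗ₜ a) = ∑ i, (⟨algebraMap F L c * algebraMap K L (ω.repr a i : K),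
            mul_mem (M.algebraMap_mem c) (algebraMap_mem_adjoin_simple (ω.repr a i).2)⟩ : M) • v i := by
        simp only [Algebra.TensorProduct.productMap_apply_tmul, IsScalarTower.coe_toAlgHom',
          IntermediateField.smul_def, smul_eq_mul, v]
        conv_lhs => rw [← ω.sum_repr a, map_sum, Finset.mul_sum]
        refine Finset.sum_congr rfl fun i _ => ?_
        rw [IntermediateField.smul_def, smul_eq_mul, map_mul]
        ring
      rw [e]
      exact Submodule.sum_mem _ fun i _ => Submodule.smul_mem _ _ (Submodule.subset_span ⟨i, rfl⟩)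
    | add a b ha hb => rw [map_add]; exact add_mem ha hb
  have hli : LinearIndependent M v := by
    let b := Module.Free.chooseBasis k F
    let E : L ≃ₗ[k] (Module.Free.ChooseBasisIndex k F →₀ K) :=
      (AlgEquiv.ofBijective _ h).symm.toLinearEquiv.trans (TensorProduct.equivFinsuppOfBasisLeft b)
    have hE : ∀ (c : F) (a : K) (j : Module.Free.ChooseBasisIndex k F),
        E (algebraMap F L c * algebraMap K L a) j = b.repr c j • a := by
      intro c a j
      have e : algebraMap F L c * algebraMap K L a = AlgEquiv.ofBijective _ h (c ⊗ₜ a) := by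
        simp [Algebra.TensorProduct.productMap_apply_tmul]
      show TensorProduct.equivFinsuppOfBasisLeft b ((AlgEquiv.ofBijective _ h).symm _) j = _
      rw [e, AlgEquiv.symm_apply_apply, TensorProduct.equivFinsuppOfBasisLeft_apply_tmul_apply]
    have hpoly : ∀ (p : Fin (Module.finrank (IntermediateField.adjoin k ({x} : Set K)) K) → Polynomial F),
        ∑ i, Polynomial.aeval xb (p i) * v i = 0 → ∀ i, p i = 0 := by
      intro p hp i
      let q : Module.Free.ChooseBasisIndex k F → Fin (Module.finrank (IntermediateField.adjoin k ({x} : Set K)) K) → Polynomial k :=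
        fun j i => ∑ n ∈ (p i).support, Polynomial.monomial n (b.repr ((p i).coeff n) j)
      have hq : ∀ j, ∑ i, Polynomial.aeval x (q j i) * ω i = 0 := by
        intro j
        have h0 : E (∑ i, Polynomial.aeval xb (p i) * v i) j = 0 := by rw [hp, map_zero]; rfl
        rw [map_sum, Finsupp.finsetSum_apply] at h0
        refine Eq.trans (Finset.sum_congr rfl fun i _ => ?_) h0
        have e : Polynomial.aeval xb (p i) * v i =
            ∑ n ∈ (p i).support, algebraMap F L ((p i).coeff n) * algebraMap K L (x ^ n * ω i) := by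
          rw [Polynomial.aeval_def, Polynomial.eval₂_eq_sum, Polynomial.sum_def, Finset.sum_mul]
          refine Finset.sum_congr rfl fun n _ => ?_
          simp only [v, hxb, map_mul, map_pow]
          ring
        rw [e]
        simp only [q, map_sum, Finsupp.finsetSum_apply, Finset.sum_mul]
        refine Finset.sum_congr rfl fun n _ => ?_
        rw [hE, Polynomial.aeval_monomial, Algebra.smul_def]
        ring
      have hq0 : ∀ j i, q j i = 0 := by
        intro j i
        have h1 := Fintype.linearIndependent_iff.1 ω.linearIndependent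
          (fun i => ⟨Polynomial.aeval x (q j i),
            IntermediateField.algebra_adjoin_le_adjoin k ({x} : Set K) (Polynomial.aeval_mem_adjoin_singleton k x)⟩)
          (by simpa [IntermediateField.smul_def] using hq j) i
        exact transcendental_iff.1 hx _ (congrArg Subtype.val h1)
      refine Polynomial.ext fun n => ?_
      rw [Polynomial.coeff_zero]
      by_contra hne
      apply hne
      apply b.repr.injective
      rw [map_zero]
      refine Finsupp.ext fun j => ?_
      have h2 := congrArg (fun r => Polynomial.coeff r n) (hq0 j i)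
      simp only [q, Polynomial.finsetSum_coeff, Polynomial.coeff_monomial, Finset.sum_ite_eq',
        Polynomial.mem_support_iff.2 hne, if_true, Polynomial.coeff_zero] at h2
      simpa using h2
    refine Fintype.linearIndependent_iff.2 fun g hg => ?_
    choose r s hrs using fun i => (IntermediateField.mem_adjoin_simple_iff F (α := xb) (g i : L)).1 (g i).2
    let s' : Fin (Module.finrank (IntermediateField.adjoin k ({x} : Set K)) K) → Polynomial F :=
      fun i => if s i = 0 then 1 else s i
    let r' : Fin (Module.finrank (IntermediateField.adjoin k ({x} : Set K)) K) → Polynomial F :=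
      fun i => if s i = 0 then 0 else r i
    have hs' : ∀ i, Polynomial.aeval xb (s' i) ≠ 0 := by
      intro i
      simp only [s']
      split_ifs with hsi
      · simp
      · exact fun h0 => hsi (transcendental_iff.1 htr _ h0)
    have hrs' : ∀ i, (g i : L) = Polynomial.aeval xb (r' i) / Polynomial.aeval xb (s' i) := by
      intro i
      simp only [r', s']
      split_ifs with hsi
      · simp [hrs i, hsi]
      · exact hrs i
    have hp := hpoly (fun i => r' i * ∏ j ∈ Finset.univ.erase i, s' j) (by
      have e : ∑ i, Polynomial.aeval xb (r' i * ∏ j ∈ Finset.univ.erase i, s' j) * v i =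
          (∏ j, Polynomial.aeval xb (s' j)) * ∑ i, g i • v i := by
        rw [Finset.mul_sum]
        refine Finset.sum_congr rfl fun i _ => ?_
        rw [← Finset.mul_prod_erase _ _ (Finset.mem_univ i), IntermediateField.smul_def, smul_eq_mul, hrs' i,
          map_mul, map_prod]
        field_simp [hs' i]
      rw [e, hg, mul_zero])
    intro i
    have hne : (∏ j ∈ Finset.univ.erase i, s' j) ≠ 0 :=
      Finset.prod_ne_zero_iff.2 fun j _ h0 => hs' j (by rw [h0, map_zero])
    have hr0 : r' i = 0 := (mul_eq_zero.1 (hp i)).resolve_right hne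
    exact Subtype.ext (by rw [hrs' i, hr0, map_zero, zero_div]; rfl)
  let B := Module.Basis.mk hli hspan
  refine ⟨htr, Module.Finite.of_basis B, ?_⟩
  rw [Module.finrank_eq_card_basis B, Fintype.card_fin]

end Degree

section Split

variable {k : Type u} {K : Type v} [Field k] [Field K] [Algebra k K]

theorem isField_tensor {F : Type u} [Field F] [Algebra k F] [Algebra.IsAlgebraic k F]
    (hg : FunFld.IsGeometric k K) : IsField (F ⊗[k] K) := by
  have key : ∀ t : F ⊗[k] K, ∃ (k1 : IntermediateField k F) (_ : FiniteDimensional k k1) (t1 : k1 ⊗[k] K),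
      Algebra.TensorProduct.map k1.val (AlgHom.id k K) t1 = t := by
    intro t
    induction t using TensorProduct.induction_on with
    | zero => exact ⟨⊥, inferInstance, 0, map_zero _⟩
    | tmul c a =>
      haveI := IntermediateField.adjoin.finiteDimensional (Algebra.IsIntegral.isIntegral (R := k) c)
      exact ⟨IntermediateField.adjoin k {c}, inferInstance,
        ⟨c, IntermediateField.mem_adjoin_simple_self k c⟩ ⊗ₜ a, by simp⟩
    | add x y hx hy =>
      obtain ⟨k1, _, t1, rfl⟩ := hx
      obtain ⟨k2, _, t2, rfl⟩ := hy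
      refine ⟨k1 ⊔ k2, inferInstance,
        Algebra.TensorProduct.map (IntermediateField.inclusion (le_sup_left : k1 ≤ k1 ⊔ k2)) (AlgHom.id k K) t1 +
        Algebra.TensorProduct.map (IntermediateField.inclusion (le_sup_right : k2 ≤ k1 ⊔ k2)) (AlgHom.id k K) t2, ?_⟩
      rw [map_add]
      congr 1
      · rw [← AlgHom.comp_apply, ← Algebra.TensorProduct.map_comp]; rfl
      · rw [← AlgHom.comp_apply, ← Algebra.TensorProduct.map_comp]; rfl
  refine ⟨⟨0, 1, fun h01 => ?_⟩, mul_comm, fun {t} ht => ?_⟩
  · have hinj := Algebra.TensorProduct.includeRight_injective (R := k) (A := F) (B := K) (RingHom.injective _)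
    exact zero_ne_one (hinj (by rw [map_zero, map_one]; exact h01))
  · obtain ⟨k1, hfd, t1, rfl⟩ := key t
    have hF := hg k1 hfd
    obtain ⟨s, hs⟩ := hF.mul_inv_cancel (a := t1) (fun h0 => ht (by rw [h0, map_zero]))
    exact ⟨Algebra.TensorProduct.map k1.val (AlgHom.id k K) s, by rw [← map_mul, hs, map_one]⟩

/-- The poles of a transcendental function split completely over a finite extension of constants. -/
theorem exists_split (hK : FunFld.IsFunctionField k K) (hg : FunFld.IsGeometric k K) {x : K}
    (hx : Transcendental k x) :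
    ∃ (k' : Type u) (_ : Field k') (_ : Algebra k k'), FiniteDimensional k k' ∧
      ∀ (K' : Type v) [Field K'] [Algebra K K'] [Algebra k' K'] [Algebra k K']
        [IsScalarTower k k' K'] [IsScalarTower k K K'],
        Function.Bijective (Algebra.TensorProduct.productMap
          (IsScalarTower.toAlgHom k k' K') (IsScalarTower.toAlgHom k K K')) →
        ∀ Q : FunFld.Place k' K', 1 < Q.1 (algebraMap K K' x) → Q.deg = 1 := by
  haveI : FiniteDimensional (IntermediateField.adjoin k ({x} : Set K)) K := FF.finiteDimensional_adjoin hK hx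
  let F := AlgebraicClosure k
  letI fL : Field (F ⊗[k] K) := (isField_tensor (F := F) hg).toField
  letI aK : Algebra K (F ⊗[k] K) := Algebra.TensorProduct.rightAlgebra
  haveI t1 : IsScalarTower k K (F ⊗[k] K) := IsScalarTower.of_algebraMap_eq fun c => by
    show algebraMap k (F ⊗[k] K) c = (1 : F) ⊗ₜ[k] algebraMap k K c
    exact ((Algebra.TensorProduct.includeRight : K →ₐ[k] F ⊗[k] K).commutes c).symm
  have hbij : Function.Bijective (Algebra.TensorProduct.productMap
      (IsScalarTower.toAlgHom k F (F ⊗[k] K)) (IsScalarTower.toAlgHom k K (F ⊗[k] K))) := by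
    have e : Algebra.TensorProduct.productMap (IsScalarTower.toAlgHom k F (F ⊗[k] K))
        (IsScalarTower.toAlgHom k K (F ⊗[k] K)) = AlgHom.id k (F ⊗[k] K) := by
      apply Algebra.TensorProduct.ext'
      intro c a
      simp only [Algebra.TensorProduct.productMap_apply_tmul, AlgHom.id_apply, IsScalarTower.coe_toAlgHom']
      show (c ⊗ₜ[k] (1 : K)) * ((1 : F) ⊗ₜ[k] a) = c ⊗ₜ[k] a
      rw [Algebra.TensorProduct.tmul_mul_tmul, mul_one, one_mul]
    rw [e]
    exact Function.bijective_id
  obtain ⟨htr, hfin, hrank⟩ := finrank_adjoin_eq (L := F ⊗[k] K) hbij hx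
  set xb := algebraMap K (F ⊗[k] K) x with hxb
  have hFF : FF.IsFF' F (F ⊗[k] K) := ⟨xb, htr, hfin⟩
  have hsup := FF.finite_support_ord' hFF xb
  let S : Finset (Place F (F ⊗[k] K)) := hsup.toFinset.filter fun R => R.ord xb < 0
  have hS : ∀ R : Place F (F ⊗[k] K), R.ord xb < 0 → R ∈ S := fun R hR => by
    simp only [S, Finset.mem_filter, Set.Finite.mem_toFinset, Function.mem_support]
    exact ⟨hR.ne, hR⟩
  have hcoef : ∀ z : F ⊗[k] K, ∃ s : Finset F, z ∈ Algebra.adjoin K ((algebraMap F (F ⊗[k] K)) '' (s : Set F)) := by
    intro z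
    induction z using TensorProduct.induction_on with
    | zero => exact ⟨∅, zero_mem _⟩
    | tmul c a =>
      refine ⟨{c}, ?_⟩
      rw [show c ⊗ₜ[k] a = (c ⊗ₜ[k] (1 : K)) * ((1 : F) ⊗ₜ[k] a) by
        rw [Algebra.TensorProduct.tmul_mul_tmul, mul_one, one_mul]]
      exact mul_mem (Algebra.subset_adjoin ⟨c, by simp, rfl⟩) (Subalgebra.algebraMap_mem _ a)
    | add a b ha hb =>
      obtain ⟨s, hs⟩ := ha
      obtain ⟨r, hr⟩ := hb
      exact ⟨s ∪ r, add_mem (Algebra.adjoin_mono (Set.image_mono (by simp)) hs)
        (Algebra.adjoin_mono (Set.image_mono (by simp)) hr)⟩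
  choose wR hwR using fun R : Place F (F ⊗[k] K) => R.2.2 (exp (-1 : ℤ))
  choose zR mR hmR _ hzR using fun R : Place F (F ⊗[k] K) => FF.exists_poles_eq_single' hFF R
  choose cf hcf using hcoef
  let C : Finset F := S.biUnion fun R => cf (wR R) ∪ cf (zR R)
  let k1 : IntermediateField k F := IntermediateField.adjoin k (C : Set F)
  haveI : FiniteDimensional k k1 :=
    IntermediateField.finiteDimensional_adjoin fun c _ => Algebra.IsIntegral.isIntegral c
  refine ⟨k1, inferInstance, inferInstance, inferInstance, fun K' _ _ _ _ _ _ h Q hQ => ?_⟩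
  haveI := finiteDimensional h
  obtain ⟨htr', hfin', hrank'⟩ := finrank_adjoin_eq h hx
  set x' := algebraMap K K' x with hx'
  have hFF' : FF.IsFF' k1 K' := ⟨x', htr', hfin'⟩
  let e := AlgEquiv.ofBijective _ h
  let jA : K' →ₐ[k] F ⊗[k] K :=
    (Algebra.TensorProduct.map k1.val (AlgHom.id k K)).comp e.symm.toAlgHom
  let j : K' →+* F ⊗[k] K := jA.toRingHom
  have hjc : ∀ c : k1, j (algebraMap k1 K' c) = algebraMap F (F ⊗[k] K) (c : F) := by
    intro c
    have : algebraMap k1 K' c = e (c ⊗ₜ 1) := by
      simp [e, Algebra.TensorProduct.productMap_apply_tmul]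
    show Algebra.TensorProduct.map k1.val (AlgHom.id k K) (e.symm _) = _
    rw [this, AlgEquiv.symm_apply_apply]
    rfl
  have hja : ∀ a : K, j (algebraMap K K' a) = algebraMap K (F ⊗[k] K) a := by
    intro a
    have : algebraMap K K' a = e (1 ⊗ₜ a) := by
      simp [e, Algebra.TensorProduct.productMap_apply_tmul]
    show Algebra.TensorProduct.map k1.val (AlgHom.id k K) (e.symm _) = _
    rw [this, AlgEquiv.symm_apply_apply]
    simp
    rfl
  have hrange : ∀ R ∈ S, wR R ∈ j.range ∧ zR R ∈ j.range := by
    intro R hR
    have key : ∀ z, cf z ⊆ C → z ∈ j.range := by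
      intro z hz
      have hle : ∀ w ∈ Algebra.adjoin K ((algebraMap F (F ⊗[k] K)) '' (cf z : Set F)), w ∈ j.range := by
        intro w hw
        induction hw using Algebra.adjoin_induction with
        | mem a ha =>
          obtain ⟨c, hc, rfl⟩ := ha
          exact ⟨algebraMap k1 K' ⟨c, IntermediateField.subset_adjoin k _ (Finset.mem_coe.2 (hz hc))⟩, hjc _⟩
        | algebraMap a => exact ⟨algebraMap K K' a, hja a⟩
        | add a b _ _ ha hb => exact add_mem ha hb
        | mul a b _ _ ha hb => exact mul_mem ha hb
      exact hle z (hcf z)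
    exact ⟨key _ fun c hc => Finset.mem_biUnion.2 ⟨R, hR, Finset.mem_union_left _ hc⟩,
      key _ fun c hc => Finset.mem_biUnion.2 ⟨R, hR, Finset.mem_union_right _ hc⟩⟩
  have hsurj : ∀ R : S, Function.Surjective ((R : Place F (F ⊗[k] K)).1.comap j) := by
    intro R n
    obtain ⟨w, hw⟩ := (hrange R R.2).1
    induction n using WithZero.expRecOn with
    | zero => exact ⟨0, map_zero _⟩
    | exp a =>
      refine ⟨w ^ (-a), ?_⟩
      rw [Valuation.comap_apply, map_zpow₀, hw, map_zpow₀, hwR, ← exp_zsmul]
      congr 1
      simp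
  let res : S → Place k1 K' := fun R => ⟨(R : Place F (F ⊗[k] K)).1.comap j,
    fun c => by rw [Valuation.comap_apply, hjc]; exact (R : Place F (F ⊗[k] K)).2.1 _, hsurj R⟩
  have hord : ∀ R : S, (res R).ord x' = (R : Place F (F ⊗[k] K)).ord xb := fun R => by
    simp only [FunFld.Place.ord, res, Valuation.comap_apply, hx', hja]
    rfl
  have hinj : Function.Injective res := by
    intro R R' hRR
    obtain ⟨z, hz⟩ := (hrange R R.2).2
    have h1 : (R : Place F (F ⊗[k] K)).ord (zR R) = (R' : Place F (F ⊗[k] K)).ord (zR R) := by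
      have := congrArg (fun P : Place k1 K' => P.ord z) hRR
      simp only [FunFld.Place.ord, res, Valuation.comap_apply, hz] at this
      exact this
    by_contra hne
    have a1 := hzR R (R : Place F (F ⊗[k] K))
    have a2 := hzR R (R' : Place F (F ⊗[k] K))
    rw [Finsupp.single_eq_same] at a1
    rw [Finsupp.single_eq_of_ne (fun h' => hne (Subtype.ext h'.symm))] at a2
    have := hmR (R : Place F (F ⊗[k] K))
    omega
  have hdeg1 : ∀ R : Place F (F ⊗[k] K), R.deg = 1 := by
    intro R
    haveI hfd := FF.finiteDimensional_residue' hFF R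
    haveI : Algebra.IsIntegral F (IsLocalRing.ResidueField R.O) := Algebra.IsIntegral.of_finite F _
    have hb := IsAlgClosed.algebraMap_bijective_of_isIntegral (k := F) (K := IsLocalRing.ResidueField R.O)
    show Module.finrank F (IsLocalRing.ResidueField R.O) = 1
    rw [← (AlgEquiv.ofBijective (Algebra.ofId F (IsLocalRing.ResidueField R.O)) hb).toLinearEquiv.finrank_eq,
      Module.finrank_self]
  have hsumL : ∑ R ∈ S, max (-R.ord xb) 0 = (Module.finrank (IntermediateField.adjoin k ({x} : Set K)) K : ℤ) := by
    rw [← hrank, ← FF.sum_poles' hFF htr S hS]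
    exact Finset.sum_congr rfl fun R _ => by rw [hdeg1, Nat.cast_one, mul_one]
  have hsup' := FF.finite_support_ord' hFF' x'
  let T : Finset (Place k1 K') := hsup'.toFinset.filter fun P => P.ord x' < 0
  have hT : ∀ P : Place k1 K', P.ord x' < 0 → P ∈ T := fun P hP => by
    simp only [T, Finset.mem_filter, Set.Finite.mem_toFinset, Function.mem_support]
    exact ⟨hP.ne, hP⟩
  have hsumK : ∑ P ∈ T, max (-P.ord x') 0 * P.deg = (Module.finrank (IntermediateField.adjoin k ({x} : Set K)) K : ℤ) := by
    rw [← hrank', ← FF.sum_poles' hFF' htr' T hT]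
  have hle : ∑ R ∈ S, max (-R.ord xb) 0 ≤ ∑ P ∈ T, max (-P.ord x') 0 := by
    rw [← Finset.sum_attach S]
    have e : ∑ R ∈ S.attach, max (-(R : Place F (F ⊗[k] K)).ord xb) 0 =
        ∑ P ∈ S.attach.image res, max (-P.ord x') 0 := by
      rw [Finset.sum_image fun a _ b _ hab => hinj hab]
      exact Finset.sum_congr rfl fun R _ => by rw [hord]
    rw [e]
    refine Finset.sum_le_sum_of_subset_of_nonneg (fun P hP => ?_) fun P _ _ => le_max_right _ _
    obtain ⟨R, -, rfl⟩ := Finset.mem_image.1 hP
    refine hT _ ?_
    rw [hord]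
    exact (Finset.mem_filter.1 R.2).2
  rw [hsumL, ← hsumK] at hle
  have hx0 : x' ≠ 0 := fun h0 => by rw [h0, map_zero] at hQ; exact not_lt_zero hQ
  have hQord : Q.ord x' < 0 := by
    by_contra hh
    exact not_le.2 hQ ((FF.val_le_one_iff Q hx0).2 (not_lt.1 hh))
  have hpos : 0 < max (-Q.ord x') 0 := lt_max_of_lt_left (by omega)
  have hdpos : ∀ P : Place k1 K', (1 : ℤ) ≤ P.deg := fun P => by exact_mod_cast FF.deg_pos' hFF' P
  by_contra hne
  have h2 : (2 : ℤ) ≤ Q.deg := by
    have := hdpos Q
    omega
  have hlt : ∑ P ∈ T, max (-P.ord x') 0 < ∑ P ∈ T, max (-P.ord x') 0 * P.deg :=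
    Finset.sum_lt_sum (fun P _ => le_mul_of_one_le_right (le_max_right _ _) (hdpos P))
      ⟨Q, hT Q hQord, lt_mul_of_one_lt_right hpos (by omega)⟩
  exact absurd hle (not_le.2 hlt)

end Split

end Groth.Agent.CommAlg4.ConstExt
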