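import Groth.Agent.CommAlg4.ConstExtCount
import Groth.Agent.CommAlg4.ConstExtSplit
import Groth.Agent.FF.Geometric
import Mathlib.RingTheory.Trace.Basic
import Mathlib.RingTheory.Valuation.LocalSubring

/-! Constant field extensions of function fields: almost all places are nonsingular. -/

set_option autoImplicit false
set_option backward.isDefEq.respectTransparency false

open FunFld WithZero TensorProduct
open scoped Classical

namespace Groth.Agent.CommAlg4.ConstExt

universe u v w

variable {k k' : Type u} {K : Type v} {K' : Type w} [Field k] [Field k'] [Field K] [Field K']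
  [Algebra k k'] [FiniteDimensional k k'] [Algebra k K] [Algebra K K'] [Algebra k' K'] [Algebra k K']
  [IsScalarTower k k' K'] [IsScalarTower k K K']

theorem finiteDimensional' (h : Function.Bijective (Algebra.TensorProduct.productMap
      (IsScalarTower.toAlgHom k k' K') (IsScalarTower.toAlgHom k K K'))) : FiniteDimensional K K' := by
  let b := Module.finBasis k k'
  refine Module.Finite.of_surjective (Fintype.linearCombination K fun i => algebraMap k' K' (b i)) fun z => ?_
  obtain ⟨t, rfl⟩ := h.2 z
  induction t using TensorProduct.induction_on with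
  | zero => exact ⟨0, by simp⟩
  | tmul c a =>
    refine ⟨fun i => b.repr c i • a, ?_⟩
    simp only [Fintype.linearCombination_apply, Algebra.TensorProduct.productMap_apply_tmul,
      IsScalarTower.coe_toAlgHom', Algebra.smul_def, map_mul]
    conv_rhs => rw [← b.sum_repr c, map_sum, Finset.sum_mul]
    refine Finset.sum_congr rfl fun i _ => ?_
    rw [Algebra.smul_def, map_mul, ← IsScalarTower.algebraMap_apply k K K',
      ← IsScalarTower.algebraMap_apply k k' K']
    ring
  | add p q hp hq =>
    obtain ⟨f, hf⟩ := hp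
    obtain ⟨g, hg⟩ := hq
    exact ⟨f + g, by rw [map_add, hf, hg, map_add]⟩

theorem isIntegral_subringMap_iff' {A : Type v} {L : Type w} [Field A] [Field L] (f : A →+* L) (S : Subring A) (z : L) :
    IsIntegral (S.map f) z ↔ (f.comp S.subtype).IsIntegralElem z := by
  let e := S.equivMapOfInjective f f.injective
  constructor
  · intro h
    obtain ⟨q, hq, hqz⟩ := h
    refine ⟨q.map (e.symm : S.map f →+* S), hq.map _, ?_⟩
    rw [Polynomial.eval₂_map]
    convert hqz using 2
    refine RingHom.ext fun t => ?_
    obtain ⟨s, rfl⟩ := e.surjective t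
    simp [e]
    rfl
  · rintro ⟨q, hq, hqz⟩
    refine ⟨q.map (e : S →+* S.map f), hq.map _, ?_⟩
    rw [Polynomial.eval₂_map]
    convert hqz using 2
    rfl

set_option maxHeartbeats 800000 in
theorem mem_adjoin_of_good (h : Function.Bijective (Algebra.TensorProduct.productMap
      (IsScalarTower.toAlgHom k k' K') (IsScalarTower.toAlgHom k K K')))
    (hK : FunFld.IsFunctionField k K) {x : K} (hx : Transcendental k x)
    [FiniteDimensional (IntermediateField.adjoin k ({x} : Set K)) K]
    (ω ω' : Fin (Module.finrank (IntermediateField.adjoin k ({x} : Set K)) K) → K)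
    (b : Module.Basis (Fin (Module.finrank (IntermediateField.adjoin k ({x} : Set K)) K))
      (IntermediateField.adjoin k ({x} : Set K)) K) (hω : ∀ l, b l = ω l)
    (hdual : ∀ i j, Algebra.trace (IntermediateField.adjoin k ({x} : Set K)) K (ω' i * ω j) = if j = i then 1 else 0)
    (P : Place k K) [Algebra P.O K'] [IsScalarTower P.O K K']
    (hPx : P.1 x ≤ 1) (hPω : ∀ l, P.1 (ω l) ≤ 1) (hPω' : ∀ l, P.1 (ω' l) ≤ 1)
    (z : K') (hz : IsIntegral P.O z) : z ∈ Algebra.adjoin P.O (Set.range (algebraMap k' K')) := by
  haveI := finiteDimensional' h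
  set x' := algebraMap K K' x with hx'
  let M := IntermediateField.adjoin k' ({x'} : Set K')
  obtain ⟨htr', hfin', hrank'⟩ := finrank_adjoin_eq h hx
  let v : Fin (Module.finrank (IntermediateField.adjoin k ({x} : Set K)) K) → K' := fun i => algebraMap K K' (ω i)
  have hspan : ⊤ ≤ Submodule.span M (Set.range v) := by
    rintro w -
    obtain ⟨t, rfl⟩ := h.2 w
    induction t using TensorProduct.induction_on with
    | zero => rw [map_zero]; exact zero_mem _
    | tmul c a =>
      have e : Algebra.TensorProduct.productMap (IsScalarTower.toAlgHom k k' K') (IsScalarTower.toAlgHom k K K')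
          (c ⊗ₜ a) = ∑ i, (⟨algebraMap k' K' c * algebraMap K K' (b.repr a i : K),
            mul_mem (M.algebraMap_mem c) (algebraMap_mem_adjoin_simple (b.repr a i).2)⟩ : M) • v i := by
        simp only [Algebra.TensorProduct.productMap_apply_tmul, IsScalarTower.coe_toAlgHom',
          IntermediateField.smul_def, smul_eq_mul, v]
        conv_lhs => rw [← b.sum_repr a, map_sum, Finset.mul_sum]
        refine Finset.sum_congr rfl fun i _ => ?_
        rw [IntermediateField.smul_def, smul_eq_mul, map_mul, hω]
        ring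
      rw [e]
      exact Submodule.sum_mem _ fun i _ => Submodule.smul_mem _ _ (Submodule.subset_span ⟨i, rfl⟩)
    | add p q hp hq => rw [map_add]; exact add_mem hp hq
  haveI : FiniteDimensional M K' := hfin'
  let B : Module.Basis (Fin (Module.finrank (IntermediateField.adjoin k ({x} : Set K)) K)) M K' :=
    basisOfTopLeSpanOfCardEqFinrank v hspan (by rw [Fintype.card_fin]; exact hrank'.symm)
  have hB : ∀ i, B i = algebraMap K K' (ω i) := fun i => by
    simp only [B, coe_basisOfTopLeSpanOfCardEqFinrank, v]
  let ι0 : (IntermediateField.adjoin k ({x} : Set K)) →+* M := ((algebraMap K K').comp (IntermediateField.adjoin k ({x} : Set K)).val.toRingHom).codRestrict M.toSubfield.toSubring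
    fun r => algebraMap_mem_adjoin_simple r.2
  have hι0 : ∀ r, (ι0 r : K') = algebraMap K K' (r : K) := fun _ => rfl
  have htrace : ∀ a : K, Algebra.trace M K' (algebraMap K K' a) = ι0 (Algebra.trace (IntermediateField.adjoin k ({x} : Set K)) K a) := by
    intro a
    rw [Algebra.trace_eq_matrix_trace B, Algebra.trace_eq_matrix_trace b, AddMonoidHom.map_trace]
    congr 1
    ext i j
    rw [Matrix.map_apply, Algebra.leftMulMatrix_eq_repr_mul, Algebra.leftMulMatrix_eq_repr_mul]
    have e : algebraMap K K' a * B j = ∑ l, ι0 (b.repr (a * b j) l) • B l := by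
      rw [hB, ← map_mul, ← hω]
      conv_lhs => rw [← b.sum_repr (a * b j), map_sum]
      refine Finset.sum_congr rfl fun l _ => ?_
      rw [hB, IntermediateField.smul_def, IntermediateField.smul_def, smul_eq_mul, smul_eq_mul, map_mul, hι0]
      simp only [hω]
    rw [e, B.repr_sum_self]
  -- strong approximation
  let zl : Fin (Module.finrank (IntermediateField.adjoin k ({x} : Set K)) K) → K' := fun l => z * algebraMap K K' (ω' l)
  obtain ⟨Pinf, hinf⟩ := FF.exists_one_lt_val hK hx
  have hFF' := FF.isFF'_ext (K' := K') hK.1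
  let Bad : Finset (Place k K') := Finset.univ.biUnion fun l => ((FF.finite_support_ord' hFF' (zl l)).toFinset.filter
    fun R => R.1 x' ≤ 1 ∧ 1 < R.1 (zl l))
  choose pl e he hOW using fun R : Place k K' => FF.exists_isOverWith (K := K) hK.1 R
  have hzP : ∀ R : Place k K', IsOver R P → ∀ l, R.1 (zl l) ≤ 1 := fun R hR l => by
    rw [map_mul]
    exact mul_le_one' ((FF.isIntegral_iff_forall_place hK.1 P z).1 hz R hR) (FF.isOver_val_le hR (hPω' l))
  have hPnot : ∀ R ∈ Bad, pl R ≠ P := fun R hR hRP => by
    obtain ⟨l, -, hl⟩ := Finset.mem_biUnion.1 hR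
    exact not_le.2 (Finset.mem_filter.1 hl).2.2 (hzP R ⟨e R, hRP ▸ hOW R⟩ l)
  let N : ℕ := (Bad ×ˢ (Finset.univ : Finset (Fin (Module.finrank (IntermediateField.adjoin k ({x} : Set K)) K)))).sup fun p => ((p.1.1 (zl p.2)).log).toNat
  let S : Finset (Place k K) := insert P (Bad.image pl)
  have hSinf : Pinf ∉ S := fun hmem => by
    rcases Finset.mem_insert.1 hmem with e1 | e1
    · rw [e1] at hinf; exact not_lt.2 hPx hinf
    · obtain ⟨R, hR, e2⟩ := Finset.mem_image.1 e1
      obtain ⟨l, -, hl⟩ := Finset.mem_biUnion.1 hR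
      refine not_lt.2 ?_ (e2 ▸ hinf)
      exact (FF.ow_le_one_iff (hOW R) x).1 (Finset.mem_filter.1 hl).2.1
  obtain ⟨u, hu, hu'⟩ := FF.strong_approximation' hK Pinf S hSinf (fun T => if T = P then 1 else 0)
    (fun T => if T = P then -1 else -(N : ℤ))
  have huP : P.1 u = 1 := by
    have h1 := hu P (Finset.mem_insert_self _ _)
    rw [if_pos rfl, if_pos rfl] at h1
    have h2 : P.1 (u - 1) < P.1 1 := h1.trans_lt (by rw [map_one, ← exp_zero, exp_lt_exp]; norm_num)
    have h3 := P.1.map_add_eq_of_lt_right h2
    rw [sub_add_cancel] at h3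
    rw [h3, map_one]
  have huT : ∀ T : Place k K, T.1 x ≤ 1 → T.1 u ≤ 1 := fun T hT => by
    by_cases hTP : T = P
    · rw [hTP, huP]
    by_cases hTS : T ∈ S
    · have h1 := hu T hTS
      rw [if_neg hTP, if_neg hTP, sub_zero] at h1
      exact h1.trans (by rw [← exp_zero, exp_le_exp]; omega)
    · exact hu' T (fun e1 => not_lt.2 hT (e1 ▸ hinf)) hTS
  set w : Fin (Module.finrank (IntermediateField.adjoin k ({x} : Set K)) K) → K' := fun l => algebraMap K K' u * zl l with hw
  have hwle : ∀ R : Place k K', R.1 x' ≤ 1 → ∀ l, R.1 (w l) ≤ 1 := by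
    intro R hR l
    have hTx : (pl R).1 x ≤ 1 := (FF.ow_le_one_iff (hOW R) x).1 hR
    rw [hw, map_mul, hOW R u]
    by_cases hz1 : R.1 (zl l) ≤ 1
    · exact mul_le_one' (pow_le_one₀ zero_le (huT _ hTx)) hz1
    · have hne : zl l ≠ 0 := fun h0 => hz1 (by rw [h0, map_zero]; exact zero_le_one)
      have hBad : R ∈ Bad := Finset.mem_biUnion.2 ⟨l, Finset.mem_univ _, Finset.mem_filter.2 ⟨by
        rw [Set.Finite.mem_toFinset, Function.mem_support]
        intro h0
        exact hz1 ((FF.val_le_one_iff R hne).2 h0.ge), hR, not_le.1 hz1⟩⟩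
      have h1 := hu (pl R) (Finset.mem_insert_of_mem (Finset.mem_image_of_mem _ hBad))
      rw [if_neg (hPnot R hBad), if_neg (hPnot R hBad), sub_zero] at h1
      have hN : ((R.1 (zl l)).log).toNat ≤ N := Finset.le_sup (f := fun p => ((p.1.1 (zl p.2)).log).toNat)
        (b := (R, l)) (by simp [hBad])
      have h2 : R.1 (zl l) ≤ exp (N : ℤ) := by
        have hz0 : R.1 (zl l) ≠ 0 := (map_ne_zero _).2 hne
        rw [← exp_log hz0, exp_le_exp]; omega
      have h3 : (pl R).1 u ^ e R ≤ exp (-(N : ℤ)) :=
        (pow_le_of_le_one zero_le (huT _ hTx) (he R).ne').trans h1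
      refine (mul_le_mul' h3 h2).trans_eq ?_
      rw [← exp_add, neg_add_cancel, exp_zero]
  -- integrality over `k'[x']`
  letI aK : Algebra (Polynomial k') K' := (Polynomial.aeval x').toAlgebra
  haveI : IsScalarTower k' (Polynomial k') K' := IsScalarTower.of_algebraMap_eq fun c => by
    show _ = Polynomial.aeval x' (Polynomial.C c)
    rw [Polynomial.aeval_C]
  have hint : ∀ l, IsIntegral (Polynomial k') (w l) := by
    intro l
    by_contra hni
    let C := integralClosure (Polynomial k') K'
    haveI : IsIntegrallyClosedIn C.toSubring K' := inferInstance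
    obtain ⟨V, hV, hwV⟩ := C.toSubring.exists_le_valuationSubring_of_isIntegrallyClosedIn (x := w l) hni
    have hVk : ∀ c : k', algebraMap k' K' c ∈ V := fun c => hV (by
      rw [IsScalarTower.algebraMap_apply k' (Polynomial k') K']
      exact C.algebraMap_mem _)
    have hVx : x' ∈ V := hV (by
      have := C.algebraMap_mem Polynomial.X
      rwa [show algebraMap (Polynomial k') K' Polynomial.X = x' from Polynomial.aeval_X x'] at this)
    obtain ⟨Q, hQ⟩ := FF.exists_place' (⟨x', htr', hfin'⟩ : FF.IsFF' k' K') V hVk fun htop => hwV (htop ▸ trivial)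
    refine hwV ?_
    rw [← hQ] at hVx ⊢
    exact (FF.mem_O Q).2 (hwle (restr (k := k) Q) ((FF.mem_O Q).1 hVx) l)
  letI aM : Algebra (Polynomial k') M :=
    (Polynomial.aeval (⟨x', IntermediateField.mem_adjoin_simple_self k' x'⟩ : M)).toAlgebra
  haveI : IsScalarTower (Polynomial k') M K' := IsScalarTower.of_algebraMap_eq fun p => by
    show Polynomial.aeval x' p = M.val (Polynomial.aeval _ p)
    rw [← Polynomial.aeval_algHom_apply]
    rfl
  have hinjA : Function.Injective (algebraMap (Polynomial k') M) := fun p q hpq => by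
    have h1 : Polynomial.aeval x' p = Polynomial.aeval x' q := by
      show algebraMap (Polynomial k') K' p = algebraMap (Polynomial k') K' q
      rw [IsScalarTower.algebraMap_apply (Polynomial k') M K', hpq, ← IsScalarTower.algebraMap_apply]
    exact sub_eq_zero.1 (transcendental_iff.1 htr' _ (by rw [map_sub, h1, sub_self]))
  have hmem : ∀ l, ∃ p : Polynomial k', (Algebra.trace M K' (w l) : K') = Polynomial.aeval x' p := by
    intro l
    have hc : IsIntegral (Polynomial k') (Algebra.trace M K' (w l)) := Algebra.isIntegral_trace (hint l)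
    haveI : FaithfulSMul (Polynomial k') M := (faithfulSMul_iff_algebraMap_injective _ _).2 hinjA
    let ι : FractionRing (Polynomial k') →ₐ[Polynomial k'] M := IsFractionRing.liftAlgHom (g := Algebra.ofId _ M) hinjA
    obtain ⟨r, s, hrs⟩ := (IntermediateField.mem_adjoin_simple_iff k' (α := x') _).1 (Algebra.trace M K' (w l)).2
    obtain ⟨q, hq⟩ : ∃ q, ι q = Algebra.trace M K' (w l) := by
      refine ⟨algebraMap _ _ r / algebraMap _ _ s, Subtype.ext ?_⟩
      rw [hrs, map_div₀, AlgHom.commutes, AlgHom.commutes]
      show M.val (algebraMap (Polynomial k') M r / algebraMap (Polynomial k') M s) = _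
      rw [map_div₀]
      show algebraMap M K' _ / algebraMap M K' _ = _
      rw [← IsScalarTower.algebraMap_apply, ← IsScalarTower.algebraMap_apply]
      rfl
    rw [← hq, isIntegral_algHom_iff ι ι.toRingHom.injective] at hc
    obtain ⟨p, hp⟩ := IsIntegrallyClosed.isIntegral_iff.1 hc
    refine ⟨p, ?_⟩
    rw [← hq, ← hp, AlgHom.commutes]
    show algebraMap M K' _ = _
    rw [← IsScalarTower.algebraMap_apply]
    rfl
  -- expansion
  have hexp : algebraMap K K' u * z = ∑ l, (Algebra.trace M K' (w l) : K') * algebraMap K K' (ω l) := by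
    have hrepr : ∀ l, B.repr (algebraMap K K' u * z) l = Algebra.trace M K' (w l) := by
      intro l
      have e1 : w l = ∑ j, B.repr (algebraMap K K' u * z) j • (algebraMap K K' (ω' l * ω j)) := by
        have e2 : w l = (algebraMap K K' u * z) * algebraMap K K' (ω' l) := by simp only [hw, zl]; ring
        rw [e2]
        conv_lhs => rw [← B.sum_repr (algebraMap K K' u * z), Finset.sum_mul]
        refine Finset.sum_congr rfl fun j _ => ?_
        rw [hB, IntermediateField.smul_def, IntermediateField.smul_def, smul_eq_mul, smul_eq_mul, map_mul (algebraMap K K') (ω' l)]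
        ring
      rw [e1, map_sum, Finset.sum_eq_single l]
      · rw [map_smul, htrace, hdual, if_pos rfl, map_one, smul_eq_mul, mul_one]
      · intro j _ hj
        rw [map_smul, htrace, hdual, if_neg hj, map_zero, smul_zero]
      · exact fun hl => absurd (Finset.mem_univ l) hl
    conv_lhs => rw [← B.sum_repr (algebraMap K K' u * z)]
    refine Finset.sum_congr rfl fun l _ => ?_
    rw [hB, IntermediateField.smul_def, smul_eq_mul, hrepr]
  have hu0 : u ≠ 0 := fun h0 => by rw [h0, map_zero] at huP; exact zero_ne_one huP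
  let A := Algebra.adjoin P.O (Set.range (algebraMap k' K'))
  have hKmem : ∀ a : K, P.1 a ≤ 1 → algebraMap K K' a ∈ A := fun a ha => by
    have := A.algebraMap_mem (⟨a, (FF.mem_O P).2 ha⟩ : P.O)
    rwa [IsScalarTower.algebraMap_apply P.O K K'] at this
  have huz : algebraMap K K' u * z ∈ A := by
    rw [hexp]
    refine Subalgebra.sum_mem _ fun l _ => mul_mem ?_ (hKmem _ (hPω l))
    obtain ⟨p, hp⟩ := hmem l
    rw [hp, Polynomial.aeval_def, Polynomial.eval₂_eq_sum, Polynomial.sum_def]
    exact Subalgebra.sum_mem _ fun n _ => mul_mem (Algebra.subset_adjoin ⟨_, rfl⟩) (pow_mem (hKmem x hPx) n)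
  have hz' : z = algebraMap K K' u⁻¹ * (algebraMap K K' u * z) := by
    rw [← mul_assoc, ← map_mul, inv_mul_cancel₀ hu0, map_one, one_mul]
  rw [hz']
  exact mul_mem (hKmem _ (by rw [map_inv₀, huP, inv_one])) huz

theorem finite_nonregular {k : Type u} {K : Type v} [Field k] [Field K] [Algebra k K]
    (hK : FunFld.IsFunctionField k K) (hg : FunFld.IsGeometric k K) :
    {P : FunFld.Place k K | ∃ (k' : Type u) (_ : Field k') (_ : Algebra k k'), FiniteDimensional k k' ∧
      integralClosure (P.O.toSubring.map (Algebra.TensorProduct.includeRight : K →ₐ[k] k' ⊗[k] K).toRingHom) (k' ⊗[k] K) ≠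
        Algebra.adjoin (P.O.toSubring.map (Algebra.TensorProduct.includeRight : K →ₐ[k] k' ⊗[k] K).toRingHom)
          (Set.range (Algebra.TensorProduct.includeLeftRingHom : k' →+* k' ⊗[k] K))}.Finite := by
  obtain ⟨x, hx, hfd, hsep⟩ := FF.exists_separating_of_isGeometric hK hg
  let b := Module.finBasis (IntermediateField.adjoin k ({x} : Set K)) K
  let d := LinearMap.BilinForm.dualBasis (Algebra.traceForm (IntermediateField.adjoin k ({x} : Set K)) K)
    (traceForm_nondegenerate _ _) b
  let G : Finset K := insert x (Finset.univ.image b ∪ Finset.univ.image d)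
  refine ((G.finite_toSet.biUnion fun a _ => FF.finite_support_ord' hK.1 a)).subset ?_
  rintro P ⟨k', hf, ha, hfd', hne⟩
  by_contra hgood
  simp only [Set.mem_iUnion, Function.mem_support, not_exists, not_not] at hgood
  have hle : ∀ a ∈ G, P.1 a ≤ 1 := fun a ha => by
    rcases eq_or_ne a 0 with rfl | ha0
    · rw [map_zero]; exact zero_le_one
    · exact (FF.val_le_one_iff P ha0).2 (hgood a (Finset.mem_coe.2 ha)).ge
  letI fT : Field (k' ⊗[k] K) := (hg k' hfd').toField
  letI aKT : Algebra K (k' ⊗[k] K) := Algebra.TensorProduct.rightAlgebra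
  haveI : IsScalarTower k K (k' ⊗[k] K) := IsScalarTower.of_algebraMap_eq fun c => by
    show algebraMap k (k' ⊗[k] K) c = (1 : k') ⊗ₜ[k] algebraMap k K c
    exact ((Algebra.TensorProduct.includeRight : K →ₐ[k] k' ⊗[k] K).commutes c).symm
  have hbij : Function.Bijective (Algebra.TensorProduct.productMap
      (IsScalarTower.toAlgHom k k' (k' ⊗[k] K)) (IsScalarTower.toAlgHom k K (k' ⊗[k] K))) := by
    have e : Algebra.TensorProduct.productMap (IsScalarTower.toAlgHom k k' (k' ⊗[k] K))
        (IsScalarTower.toAlgHom k K (k' ⊗[k] K)) = AlgHom.id k (k' ⊗[k] K) := by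
      apply Algebra.TensorProduct.ext'
      intro c a
      simp only [Algebra.TensorProduct.productMap_apply_tmul, AlgHom.id_apply, IsScalarTower.coe_toAlgHom']
      show (c ⊗ₜ[k] (1 : K)) * ((1 : k') ⊗ₜ[k] a) = c ⊗ₜ[k] a
      rw [Algebra.TensorProduct.tmul_mul_tmul, mul_one, one_mul]
    rw [e]
    exact Function.bijective_id
  letI aO : Algebra P.O (k' ⊗[k] K) := ((algebraMap K (k' ⊗[k] K)).comp P.O.subtype).toAlgebra
  haveI : IsScalarTower P.O K (k' ⊗[k] K) := IsScalarTower.of_algebraMap_eq fun _ => rfl
  apply hne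
  refine le_antisymm (fun z hz => ?_) (adjoin_le_integralClosure (k := k) (F := k') (L := k' ⊗[k] K) _ fun c => ?_)
  · have hzO : IsIntegral P.O z := (isIntegral_subringMap_iff' (algebraMap K (k' ⊗[k] K)) P.O.toSubring z).1 hz
    have h1 := mem_adjoin_of_good hbij hK hx (fun l => b l) (fun l => d l) b (fun _ => rfl)
      (fun i j => LinearMap.BilinForm.apply_dualBasis_left (traceForm_nondegenerate _ _) b i j) P
      (hle x (Finset.mem_insert_self _ _))
      (fun l => hle _ (Finset.mem_insert_of_mem (Finset.mem_union_left _ (Finset.mem_image_of_mem _ (Finset.mem_univ l)))))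
      (fun l => hle _ (Finset.mem_insert_of_mem (Finset.mem_union_right _ (Finset.mem_image_of_mem _ (Finset.mem_univ l)))))
      z hzO
    clear hz hzO
    induction h1 using Algebra.adjoin_induction with
    | mem y hy => exact Algebra.subset_adjoin hy
    | algebraMap r => exact Subalgebra.algebraMap_mem _ (⟨_, ⟨(r : K), r.2, rfl⟩⟩ :
        P.O.toSubring.map (Algebra.TensorProduct.includeRight : K →ₐ[k] k' ⊗[k] K).toRingHom)
    | add x y _ _ hx hy => exact add_mem hx hy
    | mul x y _ _ hx hy => exact mul_mem hx hy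
  · exact ⟨algebraMap k K c, P.2.1 c, (Algebra.TensorProduct.includeRight : K →ₐ[k] k' ⊗[k] K).commutes c⟩

end Groth.Agent.CommAlg4.ConstExt
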