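import Groth.Agent.FF.Integral
import Groth.Agent.FF.Extension
import Mathlib.RingTheory.Unramified.Field
import Mathlib.RingTheory.Polynomial.ScaleRoots
import Mathlib.RingTheory.Valuation.Extension
import Mathlib.RingTheory.Etale.Field
import Mathlib.LinearAlgebra.TensorProduct.Basis

/-! Constant field extensions of function fields: integral closure of the local ring of a place. -/

set_option autoImplicit false
set_option backward.isDefEq.respectTransparency false

open FunFld WithZero TensorProduct
open scoped Classical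

namespace Groth.Agent.CommAlg4.ConstExt

universe u v
variable {k k' : Type u} {K K' : Type v} [Field k] [Field k'] [Field K] [Field K']
  [Algebra k k'] [FiniteDimensional k k'] [Algebra k K] [Algebra K K'] [Algebra k' K'] [Algebra k K']
  [IsScalarTower k k' K'] [IsScalarTower k K K']
  (h : Function.Bijective (Algebra.TensorProduct.productMap
    (IsScalarTower.toAlgHom k k' K') (IsScalarTower.toAlgHom k K K')))

include h in
theorem finiteDimensional : FiniteDimensional K K' := by
  let b := Module.finBasis k k'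
  refine Module.Finite.of_surjective (Fintype.linearCombination K fun i => algebraMap k' K' (b i)) fun z => ?_
  obtain ⟨t, rfl⟩ := h.2 z
  induction t using TensorProduct.induction_on with
  | zero => exact ⟨0, by simp⟩
  | tmul c a =>
    refine ⟨fun i => b.repr c i • a, ?_⟩
    simp only [Fintype.linearCombination_apply, Algebra.TensorProduct.productMap_apply_tmul,
      IsScalarTower.coe_toAlgHom', Algebra.smul_def, map_mul]
    conv_rhs => rw [← b.sum_repr c, map_sum, Finset.sum_mul]
    refine Finset.sum_congr rfl fun i _ => ?_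
    rw [Algebra.smul_def, map_mul, ← IsScalarTower.algebraMap_apply k K K',
      ← IsScalarTower.algebraMap_apply k k' K']
    ring
  | add x y hx hy =>
    obtain ⟨f, hf⟩ := hx
    obtain ⟨g, hg⟩ := hy
    exact ⟨f + g, by rw [map_add, hf, hg, map_add]⟩

/-- the inclusion `O → K` as a `k`-algebra map -/
def incl (P : Place k K) : P.O →ₐ[k] K := { P.O.subtype with commutes' := fun _ => rfl }

/-- the reduction `O → κ` as a `k`-algebra map -/
noncomputable def red (P : Place k K) : P.O →ₐ[k] IsLocalRing.ResidueField P.O :=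
  { IsLocalRing.residue P.O with commutes' := fun _ => rfl }

variable (P : Place k K) [Algebra P.O K'] [IsScalarTower P.O K K']

/-- `k' ⊗ O → K'` -/
noncomputable def Φ : k' ⊗[k] P.O →ₐ[k] K' :=
  (Algebra.TensorProduct.productMap (IsScalarTower.toAlgHom k k' K') (IsScalarTower.toAlgHom k K K')).comp
    (Algebra.TensorProduct.map (AlgHom.id k k') (incl P))

theorem Φ_tmul (c : k') (o : P.O) : Φ (K' := K') P (c ⊗ₜ o) = algebraMap k' K' c * algebraMap P.O K' o := by
  rw [IsScalarTower.algebraMap_apply P.O K K']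
  simp [Φ, incl]

include h in
theorem Φ_injective : Function.Injective (Φ (k' := k') (K' := K') P) :=
  h.1.comp (Module.Flat.lTensor_preserves_injective_linearMap (M := k') (incl P).toLinearMap
    Subtype.val_injective)

theorem Φ_mem_adjoin (η : k' ⊗[k] P.O) :
    Φ (K' := K') P η ∈ Algebra.adjoin P.O (Set.range (algebraMap k' K')) := by
  induction η using TensorProduct.induction_on with
  | zero => rw [map_zero]; exact zero_mem _
  | tmul c o =>
    rw [Φ_tmul]
    exact mul_mem (Algebra.subset_adjoin ⟨c, rfl⟩) (Subalgebra.algebraMap_mem _ o)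
  | add x y hx hy => rw [map_add]; exact add_mem hx hy

/-- the coordinates in a basis of `k'` -/
noncomputable def coord (M : Type*) [AddCommGroup M] [Module k M] :
    k' ⊗[k] M ≃ₗ[k] (Fin (Module.finrank k k') →₀ M) :=
  TensorProduct.equivFinsuppOfBasisLeft (Module.finBasis k k')

theorem coord_map {M N : Type*} [AddCommGroup M] [Module k M] [AddCommGroup N] [Module k N] (f : M →ₗ[k] N)
    (η : k' ⊗[k] M) (i : Fin (Module.finrank k k')) :
    coord N (LinearMap.lTensor k' f η) i = f (coord M η i) := by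
  induction η using TensorProduct.induction_on with
  | zero => simp
  | tmul c o => simp [coord, LinearMap.map_smul]
  | add x y hx hy => simp [map_add, hx, hy]

include h in
theorem eq_zero_red_of_pow_mem [hred : IsReduced (k' ⊗[k] IsLocalRing.ResidueField P.O)] (η : k' ⊗[k] P.O)
    (q : Polynomial P.O) (hq : q.Monic) (hlow : ∀ j < q.natDegree, IsLocalRing.residue P.O (q.coeff j) = 0)
    (hroot : q.eval₂ (algebraMap P.O K') (Φ P η) = 0) :
    ∀ i, P.1 ((coord P.O η i : P.O) : K) < 1 := by
  intro i
  let inc : P.O →+* k' ⊗[k] P.O := (Algebra.TensorProduct.includeRight : P.O →ₐ[k] k' ⊗[k] P.O).toRingHom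
  have hinc : (Φ (k' := k') (K' := K') P).toRingHom.comp inc = algebraMap P.O K' := RingHom.ext fun o => by
    show Φ P (1 ⊗ₜ o) = _
    rw [Φ_tmul, map_one, one_mul]
  have h0 : q.eval₂ inc η = 0 := by
    apply Φ_injective h P
    rw [map_zero]
    have := Polynomial.hom_eval₂ q inc (Φ (k' := k') (K' := K') P).toRingHom η
    rw [hinc] at this
    exact this.trans hroot
  let ρ := Algebra.TensorProduct.map (AlgHom.id k k') (red P)
  let inκ : IsLocalRing.ResidueField P.O →+* k' ⊗[k] IsLocalRing.ResidueField P.O :=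
    (Algebra.TensorProduct.includeRight : _ →ₐ[k] k' ⊗[k] IsLocalRing.ResidueField P.O).toRingHom
  have h1 : q.eval₂ (ρ.toRingHom.comp inc) (ρ η) = 0 :=
    (Polynomial.hom_eval₂ q inc ρ.toRingHom η).symm.trans (by rw [h0, map_zero])
  have hqm : q.map (IsLocalRing.residue P.O) = Polynomial.X ^ q.natDegree := by
    ext j
    rw [Polynomial.coeff_map, Polynomial.coeff_X_pow]
    rcases lt_trichotomy j q.natDegree with hj | hj | hj
    · rw [hlow j hj, if_neg hj.ne]
    · rw [hj, hq.coeff_natDegree, if_pos rfl, map_one]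
    · rw [Polynomial.coeff_eq_zero_of_natDegree_lt hj, if_neg hj.ne', map_zero]
  have hcomp : ρ.toRingHom.comp inc = inκ.comp (IsLocalRing.residue P.O) := RingHom.ext fun o => by
    show ρ (1 ⊗ₜ o) = 1 ⊗ₜ IsLocalRing.residue P.O o
    simp [ρ, red]
  rw [hcomp, ← Polynomial.eval₂_map, hqm, Polynomial.eval₂_X_pow] at h1
  have hη : ρ η = 0 := IsNilpotent.eq_zero ⟨_, h1⟩
  have h2 := coord_map (red P).toLinearMap η i
  rw [show LinearMap.lTensor k' (red P).toLinearMap η = 0 from hη, map_zero] at h2
  exact (FF.residue_eq_zero_iff P).1 h2.symm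

include h in
theorem mem_adjoin_of_integral [IsReduced (k' ⊗[k] IsLocalRing.ResidueField P.O)] (z : K')
    (hz : IsIntegral P.O z) : z ∈ Algebra.adjoin P.O (Set.range (algebraMap k' K')) := by
  obtain ⟨t, rfl⟩ := h.2 z
  set a := coord (k := k) K t with ha
  suffices H : ∀ i, P.1 (a i) ≤ 1 by
    let o : Fin (Module.finrank k k') → P.O := fun i => ⟨a i, (FF.mem_O P).2 (H i)⟩
    let η : k' ⊗[k] P.O := (coord (k' := k') P.O).symm (Finsupp.equivFunOnFinite.symm o)
    have : LinearMap.lTensor k' (incl P).toLinearMap η = t := by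
      apply (coord (k := k) (k' := k') K).injective
      ext i
      rw [coord_map, LinearEquiv.apply_symm_apply]
      rfl
    rw [← this]
    exact Φ_mem_adjoin P η
  by_contra hH
  push Not at hH
  obtain ⟨i1, hi1⟩ := hH
  obtain ⟨i0, -, hi0⟩ := Finset.exists_max_image Finset.univ (fun i => P.1 (a i)) ⟨i1, Finset.mem_univ _⟩
  have hgt : 1 < P.1 (a i0) := lt_of_lt_of_le hi1 (hi0 i1 (Finset.mem_univ _))
  have hne : a i0 ≠ 0 := fun hh => by rw [hh, map_zero] at hgt; exact not_lt_zero hgt
  let c : Fin (Module.finrank k k') → P.O := fun i => ⟨a i / a i0, (FF.mem_O P).2 (by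
    rw [map_div₀]; exact div_le_one_of_le₀ (hi0 i (Finset.mem_univ _)) zero_le)⟩
  let η : k' ⊗[k] P.O := (coord (k' := k') P.O).symm (Finsupp.equivFunOnFinite.symm c)
  let a' : P.O := ⟨(a i0)⁻¹, (FF.mem_O P).2 (by rw [map_inv₀]; exact inv_le_one_of_one_le₀ hgt.le)⟩
  have hy : Φ (K' := K') P η = algebraMap P.O K' a' *
      Algebra.TensorProduct.productMap (IsScalarTower.toAlgHom k k' K') (IsScalarTower.toAlgHom k K K') t := by
    have e : LinearMap.lTensor k' (incl P).toLinearMap η = ((1 : k') ⊗ₜ[k] (a i0)⁻¹) * t := by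
      have e2 : ((1 : k') ⊗ₜ[k] (a i0)⁻¹) * t =
          LinearMap.lTensor k' (LinearMap.mulLeft k (a i0)⁻¹) t := by
        clear_value a
        clear ha hi0 c η hz
        induction t using TensorProduct.induction_on with
        | zero => simp
        | tmul x y => simp
        | add x y hx hy => rw [mul_add, map_add, hx, hy]
      apply (coord (k := k) (k' := k') K).injective
      ext i
      rw [coord_map, e2, coord_map, LinearEquiv.apply_symm_apply]
      show a i / a i0 = (a i0)⁻¹ * a i
      rw [div_eq_inv_mul]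
    have e3 : Φ (K' := K') P η = Algebra.TensorProduct.productMap (IsScalarTower.toAlgHom k k' K')
        (IsScalarTower.toAlgHom k K K') (LinearMap.lTensor k' (incl P).toLinearMap η) := rfl
    rw [e3, e, map_mul, Algebra.TensorProduct.productMap_apply_tmul, map_one, one_mul,
      IsScalarTower.algebraMap_apply P.O K K']
    rfl
  obtain ⟨q, hq, hqz⟩ := hz
  have hqa : (q.scaleRoots a').eval₂ (algebraMap P.O K') (Φ (k' := k') P η) = 0 := by
    rw [hy]
    exact Polynomial.scaleRoots_eval₂_eq_zero _ hqz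
  have hlow : ∀ j < (q.scaleRoots a').natDegree, IsLocalRing.residue P.O ((q.scaleRoots a').coeff j) = 0 := by
    intro j hj
    rw [Polynomial.natDegree_scaleRoots] at hj
    rw [Polynomial.coeff_scaleRoots, map_mul, map_pow, (FF.residue_eq_zero_iff P (x := a')).2 ?_,
      zero_pow (by omega), mul_zero]
    show P.1 (a i0)⁻¹ < 1
    rw [map_inv₀]
    exact inv_lt_one_of_one_lt₀ hgt
  have := eq_zero_red_of_pow_mem h P η _ ((Polynomial.monic_scaleRoots_iff a').2 hq) hlow hqa i0
  rw [LinearEquiv.apply_symm_apply] at this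
  change P.1 (a i0 / a i0) < 1 at this
  rw [div_self hne, map_one] at this
  exact lt_irrefl _ this

include h in
theorem integralClosure_eq [IsReduced (k' ⊗[k] IsLocalRing.ResidueField P.O)] :
    integralClosure P.O K' = Algebra.adjoin P.O (Set.range (algebraMap k' K')) := by
  refine le_antisymm (fun z hz => mem_adjoin_of_integral h P z hz) (Algebra.adjoin_le ?_)
  rintro _ ⟨c, rfl⟩
  refine (IsIntegral.of_finite k c).map_of_comp_eq (algebraMap k P.O) (algebraMap k' K') ?_
  ext x
  simp only [RingHom.comp_apply]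
  rw [IsScalarTower.algebraMap_apply P.O K K', ← IsScalarTower.algebraMap_apply k k' K',
    IsScalarTower.algebraMap_apply k K K']
  rfl

theorem isReduced_of_separable_residue [Algebra.IsSeparable k (IsLocalRing.ResidueField P.O)]
    [FiniteDimensional k (IsLocalRing.ResidueField P.O)] :
    IsReduced (k' ⊗[k] IsLocalRing.ResidueField P.O) :=
  haveI := Algebra.FormallyUnramified.of_isSeparable k (IsLocalRing.ResidueField P.O)
  Algebra.FormallyUnramified.isReduced_of_field k' _

theorem isReduced_of_separable [Algebra.IsSeparable k k'] :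
    IsReduced (k' ⊗[k] IsLocalRing.ResidueField P.O) := by
  haveI := Algebra.FormallyUnramified.of_isSeparable k k'
  haveI : IsReduced (IsLocalRing.ResidueField P.O ⊗[k] k') :=
    Algebra.FormallyUnramified.isReduced_of_field (IsLocalRing.ResidueField P.O) _
  exact isReduced_of_injective (Algebra.TensorProduct.comm k k' (IsLocalRing.ResidueField P.O))
    (Algebra.TensorProduct.comm k k' (IsLocalRing.ResidueField P.O)).injective

include h in
theorem ramification_one (hK : FunFld.IsFunctionField k K)
    [IsReduced (k' ⊗[k] IsLocalRing.ResidueField P.O)] (Q : Place k K') (hQ : IsOver Q P) :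
    IsOverWith Q P 1 := by
  haveI := finiteDimensional h
  set e := ramIdx Q P with he
  have hOW := FF.isOverWith_ramIdx hQ
  have he0 : 0 < e := FF.ramIdx_pos hQ
  suffices he1 : e ≤ 1 by
    have : e = 1 := by omega
    rw [← he, this] at hOW
    exact hOW
  let S := (FF.finite_over (K' := K') hK.1 P).toFinset
  obtain ⟨w, hw0, hw⟩ := FF.exists_uniformizer Q
  obtain ⟨u, hu⟩ := FF.exists_approx S (fun R => if R = Q then w else 0)
    (fun R => if R = Q then -2 else -(ramIdx R P : ℤ))
  have huQ : Q.1 u = exp (-1) := by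
    have h1 := hu Q (by simpa [S] using hQ)
    rw [if_pos rfl, if_pos rfl] at h1
    have h2 : Q.1 (u - w) < Q.1 w := h1.trans_lt (by rw [hw, exp_lt_exp]; norm_num)
    have h3 := Q.1.map_add_eq_of_lt_right h2
    rw [sub_add_cancel] at h3
    rw [h3, hw]
  obtain ⟨π, hπ0, hπ⟩ := FF.exists_uniformizer P
  have hint : ∀ R : Place k K', IsOver R P → R.1 (u ^ e * (algebraMap K K' π)⁻¹) ≤ 1 := by
    intro R hR
    rw [map_mul, map_pow, map_inv₀, FF.isOverWith_ramIdx hR π, hπ, mul_inv_le_iff₀ (pow_pos (exp_pos) _), one_mul]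
    by_cases hRQ : R = Q
    · subst hRQ
      rw [huQ]
    · have h1 := hu R (by simpa [S] using hR)
      rw [if_neg hRQ, if_neg hRQ, sub_zero] at h1
      refine (pow_le_pow_left₀ zero_le h1 e).trans ?_
      rw [← exp_nsmul, ← exp_nsmul, exp_le_exp, nsmul_eq_mul, nsmul_eq_mul]
      have := FF.ramIdx_pos hR
      nlinarith
  have hu_int : IsIntegral P.O u := (FF.isIntegral_iff_forall_place hK.1 P u).2 fun R hR => by
    by_cases hRQ : R = Q
    · subst hRQ
      rw [huQ, ← exp_zero, exp_le_exp]
      norm_num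
    · have h1 := hu R (by simpa [S] using hR)
      rw [if_neg hRQ, if_neg hRQ, sub_zero] at h1
      exact h1.trans (by rw [← exp_zero, exp_le_exp]; omega)
  have hy_int := (FF.isIntegral_iff_forall_place hK.1 P (u ^ e * (algebraMap K K' π)⁻¹)).2 hint
  have himg : ∀ z : K', z ∈ Algebra.adjoin P.O (Set.range (algebraMap k' K')) → ∃ η, Φ (k' := k') P η = z := by
    intro z hz
    induction hz using Algebra.adjoin_induction with
    | mem y hy => obtain ⟨c, rfl⟩ := hy; exact ⟨c ⊗ₜ 1, by rw [Φ_tmul, map_one, mul_one]⟩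
    | algebraMap r => exact ⟨1 ⊗ₜ r, by rw [Φ_tmul, map_one, one_mul]⟩
    | add x y _ _ hx hy => obtain ⟨a, rfl⟩ := hx; obtain ⟨b, rfl⟩ := hy; exact ⟨a + b, map_add _ _ _⟩
    | mul x y _ _ hx hy => obtain ⟨a, rfl⟩ := hx; obtain ⟨b, rfl⟩ := hy; exact ⟨a * b, map_mul _ _ _⟩
  obtain ⟨η, hη⟩ := himg u (mem_adjoin_of_integral h P u hu_int)
  obtain ⟨θ, hθ⟩ := himg _ (mem_adjoin_of_integral h P _ hy_int)
  let πO : P.O := ⟨π, (FF.mem_O P).2 (by rw [hπ, ← exp_zero, exp_le_exp]; norm_num)⟩
  have hπres : IsLocalRing.residue P.O πO = 0 := (FF.residue_eq_zero_iff P).2 (by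
    show P.1 π < 1
    rw [hπ, ← exp_zero, exp_lt_exp]; norm_num)
  have hrel : η ^ e = ((1 : k') ⊗ₜ[k] πO) * θ := by
    apply Φ_injective (K' := K') h P
    rw [map_pow, map_mul, hη, hθ, Φ_tmul, map_one, one_mul, IsScalarTower.algebraMap_apply P.O K K']
    show u ^ e = algebraMap K K' π * (u ^ e * (algebraMap K K' π)⁻¹)
    rw [mul_left_comm, mul_inv_cancel₀ ((map_ne_zero _).2 hπ0), mul_one]
  let ρ := Algebra.TensorProduct.map (AlgHom.id k k') (red P)
  have hρ : ρ η = 0 := IsNilpotent.eq_zero ⟨e, by
    rw [← map_pow, hrel, map_mul, show ρ ((1 : k') ⊗ₜ[k] πO) = 0 by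
      simp only [ρ, Algebra.TensorProduct.map_tmul, AlgHom.id_apply]
      rw [show red P πO = 0 from hπres, tmul_zero], zero_mul]⟩
  have hcoord : ∀ i, P.1 ((coord P.O η i : P.O) : K) < 1 := fun i => by
    have h2 := coord_map (red P).toLinearMap η i
    rw [show LinearMap.lTensor k' (red P).toLinearMap η = 0 from hρ, map_zero] at h2
    exact (FF.residue_eq_zero_iff P).1 h2.symm
  have hle : Q.1 u ≤ exp (-(e : ℤ)) := by
    rw [← hη, show η = ∑ i, Module.finBasis k k' i ⊗ₜ[k] (coord P.O η i) by
      apply (coord (k := k) (k' := k') P.O).injective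
      ext j
      simp [coord, Finsupp.single_apply, Module.Basis.repr_self], map_sum]
    refine Q.1.map_sum_le fun i _ => ?_
    rw [Φ_tmul, map_mul, IsScalarTower.algebraMap_apply P.O K K', hOW]
    refine (mul_le_mul' (?_ : Q.1 (algebraMap k' K' _) ≤ 1) (pow_le_pow_left₀ zero_le
      (FF.pow_le_exp_neg (hcoord i) 1 |> fun h => by simpa using h) e)).trans (le_of_eq ?_)
    · have hc : IsIntegral Q.O (algebraMap k' K' (Module.finBasis k k' i)) :=
        (IsIntegral.of_finite k (Module.finBasis k k' i)).map_of_comp_eq (algebraMap k Q.O) (algebraMap k' K') (by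
          ext x
          simp only [RingHom.comp_apply]
          rw [← IsScalarTower.algebraMap_apply k k' K']
          rfl)
      obtain ⟨d, hd⟩ := IsIntegrallyClosed.isIntegral_iff.mp hc
      exact hd ▸ (FF.mem_O Q).mp d.2
    · rw [one_mul, inv_pow, ← exp_nsmul, ← exp_neg]; congr 1; simp
  rw [huQ, exp_le_exp] at hle
  omega

include h in
theorem residue_adjoin_eq_top (hK : FunFld.IsFunctionField k K)
    (hns : (integralClosure P.O K').toSubring = (Algebra.adjoin P.O (Set.range (algebraMap k' K'))).toSubring)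
    (Q : Place k K') [P.1.HasExtension Q.1] (hk' : ∀ c : k', Q.1 (algebraMap k' K' c) ≤ 1) :
    Algebra.adjoin (IsLocalRing.ResidueField P.O)
      (Set.range fun c : k' => IsLocalRing.residue Q.O ⟨algebraMap k' K' c, hk' c⟩) = ⊤ := by
  haveI := finiteDimensional h
  have hQP : IsOver Q P := by
    obtain ⟨P', e, he, hOW⟩ := FF.exists_isOverWith hK.1 Q
    obtain rfl : P = P' := FF.eq_of_le fun x hx =>
      (FF.ow_le_one_iff hOW x).1 ((Valuation.HasExtension.val_map_le_one_iff (vA := Q.1) (vR := P.1) x).2 hx)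
    exact ⟨e, hOW⟩
  refine eq_top_iff.2 fun z _ => ?_
  obtain ⟨z, rfl⟩ := IsLocalRing.residue_surjective z
  let S := (FF.finite_over (K' := K') hK.1 P).toFinset
  obtain ⟨y, hy⟩ := FF.exists_approx S (fun R => if R = Q then (z : K') else 0)
    (fun R => if R = Q then -1 else 0)
  have hyQ : Q.1 (y - z) < 1 := by
    have h1 := hy Q (by simpa [S] using hQP)
    rw [if_pos rfl, if_pos rfl] at h1
    exact h1.trans_lt (by rw [← exp_zero, exp_lt_exp]; norm_num)
  have hy_int : IsIntegral P.O y := (FF.isIntegral_iff_forall_place hK.1 P y).2 fun R hR => by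
    by_cases hRQ : R = Q
    · subst hRQ
      rw [show y = (y - (z : K')) + z by ring]
      exact (R.1.map_add _ _).trans (max_le hyQ.le ((FF.mem_O R).1 z.2))
    · have h1 := hy R (by simpa [S] using hR)
      rwa [if_neg hRQ, if_neg hRQ, sub_zero, exp_zero] at h1
  have hy' : y ∈ (Algebra.adjoin P.O (Set.range (algebraMap k' K'))).toSubring := hns ▸ hy_int
  have key : ∀ w : K', w ∈ Algebra.adjoin P.O (Set.range (algebraMap k' K')) → ∃ hw : Q.1 w ≤ 1,
      IsLocalRing.residue Q.O ⟨w, hw⟩ ∈ Algebra.adjoin (IsLocalRing.ResidueField P.O)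
      (Set.range fun c : k' => IsLocalRing.residue Q.O ⟨algebraMap k' K' c, hk' c⟩) := by
    intro w hw
    induction hw using Algebra.adjoin_induction with
    | mem a ha =>
      obtain ⟨c, rfl⟩ := ha
      exact ⟨hk' c, Algebra.subset_adjoin ⟨c, rfl⟩⟩
    | algebraMap r =>
      have hr : Q.1 (algebraMap P.O K' r) ≤ 1 := by
        rw [IsScalarTower.algebraMap_apply P.O K K']
        exact FF.isOver_val_le hQP ((FF.mem_O P).1 r.2)
      refine ⟨hr, ?_⟩
      convert Subalgebra.algebraMap_mem _ (IsLocalRing.residue P.O r) using 1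
      rw [Valuation.HasExtension.algebraMap_residue_eq_residue_algebraMap]
      congr 1
      exact Subtype.ext (IsScalarTower.algebraMap_apply P.O K K' r)
    | add a b _ _ ha hb =>
      obtain ⟨ha, hA⟩ := ha
      obtain ⟨hb, hB⟩ := hb
      exact ⟨(Q.1.map_add a b).trans (max_le ha hb), by
        rw [show (⟨a + b, _⟩ : Q.O) = ⟨a, ha⟩ + ⟨b, hb⟩ from rfl, map_add]; exact add_mem hA hB⟩
    | mul a b _ _ ha hb =>
      obtain ⟨ha, hA⟩ := ha
      obtain ⟨hb, hB⟩ := hb
      exact ⟨by rw [map_mul]; exact mul_le_one' ha hb, by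
        rw [show (⟨a * b, _⟩ : Q.O) = ⟨a, ha⟩ * ⟨b, hb⟩ from rfl, map_mul]; exact mul_mem hA hB⟩
  obtain ⟨hy1, hy2⟩ := key y hy'
  convert hy2 using 1
  refine (sub_eq_zero.1 ?_).symm
  rw [← map_sub]
  exact (FF.residue_eq_zero_iff Q).2 hyQ

end Groth.Agent.CommAlg4.ConstExt
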