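import Groth.Agent.CommAlg4.ConstExtIntegral

/-! Constant field extensions of function fields in towers: integral closure generated by constants. -/

set_option autoImplicit false
set_option backward.isDefEq.respectTransparency false

open FunFld WithZero TensorProduct
open scoped Classical

namespace Groth.Agent.CommAlg4.ConstExt

universe u v

theorem isIntegral_subringMap_iff {K L : Type v} [Field K] [Field L] (f : K →+* L) (S : Subring K) (z : L) :
    IsIntegral (S.map f) z ↔ (f.comp S.subtype).IsIntegralElem z := by
  let e := S.equivMapOfInjective f f.injective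
  constructor
  · intro h
    obtain ⟨q, hq, hqz⟩ := h
    refine ⟨q.map (e.symm : S.map f →+* S), hq.map _, ?_⟩
    rw [Polynomial.eval₂_map]
    convert hqz using 2
    refine RingHom.ext fun t => ?_
    obtain ⟨s, rfl⟩ := e.surjective t
    simp [e]
    rfl
  · rintro ⟨q, hq, hqz⟩
    refine ⟨q.map (e : S →+* S.map f), hq.map _, ?_⟩
    rw [Polynomial.eval₂_map]
    convert hqz using 2
    rfl

theorem adjoin_le_integralClosure {k F : Type u} {L : Type v} [Field k] [Field F] [Field L] [Algebra k F]
    [FiniteDimensional k F] [Algebra k L] [Algebra F L] [IsScalarTower k F L] (T : Subring L)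
    (hT : ∀ c : k, algebraMap k L c ∈ T) :
    Algebra.adjoin T (Set.range (algebraMap F L)) ≤ integralClosure T L := by
  refine Algebra.adjoin_le ?_
  rintro _ ⟨c, rfl⟩
  refine (IsIntegral.of_finite k c).map_of_comp_eq ((algebraMap k L).codRestrict T hT) (algebraMap F L) ?_
  ext x
  simp only [RingHom.comp_apply]
  exact IsScalarTower.algebraMap_apply k F L x

section Coord

variable {F F' : Type u} {L L' : Type v} [Field F] [Field F'] [Field L] [Field L'] [Algebra F F'] [FiniteDimensional F F']
  [Algebra F L] [Algebra L L'] [Algebra F' L'] [Algebra F L'] [IsScalarTower F F' L'] [IsScalarTower F L L']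
  (h : Function.Bijective (Algebra.TensorProduct.productMap
    (IsScalarTower.toAlgHom F F' L') (IsScalarTower.toAlgHom F L L')))

include h in
/-- coordinates of `L'` over `L` in a basis of `F'` over `F` -/
noncomputable def cd : L' ≃ₗ[F] (Fin (Module.finrank F F') →₀ L) :=
  (AlgEquiv.ofBijective _ h).symm.toLinearEquiv.trans (coord L)

theorem eq_sum_cd (z : L') :
    z = ∑ j, algebraMap F' L' (Module.finBasis F F' j) * algebraMap L L' (cd h z j) := by
  obtain ⟨t, rfl⟩ := h.2 z
  have e : cd h (Algebra.TensorProduct.productMap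
      (IsScalarTower.toAlgHom F F' L') (IsScalarTower.toAlgHom F L L') t) = coord L t := by
    show coord L ((AlgEquiv.ofBijective _ h).symm ((AlgEquiv.ofBijective _ h) t)) = _
    rw [AlgEquiv.symm_apply_apply]
  rw [e]
  have e2 : t = ∑ j, Module.finBasis F F' j ⊗ₜ[F] coord L t j := by
    apply (coord (k := F) (k' := F') L).injective
    ext l
    simp [coord, Finsupp.single_apply]
  conv_lhs => rw [e2]
  simp

theorem cd_algebraMap_mul (u : L) (z : L') (j : Fin (Module.finrank F F')) :
    cd h (algebraMap L L' u * z) j = u * cd h z j := by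
  obtain ⟨t, rfl⟩ := h.2 z
  have e : ∀ t, cd h (Algebra.TensorProduct.productMap
      (IsScalarTower.toAlgHom F F' L') (IsScalarTower.toAlgHom F L L') t) = coord L t := fun t => by
    show coord L ((AlgEquiv.ofBijective _ h).symm ((AlgEquiv.ofBijective _ h) t)) = _
    rw [AlgEquiv.symm_apply_apply]
  have e2 : algebraMap L L' u * Algebra.TensorProduct.productMap
      (IsScalarTower.toAlgHom F F' L') (IsScalarTower.toAlgHom F L L') t = Algebra.TensorProduct.productMap
      (IsScalarTower.toAlgHom F F' L') (IsScalarTower.toAlgHom F L L') ((1 ⊗ₜ u) * t) := by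
    rw [map_mul, Algebra.TensorProduct.productMap_apply_tmul, map_one, one_mul]
    rfl
  have e3 : (((1 : F') ⊗ₜ[F] u) * t) = LinearMap.lTensor F' (LinearMap.mulLeft F u) t := by
    clear e2
    induction t using TensorProduct.induction_on with
    | zero => simp
    | tmul x y => simp
    | add x y hx hy => rw [mul_add, map_add, hx, hy]
  rw [e2, e, e, e3, coord_map]
  rfl

theorem mem_adjoin_map_iff (S : Subalgebra F L) (z : L') :
    z ∈ Algebra.adjoin (S.toSubring.map (algebraMap L L')) (Set.range (algebraMap F' L')) ↔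
      ∀ j, cd h z j ∈ S := by
  refine ⟨fun hz => ?_, fun hz => ?_⟩
  · let Θ : F' ⊗[F] S →ₐ[F] L' := (Algebra.TensorProduct.productMap
      (IsScalarTower.toAlgHom F F' L') (IsScalarTower.toAlgHom F L L')).comp
        (Algebra.TensorProduct.map (AlgHom.id F F') S.val)
    have hΘ : z ∈ Θ.range := by
      induction hz using Algebra.adjoin_induction with
      | mem y hy =>
        obtain ⟨c, rfl⟩ := hy
        exact ⟨c ⊗ₜ 1, by simp [Θ]⟩
      | algebraMap r =>
        obtain ⟨r, s, hs, rfl⟩ := r
        exact ⟨1 ⊗ₜ ⟨s, hs⟩, by simp [Θ]; rfl⟩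
      | add x y _ _ hx hy => exact add_mem hx hy
      | mul x y _ _ hx hy => exact mul_mem hx hy
    obtain ⟨t, rfl⟩ := hΘ
    intro j
    have e : cd h (Θ t) j = coord L (LinearMap.lTensor F' S.val.toLinearMap t) j := by
      show coord L ((AlgEquiv.ofBijective _ h).symm ((AlgEquiv.ofBijective _ h) _)) j = _
      rw [AlgEquiv.symm_apply_apply]
      rfl
    show cd h (Θ t) j ∈ S
    rw [e, coord_map]
    exact (coord S t j).2
  · rw [eq_sum_cd h z]
    refine Subalgebra.sum_mem _ fun j _ => mul_mem (Algebra.subset_adjoin ⟨_, rfl⟩) ?_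
    exact Subalgebra.algebraMap_mem _ (⟨_, ⟨_, hz j, rfl⟩⟩ : S.toSubring.map (algebraMap L L'))

end Coord

section Tower

variable {k k' k'' : Type u} {K K' K'' : Type v} [Field k] [Field k'] [Field k''] [Field K] [Field K'] [Field K'']
    [Algebra k k'] [Algebra k' k''] [Algebra k k''] [IsScalarTower k k' k'']
    [FiniteDimensional k k'] [FiniteDimensional k' k'']
    [Algebra k K] [Algebra K K'] [Algebra k' K'] [Algebra k K'] [IsScalarTower k k' K'] [IsScalarTower k K K']
    [Algebra K' K''] [Algebra k'' K''] [Algebra k' K''] [Algebra k K''] [Algebra K K'']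
    [IsScalarTower k' k'' K''] [IsScalarTower k' K' K''] [IsScalarTower K K' K''] [IsScalarTower k K K'']

theorem tower_iff (h1 : Function.Bijective (Algebra.TensorProduct.productMap
      (IsScalarTower.toAlgHom k k' K') (IsScalarTower.toAlgHom k K K')))
    (h2 : Function.Bijective (Algebra.TensorProduct.productMap
      (IsScalarTower.toAlgHom k' k'' K'') (IsScalarTower.toAlgHom k' K' K'')))
    (hK : FunFld.IsFunctionField k K) (P : FunFld.Place k K) :
    (integralClosure (P.O.toSubring.map (algebraMap K K'')) K'' =
        Algebra.adjoin (P.O.toSubring.map (algebraMap K K'')) (Set.range (algebraMap k'' K''))) ↔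
      (integralClosure (P.O.toSubring.map (algebraMap K K')) K' =
          Algebra.adjoin (P.O.toSubring.map (algebraMap K K')) (Set.range (algebraMap k' K')) ∧
        ∀ Q : FunFld.Place k K', FunFld.IsOver Q P →
          integralClosure (Q.O.toSubring.map (algebraMap K' K'')) K'' =
            Algebra.adjoin (Q.O.toSubring.map (algebraMap K' K'')) (Set.range (algebraMap k'' K''))) := by
  haveI := finiteDimensional h1
  haveI : FiniteDimensional k k'' := Module.Finite.trans k' k''
  have hkk : ∀ c : k, algebraMap k K'' c = algebraMap k' K'' (algebraMap k k' c) := fun c => by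
    rw [IsScalarTower.algebraMap_apply k K K'', IsScalarTower.algebraMap_apply K K' K'',
      ← IsScalarTower.algebraMap_apply k K K', IsScalarTower.algebraMap_apply k k' K',
      ← IsScalarTower.algebraMap_apply k' K' K'']
  haveI : IsScalarTower k k'' K'' := IsScalarTower.of_algebraMap_eq fun c => by
    rw [hkk, IsScalarTower.algebraMap_apply k' k'' K'', ← IsScalarTower.algebraMap_apply k k' k'']
  letI : Algebra P.O K' := ((algebraMap K K').comp P.O.subtype).toAlgebra
  haveI : IsScalarTower P.O K K' := IsScalarTower.of_algebraMap_eq fun _ => rfl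
  letI : Algebra P.O K'' := ((algebraMap K K'').comp P.O.subtype).toAlgebra
  haveI : IsScalarTower P.O K' K'' := IsScalarTower.of_algebraMap_eq fun o =>
    IsScalarTower.algebraMap_apply K K' K'' (o : K)
  let A := Algebra.adjoin (P.O.toSubring.map (algebraMap K K')) (Set.range (algebraMap k' K'))
  let SA : Subalgebra k' K' := { A.toSubring with algebraMap_mem' := fun c => Algebra.subset_adjoin ⟨c, rfl⟩ }
  have hTk1 : ∀ c : k, algebraMap k K' c ∈ P.O.toSubring.map (algebraMap K K') := fun c =>
    ⟨algebraMap k K c, P.2.1 c, (IsScalarTower.algebraMap_apply k K K' c).symm⟩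
  have hTk2 : ∀ c : k, algebraMap k K'' c ∈ P.O.toSubring.map (algebraMap K K'') := fun c =>
    ⟨algebraMap k K c, P.2.1 c, (IsScalarTower.algebraMap_apply k K K'' c).symm⟩
  have hTQ : ∀ (Q : Place k K') (c : k), algebraMap k K'' c ∈ Q.O.toSubring.map (algebraMap K' K'') := fun Q c =>
    ⟨algebraMap k K' c, Q.2.1 c, by
      rw [hkk, IsScalarTower.algebraMap_apply k k' K', ← IsScalarTower.algebraMap_apply k' K' K'']⟩
  have int1 : ∀ z : K', z ∈ integralClosure (P.O.toSubring.map (algebraMap K K')) K' ↔ IsIntegral P.O z :=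
    fun z => isIntegral_subringMap_iff (algebraMap K K') P.O.toSubring z
  have int2 : ∀ z : K'', z ∈ integralClosure (P.O.toSubring.map (algebraMap K K'')) K'' ↔ IsIntegral P.O z :=
    fun z => isIntegral_subringMap_iff (algebraMap K K'') P.O.toSubring z
  have hadj : ∀ z : K'', z ∈ Algebra.adjoin (P.O.toSubring.map (algebraMap K K'')) (Set.range (algebraMap k'' K'')) ↔
      ∀ j, cd h2 z j ∈ A := by
    intro z
    have e1 := mem_adjoin_map_iff h2 SA z
    refine Iff.trans ?_ e1
    clear e1
    constructor
    · intro hz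
      induction hz using Algebra.adjoin_induction with
      | mem y hy => exact Algebra.subset_adjoin hy
      | algebraMap r =>
        obtain ⟨r, s, hs, rfl⟩ := r
        exact Subalgebra.algebraMap_mem _ (⟨_, ⟨algebraMap K K' s,
          Subalgebra.algebraMap_mem A (⟨_, ⟨s, hs, rfl⟩⟩ : P.O.toSubring.map (algebraMap K K')),
          (IsScalarTower.algebraMap_apply K K' K'' s).symm⟩⟩ : SA.toSubring.map (algebraMap K' K''))
      | add x y _ _ hx hy => exact add_mem hx hy
      | mul x y _ _ hx hy => exact mul_mem hx hy
    · intro hz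
      have key : ∀ a ∈ A, algebraMap K' K'' a ∈
          Algebra.adjoin (P.O.toSubring.map (algebraMap K K'')) (Set.range (algebraMap k'' K'')) := by
        intro a ha
        induction ha using Algebra.adjoin_induction with
        | mem y hy =>
          obtain ⟨c, rfl⟩ := hy
          rw [← IsScalarTower.algebraMap_apply k' K' K'', IsScalarTower.algebraMap_apply k' k'' K'']
          exact Algebra.subset_adjoin ⟨_, rfl⟩
        | algebraMap r =>
          obtain ⟨r, s, hs, rfl⟩ := r
          exact Subalgebra.algebraMap_mem _ (⟨_, ⟨s, hs, IsScalarTower.algebraMap_apply K K' K'' s⟩⟩ :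
            P.O.toSubring.map (algebraMap K K''))
        | add x y _ _ hx hy => rw [map_add]; exact add_mem hx hy
        | mul x y _ _ hx hy => rw [map_mul]; exact mul_mem hx hy
      induction hz using Algebra.adjoin_induction with
      | mem y hy => exact Algebra.subset_adjoin hy
      | algebraMap r =>
        obtain ⟨r, s, hs, rfl⟩ := r
        exact key s hs
      | add x y _ _ hx hy => exact add_mem hx hy
      | mul x y _ _ hx hy => exact mul_mem hx hy
  let SQ : Place k K' → Subalgebra k' K' := fun Q => { Q.O.toSubring with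
    algebraMap_mem' := fun c => by
      have hc : IsIntegral Q.O (algebraMap k' K' c) :=
        (IsIntegral.of_finite k c).map_of_comp_eq (algebraMap k Q.O) (algebraMap k' K') (by
          ext x
          simp only [RingHom.comp_apply]
          rw [← IsScalarTower.algebraMap_apply k k' K']
          rfl)
      obtain ⟨d, hd⟩ := IsIntegrallyClosed.isIntegral_iff.mp hc
      exact hd ▸ d.2 }
  constructor
  · intro H
    have part1 : ∀ a : K', IsIntegral P.O a → a ∈ A := by
      intro a ha
      have h' : algebraMap K' K'' a ∈ integralClosure (P.O.toSubring.map (algebraMap K K'')) K'' :=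
        (int2 _).2 (ha.map (IsScalarTower.toAlgHom P.O K' K''))
      rw [H, hadj] at h'
      have hd : ∀ j, cd h2 (1 : K'') j = algebraMap k' K' ((Module.finBasis k' k'').repr 1 j) := by
        intro j
        have e : cd h2 (1 : K'') = coord K' ((1 : k'') ⊗ₜ[k'] (1 : K')) := by
          show coord K' ((AlgEquiv.ofBijective _ h2).symm 1) = _
          rw [map_one]
          rfl
        rw [e]
        simp [coord, Algebra.smul_def]
      obtain ⟨j, hj⟩ : ∃ j, (Module.finBasis k' k'').repr 1 j ≠ 0 := by
        by_contra hall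
        push Not at hall
        have : (Module.finBasis k' k'').repr 1 = 0 := Finsupp.ext hall
        simp at this
      have h'' := h' j
      rw [← mul_one (algebraMap K' K'' a), cd_algebraMap_mul, hd] at h''
      have hmem := mul_mem h'' (Algebra.subset_adjoin ⟨((Module.finBasis k' k'').repr 1 j)⁻¹, rfl⟩ :
        algebraMap k' K' ((Module.finBasis k' k'').repr 1 j)⁻¹ ∈ A)
      rwa [mul_assoc, ← map_mul, mul_inv_cancel₀ hj, map_one, mul_one] at hmem
    refine ⟨le_antisymm (fun a ha => part1 a ((int1 a).1 ha)) (adjoin_le_integralClosure (F := k') _ hTk1),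
      fun Q hQ => le_antisymm (fun z hz => ?_) (adjoin_le_integralClosure (k := k) (F := k'') _ (hTQ Q))⟩
    refine (mem_adjoin_map_iff h2 (SQ Q) z).2 fun j => ?_
    obtain ⟨q, hq, hqz⟩ := (isIntegral_subringMap_iff (algebraMap K' K'') Q.O.toSubring z).1 hz
    let c : ℕ → K' := fun i => ((q.coeff i : Q.O.toSubring) : K')
    let Ps := (FF.finite_over (K' := K') hK.1 P).toFinset
    let N : ℕ := (Ps ×ˢ Finset.range (q.natDegree + 1)).sup fun p => ((p.1.1 (c p.2)).log).toNat
    obtain ⟨u, hu⟩ := FF.exists_approx Ps (fun R => if R = Q then 1 else 0)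
      (fun R => if R = Q then -1 else -(N : ℤ))
    have huQ : Q.1 u = 1 := by
      have h1 := hu Q (by simpa [Ps] using hQ)
      rw [if_pos rfl, if_pos rfl] at h1
      have h2 : Q.1 (u - 1) < Q.1 1 := h1.trans_lt (by rw [map_one, ← exp_zero, exp_lt_exp]; norm_num)
      have h3 := Q.1.map_add_eq_of_lt_right h2
      rw [sub_add_cancel] at h3
      rw [h3, map_one]
    have huR : ∀ R, IsOver R P → R ≠ Q → R.1 u ≤ exp (-(N : ℤ)) := fun R hR hne => by
      have h1 := hu R (by simpa [Ps] using hR)
      rwa [if_neg hne, if_neg hne, sub_zero] at h1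
    have hu1 : ∀ R, IsOver R P → R.1 u ≤ 1 := fun R hR => by
      by_cases hne : R = Q
      · rw [hne, huQ]
      · exact (huR R hR hne).trans (by rw [← exp_zero, exp_le_exp]; omega)
    have huc : ∀ i ≤ q.natDegree, ∀ R, IsOver R P → R.1 (u * c i) ≤ 1 := fun i hi R hR => by
      rw [map_mul]
      by_cases hne : R = Q
      · rw [hne, huQ, one_mul]; exact (FF.mem_O Q).1 (q.coeff i).2
      · by_cases hc0 : R.1 (c i) = 0
        · rw [hc0, mul_zero]; exact zero_le_one
        have hN : ((R.1 (c i)).log).toNat ≤ N := Finset.le_sup (f := fun p => ((p.1.1 (c p.2)).log).toNat)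
          (b := (R, i)) (by simp [Ps, hR, Finset.mem_range]; omega)
        have h1 : R.1 (c i) ≤ exp (N : ℤ) := by
          rw [← exp_log hc0, exp_le_exp]; omega
        refine (mul_le_mul' (huR R hR hne) h1).trans_eq ?_
        rw [← exp_add, neg_add_cancel, exp_zero]
    let q' := (q.map (Q.O.toSubring.subtype)).scaleRoots u
    have hq'm : q'.Monic := (Polynomial.monic_scaleRoots_iff u).2 (hq.map _)
    have hdeg : (q.map Q.O.toSubring.subtype).natDegree = q.natDegree := hq.natDegree_map _
    let C := integralClosure P.O K'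
    have hlifts : q' ∈ Polynomial.lifts (algebraMap C K') := by
      rw [Polynomial.lifts_iff_coeff_lifts]
      intro i
      refine ⟨⟨q'.coeff i, ?_⟩, rfl⟩
      refine (FF.isIntegral_iff_forall_place hK.1 P _).2 fun R hR => ?_
      show R.1 (q'.coeff i) ≤ 1
      rw [Polynomial.coeff_scaleRoots, hdeg, Polynomial.coeff_map]
      rcases lt_trichotomy i q.natDegree with hi | hi | hi
      · obtain ⟨d, hd⟩ : ∃ d, q.natDegree - i = d + 1 := ⟨q.natDegree - i - 1, by omega⟩
        rw [hd, pow_succ, mul_left_comm, mul_comm, map_mul, map_pow, mul_comm]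
        refine mul_le_one' (pow_le_one₀ zero_le (hu1 R hR)) ?_
        rw [mul_comm]
        exact huc i hi.le R hR
      · rw [hi, Nat.sub_self, pow_zero, mul_one, hq.coeff_natDegree, map_one, map_one]
      · rw [Polynomial.coeff_eq_zero_of_natDegree_lt hi, map_zero, zero_mul, map_zero]
        exact zero_le_one
    obtain ⟨r, hr, -, hrm⟩ := Polynomial.lifts_and_degree_eq_and_monic hlifts hq'm
    have hC : IsIntegral C (algebraMap K' K'' u * z) := by
      refine ⟨r, hrm, ?_⟩
      rw [IsScalarTower.algebraMap_eq C K' K'', ← Polynomial.eval₂_map, hr]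
      apply Polynomial.scaleRoots_eval₂_eq_zero
      rw [Polynomial.eval₂_map]
      exact hqz
    have hint : IsIntegral P.O (algebraMap K' K'' u * z) := isIntegral_trans (A := C) _ hC
    have hA := (hadj _).1 (H ▸ (int2 _).2 hint) j
    rw [cd_algebraMap_mul] at hA
    have hQle := (FF.isIntegral_iff_forall_place hK.1 P _).1
      ((int1 _).1 (adjoin_le_integralClosure (F := k') _ hTk1 hA)) Q hQ
    rw [map_mul, huQ, one_mul] at hQle
    exact (FF.mem_O Q).2 hQle
  · rintro ⟨H1, H2⟩
    refine le_antisymm (fun z hz => ?_) (adjoin_le_integralClosure (k := k) (F := k'') _ hTk2)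
    rw [hadj]
    intro j
    have hzO := (int2 z).1 hz
    show cd h2 z j ∈ A
    rw [show A = _ from H1.symm]
    refine (int1 _).2 ((FF.isIntegral_iff_forall_place hK.1 P _).2 fun Q hQ => ?_)
    have hzQ : z ∈ integralClosure (Q.O.toSubring.map (algebraMap K' K'')) K'' := by
      refine (isIntegral_subringMap_iff (algebraMap K' K'') Q.O.toSubring z).2 ?_
      obtain ⟨q, hq, hqz⟩ := hzO
      refine ⟨q.map (FF.ringMap hQ), hq.map _, ?_⟩
      rw [Polynomial.eval₂_map]
      convert hqz using 2
      refine RingHom.ext fun o => ?_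
      show algebraMap K' K'' (algebraMap K K' (o : K)) = algebraMap K K'' (o : K)
      rw [← IsScalarTower.algebraMap_apply K K' K'']
    rw [H2 Q hQ] at hzQ
    exact (FF.mem_O Q).1 ((mem_adjoin_map_iff h2 (SQ Q) z).1 hzQ j)

end Tower

end Groth.Agent.CommAlg4.ConstExt
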