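import Groth.Agent.CommAlg4.ConstExtIntegral
import Mathlib.FieldTheory.PurelyInseparable.Tower
import Mathlib.FieldTheory.SeparableClosure

/-! Constant field extensions of function fields: uniqueness of the place above in the purely inseparable cases. -/

set_option autoImplicit false
set_option backward.isDefEq.respectTransparency false

open FunFld WithZero TensorProduct
open scoped Classical

namespace Groth.Agent.CommAlg4.ConstExt

universe u v
variable {k k' : Type u} {K K' : Type v} [Field k] [Field k'] [Field K] [Field K']
  [Algebra k k'] [FiniteDimensional k k'] [Algebra k K] [Algebra K K'] [Algebra k' K'] [Algebra k K']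
  [IsScalarTower k k' K'] [IsScalarTower k K K']

theorem pow_mem_sepPart (h : Function.Bijective (Algebra.TensorProduct.productMap
    (IsScalarTower.toAlgHom k k' K') (IsScalarTower.toAlgHom k K K'))) (q : ℕ) [ExpChar k q]
    (z : K') : ∃ (n : ℕ) (t : separableClosure k k' ⊗[k] K), z ^ q ^ n =
      Algebra.TensorProduct.productMap ((IsScalarTower.toAlgHom k k' K').comp (separableClosure k k').val)
        (IsScalarTower.toAlgHom k K K') t := by
  haveI : ExpChar K' q := expChar_of_injective_algebraMap (algebraMap k K').injective q
  haveI : ExpChar (separableClosure k k') q :=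
    expChar_of_injective_algebraMap (algebraMap k (separableClosure k k')).injective q
  obtain ⟨t, rfl⟩ := h.2 z
  set Ψ := Algebra.TensorProduct.productMap ((IsScalarTower.toAlgHom k k' K').comp (separableClosure k k').val)
        (IsScalarTower.toAlgHom k K K') with hΨ
  induction t using TensorProduct.induction_on with
  | zero => exact ⟨0, 0, by simp⟩
  | tmul c a =>
    obtain ⟨n, d, hd⟩ := IsPurelyInseparable.pow_mem (separableClosure k k') q c
    refine ⟨n, d ⊗ₜ (a ^ q ^ n), ?_⟩
    simp only [hΨ, Algebra.TensorProduct.productMap_apply_tmul, AlgHom.comp_apply, mul_pow, ← map_pow, ← hd]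
    rfl
  | add x y hx hy =>
    obtain ⟨n, s, hs⟩ := hx
    obtain ⟨m, r, hr⟩ := hy
    refine ⟨n + m, s ^ q ^ m + r ^ q ^ n, ?_⟩
    rw [map_add, add_pow_expChar_pow, map_add, map_pow, map_pow, ← hs, ← hr, ← pow_mul, ← pow_mul,
      ← pow_add, ← pow_add, add_comm m n]

theorem val_sepPart_le_one_iff (hK : FunFld.IsFunctionField k K) (P : Place k K)
    (hpi : IsPurelyInseparable k k' ∨ IsPurelyInseparable k (IsLocalRing.ResidueField P.O))
    [FiniteDimensional K K'] (Q Q' : Place k K') (hQ : IsOver Q P) (hQ' : IsOver Q' P)
    (t : separableClosure k k' ⊗[k] K)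
    (hle : Q.1 (Algebra.TensorProduct.productMap ((IsScalarTower.toAlgHom k k' K').comp (separableClosure k k').val)
        (IsScalarTower.toAlgHom k K K') t) ≤ 1) :
    Q'.1 (Algebra.TensorProduct.productMap ((IsScalarTower.toAlgHom k k' K').comp (separableClosure k k').val)
        (IsScalarTower.toAlgHom k K K') t) ≤ 1 := by
  set Ψ := Algebra.TensorProduct.productMap ((IsScalarTower.toAlgHom k k' K').comp (separableClosure k k').val)
        (IsScalarTower.toAlgHom k K K') with hΨ
  rcases hpi with hA | hB
  · obtain ⟨a, ha⟩ : ∃ a, Ψ t = algebraMap K K' a := by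
      clear hle
      induction t using TensorProduct.induction_on with
      | zero => exact ⟨0, by simp⟩
      | tmul c a =>
        obtain ⟨d, hd⟩ := IsPurelyInseparable.inseparable k (c : k') (mem_separableClosure_iff.1 c.2)
        refine ⟨algebraMap k K d * a, ?_⟩
        simp only [hΨ, Algebra.TensorProduct.productMap_apply_tmul, AlgHom.comp_apply, IsScalarTower.coe_toAlgHom']
        rw [map_mul, ← IsScalarTower.algebraMap_apply k K K']
        show algebraMap k' K' (c : k') * _ = _
        rw [← hd, ← IsScalarTower.algebraMap_apply k k' K']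
      | add x y hx hy =>
        obtain ⟨a, ha⟩ := hx
        obtain ⟨b, hb⟩ := hy
        exact ⟨a + b, by rw [map_add, ha, hb, map_add]⟩
    rw [ha] at hle ⊢
    exact (FF.ow_le_one_iff (FF.isOverWith_ramIdx hQ') a).2 ((FF.ow_le_one_iff (FF.isOverWith_ramIdx hQ) a).1 hle)
  · let b := Module.finBasis k (separableClosure k k')
    let a := TensorProduct.equivFinsuppOfBasisLeft b (N := K) t
    let c : Fin (Module.finrank k (separableClosure k k')) → K' := fun i => algebraMap k' K' (b i : k')
    have hsum : Ψ t = ∑ i, c i * algebraMap K K' (a i) := by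
      have e : t = ∑ i, b i ⊗ₜ[k] a i := by
        apply (TensorProduct.equivFinsuppOfBasisLeft b (N := K)).injective
        ext j
        simp [a, Finsupp.single_apply]
      conv_lhs => rw [e]
      simp [hΨ, c]
    by_cases ha0 : ∀ i, a i = 0
    · rw [hsum]; simp [ha0]
    push Not at ha0
    obtain ⟨i1, hi1⟩ := ha0
    obtain ⟨i0, -, hi0⟩ := Finset.exists_max_image Finset.univ (fun i => P.1 (a i)) ⟨i1, Finset.mem_univ _⟩
    have hne : a i0 ≠ 0 := fun hh => hi1 ((Valuation.zero_iff P.1).1 (le_antisymm
      ((hi0 i1 (Finset.mem_univ _)).trans (by rw [hh, map_zero])) zero_le))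
    let o : Fin (Module.finrank k (separableClosure k k')) → P.O := fun i => ⟨a i / a i0, (FF.mem_O P).2 (by
      rw [map_div₀]; exact div_le_one_of_le₀ (hi0 i (Finset.mem_univ _)) zero_le)⟩
    set y := ∑ i, c i * algebraMap K K' (o i : K) with hy
    have key : ∀ R : Place k K', IsOver R P → R.1 y = 1 := by
      intro R hR
      have hc : ∀ i, R.1 (c i) ≤ 1 := fun i => by
        have hint : IsIntegral R.O (c i) :=
          (IsIntegral.of_finite k (b i : k')).map_of_comp_eq (algebraMap k R.O) (algebraMap k' K') (by
            ext x
            simp only [RingHom.comp_apply]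
            rw [← IsScalarTower.algebraMap_apply k k' K']
            rfl)
        obtain ⟨d, hd⟩ := IsIntegrallyClosed.isIntegral_iff.mp hint
        exact hd ▸ (FF.mem_O R).mp d.2
      let cO : Fin (Module.finrank k (separableClosure k k')) → R.O := fun i => ⟨c i, (FF.mem_O R).2 (hc i)⟩
      let yO : R.O := ∑ i, cO i * FF.ringMap hR (o i)
      have hyO : (yO : K') = y := by
        simp [yO, hy, cO]
        rfl
      let κ := IsLocalRing.ResidueField P.O
      let κR := IsLocalRing.ResidueField R.O
      letI : Algebra κ κR := (FF.resMap hR).toAlgebra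
      haveI : IsScalarTower k κ κR := IsScalarTower.of_algebraMap_eq fun x => by
        show IsLocalRing.residue R.O (algebraMap k R.O x) = IsLocalRing.residue R.O (FF.ringMap hR (algebraMap k P.O x))
        congr 1
        exact Subtype.ext (IsScalarTower.algebraMap_apply k K K' x)
      let g : (separableClosure k k') →ₐ[k] κR :=
        { toFun := fun z => IsLocalRing.residue R.O ⟨algebraMap k' K' (z : k'), (FF.mem_O R).2 (by
            have hint : IsIntegral R.O (algebraMap k' K' (z : k')) :=
              (IsIntegral.of_finite k (z : k')).map_of_comp_eq (algebraMap k R.O) (algebraMap k' K') (by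
                ext x
                simp only [RingHom.comp_apply]
                rw [← IsScalarTower.algebraMap_apply k k' K']
                rfl)
            obtain ⟨d, hd⟩ := IsIntegrallyClosed.isIntegral_iff.mp hint
            exact hd ▸ (FF.mem_O R).mp d.2)⟩
          map_one' := by rw [← map_one (IsLocalRing.residue R.O)]; congr 1; exact Subtype.ext (by simp)
          map_mul' := fun z w => by rw [← map_mul]; congr 1; exact Subtype.ext (by simp)
          map_zero' := by rw [← map_zero (IsLocalRing.residue R.O)]; congr 1; exact Subtype.ext (by simp)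
          map_add' := fun z w => by rw [← map_add]; congr 1; exact Subtype.ext (by simp)
          commutes' := fun x => by
            show IsLocalRing.residue R.O _ = IsLocalRing.residue R.O (algebraMap k R.O x)
            congr 1
            exact Subtype.ext (IsScalarTower.algebraMap_apply k k' K' x).symm }
      have hli : LinearIndependent κ (fun i => g (b i)) := by
        refine LinearIndependent.map_of_isPurelyInseparable_of_isSeparable κ (fun i => ?_)
          (b.linearIndependent.map' g.toLinearMap (LinearMap.ker_eq_bot.2 g.toRingHom.injective))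
        exact IsSeparable.map g g.toRingHom.injective (Algebra.IsSeparable.isSeparable k (b i))
      have hres : IsLocalRing.residue R.O yO ≠ 0 := by
        intro hzero
        have hsum' : ∑ i, IsLocalRing.residue P.O (o i) • g (b i) = 0 := by
          rw [← hzero, map_sum]
          refine Finset.sum_congr rfl fun i _ => ?_
          rw [Algebra.smul_def, map_mul, mul_comm]
          rfl
        have h1 := Fintype.linearIndependent_iff.1 hli _ hsum' i0
        have h2 : o i0 = 1 := Subtype.ext (div_self hne)
        rw [h2, map_one] at h1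
        exact one_ne_zero h1
      rw [← hyO]
      refine le_antisymm ((FF.mem_O R).1 yO.2) (not_lt.1 fun hlt => hres ((FF.residue_eq_zero_iff R).2 hlt))
    have hw : Ψ t = algebraMap K K' (a i0) * y := by
      rw [hsum, hy, Finset.mul_sum]
      refine Finset.sum_congr rfl fun i _ => ?_
      show _ = algebraMap K K' (a i0) * (c i * algebraMap K K' (a i / a i0))
      rw [mul_left_comm, ← map_mul, mul_div_cancel₀ _ hne]
    rw [hw, map_mul, key Q hQ, mul_one] at hle
    rw [hw, map_mul, key Q' hQ', mul_one]
    exact (FF.ow_le_one_iff (FF.isOverWith_ramIdx hQ') _).2 ((FF.ow_le_one_iff (FF.isOverWith_ramIdx hQ) _).1 hle)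

theorem existsUnique_over (h : Function.Bijective (Algebra.TensorProduct.productMap
    (IsScalarTower.toAlgHom k k' K') (IsScalarTower.toAlgHom k K K')))
    (hK : FunFld.IsFunctionField k K) (P : Place k K)
    (hpi : IsPurelyInseparable k k' ∨ IsPurelyInseparable k (IsLocalRing.ResidueField P.O)) :
    ∃! Q : Place k K', IsOver Q P := by
  haveI := finiteDimensional h
  obtain ⟨Q, hQ⟩ := FF.exists_over (K' := K') hK.1 P
  refine ⟨Q, hQ, fun Q' hQ' => (FF.eq_of_le fun z hz => ?_).symm⟩
  obtain ⟨q, _⟩ := ExpChar.exists k
  obtain ⟨n, t, hn⟩ := pow_mem_sepPart h q z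
  have hq : q ^ n ≠ 0 := pow_ne_zero _ (expChar_pos k q).ne'
  have h1 : Q.1 (z ^ q ^ n) ≤ 1 := by rw [map_pow]; exact pow_le_one₀ zero_le hz
  rw [hn] at h1
  have h2 := val_sepPart_le_one_iff hK P hpi Q Q' hQ hQ' t h1
  rw [← hn, map_pow] at h2
  exact (pow_le_one_iff hq).1 h2

end Groth.Agent.CommAlg4.ConstExt
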