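import Mathlib
import Groth.Agent.CAlgH3.RegularLocal

/-!
Local homomorphisms and their cotangent maps: a formally smooth one has injective cotangent map,
and an injective cotangent map into a regular local ring forces injectivity from a domain.
-/

set_option autoImplicit false
set_option backward.isDefEq.respectTransparency.types false
universe u

open IsLocalRing

namespace Groth.Agent.CommAlg4.CotInjective

theorem mem_sq_of_formallySmooth (R S : Type u) [CommRing R] [CommRing S] [IsLocalRing R] [IsLocalRing S]
    (φ : R →+* S) [IsLocalHom φ] (hφ : φ.FormallySmooth)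
    (hres : ∀ s : S, ∃ r : R, φ r - s ∈ maximalIdeal S)
    (a : R) (ha : φ a ∈ maximalIdeal S ^ 2) : a ∈ maximalIdeal R ^ 2 := by
  letI : Algebra R S := φ.toAlgebra
  haveI : Algebra.FormallySmooth R S := hφ
  choose r hr using hres
  have hker : ∀ (s : S) (t : R), φ t - s ∈ maximalIdeal S → r s - t ∈ maximalIdeal R := by
    intro s t ht
    by_contra h
    have h1 := (notMem_maximalIdeal.1 h).map φ
    refine notMem_maximalIdeal.2 h1 ?_
    rw [map_sub]
    simpa using sub_mem (hr s) ht
  let q : S →ₐ[R] R ⧸ maximalIdeal R :=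
    { toFun := fun s => Ideal.Quotient.mk _ (r s)
      map_one' := Ideal.Quotient.eq.2 (hker 1 1 (by simp))
      map_zero' := Ideal.Quotient.eq.2 (hker 0 0 (by simp))
      map_mul' := fun x y => by
        rw [← map_mul, Ideal.Quotient.eq]
        refine hker _ _ ?_
        rw [map_mul, show φ (r x) * φ (r y) - x * y = (φ (r x) - x) * φ (r y) + x * (φ (r y) - y) by ring]
        exact add_mem (Ideal.mul_mem_right _ _ (hr x)) (Ideal.mul_mem_left _ _ (hr y))
      map_add' := fun x y => by
        rw [← map_add, Ideal.Quotient.eq]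
        refine hker _ _ ?_
        rw [map_add, add_sub_add_comm]
        exact add_mem (hr x) (hr y)
      commutes' := fun t => Ideal.Quotient.eq.2 (hker _ t (by
        show φ t - algebraMap R S t ∈ _
        rw [RingHom.algebraMap_toAlgebra, sub_self]
        exact zero_mem _)) }
  let g : (R ⧸ maximalIdeal R ^ 2) →ₐ[R] R ⧸ maximalIdeal R :=
    Ideal.Quotient.factorₐ R (Ideal.pow_le_self two_ne_zero)
  have hg : Function.Surjective g := Ideal.Quotient.factor_surjective (Ideal.pow_le_self two_ne_zero)
  have hnil : IsNilpotent (RingHom.ker g.toRingHom) := by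
    refine ⟨2, ?_⟩
    rw [Submodule.zero_eq_bot]
    rw [show RingHom.ker g.toRingHom = (maximalIdeal R).map (Ideal.Quotient.mk (maximalIdeal R ^ 2)) from
      Ideal.Quotient.factor_ker (Ideal.pow_le_self two_ne_zero), ← Ideal.map_pow, Ideal.map_quotient_self]
  let l := Algebra.FormallySmooth.liftOfSurjective q g hg hnil
  have hl : ∀ s ∈ maximalIdeal S, l s ∈ (maximalIdeal R).map (Ideal.Quotient.mk (maximalIdeal R ^ 2)) := by
    intro s hs
    rw [← Ideal.Quotient.factor_ker (Ideal.pow_le_self two_ne_zero : maximalIdeal R ^ 2 ≤ maximalIdeal R),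
      RingHom.mem_ker]
    refine (Algebra.FormallySmooth.liftOfSurjective_apply q g hg hnil s).trans ?_
    show Ideal.Quotient.mk _ (r s) = 0
    rw [Ideal.Quotient.eq_zero_iff_mem]
    simpa using hker s 0 (by simpa using hs)
  have h2 : l (φ a) ∈ ((maximalIdeal R).map (Ideal.Quotient.mk (maximalIdeal R ^ 2))) ^ 2 := by
    have : φ a ∈ Ideal.comap l.toRingHom
        (((maximalIdeal R).map (Ideal.Quotient.mk (maximalIdeal R ^ 2))) ^ 2) :=
      (Ideal.pow_right_mono (fun s hs => Ideal.mem_comap.2 (hl s hs)) 2).trans
        (Ideal.le_comap_pow _ 2) ha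
    exact this
  rw [← Ideal.map_pow, Ideal.map_quotient_self, Ideal.mem_bot] at h2
  rw [← Ideal.Quotient.eq_zero_iff_mem, ← h2]
  exact (l.commutes a).symm

theorem injective_of_cotangent (R S : Type u) [CommRing R] [CommRing S] [IsDomain R] [IsLocalRing R]
    [IsNoetherianRing R] [IsRegularLocalRing S] (φ : R →+* S) [IsLocalHom φ]
    (hres : ∀ s : S, ∃ r : R, φ r - s ∈ maximalIdeal S)
    (hinj : ∀ a ∈ maximalIdeal R, φ a ∈ maximalIdeal S ^ 2 → a ∈ maximalIdeal R ^ 2) :
    Function.Injective φ := by
  classical
  haveI := CAlgH3.isDomain_of_isRegularLocalRing S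
  -- the images of a basis of the cotangent space
  let b := Module.finBasis (ResidueField R) (CotangentSpace R)
  choose a hab using fun i => (maximalIdeal R).toCotangent_surjective (b i)
  have hmem : ∀ x ∈ maximalIdeal R, φ x ∈ maximalIdeal S := fun x hx => by
    by_contra h
    exact notMem_maximalIdeal.2 ((notMem_maximalIdeal.1 h).of_map) hx
  let v : Fin (Module.finrank (ResidueField R) (CotangentSpace R)) → CotangentSpace S :=
    fun i => (maximalIdeal S).toCotangent ⟨φ (a i), hmem _ (a i).2⟩
  have hv : LinearIndependent (ResidueField S) v := by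
    rw [Fintype.linearIndependent_iff]
    intro c hc i
    choose s hs using fun j => residue_surjective (c j)
    choose r hr using fun j => hres (s j)
    have hz : (maximalIdeal S).toCotangent (∑ j, s j • ⟨φ (a j), hmem _ (a j).2⟩) = 0 := by
      rw [map_sum, ← hc]
      refine Finset.sum_congr rfl fun j _ => ?_
      rw [← hs j]
      rfl
    rw [Ideal.toCotangent_eq_zero] at hz
    have hz2 : φ (∑ j, r j * (a j : R)) ∈ maximalIdeal S ^ 2 := by
      rw [show φ (∑ j, r j * (a j : R)) =
        (∑ j, (φ (r j) - s j) * φ (a j : R)) + ∑ j, s j * φ (a j : R) from by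
          simp [map_sum, sub_mul, ← Finset.sum_add_distrib]]
      refine add_mem (sum_mem fun j _ => ?_) (by simpa using hz)
      rw [sq]
      exact Ideal.mul_mem_mul (hr j) (hmem _ (a j).2)
    have h0 := hinj _ (sum_mem fun j _ => Ideal.mul_mem_left _ _ (a j).2) hz2
    have h1 : ∑ j, residue R (r j) • b j = 0 := by
      have : (maximalIdeal R).toCotangent (∑ j, r j • a j) = 0 := by
        rw [Ideal.toCotangent_eq_zero]; simpa using h0
      rw [map_sum] at this
      rw [← this]
      refine Finset.sum_congr rfl fun j _ => ?_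
      rw [← hab j]
      rfl
    have hri := Fintype.linearIndependent_iff.1 b.linearIndependent _ h1 i
    rw [residue_eq_zero_iff] at hri
    rw [← hs i, residue_eq_zero_iff]
    simpa using sub_mem (hmem _ hri) (hr i)
  -- complete to a system of generators
  obtain ⟨W, hW⟩ := Submodule.exists_isCompl (Submodule.span (ResidueField S) (Set.range v))
  let c := Module.finBasis (ResidueField S) W
  choose d hd using fun i => (maximalIdeal S).toCotangent_surjective (c i : CotangentSpace S)
  have hdim : Module.finrank (ResidueField R) (CotangentSpace R) + Module.finrank (ResidueField S) W =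
      Module.finrank (ResidueField S) (CotangentSpace S) := by
    rw [← Submodule.finrank_add_eq_of_isCompl hW, finrank_span_eq_card hv, Fintype.card_fin]
  let I : Ideal S := (maximalIdeal R).map φ ⊔ Ideal.span (Set.range fun i => (d i : S))
  have hIm : I ≤ maximalIdeal S := sup_le (Ideal.map_le_iff_le_comap.2 hmem)
    (Ideal.span_le.2 (by rintro _ ⟨i, rfl⟩; exact (d i).2))
  have hgen : maximalIdeal S ≤ I := by
    refine Submodule.le_of_le_smul_of_le_jacobson_bot (IsNoetherian.noetherian (maximalIdeal S))
      (maximalIdeal_le_jacobson ⊥) fun x hx => ?_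
    let T : Submodule S (CotangentSpace S) :=
      (Submodule.comap (maximalIdeal S).subtype I).map (maximalIdeal S).toCotangent
    have hT : ∀ y : CotangentSpace S, y ∈ T := by
      have htop : Submodule.span (ResidueField S) (Set.range v ∪ Set.range fun i => (c i : CotangentSpace S)) = ⊤ := by
        rw [Submodule.span_union, ← hW.sup_eq_top]
        congr 1
        rw [show (Set.range fun i => (c i : CotangentSpace S)) = W.subtype '' Set.range c from by
          rw [← Set.range_comp]; rfl, ← Submodule.map_span, c.span_eq, Submodule.map_top, Submodule.range_subtype]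
      intro y
      have hy : y ∈ Submodule.span (ResidueField S) (Set.range v ∪ Set.range fun i => (c i : CotangentSpace S)) :=
        htop ▸ Submodule.mem_top
      induction hy using Submodule.span_induction with
      | mem z hz =>
        obtain ⟨i, rfl⟩ | ⟨i, rfl⟩ := hz
        · exact ⟨_, Ideal.mem_sup_left (Ideal.mem_map_of_mem φ (a i).2), rfl⟩
        · exact ⟨d i, Ideal.mem_sup_right (Ideal.subset_span ⟨i, rfl⟩), hd i⟩
      | zero => exact zero_mem _
      | add y z _ _ hy hz => exact add_mem hy hz
      | smul t y _ hy =>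
        obtain ⟨t, rfl⟩ := residue_surjective t
        exact (show residue S t • y = t • y from rfl) ▸ T.smul_mem t hy
    obtain ⟨w, hw, hwx⟩ := hT ((maximalIdeal S).toCotangent ⟨x, hx⟩)
    rw [Ideal.toCotangent_eq] at hwx
    have : (x : S) = (w : S) - ((w : S) - x) := by ring
    rw [this]
    refine sub_mem (Submodule.mem_sup_left hw) (Submodule.mem_sup_right ?_)
    rw [smul_eq_mul, ← sq]
    exact hwx
  -- dimension count
  by_contra hne
  rw [RingHom.injective_iff_ker_eq_bot] at hne
  haveI : (RingHom.ker φ).IsPrime := RingHom.ker_isPrime φ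
  obtain ⟨f, hf, hf0⟩ := Submodule.exists_mem_ne_zero_of_ne_bot hne
  let B := R ⧸ RingHom.ker φ
  haveI : IsLocalRing B := .of_surjective' (Ideal.Quotient.mk _) Ideal.Quotient.mk_surjective
  have hB : ringKrullDim B + 1 ≤ ringKrullDim R :=
    (add_le_add_left (ringKrullDim_le_of_surjective
      (Ideal.Quotient.factor (show Ideal.span {f} ≤ RingHom.ker φ by simpa [Ideal.span_le] using hf))
      (Ideal.Quotient.factor_surjective _)) 1).trans
      (ringKrullDim_quotient_succ_le_of_nonZeroDivisor (mem_nonZeroDivisors_of_ne_zero hf0))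
  letI : Algebra B S := (Ideal.Quotient.lift (RingHom.ker φ) φ fun x hx => hx).toAlgebra
  haveI : IsLocalHom (algebraMap B S) := ⟨fun x hx => by
    obtain ⟨x, rfl⟩ := Ideal.Quotient.mk_surjective x
    rw [RingHom.algebraMap_toAlgebra, Ideal.Quotient.lift_mk] at hx
    exact (IsUnit.of_map φ x hx).map _⟩
  haveI : (maximalIdeal S).LiesOver (maximalIdeal B) :=
    ⟨(IsLocalRing.maximalIdeal_comap (algebraMap B S)).symm⟩
  have hJ : (maximalIdeal B).map (algebraMap B S) = (maximalIdeal R).map φ := by
    have : maximalIdeal B = (maximalIdeal R).map (Ideal.Quotient.mk (RingHom.ker φ)) :=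
      (map_maximalIdeal_of_surjective _ Ideal.Quotient.mk_surjective).symm
    rw [this, RingHom.algebraMap_toAlgebra, Ideal.map_map, Ideal.Quotient.lift_comp_mk]
  have h1 := Ideal.height_le_height_add_of_liesOver (maximalIdeal B) (maximalIdeal S)
  rw [hJ] at h1
  haveI : Ideal.map (Ideal.Quotient.mk ((maximalIdeal R).map φ)) (maximalIdeal S) |>.IsPrime :=
    Ideal.isPrime_map_quotientMk_of_isPrime (Ideal.map_le_iff_le_comap.2 hmem)
  have h2 : ((maximalIdeal S).map (Ideal.Quotient.mk ((maximalIdeal R).map φ))).height ≤
      Module.finrank (ResidueField S) W := by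
    refine (Ideal.height_le_spanFinrank _ Ideal.IsPrime.ne_top').trans ?_
    rw [congrArg (Ideal.map (Ideal.Quotient.mk ((maximalIdeal R).map φ))) (le_antisymm hgen hIm : maximalIdeal S = I),
      Ideal.map_sup, Ideal.map_quotient_self, bot_sup_eq, Ideal.map_span]
    refine (Submodule.spanFinrank_span_le_encard _).trans ?_
    refine (Set.encard_image_le _ _).trans ?_
    rw [← Set.image_univ]
    refine (Set.encard_image_le _ _).trans ?_
    simp
  have hS : ringKrullDim S = (Module.finrank (ResidueField S) (CotangentSpace S) : WithBot ℕ∞) := by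
    rw [← spanFinrank_maximalIdeal_eq_finrank_cotangentSpace]
    exact IsRegularLocalRing.spanFinrank_maximalIdeal.symm
  have hR : ringKrullDim R ≤ (Module.finrank (ResidueField R) (CotangentSpace R) : WithBot ℕ∞) := by
    rw [← spanFinrank_maximalIdeal_eq_finrank_cotangentSpace]
    exact ringKrullDim_le_spanFinrank_maximalIdeal R
  have h3 : (Module.finrank (ResidueField S) (CotangentSpace S) : WithBot ℕ∞) ≤
      ringKrullDim B + Module.finrank (ResidueField S) W := by
    rw [← hS, ← maximalIdeal_height_eq_ringKrullDim, ← maximalIdeal_height_eq_ringKrullDim]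
    refine le_trans (b := (((maximalIdeal B).height +
      ((maximalIdeal S).map (Ideal.Quotient.mk ((maximalIdeal R).map φ))).height : ℕ∞) : WithBot ℕ∞))
      (WithBot.coe_le_coe.2 h1) ?_
    rw [WithBot.coe_add]
    refine add_le_add le_rfl ?_
    exact_mod_cast h2
  have hfin : ringKrullDim B < ⊤ := lt_of_le_of_lt ((ringKrullDim_quotient_le _).trans hR) (WithBot.coe_lt_coe.2 (ENat.natCast_lt_top _))
  obtain ⟨n, hn⟩ : ∃ n : ℕ, ringKrullDim B = n := by
    obtain ⟨x, hx⟩ := WithBot.ne_bot_iff_exists.1 (ringKrullDim_ne_bot (R := B))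
    cases x with
    | top => exact absurd hfin (by rw [← hx]; exact not_lt.2 le_top)
    | coe n => exact ⟨n, hx.symm⟩
  rw [hn] at hB h3
  have h4 := hB.trans hR
  norm_cast at h3 h4
  omega

end Groth.Agent.CommAlg4.CotInjective
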