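import Mathlib.RingTheory.Finiteness.Nakayama
import Mathlib.RingTheory.Jacobson.Semiprimary
import Mathlib.RingTheory.SimpleModule.Basic
import Mathlib.LinearAlgebra.Pi
import Mathlib.LinearAlgebra.Dimension.Constructions
import Mathlib.LinearAlgebra.FiniteDimensional.Basic
import Mathlib.RingTheory.Artinian.Module

/-!
# A finite-dimensional module whose power is a free module of the same rank is cyclic
-/

set_option autoImplicit false
universe u v w w'

namespace Groth.Agent.CommAlg4.CyclicPow

variable {k : Type u} [Field k] {A : Type v} [Ring A] [Algebra k A] [FiniteDimensional k A]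

theorem finrank_hom_congr {M : Type w} {N : Type w'} {T : Type v} [AddCommGroup M] [Module A M]
    [AddCommGroup N] [Module A N] [AddCommGroup T] [Module A T] [Module k T] [IsScalarTower k A T]
    (e : M ≃ₗ[A] N) : Module.finrank k (M →ₗ[A] T) = Module.finrank k (N →ₗ[A] T) :=
  (e.congrLeft T k).finrank_eq

theorem finrank_hom_prod {S : Type w} {M : Type w'} {T : Type v} [AddCommGroup M] [Module A M]
    [Module k M] [IsScalarTower k A M] [FiniteDimensional k M] [AddCommGroup S] [Module A S]
    [Module k S] [IsScalarTower k A S] [FiniteDimensional k S] [AddCommGroup T] [Module A T] [Module k T]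
    [IsScalarTower k A T] [FiniteDimensional k T] :
    Module.finrank k (S × M →ₗ[A] T) = Module.finrank k (S →ₗ[A] T) + Module.finrank k (M →ₗ[A] T) := by
  haveI : FiniteDimensional k (S →ₗ[A] T) :=
    Module.Finite.of_injective (LinearMap.restrictScalarsₗ k A S T k) (LinearMap.restrictScalars_injective k)
  haveI : FiniteDimensional k (M →ₗ[A] T) :=
    Module.Finite.of_injective (LinearMap.restrictScalarsₗ k A M T k) (LinearMap.restrictScalars_injective k)
  rw [← Module.finrank_prod]
  exact (LinearMap.coprodEquiv (R := A) (M := S) (M₂ := M) (M₃ := T) (S := k)).finrank_eq.symm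

/-- semisimple modules are determined by the dimensions of the homomorphisms into simple modules -/
theorem nonempty_equiv : ∀ (n : ℕ) {M : Type w} {N : Type w'} [AddCommGroup M] [Module A M] [Module k M]
    [IsScalarTower k A M] [FiniteDimensional k M] [AddCommGroup N] [Module A N] [Module k N]
    [IsScalarTower k A N] [FiniteDimensional k N] [IsSemisimpleModule A M] [IsSemisimpleModule A N],
    Module.finrank k M + Module.finrank k N = n →
    (∀ I : Submodule A A, IsSimpleModule A (A ⧸ I) →
      Module.finrank k (M →ₗ[A] A ⧸ I) = Module.finrank k (N →ₗ[A] A ⧸ I)) →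
    Nonempty (M ≃ₗ[A] N) := by
  intro n
  induction n using Nat.strong_induction_on with
  | _ n ih =>
    intro M N _ _ _ _ _ _ _ _ _ _ _ _ hn hH
    -- every simple quotient of either module splits off from both
    have split : ∀ (I : Submodule A A), IsSimpleModule A (A ⧸ I) → ∀ f : M →ₗ[A] A ⧸ I, f ≠ 0 →
        ∀ g : N →ₗ[A] A ⧸ I, g ≠ 0 → Nonempty (M ≃ₗ[A] N) := by
      intro I hI f hf g hg
      obtain ⟨M', hM'⟩ := exists_isCompl (LinearMap.ker f)
      obtain ⟨N', hN'⟩ := exists_isCompl (LinearMap.ker g)
      let eM : M ≃ₗ[A] (A ⧸ I) × LinearMap.ker f :=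
        ((Submodule.prodEquivOfIsCompl _ _ hM').symm.trans (LinearEquiv.prodComm A _ _)).trans
          (((Submodule.quotientEquivOfIsCompl _ _ hM').symm.trans
            (f.quotKerEquivOfSurjective (LinearMap.surjective_of_ne_zero hf))).prodCongr (LinearEquiv.refl A _))
      let eN : N ≃ₗ[A] (A ⧸ I) × LinearMap.ker g :=
        ((Submodule.prodEquivOfIsCompl _ _ hN').symm.trans (LinearEquiv.prodComm A _ _)).trans
          (((Submodule.quotientEquivOfIsCompl _ _ hN').symm.trans
            (g.quotKerEquivOfSurjective (LinearMap.surjective_of_ne_zero hg))).prodCongr (LinearEquiv.refl A _))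
      haveI : Nontrivial (A ⧸ I) := IsSimpleModule.nontrivial A _
      haveI : FiniteDimensional k (LinearMap.ker f) :=
        Module.Finite.of_injective ((LinearMap.ker f).subtype.restrictScalars k) Subtype.val_injective
      haveI : FiniteDimensional k (LinearMap.ker g) :=
        Module.Finite.of_injective ((LinearMap.ker g).subtype.restrictScalars k) Subtype.val_injective
      have d1 := (eM.restrictScalars k).finrank_eq
      have d2 := (eN.restrictScalars k).finrank_eq
      rw [Module.finrank_prod] at d1 d2
      have hpos : 0 < Module.finrank k (A ⧸ I) := Module.finrank_pos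
      obtain ⟨e⟩ := ih (Module.finrank k (LinearMap.ker f) + Module.finrank k (LinearMap.ker g)) (by omega)
        (M := LinearMap.ker f) (N := LinearMap.ker g) rfl (fun J hJ => by
          have h := hH J hJ
          rw [finrank_hom_congr eM, finrank_hom_congr eN, finrank_hom_prod, finrank_hom_prod] at h
          omega)
      exact ⟨eM.trans (((LinearEquiv.refl A _).prodCongr e).trans eN.symm)⟩
    rcases subsingleton_or_nontrivial M with hM | hM
    · rcases subsingleton_or_nontrivial N with hN | hN
      · exact ⟨LinearEquiv.ofSubsingleton M N⟩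
      obtain ⟨S, hS⟩ := IsSemisimpleModule.exists_simple_submodule A N
      obtain ⟨S', hS'⟩ := exists_isCompl S
      haveI := IsSimpleModule.nontrivial A S
      obtain ⟨⟨s, hs⟩, hs0⟩ := exists_ne (0 : S)
      let q : A →ₗ[A] S := LinearMap.toSpanSingleton A S ⟨s, hs⟩
      have hq : q ≠ 0 := fun h => hs0 (by simpa [q] using LinearMap.congr_fun h 1)
      let eS := q.quotKerEquivOfSurjective (LinearMap.surjective_of_ne_zero hq)
      haveI : IsSimpleModule A (A ⧸ LinearMap.ker q) := IsSimpleModule.congr eS
      let g : N →ₗ[A] A ⧸ LinearMap.ker q := eS.symm.toLinearMap ∘ₗ Submodule.projectionOnto S S' hS'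
      have hg : g ≠ 0 := fun h => hs0 (eS.symm.injective (by
        have := LinearMap.congr_fun h s
        simpa [g, Submodule.projectionOnto_apply_left hS' ⟨s, hs⟩] using this))
      have h := hH (LinearMap.ker q) inferInstance
      haveI : Subsingleton (M →ₗ[A] A ⧸ LinearMap.ker q) :=
        ⟨fun a b => LinearMap.ext fun x => by rw [Subsingleton.elim x 0, map_zero, map_zero]⟩
      haveI : FiniteDimensional k (N →ₗ[A] A ⧸ LinearMap.ker q) :=
        Module.Finite.of_injective (LinearMap.restrictScalarsₗ k A N _ k) (LinearMap.restrictScalars_injective k)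
      rw [Module.finrank_zero_of_subsingleton] at h
      exact absurd (Subsingleton.elim (h := Module.finrank_zero_iff.1 h.symm) g 0) hg
    · obtain ⟨S, hS⟩ := IsSemisimpleModule.exists_simple_submodule A M
      obtain ⟨S', hS'⟩ := exists_isCompl S
      haveI := IsSimpleModule.nontrivial A S
      obtain ⟨⟨s, hs⟩, hs0⟩ := exists_ne (0 : S)
      let q : A →ₗ[A] S := LinearMap.toSpanSingleton A S ⟨s, hs⟩
      have hq : q ≠ 0 := fun h => hs0 (by simpa [q] using LinearMap.congr_fun h 1)
      let eS := q.quotKerEquivOfSurjective (LinearMap.surjective_of_ne_zero hq)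
      haveI : IsSimpleModule A (A ⧸ LinearMap.ker q) := IsSimpleModule.congr eS
      let f : M →ₗ[A] A ⧸ LinearMap.ker q := eS.symm.toLinearMap ∘ₗ Submodule.projectionOnto S S' hS'
      have hf : f ≠ 0 := fun h => hs0 (eS.symm.injective (by
        have := LinearMap.congr_fun h s
        simpa [f, Submodule.projectionOnto_apply_left hS' ⟨s, hs⟩] using this))
      have h := hH (LinearMap.ker q) inferInstance
      haveI : FiniteDimensional k (M →ₗ[A] A ⧸ LinearMap.ker q) :=
        Module.Finite.of_injective (LinearMap.restrictScalarsₗ k A M _ k) (LinearMap.restrictScalars_injective k)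
      haveI : Nontrivial (M →ₗ[A] A ⧸ LinearMap.ker q) := ⟨⟨f, 0, hf⟩⟩
      haveI : Nontrivial (N →ₗ[A] A ⧸ LinearMap.ker q) :=
        Module.nontrivial_of_finrank_pos (R := k) (h ▸ Module.finrank_pos)
      obtain ⟨g, hg⟩ := exists_ne (0 : N →ₗ[A] A ⧸ LinearMap.ker q)
      exact split _ inferInstance f hf g hg

/-- If `M ^ d ≅ A ^ d` then `M` is cyclic. -/
theorem exists_generator {M : Type w} [AddCommGroup M] [Module A M] [Module k M] [IsScalarTower k A M]
    [FiniteDimensional k M] {d : ℕ} (hd : d ≠ 0) (e : (Fin d → M) ≃ₗ[A] (Fin d → A)) :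
    ∃ x : M, Submodule.span A {x} = ⊤ := by
  haveI : IsArtinian A M := isArtinian_of_tower k inferInstance
  haveI : IsArtinian A A := isArtinian_of_tower k inferInstance
  haveI : IsNoetherian A M := isNoetherian_of_tower k inferInstance
  haveI : IsSemisimpleModule A (M ⧸ Module.jacobson A M) :=
    (IsArtinian.isSemisimpleModule_iff_jacobson A _).2 (Module.jacobson_quotient_jacobson A M)
  haveI : IsSemisimpleModule A (A ⧸ Module.jacobson A A) :=
    (IsArtinian.isSemisimpleModule_iff_jacobson A _).2 (Module.jacobson_quotient_jacobson A A)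
  have hM : ∀ I : Submodule A A, IsSimpleModule A (A ⧸ I) →
      Module.finrank k (M ⧸ Module.jacobson A M →ₗ[A] A ⧸ I) = Module.finrank k (M →ₗ[A] A ⧸ I) := by
    intro I hI
    refine (LinearEquiv.ofBijective (LinearMap.lcomp k (A ⧸ I) (Module.jacobson A M).mkQ) ⟨fun a b hab => ?_, fun f => ?_⟩).finrank_eq
    · exact Submodule.linearMap_qext _ hab
    · have hle : Module.jacobson A M ≤ LinearMap.ker f := by
        refine (Module.le_comap_jacobson f).trans ?_
        rw [IsSemisimpleModule.jacobson_eq_bot A (A ⧸ I)]
        exact le_of_eq rfl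
      exact ⟨(Module.jacobson A M).liftQ f hle, Submodule.liftQ_mkQ _ f hle⟩
  have hA : ∀ I : Submodule A A, IsSimpleModule A (A ⧸ I) →
      Module.finrank k (A ⧸ Module.jacobson A A →ₗ[A] A ⧸ I) = Module.finrank k (A →ₗ[A] A ⧸ I) := by
    intro I hI
    refine (LinearEquiv.ofBijective (LinearMap.lcomp k (A ⧸ I) (Module.jacobson A A).mkQ) ⟨fun a b hab => ?_, fun f => ?_⟩).finrank_eq
    · exact Submodule.linearMap_qext _ hab
    · have hle : Module.jacobson A A ≤ LinearMap.ker f := by
        refine (Module.le_comap_jacobson f).trans ?_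
        rw [IsSemisimpleModule.jacobson_eq_bot A (A ⧸ I)]
        exact le_of_eq rfl
      exact ⟨(Module.jacobson A A).liftQ f hle, Submodule.liftQ_mkQ _ f hle⟩
  obtain ⟨ε⟩ := nonempty_equiv (k := k) _ (M := M ⧸ Module.jacobson A M) (N := A ⧸ Module.jacobson A A) rfl
    fun I hI => by
      rw [hM I hI, hA I hI]
      haveI : FiniteDimensional k (M →ₗ[A] A ⧸ I) :=
        Module.Finite.of_injective (LinearMap.restrictScalarsₗ k A M _ k) (LinearMap.restrictScalars_injective k)
      haveI : FiniteDimensional k (A →ₗ[A] A ⧸ I) :=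
        Module.Finite.of_injective (LinearMap.restrictScalarsₗ k A A _ k) (LinearMap.restrictScalars_injective k)
      haveI : Module.Free k (M →ₗ[A] A ⧸ I) := Module.Free.of_divisionRing k _
      haveI : Module.Free k (A →ₗ[A] A ⧸ I) := Module.Free.of_divisionRing k _
      have h := finrank_hom_congr (k := k) (T := A ⧸ I) e
      rw [← (LinearMap.lsum A (fun _ : Fin d => M) k (M := A ⧸ I)).finrank_eq,
        ← (LinearMap.lsum A (fun _ : Fin d => A) k (M := A ⧸ I)).finrank_eq,
        Module.finrank_pi_fintype, Module.finrank_pi_fintype] at h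
      simpa [hd] using h
  obtain ⟨x, hx⟩ := Submodule.mkQ_surjective _ (ε.symm (Submodule.Quotient.mk 1))
  refine ⟨x, ?_⟩
  by_contra hne
  obtain ⟨C, hC, hle⟩ := (eq_top_or_exists_le_coatom _).resolve_left hne
  refine hC.1 (eq_top_iff.2 fun m _ => ?_)
  obtain ⟨a, ha⟩ := Submodule.mkQ_surjective _ (ε ((Module.jacobson A M).mkQ m))
  have h1 : (Module.jacobson A M).mkQ m = (Module.jacobson A M).mkQ (a • x) := by
    rw [map_smul, hx, ← map_smul, ← ε.symm_apply_apply ((Module.jacobson A M).mkQ m), ← ha]
    congr 1
    rw [Submodule.mkQ_apply, ← Submodule.Quotient.mk_smul, smul_eq_mul, mul_one]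
  have h2 : m - a • x ∈ C := (sInf_le hC : Module.jacobson A M ≤ C) ((Submodule.Quotient.eq _).1 h1)
  have h3 : a • x ∈ C := C.smul_mem a (hle (Submodule.mem_span_singleton_self x))
  simpa using C.add_mem h2 h3

end Groth.Agent.CommAlg4.CyclicPow
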