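import Mathlib

/-!
# Universal divided power rings

A quotient of a ring `F` on which formal divided power operations on generators become a divided
power structure, universal among the given tests.
-/

set_option autoImplicit false
set_option linter.all false

universe u v

open Finset

namespace Groth.Agent.CommAlg4.DP

variable {F : Type u} [CommRing F]
  (G : Set F) (T : ∀ (C : Type u) [CommRing C] (K : Ideal C), DividedPowers K → (F →+* C) → Prop)

/-- `v` represents the `n`th divided power of `u` for all tests. -/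
def Reps (n : ℕ) (u v : F) : Prop :=
  ∀ (C : Type u) [CommRing C] (K : Ideal C) (δ : DividedPowers K) (π : F →+* C),
    T C K δ π → π v = δ.dpow n (π u)

/-- Elements killed by all tests. -/
def testKer : Ideal F where
  carrier := {f | ∀ (C : Type u) [CommRing C] (K : Ideal C) (δ : DividedPowers K) (π : F →+* C), T C K δ π → π f = 0}
  zero_mem' := fun C _ K δ π _ => map_zero π
  add_mem' := fun {a b} ha hb C _ K δ π hT => by rw [map_add, ha C K δ π hT, hb C K δ π hT, add_zero]
  smul_mem' := fun c a ha C _ K δ π hT => by rw [smul_eq_mul, map_mul, ha C K δ π hT, mul_zero]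

theorem exists_universal
    (hG : ∀ (C : Type u) [CommRing C] (K : Ideal C) (δ : DividedPowers K) (π : F →+* C),
      T C K δ π → ∀ g ∈ G, π g ∈ K)
    (hop : ∀ g ∈ G, ∀ n : ℕ, ∃ h, (n ≠ 0 → h ∈ Ideal.span G) ∧ Reps T n g h) :
    ∃ (D : Type u) (_ : CommRing D) (q : F →+* D) (JD : Ideal D) (δD : DividedPowers JD),
      Function.Surjective q ∧ JD = (Ideal.span G).map q ∧
      (∀ u v, (∀ (C : Type u) [CommRing C] (K : Ideal C) (δ : DividedPowers K) (π : F →+* C),
        T C K δ π → π u = π v) → q u = q v) ∧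
      (∀ n u v, q u ∈ JD → Reps T n u v → δD.dpow n (q u) = q v) ∧
      ∀ (C : Type u) [CommRing C] (K : Ideal C) (δ : DividedPowers K) (π : F →+* C), T C K δ π →
        ∃ χ : D →+* C, χ.comp q = π ∧ δD.IsDPMorphism δ χ := by
  classical
  let q := Ideal.Quotient.mk (testKer T)
  have hq : Function.Surjective q := Ideal.Quotient.mk_surjective
  have qeq : ∀ u v, q u = q v ↔
      ∀ (C : Type u) [CommRing C] (K : Ideal C) (δ : DividedPowers K) (π : F →+* C), T C K δ π → π u = π v := by
    intro u v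
    rw [Ideal.Quotient.eq]
    exact ⟨fun h C _ K δ π hT => sub_eq_zero.mp (by rw [← map_sub]; exact h C K δ π hT),
      fun h C _ K δ π hT => by rw [map_sub, h C K δ π hT, sub_self]⟩
  have hmemK : ∀ u ∈ Ideal.span G, ∀ (C : Type u) [CommRing C] (K : Ideal C) (δ : DividedPowers K)
      (π : F →+* C), T C K δ π → π u ∈ K := by
    intro u hu C _ K δ π hT
    exact (Ideal.span_le.mpr (fun g hg => hG C K δ π hT g hg) : Ideal.span G ≤ K.comap π) hu
  have hall : ∀ u ∈ Ideal.span G, ∀ n : ℕ, ∃ h, (n ≠ 0 → h ∈ Ideal.span G) ∧ Reps T n u h := by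
    intro u hu
    refine (Submodule.span_induction (p := fun u _ => u ∈ Ideal.span G ∧ ∀ n : ℕ, ∃ h, (n ≠ 0 → h ∈ Ideal.span G) ∧ Reps T n u h)
      ?_ ?_ ?_ ?_ hu).2
    · exact fun g hg => ⟨Ideal.subset_span hg, hop g hg⟩
    · refine ⟨Submodule.zero_mem _, fun n => ?_⟩
      rcases Nat.eq_zero_or_pos n with rfl | hn
      · exact ⟨1, fun h => absurd rfl h, fun C _ K δ π _ => by rw [map_one, map_zero, δ.dpow_zero K.zero_mem]⟩
      · exact ⟨0, fun _ => Submodule.zero_mem _, fun C _ K δ π _ => by rw [map_zero, δ.dpow_eval_zero hn.ne']⟩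
    · rintro a b _ _ ⟨ha, ha'⟩ ⟨hb, hb'⟩
      refine ⟨Submodule.add_mem _ ha hb, fun n => ?_⟩
      choose A hA hA' using ha'
      choose B hB hB' using hb'
      refine ⟨∑ k ∈ HasAntidiagonal.antidiagonal n, A k.1 * B k.2, fun hn => ?_, fun C _ K δ π hT => ?_⟩
      · refine Submodule.sum_mem _ fun k hk => ?_
        rw [HasAntidiagonal.mem_antidiagonal] at hk
        by_cases h1 : k.1 = 0
        · exact Ideal.mul_mem_left _ _ (hB _ (by omega))
        · exact Ideal.mul_mem_right _ _ (hA _ h1)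
      · rw [map_add, δ.dpow_add (hmemK a ha C K δ π hT) (hmemK b hb C K δ π hT), map_sum]
        refine Finset.sum_congr rfl fun k _ => ?_
        rw [map_mul, hA' _ C K δ π hT, hB' _ C K δ π hT]
    · rintro c a _ ⟨ha, ha'⟩
      refine ⟨Submodule.smul_mem _ c ha, fun n => ?_⟩
      obtain ⟨h, hh, hh'⟩ := ha' n
      refine ⟨c ^ n * h, fun hn => Ideal.mul_mem_left _ _ (hh hn), fun C _ K δ π hT => ?_⟩
      rw [smul_eq_mul, map_mul π c a, δ.dpow_mul (hmemK a ha C K δ π hT), map_mul, map_pow, hh' C K δ π hT]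
  let JD := (Ideal.span G).map q
  have hsurj : ∀ z ∈ JD, ∃ u ∈ Ideal.span G, q u = z := fun z hz =>
    (Ideal.mem_map_iff_of_surjective q hq).mp hz
  let d : ℕ → (F ⧸ testKer T) → (F ⧸ testKer T) := fun n z =>
    if hz : z ∈ JD then q (hall _ (hsurj z hz).choose_spec.1 n).choose else 0
  have hd : ∀ n u v, q u ∈ JD → Reps T n u v → d n (q u) = q v := by
    intro n u v hu hv
    simp only [d, dif_pos hu]
    obtain ⟨hw, hw'⟩ := (hsurj _ hu).choose_spec
    rw [qeq]
    intro C _ K δ π hT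
    rw [(hall _ hw n).choose_spec.2 C K δ π hT, hv C K δ π hT, (qeq _ _).mp hw' C K δ π hT]
  have hrep : ∀ z ∈ JD, ∃ u ∈ Ideal.span G, q u = z ∧ ∃ R : ℕ → F,
      (∀ n, n ≠ 0 → R n ∈ Ideal.span G) ∧ (∀ n, Reps T n u (R n)) ∧ ∀ n, d n z = q (R n) := by
    intro z hz
    obtain ⟨u, hu, rfl⟩ := hsurj z hz
    choose R hR hR' using hall u hu
    exact ⟨u, hu, rfl, R, hR, hR', fun n => hd n u _ (Ideal.mem_map_of_mem q hu) (hR' n)⟩
  let δD : DividedPowers JD :=
    { dpow := d
      dpow_null := fun hz => dif_neg hz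
      dpow_zero := fun {z} hz => by
        obtain ⟨u, hu, rfl, R, -, hR, hdR⟩ := hrep z hz
        rw [hdR, ← map_one q, qeq]
        intro C _ K δ π hT
        rw [hR 0 C K δ π hT, δ.dpow_zero (hmemK u hu C K δ π hT), map_one]
      dpow_one := fun {z} hz => by
        obtain ⟨u, hu, rfl, R, -, hR, hdR⟩ := hrep z hz
        rw [hdR, qeq]
        intro C _ K δ π hT
        rw [hR 1 C K δ π hT, δ.dpow_one (hmemK u hu C K δ π hT)]
      dpow_mem := fun {n z} hn hz => by
        obtain ⟨u, hu, rfl, R, hmem, -, hdR⟩ := hrep z hz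
        rw [hdR]; exact Ideal.mem_map_of_mem q (hmem n hn)
      dpow_add := fun {n z w} hz hw => by
        obtain ⟨u, hu, rfl, R, -, hR, hdR⟩ := hrep z hz
        obtain ⟨u', hu', rfl, R', -, hR', hdR'⟩ := hrep w hw
        simp only [hdR, hdR', ← map_mul, ← map_sum, ← map_add]
        refine hd n _ _ (Ideal.mem_map_of_mem q (Submodule.add_mem _ hu hu')) fun C _ K δ π hT => ?_
        rw [map_sum, map_add, δ.dpow_add (hmemK u hu C K δ π hT) (hmemK u' hu' C K δ π hT)]
        refine Finset.sum_congr rfl fun k _ => ?_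
        rw [map_mul, hR _ C K δ π hT, hR' _ C K δ π hT]
      dpow_mul := fun {n a z} hz => by
        obtain ⟨u, hu, rfl, R, -, hR, hdR⟩ := hrep z hz
        obtain ⟨c, rfl⟩ := hq a
        rw [hdR, ← map_mul, ← map_pow, ← map_mul]
        refine hd n _ _ (Ideal.mem_map_of_mem q (Ideal.mul_mem_left _ _ hu)) fun C _ K δ π hT => ?_
        rw [map_mul π c u, δ.dpow_mul (hmemK u hu C K δ π hT), map_mul, map_pow, hR n C K δ π hT]
      mul_dpow := fun {m n z} hz => by
        obtain ⟨u, hu, rfl, R, -, hR, hdR⟩ := hrep z hz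
        rw [hdR, hdR, hdR, ← map_natCast q, ← map_mul, ← map_mul, qeq]
        intro C _ K δ π hT
        rw [map_mul, map_mul, map_natCast, hR m C K δ π hT, hR n C K δ π hT, hR (m + n) C K δ π hT,
          δ.mul_dpow (hmemK u hu C K δ π hT)]
      dpow_comp := fun {m n z} hn hz => by
        obtain ⟨u, hu, rfl, R, hmem, hR, hdR⟩ := hrep z hz
        rw [hdR n, hdR (m * n), ← map_natCast q, ← map_mul]
        refine hd m _ _ (Ideal.mem_map_of_mem q (hmem n hn)) fun C _ K δ π hT => ?_
        rw [map_mul, map_natCast, hR n C K δ π hT, hR (m * n) C K δ π hT, δ.dpow_comp hn (hmemK u hu C K δ π hT)] }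
  refine ⟨F ⧸ testKer T, inferInstance, q, JD, δD, hq, rfl, fun u v => (qeq u v).mpr, hd, ?_⟩
  intro C _ K δ π hT
  let χ : F ⧸ testKer T →+* C := Ideal.Quotient.lift _ π fun f hf => hf C K δ π hT
  refine ⟨χ, rfl, DividedPowers.IsDPMorphism.on_span δD δ (S := q '' G) (Ideal.map_span q G) ?_ ?_⟩
  · rintro _ ⟨g, hg, rfl⟩; exact hG C K δ π hT g hg
  · rintro n _ ⟨g, hg, rfl⟩
    obtain ⟨h, -, hh⟩ := hall g (Ideal.subset_span hg) n
    change χ (d n (q g)) = δ.dpow n (π g)
    rw [hd n g h (Ideal.mem_map_of_mem q (Ideal.subset_span hg)) hh]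
    exact hh C K δ π hT

end Groth.Agent.CommAlg4.DP
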