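import Mathlib

/-!
# Divided powers from generators

* `ofGenerators`: the axioms `mul_dpow`, `dpow_comp` need only be checked on generators.
* `exists_of_linear`: divided powers on the range of a linear map from exponential data.
* `exists_sup`, `exists_extension_of_flat`, `exists_extension_principal`.
-/

set_option autoImplicit false
set_option linter.all false

universe u v w

open Finset

namespace Groth.Agent.CommAlg4.DP

section Pre

variable {A : Type*} [CommRing A]

/-- All axioms of a divided power structure, except `mul_dpow` and `dpow_comp`. -/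
structure Pre (I : Ideal A) (d : ℕ → A → A) : Prop where
  null : ∀ (n : ℕ) (x : A), x ∉ I → d n x = 0
  zero : ∀ x ∈ I, d 0 x = 1
  one : ∀ x ∈ I, d 1 x = x
  mem : ∀ (n : ℕ) (x : A), n ≠ 0 → x ∈ I → d n x ∈ I
  add : ∀ (n : ℕ) (x y : A), x ∈ I → y ∈ I →
    d n (x + y) = ∑ k ∈ antidiagonal n, d k.1 x * d k.2 y
  mul : ∀ (n : ℕ) (a x : A), x ∈ I → d n (a * x) = a ^ n * d n x

/-- The remaining axioms at one element. -/
def Good (d : ℕ → A → A) (x : A) : Prop :=
  (∀ m n, d m x * d n x = (m + n).choose m * d (m + n) x) ∧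
  ∀ m n, n ≠ 0 → d m (d n x) = Nat.uniformBell m n * d (m * n) x

/-- Natural combinations of `d i x * d j y` with `i + j = N`. -/
def Comb (d : ℕ → A → A) (x y : A) (N : ℕ) (z : A) : Prop :=
  ∃ c : ℕ × ℕ → ℕ, z = ∑ k ∈ antidiagonal N, (c k : A) * (d k.1 x * d k.2 y)

variable {I : Ideal A} {d : ℕ → A → A} (h : Pre I d)

include h in
theorem Pre.eval_zero {n : ℕ} (hn : n ≠ 0) : d n 0 = 0 := by
  rw [← mul_zero (0 : A), h.mul n 0 0 I.zero_mem, zero_pow hn, zero_mul, zero_mul]

variable {x y : A}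

theorem Comb.zero (N : ℕ) : Comb d x y N 0 := ⟨fun _ => 0, by simp⟩

theorem Comb.add {N : ℕ} {z z' : A} : Comb d x y N z → Comb d x y N z' → Comb d x y N (z + z') := by
  rintro ⟨c, rfl⟩ ⟨c', rfl⟩
  exact ⟨c + c', by simp [add_mul, sum_add_distrib]⟩

theorem Comb.natMul {N : ℕ} {z : A} (m : ℕ) : Comb d x y N z → Comb d x y N ((m : A) * z) := by
  rintro ⟨c, rfl⟩
  exact ⟨fun k => m * c k, by simp [mul_sum, mul_assoc]⟩

theorem Comb.sum {ι : Type*} {N : ℕ} (s : Finset ι) (f : ι → A) (hf : ∀ i ∈ s, Comb d x y N (f i)) :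
    Comb d x y N (∑ i ∈ s, f i) :=
  Finset.sum_induction f (Comb d x y N) (fun _ _ => Comb.add) (Comb.zero N) hf

theorem Comb.basic {N i j : ℕ} (hij : i + j = N) : Comb d x y N (d i x * d j y) := by
  classical
  refine ⟨fun k => if k = (i, j) then 1 else 0, ?_⟩
  rw [Finset.sum_eq_single (i, j) (fun k _ hk => by simp [hk]) (fun hk => absurd (HasAntidiagonal.mem_antidiagonal.mpr hij) hk)]
  simp

theorem Comb.mul (hx : Good d x) (hy : Good d y) {p q : ℕ} {z z' : A} :
    Comb d x y p z → Comb d x y q z' → Comb d x y (p + q) (z * z') := by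
  rintro ⟨c, rfl⟩ ⟨c', rfl⟩
  rw [Finset.sum_mul_sum]
  refine Comb.sum _ _ fun a ha => Comb.sum _ _ fun b hb => ?_
  rw [HasAntidiagonal.mem_antidiagonal] at ha hb
  have e : (c a : A) * (d a.1 x * d a.2 y) * ((c' b : A) * (d b.1 x * d b.2 y)) =
      ((c a * c' b * ((a.1 + b.1).choose a.1) * ((a.2 + b.2).choose a.2) : ℕ) : A) *
        (d (a.1 + b.1) x * d (a.2 + b.2) y) := by
    calc (c a : A) * (d a.1 x * d a.2 y) * ((c' b : A) * (d b.1 x * d b.2 y))
        = (c a : A) * (c' b : A) * ((d a.1 x * d b.1 x) * (d a.2 y * d b.2 y)) := by ring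
      _ = _ := by rw [hx.1, hy.1]; push_cast; ring
  rw [e]
  exact (Comb.basic (by omega)).natMul _

theorem Comb.pow (h0 : Comb d x y 0 1) (hx : Good d x) (hy : Good d y) {p : ℕ} {z : A}
    (hz : Comb d x y p z) : ∀ k, Comb d x y (k * p) (z ^ k)
  | 0 => by simpa using h0
  | k + 1 => by
      rw [pow_succ, Nat.succ_mul]
      exact Comb.mul hx hy (Comb.pow h0 hx hy hz k) hz

include h in
theorem comb_dpow_term (hxI : x ∈ I) (hyI : y ∈ I) (hx : Good d x) (hy : Good d y) {a b : ℕ}
    (hab : a + b ≠ 0) (k : ℕ) : Comb d x y (k * (a + b)) (d k (d a x * d b y)) := by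
  have h0 : Comb d x y 0 1 := by
    simpa [h.zero x hxI, h.zero y hyI] using (Comb.basic (d := d) (x := x) (y := y) (i := 0) (j := 0) rfl)
  have ex : ∀ i, Comb d x y i (d i x) := fun i => by
    simpa [h.zero y hyI] using (Comb.basic (d := d) (x := x) (y := y) (i := i) (j := 0) rfl)
  have ey : ∀ i, Comb d x y i (d i y) := fun i => by
    simpa [h.zero x hxI] using (Comb.basic (d := d) (x := x) (y := y) (i := 0) (j := i) (Nat.zero_add i))
  by_cases ha : a = 0
  · subst ha
    have hb : b ≠ 0 := by omega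
    rw [h.mul k _ _ (h.mem b y hb hyI), hy.2 k b hb, Nat.zero_add, h.zero x hxI, one_pow, one_mul]
    exact (ey _).natMul _
  · rw [mul_comm (d a x), h.mul k _ _ (h.mem a x ha hxI), hx.2 k a ha, ← mul_assoc,
      mul_comm _ (Nat.uniformBell k a : A), mul_assoc, Nat.mul_add, Nat.add_comm (k * a)]
    exact ((Comb.pow h0 hx hy (ey b) k).mul hx hy (ex _)).natMul _

include h in
theorem comb_dpow_sum (hxI : x ∈ I) (hyI : y ∈ I) (hx : Good d x) (hy : Good d y) {n : ℕ} (hn : n ≠ 0)
    (s : Finset (ℕ × ℕ)) (hs : s ⊆ antidiagonal n) :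
    (∑ k ∈ s, d k.1 x * d k.2 y) ∈ I ∧
      ∀ m, Comb d x y (m * n) (d m (∑ k ∈ s, d k.1 x * d k.2 y)) := by
  classical
  induction s using Finset.induction with
  | empty =>
    refine ⟨by simp, fun m => ?_⟩
    rw [Finset.sum_empty]
    rcases Nat.eq_zero_or_pos m with rfl | hm
    · rw [h.zero 0 I.zero_mem, Nat.zero_mul]
      simpa [h.zero x hxI, h.zero y hyI] using (Comb.basic (d := d) (x := x) (y := y) (i := 0) (j := 0) rfl)
    · rw [h.eval_zero (by omega)]; exact Comb.zero _
  | insert a s ha ih =>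
    obtain ⟨ih1, ih2⟩ := ih fun k hk => hs (mem_insert_of_mem hk)
    have hab : a.1 + a.2 = n := HasAntidiagonal.mem_antidiagonal.mp (hs (mem_insert_self _ _))
    have hmem : d a.1 x * d a.2 y ∈ I := by
      by_cases ha1 : a.1 = 0
      · exact I.mul_mem_left _ (h.mem _ _ (by omega) hyI)
      · exact I.mul_mem_right _ (h.mem _ _ ha1 hxI)
    rw [Finset.sum_insert ha]
    refine ⟨I.add_mem hmem ih1, fun m => ?_⟩
    rw [h.add m _ _ hmem ih1]
    refine Comb.sum _ _ fun k hk => ?_
    rw [HasAntidiagonal.mem_antidiagonal] at hk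
    rw [← hk, Nat.add_mul]
    refine Comb.mul hx hy ?_ (ih2 _)
    rw [← hab]
    exact comb_dpow_term h hxI hyI hx hy (by omega) _

include h in
theorem comb_all (hxI : x ∈ I) (hyI : y ∈ I) (hx : Good d x) (hy : Good d y) :
    (∀ N, Comb d x y N (d N (x + y))) ∧
      (∀ m n, n ≠ 0 → Comb d x y (m * n) (d m (d n (x + y)))) := by
  refine ⟨fun N => ?_, fun m n hn => ?_⟩
  · rw [h.add N x y hxI hyI]
    exact Comb.sum _ _ fun k hk => Comb.basic (HasAntidiagonal.mem_antidiagonal.mp hk)
  · rw [h.add n x y hxI hyI]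
    exact (comb_dpow_sum h hxI hyI hx hy hn _ subset_rfl).2 m

end Pre

section Trick

variable {A : Type u} [CommRing A] {I : Ideal A} {d : ℕ → A → A} (h : Pre I d)

abbrev Q := MvPolynomial (Fin 2) ℚ

theorem pre_of {A : Type*} [CommRing A] {I : Ideal A} (γ : DividedPowers I) : Pre I γ.dpow :=
  ⟨fun _ _ => γ.dpow_null, fun _ => γ.dpow_zero, fun _ => γ.dpow_one, fun _ _ => γ.dpow_mem,
    fun _ _ _ => γ.dpow_add, fun _ _ _ => γ.dpow_mul⟩

theorem good_of {A : Type*} [CommRing A] {I : Ideal A} (γ : DividedPowers I) {x : A} (hx : x ∈ I) :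
    Good γ.dpow x :=
  ⟨fun _ _ => γ.mul_dpow hx, fun _ _ hn => γ.dpow_comp hn hx⟩

open Classical in
/-- Componentwise operations on a product. -/
noncomputable def prodOp {B : Type*} [CommRing B] (I : Ideal A) (J : Ideal B) (d : ℕ → A → A)
    (e : ℕ → B → B) : ℕ → A × B → A × B :=
  fun n z => if z.1 ∈ I ∧ z.2 ∈ J then (d n z.1, e n z.2) else 0

include h in
theorem Pre.prod {B : Type*} [CommRing B] {J : Ideal B} {e : ℕ → B → B} (h' : Pre J e) :
    Pre (Ideal.prod I J) (prodOp I J d e) := by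
  constructor
  · intro n z hz; rw [Ideal.mem_prod] at hz; exact if_neg hz
  · intro z hz; rw [Ideal.mem_prod] at hz; rw [prodOp, if_pos hz, h.zero _ hz.1, h'.zero _ hz.2]; rfl
  · intro z hz; rw [Ideal.mem_prod] at hz; rw [prodOp, if_pos hz, h.one _ hz.1, h'.one _ hz.2]
  · intro n z hn hz
    rw [Ideal.mem_prod] at hz ⊢
    rw [prodOp, if_pos hz]
    exact ⟨h.mem n _ hn hz.1, h'.mem n _ hn hz.2⟩
  · intro n z w hz hw
    have hzw := (Ideal.prod I J).add_mem hz hw
    rw [Ideal.mem_prod] at hz hw hzw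
    simp only [prodOp, if_pos hz, if_pos hw, if_pos hzw]
    apply Prod.ext
    · simp only [Prod.fst_add, Prod.fst_sum, Prod.fst_mul]; exact h.add n _ _ hz.1 hw.1
    · simp only [Prod.snd_add, Prod.snd_sum, Prod.snd_mul]; exact h'.add n _ _ hz.2 hw.2
  · intro n a z hz
    have haz := (Ideal.prod I J).mul_mem_left a hz
    rw [Ideal.mem_prod] at hz haz
    simp only [prodOp, if_pos hz, if_pos haz]
    exact Prod.ext (h.mul n _ _ hz.1) (h'.mul n _ _ hz.2)

theorem coeff_unique {N : ℕ} (c c' : ℕ × ℕ → ℕ)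
    (e : ∑ k ∈ antidiagonal N, (c k : Q) *
        ((Ring.inverse (k.1.factorial : Q) * MvPolynomial.X 0 ^ k.1) *
          (Ring.inverse (k.2.factorial : Q) * MvPolynomial.X 1 ^ k.2)) =
      ∑ k ∈ antidiagonal N, (c' k : Q) *
        ((Ring.inverse (k.1.factorial : Q) * MvPolynomial.X 0 ^ k.1) *
          (Ring.inverse (k.2.factorial : Q) * MvPolynomial.X 1 ^ k.2))) :
    ∀ k ∈ antidiagonal N, c k = c' k := by
  classical
  intro k hk
  have hinv : ∀ n : ℕ, Ring.inverse (n.factorial : Q) = MvPolynomial.C ((n.factorial : ℚ)⁻¹) := by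
    intro n
    have hu : (n.factorial : Q) * MvPolynomial.C ((n.factorial : ℚ)⁻¹) = 1 := by
      rw [← map_natCast MvPolynomial.C, ← map_mul, mul_inv_cancel₀ (by positivity), map_one]
    calc Ring.inverse (n.factorial : Q)
        = Ring.inverse (n.factorial : Q) * ((n.factorial : Q) * MvPolynomial.C ((n.factorial : ℚ)⁻¹)) := by
          rw [hu, mul_one]
      _ = _ := by
          rw [← mul_assoc, Ring.inverse_mul_cancel _ (IsUnit.of_mul_eq_one _ hu), one_mul]
  have key : ∀ (c : ℕ × ℕ → ℕ), MvPolynomial.coeff (Finsupp.single 0 k.1 + Finsupp.single 1 k.2)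
      (∑ j ∈ antidiagonal N, (c j : Q) *
        ((Ring.inverse (j.1.factorial : Q) * MvPolynomial.X 0 ^ j.1) *
          (Ring.inverse (j.2.factorial : Q) * MvPolynomial.X 1 ^ j.2))) =
      (c k : ℚ) * ((k.1.factorial : ℚ)⁻¹ * (k.2.factorial : ℚ)⁻¹) := by
    intro c
    have hm : ∀ j : ℕ × ℕ, (c j : Q) *
        ((Ring.inverse (j.1.factorial : Q) * MvPolynomial.X 0 ^ j.1) *
          (Ring.inverse (j.2.factorial : Q) * MvPolynomial.X 1 ^ j.2)) =
        MvPolynomial.monomial (Finsupp.single 0 j.1 + Finsupp.single 1 j.2)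
          ((c j : ℚ) * ((j.1.factorial : ℚ)⁻¹ * (j.2.factorial : ℚ)⁻¹)) := by
      intro j
      rw [hinv, hinv, ← map_natCast MvPolynomial.C, MvPolynomial.X_pow_eq_monomial,
        MvPolynomial.X_pow_eq_monomial, MvPolynomial.C_mul_monomial, MvPolynomial.C_mul_monomial,
        MvPolynomial.monomial_mul, MvPolynomial.C_mul_monomial]
      congr 1
      ring
    rw [MvPolynomial.coeff_sum, Finset.sum_eq_single k, hm, MvPolynomial.coeff_monomial, if_pos rfl]
    · intro j hj hjk
      rw [hm, MvPolynomial.coeff_monomial, if_neg]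
      intro he
      apply hjk
      have h0 := DFunLike.congr_fun he 0
      have h1 := DFunLike.congr_fun he 1
      simp at h0 h1
      exact Prod.ext h0 h1
    · exact fun h => absurd hk h
  have := congrArg (MvPolynomial.coeff (Finsupp.single 0 k.1 + Finsupp.single 1 k.2)) e
  rw [key, key] at this
  have hne : (k.1.factorial : ℚ)⁻¹ * (k.2.factorial : ℚ)⁻¹ ≠ 0 :=
    mul_ne_zero (inv_ne_zero (by positivity)) (inv_ne_zero (by positivity))
  exact_mod_cast mul_right_cancel₀ hne this

include h in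
/-- Two combinations which agree in the rational polynomial ring agree in `A`. -/
theorem good_add {x y : A} (hxI : x ∈ I) (hyI : y ∈ I) (hx : Good d x) (hy : Good d y) :
    Good d (x + y) := by
  classical
  let J : Ideal Q := Ideal.span (Set.range MvPolynomial.X)
  let γ : DividedPowers J := DividedPowers.RatAlgebra.dividedPowers J
  have hX : ∀ i, (MvPolynomial.X i : Q) ∈ J := fun i => Ideal.subset_span ⟨i, rfl⟩
  let D := prodOp I J d γ.dpow
  have hD : Pre (Ideal.prod I J) D := h.prod (pre_of γ)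
  let x' : A × Q := (x, MvPolynomial.X 0)
  let y' : A × Q := (y, MvPolynomial.X 1)
  have hDv : ∀ (n : ℕ) (z : A × Q), z ∈ Ideal.prod I J → D n z = (d n z.1, γ.dpow n z.2) :=
    fun n z hz => if_pos ((Ideal.mem_prod I J).mp hz)
  have hxP : x' ∈ Ideal.prod I J := (Ideal.mem_prod I J).mpr ⟨hxI, hX 0⟩
  have hyP : y' ∈ Ideal.prod I J := (Ideal.mem_prod I J).mpr ⟨hyI, hX 1⟩
  have hgood : ∀ (a : A) (b : Q), a ∈ I → b ∈ J → Good d a → Good D (a, b) := by
    intro a b ha hb hga
    have hab : ((a, b) : A × Q) ∈ Ideal.prod I J := (Ideal.mem_prod I J).mpr ⟨ha, hb⟩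
    refine ⟨fun m n => ?_, fun m n hn => ?_⟩
    · rw [hDv _ _ hab, hDv _ _ hab, hDv _ _ hab]
      exact Prod.ext (by simpa using hga.1 m n) (by simpa using γ.mul_dpow hb (m := m) (n := n))
    · rw [hDv n _ hab, hDv _ _ hab, hDv _ _ ((Ideal.mem_prod I J).mpr ⟨h.mem n a hn ha, γ.dpow_mem hn hb⟩)]
      exact Prod.ext (by simpa using hga.2 m n hn) (by simpa using γ.dpow_comp hn hb (m := m))
  have hgx : Good D x' := hgood _ _ hxI (hX 0) hx
  have hgy : Good D y' := hgood _ _ hyI (hX 1) hy
  obtain ⟨c1, c2⟩ := comb_all hD hxP hyP hgx hgy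
  have hxyP := (Ideal.prod I J).add_mem hxP hyP
  have hterm : ∀ k : ℕ × ℕ, D k.1 x' * D k.2 y' =
      (d k.1 x * d k.2 y, (Ring.inverse (k.1.factorial : Q) * MvPolynomial.X 0 ^ k.1) *
        (Ring.inverse (k.2.factorial : Q) * MvPolynomial.X 1 ^ k.2)) := by
    intro k
    rw [hDv _ _ hxP, hDv _ _ hyP, DividedPowers.RatAlgebra.dpow_apply, if_pos (hX 0),
      DividedPowers.RatAlgebra.dpow_apply, if_pos (hX 1)]
    rfl
  -- transfer
  have transfer : ∀ (N : ℕ) (z z' : A × Q), Comb D x' y' N z → Comb D x' y' N z' →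
      z.2 = z'.2 → z.1 = z'.1 := by
    rintro N z z' ⟨c, rfl⟩ ⟨c', rfl⟩ e
    simp only [hterm, Prod.snd_sum, Prod.fst_sum, Prod.snd_mul, Prod.fst_mul, Prod.snd_natCast,
      Prod.fst_natCast] at e ⊢
    exact Finset.sum_congr rfl fun k hk => by rw [coeff_unique c c' e k hk]
  have hxy2 : MvPolynomial.X 0 + MvPolynomial.X 1 ∈ J := J.add_mem (hX 0) (hX 1)
  have hval : ∀ N, D N (x' + y') = (d N (x + y), γ.dpow N (MvPolynomial.X 0 + MvPolynomial.X 1)) :=
    fun N => hDv N _ hxyP
  refine ⟨fun m n => ?_, fun m n hn => ?_⟩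
  · have := transfer (m + n) _ _ ((c1 m).mul hgx hgy (c1 n)) ((c1 (m + n)).natMul ((m + n).choose m))
      (by rw [hval, hval, hval]; simpa using γ.mul_dpow hxy2 (m := m) (n := n))
    rw [hval, hval, hval] at this
    simpa using this
  · have hm : D n (x' + y') ∈ Ideal.prod I J := hD.mem n _ hn hxyP
    have := transfer (m * n) _ _ (c2 m n hn) ((c1 (m * n)).natMul (Nat.uniformBell m n))
      (by rw [hDv m _ hm, hval, hval]; simpa using γ.dpow_comp hn hxy2 (m := m))
    rw [hDv m _ hm, hval, hval] at this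
    simpa using this

include h in
theorem good_mul {x : A} (hxI : x ∈ I) (hx : Good d x) (a : A) : Good d (a * x) := by
  refine ⟨fun m n => ?_, fun m n hn => ?_⟩
  · rw [h.mul m a x hxI, h.mul n a x hxI, h.mul (m + n) a x hxI]
    calc a ^ m * d m x * (a ^ n * d n x) = a ^ (m + n) * (d m x * d n x) := by ring
      _ = _ := by rw [hx.1]; ring
  · rw [h.mul n a x hxI, h.mul m _ _ (h.mem n x hn hxI), hx.2 m n hn, h.mul (m * n) a x hxI,
      ← pow_mul, Nat.mul_comm n m]
    ring

include h in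
theorem good_zero : Good d 0 := by
  refine ⟨fun m n => ?_, fun m n hn => ?_⟩
  · rcases Nat.eq_zero_or_pos m with rfl | hm
    · simp [h.zero 0 I.zero_mem]
    · rw [h.eval_zero hm.ne', h.eval_zero (by omega : m + n ≠ 0), zero_mul, mul_zero]
  · rw [h.eval_zero hn]
    rcases Nat.eq_zero_or_pos m with rfl | hm
    · simp [h.zero 0 I.zero_mem, Nat.uniformBell_zero_left]
    · rw [h.eval_zero hm.ne', h.eval_zero (Nat.mul_ne_zero hm.ne' hn), mul_zero]

include h in
theorem good_span (S : Set A) (hS : Ideal.span S = I) (hgood : ∀ x ∈ S, Good d x) :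
    ∀ x ∈ I, Good d x := by
  intro x hx
  have : x ∈ Submodule.span A S := by rw [← hS] at hx; exact hx
  clear hx
  refine (Submodule.span_induction (p := fun z _ => z ∈ I ∧ Good d z) ?_ ?_ ?_ ?_ this).2
  · exact fun z hz => ⟨hS ▸ Ideal.subset_span hz, hgood z hz⟩
  · exact ⟨I.zero_mem, good_zero h⟩
  · exact fun a b _ _ ha hb => ⟨I.add_mem ha.1 hb.1, good_add h ha.1 hb.1 ha.2 hb.2⟩
  · exact fun r z _ hz => ⟨I.mul_mem_left r hz.1, good_mul h hz.1 hz.2 r⟩

/-- A divided power structure from `Pre` and the two axioms on generators. -/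
noncomputable def ofGenerators (S : Set A) (hS : Ideal.span S = I) (hgood : ∀ x ∈ S, Good d x) :
    DividedPowers I where
  dpow := d
  dpow_null := h.null _ _
  dpow_zero := h.zero _
  dpow_one := h.one _
  dpow_mem := h.mem _ _
  dpow_add := h.add _ _ _
  dpow_mul := h.mul _ _ _
  mul_dpow hx := (good_span h S hS hgood _ hx).1 _ _
  dpow_comp hn hx := (good_span h S hS hgood _ hx).2 _ _ hn

theorem ofGenerators_dpow (S : Set A) (hS : Ideal.span S = I) (hgood : ∀ x ∈ S, Good d x) :
    (ofGenerators h S hS hgood).dpow = d := rfl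

end Trick

/-- Divided powers on the range of a linear map, from exponential data on the source. -/
theorem exists_of_linear {B : Type*} [CommRing B] (J : Ideal B) {M : Type*} [AddCommGroup M] [Module B M]
    (π : M →ₗ[B] B) (hπ : LinearMap.range π = J) (E : ℕ → M → B)
    (h0 : ∀ m, E 0 m = 1) (h1 : ∀ m, E 1 m = π m) (hmem : ∀ n m, n ≠ 0 → E n m ∈ J)
    (hadd : ∀ n a b, E n (a + b) = ∑ k ∈ antidiagonal n, E k.1 a * E k.2 b)
    (hsmul : ∀ n (c : B) m, E n (c • m) = c ^ n * E n m)
    (hker : ∀ n m, n ≠ 0 → π m = 0 → E n m = 0)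
    (S : Set M) (hS : Submodule.span B S = ⊤)
    (hmul : ∀ s ∈ S, ∀ m n, E m s * E n s = (m + n).choose m * E (m + n) s)
    (hcomp : ∀ s ∈ S, ∀ m n, n ≠ 0 →
      ∃ z, π z = E n s ∧ E m z = Nat.uniformBell m n * E (m * n) s) :
    ∃ δ : DividedPowers J, ∀ n m, δ.dpow n (π m) = E n m := by
  classical
  have hex : ∀ x ∈ J, ∃ m, π m = x := fun x hx => by rw [← hπ] at hx; exact hx
  have hwd : ∀ n a b, π a = π b → E n a = E n b := by
    intro n a b hab
    rcases Nat.eq_zero_or_pos n with rfl | hn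
    · rw [h0, h0]
    have hw : π (a - b) = 0 := by rw [map_sub, hab, sub_self]
    rw [show a = b + (a - b) by abel, hadd, Finset.sum_eq_single (n, 0)]
    · rw [h0, mul_one]
    · intro k hk hkne
      rw [HasAntidiagonal.mem_antidiagonal] at hk
      rw [hker k.2 _ (fun hk2 => hkne (Prod.ext (by dsimp; omega) hk2)) hw, mul_zero]
    · intro hh; simp at hh
  let d : ℕ → B → B := fun n x => if hx : x ∈ J then E n (hex x hx).choose else 0
  have hπmem : ∀ m, π m ∈ J := fun m => hπ ▸ LinearMap.mem_range_self π m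
  have hd : ∀ n m, d n (π m) = E n m := fun n m => by
    simp only [d, dif_pos (hπmem m)]
    exact hwd n _ _ (hex _ (hπmem m)).choose_spec
  have hpre : Pre J d := by
    refine ⟨fun n x hx => dif_neg hx, ?_, ?_, ?_, ?_, ?_⟩
    · intro x hx; obtain ⟨m, rfl⟩ := hex x hx; rw [hd, h0]
    · intro x hx; obtain ⟨m, rfl⟩ := hex x hx; rw [hd, h1]
    · intro n x hn hx; obtain ⟨m, rfl⟩ := hex x hx; rw [hd]; exact hmem n m hn
    · intro n x y hx hy
      obtain ⟨a, rfl⟩ := hex x hx; obtain ⟨b, rfl⟩ := hex y hy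
      rw [← map_add, hd, hadd]
      simp only [hd]
    · intro n c x hx
      obtain ⟨a, rfl⟩ := hex x hx
      rw [← smul_eq_mul, ← map_smul, hd, hd, hsmul]
  refine ⟨ofGenerators hpre (π '' S) ?_ ?_, hd⟩
  · rw [← Ideal.submodule_span_eq, ← Submodule.map_span, hS, Submodule.map_top, hπ]
  · rintro _ ⟨s, hs, rfl⟩
    refine ⟨fun m n => by rw [hd, hd, hd, hmul s hs], fun m n hn => ?_⟩
    obtain ⟨z, hz, hz'⟩ := hcomp s hs m n hn
    rw [hd, ← hz, hd, hz', hd]

section Constructions

variable {A : Type*} [CommRing A] {I J : Ideal A}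

theorem dpow_sub_self_zero (γ : DividedPowers I) {x : A} (hx : x ∈ I) : γ.exp x * γ.exp (-x) = 1 := by
  rw [← DividedPowers.exp_add _ hx (I.neg_mem hx), add_neg_cancel]
  ext n
  rw [DividedPowers.exp, PowerSeries.coeff_mk, PowerSeries.coeff_one]
  split
  · next h => subst h; exact γ.dpow_zero I.zero_mem
  · next h => exact γ.dpow_eval_zero h

/-- Divided powers on `I ⊔ J`. -/
theorem exists_sup (γ : DividedPowers I) (δ : DividedPowers J)
    (h : ∀ (n : ℕ) (x : A), x ∈ I ⊓ J → γ.dpow n x = δ.dpow n x) :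
    ∃! ε : DividedPowers (I ⊔ J),
      (∀ (n : ℕ) (x : A), x ∈ I → ε.dpow n x = γ.dpow n x) ∧
        (∀ (n : ℕ) (x : A), x ∈ J → ε.dpow n x = δ.dpow n x) := by
  classical
  let π : (↥I × ↥J) →ₗ[A] A := I.subtype.coprod J.subtype
  let E : ℕ → (↥I × ↥J) → A := fun n m => PowerSeries.coeff n (γ.exp (m.1 : A) * δ.exp (m.2 : A))
  have hE : ∀ n m, E n m = ∑ k ∈ antidiagonal n, γ.dpow k.1 (m.1 : A) * δ.dpow k.2 (m.2 : A) :=
    fun n m => by simp [E, PowerSeries.coeff_mul, DividedPowers.exp]
  have hI : ∀ n (a : I), E n (a, 0) = γ.dpow n (a : A) := by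
    intro n a
    rw [hE, Finset.sum_eq_single (n, 0)]
    · simp [δ.dpow_zero J.zero_mem]
    · intro k hk hkne
      rw [HasAntidiagonal.mem_antidiagonal] at hk
      have : k.2 ≠ 0 := fun h2 => hkne (Prod.ext (by dsimp; omega) h2)
      simp [δ.dpow_eval_zero this]
    · simp
  have hJ : ∀ n (b : J), E n (0, b) = δ.dpow n (b : A) := by
    intro n b
    rw [hE, Finset.sum_eq_single (0, n)]
    · simp [γ.dpow_zero I.zero_mem]
    · intro k hk hkne
      rw [HasAntidiagonal.mem_antidiagonal] at hk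
      have : k.1 ≠ 0 := fun h1 => hkne (Prod.ext h1 (by dsimp; omega))
      simp [γ.dpow_eval_zero this]
    · simp
  obtain ⟨ε, hε⟩ := exists_of_linear (I ⊔ J) π (by simp [π, LinearMap.range_coprod]) E
    (fun m => by rw [hE]; simp [γ.dpow_zero m.1.2, δ.dpow_zero m.2.2])
    (fun m => by
      rw [hE, Finset.Nat.sum_antidiagonal_eq_sum_range_succ_mk, Finset.sum_range_succ, Finset.sum_range_one]
      simp [π, γ.dpow_zero m.1.2, δ.dpow_zero m.2.2, γ.dpow_one m.1.2, δ.dpow_one m.2.2, add_comm])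
    (fun n m hn => by
      rw [hE]
      refine Submodule.sum_mem _ fun k hk => ?_
      rw [HasAntidiagonal.mem_antidiagonal] at hk
      by_cases h1 : k.1 = 0
      · exact Ideal.mul_mem_left _ _ (Ideal.mem_sup_right (δ.dpow_mem (by omega) m.2.2))
      · exact Ideal.mul_mem_right _ _ (Ideal.mem_sup_left (γ.dpow_mem h1 m.1.2)))
    (fun n a b => by
      have : γ.exp ((a + b).1 : A) * δ.exp ((a + b).2 : A) =
          (γ.exp (a.1 : A) * δ.exp (a.2 : A)) * (γ.exp (b.1 : A) * δ.exp (b.2 : A)) := by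
        simp only [Prod.fst_add, Prod.snd_add, Submodule.coe_add]
        rw [γ.exp_add a.1.2 b.1.2, δ.exp_add a.2.2 b.2.2]; ring
      simp only [E]; rw [this, PowerSeries.coeff_mul])
    (fun n c m => by
      rw [hE, hE, Finset.mul_sum]
      refine Finset.sum_congr rfl fun k hk => ?_
      rw [HasAntidiagonal.mem_antidiagonal] at hk
      simp only [Prod.smul_fst, Prod.smul_snd, SetLike.val_smul, smul_eq_mul]
      rw [γ.dpow_mul m.1.2, δ.dpow_mul m.2.2, ← hk, pow_add]
      ring)
    (fun n m hn hm => by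
      have e : (m.2 : A) = -(m.1 : A) := eq_neg_of_add_eq_zero_right (by simpa [π] using hm)
      have hmem : -(m.1 : A) ∈ I ⊓ J := ⟨I.neg_mem m.1.2, e ▸ m.2.2⟩
      have : δ.exp (m.2 : A) = γ.exp (-(m.1 : A)) := by
        rw [e]; ext j; simp [DividedPowers.exp, h j _ hmem]
      simp only [E, this, dpow_sub_self_zero γ m.1.2, PowerSeries.coeff_one, if_neg hn])
    (Set.range (fun a : I => (a, (0 : J))) ∪ Set.range (fun b : J => ((0 : I), b)))
    (by
      rw [eq_top_iff]
      rintro ⟨a, b⟩ -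
      rw [show ((a, b) : ↥I × ↥J) = (a, 0) + (0, b) by simp]
      exact Submodule.add_mem _ (Submodule.subset_span (Or.inl ⟨a, rfl⟩))
        (Submodule.subset_span (Or.inr ⟨b, rfl⟩)))
    (by
      rintro _ (⟨a, rfl⟩ | ⟨b, rfl⟩) m n
      · rw [hI, hI, hI, γ.mul_dpow a.2]
      · rw [hJ, hJ, hJ, δ.mul_dpow b.2])
    (by
      rintro _ (⟨a, rfl⟩ | ⟨b, rfl⟩) m n hn
      · refine ⟨(⟨_, γ.dpow_mem hn a.2⟩, 0), by simp [π, hI], ?_⟩
        rw [hI, hI, γ.dpow_comp hn a.2]
      · refine ⟨(0, ⟨_, δ.dpow_mem hn b.2⟩), by simp [π, hJ], ?_⟩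
        rw [hJ, hJ, δ.dpow_comp hn b.2])
  refine ⟨ε, ⟨fun n x hx => ?_, fun n x hx => ?_⟩, fun ε' h' => ?_⟩
  · simpa [π, hI] using hε n (⟨x, hx⟩, 0)
  · simpa [π, hJ] using hε n (0, ⟨x, hx⟩)
  · apply DividedPowers.ext
    intro n x hx
    obtain ⟨a, ha, b, hb, rfl⟩ := Submodule.mem_sup.mp hx
    rw [ε'.dpow_add (Ideal.mem_sup_left ha) (Ideal.mem_sup_right hb),
      ε.dpow_add (Ideal.mem_sup_left ha) (Ideal.mem_sup_right hb)]
    refine Finset.sum_congr rfl fun k _ => ?_
    rw [h'.1 _ a ha, h'.2 _ b hb]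
    congr 1
    · simpa [π, hI] using (hε k.1 (⟨a, ha⟩, 0)).symm
    · simpa [π, hJ] using (hε k.2 (0, ⟨b, hb⟩)).symm

variable {B : Type*} [CommRing B] [Algebra A B]

theorem extension_unique (γ : DividedPowers I) (δ δ' : DividedPowers (I.map (algebraMap A B)))
    (hδ : γ.IsDPMorphism δ (algebraMap A B)) (hδ' : γ.IsDPMorphism δ' (algebraMap A B)) : δ = δ' := by
  refine DividedPowers.dpow_eq_from_gens (S := algebraMap A B '' I) δ' δ rfl ?_
  rintro n _ ⟨a, ha, rfl⟩
  rw [← hδ.map_dpow ha, ← hδ'.map_dpow ha]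

/-- Extension along any algebra, for a principal ideal. -/
theorem exists_extension_principal (x : A) (γ : DividedPowers (Ideal.span {x})) :
    ∃ δ : DividedPowers ((Ideal.span {x}).map (algebraMap A B)), γ.IsDPMorphism δ (algebraMap A B) := by
  classical
  have hx : x ∈ Ideal.span {x} := Ideal.mem_span_singleton_self x
  have hc : ∀ n, n ≠ 0 → ∃ c, γ.dpow n x = c * x := fun n hn => by
    obtain ⟨c, hc⟩ := Ideal.mem_span_singleton'.mp (γ.dpow_mem hn hx); exact ⟨c, hc.symm⟩
  let f := algebraMap A B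
  let E : ℕ → B → B := fun n b => b ^ n * f (γ.dpow n x)
  obtain ⟨δ, hδ⟩ := exists_of_linear ((Ideal.span {x}).map f) (LinearMap.toSpanSingleton B B (f x))
    (by rw [Ideal.map_span, Set.image_singleton]; exact LinearMap.range_toSpanSingleton _)
    E (fun b => by simp [E, γ.dpow_zero hx])
    (fun b => by simp [E, γ.dpow_one hx])
    (fun n b hn => Ideal.mul_mem_left _ _ (Ideal.mem_map_of_mem f (γ.dpow_mem hn hx)))
    (fun n a b => by
      simp only [E]
      rw [Commute.add_pow' (Commute.all a b), Finset.sum_mul]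
      refine Finset.sum_congr rfl fun k hk => ?_
      rw [HasAntidiagonal.mem_antidiagonal] at hk
      calc n.choose k.1 • (a ^ k.1 * b ^ k.2) * f (γ.dpow n x)
          = a ^ k.1 * b ^ k.2 * f ((k.1 + k.2).choose k.1 * γ.dpow (k.1 + k.2) x) := by
            rw [hk, map_mul, map_natCast, nsmul_eq_mul]; ring
        _ = _ := by rw [← γ.mul_dpow hx, map_mul]; ring)
    (fun n c b => by simp only [E, smul_eq_mul, mul_pow, mul_assoc])
    (fun n b hn hb => by
      obtain ⟨c, hc⟩ := hc n hn
      simp only [LinearMap.toSpanSingleton_apply, smul_eq_mul] at hb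
      obtain ⟨j, rfl⟩ := Nat.exists_eq_succ_of_ne_zero hn
      simp only [E, hc, map_mul, pow_succ]
      linear_combination (b ^ j * f c) * hb)
    {1} Ideal.span_singleton_one
    (by
      rintro _ rfl m n
      simp only [E, one_pow, one_mul]
      rw [← map_mul, γ.mul_dpow hx, map_mul, map_natCast])
    (by
      rintro _ rfl m n hn
      obtain ⟨c, hc⟩ := hc n hn
      refine ⟨f c, by simp [E, hc, f, map_mul], ?_⟩
      simp only [E, one_pow, one_mul]
      rw [← map_pow, ← map_mul, ← γ.dpow_mul hx, ← hc, γ.dpow_comp hn hx, map_mul, map_natCast])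
  refine ⟨δ, le_rfl, fun {n} a ha => ?_⟩
  obtain ⟨c, rfl⟩ := Ideal.mem_span_singleton'.mp ha
  have := hδ n (f c)
  simp only [LinearMap.toSpanSingleton_apply, smul_eq_mul, E, ← map_mul, ← map_pow] at this
  rw [this, γ.dpow_mul hx]

open TensorProduct in
/-- Extension along a flat algebra. -/
theorem exists_extension_flat (γ : DividedPowers I) [Module.Flat A B] :
    ∃ δ : DividedPowers (I.map (algebraMap A B)), γ.IsDPMorphism δ (algebraMap A B) := by
  classical
  let f := algebraMap A B
  let S : I → PowerSeries B := fun i => (γ.exp (i : A)).map f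
  have hS : ∀ (n : ℕ) (b : B) (i : I), PowerSeries.coeff n (PowerSeries.rescale b (S i)) = b ^ n * f (γ.dpow n (i : A)) := by
    intro n b i; simp [S, DividedPowers.exp]
  have hS0 : ∀ b : B, PowerSeries.rescale b (S 0) = 1 := by
    intro b; ext n
    rw [hS, PowerSeries.coeff_one, Submodule.coe_zero]
    split
    · next h => subst h; simp [γ.dpow_zero I.zero_mem]
    · next h => rw [γ.dpow_eval_zero h, map_zero, mul_zero]
  have hzero : ∀ i : I, PowerSeries.rescale 0 (S i) = 1 := by
    intro i; ext n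
    rw [hS, PowerSeries.coeff_one]
    split
    · next h => subst h; simp [γ.dpow_zero i.2]
    · next h => rw [zero_pow h, zero_mul]
  let g : B →+ I →+ Additive (PowerSeries B) :=
    { toFun := fun b =>
        { toFun := fun i => Additive.ofMul (PowerSeries.rescale b (S i))
          map_zero' := by rw [hS0]; rfl
          map_add' := fun i j => by
            rw [← ofMul_mul, ← map_mul]
            simp only [S, Submodule.coe_add, γ.exp_add i.2 j.2, map_mul] }
      map_zero' := by
        apply AddMonoidHom.ext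
        intro i
        change Additive.ofMul (PowerSeries.rescale 0 (S i)) = 0
        rw [hzero]; rfl
      map_add' := fun a b => by
        apply AddMonoidHom.ext
        intro i
        change Additive.ofMul (PowerSeries.rescale (a + b) (S i)) =
          Additive.ofMul (PowerSeries.rescale a (S i)) + Additive.ofMul (PowerSeries.rescale b (S i))
        rw [← ofMul_mul]
        congr 1
        ext n
        rw [PowerSeries.coeff_mul, hS, Commute.add_pow' (Commute.all a b), Finset.sum_mul]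
        refine Finset.sum_congr rfl fun k hk => ?_
        rw [HasAntidiagonal.mem_antidiagonal] at hk
        rw [hS, hS]
        calc n.choose k.1 • (a ^ k.1 * b ^ k.2) * f (γ.dpow n (i : A))
            = a ^ k.1 * b ^ k.2 * f ((k.1 + k.2).choose k.1 * γ.dpow (k.1 + k.2) (i : A)) := by
              rw [hk, map_mul, map_natCast, nsmul_eq_mul]; ring
          _ = _ := by rw [← γ.mul_dpow i.2, map_mul]; ring }
  let L : B ⊗[A] ↥I →+ Additive (PowerSeries B) := TensorProduct.liftAddHom g (by
    intro r b i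
    change Additive.ofMul _ = Additive.ofMul _
    congr 1
    ext n
    rw [hS, hS, Algebra.smul_def, SetLike.val_smul, smul_eq_mul, γ.dpow_mul i.2, map_mul, map_pow]
    ring)
  let π : B ⊗[A] ↥I →ₗ[B] B := (AlgebraTensorModule.rid A B B).toLinearMap.comp (AlgebraTensorModule.lTensor B B I.subtype)
  have hπt : ∀ b (i : I), π (b ⊗ₜ i) = b * f (i : A) := fun b i => by
    simp [π, Algebra.smul_def, f, mul_comm]
  let E : ℕ → B ⊗[A] ↥I → B := fun n m => PowerSeries.coeff n (Additive.toMul (L m))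
  have hEt : ∀ n b (i : I), E n (b ⊗ₜ i) = b ^ n * f (γ.dpow n (i : A)) := fun n b i => hS n b i
  have hE0 : ∀ n, E n 0 = if n = 0 then 1 else 0 := fun n => by
    simp only [E, map_zero, toMul_zero, PowerSeries.coeff_one]
  have hEadd : ∀ n a b, E n (a + b) = ∑ k ∈ antidiagonal n, E k.1 a * E k.2 b := fun n a b => by
    simp only [E, map_add, toMul_add, PowerSeries.coeff_mul]
  have hπinj : Function.Injective π :=
    (AlgebraTensorModule.rid A B B).injective.comp
      (Module.Flat.lTensor_preserves_injective_linearMap (M := B) I.subtype Subtype.val_injective)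
  obtain ⟨δ, hδ⟩ := exists_of_linear (I.map f) π
    (by
      apply le_antisymm
      · rintro _ ⟨m, rfl⟩
        induction m using TensorProduct.induction_on with
        | zero => simp
        | tmul b i => rw [hπt]; exact Ideal.mul_mem_left _ _ (Ideal.mem_map_of_mem f i.2)
        | add a b ha hb => rw [map_add]; exact Ideal.add_mem _ ha hb
      · rw [Ideal.map_le_iff_le_comap]
        intro a ha
        exact ⟨1 ⊗ₜ ⟨a, ha⟩, by rw [hπt, one_mul]⟩)
    E
    (fun m => by
      induction m using TensorProduct.induction_on with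
      | zero => simp [hE0]
      | tmul b i => simp [hEt, γ.dpow_zero i.2]
      | add a b ha hb => simp [hEadd, ha, hb])
    (fun m => by
      induction m using TensorProduct.induction_on with
      | zero => simp [hE0]
      | tmul b i => simp [hEt, hπt, γ.dpow_one i.2]
      | add a b ha hb =>
        have h0 : ∀ m, E 0 m = 1 := fun m => by
          induction m using TensorProduct.induction_on with
          | zero => simp [hE0]
          | tmul b i => simp [hEt, γ.dpow_zero i.2]
          | add a b ha hb => simp [hEadd, ha, hb]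
        rw [hEadd, Finset.Nat.sum_antidiagonal_eq_sum_range_succ_mk, Finset.sum_range_succ, Finset.sum_range_one]
        simp [ha, hb, h0, add_comm])
    (fun n m hn => by
      induction m using TensorProduct.induction_on generalizing n with
      | zero => simp [hE0, hn]
      | tmul b i => rw [hEt]; exact Ideal.mul_mem_left _ _ (Ideal.mem_map_of_mem f (γ.dpow_mem hn i.2))
      | add a b ha hb =>
        rw [hEadd]
        refine Submodule.sum_mem _ fun k hk => ?_
        rw [HasAntidiagonal.mem_antidiagonal] at hk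
        by_cases h1 : k.1 = 0
        · exact Ideal.mul_mem_left _ _ (hb _ (by omega))
        · exact Ideal.mul_mem_right _ _ (ha _ h1))
    hEadd
    (fun n c m => by
      induction m using TensorProduct.induction_on generalizing n with
      | zero => rcases Nat.eq_zero_or_pos n with rfl | hn <;> simp [hE0]; simp [hn.ne']
      | tmul b i => rw [TensorProduct.smul_tmul', hEt, hEt, smul_eq_mul, mul_pow, mul_assoc]
      | add a b ha hb =>
        rw [smul_add, hEadd, hEadd, Finset.mul_sum]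
        refine Finset.sum_congr rfl fun k hk => ?_
        rw [HasAntidiagonal.mem_antidiagonal] at hk
        rw [ha, hb, ← hk, pow_add]; ring)
    (fun n m hn hm => by rw [hπinj (hm.trans (map_zero π).symm), hE0, if_neg hn])
    (Set.range fun i : I => (1 : B) ⊗ₜ[A] i)
    (by
      rw [eq_top_iff]
      rintro m -
      induction m using TensorProduct.induction_on with
      | zero => exact Submodule.zero_mem _
      | tmul b i =>
        rw [← mul_one b, ← smul_eq_mul, ← TensorProduct.smul_tmul']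
        exact Submodule.smul_mem _ _ (Submodule.subset_span ⟨i, rfl⟩)
      | add a b ha hb => exact Submodule.add_mem _ ha hb)
    (by
      rintro _ ⟨i, rfl⟩ m n
      simp only [hEt, one_pow, one_mul]
      rw [← map_mul, γ.mul_dpow i.2, map_mul, map_natCast])
    (by
      rintro _ ⟨i, rfl⟩ m n hn
      refine ⟨1 ⊗ₜ ⟨_, γ.dpow_mem hn i.2⟩, by simp [hπt, hEt], ?_⟩
      simp only [hEt, one_pow, one_mul]
      rw [γ.dpow_comp hn i.2, map_mul, map_natCast])
  refine ⟨δ, le_rfl, fun {n} a ha => ?_⟩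
  have := hδ n (1 ⊗ₜ ⟨a, ha⟩)
  rwa [hπt, hEt, one_pow, one_mul, one_mul] at this

end Constructions

end Groth.Agent.CommAlg4.DP
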