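import Mathlib
import Groth.Agent.CommAlg4.DPGen

/-!
# Divided power polynomial algebras

* `exists_torsionFree`: divided powers in a torsion free ring.
* `exists_augIdeal`: the divided powers on the augmentation ideal of `R⟨X⟩`, given by a basis.
* `exists_lift`: universal property.
-/

set_option autoImplicit false
set_option linter.all false

universe u v w

namespace Groth.Agent.CommAlg4.DP

theorem fact_split (i j : ℕ) : (i + j).factorial = (i + j).choose i * i.factorial * j.factorial := by
  have := Nat.choose_mul_factorial_mul_factorial (Nat.le_add_right i j)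
  rw [Nat.add_sub_cancel_left] at this
  exact this.symm

theorem bell_key (m n : ℕ) (hn : n ≠ 0) :
    m.uniformBell n * n.factorial ^ m * m.factorial = (m * n).factorial :=
  Nat.uniformBell_mul_eq m hn

section TorsionFree

variable {A : Type*} [CommRing A] [IsAddTorsionFree A]

theorem fact_cancel {n : ℕ} {a b : A} (h : (n.factorial : A) * a = n.factorial * b) : a = b := by
  rw [← nsmul_eq_mul, ← nsmul_eq_mul] at h
  exact nsmul_right_injective (Nat.factorial_ne_zero n) h

theorem exists_torsionFree (I : Ideal A) (S : Set A) (hS : Ideal.span S = I)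
    (hpow : ∀ x ∈ S, ∀ n : ℕ, 1 ≤ n → ∃ q ∈ I, (n.factorial : A) * q = x ^ n) :
    ∃ γ : DividedPowers I, ∀ n, ∀ x ∈ I, (n.factorial : A) * γ.dpow n x = x ^ n := by
  classical
  have hall : ∀ x ∈ I, ∀ n : ℕ, ∃ q, (n ≠ 0 → q ∈ I) ∧ (n.factorial : A) * q = x ^ n := by
    intro x hx
    rw [← hS] at hx
    refine Submodule.span_induction (p := fun x _ => ∀ n : ℕ, ∃ q, (n ≠ 0 → q ∈ I) ∧ (n.factorial : A) * q = x ^ n)
      ?_ ?_ ?_ ?_ hx
    · intro x hx n
      rcases Nat.eq_zero_or_pos n with rfl | hn
      · exact ⟨1, fun h => absurd rfl h, by simp⟩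
      · obtain ⟨q, hq, hq'⟩ := hpow x hx n hn; exact ⟨q, fun _ => hq, hq'⟩
    · intro n
      rcases Nat.eq_zero_or_pos n with rfl | hn
      · exact ⟨1, fun h => absurd rfl h, by simp⟩
      · exact ⟨0, fun _ => I.zero_mem, by simp [hn.ne']⟩
    · intro x y _ _ hx hy n
      choose qx hqx hqx' using hx
      choose qy hqy hqy' using hy
      refine ⟨∑ k ∈ Finset.HasAntidiagonal.antidiagonal n, qx k.1 * qy k.2, fun hn => ?_, ?_⟩
      · refine Submodule.sum_mem _ fun k hk => ?_
        rw [Finset.HasAntidiagonal.mem_antidiagonal] at hk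
        by_cases h1 : k.1 = 0
        · exact I.mul_mem_left _ (hqy _ (by omega))
        · exact I.mul_mem_right _ (hqx _ h1)
      · rw [Finset.mul_sum, Commute.add_pow' (Commute.all x y)]
        refine Finset.sum_congr rfl fun k hk => ?_
        rw [Finset.HasAntidiagonal.mem_antidiagonal] at hk
        rw [nsmul_eq_mul, ← hqx', ← hqy', ← hk, fact_split k.1 k.2]
        push_cast
        ring
    · intro a x _ hx n
      obtain ⟨q, hq, hq'⟩ := hx n
      exact ⟨a ^ n * q, fun hn => I.mul_mem_left _ (hq hn), by rw [smul_eq_mul, mul_pow, ← hq']; ring⟩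
  let d : ℕ → A → A := fun n x => if hx : x ∈ I then (hall x hx n).choose else 0
  have hd : ∀ n, ∀ x ∈ I, (n.factorial : A) * d n x = x ^ n := fun n x hx => by
    simp only [d, dif_pos hx]; exact (hall x hx n).choose_spec.2
  have hm : ∀ n, ∀ x ∈ I, n ≠ 0 → d n x ∈ I := fun n x hx hn => by
    simp only [d, dif_pos hx]; exact (hall x hx n).choose_spec.1 hn
  refine ⟨
    { dpow := d
      dpow_null := fun hx => dif_neg hx
      dpow_zero := fun {x} hx => fact_cancel (n := 0) (by rw [hd 0 x hx]; simp)
      dpow_one := fun {x} hx => fact_cancel (n := 1) (by rw [hd 1 x hx]; simp)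
      dpow_mem := fun {n x} hn hx => hm n x hx hn
      dpow_add := fun {n x y} hx hy => fact_cancel (n := n) (by
        rw [hd n _ (I.add_mem hx hy), Finset.mul_sum, Commute.add_pow' (Commute.all x y)]
        refine Finset.sum_congr rfl fun k hk => ?_
        rw [Finset.HasAntidiagonal.mem_antidiagonal] at hk
        rw [nsmul_eq_mul, ← hd k.1 x hx, ← hd k.2 y hy, ← hk,
          fact_split k.1 k.2]
        push_cast
        ring)
      dpow_mul := fun {n a x} hx => fact_cancel (n := n) (by
        rw [hd n _ (I.mul_mem_left a hx), mul_pow, ← hd n x hx]; ring)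
      mul_dpow := fun {m n x} hx => fact_cancel (n := m) (fact_cancel (n := n) (by
        have h1 := hd (m + n) x hx
        rw [fact_split m n, pow_add, ← hd m x hx, ← hd n x hx] at h1
        push_cast at h1
        linear_combination -h1))
      dpow_comp := fun {m n x} hn hx => fact_cancel (n := m) (by
        have h1 := hd (m * n) x hx
        have h2 := hd m (d n x) (hm n x hx hn)
        rw [← bell_key m n hn, mul_comm m n, pow_mul, ← hd n x hx, mul_pow, ← h2, mul_comm n m] at h1
        push_cast at h1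
        apply nsmul_right_injective (pow_ne_zero m (Nat.factorial_ne_zero n))
        simp only [nsmul_eq_mul]
        push_cast
        linear_combination -h1) },
    hd⟩

end TorsionFree

section Mon

variable {Λ : Type*} {P : Type*} [CommRing P]

/-- The monomial `∏ x l (e l)`. -/
noncomputable def mon (x : Λ → ℕ → P) (e : Λ →₀ ℕ) : P := e.prod fun l k => x l k

theorem mon_eq_prod (x : Λ → ℕ → P) (hx0 : ∀ l, x l 0 = 1) (e : Λ →₀ ℕ) (s : Finset Λ) (hs : e.support ⊆ s) :
    mon x e = ∏ l ∈ s, x l (e l) :=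
  Finsupp.prod_of_support_subset e hs _ fun l _ => hx0 l

open Classical in
/-- The coefficient of a product of monomials. -/
noncomputable def monN (e f : Λ →₀ ℕ) : ℕ := ∏ l ∈ e.support ∪ f.support, (e l + f l).choose (e l)

theorem mon_mul (x : Λ → ℕ → P) (hx0 : ∀ l, x l 0 = 1)
    (hxmul : ∀ l n m, x l n * x l m = ((n + m).choose n : P) * x l (n + m)) (e f : Λ →₀ ℕ) :
    mon x e * mon x f = (monN e f : P) * mon x (e + f) := by
  classical
  rw [mon_eq_prod x hx0 e _ (Finset.subset_union_left (s₂ := f.support)),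
    mon_eq_prod x hx0 f _ (Finset.subset_union_right (s₁ := e.support)),
    mon_eq_prod x hx0 (e + f) _ Finsupp.support_add, monN, Nat.cast_prod, ← Finset.prod_mul_distrib,
    ← Finset.prod_mul_distrib]
  exact Finset.prod_congr rfl fun l _ => by rw [hxmul, Finsupp.add_apply]

theorem mon_single (x : Λ → ℕ → P) (hx0 : ∀ l, x l 0 = 1) (l : Λ) (n : ℕ) :
    mon x (Finsupp.single l n) = x l n := Finsupp.prod_single_index (hx0 l)

theorem mon_zero (x : Λ → ℕ → P) : mon x 0 = 1 := Finsupp.prod_zero_index

theorem mon_mem_span (x : Λ → ℕ → P) (hx0 : ∀ l, x l 0 = 1) {e : Λ →₀ ℕ} (he : e ≠ 0) :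
    mon x e ∈ Ideal.span {y : P | ∃ (l : Λ) (n : ℕ), 1 ≤ n ∧ y = x l n} := by
  classical
  obtain ⟨l, hl⟩ := Finsupp.support_nonempty_iff.mpr he
  rw [mon, Finsupp.prod, ← Finset.mul_prod_erase _ _ hl]
  exact Ideal.mul_mem_right _ _ (Ideal.subset_span ⟨l, e l, Nat.one_le_iff_ne_zero.mpr (Finsupp.mem_support_iff.mp hl), rfl⟩)

end Mon

section Poly

variable {R : Type*} [CommRing R] {Λ : Type*} {P : Type*} [CommRing P] [Algebra R P]
  (x : Λ → ℕ → P) (hx0 : ∀ l, x l 0 = 1)
  (hxmul : ∀ l n m, x l n * x l m = ((n + m).choose n : P) * x l (n + m))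
  (b : Module.Basis (Λ →₀ ℕ) R P) (hb : ∀ e : Λ →₀ ℕ, b e = mon x e)

/-- The augmentation ideal. -/
def aug : Ideal P := Ideal.span {y : P | ∃ (l : Λ) (n : ℕ), 1 ≤ n ∧ y = x l n}

include hx0 hxmul hb in
theorem repr_zero_of_mem {y : P} (hy : y ∈ aug x) : b.repr y 0 = 0 := by
  classical
  suffices h : ∀ c : P, b.repr (c * y) 0 = 0 by simpa using h 1
  refine Submodule.span_induction (p := fun y _ => ∀ c : P, b.repr (c * y) 0 = 0) ?_ ?_ ?_ ?_ hy
  · rintro _ ⟨l, n, hn, rfl⟩ c
    rw [← b.linearCombination_repr c, Finsupp.linearCombination_apply, Finsupp.sum, Finset.sum_mul, map_sum,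
      Finsupp.finsetSum_apply]
    refine Finset.sum_eq_zero fun f _ => ?_
    rw [smul_mul_assoc, hb, ← mon_single x hx0 l n, mon_mul x hx0 hxmul, ← hb, ← nsmul_eq_mul,
      map_smul, map_nsmul, b.repr_self]
    have hne : f + Finsupp.single l n ≠ 0 := fun h => by
      have := DFunLike.congr_fun h l
      simp at this; omega
    simp [Finsupp.single_eq_of_ne hne.symm]
  · intro c; simp
  · intro y z _ _ hy hz c; simp [mul_add, hy c, hz c]
  · intro a y _ hy c; rw [smul_eq_mul, ← mul_assoc]; exact hy _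

include hx0 hxmul hb in
theorem span_basis_of_mem {y : P} (hy : y ∈ aug x) :
    y ∈ Submodule.span R (b '' {e | e ≠ 0}) := by
  rw [b.mem_span_image]
  intro e he hzero
  rw [Finset.mem_coe, Finsupp.mem_support_iff] at he
  exact he (by rw [hzero]; exact repr_zero_of_mem x hx0 hxmul b hb hy)

section Universal

variable {S : Type*} [CommRing S] [Algebra R S] {J : Ideal S} (δ : DividedPowers J) (s : Λ → S)

include hx0 hxmul hb in
theorem exists_lift (hs : ∀ l, s l ∈ J) (γ : DividedPowers (aug x))
    (hγ : ∀ l n, γ.dpow n (x l 1) = x l n) :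
    ∃! φ : P →ₐ[R] S, γ.IsDPMorphism δ φ.toRingHom ∧ ∀ l, φ (x l 1) = s l := by
  classical
  let y : Λ → ℕ → S := fun l n => δ.dpow n (s l)
  have hy0 : ∀ l, y l 0 = 1 := fun l => δ.dpow_zero (hs l)
  have hymul : ∀ l n m, y l n * y l m = ((n + m).choose n : S) * y l (n + m) := fun l n m => δ.mul_dpow (hs l)
  let L : P →ₗ[R] S := b.constr R (mon y)
  have hL : ∀ e, L (b e) = mon y e := fun e => b.constr_basis R _ e
  have hLmul : ∀ p q, L (p * q) = L p * L q := by
    have := LinearMap.ext_basis (B := (LinearMap.mul R P).compr₂ L) (B' := (LinearMap.mul R S).compl₁₂ L L) b b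
      fun e f => by
        simp only [LinearMap.compr₂_apply, LinearMap.compl₁₂_apply, LinearMap.mul_apply', hL]
        rw [hb, hb, mon_mul x hx0 hxmul, mon_mul y hy0 hymul, ← hb, ← nsmul_eq_mul, map_nsmul, hL, nsmul_eq_mul]
    exact fun p q => LinearMap.congr_fun₂ this p q
  let φ : P →ₐ[R] S := AlgHom.ofLinearMap L
    (by rw [← mon_zero x, ← hb, hL, mon_zero]) hLmul
  have hx : ∀ l n, φ (x l n) = y l n := fun l n => by
    change L (x l n) = _
    rw [← mon_single x hx0, ← hb, hL, mon_single y hy0]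
  have hx1 : ∀ l, x l 1 ∈ aug x := fun l => Ideal.subset_span ⟨l, 1, le_rfl, rfl⟩
  refine ⟨φ, ⟨DividedPowers.IsDPMorphism.on_span γ δ (S := {y : P | ∃ (l : Λ) (n : ℕ), 1 ≤ n ∧ y = x l n}) rfl ?_ ?_,
    fun l => ?_⟩, ?_⟩
  · rintro _ ⟨l, n, hn, rfl⟩
    change φ (x l n) ∈ J
    rw [hx]; exact δ.dpow_mem (by omega) (hs l)
  · rintro m _ ⟨l, n, hn, rfl⟩
    change φ (γ.dpow m (x l n)) = δ.dpow m (φ (x l n))
    rw [hx, δ.dpow_comp (by omega) (hs l), ← hγ l n, γ.dpow_comp (by omega) (hx1 l), map_mul, map_natCast, hγ, hx]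
  · rw [hx]; exact δ.dpow_one (hs l)
  · rintro ψ ⟨hψ, hψ1⟩
    refine AlgHom.toLinearMap_injective (b.ext fun e => ?_)
    change ψ (b e) = φ (b e)
    rw [hb, mon, map_finsuppProd, map_finsuppProd]
    refine Finsupp.prod_congr fun l _ => ?_
    rw [hx, ← hγ l (e l)]
    have := hψ.map_dpow (n := e l) (hx1 l)
    rw [AlgHom.toRingHom_eq_coe, RingHom.coe_coe] at this
    rw [this, hψ1]

end Universal

include hx0 hxmul hb in
theorem exists_augIdeal :
    ∃! γ : DividedPowers (aug x), ∀ l n, γ.dpow n (x l 1) = x l n := by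
  classical
  have huniq : ∀ γ γ' : DividedPowers (aug x), (∀ l n, γ.dpow n (x l 1) = x l n) →
      (∀ l n, γ'.dpow n (x l 1) = x l n) → γ = γ' := by
    intro γ γ' h h'
    refine DividedPowers.dpow_eq_from_gens (S := {y : P | ∃ (l : Λ) (n : ℕ), 1 ≤ n ∧ y = x l n}) γ' γ rfl ?_
    rintro m _ ⟨l, n, hn, rfl⟩
    have hx1 : x l 1 ∈ aug x := Ideal.subset_span ⟨l, 1, le_rfl, rfl⟩
    conv_lhs => rw [← h' l n, γ'.dpow_comp (by omega) hx1, h']
    conv_rhs => rw [← h l n, γ.dpow_comp (by omega) hx1, h]
  -- the torsion free model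
  let Q := MvPolynomial Λ ℚ
  let q : Λ → ℕ → Q := fun l n => MvPolynomial.monomial (Finsupp.single l n) ((n.factorial : ℚ)⁻¹)
  have hq0 : ∀ l, q l 0 = 1 := fun l => by simp [q]
  have hqmul : ∀ l n m, q l n * q l m = ((n + m).choose n : Q) * q l (n + m) := by
    intro l n m
    simp only [q]
    rw [MvPolynomial.monomial_mul, ← Finsupp.single_add, ← map_natCast MvPolynomial.C,
      MvPolynomial.C_mul_monomial]
    congr 1
    rw [fact_split n m]
    have hc : ((n + m).choose n : ℚ) ≠ 0 := by
      exact_mod_cast (Nat.choose_pos (Nat.le_add_right n m)).ne'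
    push_cast
    field_simp
  let z : Λ → ℕ → Q × P := fun l n => (q l n, x l n)
  have hz0 : ∀ l, z l 0 = 1 := fun l => Prod.ext (hq0 l) (hx0 l)
  have hzmul : ∀ l n m, z l n * z l m = ((n + m).choose n : Q × P) * z l (n + m) := fun l n m =>
    Prod.ext (by simpa using hqmul l n m) (by simpa using hxmul l n m)
  have hzmon : ∀ e, mon z e = (mon q e, mon x e) := by
    intro e
    apply Prod.ext
    · exact map_finsuppProd (RingHom.fst Q P) e (fun l k => z l k)
    · exact map_finsuppProd (RingHom.snd Q P) e (fun l k => z l k)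
  let T : Subring (Q × P) := Subring.closure {y | ∃ l n, y = z l n}
  let V : Submodule ℤ (Q × P) := Submodule.span ℤ (Set.range (mon z))
  have hVmul : ∀ a ∈ V, ∀ c ∈ V, a * c ∈ V := by
    intro a ha c hc
    induction ha using Submodule.span_induction with
    | mem a ha =>
      induction hc using Submodule.span_induction with
      | mem c hc =>
        obtain ⟨e, rfl⟩ := ha
        obtain ⟨f, rfl⟩ := hc
        rw [mon_mul z hz0 hzmul, ← nsmul_eq_mul]
        exact nsmul_mem (show mon z (e + f) ∈ V from Submodule.subset_span (Set.mem_range_self (e + f))) _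
      | zero => rw [mul_zero]; exact V.zero_mem
      | add c c' _ _ h h' => rw [mul_add]; exact V.add_mem h h'
      | smul k c _ h => rw [mul_smul_comm]; exact V.smul_mem k h
    | zero => rw [zero_mul]; exact V.zero_mem
    | add a a' _ _ h h' => rw [add_mul]; exact V.add_mem h h'
    | smul k a _ h => rw [smul_mul_assoc]; exact V.smul_mem k h
  have hTV : ∀ a ∈ T, a ∈ V := by
    intro a ha
    induction ha using Subring.closure_induction with
    | mem a ha => obtain ⟨l, n, rfl⟩ := ha; exact Submodule.subset_span ⟨Finsupp.single l n, mon_single z hz0 l n⟩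
    | zero => exact V.zero_mem
    | one => exact Submodule.subset_span ⟨0, mon_zero z⟩
    | add a c _ _ h h' => exact V.add_mem h h'
    | neg a _ h => exact V.neg_mem h
    | mul a c _ _ h h' => exact hVmul a h c h'
  -- the first projection is injective
  have hqmon : ∀ e, mon q e = MvPolynomial.monomial e (e.prod fun _ k => ((k.factorial : ℚ)⁻¹)) := by
    intro e
    simp only [mon, q, Finsupp.prod]
    have hprod : ∀ (t : Finset Λ) (c : Λ → ℚ), ∏ a ∈ t, MvPolynomial.monomial (Finsupp.single a (e a)) (c a) =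
        MvPolynomial.monomial (∑ a ∈ t, Finsupp.single a (e a)) (∏ a ∈ t, c a) := by
      intro t c
      induction t using Finset.induction with
      | empty => simp
      | insert a t ha ih => rw [Finset.prod_insert ha, ih, MvPolynomial.monomial_mul, Finset.sum_insert ha, Finset.prod_insert ha]
    rw [hprod]
    exact congrArg (fun i => MvPolynomial.monomial i _) (Finsupp.sum_single e)
  have hinj : ∀ a ∈ T, a.1 = 0 → a = 0 := by
    intro a ha h1
    obtain ⟨c, rfl⟩ := Finsupp.mem_span_range_iff_exists_finsupp.mp (hTV a ha)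
    suffices hc : c = 0 by simp [hc]
    ext e
    have := congrArg (MvPolynomial.coeff e) h1
    simp only [Finsupp.sum, Prod.fst_sum, Prod.smul_fst, hzmon, hqmon, MvPolynomial.coeff_sum,
      MvPolynomial.coeff_zero] at this
    simp only [zsmul_eq_mul] at this
    rw [MvPolynomial.coeff_sum] at this
    simp only [← map_intCast (MvPolynomial.C (R := ℚ) (σ := Λ))] at this
    rw [Finset.sum_eq_single e (fun f _ hf => by erw [MvPolynomial.coeff_C_mul]; rw [MvPolynomial.coeff_monomial, if_neg hf, mul_zero]) (fun hf => by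
      rw [Finsupp.notMem_support_iff.mp hf]; simp)] at this
    erw [MvPolynomial.coeff_C_mul] at this
    rw [MvPolynomial.coeff_monomial, if_pos rfl] at this
    have hne : (e.prod fun _ k => ((k.factorial : ℚ)⁻¹)) ≠ 0 :=
      Finset.prod_ne_zero_iff.mpr fun l _ => inv_ne_zero (by positivity)
    exact_mod_cast (mul_eq_zero.mp this).resolve_right hne
  let T' := ↥T
  haveI : IsAddTorsionFree T' :=
    Function.Injective.isAddTorsionFree ((RingHom.fst Q P).comp T.subtype).toAddMonoidHom
      (by
        rw [injective_iff_map_eq_zero]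
        exact fun a h => Subtype.ext (hinj _ a.2 h))
  let g : Λ → ℕ → T' := fun l n => ⟨z l n, Subring.subset_closure ⟨l, n, rfl⟩⟩
  have hg0 : ∀ l, g l 0 = 1 := fun l => Subtype.ext (hz0 l)
  have hgmul : ∀ l n m, g l n * g l m = ((n + m).choose n : T') * g l (n + m) := fun l n m =>
    Subtype.ext (hzmul l n m)
  let J : Ideal T' := aug g
  have hfact : ∀ l n, (n.factorial : T') * g l n = g l 1 ^ n := by
    intro l n
    induction n with
    | zero => simp [hg0]
    | succ n ih =>
      rw [pow_succ, ← ih, mul_assoc, hgmul, Nat.choose_succ_self_right, ← mul_assoc, ← Nat.cast_mul,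
        Nat.mul_comm n.factorial, ← Nat.factorial_succ]
  obtain ⟨γ, hγ⟩ := exists_torsionFree J {y : T' | ∃ (l : Λ) (n : ℕ), 1 ≤ n ∧ y = g l n} rfl (by
    rintro _ ⟨l, n, hn, rfl⟩ m hm
    refine ⟨(m.uniformBell n : T') * g l (m * n),
      Ideal.mul_mem_left _ _ (Ideal.subset_span ⟨l, m * n, Nat.one_le_iff_ne_zero.mpr (Nat.mul_ne_zero (by omega) (by omega)), rfl⟩), ?_⟩
    apply nsmul_right_injective (pow_ne_zero m (Nat.factorial_ne_zero n))
    simp only [nsmul_eq_mul, Nat.cast_pow]
    calc (n.factorial : T') ^ m * ((m.factorial : T') * ((m.uniformBell n : T') * g l (m * n)))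
        = ((m.uniformBell n * n.factorial ^ m * m.factorial : ℕ) : T') * g l (m * n) := by push_cast; ring
      _ = g l 1 ^ (m * n) := by rw [bell_key m n (by omega), hfact]
      _ = (n.factorial : T') ^ m * g l n ^ m := by rw [← mul_pow, hfact, ← pow_mul, Nat.mul_comm])
  let ψ : T' →+* P := (RingHom.snd Q P).comp T.subtype
  have hψg : ∀ l n, ψ (g l n) = x l n := fun l n => rfl
  have hψmon : ∀ e, ψ (mon g e) = b e := fun e => by rw [hb, mon, mon, map_finsuppProd]; rfl
  have hgJ : ∀ {e}, e ≠ 0 → mon g e ∈ J := fun he => mon_mem_span g hg0 he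
  -- exponential data on `aug x`
  let Ee : (Λ →₀ ℕ) → ℕ → P := fun e n => if e = 0 then (if n = 0 then 1 else 0) else ψ (γ.dpow n (mon g e))
  have hEe : ∀ e i j, Ee e i * Ee e j = ((i + j).choose i : P) * Ee e (i + j) := by
    intro e i j
    by_cases he : e = 0
    · simp only [Ee, if_pos he]
      rcases Nat.eq_zero_or_pos i with rfl | hi
      · simp
      · simp [hi.ne']
    · simp only [Ee, if_neg he]; rw [← map_mul, γ.mul_dpow (hgJ he), map_mul, map_natCast]
  have hEe0 : ∀ e, Ee e 0 = 1 := fun e => by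
    by_cases he : e = 0
    · simp [Ee, he]
    · simp [Ee, he, γ.dpow_zero (hgJ he)]
  let ser : (Λ →₀ ℕ) → R → PowerSeries P := fun e r => PowerSeries.mk fun n => algebraMap R P r ^ n * Ee e n
  have hser : ∀ e r r', ser e (r + r') = ser e r * ser e r' := by
    intro e r r'
    ext n
    simp only [ser, PowerSeries.coeff_mk, PowerSeries.coeff_mul, map_add,
      Commute.add_pow' (Commute.all (algebraMap R P r) (algebraMap R P r')), Finset.sum_mul]
    refine Finset.sum_congr rfl fun k hk => ?_
    rw [Finset.HasAntidiagonal.mem_antidiagonal] at hk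
    calc n.choose k.1 • (algebraMap R P r ^ k.1 * algebraMap R P r' ^ k.2) * Ee e n
        = algebraMap R P r ^ k.1 * algebraMap R P r' ^ k.2 * ((k.1 + k.2).choose k.1 * Ee e (k.1 + k.2)) := by
          rw [hk, nsmul_eq_mul]; ring
      _ = _ := by rw [← hEe]; ring
  have hser0 : ∀ e, ser e 0 = 1 := by
    intro e; ext n
    rcases Nat.eq_zero_or_pos n with rfl | hn
    · simp [ser, hEe0]
    · simp [ser, hn.ne']
  let Lser : ((Λ →₀ ℕ) →₀ R) →+ Additive (PowerSeries P) := Finsupp.liftAddHom fun e =>
    { toFun := fun r => Additive.ofMul (ser e r)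
      map_zero' := by rw [hser0]; rfl
      map_add' := fun r r' => by rw [hser, ofMul_mul] }
  let E : ℕ → aug x → P := fun n y => PowerSeries.coeff n (Additive.toMul (Lser (b.repr (y : P))))
  let F : ℕ → P → P := fun n y => PowerSeries.coeff n (Additive.toMul (Lser (b.repr y)))
  have Fadd : ∀ n a c, F n (a + c) = ∑ k ∈ Finset.HasAntidiagonal.antidiagonal n, F k.1 a * F k.2 c :=
    fun n a c => by simp only [F, map_add, toMul_add, PowerSeries.coeff_mul]
  have Fzero : ∀ n, F n 0 = if n = 0 then 1 else 0 := fun n => by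
    simp only [F, map_zero, toMul_zero, PowerSeries.coeff_one]
  have Fb : ∀ n r e, F n (r • b e) = algebraMap R P r ^ n * Ee e n := by
    intro n r e
    simp only [F, map_smul, b.repr_self, Finsupp.smul_single', mul_one, Lser, Finsupp.liftAddHom_apply_single]
    change PowerSeries.coeff n (ser e r) = _
    simp [ser]
  -- multiplication by an element
  have Fmul : ∀ n (c y : P), y ∈ aug x → F n (c * y) = c ^ n * F n y := by
    intro n c y hy
    have hy' := span_basis_of_mem x hx0 hxmul b hb hy
    clear hy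
    suffices hsuff : ∀ y ∈ Submodule.span R (b '' {e | e ≠ 0}), ∀ (r : R) (n : ℕ),
        F n (c * (r • y)) = c ^ n * F n (r • y) by simpa using hsuff y hy' 1 n
    intro y hy
    induction hy using Submodule.span_induction with
    | mem y hy =>
      obtain ⟨e, he, rfl⟩ := hy
      intro r
      have hsingle : ∀ i j, F i (r • b e) * F j (r • b e) = ((i + j).choose i : P) * F (i + j) (r • b e) := by
        intro i j
        rw [Fb, Fb, Fb]
        calc algebraMap R P r ^ i * Ee e i * (algebraMap R P r ^ j * Ee e j)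
            = algebraMap R P r ^ (i + j) * (Ee e i * Ee e j) := by ring
          _ = _ := by rw [hEe]; ring
      clear n
      have hc : c ∈ Submodule.span R (Set.range b) := by rw [b.span_eq]; trivial
      suffices hsuff : ∀ (t : R) (n : ℕ), F n (t • c * r • b e) = (t • c) ^ n * F n (r • b e) by
        simpa using hsuff 1
      induction hc using Submodule.span_induction with
      | zero =>
        intro t n
        rw [smul_zero, zero_mul, Fzero]
        rcases Nat.eq_zero_or_pos n with rfl | hn
        · simp [Fb, hEe0]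
        · simp [hn.ne']
      | add c c' _ _ hc hc' =>
        intro t n
        rw [smul_add, add_mul, Fadd, Commute.add_pow' (Commute.all (t • c) (t • c')), Finset.sum_mul]
        refine Finset.sum_congr rfl fun k hk => ?_
        rw [Finset.HasAntidiagonal.mem_antidiagonal] at hk
        rw [hc, hc']
        calc (t • c) ^ k.1 * F k.1 (r • b e) * ((t • c') ^ k.2 * F k.2 (r • b e))
            = (t • c) ^ k.1 * (t • c') ^ k.2 * (F k.1 (r • b e) * F k.2 (r • b e)) := by ring
          _ = _ := by rw [hsingle, hk, nsmul_eq_mul]; ring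
      | mem c hc =>
        obtain ⟨f, rfl⟩ := hc
        intro s n
        have hfe : f + e ≠ 0 := fun h => he (by
          ext l; have := DFunLike.congr_fun h l; simp at this ⊢; omega)
        have e1 : (s • b f) * (r • b e) = ((monN f e : R) * (s * r)) • b (f + e) := by
          rw [smul_mul_smul_comm, hb, hb, mon_mul x hx0 hxmul, ← hb, Algebra.smul_def, Algebra.smul_def,
            map_mul, map_mul, map_mul, map_natCast]
          ring
        rw [e1, Fb, Fb, Algebra.smul_def s (b f)]
        simp only [Ee, if_neg hfe, if_neg (show ¬ e = 0 from he), map_mul, map_natCast]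
        have e2 := congrArg ψ (congrArg (γ.dpow n) (mon_mul g hg0 hgmul f e))
        rw [γ.dpow_mul (hgJ he), γ.dpow_mul (hgJ hfe), map_mul, map_mul, map_pow, map_pow, map_natCast, hψmon] at e2
        linear_combination (-(algebraMap R P s ^ n * algebraMap R P r ^ n)) * e2
      | smul a c _ h => intro t n; rw [smul_smul]; exact h _ _
    | zero =>
      intro r n
      rw [smul_zero, mul_zero, Fzero]
      rcases Nat.eq_zero_or_pos n with rfl | hn
      · simp
      · simp [hn.ne']
    | add y y' _ _ h h' =>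
      intro r n
      rw [smul_add, mul_add, Fadd, Fadd, Finset.mul_sum]
      refine Finset.sum_congr rfl fun k hk => ?_
      rw [Finset.HasAntidiagonal.mem_antidiagonal] at hk
      rw [h, h', ← hk, pow_add]; ring
    | smul a y _ h => intro r n; rw [smul_smul]; exact h _ _
  have hψJ : ∀ j ∈ J, ψ j ∈ aug x := by
    intro j hj
    refine (Ideal.span_le.mpr ?_ : J ≤ (aug x).comap ψ) hj
    rintro _ ⟨l, n, hn, rfl⟩
    exact Ideal.subset_span ⟨l, n, hn, hψg l n⟩
  have Fψ : ∀ j ∈ J, ∀ n, F n (ψ j) = ψ (γ.dpow n j) := by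
    intro j hj
    refine (Submodule.span_induction (p := fun j _ => j ∈ J ∧ ∀ n, F n (ψ j) = ψ (γ.dpow n j)) ?_ ?_ ?_ ?_ hj).2
    · rintro _ ⟨l, n, hn, rfl⟩
      refine ⟨Ideal.subset_span ⟨l, n, hn, rfl⟩, fun m => ?_⟩
      have hne : Finsupp.single l n ≠ 0 := by simpa using (by omega : n ≠ 0)
      rw [← mon_single g hg0 l n, hψmon, ← one_smul R (b _), Fb, map_one, one_pow, one_mul]
      simp only [Ee, if_neg hne]
    · refine ⟨J.zero_mem, fun n => ?_⟩
      rw [map_zero, Fzero]
      rcases Nat.eq_zero_or_pos n with rfl | hn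
      · simp [γ.dpow_zero J.zero_mem]
      · simp [hn.ne', γ.dpow_eval_zero hn.ne']
    · rintro a c _ _ ⟨ha, ha'⟩ ⟨hc, hc'⟩
      refine ⟨J.add_mem ha hc, fun n => ?_⟩
      rw [map_add, Fadd, γ.dpow_add ha hc, map_sum]
      simp only [ha', hc', map_mul]
    · rintro a c _ ⟨hc, hc'⟩
      refine ⟨J.mul_mem_left a hc, fun n => ?_⟩
      rw [smul_eq_mul, map_mul, Fmul n _ _ (hψJ c hc), hc', γ.dpow_mul hc, map_mul, map_pow]
  have F01 : ∀ y : P, y ∈ aug x → F 0 y = 1 ∧ F 1 y = y ∧ ∀ n, n ≠ 0 → F n y ∈ aug x := by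
    intro y hy
    have hy' := span_basis_of_mem x hx0 hxmul b hb hy
    clear hy
    suffices h : ∀ r : R, F 0 (r • y) = 1 ∧ F 1 (r • y) = r • y ∧ ∀ n, n ≠ 0 → F n (r • y) ∈ aug x by
      simpa using h 1
    induction hy' using Submodule.span_induction with
    | mem y hy =>
      obtain ⟨e, he, rfl⟩ := hy
      intro r
      refine ⟨by simp [Fb, hEe0], ?_, fun n hn => ?_⟩
      · rw [Fb, pow_one]
        simp only [Ee, if_neg (show ¬ e = 0 from he), γ.dpow_one (hgJ he), hψmon, Algebra.smul_def]
      · rw [Fb]; simp only [Ee, if_neg (show ¬ e = 0 from he)]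
        exact Ideal.mul_mem_left _ _ (hψJ _ (γ.dpow_mem hn (hgJ he)))
    | zero => intro r; refine ⟨by simp [Fzero], by simp [Fzero], fun n hn => by simp [Fzero, hn]⟩
    | add y y' _ _ h h' =>
      intro r
      obtain ⟨a0, a1, am⟩ := h r
      obtain ⟨c0, c1, cm⟩ := h' r
      refine ⟨?_, ?_, fun n hn => ?_⟩
      · simp [smul_add, Fadd, a0, c0]
      · rw [smul_add, Fadd, Finset.Nat.sum_antidiagonal_eq_sum_range_succ_mk, Finset.sum_range_succ, Finset.sum_range_one]
        simp [a0, c0, a1, c1, add_comm]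
      · rw [smul_add, Fadd]
        refine Submodule.sum_mem _ fun k hk => ?_
        rw [Finset.HasAntidiagonal.mem_antidiagonal] at hk
        by_cases h1 : k.1 = 0
        · exact Ideal.mul_mem_left _ _ (cm _ (by omega))
        · exact Ideal.mul_mem_right _ _ (am _ h1)
    | smul a y _ h => intro r; rw [smul_smul]; exact h _
  obtain ⟨δ, hδ⟩ := exists_of_linear (aug x) (aug x).subtype (by simp) E
    (fun m => (F01 _ m.2).1) (fun m => (F01 _ m.2).2.1) (fun n m hn => (F01 _ m.2).2.2 n hn)
    (fun n a c => Fadd n _ _) (fun n c m => Fmul n c _ m.2)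
    (fun n m hn hm => by
      have : (m : P) = 0 := hm
      change F n (m : P) = 0
      rw [this, Fzero, if_neg hn])
    {m : aug x | ∃ e, e ≠ 0 ∧ (m : P) = b e}
    (by
      rw [eq_top_iff]
      rintro ⟨y, hy⟩ -
      induction hy using Submodule.span_induction with
      | mem y hy =>
        obtain ⟨l, n, hn, rfl⟩ := hy
        exact Submodule.subset_span ⟨Finsupp.single l n, by simpa using (by omega : n ≠ 0),
          by rw [hb, mon_single x hx0]⟩
      | zero => exact Submodule.zero_mem _
      | add y y' _ _ h h' => exact Submodule.add_mem _ h h'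
      | smul a y _ h => exact Submodule.smul_mem _ a h)
    (by
      rintro ⟨y, hy⟩ ⟨e, he, rfl⟩ i j
      change F i (b e) * F j (b e) = _ * F (i + j) (b e)
      rw [← hψmon e, Fψ _ (hgJ he), Fψ _ (hgJ he), Fψ _ (hgJ he), ← map_mul, γ.mul_dpow (hgJ he), map_mul, map_natCast])
    (by
      rintro ⟨y, hy⟩ ⟨e, he, rfl⟩ m n hn
      refine ⟨⟨ψ (γ.dpow n (mon g e)), hψJ _ (γ.dpow_mem hn (hgJ he))⟩, ?_, ?_⟩
      · change ψ _ = F n (b e)
        rw [← hψmon e, Fψ _ (hgJ he)]
      · change F m (ψ _) = _ * F (m * n) (b e)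
        rw [← hψmon e, Fψ _ (hgJ he), Fψ _ (γ.dpow_mem hn (hgJ he)), γ.dpow_comp hn (hgJ he), map_mul, map_natCast])
  have hδx : ∀ l n, δ.dpow n (x l 1) = x l n := by
    intro l n
    have h1 : g l 1 ∈ J := Ideal.subset_span ⟨l, 1, le_rfl, rfl⟩
    have h := hδ n ⟨x l 1, Ideal.subset_span ⟨l, 1, le_rfl, rfl⟩⟩
    simp only [Submodule.coe_subtype] at h
    rw [h]
    change F n (x l 1) = _
    rw [← hψg l 1, Fψ _ h1]
    conv_rhs => rw [← hψg l n]
    congr 1
    exact fact_cancel (n := n) (by rw [hγ n _ h1, hfact])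
  exact ⟨δ, hδx, fun γ' h' => huniq γ' δ h' hδx⟩

end Poly

end Groth.Agent.CommAlg4.DP
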