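import Mathlib
import Groth.Agent.CommAlg4.DPGen

/-!
# Divided powers from the `p`th one, over rings where integers prime to `p` are invertible
-/

set_option autoImplicit false
set_option linter.all false

universe u

open Finset

namespace Groth.Agent.CommAlg4.DP

/-- The data of a `p`th divided power. -/
structure PData {A : Type*} [CommRing A] (p : ℕ) (I : Ideal A) (d : A → A) : Prop where
  hA : ∀ n : ℕ, ¬ p ∣ n → IsUnit (n : A)
  hdI : ∀ x ∈ I, d x ∈ I
  h1 : ∀ x ∈ I, (p.factorial : A) * d x = x ^ p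
  h2 : ∀ (a x : A), x ∈ I → d (a * x) = a ^ p * d x
  h3 : ∀ x ∈ I, ∀ y ∈ I, d (x + y) = d x + d y +
    ((HasAntidiagonal.antidiagonal p).filter fun k => 0 < k.1 ∧ 0 < k.2).sum
      fun k => Ring.inverse ((k.1.factorial * k.2.factorial : ℕ) : A) * x ^ k.1 * y ^ k.2

section Numbers

variable {p : ℕ}

/-- The normalising integer. -/
def unum (p n : ℕ) : ℕ := n.choose (n % p) * (n % p).factorial * (n / p).uniformBell p

theorem not_dvd_bell (hp : p.Prime) (q : ℕ) : ¬ p ∣ q.uniformBell p := by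
  rw [Nat.uniformBell_eq, hp.prime.dvd_finsetProd_iff]
  rintro ⟨i, -, hi⟩
  haveI : Fact p.Prime := ⟨hp⟩
  have := @Choose.choose_modEq_choose_mod_mul_choose_div_nat (i * p + p - 1) (p - 1) p _
  rw [show i * p + p - 1 = p - 1 + i * p by have := hp.pos; omega, Nat.add_mul_mod_self_right,
    Nat.add_mul_div_right _ _ hp.pos, Nat.mod_eq_of_lt (Nat.sub_lt hp.pos one_pos),
    Nat.div_eq_of_lt (Nat.sub_lt hp.pos one_pos), Nat.choose_self, Nat.choose_zero_right] at this
  rw [show i * p + p - 1 = p - 1 + i * p by have := hp.pos; omega] at hi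
  have h0 := Nat.modEq_zero_iff_dvd.mpr hi
  have : 0 ≡ 1 [MOD p] := h0.symm.trans this
  have := Nat.le_of_dvd one_pos ((Nat.modEq_iff_dvd' (Nat.zero_le 1)).mp this)
  have := hp.two_le
  omega

theorem not_dvd_unum (hp : p.Prime) (n : ℕ) : ¬ p ∣ unum p n := by
  rw [unum, hp.dvd_mul, hp.dvd_mul]
  rintro ((h | h) | h)
  · haveI : Fact p.Prime := ⟨hp⟩
    have := @Choose.choose_modEq_choose_mod_mul_choose_div_nat n (n % p) p _
    rw [Nat.mod_mod, Nat.choose_self, Nat.div_eq_of_lt (Nat.mod_lt _ hp.pos), Nat.choose_zero_right] at this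
    have h01 : 0 ≡ 1 [MOD p] := (Nat.modEq_zero_iff_dvd.mpr h).symm.trans this
    have := Nat.le_of_dvd one_pos ((Nat.modEq_iff_dvd' (Nat.zero_le 1)).mp h01)
    have := hp.two_le
    omega
  · exact absurd ((hp.dvd_factorial).mp h) (not_le.mpr (Nat.mod_lt _ hp.pos))
  · exact not_dvd_bell hp _ h

end Numbers

variable {A : Type*} [CommRing A]

/-- The candidate divided powers. -/
noncomputable def gg (p : ℕ) (d : A → A) : ℕ → A → A
  | n => fun x =>
    if h : n = 0 ∨ p < 2 then 1
    else Ring.inverse (unum p n : A) * x ^ (n % p) * gg p d (n / p) (d x)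
  termination_by n => n
  decreasing_by exact Nat.div_lt_self (by omega) (by omega)

variable {p : ℕ} (hp : p.Prime) {I : Ideal A} {d : A → A}

theorem gg_zero (x : A) : gg p d 0 x = 1 := by rw [gg]; simp

include hp in
theorem gg_eq {n : ℕ} (hn : n ≠ 0) (x : A) :
    gg p d n x = Ring.inverse (unum p n : A) * x ^ (n % p) * gg p d (n / p) (d x) := by
  rw [gg]
  beta_reduce
  rw [dif_neg (by rintro (h | h) <;> [exact hn h; exact absurd hp.two_le (by omega)])]

include hp in
/-- Any divided power structure with the given `p`th power is given by `gg`. -/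
theorem eq_gg (hA : ∀ n : ℕ, ¬ p ∣ n → IsUnit (n : A)) (γ : DividedPowers I)
    (hγ : ∀ x ∈ I, γ.dpow p x = d x) : ∀ n, ∀ x ∈ I, γ.dpow n x = gg p d n x := by
  intro n
  induction n using Nat.strong_induction_on with
  | _ n ih =>
    intro x hx
    rcases Nat.eq_zero_or_pos n with rfl | hn
    · rw [γ.dpow_zero hx, gg_zero]
    have hpx := γ.dpow_mem hp.ne_zero hx
    rw [gg_eq hp hn.ne', ← hγ x hx, ← ih _ (Nat.div_lt_self hn hp.one_lt) _ hpx,
      γ.dpow_comp hp.ne_zero hx, ← γ.factorial_mul_dpow_eq_pow hx]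
    symm
    calc Ring.inverse (unum p n : A) * ((n % p).factorial * γ.dpow (n % p) x) *
          ((n / p).uniformBell p * γ.dpow (n / p * p) x)
        = Ring.inverse (unum p n : A) * ((n % p).factorial * (n / p).uniformBell p) *
            (γ.dpow (n % p) x * γ.dpow (n / p * p) x) := by ring
      _ = Ring.inverse (unum p n : A) * (unum p n : A) * γ.dpow n x := by
          rw [γ.mul_dpow hx, Nat.mod_add_div' n p, unum]; push_cast; ring
      _ = γ.dpow n x := by rw [Ring.inverse_mul_cancel _ (hA _ (not_dvd_unum hp n)), one_mul]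

variable (hd : PData p I d)

include hd in
theorem PData.map_zero' (hp : p.Prime) : d 0 = 0 := by
  rw [← mul_zero (0 : A), hd.h2 0 0 I.zero_mem, zero_pow hp.ne_zero, zero_mul, zero_mul]

include hp hd in
theorem gg_one (x : A) : gg p d 1 x = x := by
  rw [gg_eq hp one_ne_zero, Nat.mod_eq_of_lt hp.one_lt, Nat.div_eq_of_lt hp.one_lt, gg_zero, pow_one, mul_one,
    unum, Nat.mod_eq_of_lt hp.one_lt, Nat.div_eq_of_lt hp.one_lt]
  simp [Nat.uniformBell_zero_left]

include hp hd in
theorem gg_p (x : A) : gg p d p x = d x := by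
  rw [gg_eq hp hp.ne_zero, Nat.mod_self, Nat.div_self hp.pos, gg_one hp hd, pow_zero, mul_one, unum,
    Nat.mod_self, Nat.div_self hp.pos]
  simp [Nat.uniformBell_one_left]

include hp hd in
theorem gg_mem {n : ℕ} (hn : n ≠ 0) : ∀ x ∈ I, gg p d n x ∈ I := by
  induction n using Nat.strong_induction_on with
  | _ n ih =>
    intro x hx
    rw [gg_eq hp hn]
    by_cases hr : n % p = 0
    · refine Ideal.mul_mem_left _ _ (ih _ (Nat.div_lt_self (Nat.pos_of_ne_zero hn) hp.one_lt) ?_ _ (hd.hdI x hx))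
      intro hq
      have := Nat.div_add_mod n p
      rw [hq, hr] at this
      omega
    · exact Ideal.mul_mem_right _ _ (Ideal.mul_mem_left _ _ (I.pow_mem_of_mem hx _ (Nat.pos_of_ne_zero hr)))

include hp hd in
theorem gg_mul (n : ℕ) : ∀ (a x : A), x ∈ I → gg p d n (a * x) = a ^ n * gg p d n x := by
  induction n using Nat.strong_induction_on with
  | _ n ih =>
    intro a x hx
    rcases Nat.eq_zero_or_pos n with rfl | hn
    · simp [gg_zero]
    rw [gg_eq hp hn.ne', gg_eq hp hn.ne', hd.h2 a x hx, ih _ (Nat.div_lt_self hn hp.one_lt) _ _ (hd.hdI x hx)]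
    have e : a ^ n = a ^ (n % p) * (a ^ p) ^ (n / p) := by rw [← pow_mul, ← pow_add, Nat.mod_add_div]
    rw [e, mul_pow]
    ring

/-- A fraction with denominator prime to `p`. -/
def Scal (p : ℕ) (s : A) : Prop := ∃ a b : ℕ, ¬ p ∣ b ∧ (b : A) * s = a

/-- Combinations with such coefficients. -/
def CombP (p : ℕ) (d : A → A) (x y : A) (N : ℕ) (z : A) : Prop :=
  ∃ (a : ℕ × ℕ → ℕ) (b : ℕ), ¬ p ∣ b ∧
    (b : A) * z = ∑ k ∈ HasAntidiagonal.antidiagonal N, (a k : A) * (gg p d k.1 x * gg p d k.2 y)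

include hp in
theorem scal_natCast (a : ℕ) : Scal p (a : A) := ⟨a, 1, hp.not_dvd_one, by simp⟩

include hp in
theorem Scal.mul {s t : A} : Scal p s → Scal p t → Scal p (s * t) := by
  rintro ⟨a, b, hb, e⟩ ⟨a', b', hb', e'⟩
  refine ⟨a * a', b * b', fun h => (hp.dvd_mul.mp h).elim hb hb', ?_⟩
  push_cast; rw [← e, ← e']; ring

include hp in
theorem Scal.pow {s : A} (hs : Scal p s) : ∀ n, Scal p (s ^ n)
  | 0 => by simpa using scal_natCast hp (A := A) 1
  | n + 1 => by rw [pow_succ]; exact (Scal.pow hs n).mul hp hs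

theorem scal_inverse (hA : ∀ n : ℕ, ¬ p ∣ n → IsUnit (n : A)) {b : ℕ} (hb : ¬ p ∣ b) :
    Scal p (Ring.inverse (b : A)) :=
  ⟨1, b, hb, by rw [Ring.mul_inverse_cancel _ (hA b hb)]; simp⟩

include hp in
theorem unum_rewrite (hA : ∀ n : ℕ, ¬ p ∣ n → IsUnit (n : A)) {n : ℕ} (hn : n ≠ 0) (x : A) :
    x ^ (n % p) * gg p d (n / p) (d x) = (unum p n : A) * gg p d n x := by
  rw [gg_eq hp hn, ← mul_assoc, ← mul_assoc, Ring.mul_inverse_cancel _ (hA _ (not_dvd_unum hp n)), one_mul]

include hp hd in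
/-- Products of candidates at one point. -/
theorem single_mul : ∀ N m n, m + n = N → ∀ x ∈ I, ∃ s, Scal p s ∧ gg p d m x * gg p d n x = s * gg p d N x := by
  intro N
  induction N using Nat.strong_induction_on with
  | _ N ih =>
    intro m n hmn x hx
    rcases Nat.eq_zero_or_pos m with rfl | hm
    · exact ⟨1, by simpa using scal_natCast hp (A := A) 1, by rw [gg_zero, ← hmn, Nat.zero_add]⟩
    rcases Nat.eq_zero_or_pos n with rfl | hn
    · exact ⟨1, by simpa using scal_natCast hp (A := A) 1, by rw [gg_zero, ← hmn, Nat.add_zero, mul_one, one_mul]⟩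
    have hN : N ≠ 0 := by omega
    have hdx := hd.hdI x hx
    have hp2 := hp.two_le
    have hlt : ∀ k, k ≤ N / p → k < N := fun k hk =>
      lt_of_le_of_lt hk (Nat.div_lt_self (by omega) hp.one_lt)
    have hqlt : m / p + n / p ≤ N / p := by
      rw [← hmn, Nat.add_div hp.pos]; omega
    obtain ⟨s, hs, e⟩ := ih _ (hlt _ hqlt) (m / p) (n / p) rfl (d x) hdx
    rw [gg_eq hp hm.ne', gg_eq hp hn.ne']
    have base : Ring.inverse (unum p m : A) * x ^ (m % p) * gg p d (m / p) (d x) *
        (Ring.inverse (unum p n : A) * x ^ (n % p) * gg p d (n / p) (d x)) =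
        Ring.inverse (unum p m : A) * Ring.inverse (unum p n : A) * s *
          (x ^ (m % p + n % p) * gg p d (m / p + n / p) (d x)) := by
      calc _ = Ring.inverse (unum p m : A) * Ring.inverse (unum p n : A) * x ^ (m % p + n % p) *
            (gg p d (m / p) (d x) * gg p d (n / p) (d x)) := by ring
        _ = _ := by rw [e]; ring
    rw [base]
    have hsc : Scal p (Ring.inverse (unum p m : A) * Ring.inverse (unum p n : A) * s) :=
      ((scal_inverse hd.hA (not_dvd_unum hp m)).mul hp (scal_inverse hd.hA (not_dvd_unum hp n))).mul hp hs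
    by_cases hcarry : m % p + n % p < p
    · have hr : N % p = m % p + n % p := by rw [← hmn, Nat.add_mod_of_add_mod_lt hcarry]
      have hq : N / p = m / p + n / p := by rw [← hmn, Nat.add_div hp.pos, if_neg (by omega), Nat.add_zero]
      refine ⟨_, hsc.mul hp (scal_natCast hp (unum p N)), ?_⟩
      rw [← hr, ← hq, unum_rewrite hp hd.hA hN]
      ring
    · have hr : N % p + p = m % p + n % p := by
        rw [← hmn]; exact Nat.add_mod_add_of_le_add_mod (by omega)
      have hq : N / p = 1 + (m / p + n / p) := by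
        rw [← hmn, Nat.add_div hp.pos, if_pos (by omega)]; omega
      obtain ⟨t, ht, e'⟩ := ih (1 + (m / p + n / p)) (hlt _ hq.ge) 1 _ rfl (d x) hdx
      rw [gg_one hp hd] at e'
      refine ⟨_, ((hsc.mul hp (scal_natCast hp p.factorial)).mul hp ht).mul hp (scal_natCast hp (unum p N)), ?_⟩
      rw [← hr, pow_add, ← hd.h1 x hx]
      calc _ = Ring.inverse (unum p m : A) * Ring.inverse (unum p n : A) * s * (p.factorial : A) *
            x ^ (N % p) * (d x * gg p d (m / p + n / p) (d x)) := by ring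
        _ = Ring.inverse (unum p m : A) * Ring.inverse (unum p n : A) * s * (p.factorial : A) * t *
            (x ^ (N % p) * gg p d (N / p) (d x)) := by rw [e', hq]; ring
        _ = _ := by rw [unum_rewrite hp hd.hA hN]; ring

variable {x y : A}

include hd in
theorem combP_iff {N : ℕ} {z : A} : CombP p d x y N z ↔ ∃ (a : ℕ × ℕ → ℕ) (b : ℕ), ¬ p ∣ b ∧
    z = ∑ k ∈ HasAntidiagonal.antidiagonal N, Ring.inverse (b : A) * (a k : A) * (gg p d k.1 x * gg p d k.2 y) := by
  refine exists_congr fun a => exists_congr fun b => and_congr_right fun hb => ?_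
  simp only [mul_assoc, ← Finset.mul_sum]
  constructor
  · intro e; rw [← e, ← mul_assoc, Ring.inverse_mul_cancel _ (hd.hA b hb), one_mul]
  · intro e; rw [e, ← mul_assoc, Ring.mul_inverse_cancel _ (hd.hA b hb), one_mul]

include hp in
theorem CombP.zero (N : ℕ) : CombP p d x y N 0 := ⟨fun _ => 0, 1, hp.not_dvd_one, by simp⟩

include hp in
theorem CombP.add {N : ℕ} {z z' : A} : CombP p d x y N z → CombP p d x y N z' → CombP p d x y N (z + z') := by
  rintro ⟨a, b, hb, e⟩ ⟨a', b', hb', e'⟩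
  refine ⟨fun k => b' * a k + b * a' k, b * b', fun h => (hp.dvd_mul.mp h).elim hb hb', ?_⟩
  push_cast
  simp only [add_mul, mul_assoc, Finset.sum_add_distrib, ← Finset.mul_sum, ← e, ← e']
  ring

include hp in
theorem CombP.scal {N : ℕ} {s z : A} : Scal p s → CombP p d x y N z → CombP p d x y N (s * z) := by
  rintro ⟨a', b', hb', e'⟩ ⟨a, b, hb, e⟩
  refine ⟨fun k => a' * a k, b' * b, fun h => (hp.dvd_mul.mp h).elim hb' hb, ?_⟩
  push_cast
  simp only [mul_assoc, ← Finset.mul_sum, ← e, ← e']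
  ring

include hp in
theorem CombP.sum {ι : Type*} {N : ℕ} (s : Finset ι) (f : ι → A) (hf : ∀ i ∈ s, CombP p d x y N (f i)) :
    CombP p d x y N (∑ i ∈ s, f i) :=
  Finset.sum_induction f (CombP p d x y N) (fun _ _ => CombP.add hp) (CombP.zero hp N) hf

include hp in
theorem CombP.basic {N i j : ℕ} (hij : i + j = N) : CombP p d x y N (gg p d i x * gg p d j y) := by
  classical
  refine ⟨fun k => if k = (i, j) then 1 else 0, 1, hp.not_dvd_one, ?_⟩
  rw [Finset.sum_eq_single (i, j) (fun k _ hk => by simp [hk]) (fun hk => absurd (HasAntidiagonal.mem_antidiagonal.mpr hij) hk)]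
  simp

include hp hd in
theorem CombP.mul (hx : x ∈ I) (hy : y ∈ I) {N M : ℕ} {z z' : A} :
    CombP p d x y N z → CombP p d x y M z' → CombP p d x y (N + M) (z * z') := by
  intro h h'
  obtain ⟨a, b, hb, rfl⟩ := (combP_iff hd).mp h
  obtain ⟨a', b', hb', rfl⟩ := (combP_iff hd).mp h'
  rw [Finset.sum_mul_sum]
  refine CombP.sum hp _ _ fun i hi => CombP.sum hp _ _ fun j hj => ?_
  rw [HasAntidiagonal.mem_antidiagonal] at hi hj
  obtain ⟨s, hs, es⟩ := single_mul hp hd _ i.1 j.1 rfl x hx
  obtain ⟨t, ht, et⟩ := single_mul hp hd _ i.2 j.2 rfl y hy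
  have e : Ring.inverse (b : A) * (a i : A) * (gg p d i.1 x * gg p d i.2 y) *
      (Ring.inverse (b' : A) * (a' j : A) * (gg p d j.1 x * gg p d j.2 y)) =
      Ring.inverse (b : A) * (a i : A) * (Ring.inverse (b' : A) * (a' j : A)) * (s * t) *
        (gg p d (i.1 + j.1) x * gg p d (i.2 + j.2) y) := by
    calc _ = Ring.inverse (b : A) * (a i : A) * (Ring.inverse (b' : A) * (a' j : A)) *
          ((gg p d i.1 x * gg p d j.1 x) * (gg p d i.2 y * gg p d j.2 y)) := by ring
      _ = _ := by rw [es, et]; ring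
  rw [e]
  exact CombP.scal hp ((((scal_inverse hd.hA hb).mul hp (scal_natCast hp _)).mul hp
    ((scal_inverse hd.hA hb').mul hp (scal_natCast hp _))).mul hp (hs.mul hp ht)) (CombP.basic hp (by omega))

include hp hd in
theorem CombP.pow (hx : x ∈ I) (hy : y ∈ I) {N : ℕ} {z : A} (h : CombP p d x y N z) :
    ∀ k, CombP p d x y (k * N) (z ^ k)
  | 0 => by simpa [gg_zero] using (CombP.basic hp (d := d) (x := x) (y := y) (i := 0) (j := 0) rfl)
  | k + 1 => by rw [pow_succ, Nat.succ_mul]; exact CombP.mul hp hd hx hy (CombP.pow hx hy h k) h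

include hp hd in
/-- The `p`th power of a candidate. -/
theorem d_gg (i : ℕ) (hi : i ≠ 0) : ∀ x ∈ I, ∃ s, Scal p s ∧ d (gg p d i x) = s * gg p d (p * i) x := by
  induction i using Nat.strong_induction_on with
  | _ i ih =>
    intro x hx
    have hdx := hd.hdI x hx
    have hpq : ∀ q, q ≠ 0 → ∀ x : A, gg p d q (d x) = (unum p (p * q) : A) * gg p d (p * q) x := fun q hq x => by
      rw [← unum_rewrite hp hd.hA (Nat.mul_ne_zero hp.ne_zero hq), Nat.mul_mod_right, pow_zero, one_mul,
        Nat.mul_div_cancel_left _ hp.pos]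
    rw [gg_eq hp hi]
    rcases Nat.eq_zero_or_pos (i % p) with hr | hr
    · rw [hr, pow_zero, mul_one]
      have hq0 : i / p ≠ 0 := by
        intro h; have := Nat.div_add_mod i p; rw [h, hr] at this; omega
      obtain ⟨s, hs, e⟩ := ih _ (Nat.div_lt_self (by omega) hp.one_lt) hq0 (d x) hdx
      have hip : p * (i / p) = i := by have := Nat.div_add_mod i p; omega
      rw [hd.h2 _ _ (gg_mem hp hd hq0 _ hdx), e, hip, hpq i hi]
      exact ⟨_, (((scal_inverse hd.hA (not_dvd_unum hp i)).pow hp p).mul hp hs).mul hp (scal_natCast hp (unum p (p * i))), by ring⟩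
    · have h0 : CombP p d x 0 (p * i)
          (d (Ring.inverse (unum p i : A) * x ^ (i % p) * gg p d (i / p) (d x))) := by
        obtain ⟨r, hr'⟩ : ∃ r, i % p = r + 1 := ⟨i % p - 1, by omega⟩
        have e : Ring.inverse (unum p i : A) * x ^ (i % p) * gg p d (i / p) (d x) =
            (Ring.inverse (unum p i : A) * (x ^ r * gg p d (i / p) (d x))) * x := by rw [hr', pow_succ]; ring
        rw [e, hd.h2 _ _ hx, mul_pow]
        have cx : ∀ j, CombP p d x 0 j (gg p d j x) := fun j => by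
          simpa [gg_zero] using (CombP.basic hp (d := d) (x := x) (y := (0 : A)) (i := j) (j := 0) rfl)
        have c1 : CombP p d x 0 1 x := by simpa [gg_one hp hd] using cx 1
        have cq : CombP p d x 0 (p * (i / p)) (gg p d (i / p) (d x)) := by
          rcases Nat.eq_zero_or_pos (i / p) with h | h
          · rw [h, Nat.mul_zero, gg_zero]; simpa [gg_zero] using cx 0
          · rw [hpq _ h.ne']; exact CombP.scal hp (scal_natCast hp _) (cx _)
        have cd : CombP p d x 0 p (d x) := by simpa [gg_p hp hd] using cx p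
        have hi' : p * i = p * (r * 1 + p * (i / p)) + p := by
          have hdm := Nat.div_add_mod i p
          rw [hr'] at hdm
          conv_lhs => rw [← hdm]
          ring
        rw [hi', mul_assoc]
        refine CombP.scal hp ((scal_inverse hd.hA (not_dvd_unum hp i)).pow hp p) ?_
        exact CombP.mul hp hd hx I.zero_mem (CombP.pow hp hd hx I.zero_mem
          (CombP.mul hp hd hx I.zero_mem (CombP.pow hp hd hx I.zero_mem c1 r) cq) p) cd
      obtain ⟨a, b, hb, e⟩ := h0
      rw [Finset.sum_eq_single (p * i, 0)] at e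
      · refine ⟨Ring.inverse (b : A) * (a (p * i, 0) : A), (scal_inverse hd.hA hb).mul hp (scal_natCast hp _), ?_⟩
        rw [gg_zero, mul_one] at e
        rw [← one_mul (d _), ← Ring.inverse_mul_cancel _ (hd.hA b hb), mul_assoc, e]
        ring
      · intro k hk hk'
        rw [HasAntidiagonal.mem_antidiagonal] at hk
        have hk2 : k.2 ≠ 0 := fun h => hk' (Prod.ext (by dsimp; omega) h)
        have hz : gg p d k.2 (0 : A) = 0 := by
          rw [← mul_zero (0 : A), gg_mul hp hd _ 0 0 I.zero_mem, zero_pow hk2, zero_mul, zero_mul]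
        rw [hz, mul_zero, mul_zero]
      · intro h; exact absurd (HasAntidiagonal.mem_antidiagonal.mpr (Nat.add_zero _)) h

include hp hd in
theorem CombP.dd (hx : x ∈ I) (hy : y ∈ I) {N : ℕ} (hN : N ≠ 0) {z : A} (h : CombP p d x y N z) :
    z ∈ I ∧ CombP p d x y (p * N) (d z) := by
  obtain ⟨a, b, hb, rfl⟩ := (combP_iff hd).mp h
  refine (Finset.sum_induction _ (fun z => z ∈ I ∧ CombP p d x y N z ∧ CombP p d x y (p * N) (d z)) ?_ ?_ ?_).imp id And.right
  · rintro u v ⟨hu, hu1, hu2⟩ ⟨hv, hv1, hv2⟩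
    refine ⟨I.add_mem hu hv, CombP.add hp hu1 hv1, ?_⟩
    rw [hd.h3 u hu v hv]
    refine CombP.add hp (CombP.add hp hu2 hv2) (CombP.sum hp _ _ fun k hk => ?_)
    rw [Finset.mem_filter, HasAntidiagonal.mem_antidiagonal] at hk
    rw [mul_assoc, show p * N = k.1 * N + k.2 * N by rw [← Nat.add_mul, hk.1]]
    refine CombP.scal hp (scal_inverse hd.hA ?_) (CombP.mul hp hd hx hy (CombP.pow hp hd hx hy hu1 _) (CombP.pow hp hd hx hy hv1 _))
    rw [hp.dvd_mul, hp.dvd_factorial, hp.dvd_factorial]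
    omega
  · exact ⟨I.zero_mem, CombP.zero hp _, by rw [hd.map_zero' hp]; exact CombP.zero hp _⟩
  · intro k hk
    rw [HasAntidiagonal.mem_antidiagonal] at hk
    have hs := (scal_inverse hd.hA hb).mul hp (scal_natCast (A := A) hp (a k))
    have hb1 := CombP.scal hp hs (CombP.basic hp (d := d) (x := x) (y := y) hk)
    have ey : ∀ j, CombP p d x y j (gg p d j y) := fun j => by
      simpa [gg_zero] using (CombP.basic hp (d := d) (x := x) (y := y) (i := 0) (j := j) (Nat.zero_add j))
    have ex : ∀ j, CombP p d x y j (gg p d j x) := fun j => by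
      simpa [gg_zero] using (CombP.basic hp (d := d) (x := x) (y := y) (i := j) (j := 0) rfl)
    by_cases h1 : k.1 = 0
    · have h2 : k.2 ≠ 0 := by omega
      refine ⟨Ideal.mul_mem_left _ _ (Ideal.mul_mem_left _ _ (gg_mem hp hd h2 y hy)), hb1, ?_⟩
      rw [h1, gg_zero, one_mul, hd.h2 _ _ (gg_mem hp hd h2 y hy)]
      obtain ⟨s, hs', e⟩ := d_gg hp hd _ h2 y hy
      rw [e, ← mul_assoc, show N = k.2 by omega]
      exact CombP.scal hp ((hs.pow hp p).mul hp hs') (ey _)
    · refine ⟨Ideal.mul_mem_left _ _ (Ideal.mul_mem_right _ _ (gg_mem hp hd h1 x hx)), hb1, ?_⟩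
      rw [mul_comm (gg p d k.1 x), ← mul_assoc, hd.h2 _ _ (gg_mem hp hd h1 x hx), mul_pow]
      obtain ⟨s, hs', e⟩ := d_gg hp hd _ h1 x hx
      rw [e, show ∀ a b c g : A, a * b * (c * g) = a * c * (b * g) from fun a b c g => by ring,
        ← hk, Nat.mul_add, Nat.add_comm (p * k.1)]
      exact CombP.scal hp ((hs.pow hp p).mul hp hs') (CombP.mul hp hd hx hy (CombP.pow hp hd hx hy (ey k.2) p) (ex _))

include hp hd in
theorem CombP.gg (hx : x ∈ I) (hy : y ∈ I) (m : ℕ) :
    ∀ {N : ℕ}, N ≠ 0 → ∀ {z : A}, CombP p d x y N z → CombP p d x y (m * N) (gg p d m z) := by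
  induction m using Nat.strong_induction_on with
  | _ m ih =>
    intro N hN z hz
    rcases Nat.eq_zero_or_pos m with rfl | hm
    · rw [gg_zero, Nat.zero_mul]
      simpa [gg_zero] using (CombP.basic hp (d := d) (x := x) (y := y) (i := 0) (j := 0) rfl)
    rw [gg_eq hp hm.ne', show m * N = m % p * N + m / p * (p * N) by
      rw [← mul_assoc, ← add_mul, Nat.mod_add_div'], mul_assoc]
    exact CombP.scal hp (scal_inverse hd.hA (not_dvd_unum hp m)) (CombP.mul hp hd hx hy (CombP.pow hp hd hx hy hz _)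
      (ih _ (Nat.div_lt_self hm hp.one_lt) (Nat.mul_ne_zero hp.ne_zero hN) (CombP.dd hp hd hx hy hN hz).2))

set_option maxHeartbeats 1600000 in
/-- The divided powers determined by the `p`th one. -/
theorem exists_of_pdata {A : Type*} [CommRing A] {I : Ideal A} {d : A → A} (hp : p.Prime) (hd : PData p I d) :
    ∃! γ : DividedPowers I, ∀ x ∈ I, γ.dpow p x = d x := by
  classical
  let J : Ideal Q := Ideal.span (Set.range MvPolynomial.X)
  let δ : DividedPowers J := DividedPowers.RatAlgebra.dividedPowers J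
  have hX : ∀ i, (MvPolynomial.X i : Q) ∈ J := fun i => Ideal.subset_span ⟨i, rfl⟩
  have hQu : ∀ n : ℕ, n ≠ 0 → IsUnit (n : Q) := fun n hn => by
    have h : IsUnit (n : ℚ) := (Nat.cast_ne_zero.mpr hn).isUnit
    simpa using h.map (MvPolynomial.C (σ := Fin 2))
  have hQ : ∀ n : ℕ, ¬ p ∣ n → IsUnit (n : Q) := fun n hn => hQu n fun h => hn (h ▸ dvd_zero p)
  have hδ : ∀ n, ∀ u ∈ J, δ.dpow n u = gg p (δ.dpow p) n u := eq_gg hp hQ δ fun _ _ => rfl
  have hδpow : ∀ n, ∀ u ∈ J, δ.dpow n u = Ring.inverse (n.factorial : Q) * u ^ n := fun n u hu => by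
    rw [DividedPowers.RatAlgebra.dpow_apply, if_pos hu]
  let D : A × Q → A × Q := fun z => if z.1 ∈ I ∧ z.2 ∈ J then (d z.1, δ.dpow p z.2) else 0
  have hDv : ∀ z : A × Q, z ∈ Ideal.prod I J → D z = (d z.1, δ.dpow p z.2) := fun z hz =>
    if_pos ((Ideal.mem_prod I J).mp hz)
  have hu2 : ∀ n : ℕ, ¬ p ∣ n → IsUnit (n : A × Q) := fun n hn =>
    Prod.isUnit_iff.mpr ⟨by simpa using hd.hA n hn, by simpa using hQ n hn⟩
  have hinv : ∀ n : ℕ, ¬ p ∣ n → Ring.inverse (n : A × Q) = (Ring.inverse (n : A), Ring.inverse (n : Q)) := fun n hn => by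
    refine ((hu2 n hn).mul_right_inj).mp ?_
    rw [Ring.mul_inverse_cancel _ (hu2 n hn)]
    exact Prod.ext (by simp [Ring.mul_inverse_cancel _ (hd.hA n hn)]) (by simp [Ring.mul_inverse_cancel _ (hQ n hn)])
  have hfilt : ∀ k : ℕ × ℕ, k ∈ (HasAntidiagonal.antidiagonal p).filter (fun k => 0 < k.1 ∧ 0 < k.2) →
      k.1 + k.2 = p ∧ ¬ p ∣ k.1.factorial * k.2.factorial := fun k hk => by
    rw [Finset.mem_filter, HasAntidiagonal.mem_antidiagonal] at hk
    refine ⟨hk.1, ?_⟩
    rw [hp.dvd_mul, hp.dvd_factorial, hp.dvd_factorial]; omega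
  have hδ3 : ∀ u ∈ J, ∀ v ∈ J, δ.dpow p (u + v) = δ.dpow p u + δ.dpow p v +
      ((HasAntidiagonal.antidiagonal p).filter fun k => 0 < k.1 ∧ 0 < k.2).sum
        fun k => Ring.inverse ((k.1.factorial * k.2.factorial : ℕ) : Q) * u ^ k.1 * v ^ k.2 := by
    intro u hu v hv
    rw [δ.dpow_add hu hv, ← Finset.sum_filter_add_sum_filter_not _ (fun k : ℕ × ℕ => 0 < k.1 ∧ 0 < k.2),
      add_comm]
    congr 1
    · have : (HasAntidiagonal.antidiagonal p).filter (fun k => ¬ (0 < k.1 ∧ 0 < k.2)) = {(p, 0), (0, p)} := by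
        ext ⟨i, j⟩
        simp only [Finset.mem_filter, HasAntidiagonal.mem_antidiagonal, Finset.mem_insert, Finset.mem_singleton, Prod.mk.injEq]
        omega
      rw [this, Finset.sum_pair (by simp [hp.ne_zero]), δ.dpow_zero hu, δ.dpow_zero hv]
      ring
    · refine Finset.sum_congr rfl fun k hk => ?_
      rw [hδpow _ u hu, hδpow _ v hv, Nat.cast_mul, Ring.mul_inverse_rev]
      ring
  have hD : PData p (Ideal.prod I J) D := by
    refine ⟨hu2, fun z hz => ?_, fun z hz => ?_, fun c z hz => ?_, fun z hz w hw => ?_⟩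
    · rw [hDv z hz]; rw [Ideal.mem_prod] at hz ⊢; exact ⟨hd.hdI _ hz.1, δ.dpow_mem hp.ne_zero hz.2⟩
    · rw [hDv z hz]; rw [Ideal.mem_prod] at hz
      exact Prod.ext (by simpa using hd.h1 _ hz.1) (by simpa using δ.factorial_mul_dpow_eq_pow hz.2)
    · rw [hDv z hz, hDv _ (Ideal.mul_mem_left _ c hz)]; rw [Ideal.mem_prod] at hz
      exact Prod.ext (by simpa using hd.h2 c.1 z.1 hz.1) (by simpa using δ.dpow_mul (a := c.2) hz.2 (n := p))
    · rw [hDv z hz, hDv w hw, hDv _ (Ideal.add_mem _ hz hw)]; rw [Ideal.mem_prod] at hz hw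
      apply Prod.ext
      · simp only [Prod.fst_add, Prod.fst_sum]
        rw [hd.h3 z.1 hz.1 w.1 hw.1]
        refine congrArg₂ (· + ·) rfl ?_
        refine Finset.sum_congr rfl fun k hk => ?_
        rw [hinv _ (hfilt k hk).2]
        simp
      · simp only [Prod.snd_add, Prod.snd_sum]
        rw [hδ3 z.2 hz.2 w.2 hw.2]
        refine congrArg₂ (· + ·) rfl ?_
        refine Finset.sum_congr rfl fun k hk => ?_
        rw [hinv _ (hfilt k hk).2]
        simp
  have hgg : ∀ n, ∀ z ∈ Ideal.prod I J, gg p D n z = (gg p d n z.1, δ.dpow n z.2) := by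
    intro n
    induction n using Nat.strong_induction_on with
    | _ n ih =>
      intro z hz
      have hz' := (Ideal.mem_prod I J).mp hz
      rcases Nat.eq_zero_or_pos n with rfl | hn
      · rw [gg_zero, gg_zero, δ.dpow_zero hz'.2]; rfl
      rw [gg_eq hp hn.ne', ih _ (Nat.div_lt_self hn hp.one_lt) _ (hD.hdI z hz), hDv z hz,
        hinv _ (not_dvd_unum hp n), hδ n _ hz'.2, gg_eq hp hn.ne' (d := δ.dpow p), gg_eq hp hn.ne' (d := d),
        ← hδ _ _ (δ.dpow_mem hp.ne_zero hz'.2)]
      exact Prod.ext (by simp) (by simp)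
  have transfer : ∀ a c : A, a ∈ I → c ∈ I → ∀ (N : ℕ) (z z' : A × Q),
      CombP p D (a, MvPolynomial.X 0) (c, MvPolynomial.X 1) N z →
      CombP p D (a, MvPolynomial.X 0) (c, MvPolynomial.X 1) N z' → z.2 = z'.2 → z.1 = z'.1 := by
    rintro a c ha hc N z z' ⟨s, b, hb, e⟩ ⟨s', b', hb', e'⟩ h2
    have hterm : ∀ k : ℕ × ℕ, gg p D k.1 (a, MvPolynomial.X 0) * gg p D k.2 (c, MvPolynomial.X 1) =
        (gg p d k.1 a * gg p d k.2 c, (Ring.inverse (k.1.factorial : Q) * MvPolynomial.X 0 ^ k.1) *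
          (Ring.inverse (k.2.factorial : Q) * MvPolynomial.X 1 ^ k.2)) := by
      intro k
      rw [hgg k.1 _ ((Ideal.mem_prod I J).mpr ⟨ha, hX 0⟩), hgg k.2 _ ((Ideal.mem_prod I J).mpr ⟨hc, hX 1⟩),
        hδpow _ _ (hX 0), hδpow _ _ (hX 1)]
      rfl
    simp only [hterm] at e e'
    have hc' : ∀ k ∈ HasAntidiagonal.antidiagonal N, b' * s k = b * s' k := by
      apply coeff_unique
      push_cast
      simp only [mul_assoc, ← Finset.mul_sum]
      have e1 := congrArg Prod.snd e
      have e2 := congrArg Prod.snd e'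
      simp only [Prod.snd_mul, Prod.snd_natCast, Prod.snd_sum, mul_assoc] at e1 e2
      rw [← e1, ← e2, h2]; ring
    apply ((hd.hA b hb).mul (hd.hA b' hb')).mul_left_cancel
    have e1 := congrArg Prod.fst e
    have e2 := congrArg Prod.fst e'
    simp only [Prod.fst_mul, Prod.fst_natCast, Prod.fst_sum] at e1 e2
    rw [mul_comm (b : A) b', mul_assoc, e1, mul_comm (b' : A) b, mul_assoc, e2, Finset.mul_sum, Finset.mul_sum]
    refine Finset.sum_congr rfl fun k hk => ?_
    rw [← mul_assoc (b' : A), ← mul_assoc (b : A), ← Nat.cast_mul, ← Nat.cast_mul, hc' k hk]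
  have main : ∀ a c : A, a ∈ I → c ∈ I →
      (∀ n, gg p d n (a + c) = ∑ k ∈ HasAntidiagonal.antidiagonal n, gg p d k.1 a * gg p d k.2 c) ∧
      Good (gg p d) (a + c) := by
    intro a c ha hc
    have hxP : ((a, MvPolynomial.X 0) : A × Q) ∈ Ideal.prod I J := (Ideal.mem_prod I J).mpr ⟨ha, hX 0⟩
    have hyP : ((c, MvPolynomial.X 1) : A × Q) ∈ Ideal.prod I J := (Ideal.mem_prod I J).mpr ⟨hc, hX 1⟩
    have hsP := (Ideal.prod I J).add_mem hxP hyP
    have h01 : (MvPolynomial.X 0 + MvPolynomial.X 1 : Q) ∈ J := J.add_mem (hX 0) (hX 1)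
    have c1 : CombP p D (a, MvPolynomial.X 0) (c, MvPolynomial.X 1) 1
        ((a, MvPolynomial.X 0) + (c, MvPolynomial.X 1)) := by
      have h1 := CombP.basic hp (d := D) (x := ((a, MvPolynomial.X 0) : A × Q)) (y := (c, MvPolynomial.X 1)) (i := 1) (j := 0) rfl
      have h2 := CombP.basic hp (d := D) (x := ((a, MvPolynomial.X 0) : A × Q)) (y := (c, MvPolynomial.X 1)) (i := 0) (j := 1) rfl
      simpa [gg_zero, gg_one hp hD] using CombP.add hp h1 h2
    have hN : ∀ n, CombP p D (a, MvPolynomial.X 0) (c, MvPolynomial.X 1) n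
        (gg p D n ((a, MvPolynomial.X 0) + (c, MvPolynomial.X 1))) := fun n => by
      simpa using CombP.gg hp hD hxP hyP n one_ne_zero c1
    have hval : ∀ n, gg p D n ((a, MvPolynomial.X 0) + (c, MvPolynomial.X 1)) =
        (gg p d n (a + c), δ.dpow n (MvPolynomial.X 0 + MvPolynomial.X 1)) := fun n => hgg n _ hsP
    refine ⟨fun n => ?_, fun m n => ?_, fun m n hn => ?_⟩
    · have := transfer a c ha hc n _ _ (hN n) (CombP.sum hp _ _ fun k hk =>
        CombP.basic hp (HasAntidiagonal.mem_antidiagonal.mp hk)) (by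
          rw [hval, Prod.snd_sum]
          refine (δ.dpow_add (hX 0) (hX 1)).trans ?_
          refine Finset.sum_congr rfl fun k hk => ?_
          rw [hgg _ _ hxP, hgg _ _ hyP]; rfl)
      simp only [hval, Prod.fst_sum] at this
      rw [this]
      refine Finset.sum_congr rfl fun k hk => ?_
      rw [hgg _ _ hxP, hgg _ _ hyP]; rfl
    · have := transfer a c ha hc (m + n) _ _ (CombP.mul hp hD hxP hyP (hN m) (hN n))
        (CombP.scal hp (scal_natCast hp ((m + n).choose m)) (hN (m + n)))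
        (by rw [hval, hval, hval]; simpa using δ.mul_dpow h01 (m := m) (n := n))
      rw [hval, hval, hval] at this
      simpa using this
    · have hmem : gg p D n ((a, MvPolynomial.X 0) + (c, MvPolynomial.X 1)) ∈ Ideal.prod I J := gg_mem hp hD hn _ hsP
      have := transfer a c ha hc (m * n) _ _ (CombP.gg hp hD hxP hyP m hn (hN n))
        (CombP.scal hp (scal_natCast hp (m.uniformBell n)) (hN (m * n)))
        (by rw [hgg m _ hmem, hval, hval]; simpa using δ.dpow_comp hn h01 (m := m))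
      rw [hgg m _ hmem, hval, hval] at this
      simpa using this
  let G : ℕ → A → A := fun n x => if x ∈ I then gg p d n x else 0
  have hG : ∀ n, ∀ x ∈ I, G n x = gg p d n x := fun n x hx => if_pos hx
  let γ : DividedPowers I :=
    { dpow := G
      dpow_null := fun hx => if_neg hx
      dpow_zero := fun hx => by rw [hG _ _ hx, gg_zero]
      dpow_one := fun hx => by rw [hG _ _ hx, gg_one hp hd]
      dpow_mem := fun hn hx => by rw [hG _ _ hx]; exact gg_mem hp hd hn _ hx
      dpow_add := fun {n x y} hx hy => by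
        rw [hG _ _ (I.add_mem hx hy), (main x y hx hy).1 n]
        exact Finset.sum_congr rfl fun k _ => by rw [hG _ _ hx, hG _ _ hy]
      dpow_mul := fun {n a x} hx => by rw [hG _ _ (I.mul_mem_left a hx), hG _ _ hx, gg_mul hp hd n a x hx]
      mul_dpow := fun {m n x} hx => by
        have := (main x 0 hx I.zero_mem).2.1 m n
        rw [add_zero] at this
        rw [hG _ _ hx, hG _ _ hx, hG _ _ hx, this]
      dpow_comp := fun {m n x} hn hx => by
        have := (main x 0 hx I.zero_mem).2.2 m n hn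
        rw [add_zero] at this
        rw [hG n _ hx, hG _ _ (gg_mem hp hd hn _ hx), hG _ _ hx, this] }
  refine ⟨γ, fun x hx => (hG p x hx).trans (gg_p hp hd x), fun γ' h' => DividedPowers.ext _ _ fun n x hx => ?_⟩
  rw [eq_gg hp hd.hA γ' h' n x hx]
  exact (hG n x hx).symm

end Groth.Agent.CommAlg4.DP
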