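import Groth.Prelude.Def_W4c5adicflatcomplDec
import Mathlib.RingTheory.AdicCompletion.Completeness
import Mathlib.RingTheory.AdicCompletion.Algebra
import Mathlib.Algebra.BigOperators.Finprod

/-!
Adically decaying functions: adic sums, lifting, completeness.
-/

set_option linter.all false
set_option autoImplicit false
universe u v w w'

noncomputable section

open W4c5adicflatcompl

namespace Groth.Agent.CommAlg4

variable {A : Type u} [CommRing A] {I : Ideal A} {Z : Type v}
  {M : Type w} [AddCommGroup M] [Module A M] {N : Type w'} [AddCommGroup N] [Module A N]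

theorem map_mem_pow (f : M →ₗ[A] N) {n : ℕ} {x : M} (hx : x ∈ (I ^ n • ⊤ : Submodule A M)) :
    f x ∈ (I ^ n • ⊤ : Submodule A N) :=
  Submodule.smul_top_le_comap_smul_top _ f hx

theorem pow_smul_anti {m n : ℕ} (h : m ≤ n) {x : M} (hx : x ∈ (I ^ n • ⊤ : Submodule A M)) :
    x ∈ (I ^ m • ⊤ : Submodule A M) :=
  Submodule.smul_mono_left (Ideal.pow_le_pow_right h) hx

/-- postcomposition of decaying functions with a linear map -/
def decayingMap (f : M →ₗ[A] N) : decaying I Z M →ₗ[A] decaying I Z N :=
  LinearMap.codRestrict _ ((LinearMap.compLeft f Z) ∘ₗ (decaying I Z M).subtype) fun g n =>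
    (g.2 n).subset fun _ hz h => hz (map_mem_pow f h)

@[simp] theorem decayingMap_apply (f : M →ₗ[A] N) (g : decaying I Z M) (z : Z) :
    (decayingMap f g : Z → N) z = f ((g : Z → M) z) := rfl

/-- evaluation at a point -/
def decayingEval (z : Z) : decaying I Z M →ₗ[A] M := LinearMap.proj z ∘ₗ (decaying I Z M).subtype

@[simp] theorem decayingEval_apply (z : Z) (g : decaying I Z M) : decayingEval z g = (g : Z → M) z := rfl

/-- `single` as a linear map -/
def singleLM [DecidableEq Z] (z : Z) : M →ₗ[A] decaying I Z M :=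
  LinearMap.codRestrict _ (LinearMap.single A (fun _ : Z => M) z) fun m => (single I z m).2

theorem singleLM_apply [DecidableEq Z] (z : Z) (m : M) :
    (singleLM z m : decaying I Z M) = single I z m := rfl

theorem smul_top_pointwise {n : ℕ} {g : decaying I Z M}
    (hg : g ∈ (I ^ n • ⊤ : Submodule A (decaying I Z M))) (z : Z) :
    (g : Z → M) z ∈ (I ^ n • ⊤ : Submodule A M) :=
  map_mem_pow (decayingEval z) hg

/-- A master lifting lemma: `φ` maps level `L` onto level `L + n`. -/
theorem exists_decaying_lift_aux [IsHausdorff I M] (φ : N →ₗ[A] M) (n : ℕ)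
    (hφ : ∀ L, (I ^ (L + n) • ⊤ : Submodule A M) ≤ Submodule.map φ (I ^ L • ⊤))
    (g : Z → M) (hg : g ∈ decaying I Z M) (hgn : ∀ z, g z ∈ (I ^ n • ⊤ : Submodule A M)) :
    ∃ h : Z → N, h ∈ decaying I Z N ∧ ∀ z, φ (h z) = g z := by
  classical
  have key : ∀ z, ∃ y : N, φ y = g z ∧
      ∀ m, g z ∈ (I ^ (m + n) • ⊤ : Submodule A M) → y ∈ (I ^ m • ⊤ : Submodule A N) := by
    intro z
    by_cases h0 : g z = 0
    · exact ⟨0, by simp [h0], fun m _ => Submodule.zero_mem _⟩
    · have hex : ∃ k, g z ∉ (I ^ k • ⊤ : Submodule A M) := by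
        by_contra! h
        exact h0 (IsHausdorff.haus (I := I) inferInstance _ fun k => SModEq.zero.mpr (h k))
      have hk : n < Nat.find hex := by
        by_contra! h
        exact Nat.find_spec hex (pow_smul_anti h (hgn z))
      obtain ⟨L, hL⟩ : ∃ L, Nat.find hex = L + n + 1 := ⟨Nat.find hex - n - 1, by omega⟩
      have hmem : g z ∈ (I ^ (L + n) • ⊤ : Submodule A M) := not_not.mp (Nat.find_min hex (by omega))
      obtain ⟨y, hy, hy'⟩ := hφ L hmem
      refine ⟨y, hy', fun m hm => pow_smul_anti ?_ hy⟩
      by_contra! h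
      exact Nat.find_spec hex (pow_smul_anti (by omega) hm)
  choose h hh hh' using key
  exact ⟨h, fun m => (hg (m + n)).subset fun z hz hm => hz (hh' z m hm), hh⟩

/-- Decaying functions lift along surjections onto Hausdorff modules. -/
theorem exists_decaying_lift [IsHausdorff I M] (φ : N →ₗ[A] M) (hφ : Function.Surjective φ)
    (g : Z → M) (hg : g ∈ decaying I Z M) :
    ∃ h : Z → N, h ∈ decaying I Z N ∧ ∀ z, φ (h z) = g z :=
  exists_decaying_lift_aux φ 0 (fun L => by
    rw [Submodule.map_smul'', Submodule.map_top, LinearMap.range_eq_top.mpr hφ, Nat.add_zero])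
    g hg (fun z => by simp)

theorem mem_pow_smul_decaying_iff [IsHausdorff I M] (hI : I.FG) (n : ℕ) (g : decaying I Z M) :
    g ∈ (I ^ n • ⊤ : Submodule A (decaying I Z M)) ↔ ∀ z, (g : Z → M) z ∈ (I ^ n • ⊤ : Submodule A M) := by
  refine ⟨fun h z => smul_top_pointwise h z, fun h => ?_⟩
  obtain ⟨r, a, ha⟩ := Submodule.fg_iff_exists_fin_generating_family.mp (hI.pow (n := n))
  let φ : (Fin r → M) →ₗ[A] M := ∑ j, a j • LinearMap.proj j
  have hφ : ∀ L, (I ^ (L + n) • ⊤ : Submodule A M) ≤ Submodule.map φ (I ^ L • ⊤) := by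
    intro L
    rw [Submodule.map_smul'', Submodule.map_top, pow_add, mul_smul]
    refine Submodule.smul_mono le_rfl (Submodule.smul_le.mpr fun c hc x _ => ?_)
    rw [← ha, Submodule.mem_span_range_iff_exists_fun] at hc
    obtain ⟨e, rfl⟩ := hc
    refine ⟨fun j => e j • x, ?_⟩
    simp [φ, Finset.sum_smul, smul_smul, mul_comm]
  obtain ⟨k, hk, hk'⟩ := exists_decaying_lift_aux φ n hφ (g : Z → M) g.2 h
  let K : Fin r → decaying I Z M := fun j => decayingMap (LinearMap.proj j) (⟨k, hk⟩ : decaying I Z (Fin r → M))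
  have : g = ∑ j, a j • K j := by
    apply Subtype.ext; funext z
    rw [← hk' z, AddSubmonoidClass.coe_finsetSum, Finset.sum_apply]
    simp [φ, K]
  rw [this]
  exact sum_mem fun j _ => Submodule.smul_mem_smul (ha ▸ Submodule.subset_span ⟨j, rfl⟩) trivial

/-- A decaying function is a finite sum of singles up to a uniformly small one. -/
theorem sub_sum_single_small [DecidableEq Z] (g : decaying I Z M) (n : ℕ) :
    ∀ z, ((g - ∑ z' ∈ (g.2 n).toFinset, single I z' ((g : Z → M) z') : decaying I Z M) : Z → M) z ∈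
      (I ^ n • ⊤ : Submodule A M) := by
  intro z
  rw [Submodule.coe_sub, Pi.sub_apply, AddSubmonoidClass.coe_finsetSum, Finset.sum_apply]
  simp only [coe_single, Finset.sum_pi_single]
  split_ifs with h
  · simp
  · simpa using h

/-- Maps out of decaying functions are determined by their values on singles. -/
theorem decaying_linearMap_ext [IsHausdorff I M] [IsHausdorff I N] [DecidableEq Z] (hI : I.FG)
    {φ ψ : decaying I Z M →ₗ[A] N} (h : ∀ z m, φ (single I z m) = ψ (single I z m)) : φ = ψ := by
  refine LinearMap.ext fun g => (IsHausdorff.eq_iff_smodEq (I := I)).mpr fun n => ?_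
  have hsmall := (mem_pow_smul_decaying_iff hI n _).mpr (sub_sum_single_small g n)
  have h1 := map_mem_pow (φ - ψ) hsmall
  rw [map_sub, map_sum, Finset.sum_eq_zero (fun z _ => by rw [LinearMap.sub_apply, h, sub_self]),
    sub_zero, LinearMap.sub_apply] at h1
  exact SModEq.sub_mem.mpr h1

variable (I Z M) in
/-- `Σ_z g z` modulo `I^n`. -/
def adicSumMod (n : ℕ) : decaying I Z M →ₗ[A] M ⧸ (I ^ n • ⊤ : Submodule A M) where
  toFun g := ∑ᶠ z, Submodule.Quotient.mk ((g : Z → M) z)
  map_add' f g := by
    simp only [Submodule.coe_add, Pi.add_apply, Submodule.Quotient.mk_add]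
    exact finsum_add_distrib
      ((f.2 n).subset fun z hz h => hz ((Submodule.Quotient.mk_eq_zero _).mpr h))
      ((g.2 n).subset fun z hz h => hz ((Submodule.Quotient.mk_eq_zero _).mpr h))
  map_smul' c g := by
    simp only [Submodule.coe_smul, Pi.smul_apply, Submodule.Quotient.mk_smul, RingHom.id_apply]
    exact (smul_finsum' c ((g.2 n).subset fun z hz h => hz ((Submodule.Quotient.mk_eq_zero _).mpr h))).symm

theorem adicSumMod_eq (g : decaying I Z M) (n : ℕ) (S : Finset Z)
    (hS : ∀ z, z ∉ S → (g : Z → M) z ∈ (I ^ n • ⊤ : Submodule A M)) :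
    adicSumMod I Z M n g = Submodule.Quotient.mk (∑ z ∈ S, (g : Z → M) z) := by
  rw [← Submodule.mkQ_apply, map_sum]
  exact finsum_eq_sum_of_support_subset _ fun z hz => by
    by_contra h
    exact hz ((Submodule.Quotient.mk_eq_zero _).mpr (hS z h))

theorem adicSumMod_compat {m n : ℕ} (h : m ≤ n) (g : decaying I Z M) :
    AdicCompletion.transitionMap I M h (adicSumMod I Z M n g) = adicSumMod I Z M m g := by
  have hS : ∀ z, z ∉ (g.2 n).toFinset → (g : Z → M) z ∈ (I ^ n • ⊤ : Submodule A M) := fun z hz => by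
    simpa using hz
  rw [adicSumMod_eq g n _ hS, adicSumMod_eq g m _ fun z hz => pow_smul_anti h (hS z hz)]
  rfl

variable (I Z M) in
/-- The adic sum, valued in the completion. -/
def adicSumCompl : decaying I Z M →ₗ[A] AdicCompletion I M where
  toFun g := ⟨fun n => adicSumMod I Z M n g, fun h => adicSumMod_compat h g⟩
  map_add' f g := AdicCompletion.ext fun n => map_add (adicSumMod I Z M n) f g
  map_smul' c g := AdicCompletion.ext fun n => map_smul (adicSumMod I Z M n) c g

variable (I Z M) in
/-- The sum of a decaying family in a complete module. -/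
def adicSum [IsAdicComplete I M] : decaying I Z M →ₗ[A] M :=
  (AdicCompletion.ofLinearEquiv I M).symm.toLinearMap ∘ₗ adicSumCompl I Z M

theorem adicSum_sub_mem [IsAdicComplete I M] (g : decaying I Z M) (n : ℕ) (S : Finset Z)
    (hS : ∀ z, z ∉ S → (g : Z → M) z ∈ (I ^ n • ⊤ : Submodule A M)) :
    adicSum I Z M g - ∑ z ∈ S, (g : Z → M) z ∈ (I ^ n • ⊤ : Submodule A M) := by
  refine (Submodule.Quotient.eq _).mp ?_
  rw [← adicSumMod_eq g n S hS, ← Submodule.mkQ_apply, ← AdicCompletion.eval_of]
  show AdicCompletion.eval I M n (AdicCompletion.of I M ((AdicCompletion.ofLinearEquiv I M).symm _)) = _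
  rw [AdicCompletion.of_ofLinearEquiv_symm]; rfl

theorem adicSum_single [IsAdicComplete I M] [DecidableEq Z] (z : Z) (m : M) :
    adicSum I Z M (single I z m) = m := by
  refine (IsHausdorff.eq_iff_smodEq (I := I)).mpr fun n => ?_
  rw [SModEq.sub_mem]
  have := adicSum_sub_mem (single I z m) n {z} (fun z' hz' => by
    rw [coe_single, Pi.single_eq_of_ne (by simpa using hz')]; exact Submodule.zero_mem _)
  simpa using this

/-- Decaying functions with values in a complete module form a complete module. -/
theorem isAdicComplete_decaying [IsAdicComplete I M] (hI : I.FG) : IsAdicComplete I (decaying I Z M) where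
  haus' x hx := Subtype.ext (funext fun z => IsHausdorff.haus (I := I) inferInstance _ fun n =>
    SModEq.zero.mpr (smul_top_pointwise (SModEq.zero.mp (hx n)) z))
  prec' f hf := by
    have h1 : ∀ z, ∃ L : M, ∀ n, (f n : Z → M) z - L ∈ (I ^ n • ⊤ : Submodule A M) := by
      intro z
      obtain ⟨L, hL⟩ := IsPrecomplete.prec (I := I) (M := M) inferInstance (f := fun n => (f n : Z → M) z)
        (fun {m n} h => SModEq.sub_mem.mpr (map_mem_pow (decayingEval z) (SModEq.sub_mem.mp (hf h))))
      exact ⟨L, fun n => SModEq.sub_mem.mp (hL n)⟩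
    choose L hL using h1
    have hLd : L ∈ decaying I Z M := fun n => ((f n).2 n).subset fun z hz h => hz (by
      simpa using sub_mem h (hL z n))
    exact ⟨⟨L, hLd⟩, fun n => SModEq.sub_mem.mpr ((mem_pow_smul_decaying_iff hI n _).mpr fun z => hL z n)⟩

/-- The kernel of evaluation in a complete completion. -/
theorem pow_smul_top_eq_ker_eval_iff :
    IsAdicComplete I (AdicCompletion I M) ↔
      ∀ n, (LinearMap.ker (AdicCompletion.eval I M n)) ≤ (I ^ n • ⊤ : Submodule A (AdicCompletion I M)) := by
  constructor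
  · intro h n x hx
    choose y hy using fun k => Submodule.Quotient.mk_surjective _ (x.val k)
    obtain ⟨L, hL⟩ := IsPrecomplete.prec (I := I) (M := AdicCompletion I M) h.toIsPrecomplete
      (f := fun k => AdicCompletion.of I M (y k)) (fun {m k} hmk => SModEq.sub_mem.mpr (by
        rw [← map_sub]
        refine map_mem_pow _ ((Submodule.Quotient.eq _).mp ?_)
        rw [hy m, ← x.2 hmk, ← hy k]; rfl))
    have hxL : L = x := AdicCompletion.ext fun k => by
      have := AdicCompletion.pow_smul_top_le_ker_eval (I := I) (M := M) k (SModEq.sub_mem.mp (hL k))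
      rw [LinearMap.mem_ker, map_sub, AdicCompletion.eval_of, Submodule.mkQ_apply, hy k, sub_eq_zero] at this
      exact this.symm
    have h1 : AdicCompletion.of I M (y n) ∈ (I ^ n • ⊤ : Submodule A (AdicCompletion I M)) :=
      map_mem_pow _ ((Submodule.Quotient.mk_eq_zero _).mp ((hy n).trans hx))
    have := sub_mem h1 (SModEq.sub_mem.mp (hL n))
    rwa [sub_sub_cancel, hxL] at this
  · intro h
    refine { toIsPrecomplete := ⟨fun f hf => ?_⟩ }
    let L : AdicCompletion I M := ⟨fun i => (f i).val i, fun {m n} hmn => by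
      rw [(f n).2 hmn]
      have := AdicCompletion.pow_smul_top_le_ker_eval (I := I) (M := M) m (SModEq.sub_mem.mp (hf hmn))
      rw [LinearMap.mem_ker, map_sub, sub_eq_zero] at this
      exact this.symm⟩
    refine ⟨L, fun i => SModEq.sub_mem.mpr (h i ?_)⟩
    rw [LinearMap.mem_ker, map_sub, sub_eq_zero]
    rfl

/-- In a complete completion, the image of `M` is dense. -/
theorem exists_sub_of_mem [h : IsAdicComplete I (AdicCompletion I M)] (n : ℕ) (x : AdicCompletion I M) :
    ∃ y : M, x - AdicCompletion.of I M y ∈ (I ^ n • ⊤ : Submodule A (AdicCompletion I M)) := by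
  obtain ⟨y, hy⟩ := Submodule.Quotient.mk_surjective _ (x.val n)
  refine ⟨y, pow_smul_top_eq_ker_eval_iff.mp h n ?_⟩
  simp [hy]

/-- Two maps out of a complete completion agreeing on `M` are equal. -/
theorem completion_linearMap_ext [IsAdicComplete I (AdicCompletion I M)] [IsHausdorff I N]
    {φ ψ : AdicCompletion I M →ₗ[A] N} (h : ∀ m, φ (AdicCompletion.of I M m) = ψ (AdicCompletion.of I M m)) :
    φ = ψ := by
  refine LinearMap.ext fun x => (IsHausdorff.eq_iff_smodEq (I := I)).mpr fun n => SModEq.sub_mem.mpr ?_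
  obtain ⟨y, hy⟩ := exists_sub_of_mem n x
  have := map_mem_pow (φ - ψ) hy
  rwa [map_sub, LinearMap.sub_apply, LinearMap.sub_apply, h, sub_self, sub_zero] at this

/-- Maps out of `decaying I Z Â` are determined by their values on the `single z 1`. -/
theorem decaying_completion_ext [IsHausdorff I N] [DecidableEq Z] (hI : I.FG)
    {φ ψ : decaying I Z (AdicCompletion I A) →ₗ[A] N}
    (h : ∀ z, φ (single I z 1) = ψ (single I z 1)) : φ = ψ := by
  refine decaying_linearMap_ext hI fun z m => ?_
  haveI := AdicCompletion.isAdicComplete (M := A) hI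
  have : φ ∘ₗ singleLM z = ψ ∘ₗ singleLM z := completion_linearMap_ext fun a => by
    have ha : AdicCompletion.of I A a = a • (1 : AdicCompletion I A) := by
      rw [Algebra.smul_def, mul_one, AdicCompletion.algebraMap_apply]; rfl
    rw [ha, map_smul, map_smul]
    exact congrArg (a • ·) (h z)
  exact LinearMap.congr_fun this m

section sums

variable [IsAdicComplete I M]

variable (I) in
/-- `g ↦ Σ_z g z • f z` on decaying scalars. -/
def scalarSum (f : Z → M) : decaying I Z A →ₗ[A] M :=
  adicSum I Z M ∘ₗ LinearMap.codRestrict _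
    ((LinearMap.pi fun z => LinearMap.toSpanSingleton A M (f z) ∘ₗ LinearMap.proj z) ∘ₗ
      (decaying I Z A).subtype)
    fun g n => (g.2 n).subset fun z hz h => hz (map_mem_pow (LinearMap.toSpanSingleton A M (f z)) h)

theorem scalarSum_sub_mem (f : Z → M) (g : decaying I Z A) (n : ℕ) (S : Finset Z)
    (hS : ∀ z, z ∉ S → (g : Z → A) z • f z ∈ (I ^ n • ⊤ : Submodule A M)) :
    scalarSum I f g - ∑ z ∈ S, (g : Z → A) z • f z ∈ (I ^ n • ⊤ : Submodule A M) :=
  adicSum_sub_mem _ n S hS

variable (I) in
/-- `â ↦ â • m`. -/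
def complSMul (m : M) : AdicCompletion I A →ₗ[A] M :=
  (AdicCompletion.ofLinearEquiv I M).symm.toLinearMap ∘ₗ
    (AdicCompletion.map I (LinearMap.toSpanSingleton A M m)).restrictScalars A

theorem complSMul_one (m : M) : complSMul I m 1 = m := by
  have : (1 : AdicCompletion I A) = AdicCompletion.of I A 1 := by
    rw [← map_one (algebraMap A (AdicCompletion I A)), AdicCompletion.algebraMap_apply]; rfl
  rw [this]
  show (AdicCompletion.ofLinearEquiv I M).symm (AdicCompletion.map I _ (AdicCompletion.of I A 1)) = m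
  erw [AdicCompletion.map_of]
  simp

variable (I) in
/-- `g ↦ Σ_z g z • f z` on decaying scalars in the completion. -/
def complSum (f : Z → M) : decaying I Z (AdicCompletion I A) →ₗ[A] M :=
  adicSum I Z M ∘ₗ LinearMap.codRestrict _
    ((LinearMap.pi fun z => complSMul I (f z) ∘ₗ LinearMap.proj z) ∘ₗ
      (decaying I Z (AdicCompletion I A)).subtype)
    fun g n => (g.2 n).subset fun z hz h => hz (map_mem_pow (complSMul I (f z)) h)

theorem complSum_single [DecidableEq Z] (f : Z → M) (z : Z) : complSum I f (single I z 1) = f z := by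
  have : complSum I f (single I z 1) = adicSum I Z M (single I z (f z)) := by
    refine congrArg (adicSum I Z M) (Subtype.ext (funext fun z' => ?_))
    show complSMul I (f z') ((single I z (1 : AdicCompletion I A) : Z → AdicCompletion I A) z') = (single I z (f z) : Z → M) z'
    rcases eq_or_ne z' z with rfl | h
    · simp [complSMul_one]
    · simp [h]
  rw [this, adicSum_single]

end sums

/-- `IsAdicComplete` passes to retracts. -/
theorem isAdicComplete_of_retract [IsAdicComplete I N] (i : M →ₗ[A] N) (r : N →ₗ[A] M)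
    (h : r ∘ₗ i = LinearMap.id) : IsAdicComplete I M where
  haus' x hx := by
    have : i x = 0 := IsHausdorff.haus (I := I) inferInstance _ fun n =>
      SModEq.zero.mpr (map_mem_pow i (SModEq.zero.mp (hx n)))
    simpa [this] using (LinearMap.congr_fun h x).symm
  prec' f hf := by
    obtain ⟨L, hL⟩ := IsPrecomplete.prec (I := I) (M := N) inferInstance (f := fun n => i (f n))
      (fun {m n} hmn => SModEq.sub_mem.mpr (by rw [← map_sub]; exact map_mem_pow i (SModEq.sub_mem.mp (hf hmn))))
    refine ⟨r L, fun n => SModEq.sub_mem.mpr ?_⟩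
    have := map_mem_pow r (SModEq.sub_mem.mp (hL n))
    rwa [map_sub, show r (i (f n)) = f n from LinearMap.congr_fun h _] at this

end Groth.Agent.CommAlg4
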