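import Mathlib
import Groth.Agent.DR15.ExtBaseChange
import Groth.Agent.CohDer1.QFDiff.Invertible

/-! Top exterior powers of finite projective modules are invertible; the determinant of a split
extension by a free module. -/

set_option autoImplicit false
universe u

open TensorProduct

namespace Groth.Agent.CommAlg4.DetSplitTop

open exteriorPower in
theorem invertible_exteriorPower (R M : Type u) [CommRing R] [IsNoetherianRing R] [AddCommGroup M] [Module R M]
    [Module.Finite R M] [Module.Projective R M] (n : ℕ)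
    (hn : ∀ q : PrimeSpectrum R, Module.rankAtStalk M q = n) : Module.Invertible R ↥(⋀[R]^n M) := by
  refine CohDer1.QFDiff.invertible_of_locally fun q hq => ?_
  haveI : q.IsPrime := hq.isPrime
  let Rq := Localization.AtPrime q
  let Mq := LocalizedModule q.primeCompl M
  let f := LocalizedModule.mkLinearMap q.primeCompl M
  have hf : IsBaseChange Rq f := (isLocalizedModule_iff_isBaseChange q.primeCompl Rq f).1 inferInstance
  let g : ↥(⋀[R]^n M) →ₗ[R] ↥(⋀[Rq]^n Mq) :=
    alternatingMapLinearEquiv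
      { toFun := fun v => ιMulti Rq n (f ∘ v)
        map_update_add' := fun v i x y => by
          simp only [Function.comp_update, map_add, AlternatingMap.map_update_add]
        map_update_smul' := fun v i r x => by
          simp only [Function.comp_update, map_smul]
          rw [← algebraMap_smul Rq r, AlternatingMap.map_update_smul, algebraMap_smul]
        map_eq_zero_of_eq' := fun v i j h hij =>
          (ιMulti Rq n).map_eq_zero_of_eq _ (congrArg f h) hij }
  have hg := DR15.exteriorPower_isBaseChange hf n g (fun v => by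
    rw [alternatingMapLinearEquiv_apply_ιMulti]; rfl)
  haveI : IsLocalizedModule q.primeCompl g := (isLocalizedModule_iff_isBaseChange q.primeCompl Rq g).2 hg
  haveI : Module.Free Rq Mq := Module.free_of_flat_of_isLocalRing
  have hr : Module.finrank Rq Mq = n := hn ⟨q, inferInstance⟩
  haveI : Nontrivial Rq := inferInstance
  have h1 : Module.finrank Rq ↥(⋀[Rq]^n Mq) = 1 := by
    rw [exteriorPower.finrank_eq, hr, Nat.choose_self]
  let b := Module.basisUnique (R := Rq) (Unit) h1
  obtain ⟨⟨x, s⟩, hs⟩ := IsLocalizedModule.surj q.primeCompl g (b ())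
  have hs' : g x = algebraMap R Rq s • b () := by rw [algebraMap_smul]; exact hs.symm
  have hu : IsUnit (algebraMap R Rq s) := IsLocalization.map_units Rq s
  refine ⟨x, fun m => ?_, fun c hc => ?_⟩
  · have hm : g m = (b.repr (g m) () * hu.unit⁻¹.1) • g x := by
      conv_lhs => rw [← b.sum_repr (g m)]
      rw [Fintype.sum_unique, hs', smul_smul, mul_assoc, hu.val_inv_mul, mul_one]
    obtain ⟨⟨a, t⟩, hat⟩ := IsLocalization.surj q.primeCompl (b.repr (g m) () * hu.unit⁻¹.1)
    have : g ((t : R) • m) = g (a • x) := by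
      rw [map_smul, map_smul, hm, ← algebraMap_smul Rq (t : R), ← algebraMap_smul Rq a, smul_smul, mul_comm, hat]
    obtain ⟨v, hv⟩ := (IsLocalizedModule.eq_iff_exists q.primeCompl g).1 this
    refine ⟨(v : R) * t, fun h => (hq.isPrime.mem_or_mem h).elim v.2 t.2, Submodule.mem_span_singleton.2 ⟨v * a, ?_⟩⟩
    rw [Submonoid.smul_def, Submonoid.smul_def, smul_smul, smul_smul] at hv
    exact hv.symm
  · have h0 : algebraMap R Rq c * algebraMap R Rq s = 0 := by
      have := congrArg g hc
      rw [map_smul, map_zero, hs', ← algebraMap_smul Rq c, smul_smul] at this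
      have := congrArg (fun z => b.repr z ()) this
      simpa using this
    rw [mul_comm, hu.mul_right_eq_zero] at h0
    obtain ⟨v, hv⟩ := (IsLocalization.map_eq_zero_iff q.primeCompl Rq c).1 h0
    exact ⟨v, v.2, hv⟩

variable {R M : Type u} [CommRing R] [AddCommGroup M] [Module R M]

open CliffordAlgebra in
theorem exists_contr : ∀ (p : ℕ) (e : Fin p → M) (d : Fin p → Module.Dual R M),
    (∀ i j, d i (e j) = if i = j then 1 else 0) →
    ∃ E ∈ ⋀[R]^p M, ∃ C : ExteriorAlgebra R M →ₗ[R] ExteriorAlgebra R M,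
      (∀ δ : Module.Dual R M, (∀ i, δ (e i) = 0) → ∀ y : ExteriorAlgebra R M,
        contractLeft (Q := (0 : QuadraticForm R M)) δ y = 0 →
          contractLeft (Q := (0 : QuadraticForm R M)) δ (E * y) = 0) ∧
      ∀ y : ExteriorAlgebra R M,
        (∀ i, contractLeft (Q := (0 : QuadraticForm R M)) (d i) y = 0) → C (E * y) = y := by
  intro p
  induction p with
  | zero =>
    intro e d _
    exact ⟨1, by show (1 : ExteriorAlgebra R M) ∈ LinearMap.range (ExteriorAlgebra.ι R) ^ 0; rw [pow_zero]; exact Submodule.one_le.1 le_rfl, LinearMap.id,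
      fun δ _ y hy => by rwa [one_mul], fun y _ => one_mul y⟩
  | succ p ih =>
    intro e d h
    obtain ⟨E, hE, C, hC1, hC2⟩ := ih (fun i => e i.succ) (fun i => d i.succ) (fun i j => by simp [h])
    refine ⟨ExteriorAlgebra.ι R (e 0) * E, ?_, C ∘ₗ contractLeft (Q := (0 : QuadraticForm R M)) (d 0), ?_, ?_⟩
    · show _ ∈ LinearMap.range (ExteriorAlgebra.ι R) ^ (p + 1)
      rw [pow_succ']
      exact Submodule.mul_mem_mul ⟨_, rfl⟩ hE
    · intro δ hδ y hy
      rw [mul_assoc, contractLeft_ι_mul, hδ 0, zero_smul, zero_sub, hC1 δ (fun i => hδ i.succ) y hy, mul_zero, neg_zero]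
    · intro y hy
      have h0 : contractLeft (Q := (0 : QuadraticForm R M)) (d 0) (E * y) = 0 :=
        hC1 (d 0) (fun i => by rw [h 0 i.succ, if_neg (Fin.succ_ne_zero i).symm]) y (hy 0)
      show C (contractLeft (Q := (0 : QuadraticForm R M)) (d 0) (ExteriorAlgebra.ι R (e 0) * E * y)) = y
      rw [mul_assoc, contractLeft_ι_mul, h0, mul_zero, sub_zero, h 0 0, if_pos rfl, one_smul]
      exact hC2 y fun i => hy i.succ

open CliffordAlgebra in
theorem contract_map_eq_zero {Q : Type u} [AddCommGroup Q] [Module R Q] (s : Q →ₗ[R] M) (d : Module.Dual R M)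
    (h : ∀ x, d (s x) = 0) (y : ExteriorAlgebra R Q) :
    contractLeft (Q := (0 : QuadraticForm R M)) d (ExteriorAlgebra.map s y) = 0 := by
  induction y using CliffordAlgebra.left_induction with
  | algebraMap r => rw [AlgHom.commutes]; exact contractLeft_algebraMap (Q := (0 : QuadraticForm R M)) d r
  | add x y hx hy => rw [map_add, map_add, hx, hy, add_zero]
  | ι_mul x m hx =>
    show contractLeft (Q := (0 : QuadraticForm R M)) d (ExteriorAlgebra.map s (ExteriorAlgebra.ι R m * x)) = 0
    rw [map_mul, ExteriorAlgebra.map_apply_ι, contractLeft_ι_mul, h, hx, zero_smul, mul_zero, sub_zero]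

theorem exists_det_equiv [IsNoetherianRing R] [Module.Finite R M] [Module.Projective R M]
    {Q : Type u} [AddCommGroup Q] [Module R Q] (p q : ℕ) (e : Fin p → M) (d : Fin p → Module.Dual R M)
    (hde : ∀ i j, d i (e j) = if i = j then 1 else 0) (g : M →ₗ[R] Q) (s : Q →ₗ[R] M)
    (hs : ∀ x, g (s x) = x) (hds : ∀ i x, d i (s x) = 0) (hsp : ∀ m, m - s (g m) = ∑ i, d i m • e i)
    (hn : ∀ P : PrimeSpectrum R, Module.rankAtStalk M P = p + q) :
    Module.Invertible R ↥(⋀[R]^q Q) ∧ Nonempty (↥(⋀[R]^q Q) ≃ₗ[R] ↥(⋀[R]^(p + q) M)) := by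
  haveI : Module.Finite R Q := Module.Finite.of_surjective g fun x => ⟨s x, hs x⟩
  haveI : Module.Projective R Q := Module.Projective.of_split s g (LinearMap.ext hs)
  have eqv : M ≃ₗ[R] (Fin p → R) × Q := LinearEquiv.ofLinear ((LinearMap.pi d).prod g)
    ((Fintype.linearCombination R e).coprod s)
    (by
      refine LinearMap.ext fun x => ?_
      obtain ⟨c, y⟩ := x
      have hge : ∀ j, g (e j) = 0 := fun j => by
        have h1 := congrArg g (hsp (e j))
        have h2 := hsp (e j)
        rw [Finset.sum_eq_single j (fun i _ hi => by rw [hde, if_neg hi, zero_smul]) (by simp), hde, if_pos rfl,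
          one_smul, sub_eq_self] at h2
        rw [← hs (g (e j)), h2, map_zero]
      refine Prod.ext (funext fun i => ?_) ?_
      · simp [Fintype.linearCombination_apply, map_sum, hde, hds]
      · simp [Fintype.linearCombination_apply, map_sum, hge, hs])
    (LinearMap.ext fun m => by
      simp [Fintype.linearCombination_apply, ← hsp m])
  have hQ : ∀ P : PrimeSpectrum R, Module.rankAtStalk Q P = q := fun P => by
    haveI : Nontrivial R := ⟨⟨0, 1, fun h => P.2.ne_top ((Ideal.eq_top_iff_one _).2 (h ▸ P.asIdeal.zero_mem))⟩⟩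
    have h1 := hn P
    rw [Module.rankAtStalk_eq_of_equiv eqv, Module.rankAtStalk_prod, Pi.add_apply,
      Module.rankAtStalk_eq_finrank_of_free, Pi.natCast_apply, Module.finrank_pi, Fintype.card_fin, Nat.cast_id] at h1
    omega
  haveI i1 := invertible_exteriorPower R Q q hQ
  haveI i2 := invertible_exteriorPower R M (p + q) hn
  refine ⟨i1, ?_⟩
  obtain ⟨E, hE, C, -, hC⟩ := exists_contr p e d hde
  have hmem : ∀ x : ↥(⋀[R]^q Q), E * ExteriorAlgebra.map s (x : ExteriorAlgebra R Q) ∈ ⋀[R]^(p + q) M := fun x => by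
    show _ ∈ LinearMap.range (ExteriorAlgebra.ι R) ^ (p + q)
    rw [pow_add]
    refine Submodule.mul_mem_mul hE ?_
    have hle : Submodule.map (ExteriorAlgebra.map s).toLinearMap (LinearMap.range (ExteriorAlgebra.ι R) ^ q) ≤
        LinearMap.range (ExteriorAlgebra.ι R) ^ q := by
      rw [Submodule.map_pow]
      refine pow_le_pow_left' ?_ q
      rintro _ ⟨_, ⟨m, rfl⟩, rfl⟩
      exact ⟨s m, (ExteriorAlgebra.map_apply_ι s m).symm⟩
    exact hle ⟨(x : ExteriorAlgebra R Q), x.2, rfl⟩
  let Φ : ↥(⋀[R]^q Q) →ₗ[R] ↥(⋀[R]^(p + q) M) :=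
    LinearMap.codRestrict _ (LinearMap.mulLeft R E ∘ₗ (ExteriorAlgebra.map s).toLinearMap ∘ₗ (⋀[R]^q Q).subtype) hmem
  let P : ExteriorAlgebra R Q →ₗ[R] ↥(⋀[R]^q Q) :=
    (DirectSum.component R ℕ (fun i => ↥(⋀[R]^i Q)) q) ∘ₗ
      (DirectSum.decomposeLinearEquiv (fun i => ⋀[R]^i Q)).toLinearMap
  let Ψ : ↥(⋀[R]^(p + q) M) →ₗ[R] ↥(⋀[R]^q Q) :=
    P ∘ₗ (ExteriorAlgebra.map g).toLinearMap ∘ₗ C ∘ₗ (⋀[R]^(p + q) M).subtype
  have hΨΦ : Function.LeftInverse Ψ Φ := fun x => by
    show P (ExteriorAlgebra.map g (C (E * ExteriorAlgebra.map s (x : ExteriorAlgebra R Q)))) = x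
    rw [hC _ (fun i => contract_map_eq_zero s (d i) (hds i) _), ← AlgHom.comp_apply, ExteriorAlgebra.map_comp_map,
      show g ∘ₗ s = LinearMap.id from LinearMap.ext hs, ExteriorAlgebra.map_id, AlgHom.id_apply]
    show (DirectSum.decompose (fun i => ⋀[R]^i Q) (x : ExteriorAlgebra R Q)) q = x
    rw [DirectSum.decompose_coe, DirectSum.of_eq_same]
  exact ⟨Module.Invertible.linearEquivOfLeftInverse hΨΦ |>.symm⟩

end Groth.Agent.CommAlg4.DetSplitTop
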