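import Groth.Agent.FF.DiffExp
import Groth.Agent.FF.RamGroups
import Mathlib.RingTheory.Unramified.Field
import Mathlib.RingTheory.HahnSeries.Multiplication

/-! The different exponent of a Galois extension through the ramification groups. -/

set_option autoImplicit false
set_option backward.isDefEq.respectTransparency false

open FunFld WithZero Polynomial LocRes
open scoped LaurentSeries Classical

namespace Groth.Agent.CommAlg4.DiffExpGalois

universe u v w

variable {k : Type u} {F' : Type w} [Field k] [Field F'] [Algebra k F']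

/-- A derivation of the coefficients, applied coefficientwise. -/
noncomputable def coeffDer (δ : Derivation k F' F') (f : F'⸨X⸩) : F'⸨X⸩ :=
  HahnSeries.map f δ.toLinearMap

theorem coeffDer_coeff (δ : Derivation k F' F') (f : F'⸨X⸩) (n : ℤ) : (coeffDer δ f).coeff n = δ (f.coeff n) := rfl

theorem coeffDer_add (δ : Derivation k F' F') (f g : F'⸨X⸩) : coeffDer δ (f + g) = coeffDer δ f + coeffDer δ g := by
  ext n; simp [coeffDer_coeff]

theorem coeffDer_mul (δ : Derivation k F' F') (f g : F'⸨X⸩) :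
    coeffDer δ (f * g) = f * coeffDer δ g + g * coeffDer δ f := by
  ext n
  have hf : (coeffDer δ f).support ⊆ f.support := fun m hm h0 => hm (by
    change δ (f.coeff m) = 0; rw [h0, map_zero])
  have hg : (coeffDer δ g).support ⊆ g.support := fun m hm h0 => hm (by
    change δ (g.coeff m) = 0; rw [h0, map_zero])
  rw [coeffDer_coeff, HahnSeries.coeff_add, HahnSeries.coeff_mul, map_sum, mul_comm g (coeffDer δ f),
    HahnSeries.coeff_mul_right' g.isPWO_support hg, HahnSeries.coeff_mul_left' f.isPWO_support hf,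
    ← Finset.sum_add_distrib]
  exact Finset.sum_congr rfl fun ij _ => by
    rw [coeffDer_coeff, coeffDer_coeff, Derivation.leibniz, smul_eq_mul, smul_eq_mul]; ring

theorem valued_coeffDer_le (δ : Derivation k F' F') {f : F'⸨X⸩} {n : ℤ} (h : Valued.v f ≤ exp (-n)) :
    Valued.v (coeffDer δ f) ≤ exp (-n) := by
  rw [LaurentSeries.valuation_le_iff_coeff_lt_eq_zero] at h ⊢
  intro m hm
  rw [coeffDer_coeff, h m hm, map_zero]

theorem algMap_eq (c : k) : algebraMap k F'⸨X⸩ c = HahnSeries.C (algebraMap k F' c) := by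
  rw [HahnSeries.algebraMap_apply', PowerSeries.algebraMap_apply, HahnSeries.ofPowerSeries_C]

theorem D_const (c : k) : LocRes.D F' (algebraMap k F'⸨X⸩ c) = 0 := by
  have h : algebraMap k F'⸨X⸩ c = algebraMap F' F'⸨X⸩ (algebraMap k F' c) := by
    rw [algMap_eq, HahnSeries.algebraMap_apply', PowerSeries.algebraMap_apply, HahnSeries.ofPowerSeries_C]
    rfl
  rw [h]
  exact (LocRes.D F').map_algebraMap _

theorem D_aeval (y : F'⸨X⸩) (g : Polynomial k) :
    LocRes.D F' (Polynomial.aeval y g) = Polynomial.aeval y (derivative g) * LocRes.D F' y := by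
  induction g using Polynomial.induction_on' with
  | add p q hp hq => rw [map_add, map_add, hp, hq, map_add, map_add, add_mul]
  | monomial i c =>
    rw [derivative_monomial, aeval_monomial, aeval_monomial, Derivation.leibniz, Derivation.leibniz_pow, D_const,
      smul_zero, add_zero, smul_eq_mul, nsmul_eq_mul, smul_eq_mul, map_mul, map_natCast]
    ring

theorem coeffDer_const (δ : Derivation k F' F') (c : k) : coeffDer δ (algebraMap k F'⸨X⸩ c) = 0 := by
  ext n
  rw [coeffDer_coeff, algMap_eq, HahnSeries.C_apply,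
    HahnSeries.coeff_single]
  split_ifs
  · simp
  · simp

variable {K K' : Type v} [Field K] [Field K'] [Algebra k K] [Algebra K K'] [Algebra k K'] [IsScalarTower k K K']

/-- A derivation into Laurent series over `k` along `ψ`. -/
structure IsDer (ψ : K' →ₐ[k] F'⸨X⸩) (E : F'⸨X⸩ → F'⸨X⸩) : Prop where
  add : ∀ f g, E (f + g) = E f + E g
  mul : ∀ f g, E (f * g) = f * E g + g * E f
  const : ∀ c : k, E (algebraMap k F'⸨X⸩ c) = 0

theorem isDer_coeffDer (ψ : K' →ₐ[k] F'⸨X⸩) (δ : Derivation k F' F') : IsDer ψ (coeffDer δ) :=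
  ⟨coeffDer_add δ, coeffDer_mul δ, coeffDer_const δ⟩

theorem isDer_D (ψ : K' →ₐ[k] F'⸨X⸩) : IsDer ψ (LocRes.D F') :=
  ⟨fun f g => map_add _ f g, fun f g => by rw [Derivation.leibniz, smul_eq_mul, smul_eq_mul], D_const⟩

variable [FiniteDimensional K K'] [Algebra.IsSeparable K K']

/-- Every derivation along `ψ` is determined by its value at `t`. -/
theorem exists_rel (hK : IsFunctionField k K) (hg : IsGeometric k K) (ψ : K' →ₐ[k] F'⸨X⸩) {t : K}
    (ht : KaehlerDifferential.D k K t ≠ 0) (a : K') :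
    ∃ z : F'⸨X⸩, ∀ E, IsDer ψ E → E (ψ a) = z * E (ψ (algebraMap K K' t)) := by
  choose c hc using FF.exists_smul_D hK hg ht
  set χ := ψ.comp (IsScalarTower.toAlgHom k K K')
  set g := minpoly K a with hg'
  have hne : ψ (aeval a (derivative g)) ≠ 0 := (_root_.map_ne_zero ψ).mpr
    ((Algebra.IsSeparable.isSeparable K a).aeval_derivative_ne_zero (minpoly.aeval K a))
  refine ⟨-(∑ i ∈ Finset.range (g.natDegree + 1), ψ a ^ i * χ (c (g.coeff i))) / ψ (aeval a (derivative g)),
    fun E hE => ?_⟩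
  have hK0 : ∀ b, E (χ b) = χ (c b) * E (χ t) := fun b => by
    letI := χ.toRingHom.toAlgebra
    haveI : IsScalarTower k K F'⸨X⸩ := isScalarTower_exp χ
    let d : Derivation k K F'⸨X⸩ :=
      { toFun := fun b => E (χ b)
        map_add' := fun p q => by rw [map_add, hE.add]
        map_smul' := fun r p => by
          show E (χ (r • p)) = r • E (χ p)
          rw [Algebra.smul_def, map_mul, AlgHom.commutes, hE.mul, hE.const, mul_zero, add_zero, algMap_eq,
            HahnSeries.C_mul_eq_smul, algebraMap_smul]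
        map_one_eq_zero' := by
          show E (χ 1) = 0
          rw [map_one, ← map_one (algebraMap k F'⸨X⸩), hE.const]
        leibniz' := fun p q => by
          show E (χ (p * q)) = χ p * E (χ q) + χ q * E (χ p)
          rw [map_mul, hE.mul] }
    have h1 := congrArg d.liftKaehlerDifferential (hc b)
    rw [map_smul, Derivation.liftKaehlerDifferential_comp_D, Derivation.liftKaehlerDifferential_comp_D] at h1
    exact h1
  have hzero : E 0 = 0 := by simpa using hE.const 0
  have hsum : ∀ (s : Finset ℕ) (F : ℕ → F'⸨X⸩), E (∑ i ∈ s, F i) = ∑ i ∈ s, E (F i) := fun s F => by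
    induction s using Finset.induction with
    | empty => simpa using hzero
    | insert i s hi ih => rw [Finset.sum_insert hi, Finset.sum_insert hi, hE.add, ih]
  have hpow : ∀ (f : F'⸨X⸩) (i : ℕ), E (f ^ i) = (i : F'⸨X⸩) * f ^ (i - 1) * E f := fun f i => by
    induction i with
    | zero => simpa using (show E 1 = 0 by rw [← map_one (algebraMap k F'⸨X⸩), hE.const])
    | succ i ih =>
      rw [pow_succ, hE.mul, ih, Nat.add_sub_cancel]
      rcases Nat.eq_zero_or_pos i with rfl | hi
      · simp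
      · rw [show f * ((i : F'⸨X⸩) * f ^ (i - 1) * E f) = (i : F'⸨X⸩) * (f * f ^ (i - 1)) * E f by ring, ← pow_succ',
          Nat.sub_add_cancel hi]
        push_cast; ring
  have h0 : ∑ i ∈ Finset.range (g.natDegree + 1), χ (g.coeff i) * ψ a ^ i = 0 := by
    have := congrArg ψ (minpoly.aeval K a)
    rw [map_zero, aeval_eq_sum_range, map_sum] at this
    refine Eq.trans (Finset.sum_congr rfl fun i _ => ?_) this
    rw [Algebra.smul_def, map_mul, map_pow]; rfl
  have hder : ψ (aeval a (derivative g)) =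
      ∑ i ∈ Finset.range (g.natDegree + 1), χ (g.coeff i) * ((i : F'⸨X⸩) * ψ a ^ (i - 1)) := by
    conv_lhs => rw [g.as_sum_range_C_mul_X_pow, derivative_sum]
    rw [map_sum, map_sum]
    refine Finset.sum_congr rfl fun i _ => ?_
    rw [derivative_C_mul_X_pow, map_mul, map_pow, aeval_C, aeval_X]
    simp only [map_mul, map_natCast, map_pow]
    show χ (g.coeff i) * (i : F'⸨X⸩) * ψ a ^ (i - 1) = _
    ring
  have h1 := congrArg E h0
  rw [hsum, hzero] at h1
  have h2 : (∑ i ∈ Finset.range (g.natDegree + 1), ψ a ^ i * χ (c (g.coeff i))) * E (χ t) +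
      ψ (aeval a (derivative g)) * E (ψ a) = 0 := by
    rw [hder, Finset.sum_mul, Finset.sum_mul, ← Finset.sum_add_distrib, ← h1]
    refine Finset.sum_congr rfl fun i _ => ?_
    rw [hE.mul, hpow, hK0 (g.coeff i)]
    ring
  rw [div_mul_eq_mul_div, eq_div_iff hne]
  show E (ψ a) * _ = _ * E (χ t)
  linear_combination h2

/-- The coefficient field is separable over the constants. -/
theorem isSeparable_coeff (hK : IsFunctionField k K) (hg : IsGeometric k K) {Q : Place k K'}
    {ψ : K' →ₐ[k] F'⸨X⸩} (hψ : IsExpansionAt Q.1 ψ) [FiniteDimensional k F'] {t : K}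
    (ht : KaehlerDifferential.D k K t ≠ 0) (hT : LocRes.D F' (ψ (algebraMap K K' t)) ≠ 0) :
    Algebra.IsSeparable k F' := by
  have hzero : ∀ δ : Derivation k F' F', δ = 0 := fun δ => by
    obtain ⟨s, hs⟩ := hψ.2.2
    have hvs : Valued.v (ψ s) = exp (-1 : ℤ) := by rw [hψ.1, hs]
    have hDs := FF.valued_D_eq_one hvs
    obtain ⟨zs, hzs⟩ := exists_rel hK hg ψ ht s
    set T := LocRes.D F' (ψ (algebraMap K K' t))
    set T' := coeffDer δ (ψ (algebraMap K K' t))
    have h1 := hzs _ (isDer_D ψ)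
    have h2 := hzs _ (isDer_coeffDer ψ δ)
    have hzs0 : zs ≠ 0 := fun h => by rw [h1, h, zero_mul, map_zero] at hDs; exact zero_ne_one hDs
    have hlam : coeffDer δ (ψ s) / LocRes.D F' (ψ s) = T' / T := by
      rw [h1, h2, mul_div_mul_left _ _ hzs0]
    refine Derivation.ext fun a => ?_
    obtain ⟨f, hf, hfa⟩ := hψ.2.1 a
    obtain ⟨zf, hzf⟩ := exists_rel hK hg ψ ht f
    have h3 : coeffDer δ (ψ f) = LocRes.D F' (ψ f) * (coeffDer δ (ψ s) / LocRes.D F' (ψ s)) := by
      rw [hlam, hzf _ (isDer_D ψ), hzf _ (isDer_coeffDer ψ δ)]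
      rw [← mul_div_assoc, eq_div_iff hT]
      ring
    have h4 : Valued.v (coeffDer δ (ψ f)) ≤ exp (-1 : ℤ) := by
      rw [h3, map_mul, map_div₀, hDs, div_one]
      calc _ ≤ 1 * exp (-1 : ℤ) := mul_le_mul' (FF.valued_D_le_one (by rw [hψ.1]; exact hf))
            (valued_coeffDer_le δ hvs.le)
        _ = _ := one_mul _
    have := (LaurentSeries.valuation_le_iff_coeff_lt_eq_zero F').mp h4 0 (by norm_num)
    rwa [coeffDer_coeff, hfa] at this
  haveI : Algebra.FormallyUnramified k F' := ⟨subsingleton_of_forall_eq 0 fun x => by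
    by_contra hx
    have hspan := KaehlerDifferential.span_range_derivation k F'
    obtain ⟨ℓ, hℓ⟩ := Module.Projective.exists_dual_ne_zero F' hx
    refine hℓ ?_
    have hl : ∀ w ∈ Submodule.span F' (Set.range (KaehlerDifferential.D k F')), ℓ w = 0 := fun w hw => by
      induction hw using Submodule.span_induction with
      | mem w hw =>
        obtain ⟨b, rfl⟩ := hw
        exact Derivation.congr_fun (hzero (ℓ.compDer (KaehlerDifferential.D k F'))) b
      | zero => exact map_zero ℓ
      | add p q _ _ hp hq => rw [map_add, hp, hq, add_zero]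
      | smul r p _ hp => rw [map_smul, hp, smul_zero]
    exact hl x (hspan ▸ trivial)⟩
  exact Algebra.FormallyUnramified.isSeparable k F'

theorem finite_and_separable_residue (hK : IsFunctionField k K) (hg : IsGeometric k K) {Q : Place k K'}
    {ψ : K' →ₐ[k] F'⸨X⸩} (hψ : IsExpansionAt Q.1 ψ) {t : K} (ht : KaehlerDifferential.D k K t ≠ 0)
    (hT : LocRes.D F' (ψ (algebraMap K K' t)) ≠ 0) :
    Algebra.IsSeparable k (IsLocalRing.ResidueField Q.O) := by
  have hfd := FF.finiteDimensional_residue' (FF.isFF'_ext (K' := K') hK.1) Q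
  let π : Q.O →+* F' :=
    { toFun := fun a => (ψ (a : K')).coeff 0
      map_one' := by simp
      map_zero' := by simp
      map_add' := fun a b => by simp
      map_mul' := fun a b => by
        obtain ⟨u, hu⟩ := (LaurentSeries.val_le_one_iff_eq_coe F' _).mp
          (show Valued.v (ψ (a : K')) ≤ (1 : WithZero (Multiplicative ℤ)) by rw [hψ.1]; exact (FF.mem_O Q).mp a.2)
        obtain ⟨u', hu'⟩ := (LaurentSeries.val_le_one_iff_eq_coe F' _).mp
          (show Valued.v (ψ (b : K')) ≤ (1 : WithZero (Multiplicative ℤ)) by rw [hψ.1]; exact (FF.mem_O Q).mp b.2)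
        have e : ∀ v : PowerSeries F', (v : F'⸨X⸩).coeff 0 = PowerSeries.constantCoeff v := fun v => by
          rw [← PowerSeries.coeff_zero_eq_constantCoeff_apply]
          exact_mod_cast HahnSeries.ofPowerSeries_apply_coeff v 0
        show (ψ ((a : K') * (b : K'))).coeff 0 = _
        rw [map_mul, ← hu, ← hu', ← PowerSeries.coe_mul, e, e, e, map_mul] }
  have hπs : Function.Surjective π := fun a => by
    obtain ⟨f, hf, hfa⟩ := hψ.2.1 a
    exact ⟨⟨f, (FF.mem_O Q).mpr hf⟩, hfa⟩
  have hπm : ∀ a : Q.O, Q.1 (a : K') < 1 → π a = 0 := fun a ha => by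
    have h : Valued.v (ψ (a : K')) ≤ exp (-1 : ℤ) := by rw [hψ.1]; simpa using FF.pow_le_exp_neg ha 1
    exact (LaurentSeries.valuation_le_iff_coeff_lt_eq_zero F').mp h 0 (by norm_num)
  haveI : IsLocalHom π := ⟨fun a ha => by
    by_contra hn
    exact ha.ne_zero (hπm a ((FF.residue_eq_zero_iff Q).mp ((IsLocalRing.residue_eq_zero_iff a).mpr hn)))⟩
  let ρ : IsLocalRing.ResidueField Q.O →+* F' := IsLocalRing.ResidueField.lift π
  have hρ : Function.Bijective ρ := ⟨ρ.injective, fun a => by
    obtain ⟨b, hb⟩ := hπs a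
    exact ⟨IsLocalRing.residue _ b, hb⟩⟩
  let ρk : IsLocalRing.ResidueField Q.O ≃ₐ[k] F' := AlgEquiv.ofRingEquiv (f := RingEquiv.ofBijective ρ hρ) fun c => by
    show (ψ (algebraMap k K' c)).coeff 0 = _
    rw [AlgHom.commutes, algMap_eq, HahnSeries.C_apply,
      HahnSeries.coeff_single_same]
  haveI : FiniteDimensional k F' := Module.Finite.equiv ρk.toLinearEquiv
  haveI := isSeparable_coeff hK hg hψ ht hT
  exact AlgEquiv.Algebra.isSeparable ρk.symm

variable [IsGalois K K'] {F : Type w} [Field F] [Algebra k F] {P : Place k K} {Q : Place k K'}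

theorem fixed_val_le (hK : IsFunctionField k K) {e : ℕ} (he : IsOverWith Q P e)
    [Algebra.IsSeparable k (IsLocalRing.ResidueField Q.O)] {a : K'} (ha : ∀ σ ∈ FF.inertiaG K Q, σ a = a)
    (hlt : Q.1 a < 1) : Q.1 a ≤ exp (-(e : ℤ)) := by
  set E : IntermediateField K K' := IntermediateField.fixedField
    (((Q.O).inertiaSubgroup K).map ((Q.O).decompositionSubgroup K).subtype)
  haveI : IsScalarTower k E K' := IsScalarTower.of_algebraMap_eq fun _ => rfl
  obtain ⟨QE, e', -, hE⟩ := FF.exists_isOverWith (K := E) (FF.isFF'_ext hK.1) Q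
  obtain rfl : e' = e := (FF.ramIdx_tower_iff hK.1 he E hE).2.mpr le_rfl
  have hmem : a ∈ E := by
    rintro ⟨σ, hσ⟩
    exact ha σ ((FF.mem_inertia_iff σ).mp hσ)
  have h := hE ⟨a, hmem⟩
  change Q.1 a = _ at h
  have h1 : QE.1 ⟨a, hmem⟩ < 1 := (FF.ow_lt_one_iff hE _).mp hlt
  rw [h]
  refine (pow_le_pow_left₀ zero_le (show QE.1 ⟨a, hmem⟩ ≤ exp (-1 : ℤ) by simpa using FF.pow_le_exp_neg h1 1) _).trans_eq ?_
  rw [← exp_nsmul]; simp

set_option maxHeartbeats 800000 in
theorem diffExp_eq_sum (hK : IsFunctionField k K) (hg : IsGeometric k K) {e : ℕ} (he : IsOverWith Q P e)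
    [Algebra.IsSeparable k (IsLocalRing.ResidueField Q.O)]
    {φ : K →ₐ[k] F⸨X⸩} (hφ : IsExpansionAt P.1 φ) {ψ : K' →ₐ[k] F'⸨X⸩} (hψ : IsExpansionAt Q.1 ψ) {x : K}
    (hx : vDiff φ 1 x ≠ 0) (hx' : vDiff ψ 1 (algebraMap K K' x) ≠ 0) {s : K'} (hs : Q.1 s = exp (-1 : ℤ))
    (I : Finset (K' ≃ₐ[K] K')) (hI : ∀ σ, σ ∈ I ↔ σ ∈ FF.inertiaG K Q) :
    diffExp φ ψ e x = ∑ σ ∈ I.erase 1, Q.ord (σ s - s) := by
  obtain ⟨t, ht, hDt⟩ := FF.exists_val_exp_neg_one hφ
  obtain ⟨hd, hne⟩ := FF.diffExp_eq hK hg he hφ hψ hx hx' ht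
  set T := LocRes.D F' (ψ (algebraMap K K' t)) with hTdef
  have hs0 : s ≠ 0 := fun h => exp_ne_zero (hs.symm.trans (by rw [h, map_zero]))
  have ht0 : t ≠ 0 := fun h => exp_ne_zero (ht.symm.trans (by rw [h, map_zero]))
  have htv : Q.1 (algebraMap K K' t) = exp (-(e : ℤ)) := by rw [he, ht, ← exp_nsmul]; simp
  have hcard : I.card = e := by
    rw [← FF.card_inertia hK.1 he, FF.card_inertia_eq_card_set, ← Nat.card_eq_finsetCard]
    exact Nat.card_congr (Equiv.subtypeEquivRight hI)
  have he0 : 0 < e := hcard ▸ Finset.card_pos.mpr ⟨1, (hI 1).mpr (FF.inertia_one Q)⟩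
  have hdiv : ∀ a, Q.1 a ≤ exp (-(e : ℤ)) → Q.1 (a / algebraMap K K' t) ≤ 1 := fun a ha => by
    rw [map_div₀, htv, div_le_one₀ (zero_lt_iff.mpr exp_ne_zero)]; exact ha
  have hfixdiv : ∀ a, (∀ σ ∈ FF.inertiaG K Q, σ a = a) → ∀ σ ∈ FF.inertiaG K Q,
      σ (a / algebraMap K K' t) = a / algebraMap K K' t := fun a ha σ hσ => by
    rw [map_div₀, ha σ hσ, AlgEquiv.commutes]
  have hsplit : ∀ a, LocRes.D F' (ψ a) =
      ψ (a / algebraMap K K' t) * T + ψ (algebraMap K K' t) * LocRes.D F' (ψ (a / algebraMap K K' t)) := fun a => by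
    conv_lhs => rw [show a = algebraMap K K' t * (a / algebraMap K K' t) by
      rw [mul_div_cancel₀ _ ((_root_.map_ne_zero _).mpr ht0)], map_mul, Derivation.leibniz, smul_eq_mul, smul_eq_mul]
    rw [add_comm, hTdef]
  -- derivatives of invariant integral elements are divisible by `T`
  have hbound : ∀ N : ℕ, ∀ a, (∀ σ ∈ FF.inertiaG K Q, σ a = a) → Q.1 a ≤ 1 →
      Valued.v (LocRes.D F' (ψ a)) ≤ max (Valued.v T) (exp (-((N * e : ℕ) : ℤ))) := by
    intro N
    induction N with
    | zero =>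
      intro a _ ha
      refine le_max_of_le_right ?_
      rw [zero_mul, Nat.cast_zero, neg_zero, exp_zero]
      exact FF.valued_D_le_one (by rw [hψ.1]; exact ha)
    | succ N ih =>
      intro a hfix ha
      let r := IsLocalRing.residue Q.O ⟨a, (FF.mem_O Q).mpr ha⟩
      haveI := FF.finiteDimensional_residue' (FF.isFF'_ext (K' := K') hK.1) Q
      set g := minpoly k r
      have hev : ∀ p : Polynomial k, ∀ h : aeval a p ∈ Q.O, IsLocalRing.residue Q.O ⟨aeval a p, h⟩ = aeval r p := fun p h => by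
        have e1 : (⟨aeval a p, h⟩ : Q.O) = p.eval₂ ((algebraMap k K').codRestrict Q.O.toSubring fun c => (FF.mem_O Q).mpr (Q.2.1 c))
            ⟨a, (FF.mem_O Q).mpr ha⟩ := by
          apply Subtype.ext
          show aeval a p = Q.O.subtype _
          rw [hom_eval₂]
          rfl
        rw [e1, hom_eval₂]
        rfl
      have hint : ∀ p : Polynomial k, Q.1 (aeval a p) ≤ 1 := fun p => by
        induction p using Polynomial.induction_on' with
        | add p q hp hq => rw [map_add]; exact (Q.1.map_add _ _).trans (max_le hp hq)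
        | monomial i c =>
          rw [aeval_monomial, map_mul, map_pow]
          exact mul_le_one' (Q.2.1 c) (pow_le_one' ha i)
      have hg0 : Q.1 (aeval a g) < 1 := by
        have h := hev g ((FF.mem_O Q).mpr (hint g))
        rw [minpoly.aeval] at h
        exact (FF.residue_eq_zero_iff Q).mp h
      have hg1 : Q.1 (aeval a (derivative g)) = 1 := by
        refine le_antisymm (hint _) (not_lt.mp fun hlt => ?_)
        have h := hev (derivative g) ((FF.mem_O Q).mpr (hint _))
        rw [(FF.residue_eq_zero_iff Q).mpr hlt] at h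
        exact (Algebra.IsSeparable.isSeparable k r).aeval_derivative_ne_zero (minpoly.aeval k r) h.symm
      have hfixg : ∀ σ ∈ FF.inertiaG K Q, σ (aeval a g) = aeval a g := fun σ hσ => by
        conv_rhs => rw [← hfix σ hσ]
        exact (Polynomial.aeval_algHom_apply ((σ : K' →ₐ[K] K').restrictScalars k) a g).symm
      have hgle := fixed_val_le hK he hfixg hg0
      have hD : ψ (aeval a (derivative g)) * LocRes.D F' (ψ a) = LocRes.D F' (ψ (aeval a g)) := by
        rw [← Polynomial.aeval_algHom_apply, ← Polynomial.aeval_algHom_apply, D_aeval]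
      have h1 := congrArg (Valued.v ·) hD
      simp only [map_mul, hψ.1, hg1, one_mul] at h1
      rw [h1, hsplit]
      refine (Valued.v.map_add _ _).trans (max_le (le_max_of_le_left ?_) ?_)
      · rw [map_mul, hψ.1]; exact mul_le_of_le_one_left' (hdiv _ hgle)
      · rw [map_mul, hψ.1, htv]
        refine (mul_le_mul' le_rfl (ih _ (hfixdiv _ hfixg) (hdiv _ hgle))).trans ?_
        rw [mul_max]
        refine max_le_max (mul_le_of_le_one_left' ?_) (le_of_eq ?_)
        · rw [← exp_zero, exp_le_exp]; omega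
        · rw [← exp_add]; push_cast; ring_nf
  have hT0 : ∃ d : ℤ, Valued.v T = exp (-d) := ⟨-log (Valued.v T), by rw [neg_neg, exp_log hne]⟩
  obtain ⟨d, hdT⟩ := hT0
  have hle : ∀ a, (∀ σ ∈ FF.inertiaG K Q, σ a = a) → Q.1 a ≤ 1 → Valued.v (LocRes.D F' (ψ a)) ≤ Valued.v T := fun a hf ha => by
    refine (hbound d.toNat a hf ha).trans (max_le le_rfl ?_)
    rw [hdT, exp_le_exp]
    have := Int.self_le_toNat d
    push_cast
    nlinarith
  -- the invariant Eisenstein polynomial of `s`
  set f : Polynomial K' := ∏ σ ∈ I, (Polynomial.X - Polynomial.C (σ s)) with hf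
  have hdeg : f.natDegree = e := by
    rw [hf, natDegree_prod _ _ fun σ _ => X_sub_C_ne_zero _]
    simp [hcard]
  have hsig : ∀ σ ∈ I, Q.1 (σ s) = exp (-1 : ℤ) := fun σ hσ => by rw [FF.val_inertia_eq ((hI σ).mp hσ), hs]
  have hfix : ∀ i, ∀ τ ∈ FF.inertiaG K Q, τ (f.coeff i) = f.coeff i := fun i τ hτ => by
    have hmap : f.map (τ : K' →+* K') = f := by
      rw [hf]
      simp only [Polynomial.map_prod, Polynomial.map_sub, Polynomial.map_X, Polynomial.map_C]
      refine Finset.prod_bij' (fun σ _ => τ * σ) (fun σ _ => τ⁻¹ * σ)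
        (fun σ hσ => (hI _).mpr (FF.inertia_mul hτ ((hI σ).mp hσ)))
        (fun σ hσ => (hI _).mpr (FF.inertia_mul (FF.inertia_inv hτ) ((hI σ).mp hσ)))
        (fun σ _ => by simp) (fun σ _ => by simp) (fun σ _ => rfl)
    have := congrArg (fun q => Polynomial.coeff q i) hmap
    rwa [Polynomial.coeff_map] at this
  have hlead : f.coeff e = 1 := hdeg ▸ (monic_prod_of_monic _ _ fun σ _ => monic_X_sub_C _).coeff_natDegree
  have hsmall : ∀ i, i < e → Q.1 (f.coeff i) < 1 := fun i hi => by
    let pO : Polynomial Q.O := ∏ σ ∈ I.attach, (Polynomial.X - Polynomial.C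
      ⟨σ.1 s, (FF.mem_O Q).mpr ((hsig σ.1 σ.2).trans_le (by rw [← exp_zero, exp_le_exp]; omega))⟩)
    have hp : pO.map Q.O.subtype = f := by
      simp only [pO, Polynomial.map_prod, Polynomial.map_sub, Polynomial.map_X, Polynomial.map_C, hf]
      exact Finset.prod_attach I fun σ => (Polynomial.X - Polynomial.C (σ s))
    have hres : pO.map (IsLocalRing.residue Q.O) = Polynomial.X ^ e := by
      simp only [pO, Polynomial.map_prod, Polynomial.map_sub, Polynomial.map_X, Polynomial.map_C]
      rw [Finset.prod_congr rfl (g := fun _ => Polynomial.X) fun σ _ => by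
        rw [(FF.residue_eq_zero_iff Q).mpr ((hsig σ.1 σ.2).trans_lt (by rw [← exp_zero, exp_lt_exp]; omega)),
          map_zero, sub_zero]]
      rw [Finset.prod_const, Finset.card_attach, hcard]
    rw [← hp, Polynomial.coeff_map]
    refine (FF.residue_eq_zero_iff Q).mp ?_
    rw [← Polynomial.coeff_map, hres, coeff_X_pow, if_neg hi.ne]
  have hc0 : Q.1 (f.coeff 0) = exp (-(e : ℤ)) := by
    rw [coeff_zero_eq_eval_zero, hf, eval_prod, map_prod]
    simp only [eval_sub, eval_X, eval_C, zero_sub, Valuation.map_neg]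
    rw [Finset.prod_congr rfl hsig, Finset.prod_const, hcard, ← exp_nsmul]; simp
  have hsum : ∑ i ∈ Finset.range (e + 1), f.coeff i * s ^ i = 0 := by
    rw [← hdeg, ← eval_eq_sum_range, hf, eval_prod]
    exact Finset.prod_eq_zero ((hI 1).mpr (FF.inertia_one Q)) (by simp)
  set S := ψ s
  have hDS := FF.valued_D_eq_one (f := S) (by rw [hψ.1, hs])
  have hderiv : (∑ i ∈ Finset.range (e + 1), LocRes.D F' (ψ (f.coeff i)) * S ^ i) +
      ψ ((derivative f).eval s) * LocRes.D F' S = 0 := by
    have h1 := congrArg (fun z => LocRes.D F' (ψ z)) hsum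
    simp only [map_zero] at h1
    have hev : (derivative f).eval s = ∑ i ∈ Finset.range (e + 1), f.coeff i * ((i : K') * s ^ (i - 1)) := by
      conv_lhs => rw [f.as_sum_range_C_mul_X_pow, derivative_sum, eval_finset_sum]
      refine Finset.sum_congr (by rw [hdeg]) fun i _ => ?_
      rw [derivative_C_mul_X_pow, eval_mul, eval_pow, eval_C, eval_X]
      ring
    rw [hev, ← h1, map_sum ψ, map_sum ψ, map_sum (LocRes.D F'), Finset.sum_mul, ← Finset.sum_add_distrib]
    refine Finset.sum_congr rfl fun i _ => ?_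
    rw [map_mul ψ, map_mul ψ, map_mul ψ, map_natCast ψ, map_pow ψ, map_pow ψ, Derivation.leibniz, Derivation.leibniz_pow]
    simp only [smul_eq_mul, nsmul_eq_mul]
    ring
  have hterm : Valued.v (LocRes.D F' (ψ (f.coeff 0))) = Valued.v T := by
    rw [hsplit]
    have hu : Valued.v (ψ (f.coeff 0 / algebraMap K K' t) * T) = Valued.v T := by
      rw [map_mul, hψ.1, map_div₀, hc0, htv, div_self exp_ne_zero, one_mul]
    rw [Valuation.map_add_eq_of_lt_left, hu]
    rw [hu, map_mul, hψ.1, htv]
    refine lt_of_le_of_lt (mul_le_mul' le_rfl (hle _ (hfixdiv _ (hfix 0)) (hdiv _ hc0.le))) ?_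
    rw [hdT, ← exp_add, exp_lt_exp]
    omega
  have hvsum : Valued.v (∑ i ∈ Finset.range (e + 1), LocRes.D F' (ψ (f.coeff i)) * S ^ i) = Valued.v T := by
    rw [Finset.range_eq_Ico, Finset.sum_eq_sum_Ico_succ_bot (by omega : 0 < e + 1), pow_zero, mul_one,
      Valuation.map_add_eq_of_lt_left, hterm]
    rw [hterm]
    refine Valuation.map_sum_lt _ hne fun i hi => ?_
    rw [Finset.mem_Ico] at hi
    rw [map_mul, map_pow, hψ.1, hs, ← exp_nsmul, hdT]
    refine lt_of_le_of_lt (mul_le_mul' ((hle _ (hfix i) ?_).trans hdT.le) le_rfl) ?_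
    · rcases lt_or_eq_of_le (show i ≤ e by omega) with h | h
      · exact (hsmall i h).le
      · rw [h, hlead, map_one]
    · rw [← exp_add, exp_lt_exp]; simp; omega
  have h2 := congrArg (fun z => Valued.v z) (eq_neg_of_add_eq_zero_left hderiv)
  simp only [Valuation.map_neg, map_mul, hvsum, hDS, mul_one, hψ.1] at h2
  have hev : (derivative f).eval s = ∏ σ ∈ I.erase 1, (s - σ s) := by
    have h1 := (hI 1).mpr (FF.inertia_one Q)
    rw [hf, ← Finset.mul_prod_erase I _ h1, Polynomial.derivative_mul, Polynomial.derivative_X_sub_C, one_mul, eval_add, eval_mul]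
    simp [eval_prod]
  rw [hd, h2, hev, map_prod]
  have hne' : ∀ σ ∈ I.erase 1, Q.1 (s - σ s) ≠ 0 := fun σ hσ h => by
    rw [h2, hev, map_prod, Finset.prod_eq_zero hσ h] at hne
    exact hne rfl
  have hlog : ∀ (J : Finset (K' ≃ₐ[K] K')), (∀ σ ∈ J, Q.1 (s - σ s) ≠ 0) →
      log (∏ σ ∈ J, Q.1 (s - σ s)) = ∑ σ ∈ J, log (Q.1 (s - σ s)) := fun J hJ => by
    induction J using Finset.induction with
    | empty => simp
    | insert σ J hσ ih =>
      rw [Finset.prod_insert hσ, Finset.sum_insert hσ, log_mul (hJ σ (Finset.mem_insert_self σ J))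
        (Finset.prod_ne_zero_iff.mpr fun τ hτ => hJ τ (Finset.mem_insert_of_mem hτ)),
        ih fun τ hτ => hJ τ (Finset.mem_insert_of_mem hτ)]
  rw [hlog _ hne', ← Finset.sum_neg_distrib]
  exact Finset.sum_congr rfl fun σ _ => by rw [Place.ord, Valuation.map_sub_swap]

end Groth.Agent.CommAlg4.DiffExpGalois
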