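import Groth.Agent.FF.DiffExp
import Groth.Agent.FF.Norm
import Mathlib.RingTheory.DedekindDomain.Different
import Mathlib.RingTheory.Finiteness.Nakayama

/-! The different exponent at a place with trivial residue extension: `ord f'(s)` and the trace dual. -/

set_option autoImplicit false
set_option backward.isDefEq.respectTransparency false

open FunFld WithZero Polynomial LocRes
open scoped LaurentSeries Pointwise Classical

namespace Groth.Agent.CommAlg4.DiffExpLocal

universe u v w

variable {k : Type u} {K K' : Type v} [Field k] [Field K] [Field K'] [Algebra k K] [Algebra K K'] [Algebra k K']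
  [IsScalarTower k K K'] [FiniteDimensional K K']

/-- The residue field of `Q` is that of `P`. -/
def ResTriv (Q : Place k K') (P : Place k K) : Prop :=
  ∀ c : K', Q.1 c ≤ 1 → ∃ a : K, P.1 a ≤ 1 ∧ Q.1 (c - algebraMap K K' a) < 1

theorem deg_eq (hK : IsFunctionField k K) {P : Place k K} {Q : Place k K'} (h : IsOver Q P)
    (hres : ResTriv Q P) : Q.deg = P.deg := by
  have hFF : FF.IsFF' k K' := FF.isFF'_ext hK.1
  obtain ⟨f, u, hf, hu, hind⟩ := FF.exists_residual_basis hFF hK.1 h
  suffices f = 1 by rw [← hf, this, one_mul]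
  have hpos := FF.deg_pos_ext hK.1 Q
  have hf0 : f ≠ 0 := fun e => by rw [e, zero_mul] at hf; omega
  by_contra hne
  choose a ha hac using fun i => hres (u i) (hu i)
  let i : Fin f := ⟨0, by omega⟩
  let j : Fin f := ⟨1, by omega⟩
  have hij : i ≠ j := fun e => by simpa [i, j] using congrArg Fin.val e
  have key := hind (fun l => if l = i then a j else if l = j then -a i else 0) (fun l => by
    split_ifs
    · exact ha j
    · rw [Valuation.map_neg]; exact ha i
    · rw [map_zero]; exact zero_le) (by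
    have e : ∑ l, algebraMap K K' (if l = i then a j else if l = j then -a i else 0) * u l =
        algebraMap K K' (a j) * u i - algebraMap K K' (a i) * u j := by
      rw [Fintype.sum_eq_add i j hij (fun l hl => by rw [if_neg hl.1, if_neg hl.2, map_zero, zero_mul])]
      rw [if_pos rfl, if_neg hij.symm, if_pos rfl, map_neg]
      ring
    rw [e, show algebraMap K K' (a j) * u i - algebraMap K K' (a i) * u j =
      algebraMap K K' (a j) * (u i - algebraMap K K' (a i)) - algebraMap K K' (a i) * (u j - algebraMap K K' (a j)) by ring]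
    refine (Q.1.map_sub _ _).trans_lt (max_lt ?_ ?_)
    · rw [map_mul]; exact (mul_le_of_le_one_left' (FF.isOver_val_le h (ha j))).trans_lt (hac i)
    · rw [map_mul]; exact (mul_le_of_le_one_left' (FF.isOver_val_le h (ha i))).trans_lt (hac j))
  have hai : P.1 (a i) < 1 := by
    have := key j
    rw [if_neg hij.symm, if_pos rfl, Valuation.map_neg] at this
    exact this
  have hui : Q.1 (u i) < 1 := by
    rw [← sub_add_cancel (u i) (algebraMap K K' (a i))]
    exact (Q.1.map_add _ _).trans_lt (max_lt (hac i) ((FF.ow_lt_one_iff (FF.isOverWith_ramIdx h) _).2 hai))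
  have := hind (fun l => if l = i then 1 else 0) (fun l => by
    split_ifs
    · rw [map_one]
    · rw [map_zero]; exact zero_le) (by
    rw [Finset.sum_eq_single i (fun l _ hl => by rw [if_neg hl, map_zero, zero_mul])
      (fun hi => absurd (Finset.mem_univ i) hi), if_pos rfl, map_one, one_mul]
    exact hui) i
  rw [if_pos rfl, map_one] at this
  exact lt_irrefl _ this

/-- A local parameter at `Q`, a unit at the other places over `P`. -/
def GoodParam (Q : Place k K') (P : Place k K) (s : K') : Prop :=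
  Q.1 s = exp (-1) ∧ ∀ Q' : Place k K', IsOver Q' P → Q' ≠ Q → Q'.1 s = 1

theorem adjoin_eq_top (hK : IsFunctionField k K) {P : Place k K} {Q : Place k K'} (h : IsOver Q P)
    (hres : ResTriv Q P) {s : K'} (hs : GoodParam Q P s) :
    IntermediateField.adjoin K ({s} : Set K') = ⊤ := by
  set F := IntermediateField.adjoin K ({s} : Set K')
  haveI : IsScalarTower k F K' := IsScalarTower.of_algebraMap_eq fun c => rfl
  haveI : IsScalarTower k K F := IsScalarTower.of_algebraMap_eq fun c => Subtype.ext (IsScalarTower.algebraMap_apply k K K' c)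
  have hKF : FF.IsFF' k F := FF.isFF'_ext hK.1
  obtain ⟨R, e, -, he⟩ := FF.exists_isOverWith (K := F) hKF Q
  obtain ⟨P', e', -, he'⟩ := FF.exists_isOverWith (K := K) hK.1 R
  have hcomp : IsOverWith Q P' (e * e') := fun x => by
    rw [IsScalarTower.algebraMap_apply K F K', he, he', ← pow_mul, mul_comm]
  obtain rfl : P' = P := FF.isOver_unique ⟨_, hcomp⟩ h
  let sF : F := ⟨s, IntermediateField.mem_adjoin_simple_self K s⟩
  have hsR : Q.1 s = R.1 sF ^ e := he sF
  have he1 : e = 1 := by
    have h1 := hsR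
    rw [hs.1] at h1
    have hne : R.1 sF ≠ 0 := fun h0 => by
      rw [h0, zero_pow (FF.ow_pos he).ne'] at h1; exact exp_ne_zero h1
    rw [← exp_log hne, ← exp_nsmul, exp_inj, nsmul_eq_mul] at h1
    rcases Int.mul_eq_one_iff_eq_one_or_neg_one.mp (show (e : ℤ) * -(R.1 sF).log = 1 by linarith) with ⟨h3, -⟩ | ⟨h3, -⟩
    · exact_mod_cast h3
    · omega
  have hsR1 : R.1 sF = exp (-1) := by rw [← hs.1, hsR, he1, pow_one]
  have honly : ∀ Q' : Place k K', IsOver Q' R ↔ Q' = Q := by
    refine fun Q' => ⟨fun ⟨d, hd⟩ => by_contra fun hne => ?_, fun e1 => e1 ▸ ⟨e, he⟩⟩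
    have hP : IsOverWith Q' P' (d * e') := fun x => by
      rw [IsScalarTower.algebraMap_apply K F K', hd, he', ← pow_mul, mul_comm]
    have h1 := hd sF
    rw [show algebraMap F K' sF = s from rfl, hs.2 Q' ⟨_, hP⟩ hne, hsR1] at h1
    rw [← exp_zero, ← exp_nsmul, exp_inj, nsmul_eq_mul] at h1
    have := FF.ow_pos hd
    omega
  have hsum := FF.sum_ramIdx_mul_deg (K := F) (K' := K') hKF R {Q} (fun Q' => by
    rw [Finset.mem_singleton, honly])
  rw [Finset.sum_singleton, FF.ow_ramIdx_eq he, he1, one_mul, deg_eq hK h hres] at hsum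
  obtain ⟨f, -, hf, -, -⟩ := FF.exists_residual_basis (K' := F) (Q := R) (P := P') hKF hK.1 ⟨e', he'⟩
  have hf1 : 1 ≤ f := by
    rcases Nat.eq_zero_or_pos f with h0 | h0
    · have := FF.deg_pos_ext (K' := F) hK.1 R
      rw [← hf, h0, zero_mul] at this; omega
    · exact h0
  have hfr : Module.finrank F K' = 1 := by
    have hle : P'.deg ≤ R.deg := by rw [← hf]; exact Nat.le_mul_of_pos_left _ hf1
    have hRpos := FF.deg_pos_ext (K' := F) hK.1 R
    have hpos : 0 < Module.finrank F K' := Module.finrank_pos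
    rcases Nat.lt_or_ge 1 (Module.finrank F K') with h1 | h1
    · nlinarith
    · omega
  refine top_unique fun z _ => ?_
  exact (by
    have h1 : (⊤ : Subalgebra F K') = ⊥ := Subalgebra.bot_eq_top_of_finrank_eq_one hfr |>.symm
    obtain ⟨a, rfl⟩ := Algebra.mem_bot.1 (h1 ▸ Algebra.mem_top : z ∈ (⊥ : Subalgebra F K'))
    exact a.2)

theorem exists_goodParam (hK : IsFunctionField k K) {P : Place k K} {Q : Place k K'} (h : IsOver Q P) :
    ∃ s, GoodParam Q P s := by
  obtain ⟨T, hT⟩ := (FF.finite_over (K' := K') hK.1 P).exists_finset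
  obtain ⟨t, -, ht⟩ := FF.exists_uniformizer Q
  obtain ⟨s, hs⟩ := FF.exists_approx T (fun R => if R = Q then t else 1) (fun _ => -2)
  refine ⟨s, ?_, fun R hR hne => ?_⟩
  · have h1 := hs Q ((hT Q).2 h)
    rw [if_pos rfl] at h1
    rw [← sub_add_cancel s t, Valuation.map_add_eq_of_lt_right _ (h1.trans_lt (by rw [ht, exp_lt_exp]; omega)), ht]
  · have h1 := hs R ((hT R).2 hR)
    rw [if_neg hne] at h1
    rw [← sub_add_cancel s 1, Valuation.map_add_eq_of_lt_right _
      (h1.trans_lt (by rw [map_one, ← exp_zero, exp_lt_exp]; omega)), map_one]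

theorem goodParam_le {P : Place k K} {Q : Place k K'} {s : K'} (hs : GoodParam Q P s) (Q' : Place k K')
    (hQ' : IsOver Q' P) : Q'.1 s ≤ 1 := by
  by_cases hne : Q' = Q
  · rw [hne, hs.1, ← exp_zero, exp_le_exp]; norm_num
  · rw [hs.2 Q' hQ' hne]

theorem minpoly_coeff_le {P : Place k K} [Algebra P.O K'] [IsScalarTower P.O K K'] {s : K'}
    (hint : IsIntegral P.O s) (i : ℕ) : P.1 ((minpoly K s).coeff i) ≤ 1 := by
  rw [minpoly.isIntegrallyClosed_eq_field_fractions' K hint, Polynomial.coeff_map]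
  exact (FF.mem_O P).1 ((minpoly P.O s).coeff i).2

theorem val_coeff_zero (hK : IsFunctionField k K) {P : Place k K} {Q : Place k K'} (h : IsOver Q P)
    (hres : ResTriv Q P) {s : K'} (hs : GoodParam Q P s) :
    P.1 ((minpoly K s).coeff 0) = exp (-1) := by
  obtain ⟨T, hT⟩ := (FF.finite_over (K' := K') hK.1 P).exists_finset
  have hnorm := FF.deg_mul_ord_norm hK.1 P s T hT
  have hs0 : s ≠ 0 := fun e => by rw [e, GoodParam, map_zero] at hs; exact exp_ne_zero hs.1.symm
  rw [Finset.sum_eq_single Q (fun R hR hne => by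
      rw [Place.ord, hs.2 R ((hT R).1 hR) hne, log_one, neg_zero, mul_zero])
    (fun hn => absurd ((hT Q).2 h) hn), FF.ord_eq_of_val Q hs.1, mul_one, deg_eq hK h hres] at hnorm
  have hdeg : (P.deg : ℤ) ≠ 0 := by
    have := FF.deg_pos_ext (K' := K') hK.1 Q
    rw [deg_eq hK h hres] at this; omega
  have hord : P.ord (Algebra.norm K s) = 1 := mul_left_cancel₀ hdeg (by rw [hnorm, mul_one])
  have hint : IsIntegral K s := IsIntegral.of_finite K s
  let pb : PowerBasis K K' := (IntermediateField.adjoin.powerBasis hint).map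
    ((IntermediateField.equivOfEq (adjoin_eq_top hK h hres hs)).trans IntermediateField.topEquiv)
  have hgen : pb.gen = s := rfl
  have hn := Algebra.PowerBasis.norm_gen_eq_coeff_zero_minpoly pb
  rw [hgen] at hn
  have hval : P.1 (Algebra.norm K s) = exp (-1) := by
    rw [FF.val_eq_exp_neg_ord P (Algebra.norm_ne_zero_iff.mpr hs0), hord]
  rw [hn, map_mul, map_pow, Valuation.map_neg, map_one, one_pow, one_mul] at hval
  exact hval

variable {F F' : Type w} [Field F] [Algebra k F] [Field F'] [Algebra k F']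
  {P : Place k K} {Q : Place k K'} {φ : K →ₐ[k] F⸨X⸩} {ψ : K' →ₐ[k] F'⸨X⸩}

theorem ord_derivative_minpoly (hK : IsFunctionField k K) (hg : IsGeometric k K) {e : ℕ}
    (he : IsOverWith Q P e) (hφ : IsExpansionAt P.1 φ) (hψ : IsExpansionAt Q.1 ψ) {x : K} (hx : vDiff φ 1 x ≠ 0)
    (hx' : vDiff ψ 1 (algebraMap K K' x) ≠ 0) (hres : ResTriv Q P) {s : K'} (hs : GoodParam Q P s) :
    Q.1 (aeval s (derivative (minpoly K s))) = exp (-diffExp φ ψ e x) := by
  letI : Algebra P.O K' := ((algebraMap K K').comp P.O.subtype).toAlgebra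
  haveI : IsScalarTower P.O K K' := IsScalarTower.of_algebraMap_eq fun _ => rfl
  have hintO : IsIntegral P.O s := (FF.isIntegral_iff_forall_place hK.1 P s).2 (goodParam_le hs)
  obtain ⟨t, ht, hDt⟩ := FF.exists_val_exp_neg_one hφ
  obtain ⟨hd, hne⟩ := FF.diffExp_eq hK hg he hφ hψ hx hx' ht
  set f := minpoly K s with hf
  set m := f.natDegree with hm
  have hm0 : 0 < m := minpoly.natDegree_pos (IsIntegral.of_finite K s)
  have hsum : ∑ i ∈ Finset.range (m + 1), algebraMap K K' (f.coeff i) * s ^ i = 0 := by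
    rw [← minpoly.aeval K s, aeval_eq_sum_range]
    simp only [Algebra.smul_def, hm, hf]
  have hDt0 : LocRes.D F (φ t) ≠ 0 := fun h0 => by rw [h0, map_zero] at hDt; exact zero_ne_one hDt
  choose c hc using FF.exists_smul_D hK hg (FF.D_ne_zero_of_exp φ hDt0)
  have hPc : ∀ a, P.1 a ≤ 1 → P.1 (c a) ≤ 1 := fun a ha => by
    have h1 := FF.valued_D_le_one (f := φ a) (by rw [hφ.1]; exact ha)
    rwa [FF.D_rel φ (hc a), map_mul, hDt, mul_one, hφ.1] at h1
  have hPc0 : P.1 (c (f.coeff 0)) = 1 := by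
    have h1 := FF.valued_D_eq_one (f := φ (f.coeff 0)) (by rw [hφ.1, val_coeff_zero hK ⟨e, he⟩ hres hs])
    rwa [FF.D_rel φ (hc _), map_mul, hDt, mul_one, hφ.1] at h1
  set T := LocRes.D F' (ψ (algebraMap K K' t))
  set S := ψ s
  have hDS := FF.valued_D_eq_one (f := S) (by rw [hψ.1, hs.1])
  have hder : aeval s (derivative f) = ∑ i ∈ Finset.range (m + 1), algebraMap K K' (f.coeff i) * ((i : K') * s ^ (i - 1)) := by
    conv_lhs => rw [f.as_sum_range_C_mul_X_pow, derivative_sum]
    rw [map_sum]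
    refine Finset.sum_congr (by rw [hm]) fun i _ => ?_
    rw [derivative_C_mul_X_pow, map_mul, map_pow, aeval_C, aeval_X, map_mul, map_natCast]
    ring
  have hderiv : (∑ i ∈ Finset.range (m + 1), ψ (algebraMap K K' (c (f.coeff i))) * S ^ i) * T +
      ψ (aeval s (derivative f)) * LocRes.D F' S = 0 := by
    have h1 := congrArg (fun z => LocRes.D F' (ψ z)) hsum
    simp only [map_zero] at h1
    rw [hder, ← h1, map_sum ψ, map_sum ψ, map_sum (LocRes.D F'), Finset.sum_mul, Finset.sum_mul, ← Finset.sum_add_distrib]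
    refine Finset.sum_congr rfl fun i _ => ?_
    rw [map_mul ψ, map_mul ψ, map_mul ψ, map_natCast ψ, map_pow ψ, map_pow ψ, Derivation.leibniz, Derivation.leibniz_pow,
      FF.D_rel_above ψ (hc (f.coeff i))]
    simp only [smul_eq_mul, nsmul_eq_mul]
    ring
  have hvsum : Valued.v (∑ i ∈ Finset.range (m + 1), ψ (algebraMap K K' (c (f.coeff i))) * S ^ i) =
      (1 : WithZero (Multiplicative ℤ)) := by
    have hv : ∀ i, Valued.v (ψ (algebraMap K K' (c (f.coeff i))) * S ^ i) = P.1 (c (f.coeff i)) ^ e * exp (-(i : ℤ)) := fun i => by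
      rw [map_mul, map_pow, hψ.1, hψ.1, hs.1, he, ← exp_nsmul]; simp
    have h0 : Valued.v (ψ (algebraMap K K' (c (f.coeff 0))) * S ^ 0) = (1 : WithZero (Multiplicative ℤ)) := by
      rw [hv, hPc0, one_pow, one_mul, Nat.cast_zero, neg_zero, exp_zero]
    rw [← h0]
    refine Valuation.map_sum_eq_of_lt _ (Finset.mem_range.mpr (by omega)) fun i hi => ?_
    rw [Finset.mem_sdiff, Finset.mem_singleton, Finset.mem_range] at hi
    rw [h0, hv]
    calc P.1 (c (f.coeff i)) ^ e * exp (-(i : ℤ)) ≤ 1 * exp (-(i : ℤ)) := by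
          gcongr; exact pow_le_one' (hPc _ (minpoly_coeff_le hintO i)) e
      _ = exp (-(i : ℤ)) := one_mul _
      _ < exp (0 : ℤ) := exp_lt_exp.mpr (by omega)
      _ = 1 := exp_zero
  have h2 := congrArg (fun z => Valued.v z) (eq_neg_of_add_eq_zero_left hderiv)
  simp only [map_neg_eq_map, Valuation.map_neg, map_mul, hvsum, hDS, one_mul, mul_one, hψ.1] at h2
  rw [hd, neg_neg, exp_log hne, h2]

/-- `y` is in the trace dual of the integral closure of `P.O`. -/
def IsTraceDual (P : Place k K) [Algebra P.O K'] (y : K') : Prop :=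
  ∀ z : K', IsIntegral P.O z → P.1 (Algebra.trace K K' (y * z)) ≤ 1

variable [Algebra P.O K'] [IsScalarTower P.O K K'] [Algebra.IsSeparable K K']

/-- Euler: elements pairing integrally with `P.O[y]` lie in `f'(y)⁻¹ P.O[y]`. -/
theorem exists_eq_div_of_trace {y w : K'} (hy : IntermediateField.adjoin K ({y} : Set K') = ⊤)
    (hyi : IsIntegral P.O y)
    (hw : ∀ z ∈ Algebra.adjoin P.O ({y} : Set K'), P.1 (Algebra.trace K K' (w * z)) ≤ 1) :
    ∃ a ∈ Algebra.adjoin P.O ({y} : Set K'), w * aeval y (derivative (minpoly K y)) = a := by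
  have htop : Algebra.adjoin K ({y} : Set K') = ⊤ := by
    rw [← IntermediateField.adjoin_simple_toSubalgebra_of_isAlgebraic (IsIntegral.of_finite K y).isAlgebraic, hy,
      IntermediateField.top_toSubalgebra]
  have hmem : w ∈ (Algebra.traceForm K K').dualSubmodule (Subalgebra.toSubmodule (Algebra.adjoin P.O ({y} : Set K'))) :=
    fun z hz =>
      Submodule.mem_one.mpr ⟨⟨_, (FF.mem_O P).2 (hw z hz)⟩, rfl⟩
  have hne : aeval y (derivative (minpoly K y)) ≠ 0 :=
    (Algebra.IsSeparable.isSeparable K y).aeval_derivative_ne_zero (minpoly.aeval K y)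
  rw [traceForm_dualSubmodule_adjoin P.O K htop hyi, Submodule.mem_smul_iff_inv_mul_mem (inv_ne_zero hne),
    inv_inv] at hmem
  exact ⟨_, hmem, mul_comm _ _⟩

theorem trace_div_le {y a : K'} (hy : IntermediateField.adjoin K ({y} : Set K') = ⊤) (hyi : IsIntegral P.O y)
    (ha : a ∈ Algebra.adjoin P.O ({y} : Set K')) :
    P.1 (Algebra.trace K K' (a / aeval y (derivative (minpoly K y)))) ≤ 1 := by
  have htop : Algebra.adjoin K ({y} : Set K') = ⊤ := by
    rw [← IntermediateField.adjoin_simple_toSubalgebra_of_isAlgebraic (IsIntegral.of_finite K y).isAlgebraic, hy,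
      IntermediateField.top_toSubalgebra]
  have hne : aeval y (derivative (minpoly K y)) ≠ 0 :=
    (Algebra.IsSeparable.isSeparable K y).aeval_derivative_ne_zero (minpoly.aeval K y)
  have hmem : a / aeval y (derivative (minpoly K y)) ∈ (Algebra.traceForm K K').dualSubmodule
      (Subalgebra.toSubmodule (Algebra.adjoin P.O ({y} : Set K'))) := by
    rw [traceForm_dualSubmodule_adjoin P.O K htop hyi, Submodule.mem_smul_iff_inv_mul_mem (inv_ne_zero hne), inv_inv,
      mul_div_cancel₀ _ hne]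
    exact ha
  obtain ⟨r, hr⟩ := Submodule.mem_one.mp (hmem 1 (one_mem (Algebra.adjoin P.O ({y} : Set K'))))
  rw [Algebra.traceForm_apply, mul_one] at hr
  rw [← hr]
  exact (FF.mem_O P).1 r.2

theorem le_one_of_mem_adjoin (hK : IsFunctionField k K) (h : IsOver Q P) {y a : K'} (hyi : IsIntegral P.O y)
    (ha : a ∈ Algebra.adjoin P.O ({y} : Set K')) : IsIntegral P.O a ∧ Q.1 a ≤ 1 :=
  have h1 : IsIntegral P.O a := IsIntegral.of_mem_of_fg _ (hyi.fg_adjoin_singleton) a ha
  ⟨h1, (FF.isIntegral_iff_forall_place hK.1 P a).1 h1 Q h⟩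

/-- An element of `P.O[s]`, congruent to `1` modulo `s`, carrying the integral closure into `P.O[s]`. -/
theorem exists_conductor (hK : IsFunctionField k K) (h : IsOver Q P) (hres : ResTriv Q P) {s : K'}
    (hs : GoodParam Q P s) :
    ∃ r ∈ Algebra.adjoin P.O ({s} : Set K'), Q.1 r = 1 ∧
      ∀ z, IsIntegral P.O z → r * z ∈ Algebra.adjoin P.O ({s} : Set K') := by
  have hsi : IsIntegral P.O s := (FF.isIntegral_iff_forall_place hK.1 P s).2 (goodParam_le hs)
  set R := Algebra.adjoin P.O ({s} : Set K') with hR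
  haveI := FF.finite_integralClosure_O (K' := K') hK.1 P
  obtain ⟨G, hG⟩ : (Subalgebra.toSubmodule (integralClosure P.O K')).FG := Module.Finite.iff_fg.mp this
  let U : Submodule R K' := Submodule.span R (G : Set K')
  let W : Submodule R K' := Submodule.span R {1}
  let sR : R := ⟨s, Algebra.self_mem_adjoin_singleton _ _⟩
  have hCU : ∀ z, IsIntegral P.O z → z ∈ U := fun z hz => by
    have h1 : z ∈ Submodule.span P.O (G : Set K') := hG.symm ▸ (show z ∈ Subalgebra.toSubmodule (integralClosure P.O K') from hz)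
    exact Submodule.span_le_restrictScalars P.O R _ h1
  have hN : U.map W.mkQ ≤ Ideal.span {sR} • U.map W.mkQ := by
    rw [Submodule.map_le_iff_le_comap, Submodule.span_le]
    intro g hg
    have hgC : IsIntegral P.O g := hG.le (Submodule.subset_span hg)
    obtain ⟨a, ha, hlt⟩ := hres g ((FF.isIntegral_iff_forall_place hK.1 P g).1 hgC Q h)
    let aO : P.O := ⟨a, (FF.mem_O P).2 ha⟩
    have haO : algebraMap P.O K' aO = algebraMap K K' a := IsScalarTower.algebraMap_apply P.O K K' aO
    have hs0 : s ≠ 0 := fun e => exp_ne_zero (hs.1.symm.trans (by rw [e, map_zero]))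
    have hg' : IsIntegral P.O ((g - algebraMap K K' a) / s) :=
      (FF.isIntegral_iff_forall_place hK.1 P _).2 fun Q' hQ' => by
        rw [map_div₀]
        by_cases hne : Q' = Q
        · subst hne
          rw [hs.1, div_le_one₀ (by exact zero_lt_iff.mpr exp_ne_zero)]
          simpa using FF.pow_le_exp_neg hlt 1
        · rw [hs.2 Q' hQ' hne, div_one]
          refine (Q'.1.map_sub _ _).trans (max_le ((FF.isIntegral_iff_forall_place hK.1 P g).1 hgC Q' hQ') ?_)
          exact FF.isOver_val_le hQ' ha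
    have e1 : W.mkQ g = sR • W.mkQ ((g - algebraMap K K' a) / s) := by
      rw [← map_smul, Submodule.mkQ_apply, Submodule.mkQ_apply, Submodule.Quotient.eq]
      refine Submodule.mem_span_singleton.mpr ⟨algebraMap P.O R aO, ?_⟩
      show algebraMap P.O K' aO * 1 = g - s * ((g - algebraMap K K' a) / s)
      rw [mul_div_cancel₀ _ hs0, haO]; ring
    rw [SetLike.mem_coe, Submodule.mem_comap, e1]
    exact Submodule.smul_mem_smul (Ideal.mem_span_singleton_self _) (Submodule.mem_map_of_mem (hCU _ hg'))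
  obtain ⟨r, hr1, hr⟩ := Submodule.exists_sub_one_mem_and_smul_eq_zero_of_fg_of_le_smul _ _
    ((Submodule.fg_span G.finite_toSet).map W.mkQ) hN
  refine ⟨r, r.2, ?_, fun z hz => ?_⟩
  · obtain ⟨q, hq⟩ := Ideal.mem_span_singleton'.mp hr1
    have h1 : (r : K') = 1 + q * s := by
      have := congrArg (Subtype.val : R → K') hq
      simp only [MulMemClass.coe_mul, AddSubgroupClass.coe_sub, OneMemClass.coe_one, sR] at this
      rw [this]; ring
    have h2 : Q.1 ((q : K') * s) < 1 := by
      rw [map_mul]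
      exact (mul_le_of_le_one_left' (le_one_of_mem_adjoin hK h hsi q.2).2).trans_lt
        (by rw [hs.1, ← exp_zero, exp_lt_exp]; norm_num)
    rw [h1, Valuation.map_add_eq_of_lt_left _ (h2.trans_eq (map_one _).symm), map_one]
  · have h0 := hr _ (Submodule.mem_map_of_mem (hCU z hz))
    rw [← map_smul, Submodule.mkQ_apply, Submodule.Quotient.mk_eq_zero, Submodule.mem_span_singleton] at h0
    obtain ⟨b, hb⟩ := h0
    have hb' : (b : K') * 1 = (r : K') * z := hb
    rw [← hb', mul_one]
    exact b.2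

theorem traceDual_max (hK : IsFunctionField k K) (hg : IsGeometric k K) {e : ℕ}
    (he : IsOverWith Q P e) (hφ : IsExpansionAt P.1 φ) (hψ : IsExpansionAt Q.1 ψ) {x : K} (hx : vDiff φ 1 x ≠ 0)
    (hx' : vDiff ψ 1 (algebraMap K K' x) ≠ 0) (hres : ResTriv Q P) :
    (∀ y : K', IsTraceDual P y → Q.1 y ≤ exp (diffExp φ ψ e x)) ∧
      ∃ y : K', IsTraceDual P y ∧ Q.1 y = exp (diffExp φ ψ e x) := by
  obtain ⟨s, hs⟩ := exists_goodParam hK (⟨e, he⟩ : IsOver Q P)
  have hval := ord_derivative_minpoly hK hg he hφ hψ hx hx' hres hs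
  have hsi : IsIntegral P.O s := (FF.isIntegral_iff_forall_place hK.1 P s).2 (goodParam_le hs)
  have htop := adjoin_eq_top hK ⟨e, he⟩ hres hs
  have hne : aeval s (derivative (minpoly K s)) ≠ 0 := fun e0 => exp_ne_zero (hval.symm.trans (by rw [e0, map_zero]))
  refine ⟨fun y hy => ?_, ?_⟩
  · obtain ⟨a, ha, hya⟩ := exists_eq_div_of_trace htop hsi fun z hz =>
      hy z (le_one_of_mem_adjoin hK ⟨e, he⟩ hsi hz).1
    have h1 := (le_one_of_mem_adjoin hK ⟨e, he⟩ hsi ha).2
    rw [← hya, map_mul, hval, exp_neg] at h1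
    exact by rwa [← div_eq_mul_inv, div_le_one₀ (by exact zero_lt_iff.mpr exp_ne_zero)] at h1
  · obtain ⟨r, hr, hr1, hrC⟩ := exists_conductor hK ⟨e, he⟩ hres hs
    refine ⟨r / aeval s (derivative (minpoly K s)), fun z hz => ?_, ?_⟩
    · rw [div_mul_eq_mul_div]
      exact trace_div_le htop hsi (hrC z hz)
    · rw [map_div₀, hr1, hval, exp_neg, one_div, inv_inv]

theorem le_ord_derivative (hK : IsFunctionField k K) (hg : IsGeometric k K) {e : ℕ}
    (he : IsOverWith Q P e) (hφ : IsExpansionAt P.1 φ) (hψ : IsExpansionAt Q.1 ψ) {x : K} (hx : vDiff φ 1 x ≠ 0)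
    (hx' : vDiff ψ 1 (algebraMap K K' x) ≠ 0) (hres : ResTriv Q P)
    (y : K') (hy : IntermediateField.adjoin K ({y} : Set K') = ⊤) (hyi : IsIntegral P.O y) :
    diffExp φ ψ e x ≤ Q.ord (aeval y (derivative (minpoly K y))) ∧
    (Q.ord (aeval y (derivative (minpoly K y))) = diffExp φ ψ e x →
      ∀ z : K', Q.1 z ≤ 1 → ∃ a ∈ Algebra.adjoin P.O ({y} : Set K'), ∃ b ∈ Algebra.adjoin P.O ({y} : Set K'),
        Q.1 b = 1 ∧ z * b = a) := by
  obtain ⟨w, hw, hwv⟩ := (traceDual_max hK hg he hφ hψ hx hx' hres).2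
  obtain ⟨a, ha, hwa⟩ := exists_eq_div_of_trace hy hyi fun z hz => hw z (le_one_of_mem_adjoin hK ⟨e, he⟩ hyi hz).1
  have hne : aeval y (derivative (minpoly K y)) ≠ 0 :=
    (Algebra.IsSeparable.isSeparable K y).aeval_derivative_ne_zero (minpoly.aeval K y)
  have ha1 := (le_one_of_mem_adjoin hK ⟨e, he⟩ hyi ha).2
  rw [← hwa, map_mul, hwv, FF.val_eq_exp_neg_ord Q hne, ← exp_add, ← exp_zero, exp_le_exp] at ha1
  refine ⟨by omega, fun heq z hz => ?_⟩
  have haunit : Q.1 a = 1 := by
    rw [← hwa, map_mul, hwv, FF.val_eq_exp_neg_ord Q hne, ← exp_add, heq, add_neg_cancel, exp_zero]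
  have hconj : ∀ c, IsIntegral P.O c → a * c ∈ Algebra.adjoin P.O ({y} : Set K') := fun c hc => by
    obtain ⟨b, hb, hwb⟩ := exists_eq_div_of_trace (w := w * c) hy hyi fun z' hz' => by
      rw [mul_assoc]; exact hw _ (hc.mul (le_one_of_mem_adjoin hK ⟨e, he⟩ hyi hz').1)
    rw [← hwa, mul_right_comm, hwb]
    exact hb
  obtain ⟨T, hT⟩ := (FF.finite_over (K' := K') hK.1 P).exists_finset
  obtain ⟨b, hb⟩ := FF.exists_approx T (fun R => if R = Q then 1 else 0) (fun R => -(1 + |(R.1 z).log|))
  have hbQ : Q.1 b = 1 := by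
    have h1 := hb Q ((hT Q).2 ⟨e, he⟩)
    rw [if_pos rfl] at h1
    rw [← sub_add_cancel b 1, Valuation.map_add_eq_of_lt_right _ (h1.trans_lt ((exp_lt_exp.mpr (show -(1 + |(Q.1 z).log|) < 0 by have := abs_nonneg (Q.1 z).log; omega)).trans_eq
      (exp_zero.trans (map_one Q.1).symm))), map_one]
  have hb2 : ∀ R, IsOver R P → R.1 b ≤ 1 ∧ R.1 (z * b) ≤ 1 := fun R hR => by
    by_cases hne' : R = Q
    · rw [hne', map_mul, hbQ, mul_one]; exact ⟨le_refl _, hz⟩
    · have h1 := hb R ((hT R).2 hR)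
      rw [if_neg hne', sub_zero] at h1
      refine ⟨h1.trans ((exp_le_exp.mpr (show -(1 + |(R.1 z).log|) ≤ 0 by have := abs_nonneg (R.1 z).log; omega)).trans_eq exp_zero), ?_⟩
      rcases eq_or_ne (R.1 z) 0 with h0 | h0
      · rw [map_mul, h0, zero_mul]; exact zero_le
      · rw [map_mul]
        refine (mul_le_mul' (exp_log h0).ge h1).trans ?_
        rw [← exp_add]; exact (exp_le_exp.mpr (show (R.1 z).log + -(1 + |(R.1 z).log|) ≤ 0 by have := le_abs_self (R.1 z).log; omega)).trans_eq exp_zero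
  refine ⟨a * (z * b), hconj _ ((FF.isIntegral_iff_forall_place hK.1 P _).2 fun R hR => (hb2 R hR).2),
    a * b, hconj _ ((FF.isIntegral_iff_forall_place hK.1 P _).2 fun R hR => (hb2 R hR).1),
    by rw [map_mul, haunit, hbQ, one_mul], by ring⟩

omit [Algebra P.O K'] [IsScalarTower P.O K K'] [Algebra.IsSeparable K K'] [FiniteDimensional K K'] in
theorem resTriv_of_surjective [P.1.HasExtension Q.1]
    (hf : Function.Surjective (algebraMap (IsLocalRing.ResidueField P.O) (IsLocalRing.ResidueField Q.O))) :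
    ResTriv Q P := by
  intro c hc
  obtain ⟨r, hr⟩ := hf (IsLocalRing.residue Q.O ⟨c, (FF.mem_O Q).2 hc⟩)
  obtain ⟨a, rfl⟩ := IsLocalRing.residue_surjective r
  rw [IsLocalRing.ResidueField.algebraMap_residue, eq_comm, ← sub_eq_zero, ← map_sub, FF.residue_eq_zero_iff] at hr
  exact ⟨a, (FF.mem_O P).1 a.2, hr⟩

end Groth.Agent.CommAlg4.DiffExpLocal
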