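import Mathlib

/-! Replacing a complex by a quasi-isomorphic complex with terms of dimension zero. -/
set_option autoImplicit false
set_option linter.style.haveILetI false
set_option backward.isDefEq.respectTransparency false
universe v u
open CategoryTheory CategoryTheory.Limits HomologicalComplex
open scoped ZeroObject

namespace Groth.Agent.CommAlg4.DimZeroReplace

attribute [local instance] Abelian.hasFiniteBiproducts

variable {A : Type u} [Category.{v} A] [Abelian A]

theorem acyclic_double_id (X : A) {i j : ℤ} (h : (ComplexShape.up ℤ).Rel i j) (m : ℤ) :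
    (double (𝟙 X) h).ExactAt m := by
  have hij : i + 1 = j := h
  have hne : i ≠ j := by omega
  by_cases h0 : m = i
  · subst h0
    rw [exactAt_iff' _ (m - 1) m j (by simp) (by simp [hij]),
      ShortComplex.exact_iff_mono _ ((isZero_double_X (𝟙 X) h (m - 1) (by omega) (by omega)).eq_of_src _ _)]
    show Mono ((double (𝟙 X) h).d m j)
    rw [double_d _ h hne]
    infer_instance
  by_cases h1 : m = j
  · subst h1
    rw [exactAt_iff' _ i m (m + 1) (by simp only [CochainComplex.prev]; omega) (by simp),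
      ShortComplex.exact_iff_epi _ ((isZero_double_X (𝟙 X) h (m + 1) (by omega) (by omega)).eq_of_tgt _ _)]
    show Epi ((double (𝟙 X) h).d i m)
    rw [double_d _ h hne]
    infer_instance
  exact ExactAt.of_isZero (isZero_double_X _ h m h0 h1)

theorem quasiIso_inl_of_acyclic {D₁ D₂ K : CochainComplex A ℤ} (v : D₁ ⟶ K) (w : D₁ ⟶ D₂)
    [Mono w] (h₁ : ∀ m, D₁.ExactAt m) (h₂ : ∀ m, D₂.ExactAt m) :
    QuasiIso (pushout.inl v w) := by
  have sq := (IsPushout.of_hasPushout v w).flip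
  haveI := Limits.isIso_cokernel_map_of_isPushout sq
  let S₀ : ShortComplex (CochainComplex A ℤ) := ShortComplex.mk w (cokernel.π w) (cokernel.condition w)
  have hS₀ : S₀.ShortExact := { exact := ShortComplex.exact_cokernel w }
  have hQ : ∀ m, IsZero ((cokernel w).homology m) := fun m =>
    (hS₀.homology_exact₃ m (m + 1) (by simp)).isZero_of_both_zeros
      ((h₂ m).isZero_homology.eq_of_src _ _) ((h₁ (m + 1)).isZero_homology.eq_of_tgt _ _)
  have hQ' : ∀ m, IsZero ((cokernel (pushout.inl v w)).homology m) := fun m =>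
    (hQ m).of_iso ((homologyFunctor A (ComplexShape.up ℤ) m).mapIso
      (asIso (cokernel.map _ _ _ _ sq.w))).symm
  let S : ShortComplex (CochainComplex A ℤ) :=
    ShortComplex.mk (pushout.inl v w) (cokernel.π _) (cokernel.condition (pushout.inl v w))
  have hS : S.ShortExact := { exact := ShortComplex.exact_cokernel _ }
  constructor
  intro m
  rw [quasiIsoAt_iff_isIso_homologyMap]
  haveI : Mono (homologyMap (pushout.inl v w) m) :=
    (hS.homology_exact₁ (m - 1) m (by simp)).mono_g ((hQ' (m - 1)).eq_of_src _ _)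
  haveI : Epi (homologyMap (pushout.inl v w) m) :=
    (hS.homology_exact₂ m).epi_f ((hQ' m).eq_of_tgt _ _)
  exact isIso_of_mono_of_epi _

section Step

variable (d : A → ℕ∞) (hiso : ∀ ⦃X Y : A⦄, Nonempty (X ≅ Y) → d X = d Y)
  (h1 : ∀ X : A, ∃ (Y : A) (ι : X ⟶ Y), Mono ι ∧ d Y = 0)
  (h2 : ∀ X Y : A, d (X ⊞ Y) ≤ max (d X) (d Y))
  (h3 : ∀ S : ShortComplex A, S.ShortExact → d S.X₃ ≤ max (d S.X₁ - 1) (d S.X₂))

include hiso h1 h2 h3 in
/-- Making the term in degree `n` of dimension zero. -/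
theorem step (K : CochainComplex A ℤ) (n : ℤ) :
    ∃ (K' : CochainComplex A ℤ) (f : K ⟶ K'), QuasiIso f ∧ d (K'.X n) = 0 ∧
      d (K'.X (n + 1)) ≤ max (d (K.X n) - 1) (d (K.X (n + 1))) ∧
      (∀ m, m ≠ n → m ≠ n + 1 → IsIso (f.f m)) ∧ (d (K.X n) = 0 → ∀ m, IsIso (f.f m)) := by
  by_cases h0 : d (K.X n) = 0
  · exact ⟨K, 𝟙 K, inferInstance, h0, le_max_right _ _,
      fun m _ _ => by rw [id_f]; infer_instance, fun _ m => by rw [id_f]; infer_instance⟩
  obtain ⟨Y, ι, hι, hY⟩ := h1 (K.X n)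
  have hr : (ComplexShape.up ℤ).Rel n (n + 1) := rfl
  have hne : n ≠ n + 1 := by omega
  let v : double (𝟙 (K.X n)) hr ⟶ K :=
    mkHomFromDouble hr hne (𝟙 _) (K.d n (n + 1)) (by simp) (by simp)
  let D₂ := double (𝟙 Y) hr
  let w : double (𝟙 (K.X n)) hr ⟶ D₂ :=
    mkHomFromDouble hr hne (ι ≫ (doubleXIso₀ _ hr).inv) (ι ≫ (doubleXIso₁ _ hr hne).inv)
      (by rw [double_d _ hr hne]; simp)
      (fun k hk => by rw [double_d_eq_zero₀ _ _ _ _ hne.symm, comp_zero])
  haveI hw : ∀ m, Mono (w.f m) := by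
    intro m
    by_cases hm0 : m = n
    · subst hm0
      rw [mkHomFromDouble_f₀]
      exact mono_comp _ _
    by_cases hm1 : m = n + 1
    · subst hm1
      rw [mkHomFromDouble_f₁]
      exact mono_comp _ _
    exact ⟨fun _ _ _ => (isZero_double_X _ hr m hm0 hm1).eq_of_tgt _ _⟩
  haveI : Mono w := mono_of_mono_f _ hw
  have sq : ∀ m, IsPushout (v.f m) (w.f m) ((pushout.inl v w).f m) ((pushout.inr v w).f m) :=
    fun m => (IsPushout.of_hasPushout v w).map (eval A (ComplexShape.up ℤ) m)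
  refine ⟨pushout v w, pushout.inl v w,
    quasiIso_inl_of_acyclic v w (acyclic_double_id _ hr) (acyclic_double_id _ hr), ?_, ?_, ?_,
    fun h => absurd h h0⟩
  · haveI : IsIso (v.f n) := by rw [mkHomFromDouble_f₀]; infer_instance
    haveI := (sq n).isIso_inr_of_isIso
    rw [← hY]
    exact hiso ⟨(asIso ((pushout.inr v w).f n)).symm ≪≫ doubleXIso₀ _ hr⟩
  · have hS : (sq (n + 1)).shortComplex.ShortExact :=
      { exact := (sq (n + 1)).exact_shortComplex
        mono_f := by
          show Mono (biprod.lift (v.f (n + 1)) (-(w.f (n + 1))))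
          exact mono_of_mono_fac (show biprod.lift (v.f (n + 1)) (-(w.f (n + 1))) ≫ (-biprod.snd) =
            w.f (n + 1) by simp)
        epi_g := (sq (n + 1)).epi_shortComplex_g }
    have e : d ((double (𝟙 (K.X n)) hr).X (n + 1)) = d (K.X n) := hiso ⟨doubleXIso₁ _ hr hne⟩
    have e' : d (D₂.X (n + 1)) = 0 := (hiso ⟨doubleXIso₁ _ hr hne⟩).trans hY
    have h4 : d ((pushout v w).X (n + 1)) ≤ max (d ((double (𝟙 (K.X n)) hr).X (n + 1)) - 1)
        (d (K.X (n + 1) ⊞ D₂.X (n + 1))) := h3 _ hS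
    rw [e] at h4
    exact h4.trans (max_le_max le_rfl ((h2 _ _).trans (by rw [e']; simp)))
  · intro m hm0 hm1
    haveI : IsIso (w.f m) :=
      isIso_of_source_target_iso_zero _ (isZero_double_X _ hr m hm0 hm1).isoZero
        (isZero_double_X _ hr m hm0 hm1).isoZero
    exact (sq m).isIso_inl_of_isIso

include hiso h1 h2 h3 in
/-- A sweep from degree `a` of length `l`. -/
theorem sweep (b a : ℤ) (K : CochainComplex A ℤ) (hfin : ∀ m, d (K.X m) ≠ ⊤) (l : ℕ)
    (hP : ∀ m, a ≤ m → m < a + l → d (K.X m) = 0 ∨ ∃ k : ℕ, d (K.X m) = k ∧ m + k ≤ b) :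
    ∃ (K' : CochainComplex A ℤ) (f : K ⟶ K'), QuasiIso f ∧ (∀ m, d (K'.X m) ≠ ⊤) ∧
      (∀ m, a ≤ m → m < a + l → d (K'.X m) = 0) ∧
      (∀ m, m < a ∨ a + l < m ∨ b < m → IsIso (f.f m)) ∧
      ((∀ m, m = a + l → d (K.X m) = 0 ∨ ∃ k : ℕ, d (K.X m) = k ∧ m + k ≤ b) →
        d (K'.X (a + l)) = 0 ∨ ∃ k : ℕ, d (K'.X (a + l)) = k ∧ a + l + k ≤ b) := by
  induction l with
  | zero =>
    refine ⟨K, 𝟙 K, inferInstance, hfin, fun m h h' => ?_, fun m _ => by rw [id_f]; infer_instance,
      fun h => h _ rfl⟩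
    push_cast at h'
    omega
  | succ l ih =>
    obtain ⟨K₁, f₁, hf₁, hfin₁, hz₁, hi₁, hb₁⟩ := ih (fun m h h' => hP m h (by push_cast; omega))
    have hb : d (K₁.X (a + l)) = 0 ∨ ∃ k : ℕ, d (K₁.X (a + l)) = k ∧ a + l + k ≤ b :=
      hb₁ (fun m hm => hP m (by omega) (by push_cast; omega))
    obtain ⟨K₂, f₂, hf₂, hz₂, hd₂, hi₂, hid₂⟩ := step d hiso h1 h2 h3 K₁ (a + l)
    have hl : a + ((l + 1 : ℕ) : ℤ) = a + l + 1 := by push_cast; ring
    have hsame : ∀ m, m ≠ a + l → m ≠ a + l + 1 → d (K₂.X m) = d (K₁.X m) := fun m e e' =>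
      haveI := hi₂ m e e'
      (hiso ⟨asIso (f₂.f m)⟩).symm
    have hsame₁ : d (K₁.X (a + l + 1)) = d (K.X (a + l + 1)) :=
      haveI := hi₁ (a + l + 1) (Or.inr (Or.inl (by omega)))
      (hiso ⟨asIso (f₁.f _)⟩).symm
    refine ⟨K₂, f₁ ≫ f₂, inferInstance, fun m => ?_, fun m h h' => ?_, fun m hm => ?_, fun hlast => ?_⟩
    · by_cases e : m = a + l
      · subst e; rw [hz₂]; exact ENat.zero_ne_top
      by_cases e' : m = a + l + 1
      · subst e'
        intro htop
        rw [htop, top_le_iff, max_eq_top] at hd₂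
        rcases hd₂ with h | h
        · exact hfin₁ (a + l) (by simpa using h)
        · exact hfin₁ _ h
      · rw [hsame m e e']; exact hfin₁ m
    · rw [hl] at h'
      by_cases e : m = a + l
      · subst e; exact hz₂
      · rw [hsame m e (by omega)]; exact hz₁ m h (by omega)
    · rw [hl] at hm
      haveI : IsIso (f₁.f m) := hi₁ m (by omega)
      haveI : IsIso (f₂.f m) := by
        rcases hb with h0 | ⟨k, hk, hk'⟩
        · exact hid₂ h0 m
        rcases Nat.eq_zero_or_pos k with rfl | hkpos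
        · exact hid₂ (by rw [hk]; rfl) m
        · exact hi₂ m (by omega) (by omega)
      rw [comp_f]
      infer_instance
    · have h' := hlast (a + l + 1) hl.symm
      rw [← hsame₁] at h'
      rw [hl]
      by_cases hzero : d (K₂.X (a + l + 1)) = 0
      · exact Or.inl hzero
      obtain ⟨k, hk⟩ := ENat.ne_top_iff_exists.1 (show d (K₂.X (a + l + 1)) ≠ ⊤ from fun htop => by
        rw [htop, top_le_iff, max_eq_top] at hd₂
        rcases hd₂ with h | h
        · exact hfin₁ (a + l) (by simpa using h)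
        · exact hfin₁ _ h)
      refine Or.inr ⟨k, hk.symm, ?_⟩
      rw [← hk] at hd₂ hzero
      have hkpos : 0 < k := Nat.pos_of_ne_zero fun e => hzero (by simp [e])
      rcases le_max_iff.1 hd₂ with h | h
      · rcases hb with h0 | ⟨k', hk₁, hk₂⟩
        · rw [h0] at h
          simp at h
          omega
        · rw [hk₁] at h
          have : k ≤ k' - 1 := by exact_mod_cast h
          omega
      · rcases h' with h0 | ⟨k', hk₁, hk₂⟩
        · rw [h0] at h
          simp at h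
          omega
        · rw [hk₁] at h
          have : k ≤ k' := by exact_mod_cast h
          omega

end Step

section Stabilize

variable (F : ℕ ⥤ CochainComplex A ℤ)
  (hF : ∀ (j : ℕ) (m : ℤ), m.natAbs < j → IsIso ((F.map (homOfLE (Nat.le_succ j))).f m))

include hF in
theorem isIso_map {i j : ℕ} (h : i ≤ j) (m : ℤ) (hm : m.natAbs < i) :
    IsIso ((F.map (homOfLE h)).f m) := by
  induction j, h using Nat.le_induction with
  | base =>
    rw [show homOfLE (le_refl i) = 𝟙 i from rfl, CategoryTheory.Functor.map_id, id_f]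
    infer_instance
  | succ j hj ih =>
    haveI := ih
    haveI := hF j m (by omega)
    rw [← homOfLE_comp hj (Nat.le_succ j), CategoryTheory.Functor.map_comp, comp_f]
    infer_instance

/-- The index at which degree `m` is stable. -/
def J (m : ℤ) : ℕ := m.natAbs + 1

noncomputable def tr (m : ℤ) {M : ℕ} (h : J m ≤ M) : (F.obj (J m)).X m ⟶ (F.obj M).X m :=
  (F.map (homOfLE h)).f m

include hF in
theorem isIso_tr (m : ℤ) {M : ℕ} (h : J m ≤ M) : IsIso (tr F m h) :=
  isIso_map F hF h m (Nat.lt_succ_self _)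

theorem tr_map (m : ℤ) {M M' : ℕ} (h : J m ≤ M) (h' : M ≤ M') :
    tr F m h ≫ (F.map (homOfLE h')).f m = tr F m (h.trans h') := by
  unfold tr
  rw [← comp_f, ← CategoryTheory.Functor.map_comp, homOfLE_comp]

noncomputable def dd (m : ℤ) : (F.obj (J m)).X m ⟶ (F.obj (J (m + 1))).X (m + 1) :=
  haveI := isIso_tr F hF (m + 1) (le_max_right (J m) (J (m + 1)))
  tr F m (le_max_left (J m) (J (m + 1))) ≫ (F.obj (max (J m) (J (m + 1)))).d m (m + 1) ≫
    inv (tr F (m + 1) (le_max_right (J m) (J (m + 1))))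

theorem dd_tr (m : ℤ) {M : ℕ} (h : J m ≤ M) (h' : J (m + 1) ≤ M) :
    dd F hF m ≫ tr F (m + 1) h' = tr F m h ≫ (F.obj M).d m (m + 1) := by
  have hM : max (J m) (J (m + 1)) ≤ M := max_le h h'
  rw [← tr_map F m (le_max_left (J m) (J (m + 1))) hM,
    ← tr_map F (m + 1) (le_max_right (J m) (J (m + 1))) hM, dd]
  haveI := isIso_tr F hF (m + 1) (le_max_right (J m) (J (m + 1)))
  simp

theorem dd_sq (m : ℤ) : dd F hF m ≫ dd F hF (m + 1) = 0 := by
  let M := max (max (J m) (J (m + 1))) (J (m + 1 + 1))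
  haveI := isIso_tr F hF (m + 1 + 1) (M := M) (le_max_right _ _)
  rw [← cancel_mono (tr F (m + 1 + 1) (M := M) (le_max_right _ _)), Category.assoc,
    dd_tr F hF (m + 1) ((le_max_right _ _).trans (le_max_left _ _)) (le_max_right _ _),
    ← Category.assoc, dd_tr F hF m ((le_max_left _ _).trans (le_max_left _ _))
      ((le_max_right _ _).trans (le_max_left _ _)), Category.assoc, d_comp_d, comp_zero, zero_comp]

/-- The eventual value of a termwise stabilizing sequence of complexes. -/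
noncomputable def lim : CochainComplex A ℤ :=
  CochainComplex.of (fun m => (F.obj (J m)).X m) (dd F hF) (dd_sq F hF)

theorem lim_d (m : ℤ) : (lim F hF).d m (m + 1) = dd F hF m :=
  CochainComplex.of_d (fun m => (F.obj (J m)).X m) (dd F hF) m

noncomputable def toLim : F.obj 0 ⟶ lim F hF where
  f m := (F.map (homOfLE (Nat.zero_le (J m)))).f m
  comm' m k hk := by
    obtain rfl : m + 1 = k := hk
    let M := max (J m) (J (m + 1))
    haveI := isIso_tr F hF (m + 1) (M := M) (le_max_right _ _)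
    rw [lim_d, ← cancel_mono (tr F (m + 1) (M := M) (le_max_right _ _))]
    refine (Category.assoc _ _ _).trans ((congrArg (_ ≫ ·)
      (dd_tr F hF m (le_max_left _ _) (le_max_right _ _))).trans ?_)
    unfold tr
    rw [← Category.assoc, ← comp_f, ← CategoryTheory.Functor.map_comp, Category.assoc, ← comp_f,
      ← CategoryTheory.Functor.map_comp, homOfLE_comp, homOfLE_comp]
    exact Hom.comm _ _ _

theorem quasiIso_toLim (hq : ∀ j, QuasiIso (F.map (homOfLE (Nat.zero_le j)))) :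
    QuasiIso (toLim F hF) := by
  constructor
  intro m
  let M := max (max (J (m - 1)) (J m)) (J (m + 1))
  have a1 : J (m - 1) ≤ M := (le_max_left _ _).trans (le_max_left _ _)
  have a2 : J m ≤ M := (le_max_right _ _).trans (le_max_left _ _)
  have a3 : J (m + 1) ≤ M := le_max_right _ _
  have key : ∀ (i : ℤ) (hi : J i ≤ M) (hi' : J (i + 1) ≤ M),
      tr F i hi ≫ (F.obj M).d i (i + 1) = (lim F hF).d i (i + 1) ≫ tr F (i + 1) hi' := fun i hi hi' => by
    rw [lim_d]; exact (dd_tr F hF i hi hi').symm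
  haveI := isIso_tr F hF (m - 1) a1
  haveI := isIso_tr F hF m a2
  haveI := isIso_tr F hF (m + 1) a3
  let e : (lim F hF).sc' (m - 1) m (m + 1) ≅ (F.obj M).sc' (m - 1) m (m + 1) :=
    ShortComplex.isoMk (asIso (tr F (m - 1) a1)) (asIso (tr F m a2)) (asIso (tr F (m + 1) a3))
      (by
        obtain ⟨i, rfl⟩ : ∃ i, m = i + 1 := ⟨m - 1, by simp⟩
        show tr F (i + 1 - 1) a1 ≫ (F.obj M).d (i + 1 - 1) (i + 1) = _
        generalize hi : i + 1 - 1 = i' at a1 ⊢
        obtain rfl : i' = i := by omega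
        exact key i' a1 a2)
      (key m a2 a3)
  rw [quasiIsoAt_iff' _ (m - 1) m (m + 1) (by simp) (by simp)]
  have hM := (hq M).quasiIsoAt m
  rw [quasiIsoAt_iff' _ (m - 1) m (m + 1) (by simp) (by simp)] at hM
  have fac : (shortComplexFunctor' A (ComplexShape.up ℤ) (m - 1) m (m + 1)).map (toLim F hF) ≫ e.hom =
      (shortComplexFunctor' A (ComplexShape.up ℤ) (m - 1) m (m + 1)).map
        (F.map (homOfLE (Nat.zero_le M))) := by
    ext <;>
      exact (comp_f _ _ _).symm.trans (congrArg (fun g => Hom.f g _)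
        ((CategoryTheory.Functor.map_comp F _ _).symm.trans (congrArg F.map (homOfLE_comp _ _))))
  rw [← fac] at hM
  exact (ShortComplex.quasiIso_iff_comp_right _ e.hom).1 hM

end Stabilize

end Groth.Agent.CommAlg4.DimZeroReplace

namespace Groth.Agent.CommAlg4.DimZeroReplace

attribute [local instance] Abelian.hasFiniteBiproducts

variable {A : Type u} [Category.{v} A] [Abelian A]

/-- The state after a round of sweeps. -/
structure St (d : A → ℕ∞) (K : CochainComplex A ℤ) (N : ℕ → ℤ) (j : ℕ) where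
  X : CochainComplex A ℤ
  g : K ⟶ X
  qi : QuasiIso g
  fin : ∀ m, d (X.X m) ≠ ⊤
  zero : ∀ m, N j ≤ m → m < j → d (X.X m) = 0
  same : ∀ m, m < N j → d (X.X m) = d (K.X m)

theorem exists_dim_zero (d : A → ℕ∞) (hiso : ∀ ⦃X Y : A⦄, Nonempty (X ≅ Y) → d X = d Y)
    (h1 : ∀ X : A, ∃ (Y : A) (ι : X ⟶ Y), Mono ι ∧ d Y = 0)
    (h2 : ∀ X Y : A, d (X ⊞ Y) ≤ max (d X) (d Y))
    (h3 : ∀ S : ShortComplex A, S.ShortExact → d S.X₃ ≤ max (d S.X₁ - 1) (d S.X₂))
    (K : CochainComplex A ℤ) (hfin : ∀ n : ℤ, d (K.X n) ≠ ⊤)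
    (hK : ∀ m : ℤ, ∃ N : ℤ, ∀ n : ℤ, n ≤ N → ∃ k : ℕ, d (K.X n) = k ∧ n + k ≤ m) :
    ∃ (L : CochainComplex A ℤ) (f : K ⟶ L), QuasiIso f ∧ ∀ n, d (L.X n) = 0 := by
  classical
  choose N₀ hN₀ using hK
  let N : ℕ → ℤ := fun j => Nat.rec (min 0 (N₀ 0)) (fun i x => min x (N₀ (-(i + 1 : ℤ)))) j
  have hNsucc : ∀ j, N (j + 1) = min (N j) (N₀ (-(j + 1 : ℤ))) := fun j => rfl
  have hN : ∀ (j : ℕ) (n : ℤ), n ≤ N j → ∃ k : ℕ, d (K.X n) = k ∧ n + k ≤ -(j : ℤ) := by
    intro j n hn
    cases j with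
    | zero => exact hN₀ 0 n (hn.trans (min_le_right _ _))
    | succ i =>
      rw [hNsucc] at hn
      obtain ⟨k, hk, hk'⟩ := hN₀ _ n (hn.trans (min_le_right _ _))
      exact ⟨k, hk, by push_cast; omega⟩
  have hNle : ∀ j : ℕ, N j ≤ 0 := by
    intro j
    induction j with
    | zero => exact min_le_left _ _
    | succ i ih => rw [hNsucc]; exact (min_le_left _ _).trans ih
  have hsame : ∀ {X Y : CochainComplex A ℤ} (f : X ⟶ Y) (m : ℤ) [IsIso (f.f m)],
      d (Y.X m) = d (X.X m) := fun f m _ => (hiso ⟨asIso (f.f m)⟩).symm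
  have init : Nonempty (St d K N 0) := by
    let l := (-(N 0)).toNat
    have hl : N 0 + l = 0 := by have := hNle 0; omega
    let B : ℕ := ∑ m ∈ Finset.Ico (N 0) 0, (d (K.X m)).toNat
    obtain ⟨X, f, hf, hfn, hz, hi, -⟩ := sweep d hiso h1 h2 h3 (B : ℤ) (N 0) K hfin l
      (fun m h h' => by
        refine Or.inr ⟨(d (K.X m)).toNat, (ENat.natCast_toNat (hfin m)).symm, ?_⟩
        have hm : m ∈ Finset.Ico (N 0) 0 := Finset.mem_Ico.2 ⟨h, by omega⟩
        have : (d (K.X m)).toNat ≤ B :=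
          Finset.single_le_sum (f := fun m => (d (K.X m)).toNat) (fun _ _ => Nat.zero_le _) hm
        omega)
    exact ⟨⟨X, f, hf, hfn, fun m h h' => hz m h (by omega), fun m h =>
      haveI := hi m (Or.inl h); hsame f m⟩⟩
  have round : ∀ (j : ℕ) (s : St d K N j), ∃ (t : St d K N (j + 1)) (φ : s.X ⟶ t.X),
      s.g ≫ φ = t.g ∧ ∀ m : ℤ, m.natAbs < j → IsIso (φ.f m) := by
    intro j s
    have hle : N (j + 1) ≤ N j := by rw [hNsucc]; exact min_le_left _ _
    let l := ((j : ℤ) - N (j + 1)).toNat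
    have hl : N (j + 1) + l = j := by have := hNle (j + 1); omega
    obtain ⟨X₁, f₁, hf₁, hfin₁, hz₁, hi₁, -⟩ := sweep d hiso h1 h2 h3 (-(j : ℤ)) (N (j + 1)) s.X
      s.fin l (fun m _ h' => by
        by_cases hm : N j ≤ m
        · exact Or.inl (s.zero m hm (by omega))
        · obtain ⟨k, hk, hk'⟩ := hN j m (by omega)
          exact Or.inr ⟨k, by rw [s.same m (by omega), hk], hk'⟩)
    obtain ⟨X₂, f₂, hf₂, hz₂, hd₂, hi₂, -⟩ := step d hiso h1 h2 h3 X₁ (j : ℤ)
    haveI := s.qi
    refine ⟨⟨X₂, s.g ≫ f₁ ≫ f₂, inferInstance, fun m => ?_, fun m h h' => ?_, fun m h => ?_⟩,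
      f₁ ≫ f₂, rfl, fun m hm => ?_⟩
    · by_cases e : m = j
      · subst e; rw [hz₂]; exact ENat.zero_ne_top
      by_cases e' : m = (j : ℤ) + 1
      · subst e'
        intro htop
        rw [htop, top_le_iff, max_eq_top] at hd₂
        rcases hd₂ with h | h
        · exact hfin₁ _ (by simpa using h)
        · exact hfin₁ _ h
      · haveI := hi₂ m e e'
        rw [hsame f₂ m]; exact hfin₁ m
    · push_cast at h'
      by_cases e : m = j
      · subst e; exact hz₂
      · haveI := hi₂ m e (by omega)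
        rw [hsame f₂ m]; exact hz₁ m h (by omega)
    · have := hNle (j + 1)
      haveI := hi₂ m (by omega) (by omega)
      haveI := hi₁ m (Or.inl h)
      rw [hsame f₂ m, hsame f₁ m, s.same m (by omega)]
    · haveI := hi₂ m (by omega) (by omega)
      haveI := hi₁ m (by omega)
      rw [comp_f]; infer_instance
  choose nx φ hφ hφiso using round
  let s : ∀ j, St d K N j := fun j => Nat.rec init.some (fun i x => nx i x) j
  let F : ℕ ⥤ CochainComplex A ℤ :=
    Functor.ofSequence (X := fun j => (s j).X) (fun j => φ j (s j))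
  have hFs : ∀ j, F.map (homOfLE (Nat.le_succ j)) = φ j (s j) := fun j =>
    Functor.ofSequence_map_homOfLE_succ (X := fun j => (s j).X) (fun j => φ j (s j)) j
  have hF : ∀ (j : ℕ) (m : ℤ), m.natAbs < j → IsIso ((F.map (homOfLE (Nat.le_succ j))).f m) :=
    fun j m hm => by rw [hFs]; exact hφiso j (s j) m hm
  have hg : ∀ j, (s 0).g ≫ F.map (homOfLE (Nat.zero_le j)) = (s j).g := by
    intro j
    induction j with
    | zero =>
      rw [show homOfLE (Nat.zero_le 0) = 𝟙 (0 : ℕ) from rfl, CategoryTheory.Functor.map_id]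
      exact Category.comp_id _
    | succ i ih =>
      rw [← homOfLE_comp (Nat.zero_le i) (Nat.le_succ i), CategoryTheory.Functor.map_comp, hFs]
      exact (Category.assoc _ _ _).symm.trans
        ((congrArg (· ≫ φ i (s i)) ih).trans (hφ i (s i)))
  haveI := (s 0).qi
  have hq : ∀ j, QuasiIso (F.map (homOfLE (Nat.zero_le j))) := fun j => by
    haveI := (s j).qi
    haveI : QuasiIso ((s 0).g ≫ F.map (homOfLE (Nat.zero_le j))) := by rw [hg j]; infer_instance
    exact quasiIso_of_comp_left (s 0).g _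
  haveI := quasiIso_toLim F hF hq
  refine ⟨lim F hF, (s 0).g ≫ toLim F hF, inferInstance, fun n => ?_⟩
  show d ((s (J n)).X.X n) = 0
  refine (s (J n)).zero n ?_ (by unfold J; omega)
  by_contra hlt
  obtain ⟨k, -, hk⟩ := hN (J n) n (by omega)
  obtain ⟨k', -, hk'⟩ := hN (J n) (N (J n)) le_rfl
  unfold J at hk hk'
  omega

end Groth.Agent.CommAlg4.DimZeroReplace
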