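import Mathlib.RingTheory.AlgebraicIndependent.Basic
import Mathlib.RingTheory.Polynomial.GaussLemma
import Mathlib.RingTheory.Polynomial.UniqueFactorization
import Mathlib.Algebra.MvPolynomial.Equiv
import Mathlib.RingTheory.Localization.Integral
import Mathlib.RingTheory.EuclideanDomain

/-!
# The relation between `n + 1` elements generating a field of transcendence degree `n` is principal
-/

set_option autoImplicit false
universe u v w

open Polynomial

namespace Groth.Agent.CommAlg4.PrincipalKernel

/-- A prime of `R[T]` meeting a UFD `R` only in `0` is principal. -/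
theorem prime_eq_span_irreducible {R : Type u} [CommRing R] [IsDomain R] [UniqueFactorizationMonoid R]
    (p : Ideal R[X]) [hp : p.IsPrime] (hp0 : p ≠ ⊥) (hC : ∀ r, Polynomial.C r ∈ p → r = 0) :
    ∃ π : R[X], Irreducible π ∧ p = Ideal.span {π} := by
  classical
  let := Classical.arbitrary (NormalizedGCDMonoid R)
  obtain ⟨f, hf, hf0⟩ := Submodule.exists_mem_ne_zero_of_ne_bot hp0
  have hex : ∀ f : R[X], f ∈ p → f ≠ 0 → ∃ π ∈ p, Irreducible π := fun f => by
    induction f using UniqueFactorizationMonoid.induction_on_prime with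
    | h₁ => exact fun _ h => absurd rfl h
    | h₂ x hx => exact fun h _ => absurd (Ideal.eq_top_of_isUnit_mem _ h hx) hp.ne_top
    | h₃ a q ha hq ih =>
      exact fun h _ => (hp.mem_or_mem h).elim (fun h' => ⟨q, h', hq.irreducible⟩) fun h' => ih h' ha
  obtain ⟨π, hπp, hπ⟩ := hex f hf hf0
  refine ⟨π, hπ, le_antisymm (fun g hg => ?_) ((Ideal.span_singleton_le_iff_mem _).2 hπp)⟩
  have hdeg : π.natDegree ≠ 0 := fun h => by
    obtain ⟨r, rfl⟩ := natDegree_eq_zero.1 h
    exact hπ.ne_zero (by rw [hC r hπp, map_zero])
  have hprim : π.IsPrimitive := fun r ⟨q, hq⟩ => by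
    rcases hπ.isUnit_or_isUnit hq with h | h
    · exact Polynomial.isUnit_C.1 h
    · exact absurd (by rw [hq]; exact le_antisymm (le_trans natDegree_mul_le
        (by rw [natDegree_C, natDegree_eq_zero_of_isUnit h])) (Nat.zero_le _)) hdeg
  rw [Ideal.mem_span_singleton]
  refine hprim.dvd_of_fraction_map_dvd_fraction_map (K := FractionRing R) ?_
  by_contra hnd
  obtain ⟨a, b, hab⟩ :=
    ((hprim.irreducible_iff_irreducible_map_fraction_map (K := FractionRing R)).1 hπ).coprime_iff_not_dvd.2 hnd
  obtain ⟨c, hc, hca⟩ := IsLocalization.integerNormalization_spec (nonZeroDivisors R) a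
  obtain ⟨e, he, heb⟩ := IsLocalization.integerNormalization_spec (nonZeroDivisors R) b
  have key : Polynomial.C e * IsLocalization.integerNormalization (nonZeroDivisors R) a * π +
      Polynomial.C c * IsLocalization.integerNormalization (nonZeroDivisors R) b * g = Polynomial.C (c * e) := by
    refine Polynomial.map_injective (algebraMap R (FractionRing R)) (IsFractionRing.injective _ _) ?_
    simp only [Polynomial.map_add, Polynomial.map_mul, map_C, hca, heb, Algebra.smul_def, Polynomial.algebraMap_apply,
      map_mul]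
    linear_combination (Polynomial.C (algebraMap R (FractionRing R) c) *
      Polynomial.C (algebraMap R (FractionRing R) e)) * hab
  exact mul_ne_zero (nonZeroDivisors.ne_zero hc) (nonZeroDivisors.ne_zero he)
    (hC _ (key ▸ p.add_mem (p.mul_mem_left _ hπp) (p.mul_mem_left _ hg)))

variable {k : Type u} [Field k] {A : Type v} [CommRing A] [IsDomain A] [Algebra k A]

open Classical in
/-- If omitting one element leaves an independent family, the relations are generated by one irreducible. -/
theorem exists_irreducible_ker {α : Type w} [Finite α] (F : α → A) (j : α)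
    (hj : AlgebraicIndependent k fun i : {i // i ≠ j} => F i) (hdep : ¬ AlgebraicIndependent k F) :
    ∃ P : MvPolynomial α k, Irreducible P ∧ ∀ Q, MvPolynomial.aeval F Q = 0 ↔ P ∣ Q := by
  let e : MvPolynomial α k ≃ₐ[k] (MvPolynomial {i // i ≠ j} k)[X] :=
    (MvPolynomial.renameEquiv k (Equiv.optionSubtypeNe j).symm).trans (MvPolynomial.optionEquivLeft k _)
  let φ : (MvPolynomial {i // i ≠ j} k)[X] →ₐ[k] A := (MvPolynomial.aeval F).comp e.symm.toAlgHom
  have hφC : ∀ r, φ (Polynomial.C r) = MvPolynomial.aeval (fun i : {i // i ≠ j} => F i) r := by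
    intro r
    refine AlgHom.congr_fun (MvPolynomial.algHom_ext
      (f := φ.comp (IsScalarTower.toAlgHom k (MvPolynomial {i // i ≠ j} k) _))
      (g := MvPolynomial.aeval fun i : {i // i ≠ j} => F i) fun i => ?_) r
    have : e (MvPolynomial.X i.1) = Polynomial.C (MvPolynomial.X i) := by
      simp [e, Equiv.optionSubtypeNe_symm_of_ne i.2]
    simp [φ, ← this]
  have := RingHom.ker_isPrime φ.toRingHom
  have hne : RingHom.ker φ.toRingHom ≠ ⊥ := fun h => hdep (by
    rw [algebraicIndependent_iff]
    intro Q hQ
    have : e Q ∈ RingHom.ker φ.toRingHom := by simp [RingHom.mem_ker, φ, hQ]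
    rw [h, Ideal.mem_bot] at this
    exact e.injective (this.trans (map_zero e).symm))
  obtain ⟨π, hπ, hker⟩ := prime_eq_span_irreducible _ hne fun r hr =>
    algebraicIndependent_iff.1 hj r (by rw [← hφC]; exact hr)
  refine ⟨e.symm π, (MulEquiv.irreducible_iff e.symm.toMulEquiv).2 hπ, fun Q => ?_⟩
  rw [← map_dvd_iff e (a := e.symm π), AlgEquiv.apply_symm_apply, ← Ideal.mem_span_singleton, ← hker,
    RingHom.mem_ker]
  simp [φ]

end Groth.Agent.CommAlg4.PrincipalKernel
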