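import Mathlib.RingTheory.AlgebraicIndependent.Basic
import Mathlib.RingTheory.MvPolynomial.Homogeneous
import Mathlib.RingTheory.Valuation.LocalSubring
import Groth.Agent.CommAlg4.InitialForms

/-!
# Independence from leading terms along a scaling, and specialisation of a generic point
-/

set_option autoImplicit false
universe u v w

open MvPolynomial

namespace Groth.Agent.CommAlg4.ScaleIndep

variable {k : Type u} [Field k] {α : Type v}

/-- If along a scaling all `F i - c i` vanish to order `r` with independent leading terms, `F` is independent. -/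
theorem algebraicIndependent_of_scaling {P : Type*} [CommRing P] [Algebra k P] {A : Type w} [CommRing A] [IsDomain A]
    [Algebra k A] (F : α → P) (φ : P →ₐ[k] Polynomial A) (r : ℕ) (hr : r ≠ 0) (c : α → k) (L : α → A)
    (h : ∀ i, ∃ g, φ (F i) = Polynomial.C (algebraMap k A (c i)) + Polynomial.X ^ r * g ∧ g.coeff 0 = L i)
    (hL : AlgebraicIndependent k L) : AlgebraicIndependent k F := by
  classical
  refine AlgebraicIndependent.of_comp φ ?_
  choose g hg1 hg2 using h
  let τ : MvPolynomial α k →ₐ[k] MvPolynomial α k := aeval fun i => X i + C (c i)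
  have hτ : Function.Injective τ := fun a b hab => by
    have hc : (aeval fun i => X i - C (c i)).comp τ = AlgHom.id k (MvPolynomial α k) :=
      MvPolynomial.algHom_ext fun i => by simp [τ]
    have h1 := congrArg (aeval fun i => X i - C (c i)) hab
    rw [← AlgHom.comp_apply, ← AlgHom.comp_apply, hc] at h1
    exact h1
  have hsplit : (aeval fun i => Polynomial.X ^ r * g i).comp τ = aeval (φ ∘ F) :=
    MvPolynomial.algHom_ext fun i => by
      rw [AlgHom.comp_apply]
      simp only [τ]
      rw [aeval_X, map_add, aeval_X, aeval_C, Polynomial.algebraMap_apply, aeval_X, Function.comp_apply,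
        hg1 i, add_comm]
  rw [algebraicIndependent_iff]
  intro Q hQ
  rw [← hsplit, AlgHom.comp_apply] at hQ
  refine hτ ((?_ : τ Q = 0).trans (map_zero τ).symm)
  generalize τ Q = Q' at hQ ⊢
  by_contra hne
  have hex : ∃ s, homogeneousComponent s Q' ≠ 0 := by
    by_contra! hall
    exact hne (by rw [← sum_homogeneousComponent Q', Finset.sum_eq_zero fun s _ => hall s])
  let s0 := Nat.find hex
  apply Nat.find_spec hex
  refine algebraicIndependent_iff.1 hL _ ?_
  rw [← sum_homogeneousComponent Q', map_sum, Finset.sum_congr rfl fun s _ =>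
    InitialForms.aeval_mul_left (Polynomial.X ^ r) g (homogeneousComponent_isHomogeneous s Q')] at hQ
  have h3 : (aeval g (homogeneousComponent s0 Q')).coeff 0 = aeval L (homogeneousComponent s0 Q') := by
    refine RingHom.congr_fun (ringHom_ext (f := Polynomial.constantCoeff.comp (aeval g).toRingHom)
      (g := (aeval L).toRingHom) (fun a => ?_) fun i => ?_) _
    · simp
    · simp [hg2]
  rw [← h3]
  have h2 := congrArg (fun p => Polynomial.coeff p (r * s0)) hQ
  simp only [Polynomial.finsetSum_coeff, Polynomial.coeff_zero, ← pow_mul] at h2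
  rw [Finset.sum_eq_single s0] at h2
  · rwa [Polynomial.coeff_X_pow_mul', if_pos le_rfl, Nat.sub_self] at h2
  · intro s _ hs
    rw [Polynomial.coeff_X_pow_mul']
    split_ifs with hle
    · have hle' : s ≤ s0 := Nat.le_of_mul_le_mul_left hle (Nat.pos_of_ne_zero hr)
      rw [not_not.1 (Nat.find_min hex (lt_of_le_of_ne hle' hs)), map_zero, Polynomial.coeff_zero]
    · rfl
  · intro hs
    rw [homogeneousComponent_eq_zero _ _ (by simpa using hs), map_zero, mul_zero, Polynomial.coeff_zero]

/-- A point on the kernel of `φ` is the reduction of `φ` along a valuation subring. -/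
theorem exists_valuation_specialisation {K : Type w} [Field K] (φ : MvPolynomial α k →+* K) (c : α → k)
    (h : ∀ p, φ p = 0 → eval c p = 0) :
    ∃ (O : ValuationSubring K) (hO : ∀ p, φ p ∈ O), ∀ p,
      IsLocalRing.residue O ⟨φ p, hO p⟩ = IsLocalRing.residue O ⟨φ (C (eval c p)), hO _⟩ := by
  let I : Ideal φ.range := (RingHom.ker (eval c)).map φ.rangeRestrict
  have hI : I ≠ ⊤ := fun htop => by
    obtain ⟨x, hx, hx1⟩ := (Ideal.mem_map_iff_of_surjective _ φ.rangeRestrict_surjective).1
      (show (1 : φ.range) ∈ I by rw [htop]; trivial)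
    have h0 := h (x - 1) (by rw [map_sub, map_one, sub_eq_zero]; exact congrArg Subtype.val hx1)
    rw [map_sub, map_one, RingHom.mem_ker.1 hx, zero_sub, neg_eq_zero] at h0
    exact one_ne_zero h0
  obtain ⟨O, hO, hnon⟩ := Ideal.image_subset_nonunits_valuationSubring I hI
  let ψ : MvPolynomial α k →+* O := φ.codRestrict O.toSubring fun p => hO ⟨p, rfl⟩
  refine ⟨O, fun p => hO ⟨p, rfl⟩, fun p => ?_⟩
  show IsLocalRing.residue O (ψ p) = IsLocalRing.residue O (ψ (C (eval c p)))
  have h1 : φ (p - C (eval c p)) ∈ O.nonunits :=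
    hnon ⟨_, Ideal.mem_map_of_mem _ (by simp [RingHom.mem_ker]), rfl⟩
  obtain ⟨_, hm⟩ := ValuationSubring.mem_nonunits_iff_exists_mem_maximalIdeal.1 h1
  have h2 : IsLocalRing.residue O (ψ (p - C (eval c p))) = 0 := (IsLocalRing.residue_eq_zero_iff _).2 hm
  rwa [map_sub, map_sub, sub_eq_zero] at h2

/-- A monomial substitution with injective reindexing is injective. -/
theorem algebraicIndependent_scaled_pow {β : Type w} (π : α → β) (hπ : Function.Injective π)
    (m : α → ℕ) (hm : ∀ i, m i ≠ 0) (u : α → k) (hu : ∀ i, u i ≠ 0) :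
    AlgebraicIndependent k fun i => C (u i) * X (π i) ^ m i := by
  classical
  rw [algebraicIndependent_iff]
  intro Q hQ
  ext e
  rw [coeff_zero]
  by_contra hne
  let E : (α →₀ ℕ) → β →₀ ℕ := fun s => s.sum fun i t => Finsupp.single (π i) (m i * t)
  have hE : ∀ s i, E s (π i) = m i * s i := fun s i => by
    simp only [E, Finsupp.sum_apply]
    rw [Finsupp.sum, Finset.sum_eq_single i]
    · simp
    · intro j _ hj
      rw [Finsupp.single_apply, if_neg fun hji => hj (hπ hji)]
    · intro hi
      simp [Finsupp.notMem_support_iff.1 hi]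
  have hEinj : Function.Injective E := fun s t hst => Finsupp.ext fun i => by
    have h1 := congrArg (fun z => z (π i)) hst
    simp only [hE] at h1
    exact Nat.eq_of_mul_eq_mul_left (Nat.pos_of_ne_zero (hm i)) h1
  have hmon : ∀ s, aeval (fun i => C (u i) * X (π i) ^ m i) (monomial s (coeff s Q)) =
      monomial (E s) (coeff s Q * s.prod fun i t => u i ^ t) := fun s => by
    rw [aeval_monomial, algebraMap_eq, show monomial (E s) (coeff s Q * s.prod fun i t => u i ^ t) =
      C (coeff s Q) * (C (s.prod fun i t => u i ^ t) * monomial (E s) 1) by simp [C_mul_monomial]]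
    congr 1
    simp only [Finsupp.prod, mul_pow, Finset.prod_mul_distrib, map_prod, map_pow]
    congr 1
    rw [show E s = ∑ i ∈ s.support, Finsupp.single (π i) (m i * s i) from rfl, monomial_sum_one]
    exact Finset.prod_congr rfl fun i _ => by rw [← pow_mul, X_pow_eq_monomial]
  have h1 := congrArg (coeff (E e)) hQ
  rw [Q.as_sum, map_sum, coeff_sum, coeff_zero, Finset.sum_eq_single e] at h1
  · rw [hmon, coeff_monomial, if_pos rfl, mul_eq_zero] at h1
    exact h1.elim hne (Finset.prod_ne_zero_iff.2 fun i _ => pow_ne_zero _ (hu i))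
  · intro s _ hs
    rw [hmon, coeff_monomial, if_neg fun hh => hs (hEinj hh)]
  · exact fun hh => absurd (mem_support_iff.2 hne) hh

end Groth.Agent.CommAlg4.ScaleIndep
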