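import Groth.Agent.CommAlg4.NoLinearSubspace
import Groth.Agent.CommAlg4.ScaleIndep
import Groth.Agent.CommAlg4.PrincipalKernel
import Mathlib.RingTheory.MvPolynomial.EulerIdentity
import Mathlib.RingTheory.Nullstellensatz
import Mathlib.Algebra.MvPolynomial.PDeriv

/-!
# The discriminant of forms of degree at least two is an irreducible hypersurface
-/

set_option autoImplicit false
universe u

open MvPolynomial
open Groth.Agent.CommAlg4.NoLinear

namespace Groth.Agent.CommAlg4.Discriminant

variable {k : Type u} [Field k] {n d : ℕ}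

/-- A form vanishing with all its partial derivatives. -/
def Sing {R : Type*} [CommRing R] {ι : Type*} (G : MvPolynomial ι R) (v : ι → R) : Prop :=
  eval v G = 0 ∧ ∀ i, eval v (pderiv i G) = 0

theorem map_eval' {R S ι : Type*} [CommRing R] [CommRing S] (f : R →+* S) (x : ι → R) (p : MvPolynomial ι R) :
    f (eval x p) = eval (fun i => f (x i)) (map f p) :=
  RingHom.congr_fun (ringHom_ext (f := f.comp (eval x)) (g := (eval fun i => f (x i)).comp (map f))
    (fun r => by simp) fun i => by simp) p

theorem Sing.map {R S ι : Type*} [CommRing R] [CommRing S] {G : MvPolynomial ι R} {v : ι → R} (h : Sing G v)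
    (f : R →+* S) : Sing (MvPolynomial.map f G) fun i => f (v i) :=
  ⟨by rw [← map_eval', h.1, map_zero], fun i => by rw [pderiv_map, ← map_eval', h.2 i, map_zero]⟩

theorem Sing.of_map {R S ι : Type*} [CommRing R] [CommRing S] {G : MvPolynomial ι R} {v : ι → R} (f : R →+* S)
    (hf : Function.Injective f) (h : Sing (MvPolynomial.map f G) fun i => f (v i)) : Sing G v :=
  ⟨hf (by rw [map_eval', h.1, map_zero]), fun i => hf (by rw [map_eval', ← pderiv_map, h.2 i, map_zero])⟩

theorem Sing.smul {R : Type u} [CommRing R] {ι : Type} {G : MvPolynomial ι R} {D : ℕ} (hG : G.IsHomogeneous D)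
    {v : ι → R} (h : Sing G v) (t : R) : Sing G fun i => t * v i := by
  have key : ∀ {r : ℕ} {p : MvPolynomial ι R}, p.IsHomogeneous r → eval v p = 0 → eval (fun i => t * v i) p = 0 :=
    fun {r p} hp h0 => by
      rw [← aeval_eq_eval] at h0 ⊢
      rw [InitialForms.aeval_mul_left t v hp, h0, mul_zero]
  exact ⟨key hG h.1, fun i => key hG.pderiv (h.2 i)⟩

/-- The form with given coefficients. -/
noncomputable def formOf {R : Type*} [CommRing R] {D : ℕ} (c : Mon n D → R) : MvPolynomial (Fin (n + 1)) R :=
  ∑ e : Mon n D, C (c e) * monomial e.1 1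

theorem isHomogeneous_formOf {R : Type*} [CommRing R] {D : ℕ} (c : Mon n D → R) :
    (formOf c).IsHomogeneous D :=
  IsHomogeneous.sum _ _ _ fun e _ => (isHomogeneous_monomial _ e.2).C_mul _

theorem map_formOf {R S : Type*} [CommRing R] [CommRing S] {D : ℕ} (f : R →+* S) (c : Mon n D → R) :
    map f (formOf c) = formOf fun e => f (c e) := by
  rw [formOf, formOf, map_sum]
  exact Finset.sum_congr rfl fun e _ => by rw [map_mul, map_C, map_monomial, map_one]

theorem formOf_coeff {R : Type*} [CommRing R] {D : ℕ} {G : MvPolynomial (Fin (n + 1)) R} (hG : G.IsHomogeneous D) :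
    formOf (fun e : Mon n D => coeff e.1 G) = G := by
  classical
  ext s
  rw [formOf, coeff_sum]
  simp only [coeff_C_mul, coeff_monomial, mul_ite, mul_one, mul_zero]
  by_cases hs : coeff s G = 0
  · rw [hs]
    exact Finset.sum_eq_zero fun e _ => by split_ifs with h <;> simp_all
  have hd : s.degree = D := by rw [Finsupp.degree_eq_weight_one]; exact hG hs
  rw [Finset.sum_eq_single (⟨s, hd⟩ : Mon n D), if_pos rfl]
  · intro e _ hne
    rw [if_neg]
    exact fun he => hne (Subtype.ext he)
  · exact fun h => absurd (Finset.mem_univ _) h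

/-- Exponents with at most `d` at the coordinate `0`, in degree `d + 2`. -/
abbrev Off2 (n d : ℕ) : Type := {e : Mon n (d + 2) // e.1 0 ≤ d}

/-- The remaining exponents. -/
noncomputable def pivExp : Option (Fin n) → Mon n (d + 2)
  | none => ⟨Finsupp.single 0 (d + 2), by simp⟩
  | some i => ⟨Finsupp.single 0 (d + 1) + Finsupp.single i.succ 1, by simp⟩

variable (n d) in
/-- All exponents. -/
noncomputable def split : Off2 n d ⊕ Option (Fin n) ≃ Mon n (d + 2) :=
  Equiv.ofBijective (Sum.elim Subtype.val pivExp) (by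
    have h0 : ∀ o : Option (Fin n), d < (pivExp (d := d) o).1 0 := fun o => by
      cases o <;> simp [pivExp, (Fin.succ_ne_zero _).symm]
    constructor
    · rintro (a | a) (b | b) hab
      · exact congrArg Sum.inl (Subtype.ext hab)
      · exact absurd a.2 (not_le.2 (by rw [show a.1 = pivExp b from hab]; exact h0 b))
      · exact absurd b.2 (not_le.2 (by rw [← show pivExp a = b.1 from hab]; exact h0 a))
      · refine congrArg Sum.inr ?_
        have h1 : ∀ j : Fin n, (pivExp a).1 j.succ = (pivExp b).1 j.succ := fun j => by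
          rw [show pivExp a = pivExp b from hab]
        cases a with
        | none =>
          cases b with
          | none => rfl
          | some b => have := h1 b; simp [pivExp, (Fin.succ_ne_zero _).symm] at this
        | some a =>
          cases b with
          | none => have := h1 a; simp [pivExp, (Fin.succ_ne_zero _).symm] at this
          | some b =>
            by_contra hne
            have hab' : a ≠ b := fun h => hne (congrArg some h)
            have := h1 a
            simp [pivExp, hab'.symm] at this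
    · intro e
      by_cases h : e.1 0 ≤ d
      · exact ⟨Sum.inl ⟨e, h⟩, rfl⟩
      have hsum : e.1 0 + ∑ i : Fin n, e.1 i.succ = d + 2 := by
        have h1 := e.2
        rw [Finsupp.degree_eq_sum, Fin.sum_univ_succ] at h1
        exact h1
      by_cases h2 : ∀ i : Fin n, e.1 i.succ = 0
      · rw [Finset.sum_eq_zero fun i _ => h2 i] at hsum
        refine ⟨Sum.inr none, Subtype.ext (Finsupp.ext fun i => ?_)⟩
        refine Fin.cases ?_ (fun j => ?_) i
        · simp [pivExp]; omega
        · simp [pivExp, h2 j]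
      · push Not at h2
        obtain ⟨i, hi⟩ := h2
        have h3 : e.1 i.succ ≤ ∑ j : Fin n, e.1 j.succ := Finset.single_le_sum (f := fun j => e.1 j.succ)
          (fun _ _ => Nat.zero_le _) (Finset.mem_univ i)
        refine ⟨Sum.inr (some i), Subtype.ext (Finsupp.ext fun j => ?_)⟩
        refine Fin.cases ?_ (fun j => ?_) j
        · simp [pivExp, (Fin.succ_ne_zero i).symm]; omega
        · by_cases hj : j = i
          · subst hj; simp [pivExp]; omega
          · have h4 : e.1 j.succ + e.1 i.succ ≤ ∑ l : Fin n, e.1 l.succ :=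
              (Finset.sum_pair (f := fun l => e.1 l.succ) hj).symm.le.trans
                (Finset.sum_le_sum_of_subset (Finset.subset_univ _))
            simp [pivExp, hj]; omega)

/-- The point `(1, a)`. -/
noncomputable def pt {R : Type*} [One R] (a : Fin n → R) : Fin (n + 1) → R := Fin.cons 1 a

theorem map_pt {R S : Type*} [CommRing R] [CommRing S] (f : R →+* S) (a : Fin n → R) :
    (fun i => f (pt a i)) = pt fun i => f (a i) := by
  funext i
  refine Fin.cases ?_ (fun j => ?_) i <;> simp [pt]

/-- The part of a form away from the pivots. -/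
noncomputable def offPart {R : Type*} [CommRing R] (c : Mon n (d + 2) → R) : MvPolynomial (Fin (n + 1)) R :=
  ∑ e : Off2 n d, C (c e.1) * monomial e.1.1 1

theorem formOf_eq {R : Type*} [CommRing R] (c : Mon n (d + 2) → R) :
    formOf c = offPart c + (C (c (pivExp none)) * X 0 ^ (d + 2) +
      ∑ i : Fin n, C (c (pivExp (some i))) * (X 0 ^ (d + 1) * X i.succ)) := by
  rw [formOf, ← Equiv.sum_comp (split n d), Fintype.sum_sum_type, Fintype.sum_option]
  refine congrArg₂ (· + ·) rfl (congrArg₂ (· + ·) ?_ (Finset.sum_congr rfl fun i _ => ?_))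
  · rw [X_pow_eq_monomial]; rfl
  · rw [X_pow_eq_monomial, X, monomial_mul, one_mul]; rfl

theorem eval_formOf {R : Type*} [CommRing R] (c : Mon n (d + 2) → R) (a : Fin n → R) :
    eval (pt a) (formOf c) =
      eval (pt a) (offPart c) + (c (pivExp none) + ∑ i, c (pivExp (some i)) * a i) := by
  rw [formOf_eq]
  simp [pt]

theorem eval_pderiv_formOf {R : Type*} [CommRing R] (c : Mon n (d + 2) → R) (a : Fin n → R) (j : Fin n) :
    eval (pt a) (pderiv j.succ (formOf c)) =
      eval (pt a) (pderiv j.succ (offPart c)) + c (pivExp (some j)) := by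
  classical
  rw [formOf_eq]
  simp only [map_add, map_sum, pderiv_C_mul, pderiv_mul, pderiv_pow,
    pderiv_X_of_ne (Fin.succ_ne_zero j).symm, mul_zero, zero_mul, zero_add, smul_eq_C_mul, map_mul, eval_C]
  rw [add_right_inj, Finset.sum_eq_single j]
  · simp [pt]
  · intro i _ hi
    simp [pderiv_X_of_ne (show i.succ ≠ j.succ from fun h => hi (Fin.succ_injective _ h))]
  · simp

theorem sing_pt_iff {R : Type*} [CommRing R] {D : ℕ} {G : MvPolynomial (Fin (n + 1)) R} (hG : G.IsHomogeneous D)
    (a : Fin n → R) : Sing G (pt a) ↔ eval (pt a) G = 0 ∧ ∀ j : Fin n, eval (pt a) (pderiv j.succ G) = 0 := by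
  refine ⟨fun h => ⟨h.1, fun j => h.2 _⟩, fun h => ⟨h.1, fun i => ?_⟩⟩
  refine Fin.cases ?_ h.2 i
  have h1 := congrArg (eval (pt a)) hG.sum_X_mul_pderiv
  rw [Fin.sum_univ_succ, map_add, map_sum, Finset.sum_eq_zero fun j _ => by rw [map_mul, h.2 j, mul_zero],
    add_zero, map_mul, eval_X, map_nsmul, h.1, smul_zero] at h1
  simpa [pt] using h1

/-- The parameters. -/
abbrev Par (n d : ℕ) : Type := Fin n ⊕ Off2 n d

variable (k n d) in
/-- The universal point. -/
noncomputable def upt (i : Fin n) : MvPolynomial (Par n d) k := X (Sum.inl i)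

variable (k n d) in
/-- The universal coefficients off the pivots. -/
noncomputable def uoff : MvPolynomial (Fin (n + 1)) (MvPolynomial (Par n d) k) :=
  ∑ e : Off2 n d, C (X (Sum.inr e)) * monomial e.1.1 1

variable (k n d) in
/-- The coefficients of the universal singular form. -/
noncomputable def coef : Off2 n d ⊕ Option (Fin n) → MvPolynomial (Par n d) k
  | .inl e => X (Sum.inr e)
  | .inr (some i) => -eval (pt (upt k n d)) (pderiv i.succ (uoff k n d))
  | .inr none => -eval (pt (upt k n d)) (uoff k n d) +
      ∑ i, eval (pt (upt k n d)) (pderiv i.succ (uoff k n d)) * upt k n d i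

variable (k n d) in
/-- The coefficients of the universal singular form, by exponent. -/
noncomputable def ucoef (e : Mon n (d + 2)) : MvPolynomial (Par n d) k := coef k n d ((split n d).symm e)

theorem offPart_ucoef : offPart (ucoef k n d) = uoff k n d := by
  refine Finset.sum_congr rfl fun e _ => ?_
  rw [ucoef, show e.1 = split n d (Sum.inl e) from rfl, Equiv.symm_apply_apply]
  rfl

theorem ucoef_piv (o : Option (Fin n)) : ucoef k n d (pivExp o) = coef k n d (Sum.inr o) := by
  rw [ucoef, show pivExp o = split n d (Sum.inr o) from rfl, Equiv.symm_apply_apply]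

theorem sing_ucoef : Sing (formOf (ucoef k n d)) (pt (upt k n d)) := by
  refine (sing_pt_iff (isHomogeneous_formOf _) _).2 ⟨?_, fun j => ?_⟩
  · rw [eval_formOf, offPart_ucoef, ucoef_piv]
    simp only [ucoef_piv, coef, neg_mul, Finset.sum_neg_distrib]
    ring
  · rw [eval_pderiv_formOf, offPart_ucoef, ucoef_piv, coef, add_neg_cancel]

theorem exists_param {G : MvPolynomial (Fin (n + 1)) k} (hG : G.IsHomogeneous (d + 2)) {a : Fin n → k}
    (h : Sing G (pt a)) : ∃ v : Par n d → k, ∀ e, eval v (ucoef k n d e) = coeff e.1 G := by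
  let c : Mon n (d + 2) → k := fun e => coeff e.1 G
  have hc : formOf c = G := formOf_coeff hG
  let v : Par n d → k := Sum.elim a fun e => c e.1
  refine ⟨v, fun e => ?_⟩
  obtain ⟨s, rfl⟩ := (split n d).surjective e
  rw [ucoef, Equiv.symm_apply_apply]
  have hoff : map (eval v) (uoff k n d) = offPart c := by
    rw [uoff, offPart, map_sum]
    exact Finset.sum_congr rfl fun e _ => by rw [map_mul, map_C, map_monomial, map_one, eval_X]; rfl
  have hpt : (fun i => eval v (pt (upt k n d) i)) = pt a := by
    rw [map_pt]; exact congrArg pt (funext fun i => by simp [upt, v])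
  have hval : eval v (eval (pt (upt k n d)) (uoff k n d)) = eval (pt a) (offPart c) := by
    rw [map_eval', hpt, hoff]
  have hder : ∀ j : Fin n, eval v (eval (pt (upt k n d)) (pderiv j.succ (uoff k n d))) =
      eval (pt a) (pderiv j.succ (offPart c)) := fun j => by
    rw [map_eval', hpt, ← pderiv_map, hoff]
  have hj : ∀ j : Fin n, eval (pt a) (pderiv j.succ (offPart c)) = -c (pivExp (some j)) := fun j => by
    have h2 := h.2 j.succ
    rw [← hc, eval_pderiv_formOf] at h2
    linear_combination h2
  rcases s with e | (_ | i)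
  · simp [coef, v]; rfl
  · have h1 := h.1
    rw [← hc, eval_formOf] at h1
    show eval v (coef k n d (Sum.inr none)) = c (pivExp none)
    simp only [coef, map_add, map_neg, map_sum, map_mul, hval, hder, hj, upt, eval_X, v, Sum.elim_inl,
      neg_mul, Finset.sum_neg_distrib]
    linear_combination (-1 : k) * h1
  · show eval v (coef k n d (Sum.inr (some i))) = c (pivExp (some i))
    rw [coef, map_neg, hder, hj, neg_neg]

section special

variable (π : Fin n → Fin n)

variable (k) in
/-- A quadratic form pairing the coordinates. -/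
noncomputable def pairQuad : MvPolynomial (Fin n) k :=
  ∑ i ∈ Finset.univ.filter (fun i => i ≤ π i), X i * X (π i)

theorem pderiv_pairQuad (hπ : ∀ i, π (π i) = i) (j : Fin n) :
    pderiv j (pairQuad k π) = C (if π j = j then 2 else 1) * X (π j) := by
  classical
  rw [pairQuad, map_sum]
  simp only [pderiv_mul, pderiv_X, Pi.single_apply, ite_mul, one_mul, zero_mul, mul_ite, mul_one, mul_zero,
    Finset.sum_add_distrib, Finset.sum_ite_eq, Finset.sum_filter]
  have h2 : (∑ i, if i ≤ π i then (if π i = j then (X i : MvPolynomial (Fin n) k) else 0) else 0) =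
      if π j ≤ j then X (π j) else 0 := by
    rw [Finset.sum_eq_single (π j)]
    · rw [hπ, if_pos rfl]
    · intro i _ hi
      rw [if_neg (fun h => hi (by rw [← h, hπ]) : ¬ π i = j)]
      simp
    · simp
  have h3 : (∑ i, if i ≤ π i then (if i = j then (X (π i) : MvPolynomial (Fin n) k) else 0) else 0) =
      if j ≤ π j then X (π j) else 0 := by
    rw [Finset.sum_eq_single j]
    · simp
    · intro i _ hi; simp [hi]
    · simp
  rw [h2, h3]
  by_cases h : π j = j
  · simp [h, map_ofNat, two_mul]
  · rcases lt_or_gt_of_ne h with h' | h'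
    · simp [h, h'.le, not_le.2 h']
    · simp [h, h'.le, not_le.2 h']

theorem isHomogeneous_pairQuad : (pairQuad k π).IsHomogeneous 2 :=
  IsHomogeneous.sum _ _ _ fun i _ => (isHomogeneous_X k i).mul (isHomogeneous_X k (π i))

variable (k d) in
/-- The scaling. -/
noncomputable def scale (w : Fin n → ℕ) :
    MvPolynomial (Par n d) k →ₐ[k] Polynomial (MvPolynomial (Par n d) k) :=
  aeval (Sum.elim (fun i => Polynomial.X ^ w i * Polynomial.C (X (Sum.inl i))) fun e =>
    Polynomial.C (C (coeff e.1.1 (X 0 ^ d * rename Fin.succ (pairQuad k π) : MvPolynomial (Fin (n + 1)) k))) +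
      Polynomial.X ^ 2 * Polynomial.C (X (Sum.inr e)))

theorem scale_spec (hπ : ∀ i, π (π i) = i) (w : Fin n → ℕ) (hw : ∀ i, w i ≠ 0) :
    (∃ r, scale k d π w (eval (pt (upt k n d)) (uoff k n d)) =
      eval₂ (Polynomial.C.comp C) (fun i => Polynomial.X ^ w i * Polynomial.C (X (Sum.inl i))) (pairQuad k π) +
        Polynomial.X ^ 3 * r) ∧
    ∀ j : Fin n, ∃ r, scale k d π w (eval (pt (upt k n d)) (pderiv j.succ (uoff k n d))) =
      Polynomial.C (C (if π j = j then 2 else 1)) * (Polynomial.X ^ w (π j) * Polynomial.C (X (Sum.inl (π j)))) +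
        Polynomial.X ^ 3 * r := by
  classical
  let Hs : MvPolynomial (Fin (n + 1)) k := X 0 ^ d * rename Fin.succ (pairQuad k π)
  let Cc : k →+* Polynomial (MvPolynomial (Par n d) k) := Polynomial.C.comp C
  let a' : Fin n → Polynomial (MvPolynomial (Par n d) k) :=
    fun i => Polynomial.X ^ w i * Polynomial.C (X (Sum.inl i))
  let Hz : MvPolynomial (Fin (n + 1)) (Polynomial (MvPolynomial (Par n d) k)) :=
    ∑ e : Off2 n d, C (Polynomial.C (X (Sum.inr e))) * monomial e.1.1 1
  let f := (scale k d π w).toRingHom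
  have hHs : Hs.IsHomogeneous (d + 2) :=
    (isHomogeneous_X_pow (0 : Fin (n + 1)) d).mul (isHomogeneous_pairQuad π).rename_isHomogeneous
  have hsucc : Function.Injective (Fin.succ : Fin n → Fin (n + 1)) := Fin.succ_injective n
  have hpiv : ∀ o : Option (Fin n), coeff (pivExp (d := d) o).1 Hs = 0 := fun o => by
    have h0 : d < (pivExp (d := d) o).1 0 := by cases o <;> simp [pivExp, (Fin.succ_ne_zero _).symm]
    by_contra hne
    have hmem := mem_support_iff.2 hne
    obtain ⟨b, hb, c, hc, hbc⟩ := Finset.mem_add.1 (support_mul _ _ hmem)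
    rw [X_pow_eq_monomial, support_monomial, if_neg one_ne_zero, Finset.mem_singleton] at hb
    rw [support_rename_of_injective hsucc, Finset.mem_image] at hc
    obtain ⟨c', -, rfl⟩ := hc
    rw [← hbc, hb, Finsupp.add_apply, Finsupp.single_eq_same,
      Finsupp.mapDomain_of_notMem_range _ _ (by rintro ⟨i, hi⟩; exact Fin.succ_ne_zero i hi)] at h0
    omega
  have hoff : map f (uoff k n d) = map Cc Hs + C (Polynomial.X ^ 2) * Hz := by
    conv_rhs => rw [← formOf_coeff hHs, map_formOf]
    rw [formOf_eq, hpiv, map_zero, map_zero, zero_mul, zero_add,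
      Finset.sum_eq_zero (s := Finset.univ) fun i _ => by rw [hpiv, map_zero, map_zero, zero_mul],
      add_zero, offPart, uoff, map_sum, Finset.mul_sum, ← Finset.sum_add_distrib]
    refine Finset.sum_congr rfl fun e _ => ?_
    rw [map_mul, map_C, map_monomial, map_one, ← mul_assoc, ← map_mul, ← add_mul, ← map_add]
    simp [f, scale, Cc, Hs]
  have hpt : (fun i => f (pt (upt k n d) i)) = pt a' := by
    rw [map_pt]; exact congrArg pt (funext fun i => by simp [f, scale, upt, a'])
  have h0 : ∀ (D : MvPolynomial (Fin (n + 1)) (Polynomial (MvPolynomial (Par n d) k)) →ₗ[Polynomial (MvPolynomial (Par n d) k)]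
      MvPolynomial (Fin (n + 1)) (Polynomial (MvPolynomial (Par n d) k))),
      (∀ e : Off2 n d, eval (pt (0 : Fin n → MvPolynomial (Par n d) k))
        (map Polynomial.constantCoeff (D (monomial e.1.1 1))) = 0) →
      Polynomial.X ∣ eval (pt a') (D Hz) := by
    intro D hD
    rw [Polynomial.X_dvd_iff]
    rw [← Polynomial.constantCoeff_apply, map_eval', map_pt,
      show (fun i => Polynomial.constantCoeff (a' i)) = 0 from funext fun i => by simp [a', (hw i).symm],
      map_sum, map_sum, map_sum]
    refine Finset.sum_eq_zero fun e _ => ?_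
    rw [C_mul', D.map_smul, smul_eq_C_mul, map_mul, map_mul, hD e, mul_zero]
  have hmon : ∀ (s : Fin (n + 1) →₀ ℕ) (i : Fin n), s i.succ ≠ 0 →
      eval (pt (0 : Fin n → MvPolynomial (Par n d) k)) (monomial s 1) = 0 := fun s i hs => by
    rw [eval_monomial, Finsupp.prod, Finset.prod_eq_zero (Finsupp.mem_support_iff.2 hs), mul_zero]
    simp [pt, zero_pow hs]
  have hex : ∀ e : Off2 n d, ∀ j : Fin n, ∃ i : Fin n, e.1.1 i.succ ≠ 0 ∧ (i ≠ j ∨ 2 ≤ e.1.1 i.succ) := by
    intro e j
    by_contra! hall
    have h1 := e.1.2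
    rw [Finsupp.degree_eq_sum, Fin.sum_univ_succ, Finset.sum_eq_single j] at h1
    · have h2 := e.2
      by_cases hz : e.1.1 j.succ = 0
      · omega
      · have := (hall j hz).2; omega
    · intro i _ hi
      by_contra hz
      exact hi (hall i hz).1
    · simp
  constructor
  · obtain ⟨r, hr⟩ := h0 LinearMap.id fun e => by
      rw [LinearMap.id_apply, map_monomial, map_one]
      rcases isEmpty_or_nonempty (Fin n) with hn | ⟨⟨j⟩⟩
      · have h1 := e.1.2
        rw [Finsupp.degree_eq_sum, Fin.sum_univ_succ, Finset.sum_eq_zero fun i _ => (hn.false i).elim] at h1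
        have := e.2
        omega
      · obtain ⟨i, hi, -⟩ := hex e j
        exact hmon _ i hi
    refine ⟨r, ?_⟩
    show f _ = _
    rw [map_eval', hpt, hoff, map_add, map_mul (eval (pt a')) (C (Polynomial.X ^ 2)), eval_C,
      show eval (pt a') Hz = Polynomial.X * r from hr]
    have h1 : eval (pt a') (map Cc Hs) = eval₂ Cc a' (pairQuad k π) := by
      rw [eval_map, eval₂_mul, eval₂_pow, eval₂_X, eval₂_rename]
      simp [pt, Function.comp_def]
    rw [h1]
    ring
  · intro j
    obtain ⟨r, hr⟩ := h0 (pderiv j.succ).toLinearMap fun e => by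
      show eval _ (map _ (pderiv j.succ (monomial e.1.1 1))) = 0
      rw [← pderiv_map, map_monomial, map_one, pderiv_monomial, one_mul]
      by_cases hj : e.1.1 j.succ = 0
      · simp [hj]
      obtain ⟨i, hi, hi'⟩ := hex e j
      rw [← mul_one ((e.1.1 j.succ : ℕ) : MvPolynomial (Par n d) k), ← C_mul_monomial, map_mul, hmon _ i, mul_zero]
      rw [Finsupp.tsub_apply, Finsupp.single_apply]
      split_ifs with hij
      · rcases hi' with h | h
        · exact absurd (Fin.succ_injective _ hij).symm h
        · omega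
      · simpa using hi
    refine ⟨r, ?_⟩
    show f _ = _
    rw [map_eval', hpt, ← pderiv_map, hoff, map_add, pderiv_C_mul, map_add, map_mul (eval (pt a')) (C (Polynomial.X ^ 2)), eval_C,
      show eval (pt a') (pderiv j.succ Hz) = Polynomial.X * r from hr]
    have h1 : eval (pt a') (pderiv j.succ (map Cc Hs)) = eval₂ Cc a' (pderiv j (pairQuad k π)) := by
      rw [pderiv_map, eval_map, pderiv_mul, pderiv_pow, pderiv_X_of_ne (Fin.succ_ne_zero j).symm, pderiv_rename hsucc]
      simp [pt, eval₂_rename, Function.comp_def]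
    rw [h1, pderiv_pairQuad π hπ, eval₂_mul, eval₂_C, eval₂_X]
    simp only [a', Cc, RingHom.comp_apply]
    ring

end special

variable (k d) in
theorem indep_of_ne_zero (π : Fin n → Fin n) (hπ : ∀ i, π (π i) = i)
    (hμ : ∀ j, (if π j = j then 2 else 1 : k) ≠ 0) :
    ∃ o : Option (Fin n), AlgebraicIndependent k
      (fun s : {s : Off2 n d ⊕ Option (Fin n) // s ≠ Sum.inr o} => coef k n d s) := by
  classical
  let μ : Fin n → k := fun j => if π j = j then 2 else 1
  let sv : Off2 n d → k := fun e =>
    coeff e.1.1 (X 0 ^ d * rename Fin.succ (pairQuad k π) : MvPolynomial (Fin (n + 1)) k)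
  refine ⟨none, ?_⟩
  obtain ⟨-, hder⟩ := scale_spec (k := k) (d := d) π hπ (fun _ => 2) fun _ => two_ne_zero
  let T : {s : Off2 n d ⊕ Option (Fin n) // s ≠ Sum.inr none} → Par n d := fun s =>
    match s with
    | ⟨.inl e, _⟩ => Sum.inr e
    | ⟨.inr (some i), _⟩ => Sum.inl (π i)
    | ⟨.inr none, h⟩ => absurd rfl h
  let u : {s : Off2 n d ⊕ Option (Fin n) // s ≠ Sum.inr none} → k := fun s =>
    match s with
    | ⟨.inl _, _⟩ => 1
    | ⟨.inr (some i), _⟩ => -μ i
    | ⟨.inr none, h⟩ => absurd rfl h
  refine ScaleIndep.algebraicIndependent_of_scaling _ (scale k d π fun _ => 2) 2 two_ne_zero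
    (fun s => Sum.elim sv (fun _ => 0) s.1) (fun s => C (u s) * X (T s) ^ 1) ?_
    (ScaleIndep.algebraicIndependent_scaled_pow T ?_ (fun _ => 1) (fun _ => one_ne_zero) u ?_)
  · rintro ⟨e | (_ | i), hs⟩
    · exact ⟨Polynomial.C (X (Sum.inr e)), by simp [coef, scale, sv], by simp [u, T]⟩
    · exact absurd rfl hs
    · obtain ⟨r, hr⟩ := hder i
      refine ⟨-(Polynomial.C (C (μ i)) * Polynomial.C (X (Sum.inl (π i)))) - Polynomial.X * r, ?_, ?_⟩
      · simp only [coef, map_neg, hr, Sum.elim_inr, map_zero, zero_add, μ]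
        ring
      · simp [u, T]
  · rintro ⟨e | (_ | i), hs⟩ ⟨e' | (_ | i'), hs'⟩ h <;>
      first
        | exact absurd rfl hs
        | exact absurd rfl hs'
        | simp_all [T]
    exact (Function.Involutive.injective hπ) h
  · rintro ⟨e | (_ | i), hs⟩
    · simp [u]
    · exact absurd rfl hs
    · simpa [u] using hμ i

variable (k d) in
theorem indep_of_eq_zero (π : Fin n → Fin n) (hπ : ∀ i, π (π i) = i) (hfix : ∀ i, π i = i → i.1 + 1 = n)
    (hμ : ∃ j, (if π j = j then 2 else 1 : k) = 0) :
    ∃ o : Option (Fin n), AlgebraicIndependent k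
      (fun s : {s : Off2 n d ⊕ Option (Fin n) // s ≠ Sum.inr o} => coef k n d s) := by
  classical
  let μ : Fin n → k := fun j => if π j = j then 2 else 1
  let sv : Off2 n d → k := fun e =>
    coeff e.1.1 (X 0 ^ d * rename Fin.succ (pairQuad k π) : MvPolynomial (Fin (n + 1)) k)
  obtain ⟨i0, hi0⟩ := hμ
  have hi0' : π i0 = i0 := by by_contra h; simp [μ, h] at hi0
  have h2 : (2 : k) = 0 := by simpa [μ, hi0'] using hi0
  refine ⟨some i0, ?_⟩
  let w : Fin n → ℕ := fun i => if i = i0 then 1 else 2
  obtain ⟨⟨r0, hval⟩, hder⟩ := scale_spec (k := k) (d := d) π hπ w fun i => by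
    simp only [w]
    split_ifs <;> norm_num
  let T : {s : Off2 n d ⊕ Option (Fin n) // s ≠ Sum.inr (some i0)} → Par n d := fun s =>
    match s with
    | ⟨.inl e, _⟩ => Sum.inr e
    | ⟨.inr (some i), _⟩ => Sum.inl (π i)
    | ⟨.inr none, _⟩ => Sum.inl i0
  let m : {s : Off2 n d ⊕ Option (Fin n) // s ≠ Sum.inr (some i0)} → ℕ := fun s =>
    match s with
    | ⟨.inl _, _⟩ => 1
    | ⟨.inr (some _), _⟩ => 1
    | ⟨.inr none, _⟩ => 2
  let u : {s : Off2 n d ⊕ Option (Fin n) // s ≠ Sum.inr (some i0)} → k := fun s =>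
    match s with
    | ⟨.inl _, _⟩ => 1
    | ⟨.inr (some i), _⟩ => -μ i
    | ⟨.inr none, _⟩ => 1
  have hne : ∀ i, i ≠ i0 → π i ≠ i ∧ π i ≠ i0 := fun i hi =>
    ⟨fun h => hi (Fin.ext (by have := hfix i h; have := hfix i0 hi0'; omega)),
      fun h => hi (by rw [← hπ i, h, hi0'])⟩
  refine ScaleIndep.algebraicIndependent_of_scaling _ (scale k d π w) 2 two_ne_zero
    (fun s => Sum.elim sv (fun _ => 0) s.1) (fun s => C (u s) * X (T s) ^ m s) ?_
    (ScaleIndep.algebraicIndependent_scaled_pow T ?_ m ?_ u ?_)
  · rintro ⟨e | (_ | i), hs⟩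
    · exact ⟨Polynomial.C (X (Sum.inr e)), by simp [coef, scale, sv], by simp [u, T, m]⟩
    · choose r hr using hder
      let Cc : k →+* Polynomial (MvPolynomial (Par n d) k) := Polynomial.C.comp C
      let a' : Fin n → Polynomial (MvPolynomial (Par n d) k) :=
        fun i => Polynomial.X ^ w i * Polynomial.C (X (Sum.inl i))
      have h2' : (2 : Polynomial (MvPolynomial (Par n d) k)) = 0 := by
        rw [← map_ofNat Cc 2, h2, map_zero]
      have heul : ∑ j, eval₂ Cc a' (pderiv j (pairQuad k π)) * a' j = 0 := by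
        have h1 := congrArg (eval₂Hom Cc a') (isHomogeneous_pairQuad (k := k) π).sum_X_mul_pderiv
        rw [map_sum, nsmul_eq_mul, map_mul, map_natCast, Nat.cast_ofNat, h2', zero_mul] at h1
        refine Eq.trans (Finset.sum_congr rfl fun j _ => ?_) h1
        rw [map_mul, eval₂Hom_X', mul_comm]
        rfl
      obtain ⟨g, hg, hg0⟩ : ∃ g, eval₂ Cc a' (pairQuad k π) = Polynomial.X ^ 2 * g ∧
          g.coeff 0 = X (Sum.inl i0) ^ 2 := by
        refine ⟨∑ i ∈ Finset.univ.filter (fun i => i ≤ π i),
          if i = i0 then Polynomial.C (X (Sum.inl i0) ^ 2)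
            else Polynomial.X ^ 2 * Polynomial.C (X (Sum.inl i) * X (Sum.inl (π i))), ?_, ?_⟩
        · rw [pairQuad, eval₂_sum, Finset.mul_sum]
          refine Finset.sum_congr rfl fun i _ => ?_
          rw [eval₂_mul, eval₂_X, eval₂_X]
          by_cases hi : i = i0
          · subst hi
            simp only [a', w, hi0', if_true, pow_one, map_pow]
            ring
          · simp only [a', w, if_neg hi, if_neg (hne i hi).2, map_mul]
            ring
        · rw [Polynomial.finsetSum_coeff, Finset.sum_eq_single i0]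
          · rw [if_pos rfl, Polynomial.coeff_C_zero]
          · intro i _ hi
            rw [if_neg hi, Polynomial.coeff_X_pow_mul', if_neg (by omega)]
          · simp [hi0']
      refine ⟨-g + Polynomial.X * (-r0 + ∑ j, r j * a' j), ?_, ?_⟩
      · have hupt : ∀ j, scale k d π w (upt k n d j) = a' j := fun j => by simp [scale, upt, a']
        simp only [coef, map_add, map_neg, map_sum, map_mul, hval, hr, hupt, Sum.elim_inr, map_zero, zero_add]
        rw [show eval₂ (Polynomial.C.comp C) (fun i => Polynomial.X ^ w i * Polynomial.C (X (Sum.inl i)))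
          (pairQuad k π) = Polynomial.X ^ 2 * g from hg]
        simp only [add_mul, Finset.sum_add_distrib, mul_assoc, ← Finset.mul_sum]
        rw [show (∑ j, Polynomial.C (C (if π j = j then (2 : k) else 1)) *
            (Polynomial.X ^ w (π j) * (Polynomial.C (X (Sum.inl (π j))) * a' j))) = 0 from
          Eq.trans (Finset.sum_congr rfl fun j _ => by
            rw [pderiv_pairQuad π hπ, eval₂_mul, eval₂_C, eval₂_X]
            simp only [Cc, RingHom.comp_apply, a', mul_assoc]) heul]
        ring
      · have h2'' : (-1 : MvPolynomial (Par n d) k) = 1 := by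
          rw [neg_eq_iff_add_eq_zero, one_add_one_eq_two, ← map_ofNat (C : k →+* _) 2, h2, map_zero]
        simp only [Polynomial.coeff_add, Polynomial.coeff_neg, hg0, Polynomial.coeff_X_mul_zero, add_zero, u, T, m,
          map_one, one_mul]
        rw [neg_eq_neg_one_mul, h2'', one_mul]
    · have hi : i ≠ i0 := fun h => hs (by rw [h])
      obtain ⟨r, hr⟩ := hder i
      refine ⟨-(Polynomial.C (C (μ i)) * Polynomial.C (X (Sum.inl (π i)))) - Polynomial.X * r, ?_, ?_⟩
      · simp only [coef, map_neg, hr, Sum.elim_inr, map_zero, zero_add, μ]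
        simp only [w, if_neg (hne i hi).2]
        ring
      · simp [u, T, m]
  · rintro ⟨e | (_ | i), hs⟩ ⟨e' | (_ | i'), hs'⟩ h
    · exact Subtype.ext (congrArg Sum.inl (Sum.inr_injective h))
    · exact absurd h Sum.inr_ne_inl
    · exact absurd h Sum.inr_ne_inl
    · exact absurd h Sum.inl_ne_inr
    · rfl
    · exact absurd (Sum.inl_injective h).symm (hne i' fun hh => hs' (by rw [hh])).2
    · exact absurd h Sum.inl_ne_inr
    · exact absurd (Sum.inl_injective h) (hne i fun hh => hs (by rw [hh])).2
    · exact Subtype.ext (congrArg (fun x => Sum.inr (some x))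
        (Function.Involutive.injective hπ (Sum.inl_injective h)))
  · rintro ⟨e | (_ | i), hs⟩ <;> simp [m]
  · rintro ⟨e | (_ | i), hs⟩ <;> simp only [u, ne_eq, one_ne_zero, not_false_eq_true]
    have hi : i ≠ i0 := fun h => hs (by rw [h])
    simp [μ, (hne i hi).1]

theorem exists_pairing (n : ℕ) :
    ∃ π : Fin n → Fin n, (∀ i, π (π i) = i) ∧ ∀ i, π i = i → i.1 + 1 = n := by
  let f : ℕ → ℕ := fun a => if a % 2 = 0 then (if a + 1 < n then a + 1 else a) else a - 1
  have hf : ∀ a, a < n → f a < n ∧ f (f a) = a ∧ (f a = a → a + 1 = n) := fun a ha => by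
    by_cases h1 : a % 2 = 0
    · by_cases h2 : a + 1 < n
      · have h3 : ¬ (a + 1) % 2 = 0 := by omega
        simp [f, h1, h2, h3]
      · simp [f, h1, h2]; omega
    · have h3 : (a - 1) % 2 = 0 := by omega
      have h4 : a - 1 + 1 < n := by omega
      simp [f, h1, h3, h4]; omega
  exact ⟨fun i => ⟨f i.1, (hf i.1 i.2).1⟩, fun i => Fin.ext (hf i.1 i.2).2.1,
    fun i hi => (hf i.1 i.2).2.2 (congrArg Fin.val hi)⟩

theorem exists_irreducible_disc [Infinite k] (hn : 1 ≤ n) : ∃ P : MvPolynomial (Mon n (d + 2)) k,
    Irreducible P ∧ ∀ Q, aeval (ucoef k n d) Q = 0 ↔ P ∣ Q := by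
  classical
  obtain ⟨π, hπ, hfix⟩ := exists_pairing n
  have hdep : ¬ AlgebraicIndependent k (ucoef k n d) := fun hi => by
    have h1 := hi.lift_cardinalMk_le_trdeg
    rw [MvPolynomial.trdeg_of_isDomain, Cardinal.mk_fintype, Cardinal.mk_fintype] at h1
    simp only [Cardinal.lift_natCast, Nat.cast_le] at h1
    rw [← Fintype.card_congr (split n d), Fintype.card_sum, Fintype.card_option, Fintype.card_sum,
      Fintype.card_fin] at h1
    omega
  suffices ∃ o : Option (Fin n), AlgebraicIndependent k
      (fun s : {s : Off2 n d ⊕ Option (Fin n) // s ≠ Sum.inr o} => coef k n d s) by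
    obtain ⟨o, ho⟩ := this
    let g : {e : Mon n (d + 2) // e ≠ split n d (Sum.inr o)} →
        {t : Off2 n d ⊕ Option (Fin n) // t ≠ Sum.inr o} := fun e =>
      ⟨(split n d).symm e.1, fun h => e.2 ((Equiv.symm_apply_eq _).1 h)⟩
    have hg : Function.Injective g := fun a b h =>
      Subtype.ext ((split n d).symm.injective (congrArg Subtype.val h))
    have h2 := ho.comp g hg
    have h3 : AlgebraicIndependent k
        (fun e : {e : Mon n (d + 2) // e ≠ split n d (Sum.inr o)} => ucoef k n d e.1) := by
      simpa only [ucoef, Function.comp_def, g] using h2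
    exact PrincipalKernel.exists_irreducible_ker (ucoef k n d) (split n d (Sum.inr o)) h3 hdep
  by_cases hμ : ∀ j, (if π j = j then 2 else 1 : k) ≠ 0
  · exact indep_of_ne_zero k d π hπ hμ
  · push Not at hμ
    exact indep_of_eq_zero k d π hπ hfix hμ

theorem pderiv_aeval {R : Type*} [CommRing R] {ι κ : Type*} [Fintype ι] (l : ι → MvPolynomial κ R)
    (G : MvPolynomial ι R) (i : κ) :
    pderiv i (aeval l G) = ∑ m, pderiv i (l m) * aeval l (pderiv m G) := by
  classical
  induction G using MvPolynomial.induction_on with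
  | C a => simp
  | add p q hp hq => simp only [map_add, hp, hq, mul_add, Finset.sum_add_distrib]
  | mul_X p j hp =>
    simp only [map_mul, aeval_X, pderiv_mul, hp, map_add, mul_add, Finset.sum_add_distrib, pderiv_X,
      Pi.single_apply, apply_ite (aeval l), map_one, map_zero, mul_ite, mul_one, mul_zero, Finset.sum_ite_eq,
      Finset.mem_univ, if_true, Finset.sum_mul]
    refine congrArg₂ (· + ·) (Finset.sum_congr rfl fun m _ => mul_assoc _ _ _) (mul_comm _ _)

/-- A form is singular iff the discriminant vanishes on it. -/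
theorem sing_iff_eval_eq_zero [IsAlgClosed k] {P : MvPolynomial (Mon n (d + 2)) k}
    (hP : ∀ Q, aeval (ucoef k n d) Q = 0 ↔ P ∣ Q)
    {G : MvPolynomial (Fin (n + 1)) k} (hG : G.IsHomogeneous (d + 2)) :
    (∃ v : Fin (n + 1) → k, v ≠ 0 ∧ Sing G v) ↔ eval (fun e : Mon n (d + 2) => coeff e.1 G) P = 0 := by
  classical
  constructor
  · have hchart : ∀ (H : MvPolynomial (Fin (n + 1)) k), H.IsHomogeneous (d + 2) →
        ∀ v : Fin (n + 1) → k, v 0 ≠ 0 → Sing H v → eval (fun e : Mon n (d + 2) => coeff e.1 H) P = 0 := by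
      intro H hH v hv0 hv
      have h1 : Sing H (pt fun i : Fin n => (v 0)⁻¹ * v i.succ) := by
        have h2 := hv.smul hH (v 0)⁻¹
        convert h2 using 1
        funext i
        refine Fin.cases ?_ (fun j => ?_) i <;> simp [pt, hv0]
      obtain ⟨p, hp⟩ := exists_param hH h1
      have h3 := congrArg (eval p) ((hP P).2 dvd_rfl)
      rw [map_zero, eval_aeval] at h3
      simpa [hp] using h3
    rintro ⟨v, hv, hvG⟩
    by_cases hv0 : v 0 = 0
    swap
    · exact hchart G hG v hv0 hvG
    obtain ⟨j, hj⟩ := Function.ne_iff.1 hv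
    have hj0 : j ≠ 0 := fun h => hj (by rw [h, hv0]; rfl)
    let l : Fin (n + 1) → MvPolynomial (Fin (n + 1)) (Polynomial k) := fun m =>
      if m = 0 then X 0 + C (-(Polynomial.X * Polynomial.C (v j)⁻¹)) * X j else X m
    let G' := aeval l (map Polynomial.C G)
    let v' : Fin (n + 1) → Polynomial k := fun m => if m = 0 then Polynomial.X else Polynomial.C (v m)
    have hl : ∀ m, eval v' (l m) = Polynomial.C (v m) := fun m => by
      by_cases hm : m = 0
      · subst hm
        simp only [l, if_true, map_add, map_mul, eval_X, eval_C, v', if_neg hj0, hv0, map_zero]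
        rw [neg_mul, mul_assoc, ← map_mul, inv_mul_cancel₀ hj, map_one, mul_one, add_neg_cancel]
      · simp [l, v', hm]
    have hsub : ∀ p, eval v' (aeval l (map Polynomial.C p)) = Polynomial.C (eval v p) := fun p => by
      rw [map_eval' Polynomial.C v p]
      refine RingHom.congr_fun (ringHom_ext (f := (eval v').comp ((aeval l).toRingHom.comp (map Polynomial.C)))
        (g := (eval fun m => Polynomial.C (v m)).comp (map Polynomial.C)) (fun r => ?_) fun m => ?_) p
      · simp
      · simpa using hl m
    have hG' : Sing G' v' := ⟨by rw [hsub, hvG.1, map_zero], fun i => by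
      rw [pderiv_aeval, map_sum]
      refine Finset.sum_eq_zero fun m _ => ?_
      rw [map_mul, pderiv_map, hsub, hvG.2 m, map_zero, mul_zero]⟩
    have hG'h : G'.IsHomogeneous (d + 2) := by
      have h1 := (hG.map Polynomial.C).aeval l (n := 1) fun m => by
        dsimp [l]
        split_ifs
        · exact (isHomogeneous_X _ _).add ((isHomogeneous_X _ _).C_mul _)
        · exact isHomogeneous_X _ _
      rwa [one_mul] at h1
    let y : Polynomial k := eval (fun e : Mon n (d + 2) => coeff e.1 G') (map Polynomial.C P)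
    have hy : ∀ t : k, y.eval t = eval (fun e : Mon n (d + 2) => coeff e.1 (map (Polynomial.evalRingHom t) G')) P :=
      fun t => by
        show Polynomial.evalRingHom t y = _
        rw [map_eval', map_map, show (Polynomial.evalRingHom t).comp Polynomial.C = RingHom.id k from
          RingHom.ext fun a => by simp, MvPolynomial.map_id]
        simp [coeff_map]
    have hy0 : y = 0 := by
      refine Polynomial.eq_zero_of_infinite_isRoot _ (Set.Infinite.mono (s := {(0 : k)}ᶜ) ?_
        (Set.finite_singleton (0 : k)).infinite_compl)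
      intro t ht
      show y.eval t = 0
      rw [hy]
      exact hchart _ (hG'h.map _) _ (by simpa [v'] using ht) (hG'.map (Polynomial.evalRingHom t))
    have hG0 : map (Polynomial.evalRingHom 0) G' = G := by
      refine RingHom.congr_fun (ringHom_ext
        (f := (map (Polynomial.evalRingHom 0)).comp ((aeval l).toRingHom.comp (map Polynomial.C)))
        (g := RingHom.id _) (fun r => ?_) fun m => ?_) G
      · simp
      · by_cases hm : m = 0
        · subst hm; simp [l]
        · simp [l, hm]
    rw [← hG0, ← hy, hy0, Polynomial.eval_zero]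
  · intro hc
    let Pp := MvPolynomial (Par n d) k
    let K := FractionRing Pp
    let ι : Pp →+* K := algebraMap Pp K
    let φ : MvPolynomial (Mon n (d + 2)) k →+* K := ι.comp (aeval (ucoef k n d)).toRingHom
    obtain ⟨O, hO, hres⟩ := ScaleIndep.exists_valuation_specialisation φ (fun e => coeff e.1 G) fun p hp => by
      obtain ⟨q, rfl⟩ := (hP p).1 ((IsFractionRing.injective Pp K) (hp.trans (map_zero ι).symm))
      rw [map_mul, hc, zero_mul]
    let x : Fin (n + 1) → K := pt fun i => ι (upt k n d i)
    have hx : Sing (formOf fun e => ι (ucoef k n d e)) x := by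
      have h1 := (sing_ucoef (k := k) (n := n) (d := d)).map ι
      rwa [map_formOf, map_pt] at h1
    obtain ⟨τ, -, hτ⟩ := Finset.exists_max_image Finset.univ (fun i => O.valuation (x i)) Finset.univ_nonempty
    have hxτ : x τ ≠ 0 := fun h => by
      have := hτ 0 (Finset.mem_univ _)
      rw [h, map_zero, show x 0 = 1 from rfl, map_one] at this
      exact not_lt_of_ge this zero_lt_one
    have hxO : ∀ i, (x τ)⁻¹ * x i ∈ O := fun i => by
      rw [← ValuationSubring.valuation_le_one_iff, map_mul, map_inv₀, inv_mul_eq_div]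
      exact (div_le_one₀ (zero_lt_iff.2 ((Valuation.ne_zero_iff _).2 hxτ))).2 (hτ _ (Finset.mem_univ _))
    let ψ : MvPolynomial (Mon n (d + 2)) k →+* O := φ.codRestrict O.toSubring hO
    let uO : Fin (n + 1) → O := fun i => ⟨(x τ)⁻¹ * x i, hxO i⟩
    let res := IsLocalRing.residue O
    let j : k →+* IsLocalRing.ResidueField O := (res.comp ψ).comp C
    have hsO : Sing (formOf fun e => ψ (X e)) uO := by
      refine Sing.of_map O.subtype Subtype.val_injective ?_
      have h1 := hx.smul (isHomogeneous_formOf _) (x τ)⁻¹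
      rw [map_formOf]
      convert h1 using 3 with e
      simp [ψ, φ]
      rfl
    have hsL : Sing (map j G) fun i => res (uO i) := by
      have h1 := hsO.map res
      rw [map_formOf] at h1
      rw [← formOf_coeff hG, map_formOf]
      convert h1 using 3 with e
      refine ((hres (X e)).trans ?_).symm
      simp [j, ψ, res]
      rfl
    let E : Set (MvPolynomial (Fin (n + 1)) k) := {G} ∪ Set.range (fun i => pderiv i G) ∪ {X τ - 1}
    have hE : Ideal.span E ≠ ⊤ := fun h => by
      have hle : Ideal.span E ≤ RingHom.ker (eval₂Hom j fun i => res (uO i)) := by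
        rw [Ideal.span_le]
        rintro p ((rfl | ⟨i, rfl⟩) | rfl) <;> rw [SetLike.mem_coe, RingHom.mem_ker, coe_eval₂Hom]
        · rw [← eval_map]; exact hsL.1
        · rw [← eval_map, ← pderiv_map]; exact hsL.2 i
        · rw [eval₂_sub, eval₂_X, eval₂_one, sub_eq_zero,
            show uO τ = 1 from Subtype.ext (inv_mul_cancel₀ hxτ), map_one]
      rw [h] at hle
      exact one_ne_zero (α := IsLocalRing.ResidueField O) (by
        have h1 := RingHom.mem_ker.1 (hle (Submodule.mem_top (x := (1 : MvPolynomial (Fin (n + 1)) k))))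
        rwa [map_one] at h1)
    obtain ⟨M, hM, hEM⟩ := Ideal.exists_le_maximal _ hE
    obtain ⟨z, rfl⟩ := isMaximal_iff_eq_vanishingIdeal_singleton.1 hM
    have hz : ∀ p ∈ E, eval z p = 0 := fun p hp => by
      simpa using hEM (Ideal.subset_span hp) z rfl
    refine ⟨z, fun h => ?_, hz G (Or.inl (Or.inl rfl)), fun i => hz _ (Or.inl (Or.inr ⟨i, rfl⟩))⟩
    have h1 := hz _ (Or.inr rfl)
    simp [h] at h1

end Groth.Agent.CommAlg4.Discriminant
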