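import Mathlib

/-!
The theorem of Eakin–Nagata (Formanek's proof).
-/
set_option autoImplicit false
set_option linter.all false
universe u v

namespace Groth.Agent.CommAlg4.EakinNagata

variable {B : Type u} [CommRing B]

theorem isNoetherian_of_annihilator {M : Type v} [AddCommGroup M] [Module B M] [Module.Finite B M]
    {P : Type v} [AddCommGroup P] [Module B P] [IsNoetherian B P] [Module.Finite B P]
    (h : Module.annihilator B P ≤ Module.annihilator B M) : IsNoetherian B M := by
  obtain ⟨k, p, hp⟩ := Module.Finite.exists_fin (R := B) (M := P)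
  let f : B →ₗ[B] (Fin k → P) := LinearMap.pi fun i => LinearMap.toSpanSingleton B P (p i)
  have hker : LinearMap.ker f ≤ Module.annihilator B P := by
    intro b hb
    rw [Module.mem_annihilator]
    intro x
    have hx : x ∈ Submodule.span B (Set.range p) := by rw [hp]; trivial
    induction hx using Submodule.span_induction with
    | mem x hx =>
      obtain ⟨i, rfl⟩ := hx
      exact congrFun (LinearMap.mem_ker.1 hb) i
    | zero => exact smul_zero b
    | add x y _ _ hx hy => rw [smul_add, hx, hy, add_zero]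
    | smul r x _ hx => rw [smul_comm, hx, smul_zero]
  haveI hB : IsNoetherian B (B ⧸ LinearMap.ker f) :=
    isNoetherian_of_linearEquiv f.quotKerEquivRange.symm
  haveI : IsNoetherian B (B ⧸ Module.annihilator B M) :=
    isNoetherian_of_surjective (R := B) (f := Submodule.factor (hker.trans h))
      (LinearMap.range_eq_top.2 (Submodule.factor_surjective _))
  obtain ⟨l, m, hm⟩ := Module.Finite.exists_fin (R := B) (M := M)
  let g : Fin l → ((B ⧸ Module.annihilator B M) →ₗ[B] M) := fun i =>
    Submodule.liftQ _ (LinearMap.toSpanSingleton B M (m i)) fun b hb => (Module.mem_annihilator.1 hb) (m i)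
  refine isNoetherian_of_surjective (R := B) (f := LinearMap.lsum B _ B g) ?_
  rw [eq_top_iff, ← hm, Submodule.span_le]
  rintro _ ⟨i, rfl⟩
  refine ⟨Pi.single i (Submodule.Quotient.mk 1), ?_⟩
  rw [LinearMap.lsum_apply]
  simp only [LinearMap.coe_sum, Finset.sum_apply, LinearMap.coe_comp, Function.comp_apply, LinearMap.proj_apply]
  rw [Finset.sum_eq_single i]
  · rw [Pi.single_eq_same]
    show Submodule.liftQ _ (LinearMap.toSpanSingleton B M (m i)) _ (Submodule.Quotient.mk (1 : B)) = m i
    exact one_smul B (m i)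
  · intro j _ hj; simp [Pi.single_eq_of_ne hj]
  · simp

/-- Eakin–Nagata: a subring of a noetherian ring over which the ring is finite is noetherian. -/
theorem isNoetherianRing (B : Type u) (A : Type v) [CommRing B] [CommRing A] [Algebra B A] [FaithfulSMul B A]
    [Module.Finite B A] [IsNoetherianRing A] : IsNoetherianRing B := by
  suffices hA : IsNoetherian B A by
    exact isNoetherian_of_injective (Algebra.linearMap B A) (FaithfulSMul.algebraMap_injective B A)
  by_contra hA
  let S : Set (Ideal A) := {I | (∃ J : Ideal B, I = J.map (algebraMap B A)) ∧ ¬ IsNoetherian B (A ⧸ I)}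
  have hS : S.Nonempty := by
    refine ⟨⊥, ⟨⊥, (Ideal.map_bot).symm⟩, fun h => hA ?_⟩
    exact isNoetherian_of_linearEquiv ((AlgEquiv.quotientBot B A).toLinearEquiv)
  obtain ⟨I, ⟨⟨J₀, hJ₀⟩, hI⟩, hmax⟩ := (wellFounded_gt (α := Ideal A)).has_min S hS
  have hquot : ∀ b : B, b ∉ Module.annihilator B (A ⧸ I) →
      IsNoetherian B (A ⧸ (I ⊔ Ideal.span {algebraMap B A b})) := by
    intro b hb
    by_contra hn
    refine hmax _ ⟨⟨J₀ ⊔ Ideal.span {b}, by rw [Ideal.map_sup, ← hJ₀, Ideal.map_span, Set.image_singleton]⟩, hn⟩ ?_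
    refine lt_of_le_of_ne le_sup_left fun h => hb ?_
    rw [Module.mem_annihilator]
    intro x
    obtain ⟨x, rfl⟩ := Ideal.Quotient.mk_surjective x
    show Ideal.Quotient.mk I (b • x) = 0
    rw [Ideal.Quotient.eq_zero_iff_mem, Algebra.smul_def]
    exact I.mul_mem_right _ (h ▸ Ideal.mem_sup_right (Ideal.mem_span_singleton_self _))
  obtain ⟨s, hs⟩ := (Module.Finite.fg_top : (⊤ : Submodule B (A ⧸ I)).FG)
  let 𝒩 : Set (Submodule B (A ⧸ I)) := {N | Module.annihilator B ((A ⧸ I) ⧸ N) ≤ Module.annihilator B (A ⧸ I)}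
  obtain ⟨N, -, hN⟩ := zorn_le_nonempty₀ 𝒩 (fun c hc hchain N₀ hN₀ => by
    refine ⟨sSup c, ?_, fun z hz => le_sSup hz⟩
    intro b hb
    have hmem : ∀ x ∈ s, ∃ N ∈ c, b • x ∈ N := fun x _ => by
      have h0 := Module.mem_annihilator.1 hb (Submodule.Quotient.mk x)
      rw [← Submodule.Quotient.mk_smul, Submodule.Quotient.mk_eq_zero] at h0
      exact (Submodule.mem_sSup_of_directed ⟨N₀, hN₀⟩ hchain.directedOn).1 h0
    choose! F hFc hF using hmem
    obtain ⟨N₁, hN₁c, hN₁⟩ : ∃ N₁ ∈ c, ∀ x ∈ s, F x ≤ N₁ := by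
      classical
      have gen : ∀ t : Finset (A ⧸ I), t ⊆ s → ∃ N₁ ∈ c, ∀ x ∈ t, F x ≤ N₁ := by
        intro t
        induction t using Finset.induction_on with
        | empty => exact fun _ => ⟨N₀, hN₀, fun x hx => absurd hx (Finset.notMem_empty x)⟩
        | insert a t ha ih =>
          intro ht
          obtain ⟨ha', ht'⟩ := Finset.insert_subset_iff.1 ht
          obtain ⟨N₁, hN₁, h⟩ := ih ht'
          obtain ⟨N₂, hN₂, h1, h2⟩ := hchain.directedOn _ hN₁ _ (hFc a ha')
          refine ⟨N₂, hN₂, fun x hx => ?_⟩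
          rcases Finset.mem_insert.1 hx with rfl | hx
          · exact h2
          · exact (h x hx).trans h1
      exact gen s (Finset.Subset.refl s)
    refine hc hN₁c (Module.mem_annihilator.2 fun y => ?_)
    obtain ⟨y, rfl⟩ := Submodule.Quotient.mk_surjective _ y
    rw [← Submodule.Quotient.mk_smul, Submodule.Quotient.mk_eq_zero]
    have hy : y ∈ Submodule.span B (s : Set (A ⧸ I)) := by rw [hs]; trivial
    induction hy using Submodule.span_induction with
    | mem x hx => exact hN₁ x hx (hF x hx)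
    | zero => simp
    | add x y _ _ hx hy => rw [smul_add]; exact add_mem hx hy
    | smul r x _ hx => rw [smul_comm]; exact N₁.smul_mem r hx) ⊥ (fun b hb => by
      rw [Module.mem_annihilator] at hb ⊢
      intro x
      have := hb (Submodule.Quotient.mk x)
      rwa [← Submodule.Quotient.mk_smul, Submodule.Quotient.mk_eq_zero, Submodule.mem_bot] at this)
  refine hI ?_
  haveI : IsNoetherian B ((A ⧸ I) ⧸ N) := by
    refine ⟨fun N' => ?_⟩
    by_cases hN' : N' = ⊥
    · exact hN' ▸ Submodule.fg_bot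
    -- some non-annihilator maps into `N'`
    obtain ⟨b, hb, hbN'⟩ : ∃ b, b ∉ Module.annihilator B (A ⧸ I) ∧ ∀ z : (A ⧸ I) ⧸ N, b • z ∈ N' := by
      by_contra hcon
      push Not at hcon
      have hle : N'.comap N.mkQ ∈ 𝒩 := by
        intro b hb
        by_contra hnb
        obtain ⟨z, hz⟩ := hcon b hnb
        obtain ⟨z, rfl⟩ := Submodule.Quotient.mk_surjective _ z
        have := Module.mem_annihilator.1 hb (Submodule.Quotient.mk z)
        rw [← Submodule.Quotient.mk_smul, Submodule.Quotient.mk_eq_zero, Submodule.mem_comap, map_smul] at this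
        exact hz this
      have hNle : N ≤ N'.comap N.mkQ := fun x hx => by
        rw [Submodule.mem_comap, Submodule.mkQ_apply, (Submodule.Quotient.mk_eq_zero N).2 hx]
        exact N'.zero_mem
      refine hN' (eq_bot_iff.2 fun z hz => ?_)
      obtain ⟨z, rfl⟩ := Submodule.Quotient.mk_surjective _ z
      exact (Submodule.Quotient.mk_eq_zero N).2 (hN.2 hle hNle (by exact hz))
    haveI := hquot b hb
    let L : Submodule B ((A ⧸ I) ⧸ N) := LinearMap.range (b • LinearMap.id)
    have hL : L.FG := by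
      have := (Module.Finite.fg_top (R := B) (M := (A ⧸ I) ⧸ N)).map (b • (LinearMap.id : ((A ⧸ I) ⧸ N) →ₗ[B] _))
      rwa [Submodule.map_top] at this
    let T : A →ₗ[B] (((A ⧸ I) ⧸ N) ⧸ L) := L.mkQ.comp (N.mkQ.comp (IsScalarTower.toAlgHom B A (A ⧸ I)).toLinearMap)
    have hT : Function.Surjective T :=
      L.mkQ_surjective.comp (N.mkQ_surjective.comp (Ideal.Quotient.mk_surjective (I := I)))
    haveI : IsNoetherian B (((A ⧸ I) ⧸ N) ⧸ L) := by
      let T' : (A ⧸ (I ⊔ Ideal.span {algebraMap B A b})) →ₗ[B] (((A ⧸ I) ⧸ N) ⧸ L) :=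
        (Submodule.liftQ ((I ⊔ Ideal.span {algebraMap B A b}).restrictScalars B) T (fun x hx => by
          obtain ⟨i, hi, j, hj, rfl⟩ := Submodule.mem_sup.1 ((Submodule.restrictScalars_mem B _ x).1 hx)
          obtain ⟨a, rfl⟩ := Ideal.mem_span_singleton'.1 hj
          have h1 : Ideal.Quotient.mk I i = 0 := Ideal.Quotient.eq_zero_iff_mem.2 hi
          rw [LinearMap.mem_ker, map_add, mul_comm, ← Algebra.smul_def, map_smul]
          have h2 : T i = 0 := by
            show L.mkQ (N.mkQ (Ideal.Quotient.mk I i)) = 0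
            rw [h1, map_zero, map_zero]
          rw [h2, zero_add]
          show b • L.mkQ (N.mkQ (Ideal.Quotient.mk I a)) = 0
          rw [← map_smul, Submodule.mkQ_apply, Submodule.Quotient.mk_eq_zero]
          exact ⟨_, rfl⟩)).comp (Submodule.Quotient.restrictScalarsEquiv B _).symm.toLinearMap
      refine isNoetherian_of_surjective (R := B) (f := T') (LinearMap.range_eq_top.2 fun z => ?_)
      obtain ⟨a, rfl⟩ := hT z
      exact ⟨Ideal.Quotient.mk _ a, rfl⟩
    refine Submodule.fg_of_fg_map_of_fg_inf_ker L.mkQ (IsNoetherian.noetherian _) ?_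
    rw [Submodule.ker_mkQ, inf_eq_right.2 (show L ≤ N' by rintro _ ⟨z, rfl⟩; exact hbN' z)]
    exact hL
  exact isNoetherian_of_annihilator (M := A ⧸ I) (P := (A ⧸ I) ⧸ N) hN.1

end Groth.Agent.CommAlg4.EakinNagata
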