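import Groth.Agent.CohCmpLib.Edge

/-!
The edge map `H¹(Y, f_* G) → H¹(X, G)` is injective.
-/

set_option autoImplicit false
set_option backward.isDefEq.respectTransparency false

universe u

open CategoryTheory CategoryTheory.Limits CategoryTheory.Abelian AlgebraicGeometry Opposite
  TopologicalSpace
open CohPull CohCmp
open Groth.Agent.Coherent Groth.Agent.CohCmpLib

namespace Groth.Agent.CommAlg4

variable {X Y : Scheme.{u}} (f : X ⟶ Y) [HasInjectiveResolutions X.Modules]

/-- The Leray edge map in degree one is injective. -/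
theorem injective_pushEdge_one (G : X.Modules) : Function.Injective (pushEdge f G 1) := by
  obtain ⟨S, hS, rfl, hI⟩ := exists_injective_shortExact G
  haveI : PreservesLimitsOfSize.{0, 0} (Scheme.Modules.pushforward f) :=
    (Scheme.Modules.pullbackPushforwardAdjunction f).rightAdjoint_preservesLimits
  have h' := (ShortComplex.exact_and_mono_f_iff_f_is_kernel
    (S.map (Scheme.Modules.pushforward f))).2
    ⟨KernelFork.mapIsLimit _ hS.fIsKernel (Scheme.Modules.pushforward f)⟩
  haveI := h'.2
  let u' := (Scheme.Modules.pushforward f).map S.f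
  haveI : Mono u' := h'.2
  let P : ShortComplex Y.Modules := ShortComplex.mk u' (cokernel.π u') (cokernel.condition u')
  have hP : P.ShortExact :=
    ShortComplex.ShortExact.mk (ShortComplex.exact_of_g_is_cokernel _ (cokernelIsCokernel _))
  have hzero : u' ≫ (Scheme.Modules.pushforward f).map S.g = 0 := (S.map (Scheme.Modules.pushforward f)).zero
  let c : P.X₃ ⟶ (Scheme.Modules.pushforward f).obj S.X₃ :=
    cokernel.desc u' ((Scheme.Modules.pushforward f).map S.g) hzero
  haveI : Mono c := h'.1.mono_cokernelDesc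
  have hcπ : cokernel.π u' ≫ c = (Scheme.Modules.pushforward f).map S.g := cokernel.π_desc _ _ _
  have hA := toAb_shortExact hS
  have hA' := toAb_shortExact hP
  -- the morphism of short exact sequences over `f`
  let τ : (inv f.base).obj ((toAbFunctor Y).obj P.X₃) ⟶ (toAbFunctor X).obj S.X₃ :=
    (inv f.base).map ((toAbFunctor Y).map c) ≫ (edgeNat f).app S.X₃
  let η : (P.map (toAbFunctor Y)).map (inv f.base) ⟶ S.map (toAbFunctor X) :=
    ShortComplex.homMk ((edgeNat f).app S.X₁) ((edgeNat f).app S.X₂) τ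
      ((edgeNat f).naturality S.f).symm (by
        show (edgeNat f).app S.X₂ ≫ (toAbFunctor X).map S.g =
          (inv f.base).map ((toAbFunctor Y).map (cokernel.π u')) ≫ τ
        rw [← Category.assoc, ← Functor.map_comp, ← Functor.map_comp, hcπ]
        exact ((edgeNat f).naturality S.g).symm)
  have hτ : ∀ z : Coh.HH Y P.X₃ 0, pushEdge f S.X₃ 0 (mapH c 0 z) =
      Sheaf.H.map τ 0 (pullAb f.base _ 0 z) := fun z => by
    rw [pushEdge_eq]
    refine (congrArg _ (pullAb_natural f.base _ 0 z)).trans ?_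
    exact (Sheaf.H.map_comp_apply ..).symm
  refine (injective_iff_map_eq_zero _).2 fun x hx => ?_
  obtain ⟨y, rfl⟩ := Ext.covariant_sequence_exact₁ _ hA' x
    (@Subsingleton.elim _ (subsingleton_HH_push_of_injective f S.X₂ 0) _ _) rfl
  have hδ : pushEdge f S.X₁ (0 + 1) (show Coh.HH Y ((Scheme.Modules.pushforward f).obj S.X₁) (0 + 1) from
        Ext.comp y hA'.extClass rfl) =
      (show Coh.HH X S.X₁ (0 + 1) from (pushEdge f S.X₃ 0 (mapH c 0 y)).comp hA.extClass rfl) :=
    delta_of_eq f.base hA' hA η 0 (fun z => pushEdge f S.X₃ 0 (mapH c 0 z))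
      (fun z => pushEdge f S.X₁ (0 + 1) z) hτ (fun z => pushEdge_eq f S.X₁ (0 + 1) z) y
  obtain ⟨w, hw⟩ := Ext.covariant_sequence_exact₃ _ hA (pushEdge f S.X₃ 0 (mapH c 0 y)) rfl
    (hδ.symm.trans hx)
  obtain ⟨v, rfl⟩ := (bijective_pushEdge_zero f S.X₂).2 w
  have hy : mapH c 0 y = mapH ((Scheme.Modules.pushforward f).map S.g) 0 v :=
    (bijective_pushEdge_zero f S.X₃).1 (hw.symm.trans (pushEdge_natural f S.g 0 v).symm)
  have hy2 : y = mapH P.g 0 v := by
    have hinj : Function.Injective (mapH c 0) := by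
      intro a b hab
      haveI : Mono ((toAbFunctor Y).map c) := (toAbFunctor Y).map_mono c
      obtain ⟨a, rfl⟩ := (Ext.mk₀_bijective _ _).2 a
      obtain ⟨b, rfl⟩ := (Ext.mk₀_bijective _ _).2 b
      simp only [mapH, Sheaf.H.map_apply, Ext.mk₀_comp_mk₀] at hab
      exact congrArg Ext.mk₀ ((cancel_mono ((toAbFunctor Y).map c)).1 ((Ext.mk₀_bijective _ _).1 hab))
    refine hinj (hy.trans ?_)
    show Sheaf.H.map _ 0 v = Sheaf.H.map _ 0 (Sheaf.H.map _ 0 v)
    rw [← Sheaf.H.map_comp_apply, ← Functor.map_comp]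
    rw [show P.g ≫ c = (Scheme.Modules.pushforward f).map S.g from hcπ]
  subst hy2
  exact (Ext.comp_assoc_of_second_deg_zero _ _ _ _).trans
    ((congrArg (fun t => Ext.comp v t rfl) hA'.comp_extClass).trans (Ext.comp_zero _ _ _ _ _))

end Groth.Agent.CommAlg4
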