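import Mathlib
import Groth.Agent.HenselLib.Lift

/-!
Elkik approximation along `A → Â` for a henselian pair `(A, (t))` with bounded `t`-power torsion.
-/

set_option autoImplicit false
set_option maxHeartbeats 1000000
set_option linter.unusedSectionVars false

noncomputable section

universe u v

namespace Groth.Agent.CommAlg4.Elkik

open MvPolynomial

/-- A smooth quotient of a polynomial ring has a retraction modulo the square of its kernel. -/
theorem exists_smooth_data {L : Type u} [CommRing L] {B : Type v} [CommRing B] [Algebra L B]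
    [Algebra.FormallySmooth L B] {n : ℕ} (π : MvPolynomial (Fin n) L →ₐ[L] B)
    (hπ : Function.Surjective π) :
    ∃ h : Fin n → MvPolynomial (Fin n) L, (∀ i, h i ∈ RingHom.ker π.toRingHom) ∧
      ∀ g ∈ RingHom.ker π.toRingHom, g - ∑ i, pderiv i g * h i ∈
        RingHom.ker π.toRingHom * RingHom.ker π.toRingHom := by
  set J : Ideal (MvPolynomial (Fin n) L) := RingHom.ker π.toRingHom with hJdef
  let p : MvPolynomial (Fin n) L ⧸ J ^ 2 →ₐ[L] B := Ideal.Quotient.liftₐ _ π fun a ha =>
    RingHom.mem_ker.mp (Ideal.pow_le_self two_ne_zero ha : a ∈ J)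
  have hp : Function.Surjective p := fun b => let ⟨a, ha⟩ := hπ b; ⟨Ideal.Quotient.mk _ a, ha⟩
  have hpnil : IsNilpotent (RingHom.ker (p : MvPolynomial (Fin n) L ⧸ J ^ 2 →+* B)) := by
    refine ⟨2, ?_⟩
    have hle : RingHom.ker (p : MvPolynomial (Fin n) L ⧸ J ^ 2 →+* B) ≤
        J.map (Ideal.Quotient.mk (J ^ 2)) := by
      intro y hy
      obtain ⟨a, rfl⟩ := Ideal.Quotient.mk_surjective y
      exact Ideal.mem_map_of_mem _ (show a ∈ J from hy)
    refine le_bot_iff.mp ?_
    rw [← Ideal.map_quotient_self (J ^ 2), Ideal.map_pow]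
    exact pow_le_pow_left' hle 2
  let sec : B →ₐ[L] MvPolynomial (Fin n) L ⧸ J ^ 2 :=
    Algebra.FormallySmooth.liftOfSurjective (AlgHom.id L B) p hp hpnil
  have hsec : ∀ b, p (sec b) = b := fun b =>
    Algebra.FormallySmooth.liftOfSurjective_apply (AlgHom.id L B) p hp hpnil b
  choose S hS using fun i : Fin n => Ideal.Quotient.mk_surjective (sec (π (X i)))
  let h : Fin n → MvPolynomial (Fin n) L := fun i => X i - S i
  have hhJ : ∀ i, h i ∈ J := fun i => by
    have h1 : π (S i) = π (X i) := by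
      have := hsec (π (X i)); rw [← hS] at this; exact this
    simp [J, h, h1]
  let φ : MvPolynomial (Fin n) L →ₐ[L] MvPolynomial (Fin n) L ⧸ J ^ 2 := sec.comp π
  have hsq : ∀ {x y : MvPolynomial (Fin n) L}, x ∈ J → y ∈ J →
      Ideal.Quotient.mk (J ^ 2) (x * y) = 0 := fun hx hy =>
    Ideal.Quotient.eq_zero_iff_mem.mpr (by rw [pow_two]; exact Ideal.mul_mem_mul hx hy)
  have hdiff : ∀ g, Ideal.Quotient.mk (J ^ 2) g - φ g =
      Ideal.Quotient.mk (J ^ 2) (∑ i, pderiv i g * h i) := by
    intro g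
    induction g using MvPolynomial.induction_on with
    | C a =>
        have h2 : φ (C a) = Ideal.Quotient.mk (J ^ 2) (C a) := φ.commutes a
        simp [h2]
    | add g g' hg hg' =>
        rw [map_add, map_add, add_sub_add_comm, hg, hg', ← map_add, ← Finset.sum_add_distrib]
        exact congrArg _ (Finset.sum_congr rfl fun i _ => by rw [map_add, add_mul])
    | mul_X g k hg =>
        have hX : φ (X k) = Ideal.Quotient.mk (J ^ 2) (X k - h k) := by
          show sec (π (X k)) = _
          rw [← hS k]; simp [h]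
        set D := ∑ i, pderiv i g * h i with hD
        have hDJ : D ∈ J := J.sum_mem fun i _ => J.mul_mem_left _ (hhJ i)
        have hφg : φ g = Ideal.Quotient.mk (J ^ 2) (g - D) := by
          rw [map_sub, ← hg]; ring
        have hsum : ∑ i, pderiv i (g * X k) * h i = D * X k + g * h k := by
          have hXsum : ∑ i, pderiv i (X k : MvPolynomial (Fin n) L) * h i = h k := by
            rw [Finset.sum_eq_single k (fun i _ hik => by simp [pderiv_X, hik.symm]) (by simp)]
            simp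
          simp only [pderiv_mul, add_mul, Finset.sum_add_distrib]
          rw [hD, Finset.sum_mul]
          congr 1
          · exact Finset.sum_congr rfl fun i _ => by ring
          · conv_rhs => rw [← hXsum]
            rw [Finset.mul_sum]
            exact Finset.sum_congr rfl fun i _ => by ring
        rw [map_mul φ, hφg, hX, hsum, ← map_mul, ← map_sub,
          show g * X k - (g - D) * (X k - h k) = D * X k + g * h k - D * h k by ring,
          map_sub, hsq hDJ (hhJ k), sub_zero]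
  refine ⟨h, hhJ, fun g hg => ?_⟩
  rw [← pow_two, ← Ideal.Quotient.eq_zero_iff_mem, map_sub, ← hdiff g]
  have : φ g = 0 := by show sec (π g) = 0; rw [show π g = 0 from hg, map_zero]
  rw [this, sub_zero, sub_self]

attribute [local instance] MvPolynomial.algebraMvPolynomial

variable {A : Type u} [CommRing A] {t : A} {n : ℕ}

/-- Integral presentation of the smoothness of the generic fibre. -/
theorem exists_integral_data {B : Type u} [CommRing B] [Algebra A B]
    (hsm : Algebra.Smooth (Localization.Away t)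
      (Localization (Algebra.algebraMapSubmonoid B (Submonoid.powers t))))
    (π : MvPolynomial (Fin n) A →ₐ[A] B) (hπ : Function.Surjective π) :
    ∃ (F : Ideal (MvPolynomial (Fin n) A)) (c : ℕ) (H : Fin n → MvPolynomial (Fin n) A),
      F.FG ∧ F ≤ RingHom.ker π.toRingHom ∧ (∀ j, H j ∈ F) ∧
      (∀ g ∈ RingHom.ker π.toRingHom, ∃ e, C (t ^ e) * g ∈ F) ∧
      ∀ f ∈ F, C (t ^ c) * f - ∑ i, pderiv i f * H i ∈ F * F := by
  classical
  let L := Localization.Away t
  let B' := Localization (Algebra.algebraMapSubmonoid B (Submonoid.powers t))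
  let μ : MvPolynomial (Fin n) A →+* MvPolynomial (Fin n) L := algebraMap _ _
  have hμ : ∀ p, μ p = MvPolynomial.map (algebraMap A L) p := fun p => rfl
  let M : Submonoid (MvPolynomial (Fin n) A) := (Submonoid.powers t).map C
  have hM : ∀ m ∈ M, ∃ e, m = C (t ^ e) := by
    rintro _ ⟨_, ⟨e, rfl⟩, rfl⟩; exact ⟨e, rfl⟩
  have hMu : ∀ e, IsUnit (μ (C (t ^ e))) := fun e =>
    IsLocalization.map_units (MvPolynomial (Fin n) L) (⟨C (t ^ e), t ^ e, ⟨e, rfl⟩, rfl⟩ : M)
  have hclear : ∀ (I : Ideal (MvPolynomial (Fin n) A)) z, μ z ∈ I.map μ → ∃ e, C (t ^ e) * z ∈ I := by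
    intro I z hz
    obtain ⟨m, hm, hmz⟩ := (IsLocalization.algebraMap_mem_map_algebraMap_iff M _ I z).mp hz
    obtain ⟨e, rfl⟩ := hM m hm
    exact ⟨e, hmz⟩
  have hsurj : ∀ P, ∃ e Q, P * μ (C (t ^ e)) = μ Q := by
    intro P
    obtain ⟨⟨Q, m, hm⟩, hQ⟩ := IsLocalization.surj M P
    obtain ⟨e, rfl⟩ := hM m hm
    exact ⟨e, Q, hQ⟩
  let π' : MvPolynomial (Fin n) L →ₐ[L] B' := aeval fun i => algebraMap B B' (π (X i))
  have hπμ : ∀ Q, π' (μ Q) = algebraMap B B' (π Q) := by
    intro Q
    have h1 : π'.toRingHom.comp μ = (algebraMap B B').comp π.toRingHom := by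
      apply MvPolynomial.ringHom_ext
      · intro a
        show π' (μ (C a)) = algebraMap B B' (π (C a))
        rw [hμ, map_C, show π (C a) = algebraMap A B a from π.commutes a,
          ← IsScalarTower.algebraMap_apply A B B']
        show aeval _ (C (algebraMap A L a)) = _
        rw [aeval_C, ← IsScalarTower.algebraMap_apply A L B']
      · intro i
        show π' (μ (X i)) = algebraMap B B' (π (X i))
        rw [hμ, map_X]
        exact aeval_X _ _
    exact RingHom.congr_fun h1 Q
  have hπ' : Function.Surjective π' := by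
    intro z
    obtain ⟨⟨b, _, _, ⟨e, rfl⟩, rfl⟩, hz⟩ :=
      IsLocalization.surj (Algebra.algebraMapSubmonoid B (Submonoid.powers t)) z
    obtain ⟨Q, rfl⟩ := hπ b
    obtain ⟨u, hu⟩ := (hMu e).exists_left_inv
    refine ⟨u * μ Q, ?_⟩
    have h1 : π' (μ (C (t ^ e))) = algebraMap B B' (algebraMap A B (t ^ e)) := by
      rw [hπμ]; exact congrArg _ (π.commutes _)
    rw [map_mul, hπμ, ← hz, show algebraMap B B' ((algebraMap A B) (t ^ e)) = π' (μ (C (t ^ e))) from h1.symm,
      mul_left_comm, ← map_mul, hu, map_one, mul_one]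
  set K := RingHom.ker π.toRingHom
  set J := RingHom.ker π'.toRingHom
  have hJ : J = K.map μ := by
    refine le_antisymm (fun P hP => ?_) (Ideal.map_le_iff_le_comap.mpr fun Q hQ => ?_)
    · obtain ⟨e, Q, hQ⟩ := hsurj P
      have h1 : algebraMap B B' (π Q) = 0 := by
        rw [← hπμ, ← hQ, map_mul, show π' P = 0 from hP, zero_mul]
      obtain ⟨⟨_, _, ⟨k, rfl⟩, rfl⟩, hk⟩ := (IsLocalization.map_eq_zero_iff
        (Algebra.algebraMapSubmonoid B (Submonoid.powers t)) B' _).mp h1
      have h2 : C (t ^ k) * Q ∈ K := by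
        show π (C (t ^ k) * Q) = 0
        rw [map_mul, show π (C (t ^ k)) = algebraMap A B (t ^ k) from π.commutes _]
        exact hk
      refine (Ideal.unit_mul_mem_iff_mem _ (hMu k)).mp
        ((Ideal.mul_unit_mem_iff_mem _ (hMu e)).mp ?_)
      rw [mul_assoc, hQ, ← map_mul]
      exact Ideal.mem_map_of_mem _ h2
    · show π' (μ Q) = 0
      rw [hπμ, show π Q = 0 from hQ, map_zero]
  have hJfg : J.FG := Algebra.FinitePresentation.ker_fG_of_surjective π' hπ'
  obtain ⟨S, hS⟩ := hJfg
  have hgen : ∀ P : S, ∃ Q ∈ K, ∃ e, (P : MvPolynomial (Fin n) L) * μ (C (t ^ e)) = μ Q := by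
    intro P
    have hP : (P : MvPolynomial (Fin n) L) ∈ K.map μ := hJ ▸ hS ▸ Submodule.subset_span P.2
    obtain ⟨⟨⟨Q, hQ⟩, m, hm⟩, hPQ⟩ := (IsLocalization.mem_map_algebraMap_iff M _).mp hP
    obtain ⟨e, rfl⟩ := hM m hm
    exact ⟨Q, hQ, e, hPQ⟩
  choose Qf hQK ef hQf using hgen
  set F : Ideal (MvPolynomial (Fin n) A) := Ideal.span (Set.range Qf) with hF
  have hFK : F ≤ K := Ideal.span_le.mpr (by rintro _ ⟨P, rfl⟩; exact hQK P)
  have hFJ : F.map μ = J := by
    refine le_antisymm (hJ ▸ Ideal.map_mono hFK) ?_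
    rw [← hS, Submodule.span_le]
    intro P hP
    refine (Ideal.mul_unit_mem_iff_mem _ (hMu (ef ⟨P, hP⟩))).mp ?_
    rw [hQf ⟨P, hP⟩]
    exact Ideal.mem_map_of_mem _ (Ideal.subset_span ⟨_, rfl⟩)
  have := hsm.formallySmooth
  obtain ⟨h, hh, hrel⟩ := exists_smooth_data π' hπ'
  have hH : ∀ j, ∃ f ∈ F, ∃ e, h j * μ (C (t ^ e)) = μ f := by
    intro j
    have hj : h j ∈ F.map μ := hFJ ▸ hh j
    obtain ⟨⟨⟨f, hf⟩, m, hm⟩, hfj⟩ := (IsLocalization.mem_map_algebraMap_iff M _).mp hj
    obtain ⟨e, rfl⟩ := hM m hm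
    exact ⟨f, hf, e, hfj⟩
  choose f₀ hf₀ e₀ he₀ using hH
  let c₀ := ∑ j, e₀ j
  let H₀ : Fin n → MvPolynomial (Fin n) A := fun j => C (t ^ (c₀ - e₀ j)) * f₀ j
  have hH₀ : ∀ j, μ (H₀ j) = μ (C (t ^ c₀)) * h j := fun j => by
    have hle : e₀ j ≤ c₀ := Finset.single_le_sum (fun i _ => Nat.zero_le (e₀ i)) (Finset.mem_univ j)
    rw [show H₀ j = C (t ^ (c₀ - e₀ j)) * f₀ j from rfl, map_mul, ← he₀, mul_comm (h j),
      ← mul_assoc, ← map_mul, ← map_mul, ← pow_add, Nat.sub_add_cancel hle]
  have hkey : ∀ P : S, ∃ e, C (t ^ e) *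
      (C (t ^ c₀) * Qf P - ∑ i, pderiv i (Qf P) * H₀ i) ∈ F * F := by
    intro P
    refine hclear _ _ ?_
    rw [Ideal.map_mul, hFJ]
    have hq : μ (Qf P) ∈ J := hFJ ▸ Ideal.mem_map_of_mem _ (Ideal.subset_span ⟨_, rfl⟩)
    have h1 := Ideal.mul_mem_left _ (μ (C (t ^ c₀))) (hrel _ hq)
    rw [mul_sub, Finset.mul_sum] at h1
    rw [map_sub, map_mul, map_sum]
    convert h1 using 2
    refine Finset.sum_congr rfl fun i _ => ?_
    rw [map_mul, hH₀, hμ (pderiv i (Qf P)), hμ (Qf P), ← pderiv_map]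
    ring
  choose ek hek using hkey
  let E := ∑ P, ek P
  refine ⟨F, c₀ + E, fun j => C (t ^ E) * H₀ j, ⟨Finset.univ.image Qf, by simp [hF]⟩, hFK,
    fun j => Ideal.mul_mem_left _ _ (Ideal.mul_mem_left _ _ (hf₀ j)), fun g hg => ?_, fun f hf => ?_⟩
  · refine hclear _ _ ?_
    rw [hFJ, hJ]
    exact Ideal.mem_map_of_mem _ hg
  induction hf using Submodule.span_induction with
  | mem f hf =>
    obtain ⟨P, rfl⟩ := hf
    have hle : ek P ≤ E := Finset.single_le_sum (fun i _ => Nat.zero_le (ek i)) (Finset.mem_univ P)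
    have h1 := Ideal.mul_mem_left _ (C (t ^ (E - ek P))) (hek P)
    rw [← mul_assoc, ← map_mul, ← pow_add, Nat.sub_add_cancel hle, mul_sub, ← mul_assoc, ← map_mul,
      ← pow_add, Finset.mul_sum, add_comm E c₀] at h1
    convert h1 using 2
    exact Finset.sum_congr rfl fun i _ => by ring
  | zero => simp
  | add x y _ _ hx hy =>
    have e : C (t ^ (c₀ + E)) * (x + y) - ∑ i, pderiv i (x + y) * (C (t ^ E) * H₀ i) =
        (C (t ^ (c₀ + E)) * x - ∑ i, pderiv i x * (C (t ^ E) * H₀ i)) +
        (C (t ^ (c₀ + E)) * y - ∑ i, pderiv i y * (C (t ^ E) * H₀ i)) := by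
      simp only [map_add, add_mul, Finset.sum_add_distrib]; ring
    rw [e]; exact add_mem hx hy
  | smul r x hx' hx =>
    have e : C (t ^ (c₀ + E)) * (r * x) - ∑ i, pderiv i (r * x) * (C (t ^ E) * H₀ i) =
        r * (C (t ^ (c₀ + E)) * x - ∑ i, pderiv i x * (C (t ^ E) * H₀ i)) -
        x * ∑ i, pderiv i r * (C (t ^ E) * H₀ i) := by
      simp only [pderiv_mul, add_mul, Finset.sum_add_distrib, mul_sub, Finset.mul_sum]
      have e1 : ∑ i, pderiv i r * x * (C (t ^ E) * H₀ i) = ∑ i, x * (pderiv i r * (C (t ^ E) * H₀ i)) :=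
        Finset.sum_congr rfl fun i _ => by ring
      have e2 : ∑ i, r * pderiv i x * (C (t ^ E) * H₀ i) = ∑ i, r * (pderiv i x * (C (t ^ E) * H₀ i)) :=
        Finset.sum_congr rfl fun i _ => by ring
      rw [e1, e2]; ring
    rw [smul_eq_mul, e]
    refine sub_mem (Ideal.mul_mem_left _ _ hx) (Ideal.mul_mem_mul hx' (Ideal.sum_mem _ fun i _ => ?_))
    exact Ideal.mul_mem_left _ _ (Ideal.mul_mem_left _ _ (Ideal.mul_mem_left _ _ (hf₀ i)))

/-- Taylor expansion to first order, with a scaled variable. -/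
theorem exists_taylor (a : Fin n → A) (s : A) (P : MvPolynomial (Fin n) A) :
    ∃ R : MvPolynomial (Fin n) A, aeval (fun i => C (a i) + C s * X i) P =
      C (eval a P) + C s * ∑ k, C (eval a (pderiv k P)) * X k + C (s * s) * R := by
  induction P using MvPolynomial.induction_on with
  | C b => exact ⟨0, by simp⟩
  | add p q hp hq =>
    obtain ⟨R, hR⟩ := hp
    obtain ⟨R', hR'⟩ := hq
    refine ⟨R + R', ?_⟩
    rw [map_add (aeval fun i => C (a i) + C s * X i), hR, hR']
    simp only [map_add, add_mul, Finset.sum_add_distrib]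
    ring
  | mul_X p i hp =>
    obtain ⟨R, hR⟩ := hp
    refine ⟨(∑ k, C (eval a (pderiv k p)) * X k) * X i + R * (C (a i) + C s * X i), ?_⟩
    rw [map_mul (aeval fun i => C (a i) + C s * X i), hR, aeval_X]
    have hsum : ∑ k, C (eval a (pderiv k (p * X i))) * X k =
        (∑ k, C (eval a (pderiv k p)) * X k) * C (a i) + C (eval a p) * X i := by
      have h1 : ∀ k, C (eval a (pderiv k (p * X i))) * X k =
          C (eval a (pderiv k p)) * X k * C (a i) +
            (if i = k then C (eval a p) * X k else 0) := fun k => by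
        rw [pderiv_mul, map_add, map_mul, map_mul, eval_X, pderiv_X]
        rcases eq_or_ne i k with rfl | hik
        · simp only [Pi.single_eq_same, if_true, map_one, mul_one, map_add, map_mul]; ring
        · simp only [Pi.single_eq_of_ne hik, if_neg hik, map_zero, mul_zero, add_zero, map_mul]
          ring
      simp only [h1, Finset.sum_add_distrib, Finset.sum_mul, Finset.sum_ite_eq, Finset.mem_univ,
        if_true]
    rw [hsum, map_mul (eval a), eval_X, map_mul (C : A →+* MvPolynomial (Fin n) A),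
      map_mul (C : A →+* MvPolynomial (Fin n) A)]
    ring

/-- Scaled Newton iteration. -/
theorem exists_zero_near [HenselianRing A (Ideal.span {t})] (N : ℕ)
    (hN : ∀ a : A, (∃ m : ℕ, t ^ m * a = 0) → t ^ N * a = 0)
    (F : Ideal (MvPolynomial (Fin n) A)) (hFG : F.FG) (c q : ℕ) (hqc : c < q) (hqN : N ≤ q)
    (H : Fin n → MvPolynomial (Fin n) A) (hH : ∀ j, H j ∈ F)
    (hrel : ∀ f ∈ F, C (t ^ c) * f - ∑ i, pderiv i f * H i ∈ F * F)
    (a₀ : Fin n → A) (ha₀ : ∀ f ∈ F, t ^ (4 * c + q + 1) ∣ eval a₀ f) :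
    ∃ a : Fin n → A, (∀ j, t ^ q ∣ a j - a₀ j) ∧ ∀ f ∈ F, eval a f = 0 := by
  classical
  let δ : Fin n → Fin n → A := fun j i => if j = i then 1 else 0
  let w : Fin n → MvPolynomial (Fin n) A := fun i => X i - C (a₀ i)
  let G : Fin n → MvPolynomial (Fin n) A := fun j =>
    ∑ i, (pderiv i (H j) * H i + C (t ^ c) * (C (t ^ c * δ j i) - pderiv i (H j)) * w i)
  have hidem : ∀ j k, ∑ i, pderiv i (H j) * pderiv k (H i) - C (t ^ c) * pderiv k (H j) ∈ F := by
    intro j k
    have h1 := Groth.Agent.HenselLib.pderiv_mem_of_mem_sq k (hrel _ (hH j))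
    rw [map_sub, map_sum, pderiv_C_mul] at h1
    have h2 : ∑ i, pderiv k (pderiv i (H j) * H i) =
        (∑ i, pderiv k (pderiv i (H j)) * H i) + ∑ i, pderiv i (H j) * pderiv k (H i) := by
      rw [← Finset.sum_add_distrib]
      exact Finset.sum_congr rfl fun i _ => by rw [pderiv_mul]
    rw [h2] at h1
    have h3 := F.sum_mem (t := Finset.univ) fun i _ =>
      F.mul_mem_left (pderiv k (pderiv i (H j))) (hH i)
    have h4 := F.neg_mem (F.add_mem h1 h3)
    convert h4 using 1
    ring
  have hw0 : ∀ i, eval a₀ (w i) = 0 := fun i => by simp [w]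
  have hG0 : ∀ j, t ^ (4 * c + q + 1) ∣ eval a₀ (G j) := fun j => by
    simp only [G, map_sum, map_add, map_mul, hw0, mul_zero, add_zero]
    exact Finset.dvd_sum fun i _ => dvd_mul_of_dvd_right (ha₀ _ (hH i)) _
  have hG1 : ∀ j k, t ^ (4 * c + q + 1) ∣
      eval a₀ (pderiv k (G j)) - t ^ (2 * c) * δ j k := by
    intro j k
    have hwk : ∀ i, pderiv k (w i) = if i = k then 1 else 0 := by
      intro i
      simp only [w, map_sub, pderiv_C, sub_zero, pderiv_X]
      by_cases hik : i = k <;> simp [hik]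
    have h0 : eval a₀ (pderiv k (G j)) =
        (∑ i, eval a₀ (pderiv k (pderiv i (H j))) * eval a₀ (H i)) +
          eval a₀ (∑ i, pderiv i (H j) * pderiv k (H i) - C (t ^ c) * pderiv k (H j)) +
          t ^ (2 * c) * δ j k := by
      simp only [G, map_sum, map_add, pderiv_mul, map_mul, hw0, mul_zero, zero_add, hwk,
        apply_ite (eval a₀), map_one, map_zero, mul_ite, mul_one, map_sub, eval_C,
        Finset.sum_add_distrib, Finset.sum_ite_eq', Finset.mem_univ, if_true, Finset.sum_const_zero, add_zero]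
      ring
    rw [h0, add_sub_cancel_right]
    exact dvd_add (Finset.dvd_sum fun i _ => dvd_mul_of_dvd_right (ha₀ _ (hH i)) _)
      (ha₀ _ (hidem j k))
  choose γ hγ using hG0
  choose β hβ using hG1
  set r := 2 * c + q with hr
  choose R hR using fun j => exists_taylor a₀ (t ^ r) (G j)
  let G' : Fin n → MvPolynomial (Fin n) A := fun j => C (t * γ j) + X j +
    C (t ^ (r + 1)) * ∑ k, C (β j k) * X k + C (t ^ q) * R j
  have hG' : ∀ j, aeval (fun i => C (a₀ i) + C (t ^ r) * X i) (G j) = C (t ^ (2 * c + r)) * G' j := by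
    intro j
    have h1 : ∑ k, C (eval a₀ (pderiv k (G j))) * X k =
        C (t ^ (4 * c + q + 1)) * ∑ k, C (β j k) * X k + C (t ^ (2 * c)) * X j := by
      have h2 : ∀ k, C (eval a₀ (pderiv k (G j))) * X k = C (t ^ (4 * c + q + 1)) * (C (β j k) * X k)
          + (if j = k then C (t ^ (2 * c)) * X k else 0) := fun k => by
        rw [eq_add_of_sub_eq (hβ j k)]
        simp only [δ]
        split_ifs with hjk <;> simp only [map_add, map_mul, map_one, map_zero, mul_one, mul_zero,
          add_zero] <;> ring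
      simp only [h2, Finset.sum_add_distrib, ← Finset.mul_sum, Finset.sum_ite_eq, Finset.mem_univ,
        if_true]
    rw [hR, hγ, h1]
    simp only [G', map_mul, map_pow, hr]
    ring
  have hρt : Ideal.Quotient.mk (Ideal.span {t}) t = 0 := Ideal.Quotient.mk_singleton_self t
  obtain ⟨y, hy, -⟩ := Groth.Agent.HenselLib.exists_root_system (Ideal.span {t}) G' 0 (fun j => by
    rw [← Ideal.Quotient.eq_zero_iff_mem]
    simp [G', hρt, zero_pow (show r + 1 ≠ 0 by lia), zero_pow (show q ≠ 0 by lia)]) (by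
    rw [RingHom.map_det]
    have : (Ideal.Quotient.mk (Ideal.span {t})).mapMatrix (Matrix.of fun i j =>
        eval 0 (pderiv j (G' i))) = 1 := by
      ext i j
      simp [G', Matrix.one_apply, hρt, zero_pow (show r + 1 ≠ 0 by lia),
        zero_pow (show q ≠ 0 by lia), pderiv_X, Pi.single_apply, apply_ite (eval (0 : Fin n → A)),
        apply_ite (Ideal.Quotient.mk (Ideal.span {t}))]
    rw [this, Matrix.det_one]; exact isUnit_one)
  let a : Fin n → A := fun i => a₀ i + t ^ r * y i
  have hevG : ∀ j, eval a (G j) = 0 := by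
    intro j
    have h1 : (aeval y : MvPolynomial (Fin n) A →ₐ[A] A).comp
        (aeval fun i => C (a₀ i) + C (t ^ r) * X i) = aeval a :=
      MvPolynomial.algHom_ext fun i => by simp [a]
    have h2 := congr($h1 (G j))
    rw [AlgHom.comp_apply, hG'] at h2
    simp only [aeval_eq_eval, map_mul, hy, mul_zero] at h2
    exact h2.symm
  set I := Ideal.span {t ^ r} * F.map (eval a) with hI
  have hle : F.map (eval a) ≤ Ideal.span {t ^ r} := by
    refine Ideal.map_le_iff_le_comap.mpr fun f hf => ?_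
    rw [Ideal.mem_comap, ← Ideal.Quotient.eq_zero_iff_mem]
    have h1 : (Ideal.Quotient.mkₐ A (Ideal.span {t ^ r})).comp (aeval a) =
        (Ideal.Quotient.mkₐ A (Ideal.span {t ^ r})).comp (aeval a₀) :=
      MvPolynomial.algHom_ext fun i => by simp [a, Ideal.Quotient.mk_singleton_self]
    have h2 := congr($h1 f)
    simp only [AlgHom.comp_apply, aeval_eq_eval, Ideal.Quotient.mkₐ_eq_mk] at h2
    rw [h2, Ideal.Quotient.eq_zero_iff_mem, Ideal.mem_span_singleton]
    exact (pow_dvd_pow t (by lia)).trans (ha₀ f hf)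
  have hmemF : ∀ {f}, f ∈ F → eval a f ∈ F.map (eval a) := fun hf => Ideal.mem_map_of_mem _ hf
  have hsqI : ∀ g ∈ F * F, eval a g ∈ I := fun g hg => by
    have h1 : eval a g ∈ (F * F).map (eval a) := Ideal.mem_map_of_mem _ hg
    rw [Ideal.map_mul] at h1
    exact Ideal.mul_mono_left hle h1
  -- the linear algebra
  let T : Fin n → Fin n → A := fun j i => eval a (pderiv i (H j))
  let v : Fin n → A := fun i => eval a (H i)
  let W : Fin n → A := fun i => t ^ r * y i
  let U : Fin n → A := fun i => t ^ c * W i - ∑ k, T i k * W k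
  have e1 : ∀ j, t ^ c * v j - ∑ i, T j i * v i ∈ I := fun j => by
    have h1 := hsqI _ (hrel _ (hH j))
    simpa [T, v] using h1
  have e2 : ∀ j, ∑ i, T j i * v i = -(t ^ c * U j) := fun j => by
    have h1 := hevG j
    have hw : ∀ i, eval a (w i) = W i := fun i => by simp [w, a, W]
    simp only [G, map_sum, map_add, map_mul, map_sub, eval_C, hw] at h1
    rw [Finset.sum_add_distrib] at h1
    have h2 : ∑ i, t ^ c * (t ^ c * δ j i - T j i) * W i = t ^ c * U j := by
      simp only [mul_assoc, ← Finset.mul_sum, U, sub_mul, Finset.sum_sub_distrib, δ]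
      simp
    rw [h2] at h1
    exact eq_neg_of_add_eq_zero_left h1
  have e3 : ∀ j k, (∑ i, T j i * T i k - t ^ c * T j k) * W k ∈ I := fun j k => by
    rw [mul_comm _ (W k), hI]
    refine Ideal.mul_mem_mul (Ideal.mul_mem_right _ _ (Ideal.mem_span_singleton_self _)) ?_
    simpa [T] using hmemF (hidem j k)
  have hv : ∀ j, t ^ (2 * c) * v j ∈ I := fun j => by
    have h1 : ∑ i, T j i * U i = -∑ k, (∑ i, T j i * T i k - t ^ c * T j k) * W k := by
      simp only [U, mul_sub, Finset.sum_sub_distrib, sub_mul, Finset.mul_sum, Finset.sum_mul]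
      rw [Finset.sum_comm]
      rw [neg_sub]
      congr 1
      · exact Finset.sum_congr rfl fun i _ => by ring
      · exact Finset.sum_congr rfl fun i _ => Finset.sum_congr rfl fun k _ => by ring
    have h2 : t ^ (2 * c) * v j = t ^ c * (t ^ c * v j - ∑ i, T j i * v i) +
        ∑ i, T j i * (t ^ c * v i - ∑ k, T i k * v k) +
        t ^ c * ∑ k, (∑ i, T j i * T i k - t ^ c * T j k) * W k := by
      rw [eq_neg_iff_add_eq_zero] at h1
      simp only [mul_sub, Finset.sum_sub_distrib]
      have h3 : ∑ i, T j i * ∑ k, T i k * v k = -(t ^ c * ∑ i, T j i * U i) := by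
        rw [Finset.mul_sum, ← Finset.sum_neg_distrib]
        exact Finset.sum_congr rfl fun i _ => by rw [e2]; ring
      have h4 : ∑ i, T j i * (t ^ c * v i) = t ^ c * ∑ i, T j i * v i := by
        rw [Finset.mul_sum]; exact Finset.sum_congr rfl fun i _ => by ring
      rw [h3, h4]
      linear_combination (-(t ^ c)) * h1
    rw [h2]
    exact add_mem (add_mem (Ideal.mul_mem_left _ _ (e1 j))
      (Ideal.sum_mem _ fun i _ => Ideal.mul_mem_left _ _ (e1 i)))
      (Ideal.mul_mem_left _ _ (Ideal.sum_mem _ fun k _ => e3 j k))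
  set K := Ideal.span {t ^ (3 * c)} * F.map (eval a) with hK
  have hKle : K ≤ Ideal.span {t ^ (r - 3 * c)} * K := by
    rw [hK, ← mul_assoc, Ideal.span_singleton_mul_span_singleton, ← pow_add,
      Nat.sub_add_cancel (by lia)]
    rw [← hK, ← hI, hK, Ideal.mul_le]
    intro x hx z hz
    obtain ⟨x', rfl⟩ := Ideal.mem_span_singleton.mp hx
    suffices h : F.map (eval a) ≤ Submodule.comap (LinearMap.mulLeft A (t ^ (3 * c))) I by
      rw [mul_right_comm]
      exact Ideal.mul_mem_right _ _ (h hz)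
    refine Ideal.map_le_iff_le_comap.mpr fun f hf => ?_
    show t ^ (3 * c) * eval a f ∈ I
    have h1 := hsqI _ (hrel f hf)
    simp only [map_sub, map_sum, map_mul, eval_C] at h1
    rw [show t ^ (3 * c) * eval a f = t ^ (2 * c) *
        (t ^ c * eval a f - ∑ i, eval a (pderiv i f) * v i) +
        ∑ i, eval a (pderiv i f) * (t ^ (2 * c) * v i) by
      rw [mul_sub, Finset.mul_sum, show ∑ i, eval a (pderiv i f) * (t ^ (2 * c) * v i) =
        ∑ i, t ^ (2 * c) * (eval a (pderiv i f) * v i) from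
          Finset.sum_congr rfl fun i _ => by ring]
      ring]
    exact add_mem (Ideal.mul_mem_left _ _ h1) (Ideal.sum_mem _ fun i _ => Ideal.mul_mem_left _ _ (hv i))
  have hK0 : K = ⊥ := by
    refine Submodule.eq_bot_of_le_smul_of_le_jacobson_bot _ K
      (Submodule.FG.mul (Submodule.fg_span_singleton _) (hFG.map _))
      (by rw [smul_eq_mul]; exact hKle) ?_
    refine le_trans ?_ (HenselianRing.jac (R := A) (I := Ideal.span {t}))
    rw [Ideal.span_singleton_le_span_singleton]
    exact dvd_pow_self t (by lia)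
  refine ⟨a, fun j => ⟨t ^ (2 * c) * y j, by simp only [a, hr, pow_add]; ring⟩, fun f hf => ?_⟩
  have h1 : t ^ (3 * c) * eval a f = 0 := by
    have : t ^ (3 * c) * eval a f ∈ K :=
      Ideal.mul_mem_mul (Ideal.mem_span_singleton_self _) (hmemF hf)
    rwa [hK0, Ideal.mem_bot] at this
  obtain ⟨z, hz⟩ := Ideal.mem_span_singleton.mp (hle (hmemF hf))
  have h2 : t ^ N * z = 0 := hN z ⟨3 * c + r, by rw [pow_add, mul_assoc, ← hz, h1]⟩
  rw [hz, ← Nat.sub_add_cancel (show N ≤ r by lia), pow_add, mul_assoc, h2, mul_zero]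

/-- Elkik approximation. -/
theorem exists_algHom_congr [HenselianRing A (Ideal.span {t})]
    (hbd : ∃ N : ℕ, ∀ a : A, (∃ m : ℕ, t ^ m * a = 0) → t ^ N * a = 0)
    (B : Type u) [CommRing B] [Algebra A B] [Algebra.FiniteType A B]
    (hsm : Algebra.Smooth (Localization.Away t)
      (Localization (Algebra.algebraMapSubmonoid B (Submonoid.powers t))))
    (n₀ : ℕ) (σ : B →ₐ[A] AdicCompletion (Ideal.span {t}) A) :
    ∃ τ : B →ₐ[A] A,
      (Ideal.Quotient.mkₐ A (Ideal.span {t} ^ n₀)).comp τ =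
        (AdicCompletion.evalₐ (Ideal.span {t}) n₀).comp σ := by
  classical
  obtain ⟨N, hN⟩ := hbd
  obtain ⟨n, π, hπ⟩ := Algebra.FiniteType.iff_quotient_mvPolynomial''.mp ‹Algebra.FiniteType A B›
  obtain ⟨F, c, H, hFG, hFK, hH, hKF, hrel⟩ := exists_integral_data hsm π hπ
  set q := c + 1 + N + n₀ with hq
  set M := 4 * c + q + 1 with hM
  choose s hs using fun i => AdicCompletion.mk_surjective (Ideal.span {t}) A (σ (π (X i)))
  let a₀ : Fin n → A := fun i => (s i).val M
  have hev : ∀ m ≤ M, ∀ g, AdicCompletion.evalₐ (Ideal.span {t}) m (σ (π g)) =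
      Ideal.Quotient.mk _ (eval a₀ g) := by
    intro m hm g
    have h1 : ((AdicCompletion.evalₐ (Ideal.span {t}) m).comp σ).comp π =
        (Ideal.Quotient.mkₐ A (Ideal.span {t} ^ m)).comp (aeval a₀) :=
      MvPolynomial.algHom_ext fun i => by
        simp only [AlgHom.comp_apply, aeval_X, ← hs, AdicCompletion.evalₐ_mk, Ideal.Quotient.mkₐ_eq_mk]
        have h2 := (s i).property hm
        rw [SModEq.sub_mem, smul_eq_mul, Ideal.mul_top] at h2
        exact Ideal.Quotient.eq.mpr h2
    simpa [aeval_eq_eval] using congr($h1 g)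
  have hK0 : ∀ g ∈ RingHom.ker π.toRingHom, t ^ M ∣ eval a₀ g := fun g hg => by
    rw [← Ideal.mem_span_singleton, ← Ideal.span_singleton_pow, ← Ideal.Quotient.eq_zero_iff_mem,
      ← hev M le_rfl, show π g = 0 from hg, map_zero, map_zero]
  obtain ⟨a, haq, haF⟩ := exists_zero_near N hN F hFG c q (by lia) (by lia) H hH hrel a₀
    fun f hf => hK0 f (hFK hf)
  have hcongr : ∀ g, t ^ q ∣ eval a g - eval a₀ g := fun g => by
    rw [← Ideal.mem_span_singleton, ← Ideal.Quotient.eq_zero_iff_mem, map_sub, sub_eq_zero]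
    have h1 : (Ideal.Quotient.mkₐ A (Ideal.span {t ^ q})).comp (aeval a) =
        (Ideal.Quotient.mkₐ A (Ideal.span {t ^ q})).comp (aeval a₀) :=
      MvPolynomial.algHom_ext fun i => by
        simpa using Ideal.Quotient.eq.mpr (Ideal.mem_span_singleton.mpr (haq i))
    simpa [aeval_eq_eval] using congr($h1 g)
  have hker : ∀ g ∈ RingHom.ker π.toRingHom, aeval a g = 0 := fun g hg => by
    show aeval a g = (0 : A)
    rw [aeval_eq_eval]
    obtain ⟨e, he⟩ := hKF g hg
    have h1 : t ^ e * eval a g = 0 := by simpa using haF _ he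
    obtain ⟨z, hz⟩ : t ^ q ∣ eval a g := by
      have h2 := dvd_add (hcongr g) ((pow_dvd_pow t (show q ≤ M by lia)).trans (hK0 g hg))
      rwa [sub_add_cancel] at h2
    have h2 : t ^ N * z = 0 := hN z ⟨e + q, by rw [pow_add, mul_assoc, ← hz, h1]⟩
    rw [hz, ← Nat.sub_add_cancel (show N ≤ q by lia), pow_add, mul_assoc, h2, mul_zero]
  let e : (MvPolynomial (Fin n) A ⧸ RingHom.ker π) ≃ₐ[A] B :=
    Ideal.quotientKerAlgEquivOfSurjective hπ
  let τ : B →ₐ[A] A := (Ideal.Quotient.liftₐ _ (aeval a) hker).comp e.symm.toAlgHom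
  refine ⟨τ, AlgHom.ext fun b => ?_⟩
  obtain ⟨g, rfl⟩ := hπ b
  have he : e.symm (π g) = Ideal.Quotient.mk _ g := by rw [AlgEquiv.symm_apply_eq]; rfl
  show Ideal.Quotient.mk (Ideal.span {t} ^ n₀) (τ (π g)) =
    AdicCompletion.evalₐ (Ideal.span {t}) n₀ (σ (π g))
  rw [hev n₀ (by lia), show τ (π g) = Ideal.Quotient.liftₐ _ (aeval a) hker (e.symm (π g)) from rfl,
    he]
  show Ideal.Quotient.mk _ (aeval a g) = _
  rw [aeval_eq_eval, Ideal.Quotient.eq, Ideal.span_singleton_pow, Ideal.mem_span_singleton]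
  exact (pow_dvd_pow t (by lia)).trans (hcongr g)

end Groth.Agent.CommAlg4.Elkik
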