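import Mathlib
import Groth.Agent.HenselLib.Lift
import Groth.Agent.HenselLib.Idem
import Groth.Agent.HenselLib.SectionsLift

/-!
# Equivariant sections of smooth algebras over henselian local rings
-/

set_option autoImplicit false
set_option linter.all false

universe u

open IsLocalRing

namespace Groth.Agent.CommAlg4.EquivSection

variable {A : Type u} [CommRing A]

/-- First order expansion of the difference of two values. -/
theorem eval_sub_eval_mem {m : ℕ} (I K : Ideal A) (a₀ a a' : Fin m → A) (ha : ∀ i, a i - a₀ i ∈ I)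
    (ha' : ∀ i, a' i - a₀ i ∈ I) (hK : ∀ i, a i - a' i ∈ K) (g : MvPolynomial (Fin m) A) :
    MvPolynomial.eval a g - MvPolynomial.eval a' g -
      ∑ i, MvPolynomial.eval a₀ (MvPolynomial.pderiv i g) * (a i - a' i) ∈ I * K := by
  classical
  have hI : ∀ (b : Fin m → A), (∀ i, b i - a₀ i ∈ I) → ∀ p : MvPolynomial (Fin m) A,
      MvPolynomial.eval b p - MvPolynomial.eval a₀ p ∈ I := by
    intro b hb p
    rw [← Ideal.Quotient.eq_zero_iff_mem, map_sub, sub_eq_zero]
    have h : (Ideal.Quotient.mk I).comp (MvPolynomial.eval b) = (Ideal.Quotient.mk I).comp (MvPolynomial.eval a₀) :=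
      MvPolynomial.ringHom_ext (fun c => by simp) fun i => by
        simpa using (Ideal.Quotient.mk_eq_mk_iff_sub_mem _ _).2 (hb i)
    exact RingHom.congr_fun h p
  induction g using MvPolynomial.induction_on with
  | C c => simp
  | add p p' hp hp' =>
    convert add_mem hp hp' using 1
    simp only [map_add, add_mul, Finset.sum_add_distrib]
    ring
  | mul_X p k hp =>
    have hs : ∑ i, MvPolynomial.eval a₀ (MvPolynomial.pderiv i (p * MvPolynomial.X k)) * (a i - a' i) =
        a₀ k * (∑ i, MvPolynomial.eval a₀ (MvPolynomial.pderiv i p) * (a i - a' i)) +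
          MvPolynomial.eval a₀ p * (a k - a' k) := by
      simp only [MvPolynomial.pderiv_mul, map_add, map_mul, MvPolynomial.eval_X, add_mul, Finset.sum_add_distrib]
      congr 1
      · rw [Finset.mul_sum]; exact Finset.sum_congr rfl fun i _ => by ring
      · rw [Finset.sum_eq_single k (fun i _ hik => by simp [MvPolynomial.pderiv_X_of_ne hik.symm]) (by simp)]
        simp
    rw [map_mul, map_mul, MvPolynomial.eval_X, MvPolynomial.eval_X, hs]
    set P := MvPolynomial.eval a p
    set P' := MvPolynomial.eval a' p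
    set P₀ := MvPolynomial.eval a₀ p
    set S := ∑ i, MvPolynomial.eval a₀ (MvPolynomial.pderiv i p) * (a i - a' i)
    have hPK : P - P' ∈ K := by
      have h1 : S ∈ K := Ideal.sum_mem _ fun i _ => K.mul_mem_left _ (hK i)
      have h2 : P - P' - S ∈ K := Ideal.mul_le_right hp
      have := add_mem h2 h1
      simpa using this
    rw [show P * a k - P' * a' k - (a₀ k * S + P₀ * (a k - a' k)) =
      a₀ k * (P - P' - S) + (a' k - a₀ k) * (P - P') + (P - P₀) * (a k - a' k) by ring]
    exact add_mem (add_mem (Ideal.mul_mem_left _ _ hp) (Ideal.mul_mem_mul (ha' k) hPK))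
      (Ideal.mul_mem_mul (hI a ha p) (hK k))

/-- A square system with unit determinant modulo the maximal ideal has only the zero solution. -/
theorem mem_of_det {m : ℕ} (M : Matrix (Fin m) (Fin m) A) (hM : IsUnit M.det) (v : Fin m → A) (J : Ideal A)
    (h : ∀ i, ∑ j, M i j * v j ∈ J) (j : Fin m) : v j ∈ J := by
  classical
  have h1 : M⁻¹.mulVec (M.mulVec v) = v := by
    rw [Matrix.mulVec_mulVec, Matrix.nonsing_inv_mul _ hM, Matrix.one_mulVec]
  rw [← h1]
  show ∑ i, M⁻¹ j i * ∑ l, M i l * v l ∈ J
  exact J.sum_mem fun i _ => J.mul_mem_left _ (h i)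

/-- A presentation with a splitting of the conormal map. -/
theorem exists_presentation {B : Type u} [CommRing B] [Algebra A B] [Algebra.Smooth A B] :
    ∃ (m : ℕ) (π : MvPolynomial (Fin m) A →ₐ[A] B), Function.Surjective π ∧ (RingHom.ker π).FG ∧
      ∃ h : Fin m → MvPolynomial (Fin m) A, (∀ i, h i ∈ RingHom.ker π) ∧
        ∀ g ∈ RingHom.ker π, g - ∑ i, MvPolynomial.pderiv i g * h i ∈ RingHom.ker π * RingHom.ker π := by
  classical
  obtain ⟨n, π, hπ, hfg⟩ := Algebra.FinitePresentation.out (R := A) (A := B)
  refine ⟨n, π, hπ, hfg, ?_⟩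
  set J : Ideal (MvPolynomial (Fin n) A) := RingHom.ker π with hJdef
  let p : MvPolynomial (Fin n) A ⧸ J ^ 2 →ₐ[A] B := Ideal.Quotient.liftₐ _ π fun a ha =>
    RingHom.mem_ker.mp (Ideal.pow_le_self two_ne_zero ha : a ∈ J)
  have hp : Function.Surjective p := fun b => let ⟨a, ha⟩ := hπ b; ⟨Ideal.Quotient.mk _ a, ha⟩
  have hpnil : IsNilpotent (RingHom.ker (p : MvPolynomial (Fin n) A ⧸ J ^ 2 →+* B)) := by
    refine ⟨2, ?_⟩
    have hle : RingHom.ker (p : MvPolynomial (Fin n) A ⧸ J ^ 2 →+* B) ≤
        J.map (Ideal.Quotient.mk (J ^ 2)) := by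
      intro y hy
      obtain ⟨a, rfl⟩ := Ideal.Quotient.mk_surjective y
      exact Ideal.mem_map_of_mem _ (show a ∈ J from hy)
    refine le_bot_iff.mp ?_
    rw [← Ideal.map_quotient_self (J ^ 2), Ideal.map_pow]
    exact pow_le_pow_left' hle 2
  let sec : B →ₐ[A] MvPolynomial (Fin n) A ⧸ J ^ 2 :=
    Algebra.FormallySmooth.liftOfSurjective (AlgHom.id A B) p hp hpnil
  have hsec : ∀ b, p (sec b) = b := fun b =>
    Algebra.FormallySmooth.liftOfSurjective_apply (AlgHom.id A B) p hp hpnil b
  choose S hS using fun i : Fin n => Ideal.Quotient.mk_surjective (sec (π (MvPolynomial.X i)))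
  let h : Fin n → MvPolynomial (Fin n) A := fun i => MvPolynomial.X i - S i
  have hhJ : ∀ i, h i ∈ J := fun i => by
    have h1 : π (S i) = π (MvPolynomial.X i) := by
      have := hsec (π (MvPolynomial.X i)); rw [← hS] at this; exact this
    simp [J, h, h1]
  let φ : MvPolynomial (Fin n) A →ₐ[A] MvPolynomial (Fin n) A ⧸ J ^ 2 := sec.comp π
  have hsq : ∀ {x y : MvPolynomial (Fin n) A}, x ∈ J → y ∈ J →
      Ideal.Quotient.mk (J ^ 2) (x * y) = 0 := fun hx hy =>
    Ideal.Quotient.eq_zero_iff_mem.mpr (by rw [pow_two]; exact Ideal.mul_mem_mul hx hy)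
  have hdiff : ∀ g, Ideal.Quotient.mk (J ^ 2) g - φ g =
      Ideal.Quotient.mk (J ^ 2) (∑ i, MvPolynomial.pderiv i g * h i) := by
    intro g
    induction g using MvPolynomial.induction_on with
    | C a =>
        have h2 : φ (MvPolynomial.C a) = Ideal.Quotient.mk (J ^ 2) (MvPolynomial.C a) :=
          φ.commutes a
        simp [h2]
    | add g g' hg hg' =>
        rw [map_add, map_add, add_sub_add_comm, hg, hg', ← map_add, ← Finset.sum_add_distrib]
        exact congrArg _ (Finset.sum_congr rfl fun i _ => by rw [map_add, add_mul])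
    | mul_X g k hg =>
        have hX : φ (MvPolynomial.X k) = Ideal.Quotient.mk (J ^ 2) (MvPolynomial.X k - h k) := by
          show sec (π (MvPolynomial.X k)) = _
          rw [← hS k]; simp [h]
        set D := ∑ i, MvPolynomial.pderiv i g * h i with hD
        have hDJ : D ∈ J := J.sum_mem fun i _ => J.mul_mem_left _ (hhJ i)
        have hφg : φ g = Ideal.Quotient.mk (J ^ 2) (g - D) := by
          rw [map_sub, ← hg]; ring
        have hsum : ∑ i, MvPolynomial.pderiv i (g * MvPolynomial.X k) * h i =
            D * MvPolynomial.X k + g * h k := by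
          have hXsum : ∑ i, MvPolynomial.pderiv i (MvPolynomial.X k : MvPolynomial (Fin n) A) * h i
              = h k := by
            rw [Finset.sum_eq_single k (fun i _ hik => by simp [MvPolynomial.pderiv_X_of_ne hik.symm])
              (by simp)]
            simp
          simp only [MvPolynomial.pderiv_mul, add_mul, Finset.sum_add_distrib]
          rw [hD, Finset.sum_mul]
          congr 1
          · exact Finset.sum_congr rfl fun i _ => by ring
          · conv_rhs => rw [← hXsum]
            rw [Finset.mul_sum]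
            exact Finset.sum_congr rfl fun i _ => by ring
        rw [map_mul φ, hφg, hX, hsum, ← map_mul, ← map_sub,
          show g * MvPolynomial.X k - (g - D) * (MvPolynomial.X k - h k)
            = D * MvPolynomial.X k + g * h k - D * h k by ring,
          map_sub, hsq hDJ (hhJ k), sub_zero]
  refine ⟨h, hhJ, fun g hg => ?_⟩
  rw [← pow_two, ← Ideal.Quotient.eq_zero_iff_mem, map_sub, ← hdiff g]
  have : φ g = 0 := by show sec (π g) = 0; rw [show π g = 0 from hg, map_zero]
  rw [this, sub_zero, sub_self]

variable [IsLocalRing A] [HenselianRing A (maximalIdeal A)]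

/-- Sections killing prescribed coordinates exist and are unique. -/
theorem existsUnique_section {B : Type u} [CommRing B] [Algebra A B] {m : ℕ}
    (π : MvPolynomial (Fin m) A →ₐ[A] B) (hπ : Function.Surjective π) (hfg : (RingHom.ker π).FG)
    (h : Fin m → MvPolynomial (Fin m) A) (hh : ∀ i, h i ∈ RingHom.ker π)
    (hrel : ∀ g ∈ RingHom.ker π, g - ∑ i, MvPolynomial.pderiv i g * h i ∈ RingHom.ker π * RingHom.ker π)
    (a₀ : Fin m → A) (h0 : ∀ g ∈ RingHom.ker π, MvPolynomial.eval a₀ g ∈ maximalIdeal A)
    {ι : Type u} [Fintype ι] (T : ι → MvPolynomial (Fin m) A)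
    (hT : ∀ x, MvPolynomial.eval a₀ (T x) ∈ maximalIdeal A)
    (W : Submodule (ResidueField A) (Fin m → ResidueField A))
    (hW : W = Submodule.span (ResidueField A) ((fun g i => residue A (MvPolynomial.eval a₀ (MvPolynomial.pderiv i g))) ''
      (RingHom.ker π : Set (MvPolynomial (Fin m) A))))
    (hbas : LinearIndependent (ResidueField A)
      (fun x => (Submodule.Quotient.mk (fun i => residue A (MvPolynomial.eval a₀ (MvPolynomial.pderiv i (T x)))) :
        (Fin m → ResidueField A) ⧸ W)))
    (hspan : ⊤ ≤ Submodule.span (ResidueField A) (Set.range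
      (fun x => (Submodule.Quotient.mk (fun i => residue A (MvPolynomial.eval a₀ (MvPolynomial.pderiv i (T x)))) :
        (Fin m → ResidueField A) ⧸ W)))) :
    ∃! s : B →ₐ[A] A, (∀ i, s (π (MvPolynomial.X i)) - a₀ i ∈ maximalIdeal A) ∧ ∀ x, s (π (T x)) = 0 := by
  classical
  let grad : MvPolynomial (Fin m) A → (Fin m → ResidueField A) := fun g i =>
    residue A (MvPolynomial.eval a₀ (MvPolynomial.pderiv i g))
  have hWmem : ∀ w ∈ W, ∃ g ∈ RingHom.ker π, grad g = w := by
    intro w hw
    rw [hW] at hw
    induction hw using Submodule.span_induction with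
    | mem x hx => obtain ⟨g, hg, rfl⟩ := hx; exact ⟨g, hg, rfl⟩
    | zero => exact ⟨0, zero_mem _, by funext i; simp [grad]⟩
    | add x y _ _ hx hy =>
      obtain ⟨g, hg, rfl⟩ := hx
      obtain ⟨g', hg', rfl⟩ := hy
      exact ⟨g + g', add_mem hg hg', by funext i; simp [grad]⟩
    | smul c x _ hx =>
      obtain ⟨g, hg, rfl⟩ := hx
      obtain ⟨c, rfl⟩ := residue_surjective c
      exact ⟨MvPolynomial.C c * g, Ideal.mul_mem_left _ _ hg, by funext i; simp [grad]⟩
  let bQ := Module.Basis.mk hbas hspan
  let bW := Module.finBasis (ResidueField A) W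
  choose gW hgW hgW' using fun j => hWmem (bW j : Fin m → ResidueField A) (bW j).2
  let F : Fin (Module.finrank (ResidueField A) W) ⊕ ι → MvPolynomial (Fin m) A := Sum.elim gW T
  have hli : LinearIndependent (ResidueField A) (fun z => grad (F z)) := by
    refine linearIndependent_sum.mpr ⟨?_, ?_, ?_⟩
    · rw [show ((fun z => grad (F z)) ∘ Sum.inl) = (W.subtype ∘ bW) from funext hgW']
      exact bW.linearIndependent.map' W.subtype (Submodule.ker_subtype W)
    · exact LinearIndependent.of_comp W.mkQ hbas
    · rw [Submodule.disjoint_def]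
      intro v h1 h2
      have hv : v ∈ W := by
        refine (Submodule.span_le.2 ?_) h1
        rintro _ ⟨j, rfl⟩
        show grad (gW j) ∈ W
        rw [hgW']; exact (bW j).2
      obtain ⟨c, rfl⟩ := (Submodule.mem_span_range_iff_exists_fun _).1 h2
      have h3 : ∑ x, c x • (Submodule.Quotient.mk (grad (T x)) : (Fin m → ResidueField A) ⧸ W) = 0 := by
        have h4 := (Submodule.Quotient.mk_eq_zero W).2 hv
        rw [← Submodule.mkQ_apply, map_sum] at h4
        simpa [F] using h4
      have h5 := Fintype.linearIndependent_iff.1 hbas c h3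
      simp [h5]
  have hcard : Fintype.card (Fin (Module.finrank (ResidueField A) W) ⊕ ι) = m := by
    rw [Fintype.card_sum, Fintype.card_fin, ← Module.finrank_eq_card_basis bQ, add_comm,
      Submodule.finrank_quotient_add_finrank, Module.finrank_fin_fun]
  let e : Fin m ≃ Fin (Module.finrank (ResidueField A) W) ⊕ ι := ((Fintype.equivFinOfCardEq hcard)).symm
  let N : Matrix (Fin m) (Fin m) A := Matrix.of fun z i => MvPolynomial.eval a₀ (MvPolynomial.pderiv i (F (e z)))
  have hN : IsUnit ((residue A).mapMatrix N).det := by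
    rw [← Matrix.isUnit_iff_isUnit_det, ← Matrix.linearIndependent_rows_iff_isUnit]
    exact hli.comp e e.injective
  have hN' : IsUnit N.det := by
    rw [← RingHom.map_det] at hN
    exact isUnit_of_map_unit (residue A) _ hN
  have hF0 : ∀ z, MvPolynomial.eval a₀ (F z) ∈ maximalIdeal A := by
    rintro (j | x)
    · exact h0 _ (hgW j)
    · exact hT x
  obtain ⟨a, ha, hai⟩ := HenselLib.exists_root_system (maximalIdeal A) (fun z => F (e z)) a₀ (fun z => hF0 (e z))
    (hN'.map (Ideal.Quotient.mk (maximalIdeal A)))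
  have haF : ∀ z, MvPolynomial.eval a (F z) = 0 := fun z => by simpa using ha (e.symm z)
  have hev : ∀ g, MvPolynomial.eval a g - MvPolynomial.eval a₀ g ∈ maximalIdeal A := by
    intro g
    rw [← residue_eq_zero_iff, map_sub, sub_eq_zero]
    have h : (residue A).comp (MvPolynomial.eval a) = (residue A).comp (MvPolynomial.eval a₀) :=
      MvPolynomial.ringHom_ext (fun c => by simp) fun i => by
        rw [RingHom.comp_apply, RingHom.comp_apply, MvPolynomial.eval_X, MvPolynomial.eval_X, ← sub_eq_zero,
          ← map_sub, residue_eq_zero_iff]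
        exact hai i
    exact RingHom.congr_fun h g
  let K : Ideal A := (RingHom.ker π).map (MvPolynomial.eval a)
  have hKm : K ≤ maximalIdeal A := Ideal.map_le_iff_le_comap.2 fun g hg => by
    have := add_mem (hev g) (h0 g hg)
    simpa using this
  have hsq : ∀ g ∈ RingHom.ker π * RingHom.ker π, MvPolynomial.eval a g ∈ maximalIdeal A * K := fun g hg => by
    have h1 := Ideal.mem_map_of_mem (MvPolynomial.eval a) hg
    rw [Ideal.map_mul] at h1
    exact Ideal.mul_mono_left hKm h1
  have hKle : K ≤ maximalIdeal A * K := by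
    refine Ideal.map_le_iff_le_comap.2 fun g hg => ?_
    rw [Ideal.mem_comap]
    have hgw : grad g ∈ W := by rw [hW]; exact Submodule.subset_span ⟨g, hg, rfl⟩
    choose c hc using fun j => residue_surjective (bW.repr ⟨grad g, hgw⟩ j)
    let g' := g - ∑ j, MvPolynomial.C (c j) * gW j
    have hg' : g' ∈ RingHom.ker π := sub_mem hg (Ideal.sum_mem _ fun j _ => Ideal.mul_mem_left _ _ (hgW j))
    have hgrad : ∀ i, residue A (MvPolynomial.eval a₀ (MvPolynomial.pderiv i g')) = 0 := by
      intro i
      have h1 := congrArg (fun w : W => (w : Fin m → ResidueField A) i) (bW.sum_repr ⟨grad g, hgw⟩)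
      simp only [Submodule.coe_sum, Submodule.coe_smul, Finset.sum_apply, Pi.smul_apply, ← hgW', ← hc,
        smul_eq_mul] at h1
      simp only [g', map_sub, map_sum, MvPolynomial.pderiv_C_mul, map_mul, MvPolynomial.smul_eq_C_mul,
        MvPolynomial.eval_C]
      rw [sub_eq_zero]
      exact h1.symm
    have he : MvPolynomial.eval a g = MvPolynomial.eval a g' := by
      have : ∀ j, MvPolynomial.eval a (gW j) = 0 := fun j => haF (Sum.inl j)
      simp [g', this]
    rw [he]
    have h1 := hsq _ (hrel g' hg')
    have h2 : MvPolynomial.eval a (∑ i, MvPolynomial.pderiv i g' * h i) ∈ maximalIdeal A * K := by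
      rw [map_sum]
      refine Ideal.sum_mem _ fun i _ => ?_
      rw [map_mul]
      refine Ideal.mul_mem_mul ?_ (Ideal.mem_map_of_mem _ (hh i))
      have := add_mem (hev (MvPolynomial.pderiv i g')) ((residue_eq_zero_iff _).1 (hgrad i))
      simpa using this
    have := add_mem h1 h2
    rwa [map_sub, sub_add_cancel] at this
  have hK0 : K = ⊥ := Submodule.eq_bot_of_le_smul_of_le_jacobson_bot (maximalIdeal A) K (hfg.map _)
    (by rw [smul_eq_mul]; exact hKle) (IsLocalRing.maximalIdeal_le_jacobson ⊥)
  let ev : MvPolynomial (Fin m) A →ₐ[A] A := MvPolynomial.aeval a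
  have hker : ∀ g ∈ RingHom.ker π, ev g = 0 := fun g hg => by
    have h1 : MvPolynomial.eval a g ∈ K := Ideal.mem_map_of_mem _ hg
    rw [hK0, Ideal.mem_bot] at h1
    simpa [ev, MvPolynomial.aeval_eq_eval] using h1
  let eq := Ideal.quotientKerAlgEquivOfSurjective hπ
  let s : B →ₐ[A] A := (Ideal.Quotient.liftₐ _ ev hker).comp eq.symm.toAlgHom
  have hs : ∀ g, s (π g) = MvPolynomial.eval a g := by
    intro g
    have : eq.symm (π g) = Ideal.Quotient.mk _ g := by rw [AlgEquiv.symm_apply_eq]; rfl
    show Ideal.Quotient.liftₐ _ ev hker (eq.symm (π g)) = _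
    rw [this]
    simp [ev, MvPolynomial.aeval_eq_eval]
  refine ⟨s, ⟨fun i => by rw [hs, MvPolynomial.eval_X]; exact hai i, fun x => by rw [hs]; exact haF (Sum.inr x)⟩, ?_⟩
  rintro s' ⟨hs'0, hs'T⟩
  let a' : Fin m → A := fun i => s' (π (MvPolynomial.X i))
  have hs' : ∀ g, s' (π g) = MvPolynomial.eval a' g := by
    have : s'.comp π = MvPolynomial.aeval a' := MvPolynomial.algHom_ext fun i => by simp [a']
    intro g
    have := AlgHom.congr_fun this g
    simpa [MvPolynomial.aeval_eq_eval] using this
  have hF' : ∀ z, MvPolynomial.eval a' (F z) = 0 := by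
    rintro (j | x)
    · rw [← hs']
      show s' (π (gW j)) = 0
      rw [show π (gW j) = 0 from hgW j, map_zero]
    · rw [← hs']; exact hs'T x
  let L : Ideal A := Ideal.span (Set.range fun i => a i - a' i)
  have hL : L ≤ maximalIdeal A * L := by
    rw [Ideal.span_le]
    rintro _ ⟨i, rfl⟩
    refine mem_of_det N hN' (fun i => a i - a' i) _ (fun z => ?_) i
    have h1 := eval_sub_eval_mem (maximalIdeal A) L a₀ a a' hai hs'0
      (fun i => Ideal.subset_span ⟨i, rfl⟩) (F (e z))
    rw [haF, hF', sub_zero, zero_sub, neg_mem_iff] at h1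
    exact h1
  have hL0 : L = ⊥ := Submodule.eq_bot_of_le_smul_of_le_jacobson_bot (maximalIdeal A) L
    (Submodule.fg_span (Set.finite_range _)) (by rw [smul_eq_mul]; exact hL) (IsLocalRing.maximalIdeal_le_jacobson ⊥)
  have haa : a' = a := funext fun i => by
    have : a i - a' i ∈ L := Ideal.subset_span ⟨i, rfl⟩
    rw [hL0, Ideal.mem_bot, sub_eq_zero] at this
    exact this.symm
  refine AlgHom.ext fun b => ?_
  obtain ⟨g, rfl⟩ := hπ b
  rw [hs, hs', haa]

section Group

variable {G : Type u} [Group G] [Finite G] [MulSemiringAction G A]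

omit [HenselianRing A (maximalIdeal A)] in
theorem residue_smul (htriv : ∀ (g : G) (a : A), g • a - a ∈ maximalIdeal A) (g : G) (a : A) :
    residue A (g • a) = residue A a := by
  rw [← sub_eq_zero, ← map_sub, residue_eq_zero_iff]; exact htriv g a

/-- An invariant idempotent matrix lifting an invariant idempotent modulo the maximal ideal. -/
theorem exists_invariant_idempotent (hG : IsUnit ((Nat.card G : ℕ) : ResidueField A))
    (htriv : ∀ (g : G) (a : A), g • a - a ∈ maximalIdeal A)
    {ι : Type u} [Fintype ι] [DecidableEq ι] (p : G → ι ≃ ι) (hp : ∀ g h x, p (g * h) x = p g (p h x))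
    (e₀ : Matrix ι ι (ResidueField A)) (he₀ : e₀ * e₀ = e₀) (hinv : ∀ g x y, e₀ (p g x) (p g y) = e₀ x y) :
    ∃ e : Matrix ι ι A, e * e = e ∧ (residue A).mapMatrix e = e₀ ∧ ∀ g x y, g • e x y = e (p g x) (p g y) := by
  classical
  haveI : Fintype G := Fintype.ofFinite G
  have hu : IsUnit ((Nat.card G : ℕ) : A) := by
    refine isUnit_of_map_unit (residue A) _ ?_
    rwa [map_natCast]
  obtain ⟨c, hc⟩ := hu.exists_left_inv
  choose M₀ hM₀ using fun x y => residue_surjective (e₀ x y)
  let M : Matrix ι ι A := Matrix.of fun x y => c * ∑ g : G, g • M₀ ((p g).symm x) ((p g).symm y)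
  have hMres : (residue A).mapMatrix M = e₀ := by
    ext x y
    have : ∀ g : G, residue A (g • M₀ ((p g).symm x) ((p g).symm y)) = e₀ x y := fun g => by
      rw [residue_smul htriv, hM₀, ← hinv g, Equiv.apply_symm_apply, Equiv.apply_symm_apply]
    simp only [M, RingHom.mapMatrix_apply, Matrix.map_apply, Matrix.of_apply, map_mul, map_sum, this,
      Finset.sum_const, Finset.card_univ, nsmul_eq_mul, ← mul_assoc]
    rw [← map_natCast (residue A), ← map_mul, ← Nat.card_eq_fintype_card, hc, map_one, one_mul]
  have hp1 : ∀ g x, (p g).symm x = p g⁻¹ x := fun g x => by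
    rw [Equiv.symm_apply_eq, ← hp, mul_inv_cancel]
    refine (p 1).injective ?_
    rw [← hp, one_mul]
  let Θ : G → Matrix ι ι A →+* Matrix ι ι A := fun g =>
    ((MulSemiringAction.toRingHom G A g).mapMatrix).comp (Matrix.reindexRingEquiv A (p g)).toRingHom
  have hΘ : ∀ g N x y, Θ g N x y = g • N ((p g).symm x) ((p g).symm y) := fun g N x y => rfl
  have hM : ∀ g, Θ g M = M := by
    intro g
    ext x y
    rw [hΘ]
    simp only [M, Matrix.of_apply, smul_mul', Finset.smul_sum, smul_smul, hp1]
    have hcfix : g • c = c := by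
      have h1 : g • c * (Nat.card G : A) = 1 := by
        have := congrArg (fun z => g • z) hc
        have hn : g • (Nat.card G : A) = Nat.card G := map_natCast (MulSemiringAction.toRingHom G A g) _
        simp only [smul_mul', smul_one, hn] at this
        exact this
      calc g • c = g • c * ((Nat.card G : A) * c) := by rw [mul_comm (Nat.card G : A), hc, mul_one]
        _ = c := by rw [← mul_assoc, h1, one_mul]
    rw [hcfix]
    congr 1
    refine Fintype.sum_equiv (Equiv.mulLeft g) _ _ fun h => ?_
    simp only [Equiv.coe_mulLeft, mul_inv_rev, hp]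
  let R₁ := Algebra.adjoin A {M}
  letI : CommRing R₁ := Algebra.adjoinCommRingOfComm A (by rintro a rfl b rfl; rfl)
  haveI : Algebra.IsIntegral A R₁ := ⟨fun x => by
    have h1 : IsIntegral A (x : Matrix ι ι A) := Algebra.IsIntegral.isIntegral _
    exact (isIntegral_algHom_iff R₁.val Subtype.val_injective).1 h1⟩
  let I₁ := (maximalIdeal A).map (algebraMap A R₁)
  let Mb : R₁ := ⟨M, Algebra.self_mem_adjoin_singleton A M⟩
  let N := Fintype.card ι + 1
  let Z := M - M * M
  have hZres : (residue A).mapMatrix Z = 0 := by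
    simp only [Z, map_sub, map_mul, hMres, he₀, sub_self]
  have hchar : ∀ k < Fintype.card ι, Z.charpoly.coeff k ∈ maximalIdeal A := by
    intro k hk
    have h1 := Matrix.charpoly_map Z (residue A)
    rw [show Z.map (residue A) = 0 from hZres, Matrix.charpoly_zero] at h1
    rw [← residue_eq_zero_iff, ← Polynomial.coeff_map, ← h1, Polynomial.coeff_X_pow, if_neg hk.ne]
  have hZmem : (Mb - Mb * Mb) ^ Fintype.card ι ∈ I₁ := by
    have h1 : (Polynomial.aeval (Mb - Mb * Mb) Z.charpoly : R₁) = 0 := by
      apply Subtype.ext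
      have : ((Polynomial.aeval (Mb - Mb * Mb) Z.charpoly : R₁) : Matrix ι ι A) = Polynomial.aeval Z Z.charpoly :=
        (Polynomial.aeval_algHom_apply R₁.val (Mb - Mb * Mb) Z.charpoly).symm
      rw [this, Matrix.aeval_self_charpoly]
      rfl
    rcases subsingleton_or_nontrivial A with hA | hA
    · exact absurd (Ideal.eq_top_of_isUnit_mem _ (zero_mem (maximalIdeal A)) (isUnit_of_subsingleton 0))
        (IsLocalRing.maximalIdeal.isMaximal A).ne_top
    rw [Polynomial.aeval_eq_sum_range, Matrix.charpoly_natDegree_eq_dim, Finset.sum_range_succ] at h1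
    have h2 : Z.charpoly.coeff (Fintype.card ι) = 1 := by
      rw [← Matrix.charpoly_natDegree_eq_dim Z]; exact (Matrix.charpoly_monic Z).coeff_natDegree
    rw [h2, one_smul, add_eq_zero_iff_neg_eq] at h1
    rw [← h1]
    refine neg_mem (Ideal.sum_mem _ fun k hk => ?_)
    rw [Algebra.smul_def]
    exact Ideal.mul_mem_right _ _ (Ideal.mem_map_of_mem _ (hchar k (Finset.mem_range.1 hk)))
  let b : R₁ := 1 - (1 - Mb ^ N) ^ N
  have hb : b * b - b ∈ I₁ := by
    obtain ⟨w, hw⟩ : (Mb - Mb * Mb) ^ N ∣ b * b - b := by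
      have h1 : (1 - Mb) ^ N ∣ (1 - Mb ^ N) ^ N := by
        refine pow_dvd_pow_of_dvd ?_ _
        simpa using sub_dvd_pow_sub_pow (1 : R₁) Mb N
      have h2 : Mb ^ N ∣ 1 - (1 - Mb ^ N) ^ N := by
        have := sub_dvd_pow_sub_pow (1 : R₁) (1 - Mb ^ N) N
        simpa using this
      rw [show Mb - Mb * Mb = (1 - Mb) * Mb by ring, mul_pow,
        show b * b - b = -((1 - Mb ^ N) ^ N * (1 - (1 - Mb ^ N) ^ N)) by simp only [b]; ring]
      exact (mul_dvd_mul h1 h2).neg_right
    rw [hw, pow_succ]
    exact Ideal.mul_mem_right _ _ (Ideal.mul_mem_right _ _ hZmem)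
  obtain ⟨E, hE, hEb⟩ := HenselLib.exists_idempotent (maximalIdeal A) b hb
  have hI₁res : ∀ x ∈ I₁, (residue A).mapMatrix ((x : R₁) : Matrix ι ι A) = 0 := by
    intro x hx
    refine Submodule.span_induction (p := fun x _ => (residue A).mapMatrix ((x : R₁) : Matrix ι ι A) = 0)
      ?_ ?_ ?_ ?_ hx
    · rintro _ ⟨a, ha, rfl⟩
      ext i j
      rw [Subalgebra.coe_algebraMap, RingHom.mapMatrix_apply, Matrix.map_apply, Matrix.algebraMap_matrix_apply]
      split_ifs with h
      · simpa using (residue_eq_zero_iff a).2 ha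
      · simp
    · simp
    · intro x y _ _ hx hy; simp only [Subalgebra.coe_add, map_add, hx, hy, add_zero]
    · intro a x _ hx; simp only [smul_eq_mul, Subalgebra.coe_mul, map_mul, hx, mul_zero]
  refine ⟨E, by rw [← Subalgebra.coe_mul, hE.eq], ?_, ?_⟩
  · have h1 := hI₁res _ hEb
    rw [Subalgebra.coe_sub, map_sub, sub_eq_zero] at h1
    have h2 : ∀ k : ℕ, e₀ ^ (k + 1) = e₀ := fun k => IsIdempotentElem.pow_succ_eq k he₀
    have h3 : ∀ k : ℕ, (1 - e₀) ^ (k + 1) = 1 - e₀ := fun k => IsIdempotentElem.pow_succ_eq k (IsIdempotentElem.one_sub he₀)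
    rw [h1]
    simp only [b, Mb, N, Subalgebra.coe_sub, Subalgebra.coe_one, Subalgebra.coe_pow, map_sub, map_one, map_pow,
      hMres, h2, h3, sub_sub_cancel]
  · intro g
    -- conjugation fixes `M`, so preserves `A[M]`
    have hC : ∀ a : A, Θ g (algebraMap A (Matrix ι ι A) a) = algebraMap A (Matrix ι ι A) (g • a) := fun a => by
      ext x y
      rw [hΘ, Matrix.algebraMap_matrix_apply, Matrix.algebraMap_matrix_apply]
      by_cases h : x = y
      · subst h; simp
      · rw [if_neg h, if_neg fun h' => h ((p g).symm.injective h'), smul_zero]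
    have hmem : ∀ x ∈ R₁, Θ g x ∈ R₁ := by
      intro x hx
      induction hx using Algebra.adjoin_induction with
      | mem z hz => rw [Set.mem_singleton_iff.1 hz, hM]; exact Algebra.self_mem_adjoin_singleton A M
      | algebraMap a => rw [hC]; exact R₁.algebraMap_mem _
      | add z w _ _ hz hw => rw [map_add]; exact R₁.add_mem hz hw
      | mul z w _ _ hz hw => rw [map_mul]; exact R₁.mul_mem hz hw
    let θ : R₁ →+* R₁ :=
      { toFun := fun x => ⟨Θ g (x : Matrix ι ι A), hmem _ x.2⟩
        map_one' := Subtype.ext (map_one _)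
        map_mul' := fun _ _ => Subtype.ext (map_mul _ _ _)
        map_zero' := Subtype.ext (map_zero _)
        map_add' := fun _ _ => Subtype.ext (map_add _ _ _) }
    have hθI : I₁ ≤ I₁.comap θ := by
      refine Ideal.map_le_iff_le_comap.2 fun a ha => ?_
      show θ (algebraMap A R₁ a) ∈ I₁
      rw [show θ (algebraMap A R₁ a) = algebraMap A R₁ (g • a) from Subtype.ext (hC a)]
      exact Ideal.mem_map_of_mem _ (by
        have := add_mem (htriv g a) ha
        simpa using this)
    have hθb : θ b = b := by
      have : θ Mb = Mb := Subtype.ext (hM g)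
      simp [b, this]
    have hEE : θ E = E := by
      refine HenselLib.idempotent_eq_of_sub_mem (HenselLib.map_le_jacobson_of_isIntegral
        (IsLocalRing.maximalIdeal_le_jacobson (⊥ : Ideal A)) R₁) (hE.map θ) hE ?_
      have h1 : θ (E - b) ∈ I₁ := hθI hEb
      rw [map_sub, hθb] at h1
      have h2 := sub_mem h1 hEb
      rwa [sub_sub_sub_cancel_right] at h2
    intro x y
    have h1 := congrArg (fun Z : R₁ => (Z : Matrix ι ι A) (p g x) (p g y)) hEE
    change Θ g (E : Matrix ι ι A) _ _ = _ at h1
    rw [hΘ, Equiv.symm_apply_apply, Equiv.symm_apply_apply] at h1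
    exact h1

set_option maxHeartbeats 1000000 in
/-- A fixed residual point of a smooth algebra with a semilinear action lifts to an equivariant section. -/
theorem exists_equivariant_section (hG : IsUnit ((Nat.card G : ℕ) : ResidueField A))
    (htriv : ∀ (g : G) (a : A), g • a - a ∈ maximalIdeal A)
    {B : Type u} [CommRing B] [Algebra A B] [Algebra.Smooth A B]
    (act : G → B →+* B) (hact1 : ∀ b, act 1 b = b) (hactmul : ∀ g h b, act (g * h) b = act g (act h b))
    (hactalg : ∀ g a, act g (algebraMap A B a) = algebraMap A B (g • a))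
    (q : B →+* ResidueField A) (hq : ∀ a, q (algebraMap A B a) = residue A a) (hqfix : ∀ g b, q (act g b) = q b) :
    ∃ s : B →ₐ[A] A, (∀ b, residue A (s b) = q b) ∧ ∀ g b, s (act g b) = g • s b := by
  classical
  haveI : Fintype G := Fintype.ofFinite G
  obtain ⟨m, π, hπ, hfg, h, hh, hrel⟩ := exists_presentation (A := A) (B := B)
  choose a₀ ha₀ using fun i : Fin m => residue_surjective (q (π (MvPolynomial.X i)))
  have heval : ∀ f, residue A (MvPolynomial.eval a₀ f) = q (π f) := by
    have h : (residue A).comp (MvPolynomial.eval a₀) = q.comp π.toRingHom :=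
      MvPolynomial.ringHom_ext (fun c => by
        simp only [RingHom.comp_apply, MvPolynomial.eval_C, AlgHom.toRingHom_eq_coe, RingHom.coe_coe]
        rw [show π (MvPolynomial.C c) = algebraMap A B c from π.commutes c, hq]) fun i => by simp [ha₀]
    exact fun f => RingHom.congr_fun h f
  have h0 : ∀ g ∈ RingHom.ker π, MvPolynomial.eval a₀ g ∈ maximalIdeal A := fun g hg => by
    rw [← residue_eq_zero_iff, heval, show π g = 0 from hg, map_zero]
  let grad : MvPolynomial (Fin m) A → (Fin m → ResidueField A) := fun g i =>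
    residue A (MvPolynomial.eval a₀ (MvPolynomial.pderiv i g))
  let W : Submodule (ResidueField A) (Fin m → ResidueField A) :=
    Submodule.span (ResidueField A) (grad '' (RingHom.ker π : Set (MvPolynomial (Fin m) A)))
  let Q := (Fin m → ResidueField A) ⧸ W
  have hgadd : ∀ f f', grad (f + f') = grad f + grad f' := fun f f' => by funext i; simp [grad]
  have hgC : ∀ c f, grad (MvPolynomial.C c * f) = residue A c • grad f := fun c f => by funext i; simp [grad]
  let S : B → MvPolynomial (Fin m) A := Function.surjInv hπ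
  let D : B → Q := fun b => Submodule.Quotient.mk (grad (S b))
  have hD : ∀ f, D (π f) = Submodule.Quotient.mk (grad f) := fun f => by
    refine (Submodule.Quotient.eq W).2 (Submodule.subset_span ⟨S (π f) - f, ?_, ?_⟩)
    · show π _ = 0
      rw [map_sub, Function.surjInv_eq hπ, sub_self]
    · funext i; simp [grad]
  have hDadd : ∀ b c, D (b + c) = D b + D c := by
    intro b c
    obtain ⟨f, rfl⟩ := hπ b
    obtain ⟨f', rfl⟩ := hπ c
    rw [← map_add, hD, hD, hD, hgadd]
    rfl
  have hDmul : ∀ b c, D (b * c) = q b • D c + q c • D b := by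
    intro b c
    obtain ⟨f, rfl⟩ := hπ b
    obtain ⟨f', rfl⟩ := hπ c
    rw [← map_mul, hD, hD, hD, ← Submodule.Quotient.mk_smul, ← Submodule.Quotient.mk_smul, ← Submodule.Quotient.mk_add,
      ← heval, ← heval]
    congr 1
    funext i
    simp only [grad, MvPolynomial.pderiv_mul, map_add, map_mul, Pi.add_apply, Pi.smul_apply, smul_eq_mul]
    ring
  have hDalg : ∀ a, D (algebraMap A B a) = 0 := fun a => by
    rw [← show π (MvPolynomial.C a) = algebraMap A B a from π.commutes a, hD,
      show grad (MvPolynomial.C a) = 0 by funext i; simp [grad]]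
    rfl
  let Dh : B →+ Q := AddMonoidHom.mk' D hDadd
  have hDsum : ∀ {κ' : Type u} (t : Finset κ') (f : κ' → B), D (∑ i ∈ t, f i) = ∑ i ∈ t, D (f i) :=
    fun t f => map_sum Dh f t
  -- the action on the tangent space
  let ρ₀ : G → (Fin m → ResidueField A) →ₗ[ResidueField A] Q := fun g =>
    Fintype.linearCombination (ResidueField A) (fun i => D (act g (π (MvPolynomial.X i))))
  have hρ₀ : ∀ g f, ρ₀ g (grad f) = D (act g (π f)) := by
    intro g f
    induction f using MvPolynomial.induction_on with
    | C c =>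
      rw [show grad (MvPolynomial.C c) = 0 by funext i; simp [grad], map_zero,
        show π (MvPolynomial.C c) = algebraMap A B c from π.commutes c, hactalg, hDalg]
    | add f f' hf hf' => rw [hgadd, map_add, hf, hf', map_add, map_add, hDadd]
    | mul_X f k hf =>
      have : grad (f * MvPolynomial.X k) = q (π (MvPolynomial.X k)) • grad f + q (π f) • Pi.single k 1 := by
        funext i
        simp only [grad, MvPolynomial.pderiv_mul, map_add, map_mul, Pi.add_apply, Pi.smul_apply, smul_eq_mul,
          ← heval, MvPolynomial.eval_X]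
        by_cases hik : i = k
        · subst hik; simp; ring
        · simp [MvPolynomial.pderiv_X_of_ne (Ne.symm hik), Pi.single_eq_of_ne hik]; ring
      rw [this, map_add, map_smul, map_smul, hf, map_mul, map_mul, hDmul, hqfix, hqfix, add_comm]
      congr 2
      simp [ρ₀, Fintype.linearCombination_apply_single]
  have hρW : ∀ g, W ≤ LinearMap.ker (ρ₀ g) := fun g => Submodule.span_le.2 (by
    rintro _ ⟨f, hf, rfl⟩
    show ρ₀ g (grad f) = 0
    rw [hρ₀, show π f = 0 from hf, map_zero]
    exact map_zero Dh)
  let ρ : G → Q →ₗ[ResidueField A] Q := fun g => W.liftQ (ρ₀ g) (hρW g)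
  have hρ : ∀ g b, ρ g (D b) = D (act g b) := fun g b => by
    obtain ⟨f, rfl⟩ := hπ b
    rw [hD]; exact hρ₀ g f
  have hDsurj : Function.Surjective D := by
    intro v
    obtain ⟨v, rfl⟩ := Submodule.Quotient.mk_surjective W v
    choose c hc using fun i => residue_surjective (v i)
    refine ⟨π (∑ i, MvPolynomial.C (c i) * MvPolynomial.X i), ?_⟩
    rw [hD]
    congr 1
    funext k
    simp [grad, hc, Pi.single_apply]
  have hρmul : ∀ g g' v, ρ (g * g') v = ρ g (ρ g' v) := fun g g' v => by
    obtain ⟨b, rfl⟩ := hDsurj v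
    rw [hρ, hρ, hρ, hactmul]
  have hρinj : ∀ g, Function.Injective (ρ g) := fun g v w hvw => by
    have h1 := congrArg (ρ g⁻¹) hvw
    have h2 : ∀ v, ρ (1 : G) v = v := fun v => by
      obtain ⟨b, rfl⟩ := hDsurj v
      rw [hρ, hact1]
    rwa [← hρmul, ← hρmul, inv_mul_cancel, h2, h2] at h1
  -- permuted coordinates
  let ι := G × Fin m
  let p : G → ι ≃ ι := fun g => Equiv.prodCongr (Equiv.mulLeft g) (Equiv.refl _)
  have hp : ∀ g g' x, p (g * g') x = p g (p g' x) := fun g g' x => Prod.ext (mul_assoc g g' x.1) rfl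
  let y : ι → B := fun x => act x.1 (π (MvPolynomial.X x.2) - algebraMap A B (a₀ x.2))
  have hqy : ∀ x, q (y x) = 0 := fun x => by simp [y, hqfix, hq, ha₀]
  have hpy : ∀ g x, act g (y x) = y (p g x) := fun g x => by simp only [y]; rw [← hactmul]; rfl
  let u : (ι → ResidueField A) →ₗ[ResidueField A] Q := Fintype.linearCombination (ResidueField A) (fun x => D (y x))
  have hu : Function.Surjective u := by
    rw [← LinearMap.range_eq_top, Fintype.range_linearCombination, eq_top_iff]
    intro v _
    obtain ⟨v, rfl⟩ := Submodule.Quotient.mk_surjective W v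
    have : (Submodule.Quotient.mk v : Q) = ∑ i, v i • D (y (1, i)) := by
      have hy1 : ∀ i, D (y (1, i)) = Submodule.Quotient.mk (Pi.single i 1) := fun i => by
        simp only [y, hact1]
        rw [← show π (MvPolynomial.C (a₀ i)) = algebraMap A B (a₀ i) from π.commutes (a₀ i), ← map_sub, hD]
        congr 1
        funext k
        by_cases hik : k = i
        · subst hik; simp [grad]
        · simp [grad, MvPolynomial.pderiv_X_of_ne (Ne.symm hik), Pi.single_eq_of_ne hik]
      simp only [hy1, ← Submodule.mkQ_apply, ← map_smul, ← map_sum]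
      congr 1
      funext k
      simp [Pi.single_apply]
    rw [this]
    exact Submodule.sum_mem _ fun i _ => Submodule.smul_mem _ _ (Submodule.subset_span ⟨_, rfl⟩)
  obtain ⟨σ₀, hσ₀⟩ := LinearMap.exists_rightInverse_of_surjective u (LinearMap.range_eq_top.2 hu)
  obtain ⟨c, hc⟩ := hG.exists_left_inv
  let σ : Q →ₗ[ResidueField A] (ι → ResidueField A) :=
    c • ∑ g : G, (LinearMap.funLeft (ResidueField A) (ResidueField A) (p g)).comp (σ₀.comp (ρ g))
  have hσ : ∀ v x, σ v x = c * ∑ g : G, σ₀ (ρ g v) (p g x) := fun v x => by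
    simp [σ, Finset.sum_apply, LinearMap.funLeft]
  have hσinv : ∀ g v x, σ (ρ g v) (p g x) = σ v x := fun g v x => by
    rw [hσ, hσ]
    congr 1
    refine Fintype.sum_equiv (Equiv.mulRight g) _ _ fun g' => ?_
    rw [Equiv.coe_mulRight, hρmul, hp]
  have hρu : ∀ g (w : ι → ResidueField A), ρ g (u (fun x => w (p g x))) = u w := fun g w => by
    simp only [u, Fintype.linearCombination_apply, map_sum, map_smul, hρ, hpy]
    exact (p g).sum_comp fun x => w x • D (y x)
  have huσ : ∀ v, u (σ v) = v := fun v => by
    have h1 : ∀ g : G, u (fun x => σ₀ (ρ g v) (p g x)) = v := fun g => hρinj g (by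
      rw [hρu]; exact LinearMap.congr_fun hσ₀ _)
    have h2 : σ v = c • ∑ g : G, fun x => σ₀ (ρ g v) (p g x) := funext fun x => by simp [hσ, Finset.sum_apply]
    rw [h2, map_smul, map_sum, Finset.sum_congr rfl fun g _ => h1 g, Finset.sum_const, Finset.card_univ,
      ← Nat.cast_smul_eq_nsmul (ResidueField A), smul_smul, ← Nat.card_eq_fintype_card, hc, one_smul]
  let e₀ : Matrix ι ι (ResidueField A) := Matrix.of fun x z => σ (D (y z)) x
  have he₀ : e₀ * e₀ = e₀ := by
    ext x z
    rw [Matrix.mul_apply]
    simp only [e₀, Matrix.of_apply]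
    have h1 : σ (u (σ (D (y z)))) x = ∑ w, σ (D (y w)) x * σ (D (y z)) w := by
      conv_lhs => simp only [u, Fintype.linearCombination_apply, map_sum, map_smul]
      rw [Finset.sum_apply]
      exact Finset.sum_congr rfl fun w _ => by rw [Pi.smul_apply, smul_eq_mul, mul_comm]
    rw [← h1, huσ]
  have he₀inv : ∀ g x z, e₀ (p g x) (p g z) = e₀ x z := fun g x z => by
    simp only [e₀, Matrix.of_apply]
    rw [← hpy, ← hρ, hσinv]
  obtain ⟨e, hee, her, heinv⟩ := exists_invariant_idempotent hG htriv p hp e₀ he₀ he₀inv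
  have her' : ∀ x z, residue A (e x z) = e₀ x z := fun x z => by rw [← her]; rfl
  let T : ι → B := fun x => ∑ z, algebraMap A B (e z x) * y z
  have hTq : ∀ x, q (T x) = 0 := fun x => by simp [T, hqy]
  have hTD : ∀ x, D (T x) = D (y x) := fun x => by
    rw [hDsum]
    simp only [hDmul, hDalg, hq, smul_zero, add_zero, her']
    conv_rhs => rw [← huσ (D (y x))]
    simp [u, e₀, Fintype.linearCombination_apply]
  have hTinv : ∀ g x, act g (T x) = T (p g x) := fun g x => by
    simp only [T, map_sum, map_mul, hactalg, hpy, heinv]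
    exact (p g).sum_comp fun z => algebraMap A B (e z (p g x)) * y z
  obtain ⟨sel, -, -, hsp, hli⟩ := exists_linearIndepOn_extension (linearIndepOn_empty (ResidueField A) fun x => D (y x))
    (Set.empty_subset (Set.univ : Set ι))
  haveI : Fintype sel := Fintype.ofFinite _
  choose F hF using fun x => hπ (T x)
  have hgradF : ∀ x, (Submodule.Quotient.mk (grad (F x)) : Q) = D (y x) := fun x => by rw [← hD, hF, hTD]
  obtain ⟨s, ⟨hs0, hsT⟩, huniq⟩ := existsUnique_section π hπ hfg h hh hrel a₀ h0 (ι := sel) (fun x => F x.1)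
    (fun x => by rw [← residue_eq_zero_iff, heval, hF, hTq]) W rfl
    (by
      show LinearIndependent (ResidueField A) (fun x : sel => (Submodule.Quotient.mk (grad (F x.1)) : Q))
      simp only [hgradF]
      exact hli)
    (by
      intro v _
      have h1 : v ∈ Submodule.span (ResidueField A) (Set.range fun x => D (y x)) := by
        obtain ⟨w, rfl⟩ := hu v
        exact Fintype.range_linearCombination (ResidueField A) (fun x => D (y x)) ▸ LinearMap.mem_range_self _ w
      have h2 : v ∈ Submodule.span (ResidueField A) ((fun x => D (y x)) '' sel) :=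
        (Submodule.span_le.2 (by rwa [Set.image_univ] at hsp)) h1
      rw [Set.image_eq_range] at h2
      show v ∈ Submodule.span (ResidueField A) (Set.range fun x : sel => (Submodule.Quotient.mk (grad (F x.1)) : Q))
      simp only [hgradF]
      exact h2)
  have hres : ∀ (t : B →ₐ[A] A), (∀ i, t (π (MvPolynomial.X i)) - a₀ i ∈ maximalIdeal A) → ∀ b, residue A (t b) = q b := by
    intro t ht b
    obtain ⟨f, rfl⟩ := hπ b
    have : ((residue A).comp t.toRingHom).comp π.toRingHom = q.comp π.toRingHom :=
      MvPolynomial.ringHom_ext (fun a => by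
        simp only [RingHom.comp_apply, AlgHom.toRingHom_eq_coe, RingHom.coe_coe]
        rw [show π (MvPolynomial.C a) = algebraMap A B a from π.commutes a, t.commutes, hq]
        rfl) fun i => by
        have := ht i
        rw [← residue_eq_zero_iff, map_sub, sub_eq_zero] at this
        simp [this, ha₀]
    exact RingHom.congr_fun this f
  -- all coordinates vanish
  let Λ : (ι → A) →ₗ[A] A := Fintype.linearCombination A (fun z => s (y z))
  have hΛ : ∀ x, Λ (fun z => e z x) = s (T x) := fun x => by simp [Λ, T, Fintype.linearCombination_apply]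
  let K : Ideal A := Ideal.span (Set.range fun x => s (T x))
  have hK : K ≤ maximalIdeal A * K := by
    refine Ideal.span_le.2 ?_
    rintro _ ⟨x, rfl⟩
    have h1 : D (y x) ∈ Submodule.span (ResidueField A) (Set.range fun z : sel => D (y z)) := by
      have := hsp ⟨x, trivial, rfl⟩
      rwa [Set.image_eq_range] at this
    obtain ⟨k, hk⟩ := (Submodule.mem_span_range_iff_exists_fun _).1 h1
    choose k' hk' using fun z => residue_surjective (k z)
    let d : ι → A := (fun z => e z x) - ∑ z : sel, k' z • fun w => e w z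
    have hd : ∀ w, d w ∈ maximalIdeal A := fun w => by
      rw [← residue_eq_zero_iff]
      simp only [d, Pi.sub_apply, Finset.sum_apply, Pi.smul_apply, smul_eq_mul, map_sub, map_sum, map_mul, her', hk',
        e₀, Matrix.of_apply]
      rw [← hk, map_sum]
      simp [Finset.sum_apply]
    have hcol : ∀ z, e.mulVec (fun w => e w z) = fun w => e w z := fun z => funext fun w => by
      conv_rhs => rw [← hee]
      rfl
    have hed : e.mulVec d = d := by
      simp only [d, Matrix.mulVec_sub, Matrix.mulVec_sum, Matrix.mulVec_smul, hcol]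
    have hΛd : Λ d = ∑ w, d w * s (T w) := by
      conv_lhs => rw [← hed]
      rw [show e.mulVec d = ∑ w, d w • fun z => e z w from funext fun z => by
        simp [Matrix.mulVec, dotProduct, Finset.sum_apply, mul_comm], map_sum]
      exact Finset.sum_congr rfl fun w _ => by rw [map_smul, hΛ, smul_eq_mul]
    have hsd : s (T x) = Λ d := by
      simp only [d, map_sub, map_sum, map_smul, hΛ]
      rw [Finset.sum_eq_zero fun z _ => by rw [show s (T z) = 0 by rw [← hF]; exact hsT z, smul_zero], sub_zero]
    show s (T x) ∈ _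
    rw [hsd, hΛd]
    exact Ideal.sum_mem _ fun w _ => Ideal.mul_mem_mul (hd w) (Ideal.subset_span ⟨w, rfl⟩)
  have hK0 : K = ⊥ := Submodule.eq_bot_of_le_smul_of_le_jacobson_bot (maximalIdeal A) K
    (Submodule.fg_span (Set.finite_range _)) (by rw [smul_eq_mul]; exact hK) (IsLocalRing.maximalIdeal_le_jacobson ⊥)
  have hsT' : ∀ x, s (T x) = 0 := fun x => by
    have : s (T x) ∈ K := Ideal.subset_span ⟨x, rfl⟩
    rwa [hK0, Ideal.mem_bot] at this
  refine ⟨s, hres s hs0, fun g b => ?_⟩
  let s' : B →ₐ[A] A :=
    { toRingHom := ((MulSemiringAction.toRingHom G A g).comp s.toRingHom).comp (act g⁻¹)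
      commutes' := fun a => by
        show g • s (act g⁻¹ (algebraMap A B a)) = a
        rw [hactalg, s.commutes]
        exact smul_inv_smul g a }
  have hs' : s' = s := huniq s' ⟨fun i => by
      rw [← residue_eq_zero_iff, map_sub, ha₀, sub_eq_zero]
      show residue A (g • s (act g⁻¹ _)) = _
      rw [residue_smul htriv, hres s hs0, hqfix],
    fun x => by
      show g • s (act g⁻¹ (π (F x))) = 0
      rw [hF, hTinv, hsT', smul_zero]⟩
  have h1 : g • s (act g⁻¹ (act g b)) = s (act g b) := AlgHom.congr_fun hs' (act g b)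
  rw [← hactmul, inv_mul_cancel, hact1] at h1
  exact h1.symm

end Group

end Groth.Agent.CommAlg4.EquivSection
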