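import Groth.Agent.DCat.Trunc

/-! Maps vanishing on one cohomology object lift through truncations (any universe). -/
set_option autoImplicit false
set_option backward.isDefEq.respectTransparency false
set_option backward.defeqAttrib.useBackward true
set_option linter.style.haveILetI false
universe w v u
open CategoryTheory CategoryTheory.Limits CategoryTheory.Pretriangulated DerivedCategory

namespace Groth.Agent.CommAlg4.GhostLift

variable {A : Type u} [Category.{v} A] [Abelian A] [HasDerivedCategory.{w} A]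

local notation "τ" => (DerivedCategory.TStructure.t (C := A))

theorem eq_zero_of_homology {L N : DerivedCategory A} (j : ℤ) [L.IsLE j] [N.IsGE j] (φ : L ⟶ N)
    (h : (homologyFunctor A j).map φ = 0) : φ = 0 := by
  obtain ⟨φ₁, h1⟩ : ∃ φ₁ : ((τ).truncGE j).obj L ⟶ N, ((τ).truncGEπ j).app L ≫ φ₁ = φ :=
    ⟨(τ).descTruncGE φ j, (τ).π_descTruncGE φ j⟩
  obtain ⟨φ₂, h2⟩ : ∃ φ₂ : ((τ).truncGE j).obj L ⟶ ((τ).truncLT (j + 1)).obj N,
      φ₂ ≫ ((τ).truncLTι (j + 1)).app N = φ₁ :=
    ⟨(τ).liftTruncLT φ₁ j (j + 1) rfl, (τ).liftTruncLT_ι φ₁ j (j + 1) rfl⟩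
  have h3 : φ₂ = 0 := by
    have : (((τ).truncLT (j + 1)).obj N).IsLE j := (τ).isLE_truncLT_obj _ _ _ (by omega)
    refine DCat.eq_zero_of_homology_map_eq_zero _ j ?_
    have := DCat.epi_homology_truncGEπ L j j
    have := DCat.mono_homology_truncLTι N (j + 1) j
    rw [← h1, ← h2, Functor.map_comp, Functor.map_comp] at h
    rw [← cancel_epi ((homologyFunctor A j).map (((τ).truncGEπ j).app L)),
      ← cancel_mono ((homologyFunctor A j).map (((τ).truncLTι (j + 1)).app N))]
    simpa using h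
  rw [← h1, ← h2, h3, zero_comp, comp_zero]

/-- A map from `≤ j` killed by `H^j` factors through `τ_{<j}`. -/
theorem exists_fac {L K : DerivedCategory A} (j : ℤ) [L.IsLE j] (g : L ⟶ K)
    (h : (homologyFunctor A j).map g = 0) :
    ∃ g' : L ⟶ ((τ).truncLT j).obj K, g' ≫ ((τ).truncLTι j).app K = g := by
  have h0 : g ≫ ((τ).truncGEπ j).app K = 0 :=
    eq_zero_of_homology j _ (by rw [Functor.map_comp, h, zero_comp])
  obtain ⟨g', hg'⟩ := Triangle.coyoneda_exact₂ _ ((τ).triangleLTGE_distinguished j K) g h0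
  exact ⟨g', hg'.symm⟩

/-- A map into `≥ j` killed by `H^j` factors through `τ_{≥j+1}`. -/
theorem exists_cofac {K N : DerivedCategory A} (j : ℤ) [N.IsGE j] (g : K ⟶ N)
    (h : (homologyFunctor A j).map g = 0) :
    ∃ g' : ((τ).truncGE (j + 1)).obj K ⟶ N, ((τ).truncGEπ (j + 1)).app K ≫ g' = g := by
  have : (((τ).truncLT (j + 1)).obj K).IsLE j := (τ).isLE_truncLT_obj _ _ _ (by omega)
  have h0 : ((τ).truncLTι (j + 1)).app K ≫ g = 0 :=
    eq_zero_of_homology j _ (by rw [Functor.map_comp, h, comp_zero])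
  obtain ⟨g', hg'⟩ := Triangle.yoneda_exact₂ _ ((τ).triangleLTGE_distinguished (j + 1) K) g h0
  exact ⟨g', hg'.symm⟩

/-- A map from `≤ j` which is an isomorphism on `H^p`, `p ≤ j`, has the universal property of
`τ_{≤j}`. -/
theorem exists_lift_of_isIso {P K L : DerivedCategory A} (j : ℤ) [P.IsLE j] [L.IsLE j]
    (ι : P ⟶ K) (hι : ∀ p, p ≤ j → IsIso ((homologyFunctor A p).map ι)) (g : L ⟶ K) :
    ∃ g' : L ⟶ P, g' ≫ ι = g := by
  have hLE : (((τ).truncLT (j + 1)).obj K).IsLE j := (τ).isLE_truncLT_obj _ _ _ (by omega)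
  obtain ⟨u, hu⟩ : ∃ u : P ⟶ ((τ).truncLT (j + 1)).obj K, u ≫ ((τ).truncLTι (j + 1)).app K = ι :=
    ⟨(τ).liftTruncLT ι j (j + 1) rfl, (τ).liftTruncLT_ι ι j (j + 1) rfl⟩
  obtain ⟨v, hv⟩ : ∃ v : L ⟶ ((τ).truncLT (j + 1)).obj K, v ≫ ((τ).truncLTι (j + 1)).app K = g :=
    ⟨(τ).liftTruncLT g j (j + 1) rfl, (τ).liftTruncLT_ι g j (j + 1) rfl⟩
  have : IsIso u := by
    rw [DerivedCategory.isIso_iff]
    intro p
    rcases le_or_gt p j with hp | hp
    · have h1 := hι p hp
      rw [← hu, Functor.map_comp] at h1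
      have := DCat.mono_homology_truncLTι K (j + 1) p
      have : IsSplitEpi ((homologyFunctor A p).map (((τ).truncLTι (j + 1)).app K)) :=
        ⟨⟨⟨inv ((homologyFunctor A p).map u ≫ (homologyFunctor A p).map
          (((τ).truncLTι (j + 1)).app K)) ≫ (homologyFunctor A p).map u, by
            rw [Category.assoc, IsIso.inv_hom_id]⟩⟩⟩
      have : IsIso ((homologyFunctor A p).map (((τ).truncLTι (j + 1)).app K)) :=
        isIso_of_mono_of_epi _
      exact IsIso.of_isIso_comp_right _ ((homologyFunctor A p).map (((τ).truncLTι (j + 1)).app K))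
    · exact ⟨0, (isZero_of_isLE _ j p hp).eq_of_src _ _, (isZero_of_isLE _ j p hp).eq_of_src _ _⟩
  exact ⟨v ≫ inv u, by rw [← hu, Category.assoc, IsIso.inv_hom_id_assoc, hv]⟩

/-- A map to `≥ j` which is an isomorphism on `H^p`, `p ≥ j`, has the universal property of
`τ_{≥j}`. -/
theorem exists_desc_of_isIso {P K N : DerivedCategory A} (j : ℤ) [P.IsGE j] [N.IsGE j]
    (π : K ⟶ P) (hπ : ∀ p, j ≤ p → IsIso ((homologyFunctor A p).map π)) (g : K ⟶ N) :
    ∃ g' : P ⟶ N, π ≫ g' = g := by
  obtain ⟨u, hu⟩ : ∃ u : ((τ).truncGE j).obj K ⟶ P, ((τ).truncGEπ j).app K ≫ u = π :=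
    ⟨(τ).descTruncGE π j, (τ).π_descTruncGE π j⟩
  obtain ⟨v, hv⟩ : ∃ v : ((τ).truncGE j).obj K ⟶ N, ((τ).truncGEπ j).app K ≫ v = g :=
    ⟨(τ).descTruncGE g j, (τ).π_descTruncGE g j⟩
  have : IsIso u := by
    rw [DerivedCategory.isIso_iff]
    intro p
    rcases lt_or_ge p j with hp | hp
    · exact ⟨0, (isZero_of_isGE _ j p hp).eq_of_src _ _, (isZero_of_isGE _ j p hp).eq_of_src _ _⟩
    · have h1 := hπ p hp
      rw [← hu, Functor.map_comp] at h1
      have := DCat.epi_homology_truncGEπ K j p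
      have : IsSplitMono ((homologyFunctor A p).map (((τ).truncGEπ j).app K)) :=
        ⟨⟨⟨(homologyFunctor A p).map u ≫ inv ((homologyFunctor A p).map
          (((τ).truncGEπ j).app K) ≫ (homologyFunctor A p).map u), by
            rw [← Category.assoc, IsIso.hom_inv_id]⟩⟩⟩
      have : IsIso ((homologyFunctor A p).map (((τ).truncGEπ j).app K)) := isIso_of_mono_of_epi _
      exact IsIso.of_isIso_comp_left ((homologyFunctor A p).map (((τ).truncGEπ j).app K)) _
  exact ⟨inv u ≫ v, by rw [← hu, Category.assoc, IsIso.hom_inv_id_assoc, hv]⟩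

theorem isIso_homology_Q_map {K L : CochainComplex A ℤ} (f : K ⟶ L) (p : ℤ) [QuasiIsoAt f p] :
    IsIso ((homologyFunctor A p).map (Q.map f)) :=
  (NatIso.isIso_map_iff (homologyFunctorFactors A p) f).2
    (inferInstanceAs (IsIso (HomologicalComplex.homologyMap f p)))

theorem isIso_homology_truncGEπ (X : DerivedCategory A) {a p : ℤ} (h : a ≤ p) :
    IsIso ((homologyFunctor A p).map (((τ).truncGEπ a).app X)) := by
  have := DCat.epi_homology_truncGEπ X a p
  have : Mono ((homologyFunctor A p).map (((τ).truncGEπ a).app X)) := by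
    refine (HomologySequence.mono_homologyMap_mor₂_iff _
      ((τ).triangleLTGE_distinguished a X) p).2 ?_
    have : (((τ).truncLT a).obj X).IsLE (a - 1) := (τ).isLE_truncLT_obj _ _ _ (by omega)
    exact (isZero_of_isLE (((τ).truncLT a).obj X) (a - 1) p (by omega)).eq_of_src _ _
  exact isIso_of_mono_of_epi _

theorem isIso_homology_truncLTι (X : DerivedCategory A) {b p : ℤ} (h : p < b) :
    IsIso ((homologyFunctor A p).map (((τ).truncLTι b).app X)) := by
  have := DCat.mono_homology_truncLTι X b p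
  have : Epi ((homologyFunctor A p).map (((τ).truncLTι b).app X)) := by
    refine (HomologySequence.epi_homologyMap_mor₁_iff _
      ((τ).triangleLTGE_distinguished b X) p).2 ?_
    have : (((τ).truncGE b).obj X).IsGE b := inferInstance
    exact (isZero_of_isGE (((τ).truncGE b).obj X) b p h).eq_of_tgt _ _
  exact isIso_of_mono_of_epi _

theorem isGE_truncLT_obj' (X : DerivedCategory A) (a b : ℤ) [X.IsGE a] :
    (((τ).truncLT b).obj X).IsGE a :=
  (inferInstance : (((τ).truncLT b).obj X).IsGE a)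

theorem homology_truncGE_map_eq_zero {X Y : DerivedCategory A} (f : X ⟶ Y) (a p : ℤ)
    (h : (homologyFunctor A p).map f = 0) :
    (homologyFunctor A p).map (((τ).truncGE a).map f) = 0 := by
  have := DCat.epi_homology_truncGEπ X a p
  rw [← cancel_epi ((homologyFunctor A p).map (((τ).truncGEπ a).app X)), ← Functor.map_comp,
    comp_zero]
  refine (congrArg _ (((τ).truncGEπ a).naturality f).symm).trans ?_
  rw [Functor.map_comp]
  exact (congrArg (· ≫ _) h).trans zero_comp

theorem homology_truncLT_map_eq_zero {X Y : DerivedCategory A} (f : X ⟶ Y) (b p : ℤ)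
    (h : (homologyFunctor A p).map f = 0) :
    (homologyFunctor A p).map (((τ).truncLT b).map f) = 0 := by
  have := DCat.mono_homology_truncLTι Y b p
  rw [← cancel_mono ((homologyFunctor A p).map (((τ).truncLTι b).app Y)), ← Functor.map_comp,
    zero_comp]
  refine (congrArg _ (((τ).truncLTι b).naturality f)).trans ?_
  rw [Functor.map_comp]
  exact (congrArg (_ ≫ ·) h).trans comp_zero

end Groth.Agent.CommAlg4.GhostLift
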