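import Groth.Agent.CommAlg4.EssConstTri
import Groth.Agent.CommAlg4.GhostLift

/-! Essentially constant systems in a derived category via cohomology. -/
set_option autoImplicit false
set_option backward.isDefEq.respectTransparency false
set_option backward.defeqAttrib.useBackward true
set_option linter.style.haveILetI false
universe w v u
open CategoryTheory CategoryTheory.Limits CategoryTheory.Pretriangulated Opposite DerivedCategory

namespace Groth.Agent.CommAlg4.EssConstDer

variable {A : Type u} [Category.{v} A] [Abelian A] [HasDerivedCategory.{w} A]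

local notation "τ" => (DerivedCategory.TStructure.t (C := A))

theorem essConst_of_iso {C : Type u} [Category.{v} C] {X Y : ARSys.PS C} {B : C} (e : X ≅ Y)
    (c : (Functor.const ℕᵒᵖ).obj B ⟶ X) (h : DerCA.IsEssConstant X B c) :
    DerCA.IsEssConstant Y B (c ≫ e.hom) := by
  obtain ⟨i, s, hs, hf⟩ := h
  refine ⟨i, e.inv.app (op i) ≫ s, ?_, fun j => ?_⟩
  · simpa using hs
  · obtain ⟨k, hi, hj, hk⟩ := hf j
    refine ⟨k, hi, hj, ?_⟩
    have := congrArg (fun w => e.inv.app (op k) ≫ w ≫ e.hom.app (op j)) hk
    simp only [Category.assoc] at this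
    have e1 : ∀ {a b : ℕ} (hab : a ≤ b), e.inv.app (op b) ≫ ARSys.tr X hab =
        ARSys.tr Y hab ≫ e.inv.app (op a) := fun hab => (e.inv.naturality _).symm
    rw [← Category.assoc, e1 hj, Category.assoc, e.inv_hom_id_app, Category.comp_id,
      ← Category.assoc (e.inv.app _), e1 hi] at this
    simpa using this

/-- Two maps between objects concentrated in one degree agree if they agree on cohomology. -/
theorem eq_of_homology {X Y : DerivedCategory A} (b : ℤ) [X.IsLE b] [Y.IsGE b] (f g : X ⟶ Y)
    (h : (homologyFunctor A b).map f = (homologyFunctor A b).map g) : f = g := by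
  rw [← sub_eq_zero]
  exact GhostLift.eq_zero_of_homology b _ (by rw [Functor.map_sub, h, sub_self])

theorem main : ∀ (d : ℕ) (a b : ℤ), b = a + d → ∀ (X : ARSys.PS (DerivedCategory A)),
    (∀ n, (X.obj (op n)).IsGE a) → (∀ n, (X.obj (op n)).IsLE b) →
    (∀ i : ℤ, ∃ (B : A) (c : (Functor.const ℕᵒᵖ).obj B ⟶ X ⋙ homologyFunctor A i),
      DerCA.IsEssConstant (X ⋙ homologyFunctor A i) B c) →
    ∃ (L : DerivedCategory A) (c : (Functor.const ℕᵒᵖ).obj L ⟶ X), DerCA.IsEssConstant X L c := by
  intro d
  induction d with
  | zero =>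
    intro a b hb X hGE hLE hH
    obtain rfl : b = a := by simpa using hb
    obtain ⟨B, c, i, s, hs, hf⟩ := hH b
    let L := (singleFunctor A b).obj B
    let α := (singleFunctorCompHomologyFunctorIso A b).app B
    have hLL : L.IsLE b ∧ L.IsGE b :=
      ⟨inferInstanceAs (((singleFunctor A b).obj B).IsLE b),
        inferInstanceAs (((singleFunctor A b).obj B).IsGE b)⟩
    have := hLL.1
    have := hLL.2
    have surj : ∀ {U V : DerivedCategory A}, U.IsGE b → U.IsLE b → V.IsGE b → V.IsLE b →
        ∀ φ : (homologyFunctor A b).obj U ⟶ (homologyFunctor A b).obj V,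
        ∃ g : U ⟶ V, (homologyFunctor A b).map g = φ := by
      intro U V _ _ _ _ φ
      obtain ⟨M, ⟨eU⟩⟩ := exists_iso_singleFunctor_obj_of_isGE_of_isLE U b
      obtain ⟨N, ⟨eV⟩⟩ := exists_iso_singleFunctor_obj_of_isGE_of_isLE V b
      let aM := (singleFunctorCompHomologyFunctorIso A b).app M
      let aN := (singleFunctorCompHomologyFunctorIso A b).app N
      refine ⟨eU.hom ≫ (singleFunctor A b).map (aM.inv ≫ (homologyFunctor A b).map eU.inv ≫ φ ≫
        (homologyFunctor A b).map eV.hom ≫ aN.hom) ≫ eV.inv, ?_⟩
      have nat : ∀ (ψ : M ⟶ N), (homologyFunctor A b).map ((singleFunctor A b).map ψ) =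
          aM.hom ≫ ψ ≫ aN.inv := fun ψ => by
        rw [← Category.assoc, Iso.eq_comp_inv]
        exact (singleFunctorCompHomologyFunctorIso A b).hom.naturality ψ
      rw [Functor.map_comp, Functor.map_comp, nat]
      simp [← Functor.map_comp]
    choose g hg using fun n => surj (U := L) (V := X.obj (op n)) hLL.2 hLL.1 (hGE n) (hLE n)
      (α.hom ≫ c.app (op n))
    obtain ⟨t, ht⟩ := surj (U := X.obj (op i)) (V := L) (hGE i) (hLE i) hLL.2 hLL.1 (s ≫ α.inv)
    have hnat : ∀ {m n : ℕ} (h : m ≤ n), g n ≫ ARSys.tr X h = g m := fun {m n} h => by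
      have := hGE m
      refine eq_of_homology b _ _ ?_
      rw [Functor.map_comp, hg, hg, Category.assoc]
      exact congrArg (α.hom ≫ ·) (EssConstTri.cone_tr c h)
    refine ⟨L, { app := fun n => g n.unop, naturality := fun p q f => ?_ }, i, t, ?_, fun j => ?_⟩
    · have : f = (homOfLE (leOfHom f.unop)).op := rfl
      rw [this]
      exact (Category.id_comp _).trans (hnat _).symm
    · show g i ≫ t = 𝟙 L
      refine eq_of_homology b _ _ ?_
      rw [Functor.map_comp, hg, ht]
      simp [reassoc_of% hs]
    · obtain ⟨k, hi, hj, hk⟩ := hf j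
      refine ⟨k, hi, hj, ?_⟩
      have := hLE k
      have := hGE j
      refine eq_of_homology b _ _ ?_
      show _ = (homologyFunctor A b).map (ARSys.tr X hi ≫ t ≫ g j)
      rw [Functor.map_comp, Functor.map_comp, ht, hg]
      refine hk.trans ?_
      simp [ARSys.tr]
  | succ d ih =>
    intro a b hb X hGE hLE hH
    let X' : ARSys.PS (DerivedCategory A) := X ⋙ (τ).truncLT b
    let Z : ARSys.PS (DerivedCategory A) := X ⋙ (τ).truncGE b
    have zero_ec : ∀ (U : ARSys.PS A), (∀ n, IsZero (U.obj (op n))) →
        ∃ (B : A) (c : (Functor.const ℕᵒᵖ).obj B ⟶ U), DerCA.IsEssConstant U B c := fun U hU =>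
      ⟨U.obj (op 0), { app := fun n => 0, naturality := fun _ _ _ => (hU _).eq_of_tgt _ _ },
        0, 0, (hU 0).eq_of_src _ _, fun j => ⟨j, Nat.zero_le j, le_rfl, (hU j).eq_of_src _ _⟩⟩
    have hX'LE : ∀ n, (X'.obj (op n)).IsLE (a + d) := fun n =>
      (τ).isLE_truncLT_obj _ _ _ (by omega)
    have hX'GE : ∀ n, (X'.obj (op n)).IsGE a := fun n => by
      have := hGE n
      exact GhostLift.isGE_truncLT_obj' _ a b
    have hZGE : ∀ n, (Z.obj (op n)).IsGE b := fun n =>
      (inferInstance : (((τ).truncGE b).obj (X.obj (op n))).IsGE b)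
    have hZLE : ∀ n, (Z.obj (op n)).IsLE b := fun n => by
      have := hLE n
      rw [isLE_iff]
      intro i hi
      have := GhostLift.isIso_homology_truncGEπ (A := A) (X.obj (op n)) (show b ≤ i by omega)
      exact IsZero.of_iso (isZero_of_isLE (X.obj (op n)) b i hi)
        (asIso ((homologyFunctor A i).map (((τ).truncGEπ b).app (X.obj (op n))))).symm
    obtain ⟨L', cL', hL'⟩ := ih a (a + d) rfl X' hX'GE hX'LE (fun i => by
      by_cases hi : i < b
      · obtain ⟨B, c, hc⟩ := hH i
        let e : X' ⋙ homologyFunctor A i ≅ X ⋙ homologyFunctor A i :=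
          NatIso.ofComponents (fun n =>
            haveI := GhostLift.isIso_homology_truncLTι (A := A) (X.obj n) hi
            asIso ((homologyFunctor A i).map (((τ).truncLTι b).app (X.obj n)))) (fun {p q} f => by
            dsimp [X']
            rw [← Functor.map_comp, ← Functor.map_comp]
            exact congrArg _ (((τ).truncLTι b).naturality (X.map f)))
        exact ⟨B, c ≫ e.inv, essConst_of_iso e.symm c hc⟩
      · exact zero_ec _ fun n => by
          have := hX'LE n
          exact isZero_of_isLE (X'.obj (op n)) (a + d) i (by omega))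
    obtain ⟨LZ, cZ, hLZ⟩ : ∃ (L : DerivedCategory A) (c : (Functor.const ℕᵒᵖ).obj L ⟶ Z),
        DerCA.IsEssConstant Z L c := by
      exact ih (b - d) b (by omega) Z (fun n => by
            have := hZGE n
            exact (τ).isGE_of_ge (Z.obj (op n)) (b - d) b (by omega)) hZLE (fun i => by
          by_cases hi : i = b
          · subst hi
            obtain ⟨B, c, hc⟩ := hH i
            let e : X ⋙ homologyFunctor A i ≅ Z ⋙ homologyFunctor A i :=
              NatIso.ofComponents (fun n =>
                haveI := GhostLift.isIso_homology_truncGEπ (A := A) (X.obj n) (le_refl i)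
                asIso ((homologyFunctor A i).map (((τ).truncGEπ i).app (X.obj n)))) (fun {p q} f => by
                dsimp [Z]
                rw [← Functor.map_comp, ← Functor.map_comp]
                exact congrArg _ (((τ).truncGEπ i).naturality (X.map f)))
            exact ⟨B, c ≫ e.hom, essConst_of_iso e c hc⟩
          · exact zero_ec _ fun n => by
              have := hZLE n
              have := hZGE n
              rcases lt_or_gt_of_ne hi with h | h
              · exact isZero_of_isGE (Z.obj (op n)) b i h
              · exact isZero_of_isLE (Z.obj (op n)) b i h)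
    exact EssConstTri.two_out_of_three X' X Z (Functor.whiskerLeft X ((τ).truncLTι b))
      (Functor.whiskerLeft X ((τ).truncGEπ b)) (Functor.whiskerLeft X ((τ).truncGEδLT b))
      (fun n => (τ).triangleLTGE_distinguished b (X.obj (op n))) cL' hL' cZ hLZ

end Groth.Agent.CommAlg4.EssConstDer
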