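import Mathlib
import Groth.Prelude.Def_DerCA

/-! Essentially constant systems in a triangulated category. -/
set_option autoImplicit false
set_option linter.style.haveILetI false
universe v u
open CategoryTheory CategoryTheory.Limits Opposite CategoryTheory.Pretriangulated

namespace Groth.Agent.CommAlg4.EssConstTri

variable {D : Type u} [Category.{v} D]

theorem tr_tr (X : ARSys.PS D) {a b c : ℕ} (h : a ≤ b) (h' : b ≤ c) :
    ARSys.tr X h' ≫ ARSys.tr X h = ARSys.tr X (h.trans h') := by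
  rw [← X.map_comp]; rfl

theorem cone_tr {X : ARSys.PS D} {A : D} (c : (Functor.const ℕᵒᵖ).obj A ⟶ X) {a b : ℕ} (h : a ≤ b) :
    (c.app (op b) : A ⟶ X.obj (op b)) ≫ ARSys.tr X h = c.app (op a) :=
  ((c.naturality (homOfLE h).op).symm.trans (Category.id_comp _))

/-- A value map for an essentially constant system, at every late index. -/
theorem exists_value {X : ARSys.PS D} {A : D} (c : (Functor.const ℕᵒᵖ).obj A ⟶ X)
    (hc : DerCA.IsEssConstant X A c) :
    ∃ (i : ℕ) (s : ∀ k, i ≤ k → (X.obj (op k) ⟶ A)),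
      (∀ k (hk : i ≤ k), (c.app (op k) : A ⟶ X.obj (op k)) ≫ s k hk = 𝟙 A) ∧
      (∀ k m (hk : i ≤ k) (hm : k ≤ m), ARSys.tr X hm ≫ s k hk = s m (hk.trans hm)) ∧
      (∀ j, ∃ m₀, ∀ m (_ : m₀ ≤ m) (hi : i ≤ m) (hj : j ≤ m),
        ARSys.tr X hj = s m hi ≫ (c.app (op j) : A ⟶ X.obj (op j))) := by
  obtain ⟨i, s, hs, hfac⟩ := hc
  refine ⟨i, fun k hk => ARSys.tr X hk ≫ s, fun k hk => ?_, fun k m hk hm => ?_, fun j => ?_⟩
  · rw [← Category.assoc, cone_tr c hk]; exact hs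
  · rw [← Category.assoc, tr_tr X hk hm]
  · obtain ⟨k, hik, hjk, hk⟩ := hfac j
    refine ⟨k, fun m hkm hi hj => ?_⟩
    rw [← tr_tr X hjk hkm, hk, ← Category.assoc, tr_tr X hik hkm, Category.assoc]

variable [Preadditive D] [HasZeroObject D] [HasShift D ℤ]
  [∀ n : ℤ, (shiftFunctor D n).Additive] [Pretriangulated D]

theorem two_out_of_three (X Y Z : ARSys.PS D) (f : X ⟶ Y) (g : Y ⟶ Z) (h : Z ⟶ X ⋙ shiftFunctor D (1 : ℤ))
    (hT : ∀ n : ℕ, Triangle.mk (f.app (op n)) (g.app (op n)) (h.app (op n)) ∈ distinguishedTriangles)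
    {A C : D} (cA : (Functor.const ℕᵒᵖ).obj A ⟶ X) (hA : DerCA.IsEssConstant X A cA)
    (cC : (Functor.const ℕᵒᵖ).obj C ⟶ Z) (hC : DerCA.IsEssConstant Z C cC) :
    ∃ (B : D) (cB : (Functor.const ℕᵒᵖ).obj B ⟶ Y), DerCA.IsEssConstant Y B cB := by
  obtain ⟨iA, sA, hsA1, hsA2, hsA3⟩ := exists_value cA hA
  obtain ⟨iC, sC, hsC1, hsC2, hsC3⟩ := exists_value cC hC
  let F := shiftFunctor D (1 : ℤ)
  have hnat : ∀ {a b : ℕ} (hab : a ≤ b), ARSys.tr Z hab ≫ h.app (op a) = h.app (op b) ≫ F.map (ARSys.tr X hab) :=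
    fun hab => h.naturality _
  have gnat : ∀ {a b : ℕ} (hab : a ≤ b), ARSys.tr Y hab ≫ g.app (op a) = g.app (op b) ≫ ARSys.tr Z hab :=
    fun hab => g.naturality _
  have fnat : ∀ {a b : ℕ} (hab : a ≤ b), ARSys.tr X hab ≫ f.app (op a) = f.app (op b) ≫ ARSys.tr Y hab :=
    fun hab => f.naturality _
  let k0 := max iA iC
  let δ : C ⟶ F.obj A := (cC.app (op k0) : C ⟶ Z.obj (op k0)) ≫ h.app (op k0) ≫ F.map (sA k0 (le_max_left _ _))
  obtain ⟨m0, hm0⟩ := hsC3 k0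
  obtain ⟨B, fB, gB, hTB⟩ := distinguished_cocone_triangle₂ δ
  let m1 := max m0 k0
  have hA1 : iA ≤ m1 := (le_max_left iA iC).trans (le_max_right m0 k0)
  have hC1 : iC ≤ m1 := (le_max_right iA iC).trans (le_max_right m0 k0)
  have hδ : ∀ m (hm : m1 ≤ m), h.app (op m) ≫ F.map (sA m (hA1.trans hm)) = sC m (hC1.trans hm) ≫ δ := by
    intro m hm
    have hkm : k0 ≤ m := (le_max_right m0 k0).trans hm
    rw [← Category.assoc, ← hm0 m ((le_max_left m0 k0).trans hm) (hC1.trans hm) hkm, ← Category.assoc,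
      hnat hkm, Category.assoc, ← F.map_comp, hsA2 k0 m (le_max_left _ _) hkm]
  obtain ⟨s1, hs1f, hs1g⟩ : ∃ s1 : Y.obj (op m1) ⟶ B,
      f.app (op m1) ≫ s1 = sA m1 hA1 ≫ fB ∧ g.app (op m1) ≫ sC m1 hC1 = s1 ≫ gB :=
    complete_distinguished_triangle_morphism₂ _ _ (hT m1) hTB (sA m1 hA1) (sC m1 hC1) (hδ m1 le_rfl)
  let s : ∀ m, m1 ≤ m → (Y.obj (op m) ⟶ B) := fun m hm => ARSys.tr Y hm ≫ s1
  have hsf : ∀ m (hm : m1 ≤ m), f.app (op m) ≫ s m hm = sA m (hA1.trans hm) ≫ fB := fun m hm => by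
    show f.app (op m) ≫ ARSys.tr Y hm ≫ s1 = _
    rw [← Category.assoc, ← fnat hm, Category.assoc, hs1f, ← Category.assoc, hsA2 m1 m hA1 hm]
  have hsg : ∀ m (hm : m1 ≤ m), s m hm ≫ gB = g.app (op m) ≫ sC m (hC1.trans hm) := fun m hm => by
    show (ARSys.tr Y hm ≫ s1) ≫ gB = _
    rw [Category.assoc, ← hs1g, ← Category.assoc, gnat hm, Category.assoc, hsC2 m1 m hC1 hm]
  have hstr : ∀ k m (hk : m1 ≤ k) (hm : k ≤ m), ARSys.tr Y hm ≫ s k hk = s m (hk.trans hm) := fun k m hk hm => by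
    show ARSys.tr Y hm ≫ ARSys.tr Y hk ≫ s1 = ARSys.tr Y (hk.trans hm) ≫ s1
    rw [← Category.assoc, tr_tr Y hk hm]
  have surj : ∀ (W : D) (n : ℕ) (φ : Y.obj (op n) ⟶ W), ∃ (ψ : B ⟶ W) (M : ℕ), ∀ m (_ : M ≤ m) (h1 : m1 ≤ m)
      (hn : n ≤ m), ARSys.tr Y hn ≫ φ = s m h1 ≫ ψ := by
    intro W n φ
    obtain ⟨MA, hMA⟩ := hsA3 n
    let α : A ⟶ W := (cA.app (op n) : A ⟶ X.obj (op n)) ≫ f.app (op n) ≫ φ
    let p := max (max MA m1) n
    have hp1 : m1 ≤ p := (le_max_right _ _).trans (le_max_left _ _)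
    have hpn : n ≤ p := le_max_right _ _
    have hα : sA p (hA1.trans hp1) ≫ α = f.app (op p) ≫ ARSys.tr Y hpn ≫ φ := by
      rw [← Category.assoc (sA p _), ← hMA p ((le_max_left _ _).trans (le_max_left _ _)) (hA1.trans hp1) hpn,
        ← Category.assoc, fnat hpn, Category.assoc]
    have hδα : δ ≫ F.map α = 0 := by
      have h0 : h.app (op p) ≫ F.map (f.app (op p)) = 0 := comp_distTriang_mor_zero₃₁ _ (hT p)
      have h1 : sC p (hC1.trans hp1) ≫ δ ≫ F.map α = 0 := by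
        rw [← Category.assoc, ← hδ p hp1, Category.assoc, ← F.map_comp, hα, F.map_comp, ← Category.assoc, h0, zero_comp]
      calc δ ≫ F.map α = ((cC.app (op p) : C ⟶ Z.obj (op p)) ≫ sC p (hC1.trans hp1)) ≫ δ ≫ F.map α :=
            (Category.id_comp _).symm.trans (congrArg (· ≫ δ ≫ F.map α) (hsC1 p _).symm)
        _ = 0 := by rw [Category.assoc, h1, comp_zero]
    obtain ⟨η, hη⟩ := Triangle.yoneda_exact₃ _ (rot_of_distTriang _ hTB) (F.map α) hδα
    obtain ⟨η', hη⟩ : ∃ η' : B ⟶ W, F.map α = (-F.map fB) ≫ F.map η' := by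
      obtain ⟨η', rfl⟩ := F.map_surjective η
      exact ⟨η', hη⟩
    have hψ0 : fB ≫ (-η') = α := F.map_injective (by
      rw [F.map_comp, F.map_neg, Preadditive.comp_neg, hη, Preadditive.neg_comp])
    obtain ⟨ζ, hζ⟩ := Triangle.yoneda_exact₂ _ (hT p) (ARSys.tr Y hpn ≫ φ - s p hp1 ≫ (-η')) (by
      show f.app (op p) ≫ (ARSys.tr Y hpn ≫ φ - s p hp1 ≫ (-η')) = 0
      rw [Preadditive.comp_sub, ← Category.assoc (f.app (op p)) (s p hp1), hsf, Category.assoc, hψ0, hα, sub_self])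
    change Z.obj (op p) ⟶ W at ζ
    change ARSys.tr Y hpn ≫ φ - s p hp1 ≫ (-η') = g.app (op p) ≫ ζ at hζ
    obtain ⟨MC, hMC⟩ := hsC3 p
    refine ⟨-η' + gB ≫ (cC.app (op p) : C ⟶ Z.obj (op p)) ≫ ζ, max MC p, fun m hm h1 hn => ?_⟩
    have hpm : p ≤ m := (le_max_right _ _).trans hm
    have e := ARSys.tr Y hpm ≫= hζ
    rw [Preadditive.comp_sub, ← Category.assoc, tr_tr Y hpn hpm, ← Category.assoc, hstr p m hp1 hpm,
      ← Category.assoc, gnat hpm, Category.assoc,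
      hMC m ((le_max_left _ _).trans hm) (hC1.trans h1) hpm, sub_eq_iff_eq_add'] at e
    rw [e, Preadditive.comp_add, ← Category.assoc (s m h1) gB, hsg]
    simp only [Category.assoc, s]
  have inj : ∀ (W : D) (ψ : B ⟶ W) (m : ℕ) (hm : m1 ≤ m), s m hm ≫ ψ = 0 → ψ = 0 := by
    intro W ψ m hm hψ
    have h0 : fB ≫ ψ = 0 := by
      calc fB ≫ ψ = ((cA.app (op m) : A ⟶ X.obj (op m)) ≫ sA m (hA1.trans hm)) ≫ fB ≫ ψ :=
            (Category.id_comp _).symm.trans (congrArg (· ≫ fB ≫ ψ) (hsA1 m _).symm)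
        _ = 0 := by
            rw [Category.assoc, ← Category.assoc (sA m _), ← hsf m hm, Category.assoc, hψ, comp_zero, comp_zero]
    obtain ⟨γ, hγ⟩ := Triangle.yoneda_exact₂ _ hTB ψ h0
    change C ⟶ W at γ
    change ψ = gB ≫ γ at hγ
    obtain ⟨η, hη⟩ := Triangle.yoneda_exact₃ _ (hT m) (sC m (hC1.trans hm) ≫ γ) (by
      show g.app (op m) ≫ sC m _ ≫ γ = 0
      rw [← Category.assoc, ← hsg m hm, Category.assoc, ← hγ, hψ])
    change F.obj (X.obj (op m)) ⟶ W at η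
    change sC m _ ≫ γ = h.app (op m) ≫ η at hη
    let e := (shiftFunctorCompIsoId D (-1 : ℤ) (1 : ℤ) (by norm_num)).app W
    obtain ⟨η', hη'⟩ := F.map_surjective (η ≫ e.inv)
    have hη2 : η = F.map η' ≫ e.hom := by rw [hη', Category.assoc, Iso.inv_hom_id, Category.comp_id]
    obtain ⟨MA, hMA⟩ := hsA3 m
    let q := max MA m
    have hqm : m ≤ q := le_max_right _ _
    have h3 : sC q (hC1.trans (hm.trans hqm)) ≫ γ = sC q (hC1.trans (hm.trans hqm)) ≫ δ ≫
        F.map ((cA.app (op m) : A ⟶ X.obj (op m)) ≫ η') ≫ e.hom := by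
      rw [← Category.assoc (sC q _) δ, ← hδ q (hm.trans hqm), Category.assoc, ← Category.assoc (F.map (sA q _)),
        ← F.map_comp, ← Category.assoc (sA q _), ← hMA q (le_max_left _ _) _ hqm, F.map_comp, Category.assoc,
        ← hη2, ← Category.assoc, ← hnat hqm, Category.assoc, ← hη, ← Category.assoc, hsC2 m q _ hqm]
    have h4 : γ = δ ≫ F.map ((cA.app (op m) : A ⟶ X.obj (op m)) ≫ η') ≫ e.hom := by
      have := (cC.app (op q) : C ⟶ Z.obj (op q)) ≫= h3
      have e1 : ∀ (x : C ⟶ W), (cC.app (op q) : C ⟶ Z.obj (op q)) ≫ sC q (hC1.trans (hm.trans hqm)) ≫ x = x := fun x =>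
        (Category.assoc _ _ _).symm.trans ((congrArg (· ≫ x) (hsC1 q _)).trans (Category.id_comp x))
      exact (e1 γ).symm.trans (this.trans (e1 _))
    have hgd : gB ≫ δ = 0 := comp_distTriang_mor_zero₂₃ _ hTB
    rw [hγ, h4, ← Category.assoc, hgd, zero_comp]
  choose ψ M hM using fun j => surj (Y.obj (op j)) j (𝟙 _)
  simp only [Category.comp_id] at hM
  let cB : (Functor.const ℕᵒᵖ).obj B ⟶ Y :=
    { app := fun j => ψ j.unop
      naturality := fun a b u => by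
        obtain ⟨a⟩ := a
        obtain ⟨b⟩ := b
        have hab : b ≤ a := leOfHom u.unop
        show 𝟙 B ≫ ψ b = ψ a ≫ ARSys.tr Y hab
        let m := max (max (M a) (M b)) (max m1 a)
        have h1 : m1 ≤ m := (le_max_left _ _).trans (le_max_right _ _)
        have ha : a ≤ m := (le_max_right _ _).trans (le_max_right _ _)
        rw [Category.id_comp, ← sub_eq_zero]
        refine inj _ _ m h1 ?_
        rw [Preadditive.comp_sub, ← Category.assoc, ← hM b m ((le_max_right _ _).trans (le_max_left _ _)) h1 (hab.trans ha),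
          ← hM a m ((le_max_left _ _).trans (le_max_left _ _)) h1 ha, tr_tr, sub_self] }
  have hsplit : ψ m1 ≫ s1 = 𝟙 B := by
    let m := max (M m1) m1
    have h1 : m1 ≤ m := le_max_right _ _
    rw [← sub_eq_zero]
    refine inj _ _ m h1 ?_
    rw [Preadditive.comp_sub, ← Category.assoc, ← hM m1 m (le_max_left _ _) h1 h1, Category.comp_id, sub_self]
  refine ⟨B, cB, m1, s1, hsplit, fun j => ?_⟩
  let m := max (max m1 j) (M j)
  have h1 : m1 ≤ m := (le_max_left _ _).trans (le_max_left _ _)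
  have hj : j ≤ m := (le_max_right _ _).trans (le_max_left _ _)
  exact ⟨m, h1, hj, (hM j m (le_max_right _ _) h1 hj).trans (Category.assoc _ _ _)⟩

end Groth.Agent.CommAlg4.EssConstTri
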