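import Mathlib

/-!
# Morphisms locally essentially of finite type
-/

set_option autoImplicit false
set_option linter.all false

universe u

open CategoryTheory AlgebraicGeometry Limits TopologicalSpace

namespace Groth.Agent.CommAlg4.EssFT

variable {X Y Z : Scheme.{u}}

/-- The pair of opens `(U, V)` is essentially of finite type for `f`. -/
def Good (f : X ⟶ Y) (U : Y.Opens) (V : X.Opens) : Prop :=
  ∃ e : V ≤ f ⁻¹ᵁ U, (f.appLE U V e).hom.EssFiniteType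

theorem essFiniteType_res {U : X.Opens} (hU : IsAffineOpen U) (r : Γ(X, U)) (W : X.Opens) (hW : W = X.basicOpen r)
    (h : W ≤ U) : (X.presheaf.map (homOfLE h).op).hom.EssFiniteType := by
  subst hW
  letI := (X.presheaf.map (homOfLE h).op).hom.toAlgebra
  haveI : IsLocalization.Away r Γ(X, X.basicOpen r) := hU.isLocalization_basicOpen r
  show Algebra.EssFiniteType _ _
  exact .of_isLocalization _ (Submonoid.powers r)

theorem good_cover (f : X ⟶ Y) {U₀ : Y.Opens} (hU₀ : IsAffineOpen U₀) {V₀ : X.Opens} (hV₀ : IsAffineOpen V₀)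
    (h₀ : Good f U₀ V₀) {U : Y.Opens} (hU : IsAffineOpen U) {x : X} (hx₀ : x ∈ V₀) (hx : f x ∈ U) :
    ∃ V : X.Opens, IsAffineOpen V ∧ x ∈ V ∧ V ≤ V₀ ∧ Good f U V := by
  obtain ⟨e₀, he₀⟩ := h₀
  obtain ⟨a, c, hac, hxa⟩ := exists_basicOpen_le_affine_inter hU₀ hU (f x) ⟨e₀ hx₀, hx⟩
  set D := Y.basicOpen a with hD
  have hDU : D ≤ U := hac.trans_le (Y.basicOpen_le c)
  set V := X.basicOpen (f.appLE U₀ V₀ e₀ a) with hV
  have hVeq : V = V₀ ⊓ f ⁻¹ᵁ D := Scheme.basicOpen_appLE f V₀ U₀ e₀ a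
  have hVV₀ : V ≤ V₀ := X.basicOpen_le _
  have hVD : V ≤ f ⁻¹ᵁ D := hVeq.trans_le inf_le_right
  have hxV : x ∈ V := by rw [hVeq]; exact ⟨hx₀, hxa⟩
  refine ⟨V, hV₀.basicOpen _, hxV, hVV₀, ⟨hVD.trans (f.preimage_mono hDU), ?_⟩⟩
  have h1 : (f.appLE D V hVD).hom.EssFiniteType := by
    refine RingHom.EssFiniteType.of_comp (Y.presheaf.map (homOfLE (Y.basicOpen_le a)).op).hom ?_
    rw [← CommRingCat.hom_comp, Scheme.Hom.map_appLE,
      ← Scheme.Hom.appLE_map f e₀ (homOfLE hVV₀).op, CommRingCat.hom_comp]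
    exact he₀.comp (essFiniteType_res hV₀ _ _ hV hVV₀)
  rw [← Scheme.Hom.map_appLE f hVD (homOfLE hDU).op, CommRingCat.hom_comp]
  exact (essFiniteType_res hU c D hac hDU).comp h1

theorem cover_iff (f : X ⟶ Y) {U : Y.Opens} (hU : IsAffineOpen U)
    (h : ∀ x : X, f x ∈ U → ∃ V : X.affineOpens, x ∈ V.1 ∧ Good f U V.1) :
    ∃ T : Set X.affineOpens, (⋃ V ∈ T, ((V : X.Opens) : Set ↥X)) = ((f ⁻¹ᵁ U : X.Opens) : Set ↥X) ∧
      ∀ V ∈ T, Good f U V.1 := by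
  refine ⟨{V | Good f U V.1}, Set.Subset.antisymm (Set.iUnion₂_subset fun V hV => hV.1) fun x hx => ?_, fun V hV => hV⟩
  obtain ⟨V, hxV, hV⟩ := h x hx
  exact Set.mem_iUnion₂.2 ⟨V, hV, hxV⟩

theorem exists_good_of_cover (f : X ⟶ Y) {U : Y.Opens}
    {T : Set X.affineOpens} (hT : (⋃ V ∈ T, ((V : X.Opens) : Set ↥X)) = ((f ⁻¹ᵁ U : X.Opens) : Set ↥X))
    (hgood : ∀ V ∈ T, Good f U V.1) {x : X} (hx : f x ∈ U) : ∃ V : X.affineOpens, x ∈ V.1 ∧ Good f U V.1 := by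
  have : x ∈ ((f ⁻¹ᵁ U : X.Opens) : Set ↥X) := hx
  rw [← hT] at this
  obtain ⟨V, hV, hxV⟩ := Set.mem_iUnion₂.1 this
  exact ⟨V, hxV, hgood V hV⟩

theorem good_comp (f : X ⟶ Y) (g : Y ⟶ Z) {U : Z.Opens} {V : Y.Opens} {W : X.Opens}
    (hg : Good g U V) (hf : Good f V W) : Good (f ≫ g) U W := by
  obtain ⟨eg, hg⟩ := hg
  obtain ⟨ef, hf⟩ := hf
  refine ⟨ef.trans (f.preimage_mono eg), ?_⟩
  have h := hg.comp hf
  rw [← CommRingCat.hom_comp, Scheme.Hom.appLE_comp_appLE] at h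
  exact h

theorem good_baseChange {P Y' : Scheme.{u}} {f : X ⟶ Y} {g : Y' ⟶ Y} {fst : P ⟶ X} {snd : P ⟶ Y'}
    (H : IsPullback fst snd f g) {U : Y.Opens} {V : X.Opens} {D : Y'.Opens}
    (hU : IsAffineOpen U) (hV : IsAffineOpen V) (hD : IsAffineOpen D)
    (hf : Good f U V) (hDU : D ≤ g ⁻¹ᵁ U) :
    IsAffineOpen (fst ⁻¹ᵁ V ⊓ snd ⁻¹ᵁ D) ∧ Good snd D (fst ⁻¹ᵁ V ⊓ snd ⁻¹ᵁ D) := by
  obtain ⟨e, he⟩ := hf
  haveI : IsAffine (U : Scheme.{u}) := hU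
  haveI : IsAffine (V : Scheme.{u}) := hV
  haveI : IsAffine (D : Scheme.{u}) := hD
  refine ⟨.of_isIso (Scheme.Hom.isPullback_resLE H (UY := fst ⁻¹ᵁ V ⊓ snd ⁻¹ᵁ D) hDU e rfl).isoPullback.hom,
    inf_le_right, ?_⟩
  have h := (isIso_pushoutSection_iff H hDU e (UY := fst ⁻¹ᵁ V ⊓ snd ⁻¹ᵁ D) rfl).1
    (isIso_pushoutSection_of_isAffineOpen H hDU e rfl hU hD hV)
  rw [← h.flip.inl_isoPushout_inv, CommRingCat.hom_comp]
  exact RingHom.EssFiniteType.respectsIso.1 _ h.flip.isoPushout.symm.commRingCatIsoToRingEquiv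
    (RingHom.EssFiniteType.isStableUnderBaseChange.pushout_inl RingHom.EssFiniteType.respectsIso (g.appLE U D hDU) (f.appLE U V e) he)

end Groth.Agent.CommAlg4.EssFT
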