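import Mathlib
import Groth.Agent.ExtGen19.EpiKills

/-! When an exact functor induces bijections on all Ext groups into an object. -/
set_option autoImplicit false
set_option linter.style.haveILetI false
set_option backward.isDefEq.respectTransparency false
universe w w' v v' u u'
open CategoryTheory CategoryTheory.Limits CategoryTheory.Abelian

namespace Groth.Agent.CommAlg4.ExtEffaceable

variable {A : Type u} [Category.{v} A] [Abelian A] [HasExt.{w} A]
  {B : Type u'} [Category.{v'} B] [Abelian B] [HasExt.{w'} B]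
  (φ : A ⥤ B) [φ.Additive] [PreservesFiniteLimits φ] [PreservesFiniteColimits φ] (M : A)

theorem hom_bijective_iff :
    (∀ L : A, Function.Bijective (fun f : Ext.{w} L M 0 => Ext.mapExactFunctor φ f)) ↔
      (∀ L : A, Function.Bijective (fun f : L ⟶ M => φ.map f)) := by
  refine forall_congr' fun L => ?_
  rw [show (fun f : Ext.{w} L M 0 => Ext.mapExactFunctor φ f) = Ext.mapExactFunctor φ from rfl,
    Ext.mapExactFunctor₀, Equiv.comp_bijective, Equiv.bijective_comp]

theorem effaceable_of_bijective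
    (h : ∀ (L : A) (n : ℕ), Function.Bijective (fun f : Ext.{w} L M n => Ext.mapExactFunctor φ f))
    (L : A) (n : ℕ) (hn : 1 ≤ n) (x : Ext.{w'} (φ.obj L) (φ.obj M) n) :
    ∃ (L' : A) (p : L' ⟶ L), Epi p ∧ (Ext.mk₀ (φ.map p)).comp x (zero_add n) = 0 := by
  obtain ⟨k, rfl⟩ : ∃ k, n = k + 1 := ⟨n - 1, by omega⟩
  obtain ⟨e, rfl⟩ := (h L (k + 1)).2 x
  obtain ⟨E, π, hπ, he⟩ := ExtGen19.exists_epi_comp_eq_zero e
  refine ⟨E, π, hπ, ?_⟩
  rw [← Ext.mapExactFunctor_mk₀, ← Ext.mapExactFunctor_comp, he, Ext.mapExactFunctor_zero]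

theorem bijective_of_effaceable
    (h0 : ∀ L : A, Function.Bijective (fun f : L ⟶ M => φ.map f))
    (heff : ∀ (L : A) (n : ℕ), 1 ≤ n → ∀ x : Ext.{w'} (φ.obj L) (φ.obj M) n,
      ∃ (L' : A) (p : L' ⟶ L), Epi p ∧ (Ext.mk₀ (φ.map p)).comp x (zero_add n) = 0) :
    ∀ (n : ℕ) (L : A), Function.Bijective (fun f : Ext.{w} L M n => Ext.mapExactFunctor φ f)
  | 0 => (hom_bijective_iff φ M).2 h0
  | n + 1 => fun L => by
    have ih := bijective_of_effaceable h0 heff n
    constructor
    · intro e₁ e₂ he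
      rw [← sub_eq_zero]
      have he' : Ext.mapExactFunctor φ (e₁ - e₂) = 0 := by
        show φ.mapExtAddHom L M (n + 1) (e₁ - e₂) = 0
        rw [map_sub]
        exact sub_eq_zero.2 he
      obtain ⟨E, π, hπ, hk⟩ := ExtGen19.exists_epi_comp_eq_zero (e₁ - e₂)
      let S : ShortComplex A := ShortComplex.mk (kernel.ι π) π (kernel.condition π)
      have hS : S.ShortExact := { exact := ShortComplex.exact_kernel π }
      obtain ⟨e', he''⟩ := Ext.contravariant_sequence_exact₃ hS M (e₁ - e₂) hk
        (show 1 + n = n + 1 from add_comm 1 n)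
      have h1 : (hS.map_of_exact φ).extClass.comp (Ext.mapExactFunctor φ e') (add_comm 1 n) = 0 := by
        rw [← Ext.mapExactFunctor_extClass φ hS, ← Ext.mapExactFunctor_comp, he'', he']
      obtain ⟨y, hy⟩ := Ext.contravariant_sequence_exact₁ (hS.map_of_exact φ) (φ.obj M) _ (add_comm 1 n) h1
      obtain ⟨e'', rfl⟩ := (ih E).2 y
      have h2 : (Ext.mk₀ S.f).comp e'' (zero_add n) = e' := by
        refine (ih _).1 ?_
        show Ext.mapExactFunctor φ _ = Ext.mapExactFunctor φ e'
        rw [Ext.mapExactFunctor_comp, Ext.mapExactFunctor_mk₀]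
        exact hy
      rw [← he'', ← h2]
      exact hS.extClass_comp_assoc _
    · intro x
      obtain ⟨E, π, hπ, hk⟩ := heff L (n + 1) (by omega) x
      let S : ShortComplex A := ShortComplex.mk (kernel.ι π) π (kernel.condition π)
      have hS : S.ShortExact := { exact := ShortComplex.exact_kernel π }
      obtain ⟨y, hy⟩ := Ext.contravariant_sequence_exact₃ (hS.map_of_exact φ) (φ.obj M) x hk
        (show 1 + n = n + 1 from add_comm 1 n)
      obtain ⟨e', rfl⟩ := (ih _).2 y
      refine ⟨hS.extClass.comp e' (add_comm 1 n), ?_⟩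
      show Ext.mapExactFunctor φ _ = x
      rw [Ext.mapExactFunctor_comp, Ext.mapExactFunctor_extClass φ hS]
      exact hy

end Groth.Agent.CommAlg4.ExtEffaceable
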