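import Mathlib
import Groth.Prelude.Def_PolLaw
import Groth.Prelude.Def_PolLaw2

/-!
# Multiplicative homogeneous polynomial laws on a finite field extension

A multiplicative law `K → k`, homogeneous of degree `d`, is, over an algebraic closure `Ω`, a product
of powers of the embeddings `K → Ω`, all with the same exponent; the exponent is divisible by the
exponent of inseparability.
-/

set_option autoImplicit false

universe u

open scoped TensorProduct
open Polynomial

namespace Groth.Agent.CommAlg4.FieldLaws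

variable {k K : Type u} [Field k] [Field K] [Algebra k K]

/-- Multiplicative laws homogeneous of degree `d`, on test rings. -/
structure IsLaw (F : K →ₚₗ[k] k) (d : ℕ) : Prop where
  mult : ∀ (S : Type u) [CommRing S] [Algebra k S], F.toFun' S 1 = 1 ∧
    ∀ x y : S ⊗[k] K, F.toFun' S (x * y) = F.toFun' S x * F.toFun' S y
  homog : ∀ (S : Type u) [CommRing S] [Algebra k S] (a : S) (z : S ⊗[k] K),
    F.toFun' S (a • z) = a ^ d • F.toFun' S z

/-- The scalar value of a law. -/
noncomputable def value (F : K →ₚₗ[k] k) (S : Type u) [CommRing S] [Algebra k S] (z : S ⊗[k] K) : S :=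
  Algebra.TensorProduct.rid k S S (F.toFun' S z)

variable {F : K →ₚₗ[k] k} {d : ℕ}

lemma value_natural {S S' : Type u} [CommRing S] [Algebra k S] [CommRing S'] [Algebra k S']
    (φ : S →ₐ[k] S') (z : S ⊗[k] K) :
    φ (value F S z) = value F S' (φ.toLinearMap.rTensor K z) := by
  rw [value, value, ← PolynomialLaw.isCompat_apply' (f := F) φ z]
  generalize F.toFun' S z = w
  induction w using TensorProduct.induction_on with
  | zero => simp
  | tmul a b => simp
  | add a b ha hb => simp only [map_add, ha, hb]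

lemma toFun'_eq_value (S : Type u) [CommRing S] [Algebra k S] (z : S ⊗[k] K) :
    F.toFun' S z = value F S z ⊗ₜ[k] (1 : k) := by
  apply (Algebra.TensorProduct.rid k S S).injective
  simp [value]

lemma value_one (hF : IsLaw F d) (S : Type u) [CommRing S] [Algebra k S] : value F S 1 = 1 := by
  rw [value, (hF.mult S).1, map_one]

lemma value_mul (hF : IsLaw F d) (S : Type u) [CommRing S] [Algebra k S] (x y : S ⊗[k] K) :
    value F S (x * y) = value F S x * value F S y := by
  rw [value, (hF.mult S).2, map_mul]; rfl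

lemma value_smul (hF : IsLaw F d) (S : Type u) [CommRing S] [Algebra k S] (a : S) (z : S ⊗[k] K) :
    value F S (a • z) = a ^ d * value F S z := by
  rw [value, hF.homog S, map_smul]; rfl

lemma value_prod (hF : IsLaw F d) (S : Type u) [CommRing S] [Algebra k S] {ι : Type*} (s : Finset ι)
    (f : ι → S ⊗[k] K) : value F S (∏ i ∈ s, f i) = ∏ i ∈ s, value F S (f i) := by
  classical
  induction s using Finset.induction with
  | empty => simp [value_one hF]
  | insert a s ha ih => rw [Finset.prod_insert ha, Finset.prod_insert ha, value_mul hF, ih]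

lemma rTensor_smul_elt {S S' : Type u} [CommRing S] [Algebra k S] [CommRing S'] [Algebra k S']
    (φ : S →ₐ[k] S') (s : S) (z : S ⊗[k] K) :
    φ.toLinearMap.rTensor K (s • z) = φ s • φ.toLinearMap.rTensor K z := by
  induction z using TensorProduct.induction_on with
  | zero => simp
  | tmul a b => simp [TensorProduct.smul_tmul', LinearMap.rTensor_tmul]
  | add a b ha hb => simp only [smul_add, map_add, ha, hb]

lemma rTensor_apply_eq_map {S S' : Type u} [CommRing S] [Algebra k S] [CommRing S'] [Algebra k S']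
    (φ : S →ₐ[k] S') (z : S ⊗[k] K) :
    φ.toLinearMap.rTensor K z = Algebra.TensorProduct.map φ (AlgHom.id k K) z := by
  induction z using TensorProduct.induction_on with
  | zero => simp
  | tmul a b => simp
  | add a b ha hb => simp only [map_add, ha, hb]

/-- The value at `1 + ν` is `1` for nilpotent `ν`, over a domain. -/
lemma value_one_add_nilpotent (hF : IsLaw F d) {Q : Type u} [CommRing Q] [IsDomain Q] [Algebra k Q]
    {ν : Q ⊗[k] K} (hν : IsNilpotent ν) : value F Q (1 + ν) = 1 := by
  let ψ : Q →ₐ[k] Q[X] := (Polynomial.CAlgHom : Q →ₐ[Q] Q[X]).restrictScalars k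
  let ν' : Q[X] ⊗[k] K := (X : Q[X]) • Algebra.TensorProduct.map ψ (AlgHom.id k K) ν
  have hν' : IsNilpotent ν' := IsNilpotent.smul (hν.map _) _
  obtain ⟨w, hw⟩ := hν'.isUnit_one_add
  have hP : IsUnit (value F Q[X] (1 + ν')) := by
    refine IsUnit.of_mul_eq_one (value F Q[X] ↑w⁻¹) ?_
    rw [← value_mul hF, ← hw, Units.mul_inv, value_one hF]
  obtain ⟨c, -, hc⟩ := Polynomial.isUnit_iff.1 hP
  have key : ∀ t : Q, value F Q (1 + t • ν) = c := by
    intro t
    let ev : Q[X] →ₐ[k] Q := (Polynomial.aeval t).restrictScalars k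
    have h := value_natural (F := F) ev (1 + ν')
    rw [← hc] at h
    have hev : ev (C c) = c := by simp [ev]
    rw [hev, rTensor_apply_eq_map] at h
    rw [h]
    congr 1
    rw [map_add, map_one]
    congr 1
    rw [← rTensor_apply_eq_map, rTensor_smul_elt, rTensor_apply_eq_map]
    have hX : ev X = t := by simp [ev]
    rw [hX]
    congr 1
    rw [← AlgHom.comp_apply, ← Algebra.TensorProduct.map_comp]
    have : ev.comp ψ = AlgHom.id k Q := by
      ext q
      simp [ev, ψ]
    rw [this, AlgHom.id_comp, Algebra.TensorProduct.map_id]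
    rfl
  have h0 := key 0
  rw [zero_smul, add_zero, value_one hF] at h0
  have h1 := key 1
  rwa [one_smul, ← h0] at h1

variable (k K) in
/-- An algebraic closure of the base. -/
abbrev Om : Type u := AlgebraicClosure k

variable {Q : Type u} [CommRing Q] [Algebra k Q] [Algebra (AlgebraicClosure k) Q]
  [IsScalarTower k (AlgebraicClosure k) Q]

/-- The evaluation at an embedding. -/
noncomputable def ev (σ : K →ₐ[k] AlgebraicClosure k) : Q ⊗[k] K →ₐ[Q] Q :=
  Algebra.TensorProduct.lift (AlgHom.id Q Q)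
    ((IsScalarTower.toAlgHom k (AlgebraicClosure k) Q).comp σ) (fun _ _ => Commute.all _ _)

@[simp] lemma ev_tmul (σ : K →ₐ[k] AlgebraicClosure k) (q : Q) (y : K) :
    ev σ (q ⊗ₜ[k] y) = q * algebraMap (AlgebraicClosure k) Q (σ y) := by
  simp [ev]

/-- The canonical map `Ω ⊗ K → Q ⊗ K`. -/
noncomputable def jmap : AlgebraicClosure k ⊗[k] K →ₐ[k] Q ⊗[k] K :=
  Algebra.TensorProduct.map (IsScalarTower.toAlgHom k (AlgebraicClosure k) Q) (AlgHom.id k K)

lemma jmap_smul (c : AlgebraicClosure k) (r : AlgebraicClosure k ⊗[k] K) :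
    jmap (Q := Q) (c • r) = algebraMap (AlgebraicClosure k) Q c • jmap (Q := Q) r := by
  induction r using TensorProduct.induction_on with
  | zero => simp
  | tmul a b => simp [jmap, TensorProduct.smul_tmul', Algebra.smul_def, smul_eq_mul]
  | add a b ha hb => simp only [smul_add, map_add, ha, hb]

variable (Q) in
/-- The element `1 + (t - 1) e`. -/
noncomputable def lineElt (e : AlgebraicClosure k ⊗[k] K) (t : Q) : Q ⊗[k] K :=
  1 + (t - 1) • jmap (Q := Q) e

lemma lineElt_mul {e : AlgebraicClosure k ⊗[k] K} (he : IsIdempotentElem e) (a b : Q) :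
    lineElt Q e a * lineElt Q e b = lineElt Q e (a * b) := by
  have h : jmap (Q := Q) e * jmap (Q := Q) e = jmap (Q := Q) e := by rw [← map_mul, he]
  simp only [lineElt, mul_add, add_mul, one_mul, mul_one, smul_mul_assoc, mul_smul_comm, h]
  module

lemma jmap_natural {Q' : Type u} [CommRing Q'] [Algebra k Q'] [Algebra (AlgebraicClosure k) Q']
    [IsScalarTower k (AlgebraicClosure k) Q'] (φ : Q →ₐ[AlgebraicClosure k] Q')
    (r : AlgebraicClosure k ⊗[k] K) :
    (φ.restrictScalars k).toLinearMap.rTensor K (jmap (Q := Q) r) = jmap (Q := Q') r := by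
  induction r using TensorProduct.induction_on with
  | zero => simp
  | tmul a b => simp [jmap]
  | add a b ha hb => simp only [map_add, ha, hb]

lemma value_lineElt_natural {Q' : Type u} [CommRing Q'] [Algebra k Q'] [Algebra (AlgebraicClosure k) Q']
    [IsScalarTower k (AlgebraicClosure k) Q'] (φ : Q →ₐ[AlgebraicClosure k] Q')
    (e : AlgebraicClosure k ⊗[k] K) (t : Q) :
    φ (value F Q (lineElt Q e t)) = value F Q' (lineElt Q' e (φ t)) := by
  have h := value_natural (F := F) (φ.restrictScalars k) (lineElt Q e t)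
  rw [AlgHom.restrictScalars_apply] at h
  rw [h, rTensor_apply_eq_map, lineElt, lineElt, map_add, map_one, ← rTensor_apply_eq_map,
    rTensor_smul_elt, jmap_natural, AlgHom.restrictScalars_apply, map_sub, map_one]

/-- A multiplicative line has a monomial value. -/
lemma exists_value_lineElt_eq_pow (hF : IsLaw F d) {e : AlgebraicClosure k ⊗[k] K}
    (he : IsIdempotentElem e) :
    ∃ a : ℕ, ∀ (S : Type u) [CommRing S] [Algebra k S] [Algebra (AlgebraicClosure k) S]
      [IsScalarTower k (AlgebraicClosure k) S] (t : S), value F S (lineElt S e t) = t ^ a := by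
  classical
  let W := AlgebraicClosure k
  let P : W[X] := value F W[X] (lineElt W[X] e X)
  have hnat : ∀ (S : Type u) [CommRing S] [Algebra k S] [Algebra W S] [IsScalarTower k W S] (t : S),
      aeval t P = value F S (lineElt S e t) := by
    intro S _ _ _ _ t
    rw [value_lineElt_natural (aeval t : W[X] →ₐ[W] S), aeval_X]
  have hmul : aeval (C (X : W[X]) * (X : W[X][X])) P =
      aeval (C (X : W[X])) P * aeval (X : W[X][X]) P := by
    rw [hnat, hnat, hnat, ← value_mul hF, lineElt_mul he]
  have hP0 : P ≠ 0 := by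
    intro h
    have h1 := hnat W 1
    rw [h, map_zero, show lineElt W e 1 = 1 by simp [lineElt], value_one hF] at h1
    exact zero_ne_one h1
  obtain ⟨j, hj⟩ : ∃ j, P.coeff j ≠ 0 := by
    by_contra! h
    exact hP0 (Polynomial.ext fun n => by simpa using h n)
  have hcoeff := congrArg (fun G : W[X][X] => G.coeff j) hmul
  have hL : (aeval (C (X : W[X]) * (X : W[X][X])) P).coeff j = C (P.coeff j) * X ^ j := by
    rw [aeval_eq_sum_range' (Nat.lt_succ_of_le (le_max_left P.natDegree j)), finset_sum_coeff,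
      Finset.sum_eq_single j]
    · rw [mul_pow, ← C_pow, coeff_smul, coeff_C_mul_X_pow, if_pos rfl, smul_eq_C_mul]
    · intro b _ hb
      rw [mul_pow, ← C_pow, coeff_smul, coeff_C_mul_X_pow, if_neg (Ne.symm hb), smul_zero]
    · intro h
      exact absurd (Finset.mem_range.2 (Nat.lt_succ_of_le (le_max_right P.natDegree j))) h
  have hC : aeval (C (X : W[X])) P = C P := by
    have : (aeval (C (X : W[X])) : W[X] →ₐ[W] W[X][X]) = (CAlgHom (R := W[X])).restrictScalars W := by
      apply Polynomial.algHom_ext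
      simp
    rw [this]
    simp
  have hX : aeval (X : W[X][X]) P = P.map C := by
    rw [aeval_def, eval₂_eq_eval_map]
    have : (algebraMap W W[X][X]) = (C : W[X] →+* W[X][X]).comp C := rfl
    rw [this, ← map_map]
    exact (eval_map _ _).trans (Polynomial.eval₂_C_X)
  rw [hC, hX] at hcoeff
  simp only [hL, coeff_C_mul, coeff_map] at hcoeff
  have hPeq : P = X ^ j := by
    have : C (P.coeff j) * X ^ j = C (P.coeff j) * P := by rw [hcoeff]; ring
    exact (mul_left_cancel₀ (by simpa using hj) this).symm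
  refine ⟨j, fun S _ _ _ _ t => ?_⟩
  rw [← hnat, hPeq, map_pow, aeval_X]

section finite

variable [FiniteDimensional k K]

lemma ev_ext_nilpotent (r : AlgebraicClosure k ⊗[k] K)
    (h : ∀ σ : K →ₐ[k] AlgebraicClosure k, ev σ r = 0) : IsNilpotent r := by
  rw [← mem_nilradical, nilradical_eq_sInf, Submodule.mem_sInf]
  intro (P : Ideal (AlgebraicClosure k ⊗[k] K)) hP
  haveI : P.IsPrime := hP
  haveI : Algebra.IsIntegral (AlgebraicClosure k) ((AlgebraicClosure k ⊗[k] K) ⧸ P) :=
    Algebra.IsIntegral.of_finite _ _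
  have hbij := IsAlgClosed.algebraMap_bijective_of_isIntegral (k := AlgebraicClosure k)
    (K := (AlgebraicClosure k ⊗[k] K) ⧸ P)
  let e := AlgEquiv.ofBijective (Algebra.ofId (AlgebraicClosure k) ((AlgebraicClosure k ⊗[k] K) ⧸ P)) hbij
  let π : AlgebraicClosure k ⊗[k] K →ₐ[AlgebraicClosure k] AlgebraicClosure k :=
    e.symm.toAlgHom.comp (Ideal.Quotient.mkₐ _ P)
  let σ : K →ₐ[k] AlgebraicClosure k :=
    (π.restrictScalars k).comp Algebra.TensorProduct.includeRight
  have hπ : π = ev σ := by
    apply Algebra.TensorProduct.ext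
    · ext
    · ext y
      simp [σ]
  have : π r = 0 := by rw [hπ]; exact h σ
  have h2 : Ideal.Quotient.mkₐ (AlgebraicClosure k) P r = 0 := by
    apply e.symm.injective
    rw [map_zero]
    exact this
  exact Ideal.Quotient.eq_zero_iff_mem.1 h2

open scoped Classical in
lemma exists_idempotents : ∃ e : (K →ₐ[k] AlgebraicClosure k) → AlgebraicClosure k ⊗[k] K,
    CompleteOrthogonalIdempotents e ∧ ∀ σ τ, ev σ (e τ) = if σ = τ then 1 else 0 := by
  classical
  let W := AlgebraicClosure k
  let Φ : W ⊗[k] K →+* ((K →ₐ[k] W) → W) := Pi.ringHom fun σ => (ev σ).toRingHom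
  have hsep : ∀ σ τ : K →ₐ[k] W, σ ≠ τ → ∃ u : W ⊗[k] K, ev σ u = 1 ∧ ev τ u = 0 := by
    intro σ τ hne
    obtain ⟨x, hx⟩ : ∃ x, σ x ≠ τ x := by
      by_contra! h
      exact hne (AlgHom.ext h)
    refine ⟨(σ x - τ x)⁻¹ • (((1 : W) ⊗ₜ[k] x) - algebraMap W (W ⊗[k] K) (τ x)), ?_, ?_⟩
    · rw [map_smul, map_sub, AlgHom.commutes, ev_tmul, one_mul, smul_eq_mul]
      exact inv_mul_cancel₀ (sub_ne_zero.2 hx)
    · rw [map_smul, map_sub, AlgHom.commutes, ev_tmul, one_mul]
      simp [W, Algebra.algebraMap_self]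
  choose u hu1 hu0 using hsep
  let w : (K →ₐ[k] W) → W ⊗[k] K := fun σ => ∏ τ : K →ₐ[k] W,
    if h : σ = τ then 1 else u σ τ h
  have hw : ∀ σ τ, ev σ (w τ) = if σ = τ then 1 else 0 := by
    intro σ τ
    rw [map_prod]
    split_ifs with hστ
    · subst hστ
      refine Finset.prod_eq_one fun ρ _ => ?_
      split_ifs with h
      · rw [map_one]
      · exact hu1 _ _ h
    · refine Finset.prod_eq_zero (Finset.mem_univ σ) ?_
      rw [dif_neg (Ne.symm hστ)]
      exact hu0 _ _ _
  have hker : ∀ x ∈ RingHom.ker Φ, IsNilpotent x := fun x hx =>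
    ev_ext_nilpotent x fun σ => congrFun (RingHom.mem_ker.1 hx) σ
  obtain ⟨e, he, hcomp⟩ := CompleteOrthogonalIdempotents.lift_of_isNilpotent_ker Φ hker
    (CompleteOrthogonalIdempotents.single fun _ : K →ₐ[k] W => W) (fun τ => ⟨w τ, by
      funext σ
      show ev σ (w τ) = _
      rw [hw, Pi.single_apply]⟩)
  refine ⟨e, he, fun σ τ => ?_⟩
  have := congrFun (congrFun hcomp τ) σ
  simp only [Function.comp_apply, Pi.single_apply] at this
  exact this

variable {e : (K →ₐ[k] AlgebraicClosure k) → AlgebraicClosure k ⊗[k] K}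

open scoped Classical in
lemma isNilpotent_sub_sum (he' : ∀ σ τ, ev σ (e τ) = if σ = τ then (1 : AlgebraicClosure k) else 0)
    (z : Q ⊗[k] K) : IsNilpotent (z - ∑ σ, ev σ z • jmap (Q := Q) (e σ)) := by
  classical
  induction z using TensorProduct.induction_on with
  | zero => simp
  | tmul s y =>
    have h0 : IsNilpotent ((1 : AlgebraicClosure k) ⊗ₜ[k] y - ∑ σ, σ y • e σ) := by
      refine ev_ext_nilpotent _ fun τ => ?_
      simp [map_sub, map_sum, map_smul, he']
    have h1 := IsNilpotent.smul (h0.map (jmap (Q := Q))) s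
    suffices heq : s ⊗ₜ[k] y - ∑ σ, ev σ (s ⊗ₜ[k] y) • jmap (Q := Q) (e σ) =
        s • jmap (Q := Q) ((1 : AlgebraicClosure k) ⊗ₜ[k] y - ∑ σ, σ y • e σ) by rw [heq]; exact h1
    rw [map_sub, map_sum, smul_sub, Finset.smul_sum]
    congr 1
    · simp [jmap, TensorProduct.smul_tmul']
    · refine Finset.sum_congr rfl fun σ _ => ?_
      rw [jmap_smul, ev_tmul, smul_smul]
  | add a b ha hb =>
    have h2 := Commute.isNilpotent_add (Commute.all _ _) ha hb
    suffices heq : a + b - ∑ σ, ev σ (a + b) • jmap (Q := Q) (e σ) =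
        (a - ∑ σ, ev σ a • jmap (Q := Q) (e σ)) + (b - ∑ σ, ev σ b • jmap (Q := Q) (e σ)) by
      rw [heq]; exact h2
    simp only [map_add, add_smul, Finset.sum_add_distrib]
    abel

lemma prod_lineElt (he : CompleteOrthogonalIdempotents e) (c : (K →ₐ[k] AlgebraicClosure k) → Q) :
    ∏ σ, lineElt Q (e σ) (c σ) = ∑ σ, c σ • jmap (Q := Q) (e σ) := by
  classical
  have key : ∀ s : Finset (K →ₐ[k] AlgebraicClosure k),
      ∏ σ ∈ s, lineElt Q (e σ) (c σ) = 1 + ∑ σ ∈ s, (c σ - 1) • jmap (Q := Q) (e σ) := by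
    intro s
    induction s using Finset.induction with
    | empty => simp
    | insert a s ha ih =>
      rw [Finset.prod_insert ha, Finset.sum_insert ha, ih, lineElt, mul_add, mul_one, add_mul, one_mul]
      have hz : ((c a - 1) • jmap (Q := Q) (e a)) * ∑ σ ∈ s, (c σ - 1) • jmap (Q := Q) (e σ) = 0 := by
        rw [Finset.mul_sum]
        refine Finset.sum_eq_zero fun σ hσ => ?_
        have hne : a ≠ σ := fun h => ha (h ▸ hσ)
        rw [smul_mul_smul_comm, ← map_mul, he.ortho hne, map_zero, smul_zero]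
      rw [hz, add_zero, add_assoc]
  rw [key]
  simp only [sub_smul, one_smul, Finset.sum_sub_distrib]
  rw [← map_sum, he.complete, map_one, add_sub_cancel]

end finite

section Main

variable [FiniteDimensional k K]

/-- The exponents of a law. -/
theorem exists_exponents (hF : IsLaw F d) : ∃ a : (K →ₐ[k] AlgebraicClosure k) → ℕ,
    ∀ (L : Type u) [Field L] [Algebra k L] [Algebra (AlgebraicClosure k) L]
      [IsScalarTower k (AlgebraicClosure k) L] (z : L ⊗[k] K), (∀ σ, ev σ z ≠ 0) →
      value F L z = ∏ σ, ev σ z ^ a σ := by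
  classical
  obtain ⟨e, he, he'⟩ := exists_idempotents (k := k) (K := K)
  choose a ha using fun σ => exists_value_lineElt_eq_pow hF (he.idem σ)
  refine ⟨a, fun L _ _ _ _ z hz => ?_⟩
  set z' := ∑ σ, ev σ z • jmap (Q := L) (e σ) with hz'
  set z'' := ∑ σ, (ev σ z)⁻¹ • jmap (Q := L) (e σ) with hz''
  have hinv : z' * z'' = 1 := by
    have hone : ∀ σ, ev σ z * (ev σ z)⁻¹ = 1 := fun σ => mul_inv_cancel₀ (hz σ)
    rw [hz', hz'', Finset.sum_mul]
    have : ∀ σ, (ev σ z • jmap (Q := L) (e σ)) * ∑ τ, (ev τ z)⁻¹ • jmap (Q := L) (e τ) =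
        jmap (Q := L) (e σ) := by
      intro σ
      rw [Finset.mul_sum, Finset.sum_eq_single σ]
      · rw [smul_mul_smul_comm, ← map_mul, (he.idem σ).eq, hone, one_smul]
      · intro τ _ hτ
        rw [smul_mul_smul_comm, ← map_mul, he.ortho (Ne.symm hτ), map_zero, smul_zero]
      · simp
    simp only [this]
    rw [← map_sum, he.complete, map_one]
  have hz_eq : z = z' * (1 + z'' * (z - z')) := by
    rw [mul_add, mul_one, ← mul_assoc, hinv, one_mul, add_sub_cancel]
  have hnil : IsNilpotent (z'' * (z - z')) :=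
    Commute.isNilpotent_mul_left (Commute.all _ _) (isNilpotent_sub_sum he' z)
  conv_lhs => rw [hz_eq]
  rw [value_mul hF, value_one_add_nilpotent hF hnil, mul_one, hz', ← prod_lineElt he,
    value_prod hF]
  exact Finset.prod_congr rfl fun σ _ => ha σ L _

/-- The exponents add up to the degree. -/
theorem sum_exponents (hF : IsLaw F d) {a : (K →ₐ[k] AlgebraicClosure k) → ℕ}
    (ha : ∀ (L : Type u) [Field L] [Algebra k L] [Algebra (AlgebraicClosure k) L]
      [IsScalarTower k (AlgebraicClosure k) L] (z : L ⊗[k] K), (∀ σ, ev σ z ≠ 0) →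
      value F L z = ∏ σ, ev σ z ^ a σ) : ∑ σ, a σ = d := by
  let L := FractionRing (AlgebraicClosure k)[X]
  let t : L := algebraMap (AlgebraicClosure k)[X] L X
  have ht : t ≠ 0 := by simp [t]
  have hev : ∀ σ, ev σ (t • (1 : L ⊗[k] K)) = t := fun σ => by simp
  have h := ha L (t • 1) (fun σ => by rw [hev]; exact ht)
  simp only [hev] at h
  rw [value_smul hF, value_one hF, mul_one, Finset.prod_pow_eq_pow_sum] at h
  simp only [t, ← map_pow] at h
  have := IsFractionRing.injective (AlgebraicClosure k)[X] L h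
  simpa using (congrArg Polynomial.natDegree this).symm

/-- The value of a law at `X - x`, over an algebraic closure. -/
theorem map_value_X_sub {a : (K →ₐ[k] AlgebraicClosure k) → ℕ}
    (ha : ∀ (L : Type u) [Field L] [Algebra k L] [Algebra (AlgebraicClosure k) L]
      [IsScalarTower k (AlgebraicClosure k) L] (z : L ⊗[k] K), (∀ σ, ev σ z ≠ 0) →
      value F L z = ∏ σ, ev σ z ^ a σ) (x : K) :
    (value F k[X] ((X : k[X]) ⊗ₜ[k] 1 - 1 ⊗ₜ[k] x)).map (algebraMap k (AlgebraicClosure k)) =
      ∏ σ, (X - C (σ x)) ^ a σ := by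
  let W := AlgebraicClosure k
  let L := FractionRing W[X]
  let φ : k[X] →ₐ[k] W[X] := Polynomial.mapAlgHom (Algebra.ofId k W)
  let ψ : k[X] →ₐ[k] L := (IsScalarTower.toAlgHom k W[X] L).comp φ
  have hz := value_natural (F := F) ψ ((X : k[X]) ⊗ₜ[k] 1 - 1 ⊗ₜ[k] x)
  have himg : ψ.toLinearMap.rTensor K ((X : k[X]) ⊗ₜ[k] 1 - 1 ⊗ₜ[k] x) =
      (algebraMap W[X] L X) ⊗ₜ[k] 1 - 1 ⊗ₜ[k] x := by
    simp [ψ, φ]
  have hev : ∀ σ, ev σ ((algebraMap W[X] L X) ⊗ₜ[k] (1 : K) - 1 ⊗ₜ[k] x) =
      algebraMap W[X] L (X - C (σ x)) := by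
    intro σ
    rw [map_sub, ev_tmul, ev_tmul, map_one, map_one, mul_one, one_mul, map_sub,
      IsScalarTower.algebraMap_apply W W[X] L (σ x), Polynomial.algebraMap_eq]
  rw [himg, ha L _ (fun σ => by
    rw [hev, ne_eq, map_eq_zero_iff _ (IsFractionRing.injective W[X] L)]
    exact X_sub_C_ne_zero _)] at hz
  simp only [hev, ← map_pow, ← map_prod] at hz
  have := IsFractionRing.injective W[X] L hz
  exact this

/-- For an element separating the embeddings, all exponents are a fixed multiple of a power `p ^ i`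
such that `x ^ p ^ i` is separable. -/
theorem exponents_eq_mul {p : ℕ} [ExpChar k p] {a : (K →ₐ[k] AlgebraicClosure k) → ℕ}
    (ha : ∀ (L : Type u) [Field L] [Algebra k L] [Algebra (AlgebraicClosure k) L]
      [IsScalarTower k (AlgebraicClosure k) L] (z : L ⊗[k] K), (∀ σ, ev σ z ≠ 0) →
      value F L z = ∏ σ, ev σ z ^ a σ) {x : K}
    (hx : Function.Injective fun σ : K →ₐ[k] AlgebraicClosure k => σ x) :
    ∃ r i : ℕ, x ^ p ^ i ∈ separableClosure k K ∧ ∀ σ, a σ = r * p ^ i := by
  classical
  let W := AlgebraicClosure k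
  haveI : ExpChar W p := expChar_of_injective_algebraMap (algebraMap k W).injective p
  set G := value F k[X] ((X : k[X]) ⊗ₜ[k] 1 - 1 ⊗ₜ[k] x) with hG
  have hmap : G.map (algebraMap k W) = ∏ σ, (X - C (σ x)) ^ a σ := map_value_X_sub ha x
  have hprod0 : ∏ σ : K →ₐ[k] W, (X - C (σ x)) ^ a σ ≠ 0 :=
    Finset.prod_ne_zero_iff.2 fun σ _ => pow_ne_zero _ (X_sub_C_ne_zero _)
  have hG0 : G ≠ 0 := fun h => hprod0 (by rw [← hmap, h, Polynomial.map_zero])
  have hint : IsIntegral k x := Algebra.IsIntegral.isIntegral x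
  set μ := minpoly k x with hμ
  have hμirr : Irreducible μ := minpoly.irreducible hint
  obtain ⟨r, H, hH, hGH⟩ := WfDvdMonoid.max_power_factor hG0 hμirr
  obtain ⟨g, hg, i, hgi⟩ := hμirr.hasSeparableContraction p
  refine ⟨r, i, ?_, fun σ => ?_⟩
  · rw [mem_separableClosure_iff, IsSeparable]
    have hroot : aeval (x ^ p ^ i) g = 0 := by
      rw [← expand_aeval, hgi, hμ, minpoly.aeval]
    exact hg.of_dvd (minpoly.dvd k _ hroot)
  · have hcount : (G.map (algebraMap k W)).rootMultiplicity (σ x) = a σ := by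
      rw [hmap, ← count_roots, roots_prod _ _ hprod0, Multiset.count_bind]
      simp only [roots_pow, roots_X_sub_C, Multiset.count_nsmul, Multiset.count_singleton]
      show ∑ τ, a τ * (if σ x = τ x then 1 else 0) = a σ
      rw [Finset.sum_eq_single σ]
      · simp
      · intro τ _ hτ
        rw [if_neg (fun h => hτ (hx h).symm), mul_zero]
      · simp
    have hμσ : μ = minpoly k (σ x) := (minpoly.algHom_eq σ σ.toRingHom.injective x).symm
    have hH' : ¬ (H.map (algebraMap k W)).IsRoot (σ x) := by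
      intro h
      apply hH
      rw [hμσ]
      refine minpoly.dvd k _ ?_
      rwa [aeval_def, eval₂_eq_eval_map]
    have hμm : (μ.map (algebraMap k W)).rootMultiplicity (σ x) = p ^ i := by
      rw [← hgi, map_expand, rootMultiplicity_expand_pow]
      have hsep : (g.map (algebraMap k W)).Separable := hg.map
      have hle := rootMultiplicity_le_one_of_separable hsep ((σ x) ^ p ^ i)
      have hroot : (g.map (algebraMap k W)).IsRoot ((σ x) ^ p ^ i) := by
        rw [IsRoot, ← eval₂_eq_eval_map, ← aeval_def, ← expand_aeval, hgi, hμσ, minpoly.aeval]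
      have hpos := (rootMultiplicity_pos (map_ne_zero hg.ne_zero)).2 hroot
      rw [show (g.map (algebraMap k W)).rootMultiplicity ((σ x) ^ p ^ i) = 1 by omega, mul_one]
    rw [← hcount, hGH, Polynomial.map_mul, Polynomial.map_pow,
      rootMultiplicity_mul (by rw [← Polynomial.map_pow, ← Polynomial.map_mul, ← hGH]; exact map_ne_zero hG0),
      rootMultiplicity_eq_zero hH', add_zero, ← count_roots, roots_pow, Multiset.count_nsmul,
      count_roots, hμm]

end Main

end Groth.Agent.CommAlg4.FieldLaws
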