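import Mathlib
import Groth.Prelude.Def_SpSeq

/-! Convergence of the spectral sequence of a filtered complex with eventually trivial filtration in homology. -/
set_option autoImplicit false
universe v u
open CategoryTheory CategoryTheory.Limits HomologicalComplex

namespace Groth.Agent.CommAlg4.FilCxConv

variable {A : Type u} [Category.{v} A] [Abelian A]

theorem factors_iff' {X T : A} (S : Subobject X) (x : T ⟶ X) :
    S.Factors x ↔ ∃ y : T ⟶ (S : A), y ≫ S.arrow = x :=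
  ⟨fun h => ⟨S.factorThru x h, S.factorThru_arrow x h⟩, fun ⟨y, hy⟩ => hy ▸ Subobject.factors_comp_arrow y⟩

theorem factors_of_epi_comp {X T T' : A} (S : Subobject X) {x : T ⟶ X} (π : T' ⟶ T) [Epi π]
    (h : S.Factors (π ≫ x)) : S.Factors x := by
  obtain ⟨y, hy⟩ := (factors_iff' _ _).1 h
  change y ≫ S.arrow = π ≫ x at hy
  have h0 : x ≫ cokernel.π S.arrow = 0 := by
    rw [← cancel_epi π, ← Category.assoc, ← hy, Category.assoc, cokernel.condition, comp_zero, comp_zero]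
  exact (factors_iff' _ _).2
    ⟨Abelian.monoLift S.arrow x h0, Abelian.monoLift_comp S.arrow x h0⟩

theorem le_of_refine {X : A} {S S' : Subobject X}
    (h : ∀ ⦃T : A⦄ (x : T ⟶ X), S.Factors x → ∃ (T' : A) (π : T' ⟶ T) (_ : Epi π), S'.Factors (π ≫ x)) : S ≤ S' := by
  obtain ⟨T', π, hπ, h'⟩ := h S.arrow ((factors_iff' _ _).2 ⟨𝟙 _, Category.id_comp _⟩)
  obtain ⟨y, hy⟩ := (factors_iff' _ _).1 (factors_of_epi_comp S' π h')
  exact Subobject.le_of_comm y hy

theorem exists_of_image_factors {W X T : A} (g : W ⟶ X) {x : T ⟶ X} (h : (imageSubobject g).Factors x) :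
    ∃ (T' : A) (π : T' ⟶ T) (_ : Epi π) (w : T' ⟶ W), π ≫ x = w ≫ g := by
  obtain ⟨y, hy⟩ := (factors_iff' _ _).1 h
  change y ≫ (imageSubobject g).arrow = x at hy
  obtain ⟨T', π, hπ, w, hw⟩ := surjective_up_to_refinements_of_epi (factorThruImageSubobject g) y
  exact ⟨T', π, hπ, w, by rw [← hy, ← Category.assoc, hw, Category.assoc, imageSubobject_arrow_comp]⟩

theorem exists_of_sup_factors {X T : A} {S S' : Subobject X} {x : T ⟶ X} (h : (S ⊔ S').Factors x) :
    ∃ (T' : A) (π : T' ⟶ T) (_ : Epi π) (s t : T' ⟶ X), π ≫ x = s + t ∧ S.Factors s ∧ S'.Factors t := by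
  have hle : S ⊔ S' ≤ imageSubobject (biprod.desc S.arrow S'.arrow) :=
    sup_le (Subobject.le_of_comm (biprod.inl ≫ factorThruImageSubobject _) (by simp))
      (Subobject.le_of_comm (biprod.inr ≫ factorThruImageSubobject _) (by simp))
  obtain ⟨T', π, hπ, w, hw⟩ := exists_of_image_factors _ (Subobject.factors_of_le x hle h)
  refine ⟨T', π, hπ, (w ≫ biprod.fst) ≫ S.arrow, (w ≫ biprod.snd) ≫ S'.arrow, ?_,
    (factors_iff' _ _).2 ⟨_, rfl⟩, (factors_iff' _ _).2 ⟨_, rfl⟩⟩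
  rw [hw]
  conv_lhs => rw [biprod.desc_eq]
  simp

variable (K : SpSeq.FilCx A)

/-- The inclusion in degree `n`. -/
noncomputable abbrev ι (p n : ℤ) : (K.fil p : CochainComplex A ℤ).X n ⟶ K.obj.X n := (K.fil p).arrow.f n

theorem filX_factors_iff (p n : ℤ) {T : A} (x : T ⟶ K.obj.X n) :
    (K.filX p n).Factors x ↔ ∃ y, y ≫ ι K p n = x :=
  Subobject.mk_factors_iff _ _

theorem pullback_factors_iff' {X Y T : A} (f : X ⟶ Y) (S : Subobject Y) (x : T ⟶ X) :
    ((Subobject.pullback f).obj S).Factors x ↔ S.Factors (x ≫ f) :=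
  Limits.pullback_factors_iff _ _ _

/-- Cycles in a step with vanishing homology are boundaries. -/
theorem exists_bdry (q m n : ℤ) (hm : m + 1 = n) (h : IsZero ((K.fil q : CochainComplex A ℤ).homology n)) {T : A}
    (y : T ⟶ (K.fil q : CochainComplex A ℤ).X n) (hy : y ≫ (K.fil q : CochainComplex A ℤ).d n (n + 1) = 0) :
    ∃ (T' : A) (π : T' ⟶ T) (_ : Epi π) (w : T' ⟶ (K.fil q : CochainComplex A ℤ).X m),
      π ≫ y = w ≫ (K.fil q : CochainComplex A ℤ).d m n :=
  ((exactAt_iff_exact_up_to_refinements _ m n (n + 1) (by simp; omega) (by simp)).1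
    ((exactAt_iff_isZero_homology _ _).2 h)) y hy

/-- Cycles in a step whose homology injects, exact in `K`, are boundaries in the step. -/
theorem exists_bdry_of_mono (q m n : ℤ) (hm : m + 1 = n) (h : IsIso (homologyMap (K.fil q).arrow n)) {T : A}
    (y : T ⟶ (K.fil q : CochainComplex A ℤ).X n) (hy : y ≫ (K.fil q : CochainComplex A ℤ).d n (n + 1) = 0)
    (w₀ : T ⟶ K.obj.X m) (hw : y ≫ ι K q n = w₀ ≫ K.obj.d m n) :
    ∃ (T' : A) (π : T' ⟶ T) (_ : Epi π) (w : T' ⟶ (K.fil q : CochainComplex A ℤ).X m),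
      π ≫ y = w ≫ (K.fil q : CochainComplex A ℤ).d m n :=
  (mono_homologyMap_iff_up_to_refinements (K.fil q).arrow m n (n + 1) (by simp; omega) (by simp)).1
    inferInstance y hy w₀ hw

theorem ι_comm (q m m' : ℤ) : (K.fil q : CochainComplex A ℤ).d m m' ≫ ι K q m' = ι K q m ≫ K.obj.d m m' :=
  ((K.fil q).arrow.comm m m').symm

theorem cycle_of_comp (q n : ℤ) {T : A} (y : T ⟶ (K.fil q : CochainComplex A ℤ).X n)
    (h : y ≫ ι K q n ≫ K.obj.d n (n + 1) = 0) : y ≫ (K.fil q : CochainComplex A ℤ).d n (n + 1) = 0 := by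
  rw [← cancel_mono (ι K q (n + 1)), Category.assoc, ι_comm, h, zero_comp]

theorem ZTop_le_ZSub (r : ℕ) (p n : ℤ) : K.ZTop p n ≤ K.ZSub r p n :=
  sup_le_sup_right (inf_le_inf_left _ (SpSeq.FilCx.kernelSubobject_le_pullback _ _)) _

theorem BSub_le_BBot (r : ℕ) (p n : ℤ) : K.BSub r p n ≤ K.BBot p n :=
  sup_le_sup_right (inf_le_inf_left _ (imageSubobject_comp_le _ _)) _

theorem ZSub_le_ZTop (r : ℕ) (p n : ℤ) (hr : 1 ≤ r)
    (h : IsZero ((K.fil (p + r) : CochainComplex A ℤ).homology (n + 1))) : K.ZSub r p n ≤ K.ZTop p n := by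
  refine le_of_refine fun T x hx => ?_
  obtain ⟨T₁, π₁, _, s, t, he, hs, ht⟩ := exists_of_sup_factors hx
  rw [Subobject.inf_factors, pullback_factors_iff', filX_factors_iff, filX_factors_iff] at hs
  obtain ⟨⟨y, hy⟩, z, hz⟩ := hs
  have hz0 : z ≫ (K.fil (p + r) : CochainComplex A ℤ).d (n + 1) (n + 1 + 1) = 0 :=
    cycle_of_comp K _ _ z (by rw [reassoc_of% hz, K.obj.d_comp_d, comp_zero])
  obtain ⟨T₂, π₂, _, w, hw⟩ := exists_bdry K (p + r) n (n + 1) rfl h z hz0
  refine ⟨T₂, π₂ ≫ π₁, inferInstance, ?_⟩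
  have hsplit : (π₂ ≫ π₁) ≫ x = (π₂ ≫ s - w ≫ ι K (p + r) n) + (π₂ ≫ t + w ≫ ι K (p + r) n) := by
    rw [Category.assoc, he, Preadditive.comp_add]; abel
  rw [hsplit]
  have hwp : ∀ q, q ≤ p + r → (K.filX q n).Factors (w ≫ ι K (p + r) n) := fun q hq =>
    Subobject.factors_of_le _ (K.filX_anti n hq) ((filX_factors_iff K _ _ _).2 ⟨w, rfl⟩)
  refine Subobject.factors_add _ _ (Subobject.sup_factors_of_factors_left ?_)
    (Subobject.sup_factors_of_factors_right (Subobject.factors_add _ _ ?_ (hwp (p + 1) (by omega))))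
  · rw [Subobject.inf_factors, kernelSubobject_factors_iff]
    refine ⟨?_, ?_⟩
    · rw [sub_eq_add_neg]
      refine Subobject.factors_add _ _ ((filX_factors_iff K _ _ _).2 ⟨π₂ ≫ y, by rw [Category.assoc, hy]⟩) ?_
      obtain ⟨u, hu⟩ := (filX_factors_iff K _ _ _).1 (hwp p (by omega))
      exact (filX_factors_iff K _ _ _).2 ⟨-u, by rw [Preadditive.neg_comp, hu]⟩
    · rw [Preadditive.sub_comp, Category.assoc, Category.assoc, ← hz, ← ι_comm, ← Category.assoc w, ← hw,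
        Category.assoc, sub_self]
  · exact Subobject.factors_of_factors_right π₂ ht

theorem BBot_le_BSub (r : ℕ) (p n : ℤ) (hr : 1 ≤ r)
    (h : IsIso (homologyMap (K.fil (p - r + 1)).arrow n)) : K.BBot p n ≤ K.BSub r p n := by
  refine le_of_refine fun T x hx => ?_
  obtain ⟨T₁, π₁, _, s, t, he, hs, ht⟩ := exists_of_sup_factors hx
  rw [Subobject.inf_factors] at hs
  obtain ⟨T₂, π₂, _, w₀, hw₀⟩ := exists_of_image_factors _ hs.2
  obtain ⟨y, hy⟩ := (filX_factors_iff K _ _ _).1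
    (Subobject.factors_of_le (π₂ ≫ s) (K.filX_anti n (show p - r + 1 ≤ p by omega))
      (Subobject.factors_of_factors_right π₂ hs.1))
  have hy0 : y ≫ (K.fil (p - r + 1) : CochainComplex A ℤ).d n (n + 1) = 0 :=
    cycle_of_comp K _ _ y (by rw [reassoc_of% hy, ← Category.assoc, hw₀, Category.assoc, K.obj.d_comp_d, comp_zero])
  obtain ⟨T₃, π₃, _, w, hw⟩ := exists_bdry_of_mono K _ (n - 1) n (by omega) h y hy0 w₀ (hy.trans hw₀)
  refine ⟨T₃, π₃ ≫ π₂ ≫ π₁, inferInstance, ?_⟩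
  rw [Category.assoc, Category.assoc, he, Preadditive.comp_add, Preadditive.comp_add]
  refine Subobject.factors_add _ _ (Subobject.sup_factors_of_factors_left ?_)
    (Subobject.sup_factors_of_factors_right (Subobject.factors_of_factors_right π₃
      (Subobject.factors_of_factors_right π₂ ht)))
  rw [Subobject.inf_factors]
  refine ⟨Subobject.factors_of_factors_right π₃ (Subobject.factors_of_factors_right π₂ hs.1), ?_⟩
  obtain ⟨u, hu⟩ := (filX_factors_iff K _ _ _).1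
    ((filX_factors_iff K (p - r + 1) (n - 1) (w ≫ ι K _ _)).2 ⟨w, rfl⟩)
  obtain ⟨v, hv⟩ := (factors_iff' _ _).1
    ((filX_factors_iff K (p - r + 1) (n - 1) (w ≫ ι K _ _)).2 ⟨w, rfl⟩)
  change v ≫ (K.filX (p - r + 1) (n - 1)).arrow = w ≫ ι K _ _ at hv
  have : π₃ ≫ π₂ ≫ s = v ≫ ((K.filX (p - r + 1) (n - 1)).arrow ≫ K.obj.d (n - 1) n) := by
    rw [← hy, ← Category.assoc, hw, reassoc_of% hv, Category.assoc, ι_comm]
  rw [this]
  exact imageSubobject_factors_comp_self _ _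

theorem isZero_subquot {X : A} (Z B : Subobject X) (h : B ≤ Z) (h' : Z ≤ B) : IsZero (SpSeq.subquot Z B h) := by
  have : Epi (B.ofLE Z h) :=
    epi_of_epi_fac (show Z.ofLE B h' ≫ B.ofLE Z h = 𝟙 _ by rw [Subobject.ofLE_comp_ofLE, Subobject.ofLE_refl])
  exact isZero_cokernel_of_epi _

/-- A cycle of `F p` that is a boundary there lies in the numerator of `B₁`. -/
theorem BSub_one_factors (p n : ℤ) {T : A} (z : T ⟶ (K.fil p : CochainComplex A ℤ).X (n - 1)) :
    (K.BSub 1 p n).Factors ((z ≫ (K.fil p : CochainComplex A ℤ).d (n - 1) n) ≫ ι K p n) := by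
  refine Subobject.sup_factors_of_factors_left ?_
  rw [Subobject.inf_factors]
  refine ⟨(filX_factors_iff K _ _ _).2 ⟨_, rfl⟩, ?_⟩
  have he : p - ((1 : ℕ) : ℤ) + 1 = p := by omega
  obtain ⟨v, hv⟩ := (factors_iff' _ _).1
    ((filX_factors_iff K p (n - 1) (z ≫ ι K _ _)).2 ⟨z, rfl⟩)
  change v ≫ (K.filX p (n - 1)).arrow = z ≫ ι K _ _ at hv
  rw [Category.assoc, ι_comm, ← Category.assoc, ← hv, Category.assoc]
  exact Subobject.factors_of_le _ (SpSeq.FilCx.imageSubobject_le_of_fac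
    ((K.filX p (n - 1)).ofLE _ (by rw [he]))
    (by rw [← Category.assoc, Subobject.ofLE_arrow])) (imageSubobject_factors_comp_self _ _)

theorem ZSub_one_le_BSub_one (p n : ℤ)
    (h : (IsZero ((K.fil p : CochainComplex A ℤ).homology n) ∧
        IsZero ((K.fil (p + 1) : CochainComplex A ℤ).homology (n + 1))) ∨
      (IsIso (homologyMap (K.fil p).arrow n) ∧ IsIso (homologyMap (K.fil (p + 1)).arrow n) ∧
        IsIso (homologyMap (K.fil (p + 1)).arrow (n + 1)))) : K.ZSub 1 p n ≤ K.BSub 1 p n := by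
  refine le_of_refine fun T x hx => ?_
  obtain ⟨T₁, π₁, _, s, t, he, hs, ht⟩ := exists_of_sup_factors hx
  rw [Subobject.inf_factors, pullback_factors_iff', filX_factors_iff, filX_factors_iff] at hs
  rw [show (p + ((1 : ℕ) : ℤ)) = p + 1 by simp] at hs
  obtain ⟨⟨s', hs'⟩, y', hy'⟩ := hs
  have hy'0 : y' ≫ (K.fil (p + 1) : CochainComplex A ℤ).d (n + 1) (n + 1 + 1) = 0 :=
    cycle_of_comp K _ _ y' (by rw [reassoc_of% hy', K.obj.d_comp_d, comp_zero])
  -- `d s` is a boundary in `F (p+1)`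
  obtain ⟨T₂, π₂, _, w, hw⟩ : ∃ (T' : A) (π : T' ⟶ T₁) (_ : Epi π)
      (w : T' ⟶ (K.fil (p + 1) : CochainComplex A ℤ).X n),
      π ≫ y' = w ≫ (K.fil (p + 1) : CochainComplex A ℤ).d n (n + 1) := by
    rcases h with h | h
    · exact exists_bdry K _ n _ rfl h.2 y' hy'0
    · exact exists_bdry_of_mono K _ n _ rfl h.2.2 y' hy'0 s hy'
  -- the corrected cycle of `F p`
  let e := K.stepLE (show p ≤ p + 1 by omega)
  have he' : ∀ m, e.f m ≫ ι K p m = ι K (p + 1) m := fun m => by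
    rw [← HomologicalComplex.comp_f, Subobject.ofLE_arrow]
  let c : T₂ ⟶ (K.fil p : CochainComplex A ℤ).X n := π₂ ≫ s' - w ≫ e.f n
  have hc : c ≫ ι K p n = π₂ ≫ s - w ≫ ι K (p + 1) n := by
    simp [c, Preadditive.sub_comp, hs', he']
  have hc0 : c ≫ (K.fil p : CochainComplex A ℤ).d n (n + 1) = 0 := by
    refine cycle_of_comp K _ _ c ?_
    rw [reassoc_of% hc, Preadditive.sub_comp, Category.assoc, Category.assoc, ← hy', ← ι_comm, ← Category.assoc w,
      ← hw, Category.assoc, sub_self]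
  obtain ⟨T₃, π₃, _, z, u, hz⟩ : ∃ (T' : A) (π : T' ⟶ T₂) (_ : Epi π)
      (z : T' ⟶ (K.fil p : CochainComplex A ℤ).X (n - 1)) (u : T' ⟶ (K.fil (p + 1) : CochainComplex A ℤ).X n),
      π ≫ c ≫ ι K p n = (z ≫ (K.fil p : CochainComplex A ℤ).d (n - 1) n) ≫ ι K p n + u ≫ ι K (p + 1) n := by
    rcases h with h | h
    · obtain ⟨T', π, hπ, z, hz⟩ := exists_bdry K _ (n - 1) _ (by omega) h.1 c hc0
      exact ⟨T', π, hπ, z, 0, by rw [← Category.assoc, hz, zero_comp, add_zero]⟩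
    · have hepi : Epi (homologyMap (K.fil (p + 1)).arrow n) := by have := h.2.1; infer_instance
      obtain ⟨T', π, hπ, u, hu, w', hw'⟩ :=
        (epi_homologyMap_iff_up_to_refinements (K.fil (p + 1)).arrow (n - 1) n (n + 1) (by simp) (by simp)).1
          hepi (c ≫ ι K p n) (by rw [Category.assoc, ← ι_comm, reassoc_of% hc0, zero_comp])
      have hc' : (π ≫ c - u ≫ e.f n) ≫ ι K p n = w' ≫ K.obj.d (n - 1) n := by
        rw [Preadditive.sub_comp, Category.assoc, Category.assoc, he', hw']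
        exact add_sub_cancel_left _ _
      obtain ⟨T'', π', hπ', z, hz⟩ := exists_bdry_of_mono K p (n - 1) n (by omega) h.1 _
        (cycle_of_comp K _ _ _ (by rw [reassoc_of% hc', K.obj.d_comp_d, comp_zero])) w' hc'
      refine ⟨T'', π' ≫ π, inferInstance, z, π' ≫ u, ?_⟩
      simp only [← hz, Preadditive.sub_comp, Preadditive.comp_sub, Category.assoc, he', sub_add_cancel]
  refine ⟨T₃, π₃ ≫ π₂ ≫ π₁, inferInstance, ?_⟩
  have hsplit : (π₃ ≫ π₂ ≫ π₁) ≫ x =
      (z ≫ (K.fil p : CochainComplex A ℤ).d (n - 1) n) ≫ ι K p n +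
        (u ≫ ι K (p + 1) n + (π₃ ≫ w) ≫ ι K (p + 1) n + (π₃ ≫ π₂) ≫ t) := by
    rw [← add_assoc, ← add_assoc, ← hz, hc, Preadditive.comp_sub]
    simp only [Category.assoc, he, Preadditive.comp_add, sub_add_cancel]
  rw [hsplit]
  exact Subobject.factors_add _ _ (BSub_one_factors K p n z) (Subobject.sup_factors_of_factors_right
    (Subobject.factors_add _ _ (Subobject.factors_add _ _ ((filX_factors_iff K _ _ _).2 ⟨_, rfl⟩)
      ((filX_factors_iff K _ _ _).2 ⟨_, rfl⟩)) (Subobject.factors_of_factors_right _ ht)))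

theorem converges (h0 : ∀ n : ℤ, ∃ p₀ : ℤ, ∀ p : ℤ, p₀ ≤ p → IsZero ((K.fil p : CochainComplex A ℤ).homology n))
    (h1 : ∀ n : ℤ, ∃ p₁ : ℤ, ∀ p : ℤ, p ≤ p₁ → IsIso (homologyMap (K.fil p).arrow n)) :
    K.IsBounded 1 ∧ (∀ n : ℤ, (K.HFil n).IsFinite) ∧ K.Converges := by
  choose a ha using h1
  choose b hb using h0
  have hHtop : ∀ n, K.filH (a n) n = ⊤ := fun n => by
    have key : ∀ {X Y : A} (g : X ⟶ Y) [IsIso g], imageSubobject g = ⊤ := fun g _ =>
      top_le_iff.1 (Subobject.le_of_comm ((⊤ : Subobject _).arrow ≫ inv g ≫ factorThruImageSubobject g) (by simp))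
    have := ha n (a n) le_rfl
    exact key _
  have hHbot : ∀ n, K.filH (b n) n = ⊥ := fun n => by
    have key : ∀ {X Y : A} (g : X ⟶ Y), g = 0 → imageSubobject g = ⊥ := fun g h => by
      subst h; exact imageSubobject_zero
    exact key _ ((hb n _ le_rfl).eq_of_src _ _)
  refine ⟨fun n => ?_, fun n => ⟨⟨_, hHtop n⟩, ⟨_, hHbot n⟩⟩, ?_, ⟨fun p n => ⟨?_, ?_⟩, fun n => ⟨?_, ?_⟩⟩, ?_⟩
  · refine ((Finset.Ico (min (a n) (a (n + 1)) - 1) (max (b n) (b (n + 1)))).finite_toSet).subset fun p hp => ?_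
    by_contra hnot
    rw [Finset.mem_coe, Finset.mem_Ico, not_and_or, not_le, not_lt] at hnot
    refine hp (isZero_subquot _ _ _ (ZSub_one_le_BSub_one K p n ?_))
    rcases hnot with h | h
    · exact Or.inr ⟨ha n p (by omega), ha n _ (by omega), ha _ _ (by omega)⟩
    · exact Or.inl ⟨hb n p (by omega), hb _ _ (by omega)⟩
  · intro p n
    refine ⟨max 1 (b (n + 1) - p).toNat, fun r hr => ?_⟩
    have hZ : ∀ r' : ℕ, max 1 (b (n + 1) - p).toNat ≤ r' → K.ZSub r' p n = K.ZTop p n := fun r' hr' =>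
      le_antisymm (ZSub_le_ZTop K r' p n (le_trans (le_max_left _ _) hr')
        (hb (n + 1) _ (by omega))) (ZTop_le_ZSub K r' p n)
    rw [hZ r hr, hZ _ le_rfl]
  · refine ⟨?_, fun S hS => (hS ⟨max 1 (b (n + 1) - p).toNat, rfl⟩).trans
      (ZSub_le_ZTop K _ p n (le_max_left _ _) (hb (n + 1) _ (by omega)))⟩
    rintro _ ⟨r, rfl⟩
    exact ZTop_le_ZSub K r p n
  · refine ⟨?_, fun S hS => (BBot_le_BSub K (max 1 (p + 1 - a n).toNat) p n (le_max_left _ _)
      (ha n _ (by omega))).trans (hS ⟨_, rfl⟩)⟩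
    rintro _ ⟨r, rfl⟩
    exact BSub_le_BBot K r p n
  · exact ⟨fun _ _ => bot_le, fun S hS => (hS ⟨_, hHbot n⟩)⟩
  · exact ⟨fun _ _ => le_top, fun S hS => (hS ⟨_, hHtop n⟩)⟩
  · intro n T f hf
    have hc : ∀ q, b n ≤ q → IsIso (cokernel.π ((K.HFil n).fil q).arrow) := fun q hq => by
      have h2 : (K.HFil n).fil q = ⊥ := le_bot_iff.1 (((K.HFil n).anti hq).trans (hHbot n).le)
      exact cokernel.π_of_zero (by rw [h2, Subobject.bot_arrow])
    have hcomp : ∀ q q' (h : q ≤ q'), cokernel.π ((K.HFil n).fil q').arrow ≫ (K.HFil n).quotMap h =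
        cokernel.π ((K.HFil n).fil q).arrow := fun q q' h => cokernel.π_desc _ _ _
    have := hc (b n) le_rfl
    refine ⟨f (b n) ≫ inv (cokernel.π ((K.HFil n).fil (b n)).arrow), fun q => ?_⟩
    rcases le_total q (b n) with h | h
    · rw [Category.assoc, ← hcomp q _ h, IsIso.inv_hom_id_assoc, hf q _ h]
    · have := hc q h
      have hm : IsIso ((K.HFil n).quotMap h) := IsIso.of_isIso_fac_left (hcomp _ q h)
      rw [← cancel_mono ((K.HFil n).quotMap h), Category.assoc, Category.assoc, hcomp _ q h,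
        IsIso.inv_hom_id, Category.comp_id, hf _ q h]

end Groth.Agent.CommAlg4.FilCxConv
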