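import Mathlib
import Groth.Prelude.Def_SpSeq
import Groth.Agent.CommAlg4.FilCxConv

/-! Pages of the spectral sequence of a filtered complex in a weak Serre subcategory. -/
set_option autoImplicit false
set_option linter.style.haveILetI false
universe v u
open CategoryTheory CategoryTheory.Limits HomologicalComplex
open Groth.Agent.CommAlg4.FilCxConv (factors_iff' le_of_refine exists_of_image_factors exists_of_sup_factors
  pullback_factors_iff' filX_factors_iff factors_of_epi_comp)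

namespace Groth.Agent.CommAlg4.FilCxPages

variable {A : Type u} [Category.{v} A] [Abelian A]

section Weak

variable (P : ObjectProperty A) [P.IsClosedUnderIsomorphisms] (h0 : ∃ Z : A, IsZero Z ∧ P Z)
  (hP : ∀ S : ComposableArrows A 4, S.Exact → P (S.obj 0) → P (S.obj 1) → P (S.obj 3) → P (S.obj 4) → P (S.obj 2))

omit [P.IsClosedUnderIsomorphisms] in
include hP in
theorem prop_of_five {X₀ X₁ X₂ X₃ X₄ : A} (f : X₀ ⟶ X₁) (g : X₁ ⟶ X₂) (h : X₂ ⟶ X₃) (i : X₃ ⟶ X₄)
    (w₁ : f ≫ g = 0) (w₂ : g ≫ h = 0) (w₃ : h ≫ i = 0) (e₁ : (ShortComplex.mk f g w₁).Exact)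
    (e₂ : (ShortComplex.mk g h w₂).Exact) (e₃ : (ShortComplex.mk h i w₃).Exact)
    (p₀ : P X₀) (p₁ : P X₁) (p₃ : P X₃) (p₄ : P X₄) : P X₂ :=
  hP (ComposableArrows.mk₄ f g h i)
    (ComposableArrows.exact_of_δ₀ e₁.exact_toComposableArrows
      (ComposableArrows.exact_of_δ₀ e₂.exact_toComposableArrows e₃.exact_toComposableArrows)) p₀ p₁ p₃ p₄

include h0 hP in
theorem prop_X₁ (S : ShortComplex A) (hS : S.Exact) [Mono S.f] (p₂ : P S.X₂) (p₃ : P S.X₃) : P S.X₁ := by
  obtain ⟨Z, hZ, pZ⟩ := h0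
  refine prop_of_five P hP (0 : Z ⟶ Z) (0 : Z ⟶ S.X₁) S.f S.g zero_comp zero_comp S.zero
    (ShortComplex.exact_of_isZero_X₂ _ hZ) ((ShortComplex.exact_iff_mono _ rfl).2 ‹Mono S.f›) hS pZ pZ p₂ p₃

include h0 hP in
theorem prop_X₃ (S : ShortComplex A) (hS : S.Exact) [Epi S.g] (p₁ : P S.X₁) (p₂ : P S.X₂) : P S.X₃ := by
  obtain ⟨Z, hZ, pZ⟩ := h0
  refine prop_of_five P hP S.f S.g (0 : S.X₃ ⟶ Z) (0 : Z ⟶ Z) S.zero comp_zero comp_zero hS
    ((ShortComplex.exact_iff_epi _ rfl).2 ‹Epi S.g›) (ShortComplex.exact_of_isZero_X₂ _ hZ) p₁ p₂ pZ pZ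

include h0 hP in
theorem prop_X₂ (S : ShortComplex A) (hS : S.Exact) [Mono S.f] [Epi S.g] (p₁ : P S.X₁) (p₃ : P S.X₃) : P S.X₂ := by
  obtain ⟨Z, hZ, pZ⟩ := h0
  refine prop_of_five P hP (0 : Z ⟶ S.X₁) S.f S.g (0 : S.X₃ ⟶ Z) zero_comp S.zero comp_zero
    ((ShortComplex.exact_iff_mono _ rfl).2 ‹Mono S.f›) hS
    ((ShortComplex.exact_iff_epi _ rfl).2 ‹Epi S.g›) pZ p₁ p₃ pZ

omit [Abelian A] in
include h0 in
theorem prop_zero {X : A} (hX : IsZero X) : P X := by
  obtain ⟨Z, hZ, pZ⟩ := h0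
  exact P.prop_of_iso (hZ.iso hX) pZ

end Weak

section Cls

variable {X Y : A} {Z B Z' B' : Subobject X} {h : B ≤ Z} {h' : B' ≤ Z'}

/-- The subquotient, transparently. -/
noncomputable abbrev sq (Z B : Subobject X) (h : B ≤ Z) : A := cokernel (B.ofLE Z h)

/-- The class in a subquotient of an element of the numerator. -/
noncomputable def cls (Z B : Subobject X) (h : B ≤ Z) {T : A} (x : T ⟶ X) (hx : Z.Factors x) :
    T ⟶ sq Z B h :=
  Z.factorThru x hx ≫ cokernel.π (B.ofLE Z h)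

theorem cls_comp {T T' : A} (π : T' ⟶ T) (x : T ⟶ X) (hx : Z.Factors x) :
    π ≫ cls Z B h x hx = cls Z B h (π ≫ x) (Subobject.factors_of_factors_right π hx) := by
  rw [cls, cls, ← Category.assoc]
  congr 1
  rw [← cancel_mono Z.arrow, Category.assoc, Subobject.factorThru_arrow, Subobject.factorThru_arrow]

theorem exists_cls {T : A} (y : T ⟶ sq Z B h) :
    ∃ (T' : A) (π : T' ⟶ T) (_ : Epi π) (x : T' ⟶ X) (hx : Z.Factors x), π ≫ y = cls Z B h x hx := by
  haveI : Epi (cokernel.π (B.ofLE Z h)) := inferInstance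
  obtain ⟨T', π, hπ, s, hs⟩ := surjective_up_to_refinements_of_epi (A := T) (cokernel.π (B.ofLE Z h)) y
  refine ⟨T', π, hπ, s ≫ Z.arrow, Subobject.factors_comp_arrow s, hs.trans ?_⟩
  rw [cls]
  congr 1
  rw [← cancel_mono Z.arrow, Subobject.factorThru_arrow]

theorem cls_eq_zero_iff {T : A} (x : T ⟶ X) (hx : Z.Factors x) : cls Z B h x hx = 0 ↔ B.Factors x := by
  constructor
  · intro h0
    replace h0 : Z.factorThru x hx ≫ cokernel.π (B.ofLE Z h) = 0 := h0
    exact (factors_iff' _ _).2 ⟨Abelian.monoLift (B.ofLE Z h) _ h0, by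
      rw [← Subobject.ofLE_arrow h, ← Category.assoc, Abelian.monoLift_comp, Subobject.factorThru_arrow]⟩
  · intro hB
    have : Z.factorThru x hx = B.factorThru x hB ≫ B.ofLE Z h := by
      rw [← cancel_mono Z.arrow, Category.assoc, Subobject.factorThru_arrow, Subobject.ofLE_arrow,
        Subobject.factorThru_arrow]
    rw [cls, this, Category.assoc, cokernel.condition, comp_zero]

theorem cls_eq_of_sub {T : A} (x x' : T ⟶ X) (hx : Z.Factors x) (hx' : Z.Factors x')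
    (hd : B.Factors (x - x')) : cls Z B h x hx = cls Z B h x' hx' := by
  have hm : Z.Factors (x - x') := Subobject.factors_of_le _ h hd
  rw [← sub_eq_zero, ← (cls_eq_zero_iff (h := h) (x - x') hm).2 hd, cls, cls, cls, ← Preadditive.sub_comp]
  congr 1
  rw [← cancel_mono Z.arrow, Preadditive.sub_comp, Subobject.factorThru_arrow, Subobject.factorThru_arrow,
    Subobject.factorThru_arrow]

theorem cls_congr {T : A} {x x' : T ⟶ X} (e : x = x') (hx : Z.Factors x) :
    cls Z B h x hx = cls Z B h x' (e ▸ hx) := by subst e; rfl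

/-- A morphism of subquotients induced by a morphism defined on representatives in `G`. -/
theorem exists_induced {Y : A} (Z₂ B₂ : Subobject Y) (h₂ : B₂ ≤ Z₂) (G : Subobject X) (f : X ⟶ Y)
    (hG : G ≤ Z) (hZ : Z ≤ G ⊔ B) (hf : ∀ ⦃T : A⦄ (s : T ⟶ X), G.Factors s → Z₂.Factors (s ≫ f))
    (hB : ∀ ⦃T : A⦄ (s : T ⟶ X), G.Factors s → B.Factors s → B₂.Factors (s ≫ f)) :
    ∃ u : sq Z B h ⟶ sq Z₂ B₂ h₂,
      (∀ ⦃T : A⦄ (s : T ⟶ X) (hs : G.Factors s),
        cls Z B h s (Subobject.factors_of_le _ hG hs) ≫ u = cls Z₂ B₂ h₂ (s ≫ f) (hf s hs)) ∧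
      ∀ ⦃T : A⦄ (y : T ⟶ sq Z B h), ∃ (T' : A) (π : T' ⟶ T) (_ : Epi π) (s : T' ⟶ X)
        (hs : G.Factors s), π ≫ y = cls Z B h s (Subobject.factors_of_le _ hG hs) := by
  have hGa : G.Factors G.arrow := (factors_iff' _ _).2 ⟨𝟙 _, Category.id_comp _⟩
  let φ : (G : A) ⟶ sq Z B h := cls Z B h G.arrow (Subobject.factors_of_le _ hG hGa)
  let ψ : (G : A) ⟶ sq Z₂ B₂ h₂ := cls Z₂ B₂ h₂ (G.arrow ≫ f) (hf _ hGa)
  have surj : ∀ ⦃T : A⦄ (y : T ⟶ sq Z B h), ∃ (T' : A) (π : T' ⟶ T) (_ : Epi π) (s : T' ⟶ X)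
      (hs : G.Factors s), π ≫ y = cls Z B h s (Subobject.factors_of_le _ hG hs) := by
    intro T y
    obtain ⟨T₁, π₁, _, x, hx, hy⟩ := exists_cls y
    obtain ⟨T₂, π₂, _, s, t, he, hs, ht⟩ := exists_of_sup_factors (Subobject.factors_of_le _ hZ hx)
    refine ⟨T₂, π₂ ≫ π₁, inferInstance, s, hs, ?_⟩
    rw [Category.assoc, hy, cls_comp]
    exact cls_eq_of_sub _ _ _ _ (by rwa [he, add_sub_cancel_left])
  haveI : Epi φ := (epi_iff_surjective_up_to_refinements φ).2 fun T y => by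
    obtain ⟨T', π, hπ, s, hs, hy⟩ := surj y
    refine ⟨T', π, hπ, G.factorThru s hs, hy.trans ?_⟩
    show _ = G.factorThru s hs ≫ cls Z B h G.arrow _
    rw [cls_comp]
    exact cls_congr (Subobject.factorThru_arrow _ _ _).symm _
  have hker : kernel.ι φ ≫ ψ = 0 := by
    have h1 : kernel.ι φ ≫ φ = 0 := kernel.condition φ
    change kernel.ι φ ≫ cls Z B h G.arrow _ = 0 at h1
    rw [cls_comp, cls_eq_zero_iff] at h1
    show kernel.ι φ ≫ cls Z₂ B₂ h₂ _ _ = 0
    rw [cls_comp, cls_eq_zero_iff, ← Category.assoc]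
    exact hB _ (Subobject.factors_comp_arrow _) h1
  refine ⟨Abelian.epiDesc φ ψ hker, fun T s hs => ?_, surj⟩
  have e1 : cls Z B h s (Subobject.factors_of_le _ hG hs) = G.factorThru s hs ≫ φ := by
    show _ = G.factorThru s hs ≫ cls Z B h G.arrow _
    rw [cls_comp]
    exact cls_congr (Subobject.factorThru_arrow _ _ _).symm _
  rw [e1, Category.assoc, Abelian.comp_epiDesc]
  show G.factorThru s hs ≫ cls Z₂ B₂ h₂ _ _ = _
  rw [cls_comp]
  exact cls_congr (by rw [← Category.assoc, Subobject.factorThru_arrow]) _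

end Cls

section Pages

variable (K : SpSeq.FilCx A)

/-- `F^p K^n ⊓ d⁻¹ (F^q K^m)`. -/
noncomputable abbrev Gsub (p n q m : ℤ) : Subobject (K.obj.X n) :=
  K.filX p n ⊓ (Subobject.pullback (K.obj.d n m)).obj (K.filX q m)

theorem Gsub_factors (p n q m : ℤ) {T : A} (x : T ⟶ K.obj.X n) :
    (Gsub K p n q m).Factors x ↔ (K.filX p n).Factors x ∧ (K.filX q m).Factors (x ≫ K.obj.d n m) := by
  rw [Subobject.inf_factors, pullback_factors_iff']

theorem ZSub_eq (r : ℕ) (p n q m : ℤ) (hq : p + r = q) (hm : n + 1 = m) :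
    K.ZSub r p n = Gsub K p n q m ⊔ K.filX (p + 1) n := by subst hq hm; rfl

theorem BSub_cases (r : ℕ) (p n q m : ℤ) (hq : q + r = p + 1) (hm : m + 1 = n) {T : A} {x : T ⟶ K.obj.X n}
    (h : (K.BSub r p n).Factors x) :
    ∃ (T' : A) (π : T' ⟶ T) (_ : Epi π) (w : T' ⟶ K.obj.X m) (t : T' ⟶ K.obj.X n),
      π ≫ x = w ≫ K.obj.d m n + t ∧ (K.filX q m).Factors w ∧ (K.filX (p + 1) n).Factors t ∧
        (K.filX p n).Factors (w ≫ K.obj.d m n) := by
  obtain rfl : m = n - 1 := by omega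
  obtain rfl : q = p - r + 1 := by omega
  obtain ⟨T₁, π₁, _, s, t, he, hs, ht⟩ := exists_of_sup_factors h
  rw [Subobject.inf_factors] at hs
  obtain ⟨T₂, π₂, _, w, hw⟩ := exists_of_image_factors _ hs.2
  refine ⟨T₂, π₂ ≫ π₁, inferInstance, w ≫ (K.filX (p - r + 1) (n - 1)).arrow, π₂ ≫ t, ?_,
    Subobject.factors_comp_arrow w, Subobject.factors_of_factors_right π₂ ht, ?_⟩
  · rw [Category.assoc, he, Preadditive.comp_add, hw, Category.assoc]
  · rw [Category.assoc, ← hw]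
    exact Subobject.factors_of_factors_right π₂ hs.1

theorem BSub_intro (r : ℕ) (p n q m : ℤ) (hq : q + r = p + 1) (hm : m + 1 = n) {T : A} (w : T ⟶ K.obj.X m)
    (t : T ⟶ K.obj.X n) (hw : (K.filX q m).Factors w) (ht : (K.filX (p + 1) n).Factors t)
    (hwd : (K.filX p n).Factors (w ≫ K.obj.d m n)) : (K.BSub r p n).Factors (w ≫ K.obj.d m n + t) := by
  obtain rfl : m = n - 1 := by omega
  obtain rfl : q = p - r + 1 := by omega
  obtain ⟨v, hv⟩ := (factors_iff' _ _).1 hw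
  refine Subobject.factors_add _ _ (Subobject.sup_factors_of_factors_left ((Subobject.inf_factors _).2 ⟨hwd, ?_⟩))
    (Subobject.sup_factors_of_factors_right ht)
  rw [← hv, Category.assoc]
  exact imageSubobject_factors_comp_self _ _

theorem BSub_le_ZSub' (r r' : ℕ) (p n : ℤ) : K.BSub r p n ≤ K.ZSub r' p n := by
  refine le_of_refine fun T x hx => ?_
  obtain ⟨T', π, hπ, w, t, he, hw, ht, hwd⟩ := BSub_cases K r p n (p + 1 - r) (n - 1) (by omega) (by omega) hx
  refine ⟨T', π, hπ, ?_⟩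
  rw [he, ZSub_eq K r' p n (p + r') (n + 1) rfl rfl]
  refine Subobject.factors_add _ _ (Subobject.sup_factors_of_factors_left ((Gsub_factors K _ _ _ _ _).2 ⟨hwd, ?_⟩))
    (Subobject.sup_factors_of_factors_right ht)
  rw [Category.assoc, K.obj.d_comp_d, comp_zero]
  exact Subobject.factors_zero

theorem BSub_le_succ (r : ℕ) (p n : ℤ) : K.BSub r p n ≤ K.BSub (r + 1) p n := by
  refine le_of_refine fun T x hx => ?_
  obtain ⟨T', π, hπ, w, t, he, hw, ht, hwd⟩ := BSub_cases K r p n (p + 1 - r) (n - 1) (by omega) (by omega) hx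
  refine ⟨T', π, hπ, ?_⟩
  rw [he]
  exact BSub_intro K (r + 1) p n (p - r) (n - 1) (by push_cast; omega) (by omega) w t
    (Subobject.factors_of_le w (K.filX_anti _ (by omega)) hw) ht hwd

theorem ZSub_succ_le (r : ℕ) (p n : ℤ) : K.ZSub (r + 1) p n ≤ K.ZSub r p n := by
  rw [ZSub_eq K (r + 1) p n (p + r + 1) (n + 1) (by push_cast; omega) rfl, ZSub_eq K r p n (p + r) (n + 1) rfl rfl]
  refine sup_le_sup_right (inf_le_inf_left _ (le_of_refine fun T x hx => ⟨T, 𝟙 T, inferInstance, ?_⟩)) _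
  rw [pullback_factors_iff'] at hx
  rw [Category.id_comp, pullback_factors_iff']
  exact Subobject.factors_of_le _ (K.filX_anti _ (by omega)) hx

theorem filX_le_BSub (r : ℕ) (p n : ℤ) : K.filX (p + 1) n ≤ K.BSub r p n := le_sup_right

variable (P : ObjectProperty A) [P.IsClosedUnderIsomorphisms] (h0 : ∃ Z : A, IsZero Z ∧ P Z)
  (hP : ∀ S : ComposableArrows A 4, S.Exact → P (S.obj 0) → P (S.obj 1) → P (S.obj 3) → P (S.obj 4) → P (S.obj 2))

include h0 hP in
theorem prop_middle (r : ℕ) (p n : ℤ) (hE : ∀ p n, P (K.E r p n)) :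
    P (sq (K.ZSub (r + 1) p n) (K.BSub r p n) (BSub_le_ZSub' K r (r + 1) p n)) := by
  let q := p + r
  let m := n + 1
  have hG : Gsub K p n q m ≤ K.ZSub r p n := le_sup_left
  have hZ : K.ZSub r p n ≤ Gsub K p n q m ⊔ K.BSub r p n := sup_le_sup_left (filX_le_BSub K r p n) _
  obtain ⟨u, hu, -⟩ := exists_induced (h := K.BSub_le_ZSub r p n) (K.ZSub r q m) (K.BSub r q m)
    (K.BSub_le_ZSub r q m) (Gsub K p n q m) (K.obj.d n m) hG hZ (fun T s hs => by
      rw [ZSub_eq K r q m (q + r) (m + 1) rfl rfl]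
      refine Subobject.sup_factors_of_factors_left ((Gsub_factors K _ _ _ _ _).2
        ⟨((Gsub_factors K _ _ _ _ _).1 hs).2, ?_⟩)
      rw [Category.assoc, K.obj.d_comp_d, comp_zero]
      exact Subobject.factors_zero) (fun T s hs hsB => by
      obtain ⟨T', π, _, w, t, he, hw, ht, hwd⟩ := BSub_cases K r p n (p + 1 - r) (n - 1) (by omega) (by omega) hsB
      refine factors_of_epi_comp _ π ?_
      have htd : π ≫ s ≫ K.obj.d n m = t ≫ K.obj.d n m + 0 := by
        rw [← Category.assoc, he, Preadditive.add_comp, Category.assoc, K.obj.d_comp_d, comp_zero, zero_add, add_zero]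
      rw [htd]
      refine BSub_intro K r q m (p + 1) n (by omega) rfl t 0 ht Subobject.factors_zero ?_
      rw [← add_zero (t ≫ K.obj.d n m), ← htd]
      exact Subobject.factors_of_factors_right π ((Gsub_factors K _ _ _ _ _).1 hs).2)
  obtain ⟨ι, hι, hιs⟩ := exists_induced (h := BSub_le_ZSub' K r (r + 1) p n) (K.ZSub r p n) (K.BSub r p n)
    (K.BSub_le_ZSub r p n) (K.ZSub (r + 1) p n) (𝟙 _) le_rfl le_sup_left
    (fun T s hs => by rw [Category.comp_id]; exact Subobject.factors_of_le _ (ZSub_succ_le K r p n) hs)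
    (fun T s _ hsB => by rwa [Category.comp_id])
  have hzero : ι ≫ u = 0 := by
    obtain ⟨T, π, _, s, hs, hy⟩ := hιs (𝟙 _)
    rw [Category.comp_id] at hy
    obtain ⟨T', π', _, a, b, he, ha, hb⟩ := exists_of_sup_factors
      (by rwa [ZSub_eq K (r + 1) p n (q + 1) m (by push_cast; omega) rfl] at hs)
    rw [← cancel_epi (π' ≫ π), comp_zero, Category.assoc, reassoc_of% hy, reassoc_of% (hι s hs),
      ← Category.assoc, cls_comp]
    have ha' : (Gsub K p n q m).Factors a := (Gsub_factors K _ _ _ _ _).2 ⟨((Gsub_factors K _ _ _ _ _).1 ha).1,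
      Subobject.factors_of_le _ (K.filX_anti _ (by omega)) ((Gsub_factors K _ _ _ _ _).1 ha).2⟩
    rw [cls_eq_of_sub (π' ≫ s) a _ (Subobject.factors_of_le _ hG ha')
      (Subobject.factors_of_le _ (filX_le_BSub K r p n) (by rwa [he, add_sub_cancel_left])),
      hu a ha', cls_eq_zero_iff]
    exact Subobject.factors_of_le _ (filX_le_BSub K r q m) ((Gsub_factors K _ _ _ _ _).1 ha).2
  haveI : Mono ι := Preadditive.mono_of_cancel_zero _ fun {T} y hy => by
    obtain ⟨T', π, _, s, hs, hy'⟩ := hιs y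
    have := π ≫= hy
    rw [comp_zero, reassoc_of% hy', hι s hs, cls_eq_zero_iff, Category.comp_id] at this
    rw [← cancel_epi π, comp_zero, hy', cls_eq_zero_iff]
    exact this
  have hex : (ShortComplex.mk ι u hzero).Exact := by
    rw [ShortComplex.exact_iff_exact_up_to_refinements]
    intro T y hy
    obtain ⟨T₁, π₁, _, x, hx, hy₁⟩ := exists_cls y
    obtain ⟨T₂, π₂, _, a, b, he, ha, hb⟩ := exists_of_sup_factors (Subobject.factors_of_le _ hZ hx)
    have hy₂ : (π₂ ≫ π₁) ≫ y = cls _ _ (K.BSub_le_ZSub r p n) a (Subobject.factors_of_le _ hG ha) := by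
      rw [Category.assoc]
      refine (congrArg (π₂ ≫ ·) hy₁).trans ((cls_comp _ _ _).trans ?_)
      exact cls_eq_of_sub _ _ _ _ (by rwa [he, add_sub_cancel_left])
    have had := (π₂ ≫ π₁) ≫= hy
    rw [comp_zero, ← Category.assoc] at had
    replace had := (congrArg (· ≫ u) hy₂).symm.trans had
    rw [hu a ha, cls_eq_zero_iff] at had
    obtain ⟨T₃, π₃, _, w, t, he', hw, ht, hwd⟩ := BSub_cases K r q m (p + 1) n (by omega) rfl had
    have haZ : (K.ZSub (r + 1) p n).Factors (π₃ ≫ a) := by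
      rw [ZSub_eq K (r + 1) p n (q + 1) m (by push_cast; omega) rfl, show π₃ ≫ a = (π₃ ≫ a - w) + w by abel]
      refine Subobject.factors_add _ _ (Subobject.sup_factors_of_factors_left ((Gsub_factors K _ _ _ _ _).2 ⟨?_, ?_⟩))
        (Subobject.sup_factors_of_factors_right hw)
      · obtain ⟨v, hv⟩ := (factors_iff' _ _).1 (Subobject.factors_of_factors_right π₃ ((Gsub_factors K _ _ _ _ _).1 ha).1)
        obtain ⟨v', hv'⟩ := (factors_iff' _ _).1 (Subobject.factors_of_le w (K.filX_anti _ (show p ≤ p + 1 by omega)) hw)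
        exact (factors_iff' _ _).2 ⟨v - v', by rw [Preadditive.sub_comp, hv, hv']⟩
      · rw [Preadditive.sub_comp, Category.assoc, he', add_sub_cancel_left]
        exact ht
    refine ⟨T₃, π₃ ≫ π₂ ≫ π₁, inferInstance, cls _ _ _ (π₃ ≫ a) haZ, ?_⟩
    show (π₃ ≫ π₂ ≫ π₁) ≫ y = cls _ _ _ (π₃ ≫ a) haZ ≫ ι
    rw [hι _ haZ, Category.assoc]
    refine ((congrArg (π₃ ≫ ·) hy₂).trans (cls_comp _ _ _)).trans (cls_congr (Category.comp_id _).symm _)
  haveI : Mono (ShortComplex.mk ι u hzero).f := ‹Mono ι›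
  exact prop_X₁ P h0 hP (ShortComplex.mk ι u hzero) hex (hE p n) (hE q m)

include h0 hP in
theorem prop_succ (r : ℕ) (hE : ∀ p n, P (K.E r p n)) (p n : ℤ) : P (K.E (r + 1) p n) := by
  obtain ⟨q, rfl⟩ : ∃ q, p = q + r := ⟨p - r, by omega⟩
  obtain ⟨m, rfl⟩ : ∃ m, n = m + 1 := ⟨n - 1, by omega⟩
  have hG : Gsub K q m (q + r) (m + 1) ≤ K.ZSub r q m := le_sup_left
  obtain ⟨v, hv, hvs⟩ := exists_induced (h := K.BSub_le_ZSub r q m) (K.ZSub (r + 1) (q + r) (m + 1))
    (K.BSub r (q + r) (m + 1)) (BSub_le_ZSub' K r (r + 1) _ _) (Gsub K q m (q + r) (m + 1)) (K.obj.d m (m + 1)) hG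
    (sup_le_sup_left (filX_le_BSub K r q m) _) (fun T s hs => by
      rw [ZSub_eq K (r + 1) (q + r) (m + 1) _ _ rfl rfl]
      refine Subobject.sup_factors_of_factors_left ((Gsub_factors K _ _ _ _ _).2
        ⟨((Gsub_factors K _ _ _ _ _).1 hs).2, ?_⟩)
      rw [Category.assoc, K.obj.d_comp_d, comp_zero]
      exact Subobject.factors_zero) (fun T s hs hsB => by
      obtain ⟨T', π, _, w, t, he, hw, ht, hwd⟩ := BSub_cases K r q m (q + 1 - r) (m - 1) (by omega) (by omega) hsB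
      refine factors_of_epi_comp _ π ?_
      have htd : π ≫ s ≫ K.obj.d m (m + 1) = t ≫ K.obj.d m (m + 1) + 0 := by
        rw [← Category.assoc, he, Preadditive.add_comp, Category.assoc, K.obj.d_comp_d, comp_zero, zero_add, add_zero]
      rw [htd]
      refine BSub_intro K r (q + r) (m + 1) (q + 1) m (by omega) rfl t 0 ht Subobject.factors_zero ?_
      rw [← add_zero (t ≫ K.obj.d m (m + 1)), ← htd]
      exact Subobject.factors_of_factors_right π ((Gsub_factors K _ _ _ _ _).1 hs).2)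
  obtain ⟨w, hw, hws⟩ := exists_induced (h := BSub_le_ZSub' K r (r + 1) (q + r) (m + 1))
    (K.ZSub (r + 1) (q + r) (m + 1)) (K.BSub (r + 1) (q + r) (m + 1)) (K.BSub_le_ZSub (r + 1) _ _)
    (K.ZSub (r + 1) (q + r) (m + 1)) (𝟙 _) le_rfl le_sup_left
    (fun T s hs => by rwa [Category.comp_id])
    (fun T s _ hsB => by rw [Category.comp_id]; exact Subobject.factors_of_le _ (BSub_le_succ K r _ _) hsB)
  have hzero : v ≫ w = 0 := by
    obtain ⟨T, π, _, s, hs, hy⟩ := hvs (𝟙 _)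
    rw [Category.comp_id] at hy
    have hsd : (K.ZSub (r + 1) (q + r) (m + 1)).Factors (s ≫ K.obj.d m (m + 1)) := by
      rw [ZSub_eq K (r + 1) (q + r) (m + 1) _ _ rfl rfl]
      refine Subobject.sup_factors_of_factors_left ((Gsub_factors K _ _ _ _ _).2
        ⟨((Gsub_factors K _ _ _ _ _).1 hs).2, ?_⟩)
      rw [Category.assoc, K.obj.d_comp_d, comp_zero]
      exact Subobject.factors_zero
    rw [← cancel_epi π, comp_zero, reassoc_of% hy, reassoc_of% (hv s hs), hw _ hsd, cls_eq_zero_iff, Category.comp_id,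
      ← add_zero (s ≫ K.obj.d m (m + 1))]
    obtain ⟨hs1, hs2⟩ := (Gsub_factors K _ _ _ _ _).1 hs
    exact BSub_intro K (r + 1) _ _ q m (by push_cast; omega) rfl s 0 hs1 Subobject.factors_zero hs2
  haveI : Epi w := (epi_iff_surjective_up_to_refinements w).2 fun T y => by
    obtain ⟨T', π, hπ, x, hx, hy⟩ := exists_cls y
    exact ⟨T', π, hπ, cls _ _ (BSub_le_ZSub' K r (r + 1) _ _) x hx,
      hy.trans ((hw x hx).trans (cls_congr (Category.comp_id _) _)).symm⟩
  have hex : (ShortComplex.mk v w hzero).Exact := by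
    rw [ShortComplex.exact_iff_exact_up_to_refinements]
    intro T y hy
    obtain ⟨T₁, π₁, _, x, hx, hy₁⟩ := hws y
    have hxB := π₁ ≫= hy
    rw [comp_zero, ← Category.assoc] at hxB
    replace hxB := (congrArg (· ≫ w) hy₁).symm.trans hxB
    rw [hw x hx, cls_eq_zero_iff, Category.comp_id] at hxB
    obtain ⟨T₂, π₂, _, s, t, he, hs, ht, hsd⟩ := BSub_cases K (r + 1) (q + r) (m + 1) q m (by push_cast; omega) rfl hxB
    have hsG : (Gsub K q m (q + r) (m + 1)).Factors s := (Gsub_factors K _ _ _ _ _).2 ⟨hs, hsd⟩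
    refine ⟨T₂, π₂ ≫ π₁, inferInstance, cls _ _ _ s (Subobject.factors_of_le _ hG hsG), ?_⟩
    show (π₂ ≫ π₁) ≫ y = _ ≫ v
    rw [hv s hsG, Category.assoc]
    refine ((congrArg (π₂ ≫ ·) hy₁).trans (cls_comp _ _ _)).trans (cls_eq_of_sub _ _ _ _ ?_)
    exact Subobject.factors_of_le _ (filX_le_BSub K r _ _) (by rwa [he, add_sub_cancel_left])
  haveI : Epi (ShortComplex.mk v w hzero).g := ‹Epi w›
  exact prop_X₃ P h0 hP (ShortComplex.mk v w hzero) hex (hE q m) (prop_middle K P h0 hP r _ _ hE)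

end Pages

section Abutment

variable (K : SpSeq.FilCx A)

/-- The homology class of a cycle. -/
noncomputable abbrev hcls (n : ℤ) {T : A} (s : T ⟶ K.obj.X n) (hs : s ≫ K.obj.d n (n + 1) = 0) :
    T ⟶ K.obj.homology n :=
  K.obj.liftCycles s (n + 1) (by simp) hs ≫ K.obj.homologyπ n

theorem comp_hcls (n : ℤ) {T T' : A} (π : T' ⟶ T) (s : T ⟶ K.obj.X n) (hs : s ≫ K.obj.d n (n + 1) = 0) :
    π ≫ hcls K n s hs = hcls K n (π ≫ s) (by rw [Category.assoc, hs, comp_zero]) := by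
  rw [← Category.assoc]
  congr 1
  rw [← cancel_mono (K.obj.iCycles n), Category.assoc, HomologicalComplex.liftCycles_i,
    HomologicalComplex.liftCycles_i]

theorem hcls_sub (n : ℤ) {T : A} (s t : T ⟶ K.obj.X n) (hs : s ≫ K.obj.d n (n + 1) = 0) (ht : t ≫ K.obj.d n (n + 1) = 0) :
    hcls K n s hs - hcls K n t ht = hcls K n (s - t) (by rw [Preadditive.sub_comp, hs, ht, sub_zero]) := by
  rw [← Preadditive.sub_comp]
  congr 1
  rw [← cancel_mono (K.obj.iCycles n), Preadditive.sub_comp, HomologicalComplex.liftCycles_i,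
    HomologicalComplex.liftCycles_i, HomologicalComplex.liftCycles_i]

theorem hcls_eq_zero_iff (n : ℤ) {T : A} (s : T ⟶ K.obj.X n) (hs : s ≫ K.obj.d n (n + 1) = 0) :
    hcls K n s hs = 0 ↔
      ∃ (T' : A) (π : T' ⟶ T) (_ : Epi π) (w : T' ⟶ K.obj.X (n - 1)), π ≫ s = w ≫ K.obj.d (n - 1) n :=
  K.obj.liftCycles_comp_homologyπ_eq_zero_iff_up_to_refinements (n - 1) n (n + 1) (by simp) (by simp) s hs

theorem hcls_ι (p n : ℤ) {T : A} (z : T ⟶ (K.fil p : CochainComplex A ℤ).X n)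
    (hz : z ≫ (K.fil p : CochainComplex A ℤ).d n (n + 1) = 0)
    (hs : (z ≫ FilCxConv.ι K p n) ≫ K.obj.d n (n + 1) = 0) :
    hcls K n (z ≫ FilCxConv.ι K p n) hs =
      ((K.fil p : CochainComplex A ℤ).liftCycles z (n + 1) (by simp) hz ≫
        (K.fil p : CochainComplex A ℤ).homologyπ n) ≫ homologyMap (K.fil p).arrow n := by
  rw [Category.assoc, HomologicalComplex.homologyπ_naturality, ← Category.assoc,
    HomologicalComplex.liftCycles_comp_cyclesMap]

theorem filH_factors (p n : ℤ) {T : A} (y : T ⟶ K.obj.homology n) :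
    (K.filH p n).Factors y ↔ ∃ (T' : A) (π : T' ⟶ T) (_ : Epi π) (s : T' ⟶ K.obj.X n)
      (hs : s ≫ K.obj.d n (n + 1) = 0), (K.filX p n).Factors s ∧ π ≫ y = hcls K n s hs := by
  constructor
  · intro hy
    obtain ⟨T₁, π₁, _, γ, hγ⟩ := exists_of_image_factors _ hy
    obtain ⟨T₂, π₂, _, z, hz, hγz⟩ :=
      (K.fil p : CochainComplex A ℤ).eq_liftCycles_homologyπ_up_to_refinements γ (n + 1) (by simp)
    have hs : (z ≫ FilCxConv.ι K p n) ≫ K.obj.d n (n + 1) = 0 := by
      rw [Category.assoc, ← FilCxConv.ι_comm, reassoc_of% hz, zero_comp]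
    refine ⟨T₂, π₂ ≫ π₁, inferInstance, z ≫ FilCxConv.ι K p n, hs, (filX_factors_iff K _ _ _).2 ⟨z, rfl⟩, ?_⟩
    rw [hcls_ι K p n z hz hs, Category.assoc, hγ, reassoc_of% hγz, Category.assoc]
  · rintro ⟨T', π, _, s, hs, hsF, hy⟩
    obtain ⟨z, rfl⟩ := (filX_factors_iff K _ _ _).1 hsF
    have hz : z ≫ (K.fil p : CochainComplex A ℤ).d n (n + 1) = 0 :=
      FilCxConv.cycle_of_comp K p n z (by rwa [← Category.assoc])
    refine factors_of_epi_comp _ π ?_
    rw [hy, hcls_ι K p n z hz hs]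
    exact imageSubobject_factors_comp_self _ _

variable (P : ObjectProperty A) [P.IsClosedUnderIsomorphisms] (h0 : ∃ Z : A, IsZero Z ∧ P Z)
  (hP : ∀ S : ComposableArrows A 4, S.Exact → P (S.obj 0) → P (S.obj 1) → P (S.obj 3) → P (S.obj 4) → P (S.obj 2))

include h0 hP in
theorem prop_filH_step (p n : ℤ) (hQ : P (sq (K.ZTop p n) (K.BBot p n)
      (sup_le_sup_right (inf_le_inf_left _ (le_kernelSubobject _ _ (imageSubobject_arrow_comp_eq_zero (by simp)))) _)))
    (hnext : P (K.filH (p + 1) n : A)) : P (K.filH p n : A) := by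
  let Zc : Subobject (K.obj.X n) := K.filX p n ⊓ kernelSubobject (K.obj.d n (n + 1))
  have hZ : Zc ≤ K.ZTop p n := le_sup_left
  have hZa : Zc.Factors Zc.arrow := (factors_iff' _ _).2 ⟨𝟙 _, Category.id_comp _⟩
  have hcyc : ∀ {T : A} {s : T ⟶ K.obj.X n}, Zc.Factors s → (K.filX p n).Factors s ∧ s ≫ K.obj.d n (n + 1) = 0 := by
    intro T s hs
    rw [Subobject.inf_factors, kernelSubobject_factors_iff] at hs
    exact hs
  have hH : ∀ {T : A} {s : T ⟶ K.obj.X n} (hs : Zc.Factors s), (K.filH p n).Factors (hcls K n s (hcyc hs).2) :=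
    fun {T s} hs => (filH_factors K p n _).2
      ⟨T, 𝟙 T, inferInstance, s, (hcyc hs).2, (hcyc hs).1, Category.id_comp _⟩
  let φ : (Zc : A) ⟶ (K.filH p n : A) := (K.filH p n).factorThru _ (hH hZa)
  have hBle : K.BBot p n ≤ K.ZTop p n :=
    sup_le_sup_right (inf_le_inf_left _ (le_kernelSubobject _ _ (imageSubobject_arrow_comp_eq_zero (by simp)))) _
  let ψ : (Zc : A) ⟶ sq (K.ZTop p n) (K.BBot p n) hBle :=
    cls _ _ _ Zc.arrow (Subobject.factors_of_le _ hZ hZa)
  have hφ : ∀ {T : A} (v : T ⟶ (Zc : A)), (v ≫ φ) ≫ (K.filH p n).arrow =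
      hcls K n (v ≫ Zc.arrow) (by rw [Category.assoc, (hcyc hZa).2, comp_zero]) := fun v => by
    rw [Category.assoc, Subobject.factorThru_arrow, comp_hcls]
  have hψ : ∀ {T : A} (v : T ⟶ (Zc : A)), v ≫ ψ = cls _ _ hBle (v ≫ Zc.arrow)
      (Subobject.factors_of_le _ hZ (Subobject.factors_comp_arrow v)) := fun v => cls_comp _ _ _
  haveI : Epi φ := (epi_iff_surjective_up_to_refinements φ).2 fun T y => by
    obtain ⟨T', π, hπ, s, hs, hsF, he⟩ := (filH_factors K p n (y ≫ (K.filH p n).arrow)).1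
      (Subobject.factors_comp_arrow y)
    have hsZ : Zc.Factors s := by rw [Subobject.inf_factors, kernelSubobject_factors_iff]; exact ⟨hsF, hs⟩
    refine ⟨T', π, hπ, Zc.factorThru s hsZ, ?_⟩
    rw [← cancel_mono (K.filH p n).arrow, hφ, Category.assoc, he]
    simp only [Subobject.factorThru_arrow]
  have hker : kernel.ι φ ≫ ψ = 0 := by
    obtain ⟨T, π, _, w, hw⟩ := (hcls_eq_zero_iff K n _ (by rw [Category.assoc, (hcyc hZa).2, comp_zero])).1
      ((hφ (kernel.ι φ)).symm.trans (by rw [kernel.condition, zero_comp]))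
    rw [hψ, cls_eq_zero_iff]
    refine factors_of_epi_comp _ π (Subobject.sup_factors_of_factors_left ?_)
    rw [Subobject.inf_factors]
    refine ⟨Subobject.factors_of_factors_right π (hcyc (Subobject.factors_comp_arrow _)).1, ?_⟩
    rw [hw]
    exact Subobject.factors_of_le _ le_rfl (imageSubobject_factors_comp_self _ _)
  let u : (K.filH p n : A) ⟶ sq (K.ZTop p n) (K.BBot p n) hBle := Abelian.epiDesc φ ψ hker
  have hu : φ ≫ u = ψ := Abelian.comp_epiDesc φ ψ hker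
  haveI : Epi u := (epi_iff_surjective_up_to_refinements u).2 fun T y => by
    obtain ⟨T₁, π₁, _, x, hx, hy⟩ := exists_cls y
    obtain ⟨T₂, π₂, _, a, b, he, ha, hb⟩ := exists_of_sup_factors hx
    refine ⟨T₂, π₂ ≫ π₁, inferInstance, Zc.factorThru a ha ≫ φ, ?_⟩
    rw [Category.assoc (Zc.factorThru a ha), hu, hψ, Category.assoc, hy, cls_comp]
    refine cls_eq_of_sub _ _ _ _ (Subobject.sup_factors_of_factors_right ?_)
    rwa [Subobject.factorThru_arrow, he, add_sub_cancel_left]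
  let j := (K.filH (p + 1) n).ofLE (K.filH p n) (K.filH_anti n (show p ≤ p + 1 by omega))
  have hju : j ≫ u = 0 := by
    obtain ⟨T₁, π₁, _, s, hs, hsF, he⟩ := (filH_factors K (p + 1) n (K.filH (p + 1) n).arrow).1
      ((factors_iff' _ _).2 ⟨𝟙 _, Category.id_comp _⟩)
    have hsZ : Zc.Factors s := by
      rw [Subobject.inf_factors, kernelSubobject_factors_iff]
      exact ⟨Subobject.factors_of_le _ (K.filX_anti n (show p ≤ p + 1 by omega)) hsF, hs⟩
    have hlift : π₁ ≫ j = Zc.factorThru s hsZ ≫ φ := by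
      rw [← cancel_mono (K.filH p n).arrow, hφ, Category.assoc, Subobject.ofLE_arrow, he]
      simp only [Subobject.factorThru_arrow]
    rw [← cancel_epi π₁, comp_zero, reassoc_of% hlift, hu, hψ, cls_eq_zero_iff]
    exact Subobject.sup_factors_of_factors_right (by rwa [Subobject.factorThru_arrow])
  have hex : (ShortComplex.mk j u hju).Exact := by
    rw [ShortComplex.exact_iff_exact_up_to_refinements]
    intro T y hy
    obtain ⟨T₁, π₁, _, v, hv⟩ := surjective_up_to_refinements_of_epi φ y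
    have h1 := π₁ ≫= hy
    rw [comp_zero, ← Category.assoc] at h1
    replace h1 := (congrArg (· ≫ u) hv).symm.trans h1
    rw [Category.assoc, hu, hψ, cls_eq_zero_iff] at h1
    obtain ⟨T₂, π₂, _, a, t, he, ha, ht⟩ := exists_of_sup_factors h1
    rw [Subobject.inf_factors] at ha
    obtain ⟨T₃, π₃, _, w, hw⟩ := exists_of_image_factors _ ha.2
    have hc : ((π₃ ≫ π₂) ≫ v ≫ Zc.arrow) ≫ K.obj.d n (n + 1) = 0 := by
      simp only [Category.assoc, (hcyc hZa).2, comp_zero]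
    have hd0 : (π₃ ≫ π₂) ≫ v ≫ Zc.arrow - π₃ ≫ t = w ≫ K.obj.d (n - 1) n := by
      rw [Category.assoc, he, Preadditive.comp_add, hw, add_sub_cancel_right]
    have hct : (π₃ ≫ t) ≫ K.obj.d n (n + 1) = 0 := by
      have h := hd0 =≫ K.obj.d n (n + 1)
      rw [Preadditive.sub_comp, hc, zero_sub, Category.assoc w, K.obj.d_comp_d, comp_zero, neg_eq_zero] at h
      exact h
    have hfac : (K.filH (p + 1) n).Factors (((π₃ ≫ π₂ ≫ π₁) ≫ y) ≫ (K.filH p n).arrow) := by
      refine (filH_factors K (p + 1) n _).2 ⟨T₃, 𝟙 _, inferInstance, π₃ ≫ t, hct,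
        Subobject.factors_of_factors_right π₃ ht, ?_⟩
      have hyv : (π₃ ≫ π₂ ≫ π₁) ≫ y = ((π₃ ≫ π₂) ≫ v) ≫ φ := by simp only [Category.assoc, hv]
      rw [Category.id_comp, hyv, hφ, ← sub_eq_zero, hcls_sub, hcls_eq_zero_iff]
      exact ⟨T₃, 𝟙 _, inferInstance, w, by rw [Category.id_comp, Category.assoc (π₃ ≫ π₂) v, hd0]⟩
    obtain ⟨x', hx'⟩ := (factors_iff' _ _).1 hfac
    refine ⟨T₃, π₃ ≫ π₂ ≫ π₁, inferInstance, x', ?_⟩
    show (π₃ ≫ π₂ ≫ π₁) ≫ y = x' ≫ j
    rw [← cancel_mono (K.filH p n).arrow]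
    refine hx'.symm.trans ?_
    rw [Category.assoc, Subobject.ofLE_arrow]
  haveI : Mono (ShortComplex.mk j u hju).f := inferInstanceAs (Mono j)
  haveI : Epi (ShortComplex.mk j u hju).g := ‹Epi u›
  exact prop_X₂ P h0 hP (ShortComplex.mk j u hju) hex hnext hQ

include h0 hP in
theorem prop_homology (hK : ∀ n : ℤ, (K.XFil n).IsFinite) (r : ℕ) (hr : ∀ p n : ℤ, P (K.E r p n)) (n : ℤ) :
    P (K.obj.homology n) := by
  have hall : ∀ (k : ℕ) (p n : ℤ), P (K.E (r + k) p n) := fun k => by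
    induction k with
    | zero => exact hr
    | succ k ih => exact prop_succ K P h0 hP (r + k) ih
  obtain ⟨⟨a₀, ha₀⟩, -⟩ := hK (n - 1)
  obtain ⟨⟨a, ha⟩, b', hb'⟩ := hK n
  obtain ⟨-, b, hb⟩ := hK (n + 1)
  change K.filX a₀ (n - 1) = ⊤ at ha₀
  change K.filX a n = ⊤ at ha
  change K.filX b' n = ⊥ at hb'
  change K.filX b (n + 1) = ⊥ at hb
  have hQ : ∀ p, P (sq (K.ZTop p n) (K.BBot p n)
      (sup_le_sup_right (inf_le_inf_left _ (le_kernelSubobject _ _ (imageSubobject_arrow_comp_eq_zero (by simp)))) _)) := by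
    intro p
    let k := max (b - p).toNat (p + 1 - a₀).toNat
    have hbot : K.filX (p + ((r + k : ℕ) : ℤ)) (n + 1) = ⊥ :=
      le_bot_iff.1 ((K.filX_anti _ (show b ≤ p + ((r + k : ℕ) : ℤ) by omega)).trans hb.le)
    have htop : K.filX (p - ((r + k : ℕ) : ℤ) + 1) (n - 1) = ⊤ :=
      top_le_iff.1 (ha₀.ge.trans (K.filX_anti _ (show p - ((r + k : ℕ) : ℤ) + 1 ≤ a₀ by omega)))
    have hZ : K.ZSub (r + k) p n = K.ZTop p n := by
      refine le_antisymm (sup_le_sup_right (inf_le_inf_left _ (le_of_refine fun T x hx =>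
        ⟨T, 𝟙 T, inferInstance, ?_⟩)) _) (sup_le_sup_right (inf_le_inf_left _
        (SpSeq.FilCx.kernelSubobject_le_pullback _ _)) _)
      rw [pullback_factors_iff', hbot, Subobject.bot_factors_iff_zero] at hx
      rwa [Category.id_comp, kernelSubobject_factors_iff]
    have hB : K.BSub (r + k) p n = K.BBot p n := by
      haveI : IsIso (K.filX (p - ((r + k : ℕ) : ℤ) + 1) (n - 1)).arrow :=
        (Subobject.isIso_arrow_iff_eq_top _).2 htop
      refine le_antisymm (sup_le_sup_right (inf_le_inf_left _ (imageSubobject_comp_le _ _)) _)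
        (sup_le_sup_right (inf_le_inf_left _ (SpSeq.FilCx.imageSubobject_le_of_fac
          (inv (K.filX (p - ((r + k : ℕ) : ℤ) + 1) (n - 1)).arrow) ?_)) _)
      · exact IsIso.inv_hom_id_assoc _ _
    have gen : ∀ (Z B Z' B' : Subobject (K.obj.X n)) (h : B ≤ Z) (h' : B' ≤ Z'), Z = Z' → B = B' →
        P (sq Z B h) → P (sq Z' B' h') := by
      rintro Z B _ _ h h' rfl rfl hp
      exact hp
    exact gen _ _ _ _ _ _ hZ hB (hall k p n)
  have hbotH : ∀ q, b' ≤ q → P (K.filH q n : A) := fun q hq => by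
    refine prop_zero P h0 ((IsZero.iff_id_eq_zero _).2 ?_)
    obtain ⟨T', π, _, s, hs, hsF, he⟩ := (filH_factors K q n (K.filH q n).arrow).1
      ((factors_iff' _ _).2 ⟨𝟙 _, Category.id_comp _⟩)
    have hs0 : s = 0 := (Subobject.bot_factors_iff_zero _).1
      (hb' ▸ Subobject.factors_of_le _ (K.filX_anti n hq) hsF)
    rw [← cancel_mono (K.filH q n).arrow, ← cancel_epi π, Category.id_comp, he, zero_comp, comp_zero]
    rw [hcls_eq_zero_iff]
    exact ⟨T', 𝟙 _, inferInstance, 0, by rw [hs0, comp_zero, zero_comp]⟩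
  have hfil : ∀ (k : ℕ) (q : ℤ), b' ≤ q + k → P (K.filH q n : A) := fun k => by
    induction k with
    | zero => exact fun q hq => hbotH q (by simpa using hq)
    | succ k ih => exact fun q hq => prop_filH_step K P h0 hP q n (hQ q) (ih (q + 1) (by omega))
  have htopH : K.filH a n = ⊤ := by
    refine top_le_iff.1 (le_of_refine fun T y _ => ?_)
    obtain ⟨T', π, hπ, z, hz, hy⟩ := K.obj.eq_liftCycles_homologyπ_up_to_refinements y (n + 1) (by simp)
    exact ⟨T', π, hπ, (filH_factors K a n _).2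
      ⟨T', 𝟙 _, inferInstance, z, hz, ha ▸ Subobject.top_factors z, (Category.id_comp _).trans hy⟩⟩
  haveI : IsIso (K.filH a n).arrow := Subobject.isIso_arrow_iff_eq_top _ |>.2 htopH
  exact P.prop_of_iso (asIso (K.filH a n).arrow) (hfil (b' - a).toNat a (by omega))

end Abutment

end Groth.Agent.CommAlg4.FilCxPages
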