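import Mathlib
import Groth.Prelude.Def_FilD
import Groth.Agent.CommAlg4.FilCxConv

/-! Strictness and exactness of finite filtered objects through the graded pieces. -/
set_option autoImplicit false
universe v u
open CategoryTheory CategoryTheory.Limits Opposite
open Groth.Agent.CommAlg4.FilCxConv (factors_iff' le_of_refine exists_of_image_factors)

namespace Groth.Agent.CommAlg4.FilDStrict

variable {A : Type u} [Category.{v} A] [Abelian A]

/-- The transition map `F q ⟶ F p` for `p ≤ q`. -/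
noncomputable abbrev tr (F : ℤᵒᵖ ⥤ A) {p q : ℤ} (h : p ≤ q) : F.obj (op q) ⟶ F.obj (op p) := F.map (homOfLE h).op

theorem tr_comp (F : ℤᵒᵖ ⥤ A) {p q r : ℤ} (h : p ≤ q) (h' : q ≤ r) :
    tr F h' ≫ tr F h = tr F (h.trans h') := by
  rw [tr, tr, tr, ← F.map_comp]; rfl

theorem tr_nat {F G : ℤᵒᵖ ⥤ A} (φ : F ⟶ G) {p q : ℤ} (h : p ≤ q) :
    tr F h ≫ φ.app (op p) = φ.app (op q) ≫ tr G h := φ.naturality _

theorem π_epi_exact {X Y T : A} (f : X ⟶ Y) (y : T ⟶ Y) (h : y ≫ cokernel.π f = 0) :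
    ∃ (T' : A) (π : T' ⟶ T) (_ : Epi π) (x : T' ⟶ X), π ≫ y = x ≫ f :=
  (ShortComplex.exact_of_g_is_cokernel (ShortComplex.mk f (cokernel.π f) (cokernel.condition f))
    (cokernelIsCokernel f)).exact_up_to_refinements y h

/-- Exactness of a complex of cokernels of a ladder, elementwise. -/
theorem coker_exact_iff {X X' Y Y' Z Z' : A} (a : X' ⟶ X) (b : Y' ⟶ Y) (c : Z' ⟶ Z) (f' : X' ⟶ Y') (f : X ⟶ Y)
    (g' : Y' ⟶ Z') (g : Y ⟶ Z) (hf : a ≫ f = f' ≫ b) (hg : b ≫ g = g' ≫ c)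
    (w : cokernel.map a b f' f hf ≫ cokernel.map b c g' g hg = 0) :
    (ShortComplex.mk _ _ w).Exact ↔ ∀ ⦃W : A⦄ (y : W ⟶ Y) (z : W ⟶ Z'), y ≫ g = z ≫ c →
      ∃ (W' : A) (π : W' ⟶ W) (_ : Epi π) (x : W' ⟶ X) (y' : W' ⟶ Y'), π ≫ y = x ≫ f + y' ≫ b := by
  rw [ShortComplex.exact_iff_exact_up_to_refinements]
  constructor
  · intro h W y z hyz
    obtain ⟨W₁, π₁, _, u, hu⟩ := h (y ≫ cokernel.π b) (by
      show (y ≫ cokernel.π b) ≫ cokernel.map b c g' g hg = 0
      rw [Category.assoc, cokernel.π_desc, ← Category.assoc, hyz, Category.assoc, cokernel.condition, comp_zero])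
    change π₁ ≫ y ≫ cokernel.π b = u ≫ cokernel.map a b f' f hf at hu
    obtain ⟨W₂, π₂, _, x, hx⟩ := surjective_up_to_refinements_of_epi (cokernel.π a) u
    have h0 : ((π₂ ≫ π₁) ≫ y - x ≫ f) ≫ cokernel.π b = 0 := by
      rw [Preadditive.sub_comp, Category.assoc, Category.assoc, Category.assoc, hu, reassoc_of% hx,
        cokernel.π_desc, sub_self]
    obtain ⟨W₃, π₃, _, y', hy'⟩ := π_epi_exact _ _ h0
    refine ⟨W₃, π₃ ≫ π₂ ≫ π₁, inferInstance, π₃ ≫ x, y', ?_⟩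
    rw [← hy', Preadditive.comp_sub]
    simp only [Category.assoc, add_sub_cancel]
  · intro h W v hv
    change W ⟶ cokernel b at v
    change v ≫ cokernel.map b c g' g hg = 0 at hv
    show ∃ (W' : A) (π : W' ⟶ W) (_ : Epi π) (x : W' ⟶ cokernel a), π ≫ v = x ≫ cokernel.map a b f' f hf
    obtain ⟨W₁, π₁, _, y, hy⟩ := surjective_up_to_refinements_of_epi (cokernel.π b) v
    have h0 : (y ≫ g) ≫ cokernel.π c = 0 := by
      rw [Category.assoc, ← cokernel.π_desc b (g ≫ cokernel.π c) (by rw [reassoc_of% hg, cokernel.condition, comp_zero]),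
        ← reassoc_of% hy]
      exact (congrArg (π₁ ≫ ·) hv).trans comp_zero
    obtain ⟨W₂, π₂, _, z, hz⟩ := π_epi_exact _ _ h0
    obtain ⟨W₃, π₃, _, x, y', he⟩ := h (π₂ ≫ y) z (by rw [Category.assoc, hz])
    refine ⟨W₃, π₃ ≫ π₂ ≫ π₁, inferInstance, x ≫ cokernel.π a, ?_⟩
    rw [Category.assoc x, cokernel.π_desc, Category.assoc, Category.assoc, hy, ← Category.assoc π₂,
      ← Category.assoc π₃, he, Preadditive.add_comp, Category.assoc, Category.assoc y', cokernel.condition,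
      comp_zero, add_zero]

/-- Exactness of the `p`-th graded piece of a complex of filtered objects, elementwise. -/
theorem gr_exact_iff (T : ShortComplex (ℤᵒᵖ ⥤ A)) (p : ℤ) :
    (T.map (FilD.gr A p)).Exact ↔ ∀ ⦃W : A⦄ (y : W ⟶ T.X₂.obj (op p)) (z : W ⟶ T.X₃.obj (op (p + 1))),
      y ≫ T.g.app (op p) = z ≫ T.X₃.map (FilD.stepHom p) →
      ∃ (W' : A) (π : W' ⟶ W) (_ : Epi π) (x : W' ⟶ T.X₁.obj (op p)) (y' : W' ⟶ T.X₂.obj (op (p + 1))),
        π ≫ y = x ≫ T.f.app (op p) + y' ≫ T.X₂.map (FilD.stepHom p) :=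
  coker_exact_iff _ _ _ _ _ _ _ (T.f.naturality _) (T.g.naturality _) (T.map (FilD.gr A p)).zero

theorem mk_factors' {X Y W : A} (f : Y ⟶ X) [Mono f] (g : W ⟶ X) :
    (Subobject.mk f).Factors g ↔ ∃ z : W ⟶ Y, z ≫ f = g := Subobject.mk_factors_iff f g

/-- Strictness, elementwise. -/
theorem isStrict_iff {F G : FilD.FilF A} (φ : F ⟶ G) : FilD.IsStrict φ ↔
    ∀ (p q : ℤ) (h : p ≤ q) ⦃W : A⦄ (x : W ⟶ F.obj.obj (op p)) (z : W ⟶ G.obj.obj (op q)),
      x ≫ φ.hom.app (op p) = z ≫ tr G.obj h →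
      ∃ (W' : A) (π : W' ⟶ W) (_ : Epi π) (x' : W' ⟶ F.obj.obj (op q)),
        x' ≫ φ.hom.app (op q) = π ≫ z := by
  constructor
  · intro h p q hpq W x z hxz
    have hmono : Mono (tr G.obj hpq) := G.property.1 _
    have : (imageSubobject (φ.hom.app (op q) ≫ G.obj.map (homOfLE hpq).op)).Factors (z ≫ tr G.obj hpq) := by
      rw [h p q hpq, Subobject.inf_factors]
      exact ⟨hxz ▸ imageSubobject_factors_comp_self _ _, (mk_factors' _ _).2 ⟨z, rfl⟩⟩
    obtain ⟨W', π, hπ, x', hx'⟩ := exists_of_image_factors _ this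
    refine ⟨W', π, hπ, x', ?_⟩
    rw [← cancel_mono (tr G.obj hpq), Category.assoc, Category.assoc]
    exact hx'.symm
  · intro h p q hpq
    have hmono : Mono (G.obj.map (homOfLE hpq).op) := G.property.1 _
    refine le_antisymm (le_inf ?_ ?_) (le_of_refine fun W w hw => ?_)
    · exact SpSeq.FilCx.imageSubobject_le_of_fac (tr F.obj hpq) (tr_nat φ.hom hpq)
    · refine le_of_refine fun W w hw => ?_
      obtain ⟨W', π, hπ, x, hx⟩ := exists_of_image_factors _ hw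
      exact ⟨W', π, hπ, (mk_factors' _ _).2 ⟨x ≫ φ.hom.app (op q), by rw [hx, Category.assoc]⟩⟩
    · rw [Subobject.inf_factors] at hw
      obtain ⟨z, hz⟩ := (mk_factors' _ _).1 hw.2
      obtain ⟨W', π, hπ, x, hx⟩ := exists_of_image_factors _ hw.1
      obtain ⟨W'', π', hπ', x', hx'⟩ := h p q hpq x (π ≫ z) (by rw [← hx, Category.assoc]; exact (congrArg (π ≫ ·) hz).symm)
      refine ⟨W'', π' ≫ π, inferInstance, ?_⟩
      have e : (π' ≫ π) ≫ w = x' ≫ φ.hom.app (op q) ≫ G.obj.map (homOfLE hpq).op := by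
        rw [reassoc_of% hx', Category.assoc, ← hz]
      rw [e]
      exact imageSubobject_factors_comp_self _ _

variable (S : ShortComplex (FilD.FilF A))

theorem gr_exact_iff' (p : ℤ) :
    (S.map (FilD.grF A p)).Exact ↔ ((S.map (FilD.IsFinFil A).ι).map (FilD.gr A p)).Exact := Iff.rfl

theorem strict_and_exact (hS : ∀ p : ℤ, (S.map (FilD.grF A p)).Exact) :
    (∀ p : ℤ, (S.map ((FilD.IsFinFil A).ι ⋙ (evaluation ℤᵒᵖ A).obj (op p))).Exact) ∧
      FilD.IsStrict S.f ∧ FilD.IsStrict S.g := by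
  have hgr : ∀ (p : ℤ) ⦃W : A⦄ (y : W ⟶ S.X₂.obj.obj (op p)) (z : W ⟶ S.X₃.obj.obj (op (p + 1))),
      y ≫ S.g.hom.app (op p) = z ≫ tr S.X₃.obj (Int.le_add_one le_rfl) →
      ∃ (W' : A) (π : W' ⟶ W) (_ : Epi π) (x : W' ⟶ S.X₁.obj.obj (op p)) (y' : W' ⟶ S.X₂.obj.obj (op (p + 1))),
        π ≫ y = x ≫ S.f.hom.app (op p) + y' ≫ tr S.X₂.obj (Int.le_add_one le_rfl) :=
    fun p => (gr_exact_iff (S.map (FilD.IsFinFil A).ι) p).1 (hS p)
  have hw : ∀ p : ℤ, S.f.hom.app (op p) ≫ S.g.hom.app (op p) = 0 := fun p =>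
    congrArg (fun η : S.X₁ ⟶ S.X₃ => η.hom.app (op p)) S.zero
  obtain ⟨b, hb⟩ := S.X₂.property.2.1
  have hex : ∀ (k : ℕ) (p : ℤ), b ≤ p + k → ∀ ⦃W : A⦄ (y : W ⟶ S.X₂.obj.obj (op p)),
      y ≫ S.g.hom.app (op p) = 0 → ∃ (W' : A) (π : W' ⟶ W) (_ : Epi π) (x : W' ⟶ S.X₁.obj.obj (op p)),
        π ≫ y = x ≫ S.f.hom.app (op p) := by
    intro k
    induction k with
    | zero =>
      intro p hp W y _
      exact ⟨W, 𝟙 W, inferInstance, 0, (hb p (by simpa using hp)).eq_of_tgt _ _⟩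
    | succ k ih =>
      intro p hp W y hy
      obtain ⟨W₁, π₁, _, x, y', he⟩ := hgr p y 0 (by rw [zero_comp]; exact hy)
      have hmono : Mono (tr S.X₃.obj (show p ≤ p + 1 from Int.le_add_one le_rfl)) := S.X₃.property.1 _
      have hy' : y' ≫ S.g.hom.app (op (p + 1)) = 0 := by
        rw [← cancel_mono (tr S.X₃.obj (show p ≤ p + 1 from Int.le_add_one le_rfl)), Category.assoc,
          ← tr_nat, zero_comp, ← Category.assoc, show y' ≫ tr S.X₂.obj _ = π₁ ≫ y - x ≫ S.f.hom.app (op p) by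
            rw [he, add_sub_cancel_left], Preadditive.sub_comp, Category.assoc, Category.assoc, hy, hw,
          comp_zero, comp_zero, sub_self]
      obtain ⟨W₂, π₂, _, x₁, hx₁⟩ := ih (p + 1) (by push_cast at hp ⊢; omega) y' hy'
      refine ⟨W₂, π₂ ≫ π₁, inferInstance, π₂ ≫ x + x₁ ≫ tr S.X₁.obj (Int.le_add_one le_rfl), ?_⟩
      rw [Category.assoc, he, Preadditive.comp_add, Preadditive.add_comp, Category.assoc, Category.assoc, tr_nat,
        reassoc_of% hx₁]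
  have hex' := fun p => hex (b - p).toNat p (by omega)
  refine ⟨fun p => ?_, ?_, ?_⟩
  · rw [ShortComplex.exact_iff_exact_up_to_refinements]
    exact hex' p
  · rw [isStrict_iff]
    intro p q hpq W x z hxz
    have hmono : Mono (tr S.X₃.obj hpq) := S.X₃.property.1 _
    have hz : z ≫ S.g.hom.app (op q) = 0 := by
      rw [← cancel_mono (tr S.X₃.obj hpq), Category.assoc, ← tr_nat, zero_comp, ← reassoc_of% hxz, hw, comp_zero]
    obtain ⟨W', π, hπ, x', hx'⟩ := hex' q z hz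
    exact ⟨W', π, hπ, x', hx'.symm⟩
  · rw [isStrict_iff]
    intro p q hpq
    induction q, hpq using Int.le_induction with
    | base =>
      intro W y z hyz
      refine ⟨W, 𝟙 W, inferInstance, y, ?_⟩
      rw [Category.id_comp, hyz]
      show z ≫ S.X₃.obj.map (𝟙 (op p)) = z
      rw [CategoryTheory.Functor.map_id]; exact Category.comp_id z
    | succ q hq ih =>
      intro W y z hyz
      obtain ⟨W₁, π₁, _, y₁, hy₁⟩ := ih y (z ≫ tr S.X₃.obj (Int.le_add_one le_rfl))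
        (by rw [Category.assoc, tr_comp]; exact hyz)
      obtain ⟨W₂, π₂, _, x, y', he⟩ := hgr q y₁ (π₁ ≫ z) (by rw [Category.assoc]; exact hy₁)
      have hmono : Mono (tr S.X₃.obj (show q ≤ q + 1 from Int.le_add_one le_rfl)) := S.X₃.property.1 _
      refine ⟨W₂, π₂ ≫ π₁, inferInstance, y', ?_⟩
      rw [← cancel_mono (tr S.X₃.obj (show q ≤ q + 1 from Int.le_add_one le_rfl)), Category.assoc, ← tr_nat,
        ← Category.assoc, show y' ≫ tr S.X₂.obj _ = π₂ ≫ y₁ - x ≫ S.f.hom.app (op q) by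
          rw [he, add_sub_cancel_left], Preadditive.sub_comp, Category.assoc, Category.assoc x, hw, comp_zero,
        sub_zero, hy₁]
      simp only [Category.assoc]

theorem isStrict_iff_gr_exact {X Y : FilD.FilF A} (φ : X ⟶ Y) :
    FilD.IsStrict φ ↔
      ∀ p : ℤ, ((ShortComplex.mk (kernel.ι φ.hom) φ.hom (kernel.condition φ.hom)).map (FilD.gr A p)).Exact := by
  let T := ShortComplex.mk (kernel.ι φ.hom) φ.hom (kernel.condition φ.hom)
  have hT : ∀ (p : ℤ) ⦃W : A⦄ (x : W ⟶ X.obj.obj (op p)), x ≫ φ.hom.app (op p) = 0 →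
      ∃ (W' : A) (π : W' ⟶ W) (_ : Epi π) (k : W' ⟶ (kernel φ.hom).obj (op p)),
        π ≫ x = k ≫ (kernel.ι φ.hom).app (op p) := fun p W x hx =>
    (ShortComplex.exact_of_f_is_kernel (T.map ((evaluation ℤᵒᵖ A).obj (op p)))
      (isLimitForkMapOfIsLimit' ((evaluation ℤᵒᵖ A).obj (op p)) (kernel.condition φ.hom) (kernelIsKernel φ.hom))).exact_up_to_refinements x hx
  constructor
  · intro h p
    refine (gr_exact_iff T p).2 fun W x z hxz => ?_
    obtain ⟨W₁, π₁, _, x', hx'⟩ := (isStrict_iff φ).1 h p (p + 1) (Int.le_add_one le_rfl) x z hxz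
    have h0 : (π₁ ≫ x - x' ≫ tr X.obj (show p ≤ p + 1 from Int.le_add_one le_rfl)) ≫ φ.hom.app (op p) = 0 := by
      rw [Preadditive.sub_comp, Category.assoc, Category.assoc, tr_nat, reassoc_of% hx']
      exact sub_eq_zero.2 (congrArg (π₁ ≫ ·) hxz)
    obtain ⟨W₂, π₂, _, k, hk⟩ := hT p _ h0
    refine ⟨W₂, π₂ ≫ π₁, inferInstance, k, π₂ ≫ x', ?_⟩
    show _ = k ≫ (kernel.ι φ.hom).app (op p) + (π₂ ≫ x') ≫ tr X.obj (show p ≤ p + 1 from Int.le_add_one le_rfl)
    rw [← hk, Preadditive.comp_sub]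
    simp only [Category.assoc, sub_add_cancel]
  · intro h
    have hgr : ∀ (p : ℤ) ⦃W : A⦄ (y : W ⟶ X.obj.obj (op p)) (z : W ⟶ Y.obj.obj (op (p + 1))),
        y ≫ φ.hom.app (op p) = z ≫ tr Y.obj (Int.le_add_one le_rfl) →
        ∃ (W' : A) (π : W' ⟶ W) (_ : Epi π) (x : W' ⟶ (kernel φ.hom).obj (op p)) (y' : W' ⟶ X.obj.obj (op (p + 1))),
          π ≫ y = x ≫ (kernel.ι φ.hom).app (op p) + y' ≫ tr X.obj (Int.le_add_one le_rfl) :=
      fun p => (gr_exact_iff T p).1 (h p)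
    rw [isStrict_iff]
    intro p q hpq
    induction q, hpq using Int.le_induction with
    | base =>
      intro W y z hyz
      refine ⟨W, 𝟙 W, inferInstance, y, ?_⟩
      rw [Category.id_comp, hyz]
      show z ≫ Y.obj.map (𝟙 (op p)) = z
      rw [CategoryTheory.Functor.map_id]; exact Category.comp_id z
    | succ q hq ih =>
      intro W y z hyz
      obtain ⟨W₁, π₁, _, y₁, hy₁⟩ := ih y (z ≫ tr Y.obj (Int.le_add_one le_rfl))
        (by rw [Category.assoc, tr_comp]; exact hyz)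
      obtain ⟨W₂, π₂, _, x, y', he⟩ := hgr q y₁ (π₁ ≫ z) (by rw [Category.assoc]; exact hy₁)
      have hmono : Mono (tr Y.obj (show q ≤ q + 1 from Int.le_add_one le_rfl)) := Y.property.1 _
      have hw : (kernel.ι φ.hom).app (op q) ≫ φ.hom.app (op q) = 0 :=
        congrArg (fun η : kernel φ.hom ⟶ Y.obj => η.app (op q)) (kernel.condition φ.hom)
      refine ⟨W₂, π₂ ≫ π₁, inferInstance, y', ?_⟩
      rw [← cancel_mono (tr Y.obj (show q ≤ q + 1 from Int.le_add_one le_rfl)), Category.assoc, ← tr_nat,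
        ← Category.assoc, show y' ≫ tr X.obj _ = π₂ ≫ y₁ - x ≫ (kernel.ι φ.hom).app (op q) by
          rw [he, add_sub_cancel_left], Preadditive.sub_comp, Category.assoc, Category.assoc x, hw, comp_zero,
        sub_zero, hy₁]
      simp only [Category.assoc]

end Groth.Agent.CommAlg4.FilDStrict
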