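import Mathlib
import Groth.Prelude.Def_FilD
import Groth.Agent.CommAlg4.FilDStrict

/-! Filtered injective objects. -/
set_option autoImplicit false
set_option linter.style.haveILetI false
universe v u
open CategoryTheory CategoryTheory.Limits Opposite
open Groth.Agent.CommAlg4.FilDStrict

namespace Groth.Agent.CommAlg4.FilDInj

variable {A : Type u} [Category.{v} A] [Abelian A]

instance mono_tr (X : FilD.FilF A) {p q : ℤ} (h : p ≤ q) : Mono (tr X.obj h) := X.property.1 _

omit [Abelian A] in
theorem tr_refl (F : ℤᵒᵖ ⥤ A) (p : ℤ) : tr F (le_refl p) = 𝟙 _ := F.map_id _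

/-- Pointwise kernels of morphisms of finite filtered objects are finite filtered objects. -/
theorem kernel_isFinFil {X Y : FilD.FilF A} (u : X ⟶ Y) : FilD.IsFinFil A (kernel u.hom) := by
  let k : kernel u.hom ⟶ X.obj := kernel.ι u.hom
  have happ : ∀ q, Mono (k.app q) := fun q => inferInstance
  have hk : ∀ ⦃q r : ℤᵒᵖ⦄ (f : q ⟶ r), Mono ((kernel u.hom).map f) := fun q r f => by
    haveI := X.property.1 f
    haveI := happ q
    exact mono_of_mono_fac (k.naturality f)
  obtain ⟨b, hb⟩ := X.property.2.1
  obtain ⟨a, ha⟩ := X.property.2.2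
  obtain ⟨a', ha'⟩ := Y.property.2.2
  refine ⟨hk, ⟨b, fun q hq => ?_⟩, ⟨min a a', fun q r f hq => ?_⟩⟩
  · haveI := happ (op q)
    exact IsZero.of_mono (k.app (op q)) (hb q hq)
  · haveI := hk f
    haveI := ha f (hq.trans (min_le_left _ _))
    haveI := ha' f (hq.trans (min_le_right _ _))
    suffices h : Epi ((kernel u.hom).map f) from isIso_of_mono_of_epi _
    refine (Preadditive.epi_iff_cancel_zero _).2 fun Z g hg => ?_
    have h0 : (k.app r ≫ inv (X.obj.map f)) ≫ u.hom.app q = 0 := by
      rw [← cancel_mono (Y.obj.map f), zero_comp, Category.assoc, Category.assoc, ← u.hom.naturality f,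
        IsIso.inv_hom_id_assoc, ← NatTrans.comp_app, kernel.condition, NatTrans.app_zero]
    let e := kernelComparison u.hom ((evaluation _ A).obj q)
    have he : ∃ l : (kernel u.hom).obj r ⟶ (kernel u.hom).obj q, l ≫ k.app q = k.app r ≫ inv (X.obj.map f) :=
      ⟨kernel.lift _ _ h0 ≫ (PreservesKernel.iso ((evaluation ℤᵒᵖ A).obj q) u.hom).inv, by
        rw [Category.assoc]
        erw [PreservesKernel.iso_inv_ι ((evaluation ℤᵒᵖ A).obj q) u.hom]
        exact kernel.lift_ι _ _ _⟩
    obtain ⟨l, hl⟩ := he
    have hid : l ≫ (kernel u.hom).map f = 𝟙 _ := by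
      haveI := happ r
      rw [← cancel_mono (k.app r), Category.assoc, k.naturality, reassoc_of% hl, IsIso.inv_hom_id,
        Category.comp_id, Category.id_comp]
    rw [← Category.id_comp g, ← hid, Category.assoc, hg, comp_zero]

/-- A monomorphism of finite filtered objects is pointwise mono. -/
theorem mono_app {X Y : FilD.FilF A} (u : X ⟶ Y) [Mono u] (p : ℤᵒᵖ) : Mono (u.hom.app p) := by
  let k : kernel u.hom ⟶ X.obj := kernel.ι u.hom
  have hK : FilD.IsFinFil A (kernel u.hom) := kernel_isFinFil u
  let K : FilD.FilF A := ⟨kernel u.hom, hK⟩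
  let i : K ⟶ X := ObjectProperty.homMk k
  have hi : i = 0 := zero_of_comp_mono u (ObjectProperty.hom_ext _ (kernel.condition u.hom))
  have hk0 : k = 0 := congrArg (fun φ : K ⟶ X => φ.hom) hi
  haveI : Mono u.hom := Preadditive.mono_of_kernel_zero hk0
  infer_instance

/-- The pieces of a filtered injective object are injective. -/
theorem injective_obj {I : FilD.FilF A} (hI : FilD.IsFilteredInjective I) (p : ℤ) : Injective (I.obj.obj (op p)) := by
  obtain ⟨b, hb⟩ := I.property.2.1
  rcases le_total b p with h | h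
  · exact (hb p h).injective
  · induction p, h using Int.leInductionDown with
    | base => exact (hb b le_rfl).injective
    | pred n hn ih =>
      let i : I.obj.obj (op n) ⟶ I.obj.obj (op (n - 1)) := tr I.obj (by omega)
      haveI : Injective (cokernel i) := by
        have := hI (n - 1)
        have heq : ∀ m : ℤ, ∀ hm : m = n, ∀ hle : n - 1 ≤ m, Injective (cokernel (tr I.obj hle)) →
            Injective (cokernel i) := by rintro m rfl hle h; exact h
        exact heq (n - 1 + 1) (by omega) (by omega) this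
      haveI : Mono i := mono_tr I _
      let r := Injective.factorThru (𝟙 _) i
      have hr : i ≫ r = 𝟙 _ := Injective.comp_factorThru _ _
      refine ⟨fun {W Z} g m _ => ?_⟩
      let h₁ : Z ⟶ I.obj.obj (op n) := Injective.factorThru (g ≫ r) m
      let h₂ : Z ⟶ cokernel i := Injective.factorThru (g ≫ cokernel.π i) m
      let s : cokernel i ⟶ I.obj.obj (op (n - 1)) := cokernel.desc i (𝟙 _ - r ≫ i) (by
        rw [Preadditive.comp_sub, reassoc_of% hr, Category.comp_id, sub_self])
      refine ⟨h₁ ≫ i + h₂ ≫ s, ?_⟩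
      rw [Preadditive.comp_add, ← Category.assoc, ← Category.assoc,
        show m ≫ h₁ = g ≫ r from Injective.comp_factorThru _ _,
        show m ≫ h₂ = g ≫ cokernel.π i from Injective.comp_factorThru _ _, Category.assoc, Category.assoc,
        cokernel.π_desc, Preadditive.comp_sub, Category.comp_id]
      abel

/-- Factorisation through a strict morphism, into a filtered injective object, of a morphism killing its kernel. -/
theorem exists_factor {X Y I : FilD.FilF A} (u : X ⟶ Y) (hu : FilD.IsStrict u)
    (hI : FilD.IsFilteredInjective I) (f : X ⟶ I)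
    (hkf : ∀ (p : ℤ) ⦃W : A⦄ (x : W ⟶ X.obj.obj (op p)), x ≫ u.hom.app (op p) = 0 → x ≫ f.hom.app (op p) = 0) :
    ∃ g : Y ⟶ I, u ≫ g = f := by
  have step : ∀ (p : ℤ) (g' : Y.obj.obj (op (p + 1)) ⟶ I.obj.obj (op (p + 1))),
      u.hom.app _ ≫ g' = f.hom.app _ → ∃ g : Y.obj.obj (op p) ⟶ I.obj.obj (op p),
        u.hom.app _ ≫ g = f.hom.app _ ∧
          tr Y.obj (Int.le_add_one le_rfl) ≫ g = g' ≫ tr I.obj (Int.le_add_one le_rfl) := by
    intro p g' hg'
    haveI := injective_obj hI p
    have h1 : p ≤ p + 1 := Int.le_add_one le_rfl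
    let φ := biprod.desc (u.hom.app (op p)) (tr Y.obj h1)
    let ψ := biprod.desc (f.hom.app (op p)) (g' ≫ tr I.obj h1)
    have hker : kernel.ι φ ≫ ψ = 0 := by
      have hk := kernel.condition φ
      conv at hk => lhs; arg 2; rw [show φ = _ from biprod.desc_eq]
      simp only [Preadditive.comp_add, ← Category.assoc] at hk
      set x := kernel.ι φ ≫ biprod.fst with hx
      set y := kernel.ι φ ≫ biprod.snd with hy
      have hk' : x ≫ u.hom.app (op p) = (-y) ≫ tr Y.obj h1 := by
        rw [Preadditive.neg_comp]; exact eq_neg_of_add_eq_zero_left hk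
      obtain ⟨W', π, _, x', hx'⟩ := (isStrict_iff u).1 hu p (p + 1) h1 x (-y) hk'
      have hxx : (x' ≫ tr X.obj h1) ≫ f.hom.app (op p) = π ≫ x ≫ f.hom.app (op p) := by
        rw [← sub_eq_zero, ← Category.assoc π x, ← Preadditive.sub_comp]
        refine hkf p _ ?_
        rw [Preadditive.sub_comp, Category.assoc, tr_nat u.hom h1, reassoc_of% hx', Category.assoc, hk', sub_self]
      have e1 : π ≫ x ≫ f.hom.app (op p) = -(π ≫ y ≫ g' ≫ tr I.obj h1) := by
        calc π ≫ x ≫ f.hom.app (op p) = (x' ≫ tr X.obj h1) ≫ f.hom.app (op p) := by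
              exact hxx.symm
          _ = x' ≫ (u.hom.app (op (p + 1)) ≫ g') ≫ tr I.obj h1 := by
              rw [Category.assoc, tr_nat f.hom h1, hg']
          _ = (x' ≫ u.hom.app (op (p + 1))) ≫ g' ≫ tr I.obj h1 := by simp only [Category.assoc]
          _ = -(π ≫ y ≫ g' ≫ tr I.obj h1) := by
              rw [hx', Preadditive.comp_neg π, Preadditive.neg_comp, Category.assoc]
      have e0 : kernel.ι φ ≫ ψ = x ≫ f.hom.app (op p) + y ≫ g' ≫ tr I.obj h1 := by
        rw [show ψ = _ from biprod.desc_eq, Preadditive.comp_add, hx, hy, Category.assoc, Category.assoc]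
      rw [e0, ← cancel_epi π, comp_zero, Preadditive.comp_add, e1, neg_add_cancel]
    let g := Injective.factorThru (cokernel.desc (kernel.ι φ) ψ hker) (Abelian.factorThruCoimage φ)
    have hg : φ ≫ g = ψ := by
      conv_lhs => rw [← Abelian.coimage.fac φ, Category.assoc, Injective.comp_factorThru]
      exact cokernel.π_desc _ _ _
    refine ⟨g, ?_, ?_⟩
    · have := biprod.inl ≫= hg
      rwa [← Category.assoc, biprod.inl_desc, biprod.inl_desc] at this
    · have := biprod.inr ≫= hg
      rwa [← Category.assoc, biprod.inr_desc, biprod.inr_desc] at this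
  choose G hG1 hG2 using step
  obtain ⟨b, hb⟩ := I.property.2.1
  let T : ℕ → ℤ → Type v := fun _ p => Y.obj.obj (op p) ⟶ I.obj.obj (op p)
  classical
  let seq : ℕ → ∀ p : ℤ, (Y.obj.obj (op p) ⟶ I.obj.obj (op p)) := Nat.rec (fun _ => 0)
    (fun n g => Function.update g (b - n - 1)
      (if h : u.hom.app (op (b - n - 1 + 1)) ≫ g (b - n - 1 + 1) = f.hom.app _ then G _ (g _) h else 0))
  have good : ∀ (n : ℕ) (p : ℤ), b - n ≤ p → u.hom.app (op p) ≫ seq n p = f.hom.app _ ∧
      tr Y.obj (Int.le_add_one le_rfl : p ≤ p + 1) ≫ seq n p = seq n (p + 1) ≫ tr I.obj (Int.le_add_one le_rfl) := by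
    intro n
    induction n with
    | zero => exact fun p hp => ⟨(hb p (by simpa using hp)).eq_of_tgt _ _, (hb p (by simpa using hp)).eq_of_tgt _ _⟩
    | succ n ih =>
      intro p hp
      have hne : ∀ q, b - n ≤ q → seq (n + 1) q = seq n q := fun q hq =>
        Function.update_of_ne (by omega) _ _
      rcases (show p = b - n - 1 ∨ b - n ≤ p by omega) with rfl | hp'
      · have hval : seq (n + 1) (b - n - 1) = G _ (seq n _) (ih (b - n - 1 + 1) (by omega)).1 :=
          (Function.update_self _ _ _).trans (dif_pos _)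
        rw [hne (b - n - 1 + 1) (by omega), hval]
        exact ⟨hG1 _ _ _, hG2 _ _ _⟩
      · rw [hne p hp', hne (p + 1) (by omega)]
        exact ih p hp'
  let g : ∀ p : ℤ, (Y.obj.obj (op p) ⟶ I.obj.obj (op p)) := fun p => seq (b - p).toNat p
  have stable : ∀ (n : ℕ) (p : ℤ), b - n ≤ p → seq n p = g p := by
    intro n p hp
    have hm : (b - p).toNat ≤ n := by omega
    show seq n p = seq (b - p).toNat p
    induction n, hm using Nat.le_induction with
    | base => rfl
    | succ m hm ih => exact (Function.update_of_ne (by omega) _ _).trans (ih (by omega))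
  have hstep : ∀ p : ℤ, tr Y.obj (Int.le_add_one le_rfl : p ≤ p + 1) ≫ g p =
      g (p + 1) ≫ tr I.obj (Int.le_add_one le_rfl) := fun p => by
    rw [← stable (b - p).toNat (p + 1) (by omega)]
    rw [← stable (b - p).toNat p (by omega)]
    exact (good _ p (by omega)).2
  have hle : ∀ (p q : ℤ) (h : p ≤ q), tr Y.obj h ≫ g p = g q ≫ tr I.obj h := by
    intro p q h
    induction q, h using Int.leInduction with
    | base => simp [tr_refl]
    | succ q hq ih =>
      rw [← tr_comp Y.obj hq (Int.le_add_one le_rfl), ← tr_comp I.obj hq (Int.le_add_one le_rfl),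
        Category.assoc, ih, ← Category.assoc, hstep, Category.assoc]
  exact ⟨ObjectProperty.homMk { app := fun p => g p.unop, naturality := fun q p h => hle _ _ (leOfHom h.unop) },
    ObjectProperty.hom_ext _ (NatTrans.ext (funext fun p => (good _ p.unop (by omega)).1))⟩

/-- Extension along a strict monomorphism into a filtered injective object. -/
theorem exists_extension {X Y I : FilD.FilF A} (u : X ⟶ Y) [Mono u] (hu : FilD.IsStrict u)
    (hI : FilD.IsFilteredInjective I) (f : X ⟶ I) : ∃ g : Y ⟶ I, u ≫ g = f :=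
  exists_factor u hu hI f fun p W x hx => by
    haveI := mono_app u (op p)
    rw [zero_of_comp_mono (u.hom.app (op p)) hx, zero_comp]

end Groth.Agent.CommAlg4.FilDInj
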