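import Mathlib
import Groth.Prelude.Def_FilD
import Groth.Agent.CommAlg4.FilDStrict
import Groth.Agent.CommAlg4.FilDInj

/-! Morphisms from filtered acyclic complexes to bounded below filtered injective complexes. -/
set_option autoImplicit false
set_option linter.style.haveILetI false
universe v u
open CategoryTheory CategoryTheory.Limits Opposite
open Groth.Agent.CommAlg4.FilDStrict

namespace Groth.Agent.CommAlg4.FilDAcyc

variable {A : Type u} [Category.{v} A] [Abelian A]

theorem strict_exact_at (K : CochainComplex (FilD.FilF A) ℤ) (hK : FilD.IsFilteredAcyclic K) (n : ℤ) :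
    FilD.IsStrict (K.d n (n + 1)) ∧
      ∀ (p : ℤ) ⦃W : A⦄ (y : W ⟶ (K.X n).obj.obj (op p)), y ≫ (K.d n (n + 1)).hom.app (op p) = 0 →
        ∃ (W' : A) (π : W' ⟶ W) (_ : Epi π) (x : W' ⟶ (K.X (n - 1)).obj.obj (op p)),
          π ≫ y = x ≫ (K.d (n - 1) n).hom.app (op p) := by
  let S := ShortComplex.mk (K.d (n - 1) n) (K.d n (n + 1)) (K.d_comp_d _ _ _)
  have hS : ∀ p : ℤ, (S.map (FilD.grF A p)).Exact := fun p =>
    ((HomologicalComplex.exactAt_iff' _ (n - 1) n (n + 1) (by simp) (by simp)).1 (hK p n) :)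
  obtain ⟨hex, -, hs⟩ := strict_and_exact S hS
  exact ⟨hs, fun p W y hy => (hex p).exact_up_to_refinements y hy⟩

variable (K I : CochainComplex (FilD.FilF A) ℤ) (a : ℤ)

open Classical in
/-- A chosen factorisation through the differential. -/
noncomputable def E (n : ℤ) (ψ : K.X n ⟶ I.X n) : K.X (n + 1) ⟶ I.X n :=
  if h : ∃ g, K.d n (n + 1) ≫ g = ψ then h.choose else 0

theorem E_spec (hK : FilD.IsFilteredAcyclic K) (hI : ∀ n, FilD.IsFilteredInjective (I.X n)) (n : ℤ)
    (ψ : K.X n ⟶ I.X n) (hψ : K.d (n - 1) n ≫ ψ = 0) : K.d n (n + 1) ≫ E K I n ψ = ψ := by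
  obtain ⟨hs, hex⟩ := strict_exact_at K hK n
  have h : ∃ g, K.d n (n + 1) ≫ g = ψ := FilDInj.exists_factor _ hs (hI n) ψ fun p W y hy => by
    obtain ⟨W', π, _, x, hx⟩ := hex p y hy
    have h0 : (K.d (n - 1) n).hom.app (op p) ≫ ψ.hom.app (op p) = 0 :=
      congrArg (fun η : K.X (n - 1) ⟶ I.X n => η.hom.app (op p)) hψ
    rw [← cancel_epi π, ← Category.assoc, hx, Category.assoc, h0, comp_zero, comp_zero]
  rw [E, dif_pos h]
  exact h.choose_spec

/-- The components of the homotopy. -/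
noncomputable def G (φ : K ⟶ I) (n : ℤ) : K.X (n + 1) ⟶ I.X n :=
  if n < a then 0
  else E K I n (φ.f n - (K.XIsoOfEq (show n = n - 1 + 1 by omega)).hom ≫ G φ (n - 1) ≫ I.d (n - 1) n)
termination_by (n + 1 - a).toNat
decreasing_by omega

theorem exists_homotopy_zero [I.IsStrictlyGE a] (hK : FilD.IsFilteredAcyclic K)
    (hI : ∀ n, FilD.IsFilteredInjective (I.X n)) (φ : K ⟶ I) : Nonempty (Homotopy φ 0) := by
  have hz : ∀ n, n < a → IsZero (I.X n) := fun n hn => I.isZero_of_isStrictlyGE a n hn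
  let ψ : ∀ n, K.X n ⟶ I.X n := fun n =>
    φ.f n - (K.XIsoOfEq (show n = n - 1 + 1 by omega)).hom ≫ G K I a φ (n - 1) ≫ I.d (n - 1) n
  have hG : ∀ n, ¬ n < a → G K I a φ n = E K I n (ψ n) := fun n hn => by
    rw [G, if_neg hn]
  suffices key : ∀ n, K.d (n - 1) n ≫ ψ n = 0 by
    have spec : ∀ n, K.d n (n + 1) ≫ G K I a φ n = ψ n := fun n => by
      by_cases hn : n < a
      · exact (hz n hn).eq_of_tgt _ _
      · rw [hG n hn, E_spec K I hK hI n (ψ n) (key n)]
    refine ⟨{
      hom := fun i j => if h : j + 1 = i then (K.XIsoOfEq h).inv ≫ G K I a φ j else 0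
      zero := fun i j hij => dif_neg fun h => hij h
      comm := fun n => ?_ }⟩
    rw [dNext_eq _ (show (ComplexShape.up ℤ).Rel n (n + 1) from rfl),
      prevD_eq _ (show (ComplexShape.up ℤ).Rel (n - 1) n by simp), dif_pos rfl, dif_pos (by omega)]
    simp only [HomologicalComplex.zero_f, add_zero, HomologicalComplex.XIsoOfEq_rfl, Iso.refl_inv,
      Category.id_comp]
    rw [spec n]
    simp [ψ, HomologicalComplex.XIsoOfEq]
  intro n
  by_cases hn : n < a
  · exact (hz n hn).eq_of_tgt _ _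
  induction n, (show a ≤ n by omega) using Int.leInduction with
  | base =>
    have h0 : G K I a φ (a - 1) = 0 := by rw [G, if_pos (by omega)]
    simp only [ψ, h0, zero_comp, comp_zero, sub_zero]
    rw [← φ.comm, (hz (a - 1) (by omega)).eq_of_src (I.d (a - 1) a) 0, comp_zero]
  | succ m hm ih =>
    have hG' : K.d m (m + 1) ≫ G K I a φ m = ψ m := by
      rw [hG m (by omega), E_spec K I hK hI m (ψ m) (ih (by omega))]
    have gen : ∀ (m' : ℤ) (hm' : m' = m) (n' : ℤ) (e : n' = m' + 1), K.d m' n' ≫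
        (φ.f n' - (K.XIsoOfEq e).hom ≫ G K I a φ m' ≫ I.d m' n') = 0 := by
      rintro _ rfl _ rfl
      rw [Preadditive.comp_sub, HomologicalComplex.XIsoOfEq_rfl, Iso.refl_hom, Category.id_comp, ← φ.comm,
        ← Category.assoc (K.d _ _) (G K I a φ _), hG', Preadditive.sub_comp, Category.assoc, Category.assoc,
        I.d_comp_d, comp_zero, comp_zero, sub_zero, sub_self]
    exact gen (m + 1 - 1) (by omega) (m + 1) (by omega)

end Groth.Agent.CommAlg4.FilDAcyc
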