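import Mathlib
import Groth.Prelude.Def_FilD

/-! Biproducts of finite filtered objects. -/
set_option autoImplicit false
set_option linter.style.haveILetI false
universe v u
open CategoryTheory CategoryTheory.Limits Opposite

namespace Groth.Agent.CommAlg4.FilDBiprod

variable {A : Type u} [Category.{v} A] [Abelian A]

attribute [local instance] Abelian.hasBinaryBiproducts

/-- The pointwise biproduct, as a functor. -/
noncomputable abbrev pwBiprod (F G : ℤᵒᵖ ⥤ A) : ℤᵒᵖ ⥤ A where
  obj p := F.obj p ⊞ G.obj p
  map f := biprod.map (F.map f) (G.map f)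
  map_id p := by ext <;> simp
  map_comp f g := by ext <;> simp

theorem pwBiprod_isFinFil {F G : ℤᵒᵖ ⥤ A} (hF : FilD.IsFinFil A F) (hG : FilD.IsFinFil A G) :
    FilD.IsFinFil A (pwBiprod F G) := by
  obtain ⟨hFm, ⟨b, hb⟩, a, ha⟩ := hF
  obtain ⟨hGm, ⟨b', hb'⟩, a', ha'⟩ := hG
  refine ⟨fun p q f => ?_, ⟨max b b', fun p hp => ?_⟩, ⟨min a a', fun p q f hp => ?_⟩⟩
  · haveI := hFm f
    haveI := hGm f
    exact biprod.map_mono _ _
  · rw [IsZero.iff_id_eq_zero]
    ext
    · exact (hb p ((le_max_left _ _).trans hp)).eq_of_src _ _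
    · exact (hb p ((le_max_left _ _).trans hp)).eq_of_src _ _
    · exact (hb' p ((le_max_right _ _).trans hp)).eq_of_src _ _
    · exact (hb' p ((le_max_right _ _).trans hp)).eq_of_src _ _
  · haveI := ha f (hp.trans (min_le_left _ _))
    haveI := ha' f (hp.trans (min_le_right _ _))
    exact inferInstanceAs (IsIso (biprod.mapIso (asIso (F.map f)) (asIso (G.map f))).hom)

/-- The biproduct bicone in `FilF`. -/
noncomputable def bicone (F G : FilD.FilF A) : BinaryBicone F G where
  pt := ⟨pwBiprod F.obj G.obj, pwBiprod_isFinFil F.property G.property⟩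
  fst := ObjectProperty.homMk { app := fun p => biprod.fst }
  snd := ObjectProperty.homMk { app := fun p => biprod.snd }
  inl := ObjectProperty.homMk { app := fun p => biprod.inl }
  inr := ObjectProperty.homMk { app := fun p => biprod.inr }
  inl_fst := by ext p; exact biprod.inl_fst
  inl_snd := by ext p; exact biprod.inl_snd
  inr_fst := by ext p; exact biprod.inr_fst
  inr_snd := by ext p; exact biprod.inr_snd

theorem bicone_total (F G : FilD.FilF A) :
    (bicone F G).fst ≫ (bicone F G).inl + (bicone F G).snd ≫ (bicone F G).inr = 𝟙 (bicone F G).pt := by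
  ext p
  exact biprod.total

instance : HasBinaryBiproducts (FilD.FilF A) :=
  ⟨fun F G => HasBinaryBiproduct.mk ⟨bicone F G, isBinaryBilimitOfTotal _ (bicone_total F G)⟩⟩

instance : HasZeroObject (FilD.FilF A) := inferInstance

end Groth.Agent.CommAlg4.FilDBiprod
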