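import Mathlib
import Groth.Prelude.Def_FilD
import Groth.Agent.CommAlg4.FilDInj

/-! Enough filtered injective objects. -/
set_option autoImplicit false
set_option linter.style.haveILetI false
universe v u
open CategoryTheory CategoryTheory.Limits Opposite
open Groth.Agent.CommAlg4.FilDStrict

namespace Groth.Agent.CommAlg4.FilDEnoughInj

variable {A : Type u} [Category.{v} A] [Abelian A]

attribute [local instance] Abelian.hasFiniteBiproducts

section Split

variable {ι : Type} [Fintype ι] (c : ι → ℤ) (J : ι → A)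

/-- The `p`-th piece of the split filtered object with jumps `c`. -/
noncomputable abbrev piece (p : ℤ) : A := ⨁ fun k : {k : ι // p ≤ c k} => J k.1

/-- The inclusion of pieces. -/
noncomputable def incl {p q : ℤ} (h : p ≤ q) : piece c J q ⟶ piece c J p :=
  biproduct.desc fun k => biproduct.ι (fun k : {k : ι // p ≤ c k} => J k.1) ⟨k.1, h.trans k.2⟩

/-- The retraction of `incl`. -/
noncomputable def retr {p q : ℤ} (_h : p ≤ q) : piece c J p ⟶ piece c J q :=
  biproduct.desc fun k => if h' : q ≤ c k.1 then biproduct.ι (fun k : {k : ι // q ≤ c k} => J k.1) ⟨k.1, h'⟩ else 0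

@[reassoc (attr := simp)]
theorem ι_incl {p q : ℤ} (h : p ≤ q) (k : {k : ι // q ≤ c k}) :
    biproduct.ι _ k ≫ incl c J h = biproduct.ι (fun k : {k : ι // p ≤ c k} => J k.1) ⟨k.1, h.trans k.2⟩ :=
  biproduct.ι_desc _ _

@[simp]
theorem incl_retr {p q : ℤ} (h : p ≤ q) : incl c J h ≫ retr c J h = 𝟙 _ := by
  refine biproduct.hom_ext' _ _ fun k => ?_
  rw [ι_incl_assoc, retr, biproduct.ι_desc, dif_pos k.2, Category.comp_id]

instance {p q : ℤ} (h : p ≤ q) : Mono (incl c J h) :=
  (SplitMono.mk (retr c J h) (incl_retr c J h)).mono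

theorem incl_π_of_le {p q : ℤ} (h : p ≤ q) (k : {k : ι // p ≤ c k}) (hk : q ≤ c k.1) :
    incl c J h ≫ biproduct.π _ k = biproduct.π (fun k : {k : ι // q ≤ c k} => J k.1) ⟨k.1, hk⟩ := by
  classical
  refine biproduct.hom_ext' _ _ fun l => ?_
  rw [ι_incl_assoc]
  by_cases hl : l = ⟨k.1, hk⟩
  · subst hl; simp
  · rw [biproduct.ι_π_ne _ hl, biproduct.ι_π_ne]
    intro e
    exact hl (Subtype.ext (congrArg (·.1) e :))

theorem incl_π_of_not_le {p q : ℤ} (h : p ≤ q) (k : {k : ι // p ≤ c k}) (hk : ¬ q ≤ c k.1) :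
    incl c J h ≫ biproduct.π _ k = 0 := by
  classical
  refine biproduct.hom_ext' _ _ fun l => ?_
  rw [ι_incl_assoc, comp_zero, biproduct.ι_π_ne]
  rintro rfl
  exact hk l.2

/-- The split filtered object. -/
noncomputable def splitFun : ℤᵒᵖ ⥤ A where
  obj p := piece c J p.unop
  map f := incl c J (leOfHom f.unop)
  map_id p := biproduct.hom_ext' _ _ fun k => by simp
  map_comp f g := biproduct.hom_ext' _ _ fun k => by simp

theorem splitFun_isFinFil : FilD.IsFinFil A (splitFun c J) := by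
  classical
  refine ⟨fun p q f => inferInstanceAs (Mono (incl c J (leOfHom f.unop))), ?_, ?_⟩
  · obtain ⟨b, hb⟩ := (Set.finite_range c).bddAbove
    refine ⟨b + 1, fun p hp => (IsZero.iff_id_eq_zero _).2 (biproduct.hom_ext' _ _ fun k => ?_)⟩
    have h1 := hb ⟨k.1, rfl⟩
    have h2 : p ≤ c k.1 := k.2
    omega
  · obtain ⟨a, ha⟩ := (Set.finite_range c).bddBelow
    refine ⟨a, fun p q f hp => ⟨retr c J (leOfHom f.unop), incl_retr c J _, ?_⟩⟩
    refine biproduct.hom_ext' _ _ fun k => ?_
    show biproduct.ι (fun k : {k : ι // q.unop ≤ c k} => J k.1) k ≫ retr c J (leOfHom f.unop) ≫ incl c J (leOfHom f.unop) =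
      biproduct.ι (fun k : {k : ι // q.unop ≤ c k} => J k.1) k ≫ 𝟙 (piece c J q.unop)
    rw [retr, biproduct.ι_desc_assoc, dif_pos (hp.trans (ha ⟨k.1, rfl⟩)), ι_incl, Category.comp_id]

/-- The split filtered object, as an object of `FilF`. -/
noncomputable abbrev split : FilD.FilF A := ⟨splitFun c J, splitFun_isFinFil c J⟩

theorem split_isFilteredInjective [∀ k, Injective (J k)] : FilD.IsFilteredInjective (split c J) := by
  intro p
  show Injective (cokernel ((splitFun c J).map (FilD.stepHom p)))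
  have hh : p ≤ p + 1 := Int.le_add_one le_rfl
  change Injective (cokernel (incl c J hh))
  refine Retract.injective
    { i := cokernel.desc (incl c J hh) (𝟙 _ - retr c J hh ≫ incl c J hh) ?_
      r := cokernel.π (incl c J hh)
      retract := ?_ }
  · rw [Preadditive.comp_sub, ← Category.assoc, incl_retr, Category.comp_id, Category.id_comp, sub_self]
  · rw [← cancel_epi (cokernel.π (incl c J hh)), cokernel.π_desc_assoc, Preadditive.sub_comp, Category.assoc,
      cokernel.condition, comp_zero, sub_zero]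
    exact (Category.id_comp _).trans (Category.comp_id _).symm

end Split

theorem exists_embedding [EnoughInjectives A] (X : FilD.FilF A) :
    ∃ (I : FilD.FilF A) (u : X ⟶ I), FilD.IsFilteredInjective I ∧ Mono u ∧ FilD.IsStrict u := by
  obtain ⟨b₀, hb₀⟩ := X.property.2.1
  obtain ⟨a, ha⟩ := X.property.2.2
  let b := max b₀ (a + 1)
  have hb : ∀ p, b ≤ p → IsZero (X.obj.obj (op p)) := fun p hp => hb₀ p ((le_max_left _ _).trans hp)
  have hiso : ∀ {p q : ℤ} (h : p ≤ q), q ≤ a → IsIso (tr X.obj h) := fun h hq => ha _ hq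
  haveI hmin : ∀ p : ℤ, IsIso (tr X.obj (min_le_left a p)) := fun p => hiso _ le_rfl
  obtain ⟨ρ, hρm, hρ⟩ : ∃ ρ : ∀ p : ℤ, X.obj.obj (op p) ⟶ X.obj.obj (op a),
      (∀ p, Mono (ρ p)) ∧ ∀ (p q : ℤ) (h : p ≤ q), tr X.obj h ≫ ρ p = ρ q := by
    refine ⟨fun p => tr X.obj (min_le_right a p) ≫ inv (tr X.obj (min_le_left a p)), fun p => ?_, fun p q h => ?_⟩
    · haveI := FilDInj.mono_tr X (min_le_right a p)
      exact mono_comp _ _
    · have hm : min a p ≤ min a q := min_le_min_left a h
      rw [← cancel_mono (tr X.obj (min_le_left a p))]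
      simp only [Category.assoc, IsIso.inv_hom_id, Category.comp_id]
      rw [← tr_comp X.obj hm (min_le_left a q), IsIso.inv_hom_id_assoc, tr_comp, tr_comp]
  let n := (b - a).toNat
  let c : Fin n → ℤ := fun k => a + k
  let J : Fin n → A := fun k => Injective.under (cokernel (ρ (c k + 1)))
  let comp : ∀ (p : ℤ) (k : Fin n), X.obj.obj (op p) ⟶ J k := fun p k =>
    ρ p ≫ cokernel.π (ρ (c k + 1)) ≫ Injective.ι _
  let U : ∀ p : ℤ, X.obj.obj (op p) ⟶ piece c J p := fun p => biproduct.lift fun k => comp p k.1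
  have hU : ∀ (p q : ℤ) (h : p ≤ q), tr X.obj h ≫ U p = U q ≫ incl c J h := by
    intro p q h
    refine biproduct.hom_ext _ _ fun k => ?_
    rw [Category.assoc, Category.assoc, biproduct.lift_π]
    rw [show tr X.obj h ≫ comp p k.1 = comp q k.1 by rw [← Category.assoc, hρ p q h]]
    by_cases hk : q ≤ c k.1
    · rw [incl_π_of_le c J h k hk, biproduct.lift_π]
    · rw [incl_π_of_not_le c J h k hk, comp_zero]
      show ρ q ≫ _ = 0
      rw [← hρ (c k.1 + 1) q (by omega), Category.assoc, cokernel.condition_assoc, zero_comp, comp_zero]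
  have aux : ∀ (p q : ℤ) (h : p ≤ q), q ≤ b → ∀ ⦃W : A⦄ (x : W ⟶ X.obj.obj (op p)) (z : W ⟶ piece c J q),
      x ≫ U p = z ≫ incl c J h → ∃ x' : W ⟶ X.obj.obj (op q), x' ≫ tr X.obj h = x ∧ x' ≫ U q = z := by
    intro p q h hqb W x z hxz
    suffices hs : ∃ x' : W ⟶ X.obj.obj (op q), x' ≫ tr X.obj h = x by
      obtain ⟨x', hx'⟩ := hs
      exact ⟨x', hx', by rw [← cancel_mono (incl c J h), Category.assoc, ← hU, ← Category.assoc, hx', hxz]⟩
    by_cases hqa : q ≤ a
    · haveI := hiso h hqa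
      exact ⟨x ≫ inv (tr X.obj h), by rw [Category.assoc, IsIso.inv_hom_id, Category.comp_id]⟩
    by_cases hpq : p = q
    · subst hpq
      exact ⟨x, by rw [show tr X.obj h = 𝟙 _ from X.obj.map_id _, Category.comp_id]⟩
    have hk : ∃ k : Fin n, c k + 1 = q :=
      ⟨⟨(q - 1 - a).toNat, by omega⟩, by simp only [c]; omega⟩
    obtain ⟨k, rfl⟩ := hk
    have h0 := hxz =≫ biproduct.π (fun k : {k : Fin n // p ≤ c k} => J k.1) ⟨k, by omega⟩
    rw [Category.assoc, Category.assoc, biproduct.lift_π, incl_π_of_not_le c J h _ (by simp),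
      comp_zero] at h0
    have h1 : (x ≫ ρ p) ≫ cokernel.π (ρ (c k + 1)) = 0 := by
      rw [← cancel_mono (Injective.ι _), zero_comp, ← h0]
      simp [comp]
    refine ⟨Abelian.monoLift (ρ (c k + 1)) _ h1, ?_⟩
    rw [← cancel_mono (ρ p), Category.assoc, hρ, Abelian.monoLift_comp]
  haveI hUm : ∀ p, Mono (U p) := fun p => by
    refine Preadditive.mono_of_cancel_zero _ fun {W} x hx => ?_
    rcases le_or_gt b p with hp | hp
    · exact (hb p hp).eq_of_tgt _ _
    · obtain ⟨x', hx', -⟩ := aux p b hp.le le_rfl x 0 (by rw [hx, zero_comp])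
      rw [← hx', (hb b le_rfl).eq_of_tgt x' 0, zero_comp]
  let u : X ⟶ split c J := ObjectProperty.homMk
    { app := fun p => U p.unop, naturality := fun q p h => hU _ _ (leOfHom h.unop) }
  haveI : ∀ k, Injective (J k) := fun k => inferInstance
  refine ⟨split c J, u, split_isFilteredInjective c J, ?_, ?_⟩
  · refine ⟨fun {Z} g g' hg => ObjectProperty.hom_ext _ (NatTrans.ext (funext fun p => ?_))⟩
    rw [← cancel_mono (U p.unop)]
    exact congrArg (fun φ : Z ⟶ split c J => φ.hom.app p) hg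
  · rw [isStrict_iff]
    intro p q h W x z hxz
    change W ⟶ piece c J q at z
    change x ≫ U p = z ≫ incl c J h at hxz
    show ∃ (W' : A) (π : W' ⟶ W) (_ : Epi π) (x' : W' ⟶ X.obj.obj (op q)), x' ≫ U q = π ≫ z
    rcases le_or_gt q b with hq | hq
    · obtain ⟨x', -, hx'⟩ := aux p q h hq x z hxz
      exact ⟨W, 𝟙 W, inferInstance, x', by rw [hx', Category.id_comp]⟩
    · refine ⟨W, 𝟙 W, inferInstance, 0, biproduct.hom_ext _ _ fun k => ?_⟩
      have h1 : q ≤ c k.1 := k.2
      have h2 := k.1.2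
      simp only [c] at h1
      omega

end Groth.Agent.CommAlg4.FilDEnoughInj
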