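import Mathlib
import Groth.Prelude.Def_FilD
import Groth.Agent.CommAlg4.FilDEnoughInj

/-! Cokernels of strict morphisms of finite filtered objects. -/
set_option autoImplicit false
set_option linter.style.haveILetI false
universe v u
open CategoryTheory CategoryTheory.Limits Opposite
open Groth.Agent.CommAlg4.FilDStrict

namespace Groth.Agent.CommAlg4.FilDCoker

variable {A : Type u} [Category.{v} A] [Abelian A] {D E : FilD.FilF A} (f : D ⟶ E)

/-- The pointwise cokernel. -/
noncomputable abbrev pwCoker : ℤᵒᵖ ⥤ A where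
  obj p := cokernel (f.hom.app p)
  map g := cokernel.map _ _ (D.obj.map g) (E.obj.map g) (f.hom.naturality g).symm
  map_id p := by apply coequalizer.hom_ext; simp
  map_comp g h := by apply coequalizer.hom_ext; simp

theorem pwCoker_isFinFil (hf : FilD.IsStrict f) : FilD.IsFinFil A (pwCoker f) := by
  obtain ⟨b, hb⟩ := E.property.2.1
  obtain ⟨a, ha⟩ := E.property.2.2
  obtain ⟨a', ha'⟩ := D.property.2.2
  have hmap : ∀ ⦃p q : ℤᵒᵖ⦄ (g : p ⟶ q), cokernel.π (f.hom.app p) ≫ (pwCoker f).map g =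
      E.obj.map g ≫ cokernel.π (f.hom.app q) := fun p q g => cokernel.π_desc _ _ _
  refine ⟨fun p q _g => ?_, ⟨b, fun p hp => ?_⟩, ⟨min a a', fun p q g hp => ?_⟩⟩
  · obtain ⟨p⟩ := p
    obtain ⟨q⟩ := q
    have hqp : q ≤ p := leOfHom _g.unop
    haveI := FilDInj.mono_tr E hqp
    refine Preadditive.mono_of_cancel_zero _ fun {W} t ht => ?_
    change t ≫ (pwCoker f).map (homOfLE hqp).op = 0 at ht
    obtain ⟨W₁, π₁, _, y, hy⟩ := surjective_up_to_refinements_of_epi (cokernel.π (f.hom.app (op p))) t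
    obtain ⟨W₂, π₂, _, x, hx⟩ := π_epi_exact (f.hom.app (op q)) (y ≫ tr E.obj hqp) (by
      rw [Category.assoc, ← hmap, ← Category.assoc, ← hy, Category.assoc, ht, comp_zero])
    obtain ⟨W₃, π₃, _, x', hx'⟩ := (isStrict_iff f).1 hf q p hqp x (π₂ ≫ y) (by rw [← hx, Category.assoc])
    rw [← cancel_epi (π₃ ≫ π₂ ≫ π₁), comp_zero, Category.assoc, Category.assoc, hy]
    rw [← Category.assoc π₂, ← Category.assoc π₃, ← hx', Category.assoc, cokernel.condition, comp_zero]
  · exact IsZero.of_epi (cokernel.π (f.hom.app (op p))) (hb p hp)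
  · haveI := ha g (hp.trans (min_le_left _ _))
    haveI := ha' g (hp.trans (min_le_right _ _))
    exact inferInstanceAs (IsIso (cokernel.mapIso _ _ (asIso (D.obj.map g)) (asIso (E.obj.map g))
      (f.hom.naturality g).symm).hom)

/-- The cokernel in `FilF` of a strict morphism. -/
noncomputable abbrev cokerObj (hf : FilD.IsStrict f) : FilD.FilF A := ⟨pwCoker f, pwCoker_isFinFil f hf⟩

/-- The projection. -/
noncomputable def cokerπ (hf : FilD.IsStrict f) : E ⟶ cokerObj f hf :=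
  ObjectProperty.homMk { app := fun p => cokernel.π (f.hom.app p), naturality := fun _ _ g => (cokernel.π_desc _ _ _).symm }

theorem cokerπ_app (hf : FilD.IsStrict f) (p : ℤᵒᵖ) : (cokerπ f hf).hom.app p = cokernel.π (f.hom.app p) := rfl

theorem comp_cokerπ (hf : FilD.IsStrict f) : f ≫ cokerπ f hf = 0 := by
  ext p
  exact cokernel.condition (f.hom.app p)

theorem exists_desc (hf : FilD.IsStrict f) {Z : FilD.FilF A} (g : E ⟶ Z) (hg : f ≫ g = 0) :
    ∃ g' : cokerObj f hf ⟶ Z, cokerπ f hf ≫ g' = g := by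
  have h0 : ∀ p, f.hom.app p ≫ g.hom.app p = 0 := fun p => congrArg (fun η : D ⟶ Z => η.hom.app p) hg
  refine ⟨ObjectProperty.homMk { app := fun p => cokernel.desc _ (g.hom.app p) (h0 p), naturality := fun p q k => ?_ },
    ?_⟩
  · apply coequalizer.hom_ext
    show cokernel.π (f.hom.app p) ≫ (pwCoker f).map k ≫ cokernel.desc _ _ (h0 q) =
      cokernel.π (f.hom.app p) ≫ cokernel.desc _ _ (h0 p) ≫ Z.obj.map k
    simp
  · ext p
    exact cokernel.π_desc _ _ _

theorem gr_exact_of_mono (hf : FilD.IsStrict f) {Z : FilD.FilF A} (u : cokerObj f hf ⟶ Z) [Mono u]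
    (hu : FilD.IsStrict u) (w : f ≫ cokerπ f hf ≫ u = 0) (p : ℤ) :
    ((ShortComplex.mk f (cokerπ f hf ≫ u) w).map (FilD.grF A p)).Exact := by
  have key : ∀ (W : A) (y : W ⟶ E.obj.obj (op p)) (z : W ⟶ Z.obj.obj (op (p + 1))),
      y ≫ cokernel.π (f.hom.app (op p)) ≫ u.hom.app (op p) = z ≫ tr Z.obj (Int.le_add_one le_rfl : p ≤ p + 1) →
      ∃ (W' : A) (π : W' ⟶ W) (_ : Epi π) (x : W' ⟶ D.obj.obj (op p)) (y' : W' ⟶ E.obj.obj (op (p + 1))),
        π ≫ y = x ≫ f.hom.app (op p) + y' ≫ tr E.obj (Int.le_add_one le_rfl : p ≤ p + 1) := by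
    intro W y z hyz
    haveI := FilDInj.mono_app u (op p)
    have h1 : p ≤ p + 1 := Int.le_add_one le_rfl
    obtain ⟨W₁, π₁, _, q', hq'⟩ := (isStrict_iff u).1 hu p (p + 1) h1 (y ≫ cokernel.π (f.hom.app (op p))) z
      ((Category.assoc _ _ _).trans hyz)
    have hq : q' ≫ tr (cokerObj f hf).obj h1 = π₁ ≫ y ≫ cokernel.π (f.hom.app (op p)) := by
      rw [← cancel_mono (u.hom.app (op p)), Category.assoc, tr_nat u.hom h1, reassoc_of% hq']
      rw [← hyz]
      simp only [Category.assoc]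
    obtain ⟨W₂, π₂, _, y', hy'⟩ := surjective_up_to_refinements_of_epi (cokernel.π (f.hom.app (op (p + 1)))) q'
    obtain ⟨W₃, π₃, _, x, hx⟩ := π_epi_exact (f.hom.app (op p)) (π₂ ≫ π₁ ≫ y - y' ≫ tr E.obj h1) (by
      have hn : tr E.obj h1 ≫ cokernel.π (f.hom.app (op p)) =
          cokernel.π (f.hom.app (op (p + 1))) ≫ tr (cokerObj f hf).obj h1 := (cokernel.π_desc _ _ _).symm
      rw [Preadditive.sub_comp, Category.assoc y', hn, ← reassoc_of% hy', hq]
      simp only [Category.assoc, sub_self])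
    refine ⟨W₃, π₃ ≫ π₂ ≫ π₁, inferInstance, x, π₃ ≫ y', ?_⟩
    rw [← hx, Preadditive.comp_sub]
    simp only [Category.assoc, sub_add_cancel]
  exact (gr_exact_iff' _ p).2 ((gr_exact_iff _ p).2 fun W y z hyz => key W y z hyz)

/-- A strict morphism is followed by a morphism into a filtered injective with exact graded pieces. -/
theorem exists_next [EnoughInjectives A] (hf : FilD.IsStrict f) :
    ∃ (I : FilD.FilF A) (e : E ⟶ I), FilD.IsFilteredInjective I ∧ ∃ w : f ≫ e = 0,
      ∀ p : ℤ, ((ShortComplex.mk f e w).map (FilD.grF A p)).Exact := by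
  obtain ⟨I, u, hI, hm, hu⟩ := FilDEnoughInj.exists_embedding (cokerObj f hf)
  have w : f ≫ cokerπ f hf ≫ u = 0 := by rw [← Category.assoc, comp_cokerπ, zero_comp]
  exact ⟨I, cokerπ f hf ≫ u, hI, w, gr_exact_of_mono f hf u hu w⟩

end Groth.Agent.CommAlg4.FilDCoker
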