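import Mathlib
import Groth.Prelude.Def_FilD
import Groth.Agent.CommAlg4.FilDBiprod
import Groth.Agent.CommAlg4.FilDAcyc

/-! Filtered quasi-isomorphisms and maps into bounded below filtered injective complexes. -/
set_option autoImplicit false
set_option linter.style.haveILetI false
universe v u
open CategoryTheory CategoryTheory.Limits Opposite Pretriangulated

namespace Groth.Agent.CommAlg4.FilDHtpy

variable {A : Type u} [Category.{v} A] [Abelian A]

attribute [local instance] Abelian.hasBinaryBiproducts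

theorem mappingCone_acyclic {X Y : CochainComplex A ℤ} (f : X ⟶ Y) [QuasiIso f] (n : ℤ) :
    (CochainComplex.mappingCone f).ExactAt n := by
  have h : HomotopyCategory.quasiIso A (ComplexShape.up ℤ)
      ((HomotopyCategory.quotient A (ComplexShape.up ℤ)).map f) := by
    rw [HomotopyCategory.quotient_map_mem_quasiIso_iff, HomologicalComplex.mem_quasiIso_iff]
    infer_instance
  rw [HomotopyCategory.quasiIso_eq_trW_subcategoryAcyclic] at h
  have h3 := ((HomotopyCategory.subcategoryAcyclic A).trW_iff_of_distinguished _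
    (HomotopyCategory.mappingCone_triangleh_distinguished f)).1 h
  exact (HomotopyCategory.quotient_obj_mem_subcategoryAcyclic_iff_exactAt _).1 h3 n

theorem cone_filteredAcyclic {K L : CochainComplex (FilD.FilF A) ℤ} (α : K ⟶ L) (hα : FilD.IsFilteredQuasiIso α) :
    FilD.IsFilteredAcyclic (CochainComplex.mappingCone α) := fun p n => by
  haveI := hα p
  exact (mappingCone_acyclic ((FilD.grCx p).map α) n).of_iso
    (CochainComplex.mappingCone.mapHomologicalComplexIso α (FilD.grF A p)).symm

theorem quotient_map_eq_zero {K I : CochainComplex (FilD.FilF A) ℤ} (a : ℤ) [I.IsStrictlyGE a]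
    (hK : FilD.IsFilteredAcyclic K) (hI : ∀ n, FilD.IsFilteredInjective (I.X n))
    (f : (HomotopyCategory.quotient (FilD.FilF A) (ComplexShape.up ℤ)).obj K ⟶
      (HomotopyCategory.quotient (FilD.FilF A) (ComplexShape.up ℤ)).obj I) : f = 0 := by
  obtain ⟨φ, rfl⟩ := (HomotopyCategory.quotient (FilD.FilF A) (ComplexShape.up ℤ)).map_surjective f
  obtain ⟨h⟩ := FilDAcyc.exists_homotopy_zero K I a hK hI φ
  rw [HomotopyCategory.eq_of_homotopy φ 0 h, Functor.map_zero]

theorem precomp_bijective (I : CochainComplex (FilD.FilF A) ℤ) (a : ℤ) [I.IsStrictlyGE a]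
    (hI : ∀ n, FilD.IsFilteredInjective (I.X n)) {K L : CochainComplex (FilD.FilF A) ℤ} (α : K ⟶ L)
    (hα : FilD.IsFilteredQuasiIso α) :
    Function.Bijective (fun β : (HomotopyCategory.quotient (FilD.FilF A) (ComplexShape.up ℤ)).obj L ⟶
        (HomotopyCategory.quotient (FilD.FilF A) (ComplexShape.up ℤ)).obj I =>
      (HomotopyCategory.quotient (FilD.FilF A) (ComplexShape.up ℤ)).map α ≫ β) := by
  let Q := HomotopyCategory.quotient (FilD.FilF A) (ComplexShape.up ℤ)
  have hT := HomotopyCategory.mappingCone_triangleh_distinguished α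
  have hC := cone_filteredAcyclic α hα
  constructor
  · intro β β' h
    rw [← sub_eq_zero]
    obtain ⟨g, hg⟩ := Triangle.yoneda_exact₂ _ hT (β - β') ((Preadditive.comp_sub _ _ _).trans (sub_eq_zero.2 h))
    rw [hg]
    exact (congrArg ((CochainComplex.mappingCone.triangleh α).mor₂ ≫ ·) (quotient_map_eq_zero a hC hI g)).trans comp_zero
  · intro γ
    let T := CochainComplex.mappingCone.triangleh α
    haveI : CochainComplex.IsStrictlyGE (I⟦(1 : ℤ)⟧) (a - 1) :=
      CochainComplex.isStrictlyGE_shift I a 1 (a - 1) (by omega)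
    have hI' : ∀ n, FilD.IsFilteredInjective ((I⟦(1 : ℤ)⟧).X n) := fun n => hI _
    let c := (Q.commShiftIso (1 : ℤ)).app I
    have hT0 : T.rotate.mor₂ ≫ γ⟦(1 : ℤ)⟧' = 0 := by
      have := quotient_map_eq_zero (a - 1) hC hI' (T.mor₃ ≫ γ⟦(1 : ℤ)⟧' ≫ c.inv)
      exact (cancel_mono c.inv).1 ((Category.assoc _ _ _).trans (this.trans zero_comp.symm))
    obtain ⟨g, hg⟩ := Triangle.yoneda_exact₃ _ (rot_of_distTriang _ hT) (γ⟦(1 : ℤ)⟧') hT0
    obtain ⟨β, hβ⟩ := (shiftFunctor (HomotopyCategory (FilD.FilF A) (ComplexShape.up ℤ)) (1 : ℤ)).map_surjective g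
    let F := shiftFunctor (HomotopyCategory (FilD.FilF A) (ComplexShape.up ℤ)) (1 : ℤ)
    let β' : Q.obj L ⟶ Q.obj I := -β
    refine ⟨β', F.map_injective ?_⟩
    calc F.map (Q.map α ≫ β') = F.map (Q.map α) ≫ F.map β' := F.map_comp _ _
      _ = F.map (Q.map α) ≫ (-g) := congrArg (F.map (Q.map α) ≫ ·) ((F.map_neg (f := β)).trans (congrArg Neg.neg hβ))
      _ = -(F.map (Q.map α) ≫ g) := Preadditive.comp_neg _ _
      _ = (-F.map (Q.map α)) ≫ g := (Preadditive.neg_comp _ _).symm
      _ = F.map γ := hg.symm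

end Groth.Agent.CommAlg4.FilDHtpy
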