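import Mathlib
import Groth.Prelude.Def_FilD
import Groth.Agent.CommAlg4.FilDHtpy

/-! Maps from single complexes into filtered injective resolutions. -/
set_option autoImplicit false
set_option linter.style.haveILetI false
universe v u
open CategoryTheory CategoryTheory.Limits Opposite

namespace Groth.Agent.CommAlg4.FilDSingle

variable {A : Type u} [Category.{v} A] [Abelian A]

theorem isZero_single_X (X : FilD.FilF A) (n : ℤ) (hn : n ≠ 0) :
    IsZero (((CochainComplex.singleFunctor (FilD.FilF A) 0).obj X).X n) :=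
  HomologicalComplex.isZero_single_obj_X (ComplexShape.up ℤ) 0 X n hn

/-- Homotopic maps from a single complex into a complex concentrated in degrees `≥ 0` are equal. -/
theorem eq_of_homotopy_single {X : FilD.FilF A} {J : CochainComplex (FilD.FilF A) ℤ} [J.IsStrictlyGE 0]
    (f g : (CochainComplex.singleFunctor (FilD.FilF A) 0).obj X ⟶ J) (h : Homotopy f g) : f = g := by
  ext n : 1
  by_cases hn : n = 0
  · subst hn
    have hh : ∀ i j : ℤ, (ComplexShape.up ℤ).Rel j i → h.hom i j = 0 := fun i j hij => by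
      by_cases hi : i = 0
      · exact (J.isZero_of_isStrictlyGE 0 j (by have : j + 1 = i := hij; omega)).eq_of_tgt _ _
      · exact (isZero_single_X X i hi).eq_of_src _ _
    rw [h.comm 0, dNext_eq _ (show (ComplexShape.up ℤ).Rel 0 1 from rfl),
      prevD_eq _ (show (ComplexShape.up ℤ).Rel (-1) 0 by simp), hh 1 0 rfl, hh 0 (-1) (by simp)]
    simp
  · exact (isZero_single_X X n hn).eq_of_src _ _

theorem exists_map {X Y : FilD.FilF A} (f : X ⟶ Y)
    (I : CochainComplex (FilD.FilF A) ℤ)
    (a : (CochainComplex.singleFunctor (FilD.FilF A) 0).obj X ⟶ I) (ha : FilD.IsFilteredQuasiIso a)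
    (J : CochainComplex (FilD.FilF A) ℤ) [J.IsStrictlyGE 0] (hJ : ∀ n, FilD.IsFilteredInjective (J.X n))
    (b : (CochainComplex.singleFunctor (FilD.FilF A) 0).obj Y ⟶ J) :
    ∃ φ : I ⟶ J, a ≫ φ = (CochainComplex.singleFunctor (FilD.FilF A) 0).map f ≫ b := by
  obtain ⟨β, hβ⟩ := (FilDHtpy.precomp_bijective J 0 hJ a ha).2
    ((HomotopyCategory.quotient _ _).map ((CochainComplex.singleFunctor (FilD.FilF A) 0).map f ≫ b))
  obtain ⟨φ, rfl⟩ := (HomotopyCategory.quotient (FilD.FilF A) (ComplexShape.up ℤ)).map_surjective β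
  exact ⟨φ, eq_of_homotopy_single _ _ (HomotopyCategory.homotopyOfEq _ _ (((HomotopyCategory.quotient _ _).map_comp a φ).trans hβ))⟩

end Groth.Agent.CommAlg4.FilDSingle
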