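import Mathlib
import Groth.Prelude.Def_FilD
import Groth.Agent.CommAlg4.FilDSingle

/-! The horseshoe lemma for filtered injective resolutions. -/
set_option autoImplicit false
set_option linter.style.haveILetI false
universe v u
open CategoryTheory CategoryTheory.Limits Opposite
open Groth.Agent.CommAlg4.FilDStrict

namespace Groth.Agent.CommAlg4.FilDHorse

variable {A : Type u} [Category.{v} A] [Abelian A]

omit [Abelian A] in
theorem mono_of_app {X Y : FilD.FilF A} (u : X ⟶ Y) (h : ∀ p : ℤ, Mono (u.hom.app (op p))) : Mono u :=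
  ⟨fun {Z} g g' hg => by
    ext p
    haveI := h p.unop
    exact (cancel_mono (u.hom.app p)).1 (congrArg (fun φ : Z ⟶ Y => φ.hom.app p) hg)⟩

section Ext

variable (I J : CochainComplex (FilD.FilF A) ℤ) (τ : ∀ n, J.X n ⟶ I.X (n + 1))
  (hτ : ∀ n, τ n ≫ I.d (n + 1) (n + 1 + 1) + J.d n (n + 1) ≫ τ (n + 1) = 0)

/-- The differential of a termwise split extension. -/
noncomputable def extD (n : ℤ) : I.X n ⊞ J.X n ⟶ I.X (n + 1) ⊞ J.X (n + 1) :=
  biprod.lift (biprod.fst ≫ I.d n (n + 1) + biprod.snd ≫ τ n) (biprod.snd ≫ J.d n (n + 1))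

/-- A termwise split extension of complexes. -/
noncomputable def ext' : CochainComplex (FilD.FilF A) ℤ :=
  CochainComplex.of (fun n => I.X n ⊞ J.X n) (extD I J τ) (fun n => by
    apply biprod.hom_ext
    · simp only [extD, Category.assoc, biprod.lift_fst, zero_comp, Preadditive.comp_add, biprod.lift_fst_assoc,
        biprod.lift_snd_assoc, Preadditive.add_comp, HomologicalComplex.d_comp_d, comp_zero, zero_add]
      rw [← Preadditive.comp_add, hτ n, comp_zero]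
    · simp [extD])

theorem ext'_d (n : ℤ) : (ext' I J τ hτ).d n (n + 1) = extD I J τ n :=
  (CochainComplex.of_d (fun n => I.X n ⊞ J.X n) (extD I J τ) n :)

/-- The inclusion into the extension. -/
noncomputable def inclExt : I ⟶ ext' I J τ hτ where
  f n := biprod.inl
  comm' := by
    rintro i _ rfl
    rw [ext'_d]
    show biprod.inl ≫ extD I J τ i = I.d i (i + 1) ≫ biprod.inl
    apply biprod.hom_ext <;> simp [extD]

/-- The projection from the extension. -/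
noncomputable def projExt : ext' I J τ hτ ⟶ J where
  f n := biprod.snd
  comm' := by
    rintro i _ rfl
    rw [ext'_d]
    show biprod.snd ≫ J.d i (i + 1) = extD I J τ i ≫ biprod.snd
    simp [extD]

end Ext

theorem comp_smul_d (I : CochainComplex (FilD.FilF A) ℤ) {X : FilD.FilF A} {m n n' : ℤ} (f : X ⟶ I.X m) (e : m = n) (ε : ℤˣ) :
    f ≫ (ε • I.d m n') = (f ≫ (I.XIsoOfEq e).hom) ≫ (ε • I.d n n') := by
  subst e
  simp

theorem exists_horseshoe (S : ShortComplex (FilD.FilF A))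
    (hS : ∀ p : ℤ, (S.map ((FilD.IsFinFil A).ι ⋙ (evaluation ℤᵒᵖ A).obj (op p))).ShortExact)
    (I : CochainComplex (FilD.FilF A) ℤ) [I.IsStrictlyGE 0] (hI : ∀ n, FilD.IsFilteredInjective (I.X n))
    (a : (HomologicalComplex.single (FilD.FilF A) (ComplexShape.up ℤ) 0).obj S.X₁ ⟶ I)
    (J : CochainComplex (FilD.FilF A) ℤ)
    (c : (HomologicalComplex.single (FilD.FilF A) (ComplexShape.up ℤ) 0).obj S.X₃ ⟶ J) (hc : FilD.IsFilteredQuasiIso c) :
    ∃ (M : CochainComplex (FilD.FilF A) ℤ) (α : I ⟶ M) (β : M ⟶ J)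
      (b : (HomologicalComplex.single (FilD.FilF A) (ComplexShape.up ℤ) 0).obj S.X₂ ⟶ M),
      (∀ n, ∃ (r : M.X n ⟶ I.X n) (s : J.X n ⟶ M.X n), α.f n ≫ r = 𝟙 _ ∧ s ≫ β.f n = 𝟙 _ ∧ α.f n ≫ β.f n = 0 ∧
        r ≫ α.f n + β.f n ≫ s = 𝟙 _) ∧
      a ≫ α = (HomologicalComplex.single (FilD.FilF A) (ComplexShape.up ℤ) 0).map S.f ≫ b ∧
      b ≫ β = (HomologicalComplex.single (FilD.FilF A) (ComplexShape.up ℤ) 0).map S.g ≫ c := by
  have hfg : ∀ p : ℤ, S.f.hom.app (op p) ≫ S.g.hom.app (op p) = 0 := fun p =>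
    (S.map ((FilD.IsFinFil A).ι ⋙ (evaluation ℤᵒᵖ A).obj (op p))).zero
  have hfm : ∀ p : ℤ, Mono (S.f.hom.app (op p)) := fun p => (hS p).mono_f
  have hge : ∀ p : ℤ, Epi (S.g.hom.app (op p)) := fun p => (hS p).epi_g
  haveI : Mono S.f := mono_of_app _ hfm
  have hex : ∀ (p : ℤ) ⦃W : A⦄ (y : W ⟶ S.X₂.obj.obj (op p)), y ≫ S.g.hom.app (op p) = 0 →
      ∃ (W' : A) (π : W' ⟶ W) (_ : Epi π) (x : W' ⟶ S.X₁.obj.obj (op p)),
        π ≫ y = x ≫ S.f.hom.app (op p) := fun p W y hy => (hS p).exact.exact_up_to_refinements y hy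
  have hfs : FilD.IsStrict S.f := by
    rw [isStrict_iff]
    intro p q h W x z hxz
    haveI := FilDInj.mono_tr S.X₃ h
    obtain ⟨W', π, hπ, x', hx'⟩ := hex q z (by
      rw [← cancel_mono (tr S.X₃.obj h), Category.assoc, ← tr_nat, zero_comp, ← reassoc_of% hxz, hfg, comp_zero])
    exact ⟨W', π, hπ, x', hx'.symm⟩
  have hgs : FilD.IsStrict S.g := by
    rw [isStrict_iff]
    intro p q h W x z _
    haveI := hge q
    obtain ⟨W', π, hπ, y, hy⟩ := surjective_up_to_refinements_of_epi (S.g.hom.app (op q)) z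
    exact ⟨W', π, hπ, y, hy.symm⟩
  let a0 : S.X₁ ⟶ I.X 0 := (HomologicalComplex.singleObjXSelf (ComplexShape.up ℤ) 0 S.X₁).inv ≫ a.f 0
  let c0 : S.X₃ ⟶ J.X 0 := (HomologicalComplex.singleObjXSelf (ComplexShape.up ℤ) 0 S.X₃).inv ≫ c.f 0
  have ha0 : a0 ≫ I.d 0 1 = 0 := by simp [a0]
  have hc0 : c0 ≫ J.d 0 1 = 0 := by simp [c0]
  obtain ⟨t, ht⟩ := FilDInj.exists_extension S.f hfs (hI 0) a0
  obtain ⟨σ, hσ⟩ := FilDInj.exists_factor S.g hgs (hI 1) (t ≫ I.d 0 1) fun p W y hy => by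
    obtain ⟨W', π, _, x, hx⟩ := hex p y hy
    have h0 : S.f.hom.app (op p) ≫ (t ≫ I.d 0 1).hom.app (op p) = 0 :=
      congrArg (fun η : S.X₁ ⟶ I.X 1 => η.hom.app (op p)) (show S.f ≫ t ≫ I.d 0 1 = 0 by rw [reassoc_of% ht, ha0])
    rw [← cancel_epi π, ← Category.assoc, hx, Category.assoc, h0, comp_zero, comp_zero]
  have hσd : σ ≫ I.d 1 2 = 0 := by
    ext p
    haveI := hge p.unop
    rw [← cancel_epi (S.g.hom.app p)]
    exact (congrArg (fun η : S.X₂ ⟶ I.X 2 => η.hom.app p)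
      (show S.g ≫ σ ≫ I.d 1 2 = 0 by rw [reassoc_of% hσ, I.d_comp_d, comp_zero])).trans comp_zero.symm
  haveI : CochainComplex.IsStrictlyGE (I⟦(1 : ℤ)⟧) (-1) :=
    CochainComplex.isStrictlyGE_shift I 0 1 (-1) (by omega)
  have hI' : ∀ n, FilD.IsFilteredInjective ((I⟦(1 : ℤ)⟧).X n) := fun n => hI _
  let Q := HomotopyCategory.quotient (FilD.FilF A) (ComplexShape.up ℤ)
  have hsd : ∀ j, (ComplexShape.up ℤ).Rel 0 j → (-σ : S.X₃ ⟶ (I⟦(1 : ℤ)⟧).X 0) ≫ (I⟦(1 : ℤ)⟧).d 0 j = 0 := by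
    rintro _ rfl
    show (-σ) ≫ ((1 : ℤ).negOnePow • I.d 1 2) = 0
    rw [Linear.comp_units_smul, Preadditive.neg_comp, hσd, neg_zero, smul_zero]
  let s : (HomologicalComplex.single (FilD.FilF A) (ComplexShape.up ℤ) 0).obj S.X₃ ⟶ I⟦(1 : ℤ)⟧ :=
    HomologicalComplex.mkHomFromSingle (-σ) hsd
  obtain ⟨γ, hγ⟩ := (FilDHtpy.precomp_bijective (I⟦(1 : ℤ)⟧) (-1) hI' c hc).2 (Q.map s)
  obtain ⟨T, rfl⟩ := Q.map_surjective γ
  let h := HomotopyCategory.homotopyOfEq (c ≫ T) s ((Q.map_comp c T).trans hγ)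
  let τ : ∀ n, J.X n ⟶ I.X (n + 1) := fun n => T.f n
  have hτ : ∀ n, τ n ≫ I.d (n + 1) (n + 1 + 1) + J.d n (n + 1) ≫ τ (n + 1) = 0 := by
    intro n
    have h1 : τ n ≫ ((1 : ℤ).negOnePow • I.d (n + 1) (n + 1 + 1)) = J.d n (n + 1) ≫ τ (n + 1) := T.comm n (n + 1)
    rw [← h1, Int.negOnePow_one, Units.neg_smul, one_smul, Preadditive.comp_neg, add_neg_cancel]
  let H : S.X₃ ⟶ I.X 0 := ((HomologicalComplex.singleObjXSelf (ComplexShape.up ℤ) 0 S.X₃).inv ≫ h.hom 0 (-1)) ≫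
    (I.XIsoOfEq (show (-1 : ℤ) + 1 = 0 by norm_num)).hom
  have hH : c0 ≫ τ 0 = -σ - H ≫ I.d 0 1 := by
    have h1 := (HomologicalComplex.singleObjXSelf (ComplexShape.up ℤ) 0 S.X₃).inv ≫= h.comm 0
    rw [dNext_eq _ (show (ComplexShape.up ℤ).Rel 0 1 from rfl),
      prevD_eq _ (show (ComplexShape.up ℤ).Rel (-1) 0 by simp)] at h1
    have hd : ((HomologicalComplex.single (FilD.FilF A) (ComplexShape.up ℤ) 0).obj S.X₃).d 0 1 = 0 :=
      (FilDSingle.isZero_single_X S.X₃ 1 one_ne_zero).eq_of_tgt _ _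
    rw [hd, zero_comp, zero_add, Preadditive.comp_add, HomologicalComplex.comp_f] at h1
    have hs0 : (HomologicalComplex.singleObjXSelf (ComplexShape.up ℤ) 0 S.X₃).inv ≫ s.f 0 = -σ :=
      (congrArg (_ ≫ ·) (HomologicalComplex.mkHomFromSingle_f (K := I⟦(1 : ℤ)⟧) (j := (0 : ℤ)) (-σ) hsd)).trans (Iso.inv_hom_id_assoc _ _)
    rw [hs0] at h1
    have h2 : c0 ≫ τ 0 = H ≫ ((1 : ℤ).negOnePow • I.d 0 1) + -σ := by
      refine (Category.assoc _ _ _).trans (h1.trans ?_)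
      refine congrArg (· + -σ) ?_
      exact (Category.assoc _ _ _).symm.trans (comp_smul_d I (m := (-1 : ℤ) + 1) (n := 0) (n' := 1) _ (by norm_num) _)
    rw [h2, Int.negOnePow_one, Units.neg_smul, one_smul, Preadditive.comp_neg]
    abel
  let b0 : S.X₂ ⟶ I.X 0 ⊞ J.X 0 := biprod.lift (t + S.g ≫ H) (S.g ≫ c0)
  have hb0' : b0 ≫ extD I J τ 0 = 0 := by
    have hc0' : c0 ≫ J.d 0 (0 + 1) = 0 := hc0
    apply biprod.hom_ext
    · simp only [b0, extD, Category.assoc, biprod.lift_fst, zero_comp, Preadditive.comp_add,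
        biprod.lift_fst_assoc, biprod.lift_snd_assoc, Preadditive.add_comp]
      erw [hH, Preadditive.comp_sub, Preadditive.comp_neg, hσ]
      exact (by intros; abel : ∀ x y : S.X₂ ⟶ I.X 1, x + y + (-x - y) = 0) _ _
    · simp only [b0, extD, Category.assoc, biprod.lift_snd, zero_comp, biprod.lift_snd_assoc, hc0', comp_zero]
  have hb0 : ∀ k, (ComplexShape.up ℤ).Rel 0 k → (b0 : S.X₂ ⟶ (ext' I J τ hτ).X 0) ≫ (ext' I J τ hτ).d 0 k = 0 := by
    rintro _ rfl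
    rw [ext'_d]
    exact hb0'
  have e₁ : a0 ≫ (biprod.inl : I.X 0 ⟶ I.X 0 ⊞ J.X 0) = S.f ≫ b0 := by
    apply biprod.hom_ext
    · simp [b0, ht, reassoc_of% S.zero]
    · simp [b0, reassoc_of% S.zero]
  have e₂ : b0 ≫ biprod.snd = S.g ≫ c0 := by simp [b0]
  refine ⟨ext' I J τ hτ, inclExt I J τ hτ, projExt I J τ hτ, HomologicalComplex.mkHomFromSingle b0 hb0,
    fun n => ⟨biprod.fst, biprod.inr, biprod.inl_fst, biprod.inr_snd, biprod.inl_snd, biprod.total⟩, ?_, ?_⟩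
  · refine HomologicalComplex.from_single_hom_ext ?_
    rw [HomologicalComplex.comp_f, HomologicalComplex.comp_f, HomologicalComplex.single_map_f_self]
    refine ((congrArg (· ≫ (inclExt I J τ hτ).f 0) ((Iso.hom_inv_id_assoc _ _).symm : a.f 0 = _)).trans
      ((Category.assoc _ _ _).trans (congrArg (_ ≫ ·) e₁))).trans ?_
    refine Eq.trans ?_ (congrArg (_ ≫ ·) (HomologicalComplex.mkHomFromSingle_f (K := ext' I J τ hτ) b0 hb0)).symm
    exact (by simp only [Category.assoc, Iso.inv_hom_id_assoc] :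
      (HomologicalComplex.singleObjXSelf (ComplexShape.up ℤ) 0 S.X₁).hom ≫ S.f ≫ b0 =
        ((HomologicalComplex.singleObjXSelf (ComplexShape.up ℤ) 0 S.X₁).hom ≫ S.f ≫
          (HomologicalComplex.singleObjXSelf (ComplexShape.up ℤ) 0 S.X₂).inv) ≫
          (HomologicalComplex.singleObjXSelf (ComplexShape.up ℤ) 0 S.X₂).hom ≫ b0)
  · refine HomologicalComplex.from_single_hom_ext ?_
    rw [HomologicalComplex.comp_f, HomologicalComplex.comp_f, HomologicalComplex.single_map_f_self]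
    refine ((congrArg (· ≫ (projExt I J τ hτ).f 0)
      (HomologicalComplex.mkHomFromSingle_f (K := ext' I J τ hτ) b0 hb0)).trans
      ((Category.assoc _ _ _).trans (congrArg (_ ≫ ·) e₂))).trans ?_
    simp only [c0, Category.assoc]

end Groth.Agent.CommAlg4.FilDHorse
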