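import Mathlib
import Groth.Prelude.Def_FilD
import Groth.Agent.CommAlg4.FilDBiprod
import Groth.Agent.CommAlg4.FilDCoker
import Groth.Agent.CommAlg4.FilDHorse

/-! Filtered injective resolutions of bounded below complexes. -/
set_option autoImplicit false
set_option linter.style.haveILetI false
universe v u
open CategoryTheory CategoryTheory.Limits Opposite ZeroObject
open Groth.Agent.CommAlg4.FilDStrict

namespace Groth.Agent.CommAlg4.FilDResol

variable {A : Type u} [Category.{v} A] [Abelian A] [EnoughInjectives A]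
  (K : CochainComplex (FilD.FilF A) ℤ)

/-- The data of one stage of the construction of a resolution. -/
structure St (n : ℤ) where
  D : FilD.FilF A
  P : FilD.FilF A
  f : D ⟶ K.X n ⊞ P
  strict : FilD.IsStrict f
  hd : ∀ j, f ≫ biprod.fst ≫ K.d n j = 0

variable {K}

/-- The next filtered injective. -/
noncomputable def St.J {n : ℤ} (s : St K n) : FilD.FilF A := (FilDCoker.exists_next s.f s.strict).choose

/-- The map into the next filtered injective. -/
noncomputable def St.e {n : ℤ} (s : St K n) : K.X n ⊞ s.P ⟶ s.J :=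
  (FilDCoker.exists_next s.f s.strict).choose_spec.choose

theorem St.inj {n : ℤ} (s : St K n) : FilD.IsFilteredInjective s.J :=
  (FilDCoker.exists_next s.f s.strict).choose_spec.choose_spec.1

theorem St.w {n : ℤ} (s : St K n) : s.f ≫ s.e = 0 :=
  (FilDCoker.exists_next s.f s.strict).choose_spec.choose_spec.2.choose

theorem St.exact {n : ℤ} (s : St K n) (p : ℤ) :
    ((ShortComplex.mk s.f s.e s.w).map (FilD.grF A p)).Exact :=
  (FilDCoker.exists_next s.f s.strict).choose_spec.choose_spec.2.choose_spec p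

theorem St.next_strict {n : ℤ} (s : St K n) (m : ℤ) :
    FilD.IsStrict (biprod.lift (biprod.fst ≫ (-K.d n m)) s.e) := by
  have w : s.f ≫ biprod.lift (biprod.fst ≫ (-K.d n m)) s.e = 0 := by
    apply biprod.hom_ext
    · rw [Category.assoc, biprod.lift_fst, zero_comp, Preadditive.comp_neg, Preadditive.comp_neg, s.hd, neg_zero]
    · rw [Category.assoc, biprod.lift_snd, s.w, zero_comp]
  refine (strict_and_exact (ShortComplex.mk s.f _ w) fun p => ?_).2.2
  rw [ShortComplex.exact_iff_exact_up_to_refinements]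
  intro W y hy
  refine (s.exact p).exact_up_to_refinements y ?_
  change W ⟶ (FilD.grF A p).obj (K.X n ⊞ s.P) at y
  change y ≫ (FilD.grF A p).map (biprod.lift (biprod.fst ≫ (-K.d n m)) s.e) = 0 at hy
  show y ≫ (FilD.grF A p).map s.e = 0
  rw [← biprod.lift_snd (biprod.fst ≫ (-K.d n m)) s.e, Functor.map_comp, ← Category.assoc, hy, zero_comp]

/-- The next stage. -/
noncomputable def St.next {n : ℤ} (s : St K n) (m : ℤ) : St K m where
  D := K.X n ⊞ s.P
  P := s.J
  f := biprod.lift (biprod.fst ≫ (-K.d n m)) s.e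
  strict := s.next_strict m
  hd j := by rw [biprod.lift_fst_assoc, Category.assoc, Preadditive.neg_comp, K.d_comp_d, neg_zero, comp_zero]

variable (K) (a : ℤ)

open ZeroObject in
/-- The stages. -/
noncomputable def st : ∀ k : ℕ, St K (a + k)
  | 0 =>
    { D := 0
      P := 0
      f := 0
      strict := by
        rw [isStrict_iff]
        intro p q h W x z hxz
        haveI := FilDInj.mono_tr (K.X (a + (0 : ℕ)) ⊞ (0 : FilD.FilF A)) h
        have hx : x = 0 := ((((FilD.IsFinFil A).ι ⋙ (evaluation ℤᵒᵖ A).obj (op p))).map_isZero (isZero_zero _)).eq_of_tgt _ _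
        refine ⟨W, 𝟙 W, inferInstance, 0, ?_⟩
        rw [Category.id_comp, zero_comp, ← cancel_mono (tr (K.X (a + (0 : ℕ)) ⊞ (0 : FilD.FilF A)).obj h), ← hxz, hx,
          zero_comp, zero_comp]
      hd := fun j => zero_comp }
  | k + 1 => (st k).next (a + (k + 1 : ℕ))

/-- The map out of a later stage, with its expected type. -/
noncomputable abbrev eS (k : ℕ) : K.X (a + (k + 1 : ℕ)) ⊞ (st K a k).J ⟶ (st K a (k + 1)).J := (st K a (k + 1)).e

theorem w_succ (k : ℕ) :
    biprod.lift (biprod.fst ≫ (-K.d (a + k) (a + (k + 1 : ℕ)))) (st K a k).e ≫ eS K a k = 0 :=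
  (st K a (k + 1)).w

theorem w_succ' (k : ℕ) :
    biprod.lift (biprod.fst ≫ (-K.d (a + (k + 1 : ℕ)) (a + (k + 1 + 1 : ℕ)))) (eS K a k) ≫ eS K a (k + 1) = 0 :=
  (st K a (k + 1 + 1)).w

theorem exact_succ (k : ℕ) (p : ℤ) :
    ((ShortComplex.mk _ _ (w_succ K a k)).map (FilD.grF A p)).Exact :=
  (st K a (k + 1)).exact p

theorem d_comp_d_aux (k : ℕ) : (biprod.inr ≫ eS K a k) ≫ biprod.inr ≫ eS K a (k + 1) = 0 := by
  have h := biprod.inr ≫= w_succ' K a k
  rw [← Category.assoc, comp_zero] at h
  rw [← Category.assoc]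
  refine (congrArg (· ≫ eS K a (k + 1)) ?_).trans h
  apply biprod.hom_ext <;> simp

/-- The resolution, indexed by natural numbers. -/
noncomputable def resNat : CochainComplex (FilD.FilF A) ℕ :=
  CochainComplex.of (fun k => (st K a k).J) (fun k => biprod.inr ≫ eS K a k) (d_comp_d_aux K a)

theorem resNat_d (k : ℕ) : (resNat K a).d k (k + 1) = biprod.inr ≫ eS K a k :=
  (CochainComplex.of_d (fun k => (st K a k).J) (fun k => biprod.inr ≫ eS K a k) k :)

theorem comm_aux (k : ℕ) :
    (biprod.inl ≫ (st K a k).e) ≫ biprod.inr ≫ eS K a k =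
      K.d (a + k) (a + (k + 1 : ℕ)) ≫ biprod.inl ≫ eS K a k := by
  have h := biprod.inl ≫= w_succ K a k
  rw [← Category.assoc, comp_zero] at h
  have e1 : (biprod.inl : K.X (a + k) ⟶ _) ≫ biprod.lift (biprod.fst ≫ (-K.d (a + k) (a + (k + 1 : ℕ)))) (st K a k).e =
      -(K.d (a + k) (a + (k + 1 : ℕ)) ≫ biprod.inl) + (biprod.inl ≫ (st K a k).e) ≫ biprod.inr := by
    apply biprod.hom_ext <;> simp
  rw [e1, Preadditive.add_comp, Preadditive.neg_comp] at h
  simpa only [Category.assoc] using (neg_add_eq_zero.1 h).symm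

/-- The map to the resolution. -/
noncomputable def φNat : K.restriction (ComplexShape.embeddingUpIntGE a) ⟶ resNat K a where
  f k := biprod.inl ≫ (st K a k).e
  comm' := by
    rintro i _ rfl
    rw [resNat_d]
    exact comm_aux K a i

theorem hasLift [K.IsStrictlyGE a] :
    (ComplexShape.embeddingUpIntGE a).HasLift (φNat K a) := fun j hj i hi => by
  rw [ComplexShape.boundaryGE_embeddingUpIntGE_iff] at hj
  subst hj
  exact (K.isZero_of_isStrictlyGE a i (by simp at hi; omega)).eq_of_src _ _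

variable [K.IsStrictlyGE a]

/-- The resolution. -/
noncomputable def res : CochainComplex (FilD.FilF A) ℤ :=
  (resNat K a).extend (ComplexShape.embeddingUpIntGE a)

/-- The map to the resolution. -/
noncomputable def resMap : K ⟶ res K a :=
  (ComplexShape.embeddingUpIntGE a).liftExtend (φNat K a) (hasLift K a)

omit [K.IsStrictlyGE a] in
theorem isZero_res (n : ℤ) (hn : n < a) : IsZero ((res K a).X n) :=
  (resNat K a).isZero_extend_X _ n fun k hk => by simp at hk; omega

instance : CochainComplex.IsStrictlyGE (res K a) a :=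
  (CochainComplex.isStrictlyGE_iff _ _).2 fun n hn => isZero_res K a n hn

theorem res_injective (n : ℤ) : FilD.IsFilteredInjective ((res K a).X n) := by
  intro p
  rcases lt_or_ge n a with hn | hn
  · exact ((FilD.grF A p).map_isZero (isZero_res K a n hn)).injective
  · obtain ⟨k, rfl⟩ : ∃ k : ℕ, n = a + k := ⟨(n - a).toNat, by omega⟩
    haveI : Injective ((FilD.grF A p).obj ((resNat K a).X k)) := (st K a k).inj p
    exact Injective.of_iso ((FilD.grF A p).mapIso
      ((resNat K a).extendXIso (ComplexShape.embeddingUpIntGE a) (i := k) rfl)).symm inferInstance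

/-- The incoming map to a stage. -/
noncomputable abbrev fI (l i n : ℤ) : K.X i ⊞ (res K a).X l ⟶ K.X n ⊞ (res K a).X i :=
  biprod.lift (biprod.fst ≫ (-K.d i n)) (biprod.desc ((resMap K a).f i) ((res K a).d l i))

/-- The outgoing map from a stage. -/
noncomputable abbrev eI (i n : ℤ) : K.X n ⊞ (res K a).X i ⟶ (res K a).X n :=
  biprod.desc ((resMap K a).f n) ((res K a).d i n)

theorem fI_eI (l i n : ℤ) : fI K a l i n ≫ eI K a i n = 0 := by
  apply biprod.hom_ext'
  · rw [biprod.lift_desc]; simp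
  · rw [biprod.lift_desc]; simp

/-- Identification of the terms of the resolution. -/
noncomputable def tIso (k : ℕ) (n : ℤ) (hn : a + k = n) : (st K a k).J ≅ (res K a).X n :=
  ((resNat K a).extendXIso (ComplexShape.embeddingUpIntGE a) (i := k) (i' := n) hn).symm

theorem φ_eq (k : ℕ) (n : ℤ) (hn : a + k = n) :
    (biprod.inl ≫ (st K a k).e) ≫ (tIso K a k n hn).hom = (K.XIsoOfEq hn).hom ≫ (resMap K a).f n := by
  subst hn
  refine ((((ComplexShape.embeddingUpIntGE a).liftExtend_f (φNat K a) (hasLift K a) (i' := a + (k : ℤ)) (i := k) rfl).trans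
      (Category.id_comp _)).symm).trans ?_
  exact (Category.id_comp _).symm

theorem d_eq (k : ℕ) (i n : ℤ) (hi : a + k = i) (hn : a + (k + 1 : ℕ) = n) :
    (biprod.inr ≫ eS K a k) ≫ (tIso K a (k + 1) n hn).hom = (tIso K a k i hi).hom ≫ (res K a).d i n := by
  show _ = _ ≫ ((resNat K a).extend (ComplexShape.embeddingUpIntGE a)).d i n
  rw [(resNat K a).extend_d_eq (ComplexShape.embeddingUpIntGE a) (show (ComplexShape.embeddingUpIntGE a).f k = i from hi)
    (show (ComplexShape.embeddingUpIntGE a).f (k + 1) = n from hn), resNat_d]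
  exact (Iso.inv_hom_id_assoc _ _).symm

theorem eS_eq (k : ℕ) (i n : ℤ) (hi : a + k = i) (hn : a + (k + 1 : ℕ) = n) :
    eS K a k ≫ (tIso K a (k + 1) n hn).hom =
      (biprod.mapIso (K.XIsoOfEq hn) (tIso K a k i hi)).hom ≫ eI K a i n := by
  apply biprod.hom_ext'
  · rw [biprod.mapIso_hom, biprod.inl_map_assoc, biprod.inl_desc, ← φ_eq K a (k + 1) n hn]
    exact (Category.assoc _ _ _).symm
  · rw [biprod.mapIso_hom, biprod.inr_map_assoc, biprod.inr_desc, ← d_eq K a k i n hi hn, Category.assoc]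

theorem exists_e_iso (k : ℕ) (i n : ℤ) (hi : i + 1 = n) (hn : a + k = n) :
    ∃ ρ : (st K a k).P ≅ (res K a).X i,
      (st K a k).e ≫ (tIso K a k n hn).hom = (biprod.mapIso (K.XIsoOfEq hn) ρ).hom ≫ eI K a i n := by
  cases k with
  | zero =>
    have hP : IsZero (st K a 0).P := isZero_zero _
    refine ⟨hP.iso (isZero_res K a i (by omega)), biprod.hom_ext' _ _ ?_ (hP.eq_of_src _ _)⟩
    rw [biprod.mapIso_hom, biprod.inl_map_assoc, biprod.inl_desc, ← φ_eq K a 0 n hn, Category.assoc]
  | succ k =>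
    have hk : a + k = i := by push_cast at hn; omega
    exact ⟨tIso K a k i hk, eS_eq K a k i n hk hn⟩

theorem gr_exact (l i n : ℤ) (hl : l + 1 = i) (hi : i + 1 = n) (p : ℤ) :
    ((ShortComplex.mk (fI K a l i n) (eI K a i n) (fI_eI K a l i n)).map (FilD.grF A p)).Exact := by
  rcases lt_or_ge n a with hn | hn
  · refine ShortComplex.exact_of_isZero_X₂ _ ((FilD.grF A p).map_isZero ?_)
    exact (IsZero.iff_id_eq_zero _).2 (biprod.hom_ext _ _ ((K.isZero_of_isStrictlyGE a n hn).eq_of_tgt _ _)
      ((isZero_res K a i (by omega)).eq_of_tgt _ _))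
  · obtain ⟨k, hk⟩ : ∃ k : ℕ, a + k = n := ⟨(n - a).toNat, by omega⟩
    cases k with
    | zero =>
      obtain ⟨ρ, he⟩ := exists_e_iso K a 0 i n hi hk
      refine ShortComplex.exact_of_iso ((FilD.grF A p).mapShortComplex.mapIso
        (ShortComplex.isoMk (?_ : (st K a 0).D ≅ K.X i ⊞ (res K a).X l) (biprod.mapIso (K.XIsoOfEq hk) ρ)
          (tIso K a 0 n hk) ?_ he.symm)) ((st K a 0).exact p)
      · exact (isZero_zero _).iso ((IsZero.iff_id_eq_zero _).2 (biprod.hom_ext _ _
          ((K.isZero_of_isStrictlyGE a i (by omega)).eq_of_tgt _ _)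
          ((isZero_res K a l (by omega)).eq_of_tgt _ _)))
      · exact (isZero_zero _).eq_of_src _ _
    | succ k =>
      have hk' : a + k = i := by push_cast at hk ⊢; omega
      obtain ⟨ρ', he'⟩ := exists_e_iso K a k l i hl hk'
      refine ShortComplex.exact_of_iso ((FilD.grF A p).mapShortComplex.mapIso
        (ShortComplex.isoMk (biprod.mapIso (K.XIsoOfEq hk') ρ') (biprod.mapIso (K.XIsoOfEq hk) (tIso K a k i hk'))
          (tIso K a (k + 1) n hk) ?_ (eS_eq K a k i n hk' hk).symm)) (exact_succ K a k p)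
      apply biprod.hom_ext
      · simp only [fI, biprod.mapIso_hom, Category.assoc, biprod.lift_fst, biprod.map_fst, biprod.map_fst_assoc,
          biprod.lift_fst_assoc, Preadditive.comp_neg, Preadditive.neg_comp, HomologicalComplex.XIsoOfEq_hom_comp_d,
          HomologicalComplex.d_comp_XIsoOfEq_hom]
      · simp only [fI, biprod.mapIso_hom, Category.assoc, biprod.lift_snd, biprod.map_snd, biprod.lift_snd_assoc]
        exact he'.symm

/-- An element killed by the graded piece of `eI` comes from the previous stage. -/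
theorem gr_lift (l i n : ℤ) (hl : l + 1 = i) (hi : i + 1 = n) (p : ℤ) {W : A}
    (u : W ⟶ (FilD.grF A p).obj (K.X n)) (v : W ⟶ (FilD.grF A p).obj ((res K a).X i))
    (h : u ≫ (FilD.grF A p).map ((resMap K a).f n) + v ≫ (FilD.grF A p).map ((res K a).d i n) = 0) :
    ∃ (W' : A) (π : W' ⟶ W) (_ : Epi π) (z : W' ⟶ (FilD.grF A p).obj (K.X i))
      (z' : W' ⟶ (FilD.grF A p).obj ((res K a).X l)),
      π ≫ u = -(z ≫ (FilD.grF A p).map (K.d i n)) ∧
        π ≫ v = z ≫ (FilD.grF A p).map ((resMap K a).f i) + z' ≫ (FilD.grF A p).map ((res K a).d l i) := by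
  let G := FilD.grF A p
  let y : W ⟶ G.obj (K.X n ⊞ (res K a).X i) := u ≫ G.map biprod.inl + v ≫ G.map biprod.inr
  have hy : y ≫ G.map (eI K a i n) = 0 := by
    rw [Preadditive.add_comp, Category.assoc, Category.assoc, ← G.map_comp, ← G.map_comp, biprod.inl_desc,
      biprod.inr_desc]
    exact h
  obtain ⟨W', π, hπ, x, hx⟩ := (gr_exact K a l i n hl hi p).exact_up_to_refinements y hy
  obtain ⟨x, hx⟩ : ∃ x' : W' ⟶ G.obj (K.X i ⊞ (res K a).X l), π ≫ y = x' ≫ G.map (fI K a l i n) := ⟨x, hx⟩
  have hu : y ≫ G.map biprod.fst = u := by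
    rw [Preadditive.add_comp, Category.assoc, Category.assoc, ← G.map_comp, ← G.map_comp, biprod.inl_fst,
      biprod.inr_fst, G.map_id, G.map_zero, Category.comp_id, comp_zero, add_zero]
  have hv : y ≫ G.map biprod.snd = v := by
    rw [Preadditive.add_comp, Category.assoc, Category.assoc, ← G.map_comp, ← G.map_comp, biprod.inl_snd,
      biprod.inr_snd, G.map_id, G.map_zero, Category.comp_id, comp_zero, zero_add]
  refine ⟨W', π, hπ, x ≫ G.map biprod.fst, x ≫ G.map biprod.snd, ?_, ?_⟩
  · show π ≫ u = -((x ≫ G.map biprod.fst) ≫ G.map (K.d i n))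
    rw [← hu, reassoc_of% hx, Category.assoc, ← G.map_comp, biprod.lift_fst, G.map_comp, G.map_neg, Preadditive.comp_neg,
      Preadditive.comp_neg]
  · show π ≫ v = (x ≫ G.map biprod.fst) ≫ G.map ((resMap K a).f i) +
      (x ≫ G.map biprod.snd) ≫ G.map ((res K a).d l i)
    rw [← hv, reassoc_of% hx, Category.assoc, ← G.map_comp, biprod.lift_snd, biprod.desc_eq, G.map_add, G.map_comp, G.map_comp,
      Preadditive.comp_add]
    simp only [Category.assoc]

theorem resMap_filteredQuasiIso : FilD.IsFilteredQuasiIso (resMap K a) := fun p => by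
  let G := FilD.grF A p
  refine ⟨fun n => ?_⟩
  rw [quasiIsoAt_iff_isIso_homologyMap]
  haveI : Mono (HomologicalComplex.homologyMap ((FilD.grCx p).map (resMap K a)) n) := by
    rw [HomologicalComplex.mono_homologyMap_iff_up_to_refinements _ (n - 1) n (n + 1) (by simp) (by simp)]
    intro W x _ y hxy
    change W ⟶ G.obj (K.X n) at x
    change W ⟶ G.obj ((res K a).X (n - 1)) at y
    change x ≫ G.map ((resMap K a).f n) = y ≫ G.map ((res K a).d (n - 1) n) at hxy
    obtain ⟨W', π, hπ, z, z', hz, -⟩ := gr_lift K a (n - 2) (n - 1) n (by omega) (by omega) p x (-y) (by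
      rw [hxy, Preadditive.neg_comp, add_neg_cancel])
    exact ⟨W', π, hπ, -z, by
      show π ≫ x = (-z) ≫ G.map (K.d (n - 1) n)
      rw [hz, Preadditive.neg_comp]⟩
  haveI : Epi (HomologicalComplex.homologyMap ((FilD.grCx p).map (resMap K a)) n) := by
    rw [HomologicalComplex.epi_homologyMap_iff_up_to_refinements _ (n - 1) n (n + 1) (by simp) (by simp)]
    intro W y hy
    change W ⟶ G.obj ((res K a).X n) at y
    change y ≫ G.map ((res K a).d n (n + 1)) = 0 at hy
    obtain ⟨W', π, hπ, z, z', hz, hz'⟩ := gr_lift K a (n - 1) n (n + 1) (by omega) rfl p (0 : W ⟶ _) y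
      (by rw [zero_comp, zero_add]; exact hy)
    exact ⟨W', π, hπ, z, (zero_eq_neg.1 (comp_zero.symm.trans hz) :), z', hz'⟩
  exact isIso_of_mono_of_epi _

theorem resMap_gr_mono (n p : ℤ) : Mono ((FilD.grF A p).map ((resMap K a).f n)) := by
  refine Preadditive.mono_of_cancel_zero _ fun {W} x hx => ?_
  obtain ⟨W', π, _, z, z', hz, hz'⟩ := gr_lift K a (n - 2) (n - 1) n (by omega) (by omega) p x 0 (by
    rw [hx, zero_comp, add_zero])
  rw [comp_zero] at hz'
  obtain ⟨W'', π', _, w, w', hw, -⟩ := gr_lift K a (n - 3) (n - 2) (n - 1) (by omega) (by omega) p z z' hz'.symm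
  rw [← cancel_epi (π' ≫ π), comp_zero, Category.assoc, hz, Preadditive.comp_neg, reassoc_of% hw,
    Preadditive.neg_comp, Category.assoc]
  erw [← Functor.map_comp]
  rw [← Functor.map_comp (FilD.IsFinFil A).ι, K.d_comp_d, Functor.map_zero, Functor.map_zero, comp_zero, neg_zero, neg_zero]

theorem resMap_mono_strict (n : ℤ) : Mono ((resMap K a).f n) ∧ FilD.IsStrict ((resMap K a).f n) := by
  let S := ShortComplex.mk (0 : (0 : FilD.FilF A) ⟶ K.X n) ((resMap K a).f n) zero_comp
  have hS : ∀ p : ℤ, (S.map (FilD.grF A p)).Exact := fun p =>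
    (ShortComplex.exact_iff_mono _ ((FilD.grF A p).map_zero _ _)).2 (resMap_gr_mono K a n p)
  obtain ⟨hex, -, hs⟩ := strict_and_exact S hS
  exact ⟨FilDHorse.mono_of_app _ fun p => (ShortComplex.exact_iff_mono _ (Functor.map_zero
    ((FilD.IsFinFil A).ι ⋙ (evaluation ℤᵒᵖ A).obj (op p)) _ _)).1 (hex p), hs⟩

end Groth.Agent.CommAlg4.FilDResol
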