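import Mathlib
import Groth.Prelude.Def_FilD
import Groth.Agent.CommAlg4.FilDCoker
import Groth.Agent.CommAlg4.FilDHorse

/-! Truncations of complexes of filtered objects up to filtered quasi-isomorphism. -/
set_option autoImplicit false
set_option linter.style.haveILetI false
universe v u
open CategoryTheory CategoryTheory.Limits Opposite ZeroObject
open Groth.Agent.CommAlg4.FilDStrict

namespace Groth.Agent.CommAlg4.FilDTrunc

variable {A : Type u} [Category.{v} A] [Abelian A]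

theorem isStrict_id (X : FilD.FilF A) : FilD.IsStrict (𝟙 X) :=
  (isStrict_iff _).2 fun p q h W x z _ =>
    ⟨W, 𝟙 W, inferInstance, z, (Category.comp_id _).trans (Category.id_comp _).symm⟩

theorem isStrict_zero (X Y : FilD.FilF A) : FilD.IsStrict (0 : X ⟶ Y) :=
  (isStrict_iff _).2 fun p q h W x z hxz => ⟨W, 𝟙 W, inferInstance, 0, by
    haveI := FilDInj.mono_tr Y h
    have h0 : z ≫ tr Y.obj h = 0 := hxz.symm.trans comp_zero
    rw [Category.id_comp, zero_comp]
    exact ((cancel_mono (tr Y.obj h)).1 (h0.trans zero_comp.symm)).symm⟩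

theorem gr_mono_of_strict_mono {X Y : FilD.FilF A} (u : X ⟶ Y) [Mono u] (hu : FilD.IsStrict u) (p : ℤ) :
    Mono ((FilD.grF A p).map u) := by
  let S := ShortComplex.mk (0 : (0 : FilD.FilF A) ⟶ X) u zero_comp
  refine (ShortComplex.exact_iff_mono (S.map (FilD.grF A p)) ((FilD.grF A p).map_zero _ _)).1
    ((gr_exact_iff' S p).2 ((gr_exact_iff _ p).2 fun W y z hyz => ?_))
  have key : ∀ (y : W ⟶ X.obj.obj (op p)) (z : W ⟶ Y.obj.obj (op (p + 1))),
      y ≫ u.hom.app (op p) = z ≫ tr Y.obj (Int.le_add_one le_rfl : p ≤ p + 1) →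
      ∃ (W' : A) (π : W' ⟶ W) (_ : Epi π) (x : W' ⟶ (0 : FilD.FilF A).obj.obj (op p))
        (y' : W' ⟶ X.obj.obj (op (p + 1))),
        π ≫ y = x ≫ (0 : (0 : FilD.FilF A) ⟶ X).hom.app (op p) + y' ≫ tr X.obj (Int.le_add_one le_rfl : p ≤ p + 1) := by
    intro y z h
    haveI := FilDInj.mono_app u (op p)
    obtain ⟨W', π, hπ, x', hx'⟩ := (isStrict_iff u).1 hu p (p + 1) (Int.le_add_one le_rfl) y z h
    refine ⟨W', π, hπ, 0, x', ?_⟩
    rw [zero_comp, zero_add, ← cancel_mono (u.hom.app (op p)), Category.assoc, Category.assoc,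
      tr_nat u.hom, reassoc_of% hx', h]
  exact key y z hyz

section GE

variable (K : CochainComplex (FilD.FilF A) ℤ) (a : ℤ)

theorem exists_S (hd : FilD.IsStrict (K.d (a - 1) a)) (n : ℤ) :
    ∃ (S : FilD.FilF A) (s : S ⟶ K.X n), FilD.IsStrict s ∧ (n < a → ∃ t, t ≫ s = 𝟙 _) ∧
      (n = a → ∀ m, ∃ c, K.d m n = c ≫ s) ∧ (a ≤ n → ∃ c, s = c ≫ K.d (n - 1) n) ∧ (a < n → s = 0) := by
  rcases lt_trichotomy n a with h | rfl | h
  · exact ⟨_, 𝟙 _, isStrict_id _, fun _ => ⟨𝟙 _, Category.id_comp _⟩, fun e => absurd e h.ne,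
      fun e => absurd h e.not_gt,
      fun e => absurd h e.not_gt⟩
  · refine ⟨_, K.d (n - 1) n, hd, fun e => absurd e (lt_irrefl _), fun _ m => ?_, fun _ => ⟨𝟙 _, (Category.id_comp _).symm⟩,
      fun e => absurd e (lt_irrefl _)⟩
    by_cases hm : m + 1 = n
    · obtain rfl : m = n - 1 := by omega
      exact ⟨𝟙 _, (Category.id_comp _).symm⟩
    · exact ⟨0, by rw [zero_comp, K.shape _ _ hm]⟩
  · exact ⟨0, 0, isStrict_zero _ _, fun e => absurd h e.not_gt, fun e => absurd e h.ne', fun _ => ⟨0, zero_comp.symm⟩, fun _ => rfl⟩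

theorem exists_truncGE (hd : FilD.IsStrict (K.d (a - 1) a))
    (hK : ∀ (p n : ℤ), n < a → ((FilD.grCx p).obj K).ExactAt n) :
    ∃ (L : CochainComplex (FilD.FilF A) ℤ) (φ : K ⟶ L), L.IsStrictlyGE a ∧ FilD.IsFilteredQuasiIso φ := by
  choose S s hs hlt heq hge hgt using exists_S K a hd
  let Q : ℤ → FilD.FilF A := fun n => FilDCoker.cokerObj (s n) (hs n)
  let q : ∀ n, K.X n ⟶ Q n := fun n => FilDCoker.cokerπ (s n) (hs n)
  haveI hq : ∀ n, Epi (q n) := fun n => ⟨fun {Z} g g' hg => ObjectProperty.hom_ext _ (NatTrans.ext (funext fun p =>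
    (cancel_epi (cokernel.π ((s n).hom.app p))).1 (congrArg (fun φ : K.X n ⟶ Z => φ.hom.app p) hg)))⟩
  have hsq : ∀ n, s n ≫ q n = 0 := fun n => FilDCoker.comp_cokerπ _ _
  have hqz : ∀ n, n < a → q n = 0 := fun n hn => by
    obtain ⟨t, ht⟩ := hlt n hn
    rw [← Category.id_comp (q n), ← ht, Category.assoc, hsq, comp_zero]
  have hw : ∀ n, s n ≫ K.d n (n + 1) ≫ q (n + 1) = 0 := fun n => by
    rcases le_or_gt a n with h | h
    · obtain ⟨c, hc⟩ := hge n h
      rw [hc, Category.assoc, K.d_comp_d_assoc, zero_comp, comp_zero]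
    · rcases (show n + 1 < a ∨ n + 1 = a by omega) with h' | h'
      · rw [hqz _ h', comp_zero, comp_zero]
      · obtain ⟨c, hc⟩ := heq (n + 1) h' n
        rw [hc, Category.assoc, hsq, comp_zero, comp_zero]
  choose d hd' using fun n => FilDCoker.exists_desc (s n) (hs n) (K.d n (n + 1) ≫ q (n + 1)) (hw n)
  have sq : ∀ n, d n ≫ d (n + 1) = 0 := fun n => by
    rw [← cancel_epi (q n), comp_zero, reassoc_of% (hd' n), hd' (n + 1), K.d_comp_d_assoc, zero_comp]
  let L : CochainComplex (FilD.FilF A) ℤ := CochainComplex.of Q d sq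
  have hLd : ∀ n, L.d n (n + 1) = d n := fun n => (CochainComplex.of_d Q d n :)
  let φ : K ⟶ L :=
    { f := q
      comm' := by
        rintro i _ rfl
        rw [hLd]
        exact hd' i }
  have hz : ∀ n, n < a → IsZero (L.X n) := fun n hn => by
    rw [IsZero.iff_id_eq_zero]
    have : q n ≫ 𝟙 (Q n) = q n ≫ 0 := by rw [Category.comp_id, comp_zero, hqz n hn]
    exact (cancel_epi (q n)).1 this
  refine ⟨L, φ, (CochainComplex.isStrictlyGE_iff _ _).2 fun n hn => hz n hn, fun p => ?_⟩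
  let G := FilD.grF A p
  have hepi : ∀ n, Epi (G.map (q n)) := fun n => by
    have h : cokernel.π ((K.X n).obj.map (FilD.stepHom p)) ≫ G.map (q n) =
        cokernel.π ((s n).hom.app (op p)) ≫ cokernel.π ((Q n).obj.map (FilD.stepHom p)) := cokernel.π_desc _ _ _
    haveI : Epi (cokernel.π ((K.X n).obj.map (FilD.stepHom p)) ≫ G.map (q n)) := by
      rw [h]
      exact @epi_comp _ _ _ _ _ _ inferInstance (cokernel.π ((Q n).obj.map (FilD.stepHom p))) ⟨fun _ _ e => coequalizer.hom_ext e⟩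
    exact epi_of_epi (cokernel.π ((K.X n).obj.map (FilD.stepHom p))) _
  have hker : ∀ n ⦃W : A⦄ (y : W ⟶ G.obj (K.X n)), y ≫ G.map (q n) = 0 →
      ∃ (W' : A) (π : W' ⟶ W) (_ : Epi π) (x : W' ⟶ G.obj (S n)), π ≫ y = x ≫ G.map (s n) := fun n W y hy => by
    refine (FilDCoker.gr_exact_of_mono (s n) (hs n) (𝟙 _) (isStrict_id _)
      (by rw [Category.comp_id, FilDCoker.comp_cokerπ]) p).exact_up_to_refinements y ?_
    show y ≫ G.map (q n ≫ 𝟙 _) = 0
    rw [Category.comp_id, hy]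
  refine ⟨fun n => ?_⟩
  by_cases hn : n < a
  · rw [quasiIsoAt_iff_exactAt _ _ (hK p n hn)]
    exact (HomologicalComplex.exactAt_iff _ _).2 (ShortComplex.exact_of_isZero_X₂ _ (G.map_isZero (hz n hn)))
  rw [quasiIsoAt_iff_isIso_homologyMap]
  haveI : Mono (HomologicalComplex.homologyMap ((FilD.grCx p).map φ) n) := by
    rw [HomologicalComplex.mono_homologyMap_iff_up_to_refinements _ (n - 1) n (n + 1) (by simp) (by simp)]
    intro W x _ y hxy
    change W ⟶ G.obj (K.X n) at x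
    change W ⟶ G.obj (Q (n - 1)) at y
    change x ≫ G.map (q n) = y ≫ G.map (L.d (n - 1) n) at hxy
    haveI := hepi (n - 1)
    obtain ⟨W₁, π₁, _, w, hw₁⟩ := surjective_up_to_refinements_of_epi (G.map (q (n - 1))) y
    obtain ⟨W₂, π₂, _, z, hz₂⟩ := hker n (π₁ ≫ x - w ≫ G.map (K.d (n - 1) n)) (by
      have hc : G.map (K.d (n - 1) n) ≫ G.map (q n) = G.map (q (n - 1)) ≫ G.map (L.d (n - 1) n) := by
        rw [← G.map_comp, ← G.map_comp]
        exact congrArg G.map (φ.comm (n - 1) n).symm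
      rw [Preadditive.sub_comp, Category.assoc, Category.assoc, hc, hxy, reassoc_of% hw₁, sub_self])
    obtain ⟨c, hc⟩ := hge n (by omega)
    refine ⟨W₂, π₂ ≫ π₁, inferInstance, z ≫ G.map c + π₂ ≫ w, ?_⟩
    show (π₂ ≫ π₁) ≫ x = (z ≫ G.map c + π₂ ≫ w) ≫ G.map (K.d (n - 1) n)
    rw [Preadditive.add_comp, Category.assoc z, ← G.map_comp, ← hc, ← hz₂, Preadditive.comp_sub]
    simp only [Category.assoc, sub_add_cancel]
  haveI : Epi (HomologicalComplex.homologyMap ((FilD.grCx p).map φ) n) := by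
    rw [HomologicalComplex.epi_homologyMap_iff_up_to_refinements _ (n - 1) n (n + 1) (by simp) (by simp)]
    intro W y hy
    change W ⟶ G.obj (Q n) at y
    change y ≫ G.map (L.d n (n + 1)) = 0 at hy
    haveI := hepi n
    obtain ⟨W₁, π₁, _, x, hx⟩ := surjective_up_to_refinements_of_epi (G.map (q n)) y
    obtain ⟨W₂, π₂, _, z, hz₂⟩ := hker (n + 1) (x ≫ G.map (K.d n (n + 1))) (by
      rw [Category.assoc, ← G.map_comp, show K.d n (n + 1) ≫ q (n + 1) = q n ≫ L.d n (n + 1) from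
        (φ.comm n (n + 1)).symm, G.map_comp, ← reassoc_of% hx, hy, comp_zero])
    have hs0 : s (n + 1) = 0 := hgt (n + 1) (by omega)
    refine ⟨W₂, π₂ ≫ π₁, inferInstance, π₂ ≫ x, ?_, 0, ?_⟩
    · show (π₂ ≫ x) ≫ G.map (K.d n (n + 1)) = 0
      rw [Category.assoc, hz₂, hs0, G.map_zero, comp_zero]
    · have he : (π₂ ≫ π₁) ≫ y = (π₂ ≫ x) ≫ G.map (q n) := by rw [Category.assoc, hx, Category.assoc]
      refine he.trans ?_
      rw [zero_comp]
      exact (add_zero _).symm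
  exact isIso_of_mono_of_epi _

end GE

section LE

variable (K : CochainComplex (FilD.FilF A) ℤ) (b : ℤ)

theorem exists_T (hd : FilD.IsStrict (K.d b (b + 1))) (n : ℤ) :
    ∃ (T : FilD.FilF A) (t : K.X n ⟶ T), FilD.IsStrict t ∧ (b < n → ∃ r, t ≫ r = 𝟙 _) ∧
      (n = b → ∀ m, ∃ c, K.d n m = t ≫ c) ∧ (n ≤ b → ∃ c, t = K.d n (n + 1) ≫ c) ∧ (n < b → t = 0) := by
  rcases lt_trichotomy n b with h | rfl | h
  · exact ⟨0, 0, isStrict_zero _ _, fun e => absurd h e.not_gt, fun e => absurd e h.ne,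
      fun _ => ⟨0, comp_zero.symm⟩, fun _ => rfl⟩
  · refine ⟨_, K.d n (n + 1), hd, fun e => absurd e (lt_irrefl _), fun _ m => ?_,
      fun _ => ⟨𝟙 _, (Category.comp_id _).symm⟩, fun e => absurd e (lt_irrefl _)⟩
    by_cases hm : n + 1 = m
    · subst hm
      exact ⟨𝟙 _, (Category.comp_id _).symm⟩
    · exact ⟨0, by rw [comp_zero, K.shape _ _ hm]⟩
  · exact ⟨_, 𝟙 _, isStrict_id _, fun _ => ⟨𝟙 _, Category.id_comp _⟩, fun e => absurd e h.ne',
      fun e => absurd h e.not_gt, fun e => absurd h e.not_gt⟩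

theorem exists_truncLE (hd : FilD.IsStrict (K.d b (b + 1)))
    (hK : ∀ (p n : ℤ), b < n → ((FilD.grCx p).obj K).ExactAt n) :
    ∃ (M : CochainComplex (FilD.FilF A) ℤ) (φ : M ⟶ K), M.IsStrictlyLE b ∧ FilD.IsFilteredQuasiIso φ := by
  choose T t ht hgt heq hle hlt using exists_T K b hd
  let Z : ℤ → FilD.FilF A := fun n => ⟨kernel (t n).hom, FilDInj.kernel_isFinFil (t n)⟩
  let i : ∀ n, Z n ⟶ K.X n := fun n => ObjectProperty.homMk (kernel.ι (t n).hom)
  haveI hi : ∀ n, Mono (i n) := fun n => ⟨fun {W} g g' hg => ObjectProperty.hom_ext _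
    ((cancel_mono (kernel.ι (t n).hom)).1 (congrArg (fun φ : W ⟶ K.X n => φ.hom) hg))⟩
  have hit : ∀ n, i n ≫ t n = 0 := fun n => ObjectProperty.hom_ext _ (kernel.condition (t n).hom)
  have hiz : ∀ n, b < n → i n = 0 := fun n hn => by
    obtain ⟨r, hr⟩ := hgt n hn
    rw [← Category.comp_id (i n), ← hr, ← Category.assoc, hit, zero_comp]
  have hw : ∀ n, (i n ≫ K.d n (n + 1)) ≫ t (n + 1) = 0 := fun n => by
    rcases le_or_gt (n + 1) b with h | h
    · obtain ⟨c, hc⟩ := hle (n + 1) h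
      rw [hc, Category.assoc, K.d_comp_d_assoc, zero_comp, comp_zero]
    · rcases (show b < n ∨ n = b by omega) with h' | h'
      · rw [hiz _ h', zero_comp, zero_comp]
      · obtain ⟨c, hc⟩ := heq n h' (n + 1)
        rw [hc, reassoc_of% (hit n), zero_comp, zero_comp]
  let d : ∀ n, Z n ⟶ Z (n + 1) := fun n => ObjectProperty.homMk
    (kernel.lift (t (n + 1)).hom (i n ≫ K.d n (n + 1)).hom
      (congrArg (fun φ : Z n ⟶ T (n + 1) => φ.hom) (hw n)))
  have hd' : ∀ n, d n ≫ i (n + 1) = i n ≫ K.d n (n + 1) := fun n =>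
    ObjectProperty.hom_ext _ (kernel.lift_ι _ _ _)
  have sq : ∀ n, d n ≫ d (n + 1) = 0 := fun n => by
    rw [← cancel_mono (i (n + 1 + 1)), zero_comp, Category.assoc, hd' (n + 1), reassoc_of% (hd' n), K.d_comp_d,
      comp_zero]
  let M : CochainComplex (FilD.FilF A) ℤ := CochainComplex.of Z d sq
  have hMd : ∀ n, M.d n (n + 1) = d n := fun n => (CochainComplex.of_d Z d n :)
  let φ : M ⟶ K :=
    { f := i
      comm' := by
        rintro j _ rfl
        rw [hMd]
        exact (hd' j).symm }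
  have hz : ∀ n, b < n → IsZero (M.X n) := fun n hn => by
    rw [IsZero.iff_id_eq_zero]
    have : 𝟙 (Z n) ≫ i n = 0 ≫ i n := by rw [Category.id_comp, zero_comp, hiz n hn]
    exact (cancel_mono (i n)).1 this
  refine ⟨M, φ, (CochainComplex.isStrictlyLE_iff _ _).2 fun n hn => hz n hn, fun p => ?_⟩
  let G := FilD.grF A p
  have hmono : ∀ n, Mono (G.map (i n)) := fun n => by
    refine gr_mono_of_strict_mono (i n) ((isStrict_iff _).2 fun q r h W x z hxz => ?_) p
    haveI := FilDInj.mono_tr (T n) h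
    have hk : z ≫ (t n).hom.app (op r) = 0 := by
      rw [← cancel_mono (tr (T n).obj h), zero_comp, Category.assoc, ← tr_nat (t n).hom h, ← reassoc_of% hxz]
      exact (congrArg (fun η : Z n ⟶ T n => x ≫ η.hom.app (op q)) (hit n)).trans comp_zero
    let T' := ShortComplex.mk (kernel.ι (t n).hom) (t n).hom (kernel.condition _)
    obtain ⟨W', π, hπ, x', hx'⟩ := (ShortComplex.exact_of_f_is_kernel (T'.map ((evaluation ℤᵒᵖ A).obj (op r)))
      (isLimitForkMapOfIsLimit' ((evaluation ℤᵒᵖ A).obj (op r)) (kernel.condition (t n).hom)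
        (kernelIsKernel (t n).hom))).exact_up_to_refinements z hk
    exact ⟨W', π, hπ, x', hx'.symm⟩
  have hker : ∀ n ⦃W : A⦄ (y : W ⟶ G.obj (K.X n)), y ≫ G.map (t n) = 0 →
      ∃ (W' : A) (π : W' ⟶ W) (_ : Epi π) (x : W' ⟶ G.obj (Z n)), π ≫ y = x ≫ G.map (i n) := fun n W y hy =>
    ((isStrict_iff_gr_exact (t n)).1 (ht n) p).exact_up_to_refinements y hy
  refine ⟨fun n => ?_⟩
  by_cases hn : b < n
  · rw [quasiIsoAt_iff_exactAt' _ _ (hK p n hn)]
    exact (HomologicalComplex.exactAt_iff _ _).2 (ShortComplex.exact_of_isZero_X₂ _ (G.map_isZero (hz n hn)))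
  rw [quasiIsoAt_iff_isIso_homologyMap]
  have hc : ∀ m m', G.map (M.d m m') ≫ G.map (i m') = G.map (i m) ≫ G.map (K.d m m') := fun m m' => by
    rw [← G.map_comp, ← G.map_comp]
    exact congrArg G.map (φ.comm m m').symm
  haveI : Mono (HomologicalComplex.homologyMap ((FilD.grCx p).map φ) n) := by
    rw [HomologicalComplex.mono_homologyMap_iff_up_to_refinements _ (n - 1) n (n + 1) (by simp) (by simp)]
    intro W x _ y hxy
    change W ⟶ G.obj (Z n) at x
    change W ⟶ G.obj (K.X (n - 1)) at y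
    change x ≫ G.map (i n) = y ≫ G.map (K.d (n - 1) n) at hxy
    obtain ⟨W₁, π₁, _, w, hw₁⟩ := hker (n - 1) y (by rw [hlt (n - 1) (by omega), G.map_zero, comp_zero])
    refine ⟨W₁, π₁, inferInstance, w, ?_⟩
    show π₁ ≫ x = w ≫ G.map (M.d (n - 1) n)
    haveI := hmono n
    rw [← cancel_mono (G.map (i n)), Category.assoc, Category.assoc, hc, hxy, reassoc_of% hw₁]
  haveI : Epi (HomologicalComplex.homologyMap ((FilD.grCx p).map φ) n) := by
    rw [HomologicalComplex.epi_homologyMap_iff_up_to_refinements _ (n - 1) n (n + 1) (by simp) (by simp)]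
    intro W y hy
    change W ⟶ G.obj (K.X n) at y
    change y ≫ G.map (K.d n (n + 1)) = 0 at hy
    obtain ⟨c, hc'⟩ := hle n (by omega)
    obtain ⟨W₁, π₁, _, x, hx⟩ := hker n y (by rw [hc', G.map_comp, reassoc_of% hy, zero_comp])
    refine ⟨W₁, π₁, inferInstance, x, ?_, 0, ?_⟩
    · show x ≫ G.map (M.d n (n + 1)) = 0
      haveI := hmono (n + 1)
      rw [← cancel_mono (G.map (i (n + 1))), zero_comp, Category.assoc, hc, ← reassoc_of% hx, hy, comp_zero]
    · refine hx.trans ?_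
      rw [zero_comp]
      exact (add_zero _).symm
  exact isIso_of_mono_of_epi _

end LE

end Groth.Agent.CommAlg4.FilDTrunc
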