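import Mathlib
import Groth.Prelude.Def_SpSeq
import Groth.Agent.CommAlg4.FilCxConv

/-! Strict morphisms of filtered objects. -/
set_option autoImplicit false
universe v u
open CategoryTheory CategoryTheory.Limits
open Groth.Agent.CommAlg4.FilCxConv (factors_iff' le_of_refine exists_of_image_factors exists_of_sup_factors)

namespace Groth.Agent.CommAlg4.FilObjStrict

variable {A : Type u} [Category.{v} A] [Abelian A] {K L M : SpSeq.FilObj A}

theorem map_factors (f : K ⟶ L) (p : ℤ) {T : A} {w : T ⟶ K.obj} (h : (K.fil p).Factors w) :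
    (L.fil p).Factors (w ≫ f.hom) :=
  (Limits.pullback_factors_iff _ _ _).1 (Subobject.factors_of_le _ (f.compat p) h)

theorem hom_mk_compat {X Y : A} (g : X ⟶ Y) (S : Subobject X) (S' : Subobject Y)
    (h : ∀ ⦃T : A⦄ (w : T ⟶ X), S.Factors w → S'.Factors (w ≫ g)) : S ≤ (Subobject.pullback g).obj S' :=
  le_of_refine fun T x hx => ⟨T, 𝟙 T, inferInstance, by
    rw [Category.id_comp, Limits.pullback_factors_iff]; exact h x hx⟩

theorem isStrict_iff (f : K ⟶ L) : SpSeq.FilObj.IsStrict f ↔ ∀ (p : ℤ) ⦃T : A⦄ (w : T ⟶ K.obj),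
    (L.fil p).Factors (w ≫ f.hom) → ∃ (T' : A) (π : T' ⟶ T) (_ : Epi π) (v : T' ⟶ K.obj),
      (K.fil p).Factors v ∧ v ≫ f.hom = π ≫ w ≫ f.hom := by
  constructor
  · intro h p T w hw
    have : (imageSubobject ((K.fil p).arrow ≫ f.hom)).Factors (w ≫ f.hom) := by
      rw [h p, Subobject.inf_factors]
      exact ⟨imageSubobject_factors_comp_self _ _, hw⟩
    obtain ⟨T', π, hπ, v, hv⟩ := exists_of_image_factors _ this
    exact ⟨T', π, hπ, v ≫ (K.fil p).arrow, (factors_iff' _ _).2 ⟨v, rfl⟩, by rw [Category.assoc, ← hv]⟩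
  · intro h p
    refine le_antisymm (le_inf (imageSubobject_comp_le _ _) (le_of_refine fun T x hx => ?_)) (le_of_refine fun T x hx => ?_)
    · obtain ⟨T', π, hπ, w, hw⟩ := exists_of_image_factors _ hx
      refine ⟨T', π, hπ, ?_⟩
      rw [hw, ← Category.assoc]
      exact map_factors f p ((factors_iff' _ _).2 ⟨w, rfl⟩)
    · rw [Subobject.inf_factors] at hx
      obtain ⟨T', π, hπ, w, hw⟩ := exists_of_image_factors _ hx.1
      obtain ⟨T'', π', hπ', v, hv, hv'⟩ := h p w (hw ▸ Subobject.factors_of_factors_right π hx.2)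
      obtain ⟨y, rfl⟩ := (factors_iff' _ _).1 hv
      refine ⟨T'', π' ≫ π, inferInstance, ?_⟩
      rw [Category.assoc, hw, ← hv', Category.assoc]
      exact imageSubobject_factors_comp_self _ _

theorem isStrict_comp_of_mono (f : K ⟶ L) (g : L ⟶ M) (hf : SpSeq.FilObj.IsStrict f)
    (hg : SpSeq.FilObj.IsStrict g) [Mono g.hom] : SpSeq.FilObj.IsStrict (f ≫ g) := by
  rw [isStrict_iff]
  intro p T w hw
  change (M.fil p).Factors (w ≫ f.hom ≫ g.hom) at hw
  rw [← Category.assoc] at hw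
  obtain ⟨T₁, π₁, _, v, hv, hv'⟩ := (isStrict_iff g).1 hg p _ hw
  rw [← Category.assoc π₁, cancel_mono] at hv'
  obtain ⟨T₂, π₂, _, u, hu, hu'⟩ := (isStrict_iff f).1 hf p (π₁ ≫ w) (by rwa [Category.assoc, ← hv'])
  refine ⟨T₂, π₂ ≫ π₁, inferInstance, u, hu, ?_⟩
  show u ≫ f.hom ≫ g.hom = (π₂ ≫ π₁) ≫ w ≫ f.hom ≫ g.hom
  rw [reassoc_of% hu', Category.assoc]

theorem isStrict_comp_of_epi (f : K ⟶ L) (g : L ⟶ M) (hf : SpSeq.FilObj.IsStrict f)
    (hg : SpSeq.FilObj.IsStrict g) [Epi f.hom] : SpSeq.FilObj.IsStrict (f ≫ g) := by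
  rw [isStrict_iff]
  intro p T w hw
  change (M.fil p).Factors (w ≫ f.hom ≫ g.hom) at hw
  rw [← Category.assoc] at hw
  obtain ⟨T₁, π₁, _, v, hv, hv'⟩ := (isStrict_iff g).1 hg p _ hw
  obtain ⟨T₂, π₂, _, w', hw'⟩ := surjective_up_to_refinements_of_epi f.hom v
  obtain ⟨T₃, π₃, _, u, hu, hu'⟩ := (isStrict_iff f).1 hf p w' (hw' ▸ Subobject.factors_of_factors_right π₂ hv)
  refine ⟨T₃, π₃ ≫ π₂ ≫ π₁, inferInstance, u, hu, ?_⟩
  show u ≫ f.hom ≫ g.hom = (π₃ ≫ π₂ ≫ π₁) ≫ w ≫ f.hom ≫ g.hom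
  rw [reassoc_of% hu', ← reassoc_of% hw', hv']
  simp only [Category.assoc]

theorem isStrict_of_iso (e : K ≅ L) : SpSeq.FilObj.IsStrict e.hom := by
  rw [isStrict_iff]
  intro p T w hw
  refine ⟨T, 𝟙 T, inferInstance, w, ?_, by rw [Category.id_comp]⟩
  have := map_factors e.inv p hw
  have h : e.hom.hom ≫ e.inv.hom = 𝟙 _ := congrArg SpSeq.FilObj.Hom.hom e.hom_inv_id
  rwa [Category.assoc, h, Category.comp_id] at this

section pushout

variable (f : K ⟶ L) (g : K ⟶ M)

noncomputable abbrev pushoutObj : SpSeq.FilObj A where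
  obj := pushout f.hom g.hom
  fil p := imageSubobject ((L.fil p).arrow ≫ pushout.inl f.hom g.hom) ⊔
    imageSubobject ((M.fil p).arrow ≫ pushout.inr f.hom g.hom)
  anti p q h := sup_le_sup
    (SpSeq.FilCx.imageSubobject_le_of_fac ((L.fil q).ofLE _ (L.anti h)) (by rw [← Category.assoc, Subobject.ofLE_arrow]))
    (SpSeq.FilCx.imageSubobject_le_of_fac ((M.fil q).ofLE _ (M.anti h)) (by rw [← Category.assoc, Subobject.ofLE_arrow]))

noncomputable def pushoutInl : L ⟶ pushoutObj f g := ⟨pushout.inl f.hom g.hom, fun p => hom_mk_compat _ _ _ fun T w hw => by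
  obtain ⟨y, rfl⟩ := (factors_iff' _ _).1 hw
  rw [Category.assoc]
  exact Subobject.sup_factors_of_factors_left (imageSubobject_factors_comp_self _ _)⟩

noncomputable def pushoutInr : M ⟶ pushoutObj f g := ⟨pushout.inr f.hom g.hom, fun p => hom_mk_compat _ _ _ fun T w hw => by
  obtain ⟨y, rfl⟩ := (factors_iff' _ _).1 hw
  rw [Category.assoc]
  exact Subobject.sup_factors_of_factors_right (imageSubobject_factors_comp_self _ _)⟩

theorem pushout_w : f ≫ pushoutInl f g = g ≫ pushoutInr f g := SpSeq.FilObj.Hom.ext pushout.condition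

noncomputable def isColimitPushout : IsColimit (PushoutCocone.mk _ _ (pushout_w f g)) :=
  PushoutCocone.IsColimit.mk _
    (fun s => ⟨pushout.desc s.inl.hom s.inr.hom (congrArg SpSeq.FilObj.Hom.hom s.condition),
      fun p => sup_le
        (le_of_refine fun T x hx => by
          obtain ⟨T', π, hπ, w, hw⟩ := exists_of_image_factors _ hx
          refine ⟨T', π, hπ, ?_⟩
          rw [Limits.pullback_factors_iff, hw]
          simpa only [Category.assoc, pushout.inl_desc] using map_factors s.inl p ((factors_iff' _ _).2 ⟨w, rfl⟩))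
        (le_of_refine fun T x hx => by
          obtain ⟨T', π, hπ, w, hw⟩ := exists_of_image_factors _ hx
          refine ⟨T', π, hπ, ?_⟩
          rw [Limits.pullback_factors_iff, hw]
          simpa only [Category.assoc, pushout.inr_desc] using map_factors s.inr p ((factors_iff' _ _).2 ⟨w, rfl⟩))⟩)
    (fun s => SpSeq.FilObj.Hom.ext (pushout.inl_desc _ _ _))
    (fun s => SpSeq.FilObj.Hom.ext (pushout.inr_desc _ _ _))
    (fun s m h₁ h₂ => SpSeq.FilObj.Hom.ext (pushout.hom_ext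
      ((congrArg SpSeq.FilObj.Hom.hom h₁).trans (pushout.inl_desc _ _ _).symm)
      ((congrArg SpSeq.FilObj.Hom.hom h₂).trans (pushout.inr_desc _ _ _).symm)))

theorem isStrict_pushoutInr (hf : SpSeq.FilObj.IsStrict f) : SpSeq.FilObj.IsStrict (pushoutInr f g) := by
  rw [isStrict_iff]
  intro p T w hw
  obtain ⟨T₁, π₁, _, a, b, he, ha, hb⟩ := exists_of_sup_factors hw
  obtain ⟨T₂, π₂, _, l, hl⟩ := exists_of_image_factors _ ha
  obtain ⟨T₃, π₃, _, m, hm⟩ := exists_of_image_factors _ (Subobject.factors_of_factors_right π₂ hb)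
  let x : T₃ ⟶ M.obj := π₃ ≫ π₂ ≫ π₁ ≫ w - m ≫ (M.fil p).arrow
  let y : T₃ ⟶ L.obj := π₃ ≫ l ≫ (L.fil p).arrow
  have hxy : x ≫ pushout.inr f.hom g.hom = y ≫ pushout.inl f.hom g.hom := by
    have he' : π₁ ≫ w ≫ pushout.inr f.hom g.hom = a + b := he
    simp only [x, y, Preadditive.sub_comp, Category.assoc, he', Preadditive.comp_add, hl, hm, add_sub_cancel_right]
  have hsq := IsPushout.of_hasPushout f.hom g.hom
  let S := ShortComplex.mk (biprod.lift f.hom (-g.hom)) (biprod.desc (pushout.inl f.hom g.hom) (pushout.inr f.hom g.hom))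
    (by simp [pushout.condition])
  have hS : S.Exact := ShortComplex.exact_of_g_is_cokernel _ hsq.isColimitCokernelCofork
  obtain ⟨T₄, π₄, _, k, hk⟩ := hS.exact_up_to_refinements (biprod.lift y (-x)) (by simp [S, hxy])
  have hk1 : π₄ ≫ y = k ≫ f.hom := by simpa [S] using congrArg (· ≫ biprod.fst) hk
  have hk2 : π₄ ≫ x = k ≫ g.hom := by simpa [S] using congrArg (· ≫ biprod.snd) hk
  obtain ⟨T₅, π₅, _, k', hk', hk''⟩ := (isStrict_iff f).1 hf p k (by
    rw [← hk1]
    exact Subobject.factors_of_factors_right _ (Subobject.factors_of_factors_right _ ((factors_iff' _ _).2 ⟨l, rfl⟩)))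
  refine ⟨T₅, π₅ ≫ π₄ ≫ π₃ ≫ π₂ ≫ π₁, inferInstance, k' ≫ g.hom + (π₅ ≫ π₄) ≫ m ≫ (M.fil p).arrow,
    Subobject.factors_add _ _ (map_factors g p hk')
      (Subobject.factors_of_factors_right _ ((factors_iff' _ _).2 ⟨m, rfl⟩)), ?_⟩
  show (_ + _) ≫ pushout.inr f.hom g.hom = _ ≫ w ≫ pushout.inr f.hom g.hom
  rw [Preadditive.add_comp, Category.assoc k', ← pushout.condition, reassoc_of% hk'', ← reassoc_of% hk1, ← hxy]
  simp [x]

end pushout

section pullback

variable (f : L ⟶ K) (g : M ⟶ K)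

noncomputable abbrev pullbackObj : SpSeq.FilObj A where
  obj := pullback f.hom g.hom
  fil p := (Subobject.pullback (pullback.fst f.hom g.hom)).obj (L.fil p) ⊓
    (Subobject.pullback (pullback.snd f.hom g.hom)).obj (M.fil p)
  anti p q h := inf_le_inf ((Subobject.pullback _).map (homOfLE (L.anti h))).le
    ((Subobject.pullback _).map (homOfLE (M.anti h))).le

noncomputable def pullbackFst : pullbackObj f g ⟶ L := ⟨pullback.fst f.hom g.hom, fun _ => inf_le_left⟩

noncomputable def pullbackSnd : pullbackObj f g ⟶ M := ⟨pullback.snd f.hom g.hom, fun _ => inf_le_right⟩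

theorem pullback_w : pullbackFst f g ≫ f = pullbackSnd f g ≫ g := SpSeq.FilObj.Hom.ext pullback.condition

noncomputable def isLimitPullback : IsLimit (PullbackCone.mk _ _ (pullback_w f g)) :=
  PullbackCone.IsLimit.mk _
    (fun s => ⟨pullback.lift s.fst.hom s.snd.hom (congrArg SpSeq.FilObj.Hom.hom s.condition),
      fun p => hom_mk_compat _ _ _ fun T w hw => by
        show ((Subobject.pullback (pullback.fst f.hom g.hom)).obj (L.fil p) ⊓
          (Subobject.pullback (pullback.snd f.hom g.hom)).obj (M.fil p)).Factors _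
        rw [Subobject.inf_factors, Limits.pullback_factors_iff, Limits.pullback_factors_iff, Category.assoc,
          Category.assoc, pullback.lift_fst, pullback.lift_snd]
        exact ⟨map_factors s.fst p hw, map_factors s.snd p hw⟩⟩)
    (fun s => SpSeq.FilObj.Hom.ext (pullback.lift_fst _ _ _))
    (fun s => SpSeq.FilObj.Hom.ext (pullback.lift_snd _ _ _))
    (fun s m h₁ h₂ => SpSeq.FilObj.Hom.ext (pullback.hom_ext
      ((congrArg SpSeq.FilObj.Hom.hom h₁).trans (pullback.lift_fst _ _ _).symm)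
      ((congrArg SpSeq.FilObj.Hom.hom h₂).trans (pullback.lift_snd _ _ _).symm)))

theorem isStrict_pullbackSnd (hf : SpSeq.FilObj.IsStrict f) : SpSeq.FilObj.IsStrict (pullbackSnd f g) := by
  rw [isStrict_iff]
  intro p T w hw
  change (M.fil p).Factors (w ≫ pullback.snd f.hom g.hom) at hw
  obtain ⟨T₁, π, _, l, hl, hl'⟩ := (isStrict_iff f).1 hf p (w ≫ pullback.fst f.hom g.hom) (by
    rw [Category.assoc, pullback.condition, ← Category.assoc]; exact map_factors g p hw)
  refine ⟨T₁, π, inferInstance, pullback.lift l (π ≫ w ≫ pullback.snd f.hom g.hom)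
    (by rw [hl']; simp [pullback.condition]), ?_, pullback.lift_snd _ _ _⟩
  show ((Subobject.pullback (pullback.fst f.hom g.hom)).obj (L.fil p) ⊓
    (Subobject.pullback (pullback.snd f.hom g.hom)).obj (M.fil p)).Factors _
  rw [Subobject.inf_factors, Limits.pullback_factors_iff, Limits.pullback_factors_iff, pullback.lift_fst,
    pullback.lift_snd]
  exact ⟨hl, Subobject.factors_of_factors_right _ hw⟩

end pullback

theorem hasPushout_and_strict (f : K ⟶ L) (g : K ⟶ M) : HasPushout f g ∧ ∀ (P : SpSeq.FilObj A) (g' : L ⟶ P) (f' : M ⟶ P),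
    IsPushout f g g' f' → SpSeq.FilObj.IsStrict f → SpSeq.FilObj.IsStrict f' := by
  refine ⟨⟨⟨_, isColimitPushout f g⟩⟩, fun P g' f' h hf => ?_⟩
  let h₀ := IsPushout.of_isColimit (isColimitPushout f g)
  let e := h₀.isoIsPushout _ _ h
  have hinr : pushoutInr f g ≫ e.hom = f' := h₀.inr_isoIsPushout_hom _ _ h
  have : IsIso e.hom.hom := ⟨e.inv.hom, congrArg SpSeq.FilObj.Hom.hom e.hom_inv_id,
    congrArg SpSeq.FilObj.Hom.hom e.inv_hom_id⟩
  rw [← hinr]
  exact @isStrict_comp_of_mono _ _ _ _ _ _ _ _ (isStrict_pushoutInr f g hf) (isStrict_of_iso e) (@IsIso.mono_of_iso _ _ _ _ e.hom.hom this)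

theorem hasPullback_and_strict (f : L ⟶ K) (g : M ⟶ K) : HasPullback f g ∧ ∀ (P : SpSeq.FilObj A) (g' : P ⟶ L) (f' : P ⟶ M),
    IsPullback g' f' f g → SpSeq.FilObj.IsStrict f → SpSeq.FilObj.IsStrict f' := by
  refine ⟨⟨⟨_, isLimitPullback f g⟩⟩, fun P g' f' h hf => ?_⟩
  let h₀ := IsPullback.of_isLimit (isLimitPullback f g)
  let e := h.isoIsPullback _ _ h₀
  have hsnd : e.hom ≫ pullbackSnd f g = f' := h.isoIsPullback_hom_snd _ _ h₀
  have : IsIso e.hom.hom := ⟨e.inv.hom, congrArg SpSeq.FilObj.Hom.hom e.hom_inv_id,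
    congrArg SpSeq.FilObj.Hom.hom e.inv_hom_id⟩
  rw [← hsnd]
  exact @isStrict_comp_of_epi _ _ _ _ _ _ _ _ (isStrict_of_iso e) (isStrict_pullbackSnd f g hf) (@IsIso.epi_of_iso _ _ _ _ e.hom.hom this)

end Groth.Agent.CommAlg4.FilObjStrict
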