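import Mathlib.RingTheory.Etale.Field
import Mathlib.RingTheory.Etale.Pi
import Mathlib.RingTheory.Artinian.Ring
import Mathlib.FieldTheory.IsAlgClosed.Basic

/-!
Finite algebras over an algebraically closed field and their points.
-/

set_option linter.all false
set_option autoImplicit false
universe u v

noncomputable section

namespace Groth.Agent.CommAlg4

variable (k : Type u) [Field k] [IsAlgClosed k] (A : Type v) [CommRing A] [Algebra k A] [Module.Finite k A]

/-- every maximal ideal is the kernel of a point -/
theorem exists_point (m : Ideal A) [m.IsMaximal] : ∃ f : A →ₐ[k] k, RingHom.ker f = m := by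
  letI := Ideal.Quotient.field m
  have hb : Function.Bijective (algebraMap k (A ⧸ m)) := IsAlgClosed.algebraMap_bijective_of_isIntegral
  let e : k ≃ₐ[k] A ⧸ m := AlgEquiv.ofBijective (Algebra.ofId k _) hb
  refine ⟨e.symm.toAlgHom.comp (Ideal.Quotient.mkₐ k m), ?_⟩
  ext x
  simp [RingHom.mem_ker, Ideal.Quotient.eq_zero_iff_mem]

theorem point_surjective (f : A →ₐ[k] k) : Function.Surjective f := fun c => ⟨algebraMap k A c, by simp⟩

theorem point_ker_isMaximal (f : A →ₐ[k] k) : (RingHom.ker f).IsMaximal :=
  RingHom.ker_isMaximal_of_surjective f (point_surjective k A f)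

theorem point_ker_injective : Function.Injective (fun f : A →ₐ[k] k => RingHom.ker f) := by
  intro f g h
  refine AlgHom.ext fun x => ?_
  have : x - algebraMap k A (f x) ∈ RingHom.ker f := by simp [RingHom.mem_ker]
  simp only at h
  rw [h, RingHom.mem_ker, map_sub, AlgHom.commutes, sub_eq_zero] at this
  exact this.symm

theorem points_finite : Finite (A →ₐ[k] k) := by
  haveI : IsArtinianRing A := IsArtinianRing.of_finite k A
  exact Finite.of_injective (fun f => (⟨RingHom.ker f, point_ker_isMaximal k A f⟩ : MaximalSpectrum A))
    fun f g h => point_ker_injective k A (congrArg MaximalSpectrum.asIdeal h)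

theorem evalPoints_surjective : Function.Surjective (AlgHom.pi (R := k) (fun f : A →ₐ[k] k => f)) := by
  haveI := points_finite k A
  intro c
  obtain ⟨r, hr⟩ := Ideal.exists_forall_sub_mem_ideal (I := fun f : A →ₐ[k] k => RingHom.ker f)
    (fun f g hne => by
      haveI := point_ker_isMaximal k A f
      haveI := point_ker_isMaximal k A g
      exact Ideal.isCoprime_of_isMaximal fun h => hne (point_ker_injective k A h))
    (fun f => algebraMap k A (c f))
  refine ⟨r, funext fun f => ?_⟩
  have := hr f
  rw [RingHom.mem_ker, map_sub, sub_eq_zero, AlgHom.commutes] at this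
  exact this

theorem evalPoints_ker : RingHom.ker (AlgHom.pi (R := k) (fun f : A →ₐ[k] k => f)) = nilradical A := by
  haveI : IsArtinianRing A := IsArtinianRing.of_finite k A
  refine le_antisymm (fun x hx => ?_) fun x hx => ?_
  · rw [IsArtinianRing.nilradical_eq_iInf, Submodule.mem_iInf]
    intro m
    haveI := m.isMaximal
    obtain ⟨f, hf⟩ := exists_point k A m.asIdeal
    rw [← hf]
    exact congrFun hx f
  · obtain ⟨n, hn⟩ := hx
    refine funext fun f => ?_
    have h := congrArg f hn
    rw [map_pow, map_zero] at h
    exact eq_zero_of_pow_eq_zero h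

theorem evalPoints_bijective [IsReduced A] : Function.Bijective (AlgHom.pi (R := k) (fun f : A →ₐ[k] k => f)) := by
  refine ⟨?_, evalPoints_surjective k A⟩
  rw [injective_iff_map_eq_zero]
  intro x hx
  have : x ∈ RingHom.ker (AlgHom.pi (R := k) (fun f : A →ₐ[k] k => f)) := hx
  rw [evalPoints_ker, nilradical_eq_zero] at this
  exact this

theorem formallyEtale_of_isReduced [IsReduced A] : Algebra.FormallyEtale k A := by
  haveI := points_finite k A
  rw [Algebra.FormallyEtale.iff_of_equiv (AlgEquiv.ofBijective _ (evalPoints_bijective k A)),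
    Algebra.FormallyEtale.pi_iff]
  intro _
  infer_instance

theorem isReduced_quotient_nilradical (A : Type v) [CommRing A] : IsReduced (A ⧸ nilradical A) := by
  rw [← Ideal.isRadical_iff_quotient_reduced]
  exact Ideal.radical_isRadical _

theorem nilradical_isNilpotent (k : Type u) [Field k] (A : Type v) [CommRing A] [Algebra k A] [Module.Finite k A] :
    IsNilpotent (nilradical A) := by
  haveI : IsArtinianRing A := IsArtinianRing.of_finite k A
  exact IsArtinianRing.isNilpotent_nilradical

end Groth.Agent.CommAlg4
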