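import Mathlib
import Groth.Agent.FlatMor12.StdEtaleFinite
import Groth.Agent.LocImm12.ZMT

/-!
# Finite covers along which finite surjections split on irreducible components
-/

set_option autoImplicit false
set_option linter.all false
set_option backward.isDefEq.respectTransparency false

universe u

open CategoryTheory CategoryTheory.Limits AlgebraicGeometry TopologicalSpace Polynomial

namespace Groth.Agent.CommAlg4.FiniteCoverLift

theorem exists_algClosed_point {F F' : Scheme.{u}} (s : F' ⟶ F) [IsFinite s] [Surjective s]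
    (Ω : Type u) [Field Ω] [IsAlgClosed Ω] (x : Spec (CommRingCat.of Ω) ⟶ F) :
    ∃ y : Spec (CommRingCat.of Ω) ⟶ F', y ≫ s = x := by
  let P := pullback s x
  let q : P ⟶ Spec (CommRingCat.of Ω) := pullback.snd s x
  haveI : IsFinite q := inferInstance
  haveI : IsAffine P := isAffine_of_isAffineHom q
  let φ : CommRingCat.of Ω ⟶ Γ(P, ⊤) := Spec.preimage (P.isoSpec.inv ≫ q)
  have hφ : Spec.map φ = P.isoSpec.inv ≫ q := Spec.map_preimage _
  haveI : IsFinite (Spec.map φ) := by rw [hφ]; infer_instance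
  have hfin : φ.hom.Finite := (IsFinite.SpecMap_iff _).1 ‹_›
  haveI : Nontrivial Γ(P, ⊤) := by
    have : Nonempty P := by
      haveI : Surjective q := inferInstance
      exact ⟨(q.surjective default).choose⟩
    obtain ⟨z⟩ := this
    haveI : Nonempty (⊤ : P.Opens) := ⟨⟨z, trivial⟩⟩
    infer_instance
  letI := φ.hom.toAlgebra
  haveI : Module.Finite Ω Γ(P, ⊤) := hfin
  obtain ⟨m, hm⟩ := Ideal.exists_maximal Γ(P, ⊤)
  letI := Ideal.Quotient.field m
  have hbij := IsAlgClosed.algebraMap_bijective_of_isIntegral (k := Ω) (K := Γ(P, ⊤) ⧸ m)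
  let e : Ω ≃+* Γ(P, ⊤) ⧸ m := RingEquiv.ofBijective _ hbij
  let ρ : Γ(P, ⊤) ⟶ CommRingCat.of Ω := CommRingCat.ofHom (e.symm.toRingHom.comp (Ideal.Quotient.mk m))
  have hρ : φ ≫ ρ = 𝟙 _ := by
    ext c
    exact e.symm_apply_apply c
  refine ⟨Spec.map ρ ≫ P.isoSpec.inv ≫ pullback.fst s x, ?_⟩
  rw [Category.assoc, Category.assoc, pullback.condition, ← Category.assoc P.isoSpec.inv, ← hφ,
    ← Spec.map_comp_assoc, hρ, Spec.map_id, Category.id_comp]

variable {Y F F' : Scheme.{u}} (i : F ⟶ Y) (s : F' ⟶ F)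

/-- A morphism `g` extends rational lifts over the open `U`. -/
def Extends (U : Y.Opens) {Y₁ : Scheme.{u}} (g : Y₁ ⟶ Y) : Prop :=
  ∀ (D : Type u) [CommRing D] [IsDomain D] (t : Spec (CommRingCat.of D) ⟶ Y₁)
    (u : Spec (CommRingCat.of D) ⟶ F), t ≫ g = u ≫ i → Set.range (u ≫ i) ⊆ U →
    ∀ (K : Type u) [Field K] (ι : D →+* K), Function.Injective ι → ∀ (w : Spec (CommRingCat.of K) ⟶ F'),
      w ≫ s = Spec.map (CommRingCat.ofHom ι) ≫ u →
      ∃ v, v ≫ s = u ∧ Spec.map (CommRingCat.ofHom ι) ≫ v = w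

theorem Extends.comp {U : Y.Opens} {Y₁ Y₂ : Scheme.{u}} {g : Y₁ ⟶ Y} (h : Extends i s U g) (p : Y₂ ⟶ Y₁) :
    Extends i s U (p ≫ g) :=
  fun D _ _ t u htu => h D (t ≫ p) u (by rw [Category.assoc, htu])

variable [IsNoetherian Y] [IsClosedImmersion i] [IsFinite s]

set_option maxHeartbeats 1600000 in
theorem exists_extends (U : Y.Opens) (hU : IsAffineOpen U) :
    ∃ (Y₁ : Scheme.{u}) (g : Y₁ ⟶ Y), IsFinite g ∧ Surjective g ∧ Extends i s U g := by
  classical
  rcases subsingleton_or_nontrivial Γ(Y, U) with hsub | hnt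
  · refine ⟨Y, 𝟙 Y, inferInstance, inferInstance, fun D _ _ t u _ hr => ?_⟩
    obtain ⟨x⟩ : Nonempty (Spec (CommRingCat.of D)) := inferInstance
    haveI : Nonempty U := ⟨⟨_, hr ⟨x, rfl⟩⟩⟩
    exact (not_nontrivial _ (inferInstance : Nontrivial Γ(Y, U))).elim
  let m : F' ⟶ Y := s ≫ i
  let W : F'.Opens := m ⁻¹ᵁ U
  have hW : IsAffineOpen W := hU.preimage m
  let φ : Γ(Y, U) ⟶ Γ(F', W) := m.appLE U W le_rfl
  have hφfin : φ.hom.Finite := by
    rw [show φ = m.app U from Scheme.Hom.app_eq_appLE .. |>.symm]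
    exact IsFinite.finite_app (f := m) U hU
  letI := φ.hom.toAlgebra
  haveI : Module.Finite Γ(Y, U) Γ(F', W) := hφfin
  obtain ⟨S, hS⟩ := (Module.Finite.fg_top : (⊤ : Submodule Γ(Y, U) Γ(F', W)).FG)
  choose f hf hfb using fun b : Γ(F', W) => (IsIntegral.of_finite Γ(Y, U) b)
  let P : Polynomial Γ(Y, U) := ∏ b ∈ S, f b
  have hP : P.Monic := monic_prod_of_monic _ _ fun b _ => hf b
  obtain ⟨T, _, _, a, hfree, hfin, hinj, hPT⟩ :=
    Groth.Agent.FlatMor12.exists_splitting_free _ Γ(Y, U) P hP rfl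
  let q0 : Spec (CommRingCat.of T) ⟶ Spec Γ(Y, U) := Spec.map (CommRingCat.ofHom (algebraMap Γ(Y, U) T))
  haveI : IsFinite q0 := (IsFinite.SpecMap_iff _).2 (RingHom.finite_algebraMap.2 hfin)
  haveI : QuasiCompact hU.fromSpec := inferInstance
  obtain ⟨Yb, j₀, π₀, hj₀, hj₀q, hπ₀, hjπ⟩ :=
    Groth.Agent.LocImm12.exists_openImmersion_finite (q0 ≫ hU.fromSpec)
  let j : Spec (CommRingCat.of T) ⟶ j₀.image := j₀.toImage
  let π : j₀.image ⟶ Y := j₀.imageι ≫ π₀
  have hjπ' : j ≫ π = q0 ≫ hU.fromSpec := by rw [Scheme.Hom.toImage_imageι_assoc, hjπ]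
  have hpre : ∀ x : j₀.image, π x ∈ U → x ∈ Set.range j := by
    have hr : Set.range j ⊆ (π ⁻¹ᵁ U : Set j₀.image) := by
      rintro _ ⟨z, rfl⟩
      show π (j z) ∈ U
      rw [← Scheme.Hom.comp_apply, hjπ', Scheme.Hom.comp_apply]
      exact hU.range_fromSpec.le ⟨_, rfl⟩
    let j' : Spec (CommRingCat.of T) ⟶ (π ⁻¹ᵁ U : j₀.image.Opens) :=
      IsOpenImmersion.lift (π ⁻¹ᵁ U).ι j (by rwa [Scheme.Opens.range_ι])
    have hj' : j' ≫ (π ⁻¹ᵁ U).ι = j := IsOpenImmersion.lift_fac _ _ _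
    have hcomp : j' ≫ (π ∣_ U) = q0 ≫ hU.isoSpec.inv := by
      rw [← cancel_mono U.ι, Category.assoc, morphismRestrict_ι, reassoc_of% hj', hjπ', Category.assoc,
        hU.isoSpec_inv_ι]
    haveI : IsFinite (j' ≫ (π ∣_ U)) := by rw [hcomp]; infer_instance
    haveI : IsFinite j' := IsFinite.of_comp j' (π ∣_ U)
    intro x hx
    have hd : DenseRange j := j₀.toImage.denseRange
    have hcl : IsClosed (Set.range j') := j'.isClosedMap.isClosed_range
    have hmem : (⟨x, hx⟩ : (π ⁻¹ᵁ U : j₀.image.Opens)) ∈ closure (Set.range j') := by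
      rw [mem_closure_iff]
      intro G hG hxG
      have hop := (π ⁻¹ᵁ U).ι.isOpenEmbedding.isOpenMap G hG
      obtain ⟨z, hz⟩ := hd.exists_mem_open hop ⟨_, Set.mem_image_of_mem _ hxG⟩
      obtain ⟨g, hg, hgz⟩ := hz
      refine ⟨g, hg, z, (π ⁻¹ᵁ U).ι.isOpenEmbedding.injective ?_⟩
      rw [← Scheme.Hom.comp_apply, hj', hgz]
    rw [hcl.closure_eq] at hmem
    obtain ⟨z, hz⟩ := hmem
    refine ⟨z, ?_⟩
    rw [← hj', Scheme.Hom.comp_apply, hz]
    rfl
  let Z := (Scheme.IdealSheafData.vanishingIdeal (X := Y) ⟨(U : Set Y)ᶜ, U.2.isClosed_compl⟩)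
  have hZr : Set.range Z.subschemeι = (U : Set Y)ᶜ := by
    rw [Scheme.IdealSheafData.range_subschemeι, Scheme.IdealSheafData.coe_support_vanishingIdeal]
    rfl
  haveI : IsFinite π := inferInstance
  let g : j₀.image ⨿ Z.subscheme ⟶ Y := coprod.desc π Z.subschemeι
  refine ⟨_, g, inferInstance, ⟨fun y => ?_⟩, ?_⟩
  · by_cases hy : y ∈ U
    · obtain ⟨z, hz⟩ := hU.range_fromSpec.ge hy
      obtain ⟨z', hz'⟩ := RingHom.IsIntegral.comap_surjective
        (algebraMap_isIntegral_iff.2 (Algebra.IsIntegral.of_finite Γ(Y, U) T)) hinj z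
      refine ⟨(coprod.inl : j₀.image ⟶ j₀.image ⨿ Z.subscheme) (j z'), ?_⟩
      rw [← Scheme.Hom.comp_apply, coprod.inl_desc, ← Scheme.Hom.comp_apply, hjπ', Scheme.Hom.comp_apply, ← hz]
      exact congrArg _ hz'
    · obtain ⟨z, hz⟩ := hZr.ge hy
      refine ⟨(coprod.inr : Z.subscheme ⟶ j₀.image ⨿ Z.subscheme) z, ?_⟩
      rw [← Scheme.Hom.comp_apply, coprod.inr_desc, hz]
  intro D _ _ t u htu hr K _ ι hι w hw
  have hrange : Set.range t ⊆ Set.range (j ≫ (coprod.inl : j₀.image ⟶ j₀.image ⨿ Z.subscheme)) := by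
    rintro _ ⟨x, rfl⟩
    have hx : g (t x) ∈ U := by
      rw [← Scheme.Hom.comp_apply, htu]
      exact hr ⟨x, rfl⟩
    rcases (isCompl_range_inl_inr j₀.image Z.subscheme).codisjoint.eq_top.ge (Set.mem_univ (t x)) with ⟨y, hy⟩ | ⟨y, hy⟩
    · rw [← hy, ← Scheme.Hom.comp_apply, coprod.inl_desc] at hx
      obtain ⟨z, hz⟩ := hpre y hx
      exact ⟨z, by rw [Scheme.Hom.comp_apply, hz, hy]⟩
    · rw [← hy, ← Scheme.Hom.comp_apply, coprod.inr_desc] at hx
      exact absurd hx (hZr.le ⟨y, rfl⟩)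
  let t' := IsOpenImmersion.lift (j ≫ (coprod.inl : j₀.image ⟶ j₀.image ⨿ Z.subscheme)) t hrange
  let ψ : CommRingCat.of T ⟶ CommRingCat.of D := Spec.preimage t'
  have hui : u ≫ i = Spec.map (CommRingCat.ofHom (algebraMap Γ(Y, U) T) ≫ ψ) ≫ hU.fromSpec := by
    rw [← htu, ← IsOpenImmersion.lift_fac _ t hrange, Category.assoc, Category.assoc, coprod.inl_desc, hjπ',
      Spec.map_comp, Category.assoc, Spec.map_preimage]
  have hwr : Set.range w ⊆ Set.range hW.fromSpec := by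
    rw [hW.range_fromSpec]
    rintro _ ⟨x, rfl⟩
    show (s ≫ i) (w x) ∈ U
    rw [← Scheme.Hom.comp_apply, ← Category.assoc, hw, Category.assoc, Scheme.Hom.comp_apply]
    exact hr ⟨_, rfl⟩
  let w' := IsOpenImmersion.lift hW.fromSpec w hwr
  let β : Γ(F', W) ⟶ CommRingCat.of K := Spec.preimage w'
  have hw' : Spec.map β ≫ hW.fromSpec = w := by rw [Spec.map_preimage, IsOpenImmersion.lift_fac]
  have hcomm : φ ≫ β = CommRingCat.ofHom (algebraMap Γ(Y, U) T) ≫ ψ ≫ CommRingCat.ofHom ι := by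
    apply Spec.map_injective
    rw [← cancel_mono hU.fromSpec, Spec.map_comp, Category.assoc,
      IsAffineOpen.SpecMap_appLE_fromSpec m hU hW le_rfl, ← Category.assoc, hw', ← Category.assoc w, hw,
      Category.assoc, hui, ← Category.assoc (CommRingCat.ofHom (algebraMap Γ(Y, U) T)),
      Spec.map_comp (CommRingCat.ofHom (algebraMap Γ(Y, U) T) ≫ ψ), Category.assoc]
  have hmem : ∀ x, β.hom x ∈ ι.range := by
    intro x
    have hx : x ∈ Submodule.span Γ(Y, U) (S : Set Γ(F', W)) := hS.symm ▸ Submodule.mem_top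
    induction hx using Submodule.span_induction with
    | mem b hb =>
      have h0 : Polynomial.eval₂ (φ ≫ β).hom (β.hom b) P = 0 := by
        have h1 := congrArg β.hom (show Polynomial.aeval b P = 0 by
          rw [map_prod]
          exact Finset.prod_eq_zero hb (hfb b))
        rw [map_zero, Polynomial.aeval_def, Polynomial.hom_eval₂] at h1
        exact h1
      rw [hcomm, show (CommRingCat.ofHom (algebraMap Γ(Y, U) T) ≫ ψ ≫ CommRingCat.ofHom ι).hom =
        (ι.comp ψ.hom).comp (algebraMap Γ(Y, U) T) from rfl, ← Polynomial.eval_map, ← Polynomial.map_map, hPT,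
        Polynomial.map_prod, Polynomial.eval_prod, Finset.prod_eq_zero_iff] at h0
      obtain ⟨l, -, hl⟩ := h0
      simp only [Polynomial.map_sub, Polynomial.map_X, Polynomial.map_C, Polynomial.eval_sub, Polynomial.eval_X,
        Polynomial.eval_C, sub_eq_zero] at hl
      exact ⟨_, hl.symm⟩
    | zero => rw [map_zero]; exact zero_mem _
    | add x y _ _ hx hy => rw [map_add]; exact add_mem hx hy
    | smul c x _ hx =>
      rw [Algebra.smul_def, map_mul]
      refine mul_mem ⟨ψ.hom (algebraMap Γ(Y, U) T c), ?_⟩ hx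
      exact (congrArg (fun h => h.hom c) hcomm).symm
  let e : D ≃+* ι.range := RingEquiv.ofBijective ι.rangeRestrict
    ⟨fun x y h => hι (congrArg Subtype.val h), ι.rangeRestrict_surjective⟩
  let β' : Γ(F', W) ⟶ CommRingCat.of D := CommRingCat.ofHom (e.symm.toRingHom.comp (β.hom.codRestrict ι.range hmem))
  have hβ' : β' ≫ CommRingCat.ofHom ι = β := by
    ext x
    exact congrArg Subtype.val (e.apply_symm_apply _)
  refine ⟨Spec.map β' ≫ hW.fromSpec, ?_, by rw [← Spec.map_comp_assoc, hβ', hw']⟩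
  have hdown : φ ≫ β' = CommRingCat.ofHom (algebraMap Γ(Y, U) T) ≫ ψ := by
    ext c
    apply hι
    have h := congrArg (fun h => h.hom c) hcomm
    rw [← hβ'] at h
    exact h
  rw [← cancel_mono i, hui, ← hdown, Spec.map_comp, Category.assoc, Category.assoc, Category.assoc,
    IsAffineOpen.SpecMap_appLE_fromSpec m hU hW le_rfl]

theorem exists_cover (𝒰 : Finset Y.affineOpens) :
    ∃ (Y₁ : Scheme.{u}) (g : Y₁ ⟶ Y), IsFinite g ∧ Surjective g ∧ ∀ U ∈ 𝒰, Extends i s U.1 g := by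
  classical
  induction 𝒰 using Finset.induction with
  | empty => exact ⟨Y, 𝟙 Y, inferInstance, inferInstance, fun U h => absurd h (Finset.notMem_empty U)⟩
  | insert U 𝒰 hU ih =>
    obtain ⟨Y₁, g₁, h₁, h₁', h₁''⟩ := ih
    obtain ⟨Y₂, g₂, h₂, h₂', h₂''⟩ := exists_extends i s U.1 U.2
    refine ⟨pullback g₁ g₂, pullback.fst g₁ g₂ ≫ g₁, inferInstance, inferInstance, fun V hV => ?_⟩
    rcases Finset.mem_insert.1 hV with rfl | hV
    · rw [pullback.condition]
      exact h₂''.comp i s _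
    · exact (h₁'' V hV).comp i s _

set_option maxHeartbeats 1600000 in
theorem exists_lift [Surjective s] :
    ∃ (Y' : Scheme.{u}) (g : Y' ⟶ Y), IsFinite g ∧ Surjective g ∧
      ∀ (G : Scheme.{u}) (h : G ⟶ Y') (a : G ⟶ F), IsIntegral G → IsAffineHom (h ≫ g) → h ≫ g = a ≫ i →
        ∃ φ : G ⟶ F', φ ≫ s = a := by
  classical
  obtain ⟨𝒰, h𝒰⟩ := isCompact_univ.elim_finite_subcover (fun U : Y.affineOpens => (U.1 : Set Y))
    (fun U => U.1.2) (fun y _ => by
      obtain ⟨U, hU, hy, -⟩ := exists_isAffineOpen_mem_and_subset (x := y) (U := ⊤) trivial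
      exact Set.mem_iUnion.2 ⟨⟨U, hU⟩, hy⟩)
  obtain ⟨Y', g, hg, hg', hext⟩ := exists_cover i s 𝒰
  refine ⟨Y', g, hg, hg', fun G h a _ _ hha => ?_⟩
  let ξ := genericPoint G
  let J := {U : Y.affineOpens // U ∈ 𝒰 ∧ ξ ∈ (h ≫ g) ⁻¹ᵁ U.1}
  let V : J → G.Opens := fun U => (h ≫ g) ⁻¹ᵁ U.1.1
  have hVa : ∀ U : J, IsAffineOpen (V U) := fun U => U.1.2.preimage (h ≫ g)
  have hcov : ⨆ U, V U = ⊤ := by
    refine top_le_iff.1 fun x _ => ?_
    obtain ⟨U, hU, hxU⟩ := Set.mem_iUnion₂.1 (h𝒰 (Set.mem_univ ((h ≫ g) x)))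
    exact Opens.mem_iSup.2 ⟨⟨U, hU, (genericPoint_spec G).mem_open_set_iff ((h ≫ g) ⁻¹ᵁ U.1).2 |>.2
      ⟨x, trivial, hxU⟩⟩, hxU⟩
  let Ω := AlgebraicClosure G.functionField
  let gΩ : G.functionField →+* Ω := algebraMap _ _
  let toG : Spec (CommRingCat.of Ω) ⟶ G := Spec.map (CommRingCat.ofHom gΩ) ≫ G.fromSpecStalk ξ
  have hgen : ∀ z, toG z = ξ := fun z => by
    have h2 : toG z ∈ Set.range (G.fromSpecStalk ξ) :=
      ⟨(Spec.map (CommRingCat.ofHom gΩ)) z, (Scheme.Hom.comp_apply _ _ _).symm⟩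
    rw [Scheme.range_fromSpecStalk] at h2
    exact h2.antisymm ((genericPoint_spec G).specializes (Set.mem_univ _)) |>.eq
  obtain ⟨w, hw⟩ := exists_algClosed_point s Ω (toG ≫ a)
  have hloc : ∀ U : J, ∃ φ : (V U : Scheme.{u}) ⟶ F', φ ≫ s = (V U).ι ≫ a ∧
      ∀ (p : Spec (CommRingCat.of Ω) ⟶ (V U : Scheme.{u})), p ≫ (V U).ι = toG → p ≫ φ = w := fun U => by
    haveI : Nonempty (V U) := ⟨⟨ξ, U.2.2⟩⟩
    let D := Γ(G, V U)
    let germ : D ⟶ G.functionField := G.germToFunctionField (V U)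
    let ι : D →+* Ω := gΩ.comp germ.hom
    have hι : Function.Injective ι := gΩ.injective.comp (Scheme.germToFunctionField_injective G (V U))
    have hto : toG = Spec.map (CommRingCat.ofHom ι) ≫ (hVa U).fromSpec := by
      show Spec.map (CommRingCat.ofHom gΩ) ≫ G.fromSpecStalk ξ = _
      rw [← (hVa U).fromSpecStalk_eq_fromSpecStalk U.2.2, show CommRingCat.ofHom ι = germ ≫ CommRingCat.ofHom gΩ from rfl,
        Spec.map_comp, Category.assoc]
      rfl
    obtain ⟨v, hv, hv'⟩ := hext U.1 U.2.1 D ((hVa U).fromSpec ≫ h) ((hVa U).fromSpec ≫ a)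
      (by rw [Category.assoc, hha, Category.assoc])
      (by
        rintro _ ⟨x, rfl⟩
        rw [Category.assoc, ← hha, Scheme.Hom.comp_apply]
        exact (hVa U).range_fromSpec.le ⟨x, rfl⟩)
      Ω ι hι w (by rw [hw, hto, Category.assoc])
    refine ⟨(hVa U).isoSpec.hom ≫ v, ?_, fun p hp => ?_⟩
    · rw [Category.assoc, hv, ← Category.assoc, (hVa U).isoSpec_hom_fromSpec]
    · rw [← hv', ← Category.assoc]
      congr 1
      rw [← cancel_mono (hVa U).fromSpec, Category.assoc, (hVa U).isoSpec_hom_fromSpec, hp, hto]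
  choose φ hφ hφw using hloc
  let 𝒱 := G.openCoverOfIsOpenCover V hcov
  have hglue : ∀ x y : J, pullback.fst (V x).ι (V y).ι ≫ φ x = pullback.snd (V x).ι (V y).ι ≫ φ y := by
    intro x y
    haveI : IsReduced (pullback (V x).ι (V y).ι) := isReduced_of_isOpenImmersion (pullback.fst (V x).ι (V y).ι)
    have hrange : ∀ U : J, Set.range toG ⊆ Set.range (V U).ι := fun U => by
      rw [Scheme.Opens.range_ι]
      rintro _ ⟨z, rfl⟩
      rw [hgen]
      exact U.2.2
    let px := IsOpenImmersion.lift (V x).ι toG (hrange x)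
    let py := IsOpenImmersion.lift (V y).ι toG (hrange y)
    let p : Spec (CommRingCat.of Ω) ⟶ pullback (V x).ι (V y).ι :=
      pullback.lift px py (by rw [IsOpenImmersion.lift_fac, IsOpenImmersion.lift_fac])
    haveI : IsDominant p := by
      refine ⟨dense_iff_inter_open.2 fun O hO ⟨o, ho⟩ => ?_⟩
      let q := pullback.fst (V x).ι (V y).ι ≫ (V x).ι
      obtain ⟨o', ho', hξ⟩ : ξ ∈ q '' O := ((genericPoint_spec G).mem_open_set_iff
        (q.isOpenEmbedding.isOpenMap O hO)).2 ⟨q o, trivial, o, ho, rfl⟩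
      refine ⟨o', ho', default, q.isOpenEmbedding.injective ?_⟩
      rw [hξ, ← Scheme.Hom.comp_apply]
      have hpq : p ≫ q = toG := by rw [← Category.assoc, pullback.lift_fst, IsOpenImmersion.lift_fac]
      rw [hpq, hgen]
    refine ext_of_isDominant_of_isSeparated s ?_ p ?_
    · rw [Category.assoc, hφ, Category.assoc, hφ, pullback.condition_assoc]
    · rw [pullback.lift_fst_assoc, pullback.lift_snd_assoc, hφw x px (IsOpenImmersion.lift_fac _ _ _),
        hφw y py (IsOpenImmersion.lift_fac _ _ _)]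
  refine ⟨𝒱.glueMorphisms φ hglue, Scheme.Cover.hom_ext 𝒱 _ _ fun U => ?_⟩
  rw [← Category.assoc, Scheme.Cover.ι_glueMorphisms]
  exact hφ U

end Groth.Agent.CommAlg4.FiniteCoverLift
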