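import Mathlib
import Groth.Agent.DCat.Acyclic

/-! Models of unbounded complexes in a class of finite dimension. -/
set_option autoImplicit false
set_option linter.style.haveILetI false
set_option linter.unusedSectionVars false
set_option backward.isDefEq.respectTransparency false
universe v u
open CategoryTheory CategoryTheory.Limits HomologicalComplex
open scoped ZeroObject

namespace Groth.Agent.CommAlg4.FiniteDimModel

attribute [local instance] Abelian.hasFiniteBiproducts

variable {A : Type u} [Category.{v} A] [Abelian A] (P : ObjectProperty A)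
  (h1 : ∀ X : A, ∃ (Y : A) (i : X ⟶ Y), P Y ∧ Mono i)
  (h2 : ∀ S : ShortComplex A, S.ShortExact → P S.X₁ → (P S.X₂ ↔ P S.X₃))

include h1 h2 in
theorem prop_zero {Z : A} (hZ : IsZero Z) : P Z := by
  obtain ⟨Y, -, hY, -⟩ := h1 Z
  let S : ShortComplex A := ShortComplex.mk (𝟙 Y) (0 : Y ⟶ Z) (by simp)
  have hS : S.ShortExact := ShortComplex.Splitting.shortExact
    { r := 𝟙 Y, s := 0, f_r := by simp [S], s_g := hZ.eq_of_src _ _, id := by simp [S] }
  exact (h2 S hS hY).1 hY

include h1 h2 in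
theorem prop_iso {X Y : A} (e : X ≅ Y) (hX : P X) : P Y := by
  let S : ShortComplex A := ShortComplex.mk (0 : (0 : A) ⟶ X) e.hom (by simp)
  have hS : S.ShortExact := ShortComplex.Splitting.shortExact
    { r := 0, s := e.inv, f_r := (isZero_zero A).eq_of_src _ _, s_g := by simp [S], id := by simp [S] }
  exact (h2 S hS (prop_zero P h1 h2 (isZero_zero A))).1 hX

include h2 in
theorem prop_biprod {X Y : A} (hX : P X) (hY : P Y) : P (X ⊞ Y) :=
  (h2 _ (ShortComplex.Splitting.ofHasBinaryBiproduct X Y).shortExact hX).2 hY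

/-- After `m` steps of any resolution one lands in the class. -/
def Dim : ℕ → A → Prop
  | 0, X => P X
  | m + 1, X => ∀ S : ShortComplex A, S.ShortExact → Nonempty (S.X₁ ≅ X) → P S.X₂ → Dim m S.X₃

include h1 h2 in
theorem dim_of_complexes : ∀ (m : ℕ) (X : A),
    (∀ (K : CochainComplex A ℕ) (e : X ⟶ K.X 0) (w : e ≫ K.d 0 1 = 0),
      (∀ i, 1 ≤ i → i ≤ m → K.ExactAt i) → (∀ i, m < i → IsZero (K.X i)) →
      (ShortComplex.mk e (K.d 0 1) w).Exact → Mono e → (∀ i, i < m → P (K.X i)) → P (K.X m)) → Dim P m X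
  | 0, X, h => by
    refine h ((CochainComplex.single₀ A).obj X) (𝟙 X) (by simp) (fun i h1 h2 => by omega)
      (fun i hi => isZero_single_obj_X _ 0 X i (by omega)) ?_ (inferInstanceAs (Mono (𝟙 X))) (fun i hi => by omega)
    refine (ShortComplex.exact_iff_epi _ (by simp)).2 ?_
    show Epi (𝟙 X)
    infer_instance
  | m + 1, X, h => fun S hS ⟨e⟩ hS₂ => by
    refine dim_of_complexes m S.X₃ fun K f w hex hz he hf hP => ?_
    haveI := hS.epi_g
    haveI := hS.mono_f
    let K' : CochainComplex A ℕ := CochainComplex.augment K (S.g ≫ f) (by rw [Category.assoc, w, comp_zero])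
    have hw : (e.inv ≫ S.f) ≫ K'.d 0 1 = 0 := by
      show (e.inv ≫ S.f) ≫ S.g ≫ f = 0
      simp [S.zero_assoc]
    have hz' : ∀ i, m + 1 < i → IsZero (K'.X i) := fun i hi => by
      obtain ⟨k, rfl⟩ : ∃ k, i = k + 1 := ⟨i - 1, by omega⟩
      exact hz k (by omega)
    have hex' : ∀ i, 1 ≤ i → i ≤ m + 1 → K'.ExactAt i := fun i hi hi' => by
      obtain ⟨k, rfl⟩ : ∃ k, i = k + 1 := ⟨i - 1, by omega⟩
      rw [exactAt_iff' _ k (k + 1) (k + 2) (CochainComplex.prev_nat_succ k) (CochainComplex.next ℕ (k + 1))]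
      rcases k with _ | k
      · have hw' : (S.g ≫ f) ≫ K.d 0 1 = 0 := by rw [Category.assoc, w, comp_zero]
        show (ShortComplex.mk (S.g ≫ f) (K.d 0 1) hw').Exact
        rw [ShortComplex.exact_iff_exact_up_to_refinements]
        intro T x hx
        obtain ⟨T', p, hp, y, hy⟩ := he.exact_up_to_refinements x hx
        obtain ⟨T'', p', hp', z, hz⟩ := surjective_up_to_refinements_of_epi S.g y
        exact ⟨T'', p' ≫ p, inferInstance, z, by
          change p ≫ x = y ≫ f at hy
          show (p' ≫ p) ≫ x = z ≫ S.g ≫ f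
          rw [Category.assoc, hy, reassoc_of% hz]⟩
      · exact ((exactAt_iff' K k (k + 1) (k + 2) (CochainComplex.prev_nat_succ k)
          (CochainComplex.next ℕ (k + 1))).1 (hex (k + 1) (by omega) (by omega)))
    refine h K' (e.inv ≫ S.f) hw hex' hz' ?_ (mono_comp _ _) fun i hi => ?_
    · haveI := hf
      show (ShortComplex.mk (e.inv ≫ S.f) (S.g ≫ f) hw).Exact
      rw [ShortComplex.exact_iff_exact_up_to_refinements]
      intro T x hx
      obtain ⟨T', p, hp, y, hy⟩ := hS.exact.exact_up_to_refinements x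
        ((cancel_mono f).1 ((Category.assoc _ _ _).trans (hx.trans zero_comp.symm)))
      refine ⟨T', p, hp, y ≫ e.hom, ?_⟩
      change p ≫ x = y ≫ S.f at hy
      show p ≫ x = (y ≫ e.hom) ≫ e.inv ≫ S.f
      simp [hy]
    · rcases i with _ | i
      · exact hS₂
      · exact hP i (by omega)

include h1 h2 in
theorem dim_all (n : ℕ) (hn : 1 ≤ n)
    (h3 : ∀ K : CochainComplex A ℕ, (∀ i : ℕ, 1 ≤ i → i ≤ n → K.ExactAt i) → (∀ i : ℕ, n < i → IsZero (K.X i)) →
      Epi (K.d (n - 1) n) → (∀ i : ℕ, i < n → P (K.X i)) → P (K.X n)) (X : A) : Dim P n X := by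
  refine dim_of_complexes P h1 h2 n X fun K e w hex hz _ _ hP => h3 K hex hz ?_ hP
  obtain ⟨k, rfl⟩ : ∃ k, n = k + 1 := ⟨n - 1, by omega⟩
  have h := hex (k + 1) (by omega) le_rfl
  rw [exactAt_iff' _ k (k + 1) (k + 2) (CochainComplex.prev_nat_succ k) (CochainComplex.next ℕ (k + 1))] at h
  have h0 : K.d (k + 1) (k + 2) = 0 := (hz (k + 2) (by omega)).eq_of_tgt _ _
  exact h.epi_f h0

open CochainComplex in
include h1 h2 in
theorem exists_model : ∀ (m : ℕ) (K : CochainComplex A ℤ), (∀ p, Dim P m (K.X p)) →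
    ∃ (J : CochainComplex A ℤ) (s : K ⟶ J), QuasiIso s ∧ ∀ p, P (J.X p)
  | 0, K, hK => ⟨K, 𝟙 K, inferInstance, hK⟩
  | m + 1, K, hK => by
    choose Y j hY hj using fun p => h1 (K.X p)
    let d : ∀ p : ℤ, Y p ⊞ Y (p + 1) ⟶ Y (p + 1) ⊞ Y (p + 1 + 1) := fun p => biprod.snd ≫ biprod.inl
    have dd : ∀ p, d p ≫ d (p + 1) = 0 := fun p => by simp [d]
    let W : CochainComplex A ℤ := CochainComplex.of (fun p => Y p ⊞ Y (p + 1)) d dd
    have hW : ∀ p, P (W.X p) := fun p => prop_biprod P h2 (hY p) (hY (p + 1))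
    let φ : ∀ p, K.X p ⟶ Y p ⊞ Y (p + 1) := fun p => biprod.lift (j p) (K.d p (p + 1) ≫ j (p + 1))
    let f : K ⟶ W :=
      { f := φ
        comm' := fun i k hik => by
          obtain rfl : i + 1 = k := hik
          rw [show W.d i (i + 1) = d i from CochainComplex.of_d (fun p => Y p ⊞ Y (p + 1)) d i]
          show φ i ≫ d i = K.d i (i + 1) ≫ φ (i + 1)
          apply biprod.hom_ext <;> simp [φ, d] }
    haveI : ∀ p, Mono (f.f p) := fun p => by
      haveI := hj p
      exact mono_of_mono_fac (show φ p ≫ biprod.fst = j p by simp [φ])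
    haveI : Mono f := HomologicalComplex.mono_of_mono_f f inferInstance
    let S : ShortComplex (CochainComplex A ℤ) := ShortComplex.mk f (cokernel.π f) (cokernel.condition f)
    have hS : S.ShortExact := { exact := ShortComplex.exact_cokernel f }
    obtain ⟨J₁, g₁, hg₁, hJ₁⟩ := exists_model m (cokernel f) fun p =>
      hK p _ (hS.map_of_exact (HomologicalComplex.eval A (ComplexShape.up ℤ) p)) ⟨Iso.refl _⟩ (hW p)
    let Z := mappingCocone (𝟙 J₁)
    let g : W ⊞ Z ⟶ J₁ := biprod.desc (cokernel.π f ≫ g₁) (mappingCocone.fst _)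
    let σ : ∀ p, J₁.X p ⟶ (W ⊞ Z).X p := fun p =>
      (mappingCocone.inl (𝟙 J₁)).v p p (add_zero p) ≫ (biprod.inr : Z ⟶ W ⊞ Z).f p
    have hσ : ∀ p, σ p ≫ g.f p = 𝟙 _ := fun p => by
      simp only [σ, Category.assoc, ← comp_f, g, biprod.inr_desc]
      exact mappingCocone.inl_v_fst_f _ p
    haveI : Epi g := HomologicalComplex.epi_of_epi_f g fun p => (SplitEpi.mk (σ p) (hσ p)).epi
    let T : ShortComplex (CochainComplex A ℤ) := ShortComplex.mk (kernel.ι g) g (kernel.condition g)
    have hT : T.ShortExact := { exact := ShortComplex.exact_kernel g }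
    let φS : S ⟶ T :=
      { τ₁ := kernel.lift g (f ≫ biprod.inl) (by
          rw [Category.assoc, biprod.inl_desc, ← Category.assoc, cokernel.condition, zero_comp])
        τ₂ := biprod.inl
        τ₃ := g₁
        comm₁₂ := kernel.lift_ι _ _ _
        comm₂₃ := biprod.inl_desc _ _ }
    have hinl : QuasiIso (biprod.inl : W ⟶ W ⊞ Z) := by
      rw [quasiIso_iff]
      intro i
      rw [quasiIsoAt_iff_isIso_homologyMap]
      let H := homologyFunctor A (ComplexShape.up ℤ) i
      haveI := preservesBinaryBiproducts_of_preservesBiproducts H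
      have hz : IsZero (H.obj Z) :=
        (exactAt_iff_isZero_homology _ _).1 (DCat.Acyclic.acyclic_mappingCocone_id J₁ i)
      refine ⟨H.map (biprod.fst : W ⊞ Z ⟶ W), ?_, ?_⟩
      · exact (H.map_comp _ _).symm.trans ((congrArg H.map biprod.inl_fst).trans (H.map_id _))
      · have e := congrArg H.map (biprod.total (X := W) (Y := Z))
        rw [H.map_add, H.map_comp, H.map_comp, H.map_id, hz.eq_of_tgt (H.map biprod.snd) 0, zero_comp, add_zero] at e
        exact e
    refine ⟨kernel g, φS.τ₁, DCat.Acyclic.quasiIso_τ₁ φS hS hT hinl hg₁, fun p => ?_⟩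
    -- the kernel in degree `p`
    have hTp := hT.map_of_exact (HomologicalComplex.eval A (ComplexShape.up ℤ) p)
    obtain ⟨q, hq⟩ : ∃ q, p + (-1) = q := ⟨p + -1, rfl⟩
    let a : W.X p ⊞ J₁.X q ⟶ (W ⊞ Z).X p := biprod.desc ((biprod.inl : W ⟶ W ⊞ Z).f p)
      ((mappingCocone.inr (𝟙 J₁)).1.v q p (by omega) ≫ (biprod.inr : Z ⟶ W ⊞ Z).f p)
    let b : (W ⊞ Z).X p ⟶ W.X p ⊞ J₁.X q := biprod.lift ((biprod.fst : W ⊞ Z ⟶ W).f p)
      ((biprod.snd : W ⊞ Z ⟶ Z).f p ≫ (mappingCocone.snd (𝟙 J₁)).v p q hq)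
    have hab : a ≫ b = 𝟙 _ := by
      apply biprod.hom_ext' <;> apply biprod.hom_ext <;>
        simp [a, b, ← comp_f_assoc, ← comp_f]
    have hσb : σ p ≫ b = 0 := by
      apply biprod.hom_ext <;> simp [σ, b, ← comp_f_assoc, ← comp_f]
    let t : (W ⊞ Z).X p ⟶ J₁.X p := (biprod.snd : W ⊞ Z ⟶ Z).f p ≫ (mappingCocone.fst (𝟙 J₁)).f p
    have htot : b ≫ a + t ≫ σ p = 𝟙 _ := by
      have e := congrArg (fun h => h.f p) (biprod.total (X := W) (Y := Z))
      simp only [add_f_apply, comp_f, id_f] at e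
      rw [← e]
      have e2 := mappingCocone.id_X (𝟙 J₁) p q hq
      simp only [a, b, t, σ, biprod.lift_desc, Category.assoc]
      rw [add_assoc, ← Preadditive.comp_add]
      congr 2
      rw [← Category.assoc, ← Category.assoc, ← Preadditive.add_comp]
      conv_rhs => rw [← Category.id_comp ((biprod.inr : Z ⟶ W ⊞ Z).f p)]
      congr 1
      exact (add_comm _ _).trans e2
    have hι : (kernel.ι g).f p ≫ g.f p = 0 := hTp.exact |> fun _ => by rw [← comp_f, kernel.condition, zero_f]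
    have hc : (a - a ≫ g.f p ≫ σ p) ≫ g.f p = 0 := by
      simp [hσ]
    haveI := hTp.mono_f
    let inv' : W.X p ⊞ J₁.X q ⟶ (kernel g).X p :=
      hTp.exact.lift (a - a ≫ g.f p ≫ σ p) hc
    have hinv : inv' ≫ (kernel.ι g).f p = a - a ≫ g.f p ≫ σ p := hTp.exact.lift_f _ hc
    refine prop_iso P h1 h2 (e := ⟨inv', (kernel.ι g).f p ≫ b, ?_, ?_⟩) (prop_biprod P h2 (hW p) (hJ₁ q))
    · rw [reassoc_of% hinv]
      simp [hab, hσb]
    · haveI : Mono ((kernel.ι g).f p) := hTp.mono_f
      rw [← cancel_mono ((kernel.ι g).f p), Category.assoc, Category.assoc, hinv, Category.id_comp,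
        Preadditive.comp_sub, ← Category.assoc b]
      have k1 : (kernel.ι g).f p ≫ b ≫ a = (kernel.ι g).f p - (kernel.ι g).f p ≫ t ≫ σ p := by
        rw [eq_sub_iff_add_eq, ← Preadditive.comp_add, htot, Category.comp_id]
      have k2 : t = g.f p - b ≫ a ≫ g.f p := by
        rw [eq_sub_iff_add_eq]
        have := htot =≫ g.f p
        simp [hσ] at this
        rw [add_comm]; exact this
      rw [Preadditive.comp_sub]
      simp only [Category.assoc]
      rw [k1, k2]
      simp [Preadditive.sub_comp, reassoc_of% hι]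

end Groth.Agent.CommAlg4.FiniteDimModel
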