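import Mathlib
import Groth.Prelude.Def_W4c1btstackcountsChain

/-!
Chains of matrices up to simultaneous change of bases are classified by their rank arrays.
-/

namespace Groth.Agent.CommAlg4

open Module Submodule

section Step

variable {k V V' W : Type*} [Field k] [AddCommGroup V] [Module k V] [AddCommGroup V'] [Module k V']
  [AddCommGroup W] [Module k W] [FiniteDimensional k V] [FiniteDimensional k V']

theorem finrank_ker_inf_add (f : V →ₗ[k] W) (T : Submodule k V) :
    finrank k (T.map f) + finrank k ↥(T ⊓ LinearMap.ker f) = finrank k T := by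
  have h := LinearMap.finrank_range_add_finrank_ker (f.comp T.subtype)
  rw [LinearMap.range_comp, Submodule.range_subtype, LinearMap.ker_comp] at h
  rw [inf_comm, ← (Submodule.comapSubtypeEquivOfLe (inf_le_right : LinearMap.ker f ⊓ T ≤ T)).finrank_eq,
    Submodule.comap_inf, Submodule.comap_subtype_self, inf_top_eq]
  exact h

/-- Extending an isomorphism over `W` from `U` to a larger subspace `T`. -/
theorem exists_extend_over (ψ : V →ₗ[k] W) (φ : V' →ₗ[k] W) {U T : Submodule k V}
    {U' T' : Submodule k V'} (hUT : U ≤ T) (hUT' : U' ≤ T') (hdU : finrank k U = finrank k U')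
    (hdT : finrank k T = finrank k T') (himgU : U.map ψ = U'.map φ)
    (himgT : T.map ψ = T'.map φ) (g₀ : V →ₗ[k] V') (hinj : ∀ x ∈ U, g₀ x = 0 → x = 0)
    (hmapU : U.map g₀ = U') (hcomm : ∀ x ∈ U, φ (g₀ x) = ψ x) :
    ∃ g : V →ₗ[k] V', (∀ x ∈ U, g x = g₀ x) ∧ (∀ x ∈ T, g x = 0 → x = 0) ∧ T.map g = T' ∧
      ∀ x ∈ T, φ (g x) = ψ x := by
  classical
  set K : Submodule k V := T ⊓ LinearMap.ker ψ with hK
  set K' : Submodule k V' := T' ⊓ LinearMap.ker φ with hK'
  have hdK : finrank k K = finrank k K' := by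
    have h1 := finrank_ker_inf_add ψ T
    have h2 := finrank_ker_inf_add φ T'
    rw [himgT, hdT] at h1
    rw [hK, hK']
    omega
  have hdUK : finrank k ↥(U ⊓ K) = finrank k ↥(U' ⊓ K') := by
    have h1 := finrank_ker_inf_add ψ U
    have h2 := finrank_ker_inf_add φ U'
    rw [himgU, hdU] at h1
    rw [hK, hK', ← inf_assoc, ← inf_assoc, inf_eq_left.mpr hUT, inf_eq_left.mpr hUT']
    omega
  -- a complement of `K ⊓ U` in `K`, and likewise on the other side
  obtain ⟨K1, hK1U, hK1K, hdK1⟩ : ∃ K1 : Submodule k V, U ⊓ K1 = ⊥ ∧ (U ⊓ K) ⊔ K1 = K ∧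
      finrank k K1 + finrank k ↥(U ⊓ K) = finrank k K := by
    obtain ⟨C, hC⟩ := Submodule.exists_isCompl (U ⊓ K)
    have h1 : U ⊓ (K ⊓ C) = ⊥ := by rw [← inf_assoc]; exact hC.inf_eq_bot
    have h2 : (U ⊓ K) ⊔ (K ⊓ C) = K := by
      rw [inf_comm K C, ← sup_inf_assoc_of_le _ (inf_le_right : U ⊓ K ≤ K), hC.sup_eq_top,
        top_inf_eq]
    refine ⟨K ⊓ C, h1, h2, ?_⟩
    have h3 := Submodule.finrank_sup_add_finrank_inf_eq (U ⊓ K) (K ⊓ C)
    rw [h2, show (U ⊓ K) ⊓ (K ⊓ C) = ⊥ from eq_bot_iff.mpr ((inf_le_inf_right _ inf_le_left).trans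
      h1.le), finrank_bot] at h3
    omega
  obtain ⟨K1', hK1U', hK1K', hdK1'⟩ : ∃ K1 : Submodule k V', U' ⊓ K1 = ⊥ ∧ (U' ⊓ K') ⊔ K1 = K' ∧
      finrank k K1 + finrank k ↥(U' ⊓ K') = finrank k K' := by
    obtain ⟨C, hC⟩ := Submodule.exists_isCompl (U' ⊓ K')
    have h1 : U' ⊓ (K' ⊓ C) = ⊥ := by rw [← inf_assoc]; exact hC.inf_eq_bot
    have h2 : (U' ⊓ K') ⊔ (K' ⊓ C) = K' := by
      rw [inf_comm K' C, ← sup_inf_assoc_of_le _ (inf_le_right : U' ⊓ K' ≤ K'), hC.sup_eq_top,
        top_inf_eq]
    refine ⟨K' ⊓ C, h1, h2, ?_⟩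
    have h3 := Submodule.finrank_sup_add_finrank_inf_eq (U' ⊓ K') (K' ⊓ C)
    rw [h2, show (U' ⊓ K') ⊓ (K' ⊓ C) = ⊥ from eq_bot_iff.mpr ((inf_le_inf_right _ inf_le_left).trans
      h1.le), finrank_bot] at h3
    omega
  have hK1le : K1 ≤ K := hK1K ▸ le_sup_right
  have hK1le' : K1' ≤ K' := hK1K' ▸ le_sup_right
  let ε : K1 ≃ₗ[k] K1' := LinearEquiv.ofFinrankEq _ _ (by omega)
  -- a projection to `K1` killing `U`
  obtain ⟨r, hr⟩ := LinearMap.exists_leftInverse_of_injective (U.mkQ.comp K1.subtype) (by
    rw [LinearMap.ker_comp, Submodule.ker_mkQ]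
    exact Submodule.disjoint_iff_comap_eq_bot.mp (disjoint_iff.mpr (by rwa [inf_comm] at hK1U)))
  let pK : V →ₗ[k] K1 := r.comp U.mkQ
  have hpU : ∀ x ∈ U, pK x = 0 := by
    intro x hx
    simp [pK, (Submodule.Quotient.mk_eq_zero U).mpr hx]
  have hpK : ∀ x : K1, pK x = x := fun x => LinearMap.congr_fun hr x
  let G1 : V →ₗ[k] V' := g₀ + ((K1'.subtype.comp ε.toLinearMap) - g₀.comp K1.subtype).comp pK
  have hG1U : ∀ x ∈ U, G1 x = g₀ x := by intro x hx; simp [G1, hpU x hx]
  have hG1K : ∀ x : K1, G1 x = (ε x : V') := by intro x; simp [G1, hpK x]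
  -- a section of `φ` on `T'`
  obtain ⟨σ, hσ⟩ : ∃ σ : W →ₗ[k] V', ∀ w ∈ T'.map φ, σ w ∈ T' ∧ φ (σ w) = w := by
    obtain ⟨s, hs⟩ := LinearMap.exists_rightInverse_of_surjective
      ((φ.comp T'.subtype).rangeRestrict) (LinearMap.range_rangeRestrict _)
    obtain ⟨σ, hσ⟩ := LinearMap.exists_extend (T'.subtype.comp s)
    refine ⟨σ, fun w hw => ?_⟩
    have hw' : w ∈ LinearMap.range (φ.comp T'.subtype) := by
      rwa [LinearMap.range_comp, Submodule.range_subtype]
    have h := LinearMap.congr_fun hσ ⟨w, hw'⟩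
    simp only [LinearMap.coe_comp, Function.comp_apply, Submodule.subtype_apply] at h
    rw [h]
    refine ⟨(s _).2, ?_⟩
    have h2 := congrArg Subtype.val (LinearMap.congr_fun hs ⟨w, hw'⟩)
    simpa using h2
  obtain ⟨D, hD⟩ := Submodule.exists_isCompl (U ⊔ K1)
  let π : V →ₗ[k] V := (U ⊔ K1).subtype.comp ((U ⊔ K1).projectionOnto D hD)
  let g : V →ₗ[k] V' := G1.comp π + (σ.comp ψ).comp (LinearMap.id - π)
  have hgmem : ∀ x ∈ U ⊔ K1, g x = G1 x := by
    intro x hx
    have : π x = x := by
      simp [π, Submodule.projectionOnto_apply_left hD ⟨x, hx⟩]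
    simp [g, this]
  have hgU : ∀ x ∈ U, g x = g₀ x := fun x hx =>
    (hgmem x (le_sup_left (a := U) hx)).trans (hG1U x hx)
  have hUK : U ⊔ K1 ≤ T := sup_le hUT (hK1le.trans inf_le_left)
  have hcomm1 : ∀ x ∈ U ⊔ K1, φ (G1 x) = ψ x ∧ G1 x ∈ T' := by
    intro x hx
    obtain ⟨u, hu, z, hz, rfl⟩ := Submodule.mem_sup.mp hx
    rw [map_add, map_add, map_add, hG1U u hu, show G1 z = _ from hG1K ⟨z, hz⟩]
    have h1 := hK1le' (ε ⟨z, hz⟩).2
    have h2 := hK1le hz
    rw [hK', Submodule.mem_inf, LinearMap.mem_ker] at h1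
    rw [hK, Submodule.mem_inf, LinearMap.mem_ker] at h2
    refine ⟨by rw [hcomm u hu, h1.2, h2.2], ?_⟩
    exact T'.add_mem (hUT' (hmapU ▸ Submodule.mem_map_of_mem hu)) h1.1
  have hgT : ∀ x ∈ T, φ (g x) = ψ x ∧ g x ∈ T' := by
    intro x hx
    have hπ : π x ∈ U ⊔ K1 := ((U ⊔ K1).projectionOnto D hD x).2
    have h1 := hcomm1 _ hπ
    have h2 := hσ (ψ (x - π x))
      (himgT ▸ Submodule.mem_map_of_mem (T.sub_mem hx (hUK hπ)))
    simp only [g, LinearMap.add_apply, LinearMap.coe_comp, Function.comp_apply,
      LinearMap.sub_apply, LinearMap.id_apply]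
    refine ⟨?_, T'.add_mem h1.2 h2.1⟩
    rw [map_add, h1.1, h2.2, map_sub, add_sub_cancel]
  have hginj : ∀ x ∈ T, g x = 0 → x = 0 := by
    intro x hx hx0
    have hψ : ψ x = 0 := by rw [← (hgT x hx).1, hx0, map_zero]
    have hxU : x ∈ U ⊔ K1 := by
      have : x ∈ (U ⊓ K) ⊔ K1 := hK1K.symm ▸ ⟨hx, LinearMap.mem_ker.mpr hψ⟩
      exact (sup_le_sup_right inf_le_left K1) this
    obtain ⟨u, hu, z, hz, rfl⟩ := Submodule.mem_sup.mp hxU
    rw [hgmem _ hxU, map_add, hG1U u hu, show G1 z = _ from hG1K ⟨z, hz⟩] at hx0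
    have hmem : (ε ⟨z, hz⟩ : V') ∈ U' ⊓ K1' := ⟨by
      rw [eq_neg_of_add_eq_zero_right hx0]
      exact U'.neg_mem (hmapU ▸ Submodule.mem_map_of_mem hu), (ε ⟨z, hz⟩).2⟩
    rw [hK1U', Submodule.mem_bot] at hmem
    rw [hmem, add_zero] at hx0
    have hz0 : (⟨z, hz⟩ : K1) = 0 := ε.injective (by rw [map_zero]; exact Subtype.ext hmem)
    rw [hinj u hu hx0, show z = 0 from congrArg Subtype.val hz0, add_zero]
  refine ⟨g, hgU, hginj, ?_, fun x hx => (hgT x hx).1⟩
  refine Submodule.eq_of_le_of_finrank_eq (Submodule.map_le_iff_le_comap.mpr fun x hx => (hgT x hx).2) ?_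
  have h := finrank_ker_inf_add g T
  rw [show T ⊓ LinearMap.ker g = ⊥ from eq_bot_iff.mpr fun x hx => hginj x hx.1 hx.2,
    finrank_bot, add_zero] at h
  rw [h, hdT]

/-- Two increasing flags, ending with the whole space, with the same dimensions and the same
images in `W`, correspond under an isomorphism over `W`. -/
theorem exists_equiv_flag (ψ : V →ₗ[k] W) (φ : V' →ₗ[k] W) (n : ℕ) (F : ℕ → Submodule k V)
    (F' : ℕ → Submodule k V') (hF0 : F 0 = ⊥) (hF0' : F' 0 = ⊥) (hFn : F n = ⊤) (hFn' : F' n = ⊤)
    (hmono : ∀ i < n, F i ≤ F (i + 1)) (hmono' : ∀ i < n, F' i ≤ F' (i + 1))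
    (hdim : ∀ i ≤ n, finrank k (F i) = finrank k (F' i))
    (himg : ∀ i ≤ n, (F i).map ψ = (F' i).map φ) :
    ∃ g : V ≃ₗ[k] V', (∀ i ≤ n, (F i).map g.toLinearMap = F' i) ∧ ∀ x, φ (g x) = ψ x := by
  suffices key : ∀ m ≤ n, ∃ g : V →ₗ[k] V', (∀ x ∈ F m, g x = 0 → x = 0) ∧
      (∀ i ≤ m, (F i).map g = F' i) ∧ (∀ x ∈ F m, φ (g x) = ψ x) by
    obtain ⟨g, hinj, hmap, hcomm⟩ := key n le_rfl
    rw [hFn] at hinj hcomm
    have hbij : Function.Bijective g := by
      refine ⟨(injective_iff_map_eq_zero g).mpr fun x => hinj x trivial, ?_⟩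
      rw [← LinearMap.range_eq_top, LinearMap.range_eq_map, ← hFn, hmap n le_rfl, hFn']
    exact ⟨LinearEquiv.ofBijective g hbij, fun i hi => hmap i hi, fun x => hcomm x trivial⟩
  intro m hm
  induction m with
  | zero =>
    refine ⟨0, fun x hx _ => by rwa [hF0, Submodule.mem_bot] at hx, fun i hi => ?_, fun x hx => ?_⟩
    · obtain rfl : i = 0 := by omega
      simp [hF0, hF0']
    · rw [hF0, Submodule.mem_bot] at hx
      simp [hx]
  | succ m ih =>
    obtain ⟨g₀, hinj, hmap, hcomm⟩ := ih (by omega)
    obtain ⟨g, hgU, hginj, hgT, hgc⟩ := exists_extend_over ψ φ (hmono m (by omega))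
      (hmono' m (by omega)) (hdim m (by omega)) (hdim _ hm) (himg m (by omega)) (himg _ hm)
      g₀ hinj (hmap m le_rfl) hcomm
    refine ⟨g, hginj, fun i hi => ?_, hgc⟩
    rcases Nat.lt_or_eq_of_le hi with h | rfl
    · rw [← hmap i (by omega)]
      have hle : ∀ m' ≤ m, i ≤ m' → F i ≤ F m' := by
        intro m' hm' him'
        induction m' with
        | zero => obtain rfl : i = 0 := by omega
                  exact le_rfl
        | succ a iha =>
          rcases Nat.lt_or_eq_of_le him' with h' | rfl
          · exact (iha (by omega) (by omega)).trans (hmono a (by omega))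
          · exact le_rfl
      ext y
      simp only [Submodule.mem_map]
      constructor
      · rintro ⟨x, hx, rfl⟩; exact ⟨x, hx, (hgU x (hle m le_rfl (by omega) hx)).symm⟩
      · rintro ⟨x, hx, rfl⟩; exact ⟨x, hx, hgU x (hle m le_rfl (by omega) hx)⟩
    · exact hgT

end Step

section Chain

open W4c1btstackcounts

variable {k : Type*} [Field k] {d : ℕ → ℕ}

/-- The image of `k^{d i}` in `k^{d j}`, indexed by the target. -/
def chainImage (f : (i : ℕ) → Matrix (Fin (d (i + 1))) (Fin (d i)) k) (i : ℕ) :
    (j : ℕ) → Submodule k (Fin (d j) → k)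
  | 0 => if i = 0 then ⊤ else ⊥
  | j + 1 => if i = j + 1 then ⊤ else (chainImage f i j).map (Matrix.toLin' (f j))

variable (f : (i : ℕ) → Matrix (Fin (d (i + 1))) (Fin (d i)) k)

theorem chainImage_self (j : ℕ) : chainImage f j j = ⊤ := by
  cases j <;> simp [chainImage]

theorem chainImage_succ {i j : ℕ} (h : i ≤ j) :
    chainImage f i (j + 1) = (chainImage f i j).map (Matrix.toLin' (f j)) := by
  simp [chainImage, show i ≠ j + 1 by omega]

theorem chainImage_of_lt : ∀ {i j : ℕ}, j < i → chainImage f i j = ⊥ := by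
  intro i j
  induction j with
  | zero => intro h; simp [chainImage, show i ≠ 0 by omega]
  | succ j ih => intro h; simp [chainImage, show i ≠ j + 1 by omega, ih (by omega)]

theorem chainImage_mono {i : ℕ} : ∀ {j : ℕ}, i + 1 ≤ j → chainImage f i j ≤ chainImage f (i + 1) j := by
  intro j
  induction j with
  | zero => omega
  | succ j ih =>
    intro h
    rcases Nat.lt_or_eq_of_le h with h' | h'
    · rw [chainImage_succ f (by omega), chainImage_succ f (by omega)]
      exact Submodule.map_mono (ih (by omega))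
    · rw [← h', chainImage_self]
      exact le_top

theorem iterImage_eq (i n : ℕ) : iterImage f i n = chainImage f i (i + n) := by
  induction n with
  | zero => exact (chainImage_self f i).symm
  | succ n ih =>
    rw [iterImage, ih]
    exact (chainImage_succ f (Nat.le_add_right i n)).symm

theorem rankArray_eq {i j : ℕ} (h : i ≤ j) :
    rankArray f i j = finrank k (chainImage f i j) := by
  obtain ⟨n, rfl⟩ := Nat.exists_eq_add_of_le h
  rw [rankArray, if_pos h, Nat.add_sub_cancel_left, iterImage_eq]

theorem toLin'_conj (g : (j : ℕ) → Matrix.GeneralLinearGroup (Fin (d j)) k) (i : ℕ) :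
    Matrix.toLin' (conj g f i) = (Matrix.toLin' (g (i + 1)).val).comp
      ((Matrix.toLin' (f i)).comp (Matrix.toLin' ((g i)⁻¹).val)) := by
  simp only [conj, Matrix.toLin'_mul, LinearMap.comp_assoc]

theorem chainImage_conj (g : (j : ℕ) → Matrix.GeneralLinearGroup (Fin (d j)) k) :
    ∀ (i j : ℕ), chainImage (conj g f) i j = (chainImage f i j).map (Matrix.toLin' (g j).val) := by
  intro i j
  have hsurj : ∀ j, LinearMap.range (Matrix.toLin' (g j).val) = ⊤ := fun j => by
    rw [LinearMap.range_eq_top]
    intro x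
    refine ⟨Matrix.toLin' ((g j)⁻¹).val x, ?_⟩
    rw [← LinearMap.comp_apply, ← Matrix.toLin'_mul, ← Units.val_mul, mul_inv_cancel, Units.val_one,
      Matrix.toLin'_one, LinearMap.id_apply]
  induction j with
  | zero =>
    by_cases h : i = 0
    · simp [chainImage, h, Submodule.map_top, hsurj]
    · simp [chainImage, h]
  | succ j ih =>
    by_cases h : i = j + 1
    · subst h; simp [chainImage, Submodule.map_top, hsurj]
    · simp only [chainImage, h, if_false, ih, toLin'_conj, Submodule.map_comp]
      congr 2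
      rw [← Submodule.map_comp, ← Matrix.toLin'_mul, ← Units.val_mul, inv_mul_cancel, Units.val_one,
        Matrix.toLin'_one, Submodule.map_id]

theorem rankArray_conj (g : (j : ℕ) → Matrix.GeneralLinearGroup (Fin (d j)) k) {i j : ℕ}
    (h : i ≤ j) : rankArray (conj g f) i j = rankArray f i j := by
  rw [rankArray_eq _ h, rankArray_eq _ h, chainImage_conj]
  refine (Submodule.equivMapOfInjective _ ?_ _).finrank_eq.symm
  intro x y hxy
  have h2 := congrArg (Matrix.toLin' ((g j)⁻¹).val) hxy
  simpa only [← LinearMap.comp_apply, ← Matrix.toLin'_mul, ← Units.val_mul, inv_mul_cancel,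
    Units.val_one, Matrix.toLin'_one, LinearMap.id_apply] using h2

theorem isRankArray_rankArray (r : ℕ) : IsRankArray d r (rankArray f) := by
  refine ⟨fun j _ _ => ?_, fun i j _ hij _ => ?_, fun i j _ hij _ => ?_, fun i j hi hij _ => ?_⟩
  · rw [rankArray_eq f le_rfl, chainImage_self]; simp
  · rw [rankArray_eq f hij.le, rankArray_eq f hij]
    exact Submodule.finrank_mono (chainImage_mono f hij)
  · rw [rankArray_eq f hij, rankArray_eq f (by omega), chainImage_succ f hij]
    exact Submodule.finrank_map_le _ _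
  · obtain ⟨i, rfl⟩ : ∃ i', i = i' + 1 := ⟨i - 1, by omega⟩
    rw [Nat.add_sub_cancel, rankArray_eq f hij, rankArray_eq f (by omega : i ≤ j),
      rankArray_eq f (by omega : i + 1 ≤ j + 1), rankArray_eq f (by omega : i ≤ j + 1),
      chainImage_succ f hij, chainImage_succ f (by omega : i ≤ j)]
    have h1 := finrank_ker_inf_add (Matrix.toLin' (f j)) (chainImage f (i + 1) j)
    have h2 := finrank_ker_inf_add (Matrix.toLin' (f j)) (chainImage f i j)
    have h3 := Submodule.finrank_mono
      (inf_le_inf_right (LinearMap.ker (Matrix.toLin' (f j))) (chainImage_mono f hij))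
    omega

theorem exists_conj_of_rankArray_eq (f' : (i : ℕ) → Matrix (Fin (d (i + 1))) (Fin (d i)) k) (r : ℕ)
    (h : ∀ i j, 1 ≤ i → i ≤ j → j ≤ r → rankArray f i j = rankArray f' i j) :
    ∃ g : (j : ℕ) → Matrix.GeneralLinearGroup (Fin (d j)) k,
      ∀ i, 1 ≤ i → i + 1 ≤ r → conj g f i = f' i := by
  classical
  suffices key : ∀ n ≤ r, ∀ e : (Fin (d n) → k) ≃ₗ[k] (Fin (d n) → k),
      (∀ i, 1 ≤ i → i ≤ n → (chainImage f i n).map e.toLinearMap = chainImage f' i n) →
      ∃ g : (j : ℕ) → (Fin (d j) → k) ≃ₗ[k] (Fin (d j) → k), g n = e ∧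
        ∀ i, 1 ≤ i → i + 1 ≤ n → ∀ x,
          g (i + 1) (Matrix.toLin' (f i) x) = Matrix.toLin' (f' i) (g i x) by
    obtain ⟨e, he⟩ : ∃ e : (Fin (d r) → k) ≃ₗ[k] (Fin (d r) → k),
        ∀ i, 1 ≤ i → i ≤ r → (chainImage f i r).map e.toLinearMap = chainImage f' i r := by
      rcases Nat.eq_zero_or_pos r with rfl | hr
      · exact ⟨LinearEquiv.refl _ _, fun i h1 h2 => absurd h2 (by omega)⟩
      let F : ℕ → Submodule k (Fin (d r) → k) := fun i => if i = 0 then ⊥ else chainImage f i r
      let F' : ℕ → Submodule k (Fin (d r) → k) := fun i => if i = 0 then ⊥ else chainImage f' i r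
      obtain ⟨e, he, -⟩ := exists_equiv_flag (0 : (Fin (d r) → k) →ₗ[k] k) 0 r F F'
        (by simp [F]) (by simp [F']) (by simp [F, hr.ne', chainImage_self])
        (by simp [F', hr.ne', chainImage_self])
        (fun i hi => by
          by_cases h0 : i = 0
          · simp [F, h0]
          · simpa [F, h0] using chainImage_mono f hi)
        (fun i hi => by
          by_cases h0 : i = 0
          · simp [F', h0]
          · simpa [F', h0] using chainImage_mono f' hi)
        (fun i hi => by
          by_cases h0 : i = 0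
          · rw [show F i = ⊥ from if_pos h0, show F' i = ⊥ from if_pos h0]
          · rw [show F i = chainImage f i r from if_neg h0,
              show F' i = chainImage f' i r from if_neg h0, ← rankArray_eq _ hi, ← rankArray_eq _ hi]
            exact h i r (by omega) hi le_rfl)
        (fun i hi => by rw [Submodule.map_zero, Submodule.map_zero])
      exact ⟨e, fun i h1 h2 => by simpa [F, F', show i ≠ 0 by omega] using he i h2⟩
    obtain ⟨g, -, hg⟩ := key r le_rfl e he
    let G : (j : ℕ) → Matrix.GeneralLinearGroup (Fin (d j)) k := fun j =>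
      Matrix.GeneralLinearGroup.toLin.symm (LinearMap.GeneralLinearGroup.ofLinearEquiv (g j))
    have hG : ∀ j, Matrix.toLin' (G j).val = (g j).toLinearMap := by
      intro j
      have := MulEquiv.apply_symm_apply (Matrix.GeneralLinearGroup.toLin (n := Fin (d j)) (R := k))
        (LinearMap.GeneralLinearGroup.ofLinearEquiv (g j))
      exact congrArg Units.val this
    refine ⟨G, fun i h1 h2 => ?_⟩
    have h3 : (G (i + 1)).val * f i = f' i * (G i).val := by
      apply Matrix.toLin'.injective
      rw [Matrix.toLin'_mul, Matrix.toLin'_mul, hG, hG]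
      exact LinearMap.ext (hg i h1 h2)
    simp only [conj, h3, Matrix.mul_assoc, ← Units.val_mul, mul_inv_cancel, Units.val_one,
      Matrix.mul_one]
  intro n
  induction n with
  | zero =>
    intro _ e _
    exact ⟨Function.update (fun j => LinearEquiv.refl k (Fin (d j) → k)) 0 e,
      Function.update_self .., fun i h1 h2 => absurd h2 (by omega)⟩
  | succ n ih =>
    intro hn e he
    rcases Nat.eq_zero_or_pos n with rfl | hn0
    · exact ⟨Function.update (fun j => LinearEquiv.refl k (Fin (d j) → k)) (0 + 1) e,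
        Function.update_self .., fun i h1 h2 => absurd h2 (by omega)⟩
    let F : ℕ → Submodule k (Fin (d n) → k) := fun i => if i = 0 then ⊥ else chainImage f i n
    let F' : ℕ → Submodule k (Fin (d n) → k) := fun i => if i = 0 then ⊥ else chainImage f' i n
    obtain ⟨e', he', hcomm⟩ := exists_equiv_flag (e.toLinearMap.comp (Matrix.toLin' (f n)))
      (Matrix.toLin' (f' n)) n F F'
      (by simp [F]) (by simp [F']) (by simp [F, hn0.ne', chainImage_self])
      (by simp [F', hn0.ne', chainImage_self])
      (fun i hi => by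
        by_cases h0 : i = 0
        · simp [F, h0]
        · simpa [F, h0] using chainImage_mono f hi)
      (fun i hi => by
        by_cases h0 : i = 0
        · simp [F', h0]
        · simpa [F', h0] using chainImage_mono f' hi)
      (fun i hi => by
        by_cases h0 : i = 0
        · rw [show F i = ⊥ from if_pos h0, show F' i = ⊥ from if_pos h0]
        · rw [show F i = chainImage f i n from if_neg h0,
            show F' i = chainImage f' i n from if_neg h0, ← rankArray_eq _ hi, ← rankArray_eq _ hi]
          exact h i n (by omega) hi (by omega))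
      (fun i hi => by
        by_cases h0 : i = 0
        · simp [F, F', h0]
        · simp only [F, F', h0, if_false, Submodule.map_comp, ← chainImage_succ f hi,
            ← chainImage_succ f' hi]
          exact he i (by omega) (by omega))
    obtain ⟨g, hgn, hg⟩ := ih (by omega) e'
      (fun i h1 h2 => by simpa [F, F', show i ≠ 0 by omega] using he' i h2)
    refine ⟨Function.update g (n + 1) e, Function.update_self .., fun i h1 h2 x => ?_⟩
    rcases Nat.lt_or_eq_of_le h2 with h' | h'
    · rw [Function.update_of_ne (by omega), Function.update_of_ne (by omega)]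
      exact hg i h1 (by omega) x
    · obtain rfl : i = n := by omega
      rw [Function.update_self, Function.update_of_ne (by omega), hgn]
      exact (hcomm x).symm

theorem exists_rankArray_eq (r : ℕ) (a : ℕ → ℕ → ℕ) (ha : IsRankArray d r a) :
    ∃ f : (i : ℕ) → Matrix (Fin (d (i + 1))) (Fin (d i)) k,
      ∀ i j, 1 ≤ i → i ≤ j → j ≤ r → rankArray f i j = a i j := by
  classical
  obtain ⟨had, hai, haj, hsq⟩ := ha
  -- `a` with a zero row
  let b : ℕ → ℕ → ℕ := fun i j => if i = 0 then 0 else a i j
  have hb : ∀ i j, 1 ≤ i → i ≤ j → j < r →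
      b (i - 1) j ≤ b i j ∧ b (i - 1) (j + 1) ≤ b i (j + 1) ∧
        b i (j + 1) + b (i - 1) j ≤ b i j + b (i - 1) (j + 1) := by
    intro i j h1 h2 h3
    by_cases h : i = 1
    · subst h
      simp [b, haj 1 j le_rfl h2 h3]
    · have e1 := hai (i - 1) j (by omega) (by omega) (by omega)
      have e2 := hai (i - 1) (j + 1) (by omega) (by omega) (by omega)
      rw [Nat.sub_add_cancel h1] at e1 e2
      simp only [b, show i - 1 ≠ 0 by omega, show i ≠ 0 by omega, if_false]
      exact ⟨e1, e2, hsq i j (by omega) h2 h3⟩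
  let Rel : ℕ → ℕ → ℕ → Prop := fun j s t => ∃ i, 1 ≤ i ∧ i ≤ j ∧ b (i - 1) j ≤ t ∧ t < b i j ∧
    s < b i (j + 1) ∧ s + b (i - 1) j = t + b (i - 1) (j + 1)
  let f : (i : ℕ) → Matrix (Fin (d (i + 1))) (Fin (d i)) k :=
    fun j => Matrix.of fun s t => if Rel j s t then 1 else 0
  have bmono : ∀ j i i', i ≤ i' → i' ≤ j → j ≤ r → b i j ≤ b i' j := by
    intro j i i' h
    induction h with
    | refl => intros; exact le_rfl
    | @step m hm ih =>
      intro h2 h3
      refine (ih (by omega) h3).trans ?_
      by_cases hm0 : m = 0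
      · simp [b, hm0]
      · simpa [b, hm0] using hai m j (by omega) (by omega) h3
  have huniq : ∀ j t i i', j ≤ r → 1 ≤ i → i ≤ j → b (i - 1) j ≤ t → t < b i j → 1 ≤ i' → i' ≤ j →
      b (i' - 1) j ≤ t → t < b i' j → i = i' := by
    intro j t i i' hj h1 h2 h3 h4 h1' h2' h3' h4'
    rcases lt_trichotomy i i' with h | h | h
    · have := bmono j i (i' - 1) (by omega) (by omega) hj; omega
    · exact h
    · have := bmono j i' (i - 1) (by omega) (by omega) hj; omega
  let P : (j : ℕ) → ℕ → Submodule k (Fin (d j) → k) := fun j m =>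
    Submodule.span k ((fun t => Pi.single t (1 : k)) '' {t : Fin (d j) | (t : ℕ) < m})
  have hP : ∀ j m, m ≤ d j → finrank k (P j m) = m := by
    intro j m hm
    have hli : LinearIndependent k (fun t : {t : Fin (d j) // (t : ℕ) < m} =>
        (Pi.single (t : Fin (d j)) (1 : k) : Fin (d j) → k)) :=
      by
        have h := (Pi.basisFun k (Fin (d j))).linearIndependent.comp
          (Subtype.val : {t : Fin (d j) // (t : ℕ) < m} → Fin (d j)) Subtype.val_injective
        simpa [Function.comp_def] using h
    have h1 := finrank_span_eq_card hli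
    have e : P j m = Submodule.span k (Set.range fun t : {t : Fin (d j) // (t : ℕ) < m} =>
        (Pi.single (t : Fin (d j)) (1 : k) : Fin (d j) → k)) :=
      congrArg (Submodule.span k) (Set.image_eq_range _ _)
    rw [e]
    refine h1.trans ?_
    rw [Fintype.card_subtype]
    have : (Finset.univ.filter fun t : Fin (d j) => (t : ℕ) < m) =
        Finset.univ.map (Fin.castLEEmb hm) := by
      ext t
      simp only [Finset.mem_filter, Finset.mem_univ, true_and, Finset.mem_map]
      exact ⟨fun h => ⟨⟨t, h⟩, rfl⟩, by rintro ⟨x, rfl⟩; exact x.2⟩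
    rw [this, Finset.card_map, Finset.card_univ, Fintype.card_fin]
  have hble : ∀ i j, i ≤ j → j ≤ r → b i j ≤ d j := by
    intro i j h1 h2
    by_cases h0 : j = 0
    · simp [b, show i = 0 by omega]
    · refine (bmono j i j h1 le_rfl h2).trans ?_
      simp [b, h0, had j (by omega) h2]
  have himg : ∀ i j, 1 ≤ i → i ≤ j → j ≤ r → chainImage f i j = P j (b i j) := by
    intro i j h1
    induction j with
    | zero => omega
    | succ j ih =>
      intro h2 h3
      rcases Nat.lt_or_eq_of_le h2 with h | h
      · have hij : i ≤ j := by omega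
        rw [chainImage_succ f hij, ih hij (by omega)]
        simp only [P, Submodule.map_span, ← Set.image_comp]
        apply le_antisymm <;> rw [Submodule.span_le]
        · rintro x ⟨t, ht, rfl⟩
          simp only [Set.mem_setOf_eq] at ht
          simp only [Function.comp_apply, Matrix.toLin'_apply, Matrix.mulVec_single_one]
          have hl : ∃ l, (t : ℕ) < b l j := ⟨i, ht⟩
          have hl1 : 1 ≤ Nat.find hl := by
            by_contra h0
            have := Nat.find_spec hl
            simp [show Nat.find hl = 0 by omega, b] at this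
          have hl2 : Nat.find hl ≤ i := Nat.find_min' hl ht
          have hl3 : b (Nat.find hl - 1) j ≤ t := not_lt.mp (Nat.find_min hl (by omega))
          set l := Nat.find hl with hldef
          by_cases hs : (t : ℕ) + b (l - 1) (j + 1) < b l (j + 1) + b (l - 1) j
          · have hsd : (t : ℕ) + b (l - 1) (j + 1) - b (l - 1) j < d (j + 1) := by
              have := hble l (j + 1) (by omega) h3
              omega
            refine Submodule.subset_span ⟨⟨_, hsd⟩, ?_, ?_⟩
            · simp only [Set.mem_setOf_eq]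
              have := bmono (j + 1) l i hl2 (by omega) h3
              omega
            · funext s
              simp only [f, Matrix.col_apply, Matrix.of_apply, Pi.single_apply, Fin.ext_iff]
              by_cases hse : (s : ℕ) = (t : ℕ) + b (l - 1) (j + 1) - b (l - 1) j
              · rw [if_pos hse, if_pos]
                exact ⟨l, hl1, by omega, hl3, Nat.find_spec hl, by omega, by omega⟩
              · rw [if_neg hse, if_neg]
                rintro ⟨l', e1, e2, e3, e4, e5, e6⟩
                obtain rfl := huniq j t l' l (by omega) e1 e2 e3 e4 hl1 (by omega) hl3 (Nat.find_spec hl)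
                omega
          · have h0 : (f j).col t = 0 := by
              funext s
              simp only [f, Matrix.col_apply, Matrix.of_apply, Pi.zero_apply]
              rw [if_neg]
              rintro ⟨l', e1, e2, e3, e4, e5, e6⟩
              obtain rfl := huniq j t l' l (by omega) e1 e2 e3 e4 hl1 (by omega) hl3
                (Nat.find_spec hl)
              omega
            rw [SetLike.mem_coe, h0]
            exact Submodule.zero_mem _
        · rintro x ⟨s, hs, rfl⟩
          simp only [Set.mem_setOf_eq] at hs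
          have hl : ∃ l, (s : ℕ) < b l (j + 1) := ⟨i, hs⟩
          have hl1 : 1 ≤ Nat.find hl := by
            by_contra h0
            have := Nat.find_spec hl
            simp [show Nat.find hl = 0 by omega, b] at this
          have hl2 : Nat.find hl ≤ i := Nat.find_min' hl hs
          have hl3 : b (Nat.find hl - 1) (j + 1) ≤ s := not_lt.mp (Nat.find_min hl (by omega))
          have hspec := Nat.find_spec hl
          set l := Nat.find hl with hldef
          obtain ⟨q1, q2, q3⟩ := hb l j hl1 (by omega) (by omega)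
          have htd : (s : ℕ) + b (l - 1) j - b (l - 1) (j + 1) < d j := by
            have := hble l j (by omega) (by omega)
            omega
          refine Submodule.subset_span ⟨⟨_, htd⟩, ?_, ?_⟩
          · simp only [Set.mem_setOf_eq]
            have := bmono j l i hl2 hij (by omega)
            omega
          · simp only [Function.comp_apply, Matrix.toLin'_apply, Matrix.mulVec_single_one]
            funext s'
            simp only [f, Matrix.col_apply, Matrix.of_apply, Pi.single_apply, Fin.ext_iff]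
            by_cases hse : (s' : ℕ) = (s : ℕ)
            · rw [if_pos hse, if_pos]
              exact ⟨l, hl1, by omega, by omega, by omega, by omega,
                by omega⟩
            · rw [if_neg hse, if_neg]
              rintro ⟨l', e1, e2, e3, e4, e5, e6⟩
              obtain rfl := huniq j _ l' l (by omega) e1 e2 e3 e4 hl1 (by omega) (by omega) (by omega)
              omega
      · subst h
        rw [chainImage_self, show b (j + 1) (j + 1) = d (j + 1) by simp [b, had (j + 1) h1 h3]]
        refine (Submodule.eq_top_of_finrank_eq ?_).symm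
        rw [hP _ _ le_rfl]
        simp
  refine ⟨f, fun i j h1 h2 h3 => ?_⟩
  rw [rankArray_eq f h2, himg i j h1 h2 h3, hP _ _ (hble i j h2 h3)]
  simp [b, show i ≠ 0 by omega]

end Chain

end Groth.Agent.CommAlg4
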