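import Mathlib

/-!
# Exactness and flatness over an Artinian local ring from the residue field
-/

set_option autoImplicit false

universe u v

namespace Groth.Agent.CommAlg4

open TensorProduct Pointwise

variable {A : Type u} [CommRing A] {N : Type v} [AddCommGroup N] [Module A N]

theorem one_tmul_eq_zero_iff_mem_smul (J : Ideal A) (r : N) :
    ((1 : A ⧸ J) ⊗ₜ[A] r) = 0 ↔ r ∈ J • (⊤ : Submodule A N) := by
  rw [← (TensorProduct.quotTensorEquivQuotSMul N J).map_eq_zero_iff,
    ← (Ideal.Quotient.mk J).map_one, TensorProduct.quotTensorEquivQuotSMul_mk_tmul, one_smul,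
    Submodule.Quotient.mk_eq_zero]

theorem exists_one_tmul (J : Ideal A) (z : (A ⧸ J) ⊗[A] N) : ∃ r : N, (1 : A ⧸ J) ⊗ₜ[A] r = z := by
  induction z with
  | zero => exact ⟨0, tmul_zero _ _⟩
  | tmul x r =>
    obtain ⟨x, rfl⟩ := Ideal.Quotient.mk_surjective x
    exact ⟨x • r, by rw [← smul_tmul, Algebra.smul_def, mul_one]; rfl⟩
  | add x y hx hy =>
    obtain ⟨a, rfl⟩ := hx; obtain ⟨b, rfl⟩ := hy
    exact ⟨a + b, tmul_add _ _ _⟩

/-- In a flat module, `a r ∈ J N` forces `r ∈ (J : a) N`. -/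
theorem mem_colon_smul_of_smul_mem [Module.Flat A N] (J K : Ideal A) (a : A)
    (hK : ∀ x, x ∈ K ↔ x * a ∈ J) {r : N} (h : a • r ∈ J • (⊤ : Submodule A N)) :
    r ∈ K • (⊤ : Submodule A N) := by
  let l : A →ₗ[A] A ⧸ J := (Submodule.mkQ J).comp (LinearMap.toSpanSingleton A A a)
  have hex : Function.Exact K.subtype l := by
    intro x
    show Submodule.Quotient.mk (x • a) = 0 ↔ _
    rw [Submodule.Quotient.mk_eq_zero, smul_eq_mul, ← hK]
    exact ⟨fun hx => ⟨⟨x, hx⟩, rfl⟩, by rintro ⟨y, rfl⟩; exact y.2⟩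
  have h0 : l.rTensor N ((1 : A) ⊗ₜ r) = 0 := by
    rw [LinearMap.rTensor_tmul]
    have : l 1 = a • (1 : A ⧸ J) := by
      show Submodule.Quotient.mk ((1 : A) • a) = a • Ideal.Quotient.mk J 1
      rw [one_smul, Algebra.smul_def, map_one, mul_one]
      rfl
    rw [this, smul_tmul]
    exact (one_tmul_eq_zero_iff_mem_smul J _).2 h
  obtain ⟨w, hw⟩ := (Module.Flat.rTensor_exact N hex _).1 h0
  rw [← Ideal.subtype_rTensor_range N K]
  exact ⟨w, by simp [hw]⟩

variable {P Q R : Type v} [AddCommGroup P] [Module A P] [AddCommGroup Q] [Module A Q]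
  [AddCommGroup R] [Module A R] [IsLocalRing A] [IsArtinianRing A]

theorem mem_range_sup_of_exact_residue [Module.Flat A R] (f : P →ₗ[A] Q) (g : Q →ₗ[A] R)
    (hfg : g ∘ₗ f = 0)
    (hred : Function.Exact (f.lTensor (IsLocalRing.ResidueField A)) (g.lTensor (IsLocalRing.ResidueField A)))
    (J : Ideal A) : ∀ q : Q, g q ∈ J • (⊤ : Submodule A R) →
      q ∈ LinearMap.range f ⊔ J • (⊤ : Submodule A Q) := by
  classical
  have hgf : ∀ p, g (f p) = 0 := fun p => congrArg (fun m => m p) hfg
  have hmax : ∀ q : Q, g q ∈ IsLocalRing.maximalIdeal A • (⊤ : Submodule A R) →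
      q ∈ LinearMap.range f ⊔ IsLocalRing.maximalIdeal A • (⊤ : Submodule A Q) := by
    intro q hq
    have h0 : g.lTensor (IsLocalRing.ResidueField A) ((1 : A ⧸ IsLocalRing.maximalIdeal A) ⊗ₜ q) = 0 :=
      (one_tmul_eq_zero_iff_mem_smul _ _).2 hq
    obtain ⟨z, hz⟩ := (hred _).1 h0
    obtain ⟨p, hp⟩ := exists_one_tmul (IsLocalRing.maximalIdeal A) z
    subst hp
    refine Submodule.mem_sup.2 ⟨f p, ⟨p, rfl⟩, q - f p, ?_, add_sub_cancel _ _⟩
    refine (one_tmul_eq_zero_iff_mem_smul _ _).1 ?_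
    rw [tmul_sub, sub_eq_zero]
    exact hz.symm
  induction J using (wellFounded_gt (α := Ideal A)).induction with
  | _ J ih =>
    intro q hq
    rcases eq_or_ne J ⊤ with rfl | hJ
    · rw [Submodule.top_smul]; exact Submodule.mem_sup_right trivial
    by_cases hJm : J = IsLocalRing.maximalIdeal A
    · subst hJm; exact hmax q hq
    -- an element of the socle of `A/J`
    obtain ⟨n, hn⟩ : IsNilpotent (IsLocalRing.maximalIdeal A) :=
      IsLocalRing.jacobson_eq_maximalIdeal (⊥ : Ideal A) bot_ne_top ▸ IsArtinianRing.isNilpotent_jacobson_bot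
    obtain ⟨a, haJ, ha⟩ : ∃ a ∉ J, ∀ m ∈ IsLocalRing.maximalIdeal A, m * a ∈ J := by
      by_contra! hno
      have step : ∀ k, ∃ y ∉ J, y ∈ IsLocalRing.maximalIdeal A ^ k := by
        intro k
        induction k with
        | zero => exact ⟨1, fun h1 => hJ ((Ideal.eq_top_iff_one J).2 h1), by simp⟩
        | succ k ihk =>
          obtain ⟨y, hy, hyk⟩ := ihk
          obtain ⟨m, hm, hmy⟩ := hno y hy
          exact ⟨m * y, hmy, by rw [pow_succ']; exact Ideal.mul_mem_mul hm hyk⟩
      obtain ⟨y, hy, hyn⟩ := step n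
      rw [hn] at hyn
      exact hy ((Submodule.mem_bot A).1 hyn ▸ J.zero_mem)
    have hK : ∀ x, x ∈ IsLocalRing.maximalIdeal A ↔ x * a ∈ J := by
      refine fun x => ⟨ha x, fun hx => ?_⟩
      by_contra hxm
      obtain ⟨u, rfl⟩ := IsLocalRing.notMem_maximalIdeal.1 hxm
      exact haJ (by simpa using J.mul_mem_left (↑u⁻¹) hx)
    have hlt : J < J ⊔ Ideal.span {a} := lt_of_le_of_ne le_sup_left fun e =>
      haJ (e ▸ Ideal.mem_sup_right (Ideal.mem_span_singleton_self a))
    have h1 := ih _ hlt q (Submodule.smul_mono_left le_sup_left hq)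
    rw [Submodule.sup_smul, ← sup_assoc] at h1
    obtain ⟨q₁, hq₁, q₂, hq₂, rfl⟩ := Submodule.mem_sup.1 h1
    rw [Submodule.ideal_span_singleton_smul] at hq₂
    obtain ⟨q₂, -, rfl⟩ := (Submodule.mem_smul_pointwise_iff_exists _ _ _).1 hq₂
    have hgmap : ∀ x ∈ LinearMap.range f ⊔ J • (⊤ : Submodule A Q), g x ∈ J • (⊤ : Submodule A R) := by
      intro x hx
      obtain ⟨_, ⟨p, rfl⟩, y, hy, rfl⟩ := Submodule.mem_sup.1 hx
      rw [map_add, hgf, zero_add]
      have := Submodule.mem_map_of_mem (f := g) hy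
      rw [Submodule.map_smul''] at this
      exact Submodule.smul_mono le_rfl le_top this
    have h2 : a • g q₂ ∈ J • (⊤ : Submodule A R) := by
      rw [map_add, map_smul] at hq
      exact (Submodule.add_mem_iff_right _ (hgmap q₁ hq₁)).1 hq
    obtain ⟨_, ⟨p, rfl⟩, y, hy, e⟩ := Submodule.mem_sup.1
      (hmax q₂ (mem_colon_smul_of_smul_mem J _ a hK h2))
    refine add_mem hq₁ ?_
    rw [← e, smul_add]
    refine add_mem (Submodule.mem_sup_left ⟨a • p, map_smul f a p⟩) (Submodule.mem_sup_right ?_)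
    have hle : Ideal.span {a} * IsLocalRing.maximalIdeal A ≤ J :=
      Ideal.span_singleton_mul_le_iff.2 fun m hm => by rw [mul_comm]; exact ha m hm
    refine Submodule.smul_mono_left hle ?_
    rw [mul_smul]
    exact Submodule.smul_mem_smul (Ideal.mem_span_singleton_self a) hy

theorem flat_and_exact_of_exact_residue {M : Type v} [AddCommGroup M] [Module A M]
    [Module.Flat A R] (f : P →ₗ[A] Q) (g : Q →ₗ[A] R) (h : R →ₗ[A] M)
    (hfg : g ∘ₗ f = 0) (hgh : Function.Exact g h) (hh : Function.Surjective h)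
    (hred : Function.Exact (f.lTensor (IsLocalRing.ResidueField A)) (g.lTensor (IsLocalRing.ResidueField A))) :
    Module.Flat A M ∧ Function.Exact f g := by
  refine ⟨Module.Flat.iff_rTensor_injective'.2 fun J => ?_, fun q => ⟨fun hq => ?_, ?_⟩⟩
  · rw [injective_iff_map_eq_zero]
    intro z hz
    obtain ⟨w, rfl⟩ := LinearMap.lTensor_surjective J hh z
    have hlin : ∀ w : J ⊗[A] R, TensorProduct.lid A M (J.subtype.rTensor M (h.lTensor J w)) =
        h (TensorProduct.lid A R (J.subtype.rTensor R w)) := by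
      intro w
      induction w with
      | zero => simp
      | tmul x r => simp
      | add x y hx hy => simp [hx, hy]
    have hr : TensorProduct.lid A R (J.subtype.rTensor R w) ∈ J • (⊤ : Submodule A R) := by
      rw [← Ideal.subtype_rTensor_range R J]; exact ⟨w, rfl⟩
    have hh0 : h (TensorProduct.lid A R (J.subtype.rTensor R w)) = 0 := by rw [← hlin, hz, map_zero]
    obtain ⟨q, hq⟩ := (hgh _).1 hh0
    obtain ⟨_, ⟨p, rfl⟩, q', hq', rfl⟩ := Submodule.mem_sup.1
      (mem_range_sup_of_exact_residue f g hfg hred J q (by rw [hq]; exact hr))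
    rw [← Ideal.subtype_rTensor_range Q J] at hq'
    obtain ⟨wQ, hwQ⟩ := hq'
    have hlin' : ∀ w : J ⊗[A] Q, TensorProduct.lid A R (J.subtype.rTensor R (g.lTensor J w)) =
        g (TensorProduct.lid A Q (J.subtype.rTensor Q w)) := by
      intro w
      induction w with
      | zero => simp
      | tmul x r => simp
      | add x y hx hy => simp [hx, hy]
    have hinj := (Module.Flat.iff_rTensor_injective' (R := A) (M := R)).1 inferInstance J
    have hw : g.lTensor J wQ = w := by
      refine hinj ((TensorProduct.lid A R).injective ?_)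
      rw [hlin']
      rw [map_add, show g (f p) = 0 from congrArg (fun m => m p) hfg, zero_add, ← hwQ] at hq
      simpa using hq
    rw [← hw, ← LinearMap.lTensor_comp_apply, hgh.linearMap_comp_eq_zero, LinearMap.lTensor_zero,
      LinearMap.zero_apply]
  · have h1 := mem_range_sup_of_exact_residue f g hfg hred ⊥ q (by rw [hq]; exact Submodule.zero_mem _)
    rwa [Submodule.bot_smul, sup_bot_eq] at h1
  · rintro ⟨p, rfl⟩
    exact congrArg (fun m => m p) hfg

end Groth.Agent.CommAlg4
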