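import Groth.Prelude.Def_GLin6
import Mathlib.Algebra.MvPolynomial.Coeff
import Mathlib.RingTheory.MvPolynomial.Homogeneous

/-!
# Orbits of forms as substitutions
-/

set_option autoImplicit false
universe u v

noncomputable section

open MvPolynomial CoordGrp TensorProduct

namespace Groth.Agent.CommAlg4.FormAct

variable {N d : ℕ}

/-- The substitution `x_j ↦ Σ_i M_{ji} x_i`, i.e. `F(x) ↦ F(M x)`. -/
def subst {B : Type v} [CommRing B] (M : Matrix (Fin N) (Fin N) B) :
    MvPolynomial (Fin N) B →ₐ[B] MvPolynomial (Fin N) B :=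
  aeval fun j => ∑ i, C (M j i) * X i

theorem subst_X {B : Type v} [CommRing B] (M : Matrix (Fin N) (Fin N) B) (j : Fin N) :
    subst M (X j) = ∑ i, C (M j i) * X i := aeval_X _ _

theorem subst_subst {B : Type v} [CommRing B] (M M' : Matrix (Fin N) (Fin N) B) (p : MvPolynomial (Fin N) B) :
    subst M (subst M' p) = subst (M' * M) p := by
  refine AlgHom.congr_fun (MvPolynomial.algHom_ext (f := (subst M).comp (subst M')) (g := subst (M' * M)) fun j => ?_) p
  rw [AlgHom.comp_apply, subst_X, subst_X, map_sum]
  simp only [map_mul, algHom_C, algebraMap_eq, subst_X, Finset.mul_sum, Matrix.mul_apply, map_sum, Finset.sum_mul]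
  rw [Finset.sum_comm]
  exact Finset.sum_congr rfl fun i _ => Finset.sum_congr rfl fun l _ => by ring

theorem subst_one {B : Type v} [CommRing B] (p : MvPolynomial (Fin N) B) : subst (1 : Matrix (Fin N) (Fin N) B) p = p := by
  refine AlgHom.congr_fun (MvPolynomial.algHom_ext (f := subst 1) (g := AlgHom.id B _) fun j => ?_) p
  rw [subst_X, AlgHom.id_apply, Finset.sum_eq_single j]
  · simp
  · intro i _ hi; simp [Matrix.one_apply_ne hi.symm]
  · simp

theorem map_subst {B : Type v} {B' : Type*} [CommRing B] [CommRing B'] (f : B →+* B')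
    (M : Matrix (Fin N) (Fin N) B) (p : MvPolynomial (Fin N) B) :
    map f (subst M p) = subst (M.map f) (map f p) := by
  refine RingHom.congr_fun (ringHom_ext (f := (map f).comp (subst M).toRingHom)
    (g := (subst (M.map f)).toRingHom.comp (map f)) (fun r => ?_) fun j => ?_) p
  · simp [subst]
  · simp [subst]

theorem eval_subst {B : Type v} [CommRing B] (M : Matrix (Fin N) (Fin N) B) (x : Fin N → B)
    (p : MvPolynomial (Fin N) B) : eval x (subst M p) = eval (M.mulVec x) p := by
  refine RingHom.congr_fun (ringHom_ext (f := (eval x).comp (subst M).toRingHom)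
    (g := eval (M.mulVec x)) (fun r => ?_) fun j => ?_) p
  · simp [subst]
  · simp [subst, Matrix.mulVec, dotProduct]

theorem isHomogeneous_subst {B : Type v} [CommRing B] (M : Matrix (Fin N) (Fin N) B)
    {p : MvPolynomial (Fin N) B} (hp : p.IsHomogeneous d) : (subst M p).IsHomogeneous d := by
  have h := hp.aeval (fun j => ∑ i, C (M j i) * X i) (n := 1) fun j =>
    IsHomogeneous.sum _ _ _ fun i _ => (isHomogeneous_X B i).C_mul _
  rwa [one_mul] at h

theorem subst_diagonal_monomial {B : Type v} [CommRing B] (δ : Fin N → B) (e : Fin N →₀ ℕ) (c : B) :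
    subst (Matrix.diagonal δ) (monomial e c) = monomial e (c * ∏ i, δ i ^ e i) := by
  classical
  rw [subst, aeval_monomial, algebraMap_eq, Finsupp.prod_fintype _ _ fun i => pow_zero _,
    monomial_eq, Finsupp.prod_fintype _ _ fun i => pow_zero _, map_mul, map_prod, mul_assoc, ← Finset.prod_mul_distrib]
  refine congrArg₂ (· * ·) rfl (Finset.prod_congr rfl fun i _ => ?_)
  rw [Finset.sum_eq_single i, Matrix.diagonal_apply_eq, mul_pow, map_pow]
  · intro l _ hl; simp [Matrix.diagonal_apply_ne δ hl.symm]
  · simp

theorem coeff_subst_diagonal {B : Type v} [CommRing B] (δ : Fin N → B) (p : MvPolynomial (Fin N) B) (e : Fin N →₀ ℕ) :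
    coeff e (subst (Matrix.diagonal δ) p) = coeff e p * ∏ i, δ i ^ e i := by
  classical
  induction p using MvPolynomial.induction_on' with
  | monomial s a =>
    rw [subst_diagonal_monomial, coeff_monomial, coeff_monomial]
    split_ifs with h
    · rw [h]
    · rw [zero_mul]
  | add p q hp hq => simp [map_add, coeff_add, hp, hq, add_mul]

theorem isHomogeneous_formPoly {B : Type v} [CommRing B] (a : FormIdx N d → B) :
    (formPoly a).IsHomogeneous d :=
  IsHomogeneous.sum _ _ _ fun m _ => isHomogeneous_monomial _ m.2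

variable {k : Type u} [CommRing k] {B : Type v} [CommRing B] [Algebra k B]

/-- The coefficients of a substituted monomial are the matrix coefficients on forms. -/
theorem coeff_std (G : Matrix (Fin N) (Fin N) B) (l m : FormIdx N d) :
    coeff l.1 (aeval (fun i => ∑ j, C (G j i) * X j) (monomial m.1 (1 : k)) : MvPolynomial (Fin N) B) =
      CoordGrp.Mat.aeval N k G (formCoeff k N d l m) := by
  let Cg : Mat N k →ₐ[k] MvPolynomial (Fin N) B :=
    (IsScalarTower.toAlgHom k B (MvPolynomial (Fin N) B)).comp (CoordGrp.Mat.aeval N k G)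
  let ι : MvPolynomial (Fin N) k →ₐ[k] MvPolynomial (Fin N) B := aeval fun i => X i
  let Ψ := Algebra.TensorProduct.lift ι Cg fun _ _ => Commute.all _ _
  have hΨ : Ψ.comp (stdCoactAlg N k) = aeval fun i => ∑ j, C (G j i) * X j :=
    MvPolynomial.algHom_ext fun i => by
      simp only [AlgHom.comp_apply, stdCoactAlg_X, map_sum, aeval_X, Ψ, Algebra.TensorProduct.lift_tmul, ι, Cg]
      exact Finset.sum_congr rfl fun j _ => by simp [mul_comm]
  rw [← hΨ, AlgHom.comp_apply, formCoeff]
  generalize stdCoactAlg N k (monomial m.1 1) = w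
  induction w using TensorProduct.induction_on with
  | zero => simp
  | tmul p c =>
    rw [coeffT_tmul, map_smul, Algebra.TensorProduct.lift_tmul, mul_comm]
    have hι : ι p = map (algebraMap k B) p :=
      AlgHom.congr_fun (MvPolynomial.algHom_ext (f := ι) (g := mapAlgHom (Algebra.ofId k B)) fun i => by simp [ι]) p
    rw [hι, show Cg c = C (CoordGrp.Mat.aeval N k G c) from rfl, coeff_C_mul, coeff_map, Algebra.smul_def, mul_comm]
  | add x y hx hy => rw [map_add, map_add, map_add, coeff_add, hx, hy]

theorem coeff_linear_pow (y : Fin N → B) (l : FormIdx N d) :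
    coeff l.1 ((∑ i, C (y i) * X i) ^ d : MvPolynomial (Fin N) B) = (l.1.multinomial : B) * ∏ i, y i ^ l.1 i := by
  simp only [← smul_eq_C_mul]
  rw [coeff_linearCombination_X_pow_of_fintype, if_pos, Finsupp.prod_fintype _ _ fun i => pow_zero _]
  exact l.2

/-- The transpose of the substitution on monomials. -/
theorem subst_monomial_eq (G : Matrix (Fin N) (Fin N) B) (l : FormIdx N d) :
    (l.1.multinomial : MvPolynomial (Fin N) B) * subst G (monomial l.1 1) =
      ∑ m : FormIdx N d, monomial m.1 ((m.1.multinomial : B) * CoordGrp.Mat.aeval N k G (formCoeff k N d l m)) := by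
  classical
  let P := MvPolynomial (Fin N) B
  let σ : MvPolynomial (Fin N) P →ₐ[P] MvPolynomial (Fin N) P :=
    aeval fun i => ∑ j, C (C (G j i)) * X j
  let L : MvPolynomial (Fin N) P := ∑ i, C (X i : P) * X i
  have hσL : σ L = ∑ j, C (subst G (X j)) * X j := by
    simp only [L, σ, map_sum, map_mul, algHom_C, algebraMap_eq, aeval_X, subst_X, Finset.mul_sum, Finset.sum_mul]
    rw [Finset.sum_comm]
    exact Finset.sum_congr rfl fun j _ => Finset.sum_congr rfl fun i _ => by ring
  have hsub : subst G (monomial l.1 1) = ∏ i, subst G (X i) ^ l.1 i := by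
    rw [monomial_eq, map_one, one_mul, Finsupp.prod_fintype _ _ fun i => pow_zero _, map_prod]
    simp [map_pow]
  have e1 : coeff l.1 (σ (L ^ d)) = (l.1.multinomial : P) * subst G (monomial l.1 1) := by
    rw [map_pow, hσL, coeff_linear_pow, hsub]
  have e2 : L ^ d = ∑ m : FormIdx N d, C ((m.1.multinomial : P) * ∏ i, (X i : P) ^ m.1 i) *
      monomial m.1 (1 : P) := by
    ext s : 1
    rw [coeff_sum]
    simp only [coeff_C_mul, coeff_monomial, mul_ite, mul_one, mul_zero]
    have hL : (L ^ d).IsHomogeneous d := by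
      have h1 : L.IsHomogeneous 1 := IsHomogeneous.sum _ _ _ fun i _ => (isHomogeneous_X P i).C_mul _
      simpa using h1.pow d
    by_cases hs : s.degree = d
    · rw [Finset.sum_eq_single (⟨s, hs⟩ : FormIdx N d), if_pos rfl]
      · exact coeff_linear_pow (fun i => (X i : P)) ⟨s, hs⟩
      · intro m _ hm
        rw [if_neg fun h => hm (Subtype.ext h)]
      · simp
    · rw [Finset.sum_eq_zero fun m _ => if_neg fun h => hs (by rw [← h]; exact m.2)]
      exact hL.coeff_eq_zero hs
  rw [← e1, e2, map_sum, coeff_sum]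
  refine Finset.sum_congr rfl fun m _ => ?_
  rw [map_mul, algHom_C, algebraMap_eq, coeff_C_mul]
  have h3 : σ (monomial m.1 (1 : P)) =
      (aeval (fun i => ∑ j, C (C (G j i) : P) * X j) (monomial m.1 (1 : k)) : MvPolynomial (Fin N) P) := by
    simp only [σ, aeval_monomial, map_one]
  have h4 : CoordGrp.Mat.aeval N k (fun j i => (C (G j i) : P)) =
      (IsScalarTower.toAlgHom k B P).comp (CoordGrp.Mat.aeval N k G) := CoordGrp.Mat.algHom_ext fun i j => by
      refine (CoordGrp.Mat.aeval_X _ i j).trans ?_
      simp [P]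
  rw [h3, coeff_std (fun j i => (C (G j i) : P)), h4, AlgHom.comp_apply, IsScalarTower.coe_toAlgHom',
    monomial_eq, map_mul, Finsupp.prod_fintype _ _ fun i => pow_zero _, ← MvPolynomial.algebraMap_eq]
  simp only [P, map_natCast]
  ring

/-- The form of the moved point is the substituted form. -/
theorem formPoly_moved (G : Matrix (Fin N) (Fin N) B) (a : FormIdx N d → k) :
    ∑ m : FormIdx N d, monomial m.1 ((m.1.multinomial : B) *
        ∑ l : FormIdx N d, algebraMap k B (a l) * CoordGrp.Mat.aeval N k G (formCoeff k N d l m)) =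
      subst G (map (algebraMap k B) (formPoly a)) := by
  classical
  simp only [Finset.mul_sum, map_sum]
  rw [Finset.sum_comm, formPoly, map_sum, map_sum]
  refine Finset.sum_congr rfl fun l _ => ?_
  rw [map_monomial, map_mul, map_natCast, show monomial l.1 ((l.1.multinomial : B) * algebraMap k B (a l)) =
      C (algebraMap k B (a l)) * ((l.1.multinomial : MvPolynomial (Fin N) B) * monomial l.1 1) by
    rw [← map_natCast C, C_mul_monomial, C_mul_monomial, mul_one, mul_comm]]
  rw [map_mul, algHom_C, algebraMap_eq, map_mul, map_natCast, subst_monomial_eq (k := k), Finset.mul_sum]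
  refine Finset.sum_congr rfl fun m _ => ?_
  rw [C_mul_monomial]
  ring_nf

variable (k N d) in
/-- The coaction of `SL_N` on forms. -/
@[reducible] def slComod : HopfRep.Comod k (SLn N k) (FormRing k N d) :=
  GLin.comodAlong ((SLn.mkHom N k).comp (Mat.toGLn N k)) (formsCoact k N d)

variable (k N d) in
theorem slComod_coactAlg : @GLin.IsCoactAlg k _ (SLn N k) _ _ (FormRing k N d) _ _ (slComod N d k) :=
  GLin.isCoactAlg_comodAlong ((SLn.mkHom N k).comp (Mat.toGLn N k)) (formsCoact k N d) (formsCoact_isCoactAlg k N d)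

/-- The orbit morphism of a form under `SL_N`. -/
def orbit (a : FormIdx N d → k) : FormRing k N d →ₐ[k] SLn N k :=
  @GLin.orbitHom k _ (SLn N k) _ _ (FormRing k N d) _ _ (slComod N d k) (slComod_coactAlg N d k)
    (GLin.vecPt k _ a)

variable (k N) in
/-- The generic matrix of `SL_N`. -/
def slMat : Matrix (Fin N) (Fin N) (SLn N k) := fun i j => SLn.X i j

theorem det_slMat : (slMat N k).det = 1 := by
  rw [← SLn.det_eq_one, GLn.det_eq, AlgHom.map_det]
  rfl

theorem orbit_X (a : FormIdx N d → k) (m : FormIdx N d) :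
    orbit a (X m) = ∑ l : FormIdx N d, algebraMap k (SLn N k) (a l) *
      CoordGrp.Mat.aeval N k (slMat N k) (formCoeff k N d l m) := by
  have hφ : (((SLn.mkHom N k).comp (Mat.toGLn N k) : Mat N k →ₐc[k] SLn N k) : Mat N k →ₐ[k] SLn N k) =
      CoordGrp.Mat.aeval N k (slMat N k) :=
    CoordGrp.Mat.algHom_ext fun i j => by
      rw [CoordGrp.Mat.aeval_X]
      show SLn.mk N k (Mat.toGLn N k (CoordGrp.Mat.X i j)) = _
      rw [Mat.toGLn_X]
      rfl
  show (Algebra.TensorProduct.lid k (SLn N k)) ((Algebra.TensorProduct.map (GLin.vecPt k _ a) (AlgHom.id k _))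
    (TensorProduct.map LinearMap.id _ (formsCoactAlg k N d (X m)))) = _
  rw [formsCoactAlg_X, map_sum, map_sum, map_sum]
  refine Finset.sum_congr rfl fun l _ => ?_
  rw [TensorProduct.map_tmul, Algebra.TensorProduct.map_tmul, Algebra.TensorProduct.lid_tmul, AlgHom.id_apply,
    Algebra.smul_def, LinearMap.id_apply, ← hφ]
  simp [GLin.vecPt]

theorem orbit_form (a : FormIdx N d → k) :
    ∑ m : FormIdx N d, monomial m.1 ((m.1.multinomial : SLn N k) * orbit a (X m)) =
      subst (slMat N k) (map (algebraMap k (SLn N k)) (formPoly a)) := by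
  simp only [orbit_X]
  exact formPoly_moved _ a

theorem coeff_orbit_form (a : FormIdx N d → k) (m : FormIdx N d) :
    coeff m.1 (subst (slMat N k) (map (algebraMap k (SLn N k)) (formPoly a))) =
      (m.1.multinomial : SLn N k) * orbit a (X m) := by
  classical
  rw [← orbit_form, coeff_sum, Finset.sum_eq_single m]
  · simp
  · intro l _ hl
    rw [coeff_monomial, if_neg fun h => hl (Subtype.ext h)]
  · simp

end Groth.Agent.CommAlg4.FormAct
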