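import Groth.Agent.CommAlg4.FormStable
import Mathlib.Algebra.Polynomial.Laurent
import Mathlib.RingTheory.Jacobson.Ring
import Mathlib.FieldTheory.IsAlgClosed.Basic
import Mathlib.LinearAlgebra.Dimension.StrongRankCondition
import Mathlib.LinearAlgebra.Matrix.NonsingularInverse

/-!
# Destabilising weights
-/

set_option autoImplicit false
universe u

noncomputable section

open MvPolynomial CoordGrp LaurentPolynomial

namespace Groth.Agent.CommAlg4.FormAct

variable {N d : ℕ} {k : Type u} [Field k]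

theorem multinomial_ne_zero (hd : (d.factorial : k) ≠ 0) (m : FormIdx N d) : (m.1.multinomial : k) ≠ 0 := fun h => by
  apply hd
  have h1 := Nat.multinomial_spec m.1.support m.1
  rw [← Finsupp.degree_apply, m.2, ← Finsupp.multinomial_eq] at h1
  rw [← h1, Nat.cast_mul, h, mul_zero]

/-- A point of the group moves the coefficients as it substitutes in the form. -/
theorem apply_orbit {B : Type u} [CommRing B] [Algebra k B] (hd : (d.factorial : k) ≠ 0) (ψ : SLn N k →ₐ[k] B)
    (a : FormIdx N d → k) (m : FormIdx N d) :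
    ψ (orbit a (X m)) = algebraMap k B ((m.1.multinomial : k)⁻¹) *
      coeff m.1 (subst ((slMat N k).map ψ) (map (algebraMap k B) (formPoly a))) := by
  have h1 := congrArg ψ (coeff_orbit_form a m)
  rw [map_mul, map_natCast] at h1
  rw [show map (algebraMap k B) (formPoly a) = map ψ.toRingHom (map (algebraMap k (SLn N k)) (formPoly a)) by
    rw [map_map]; exact congrArg (fun f => map f (formPoly a)) (RingHom.ext fun c : k => (ψ.commutes c).symm)]
  rw [show (slMat N k).map ψ = (slMat N k).map ψ.toRingHom from rfl, ← map_subst, coeff_map]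
  rw [show ψ.toRingHom (coeff m.1 (subst (slMat N k) (map (algebraMap k (SLn N k)) (formPoly a)))) = _ from h1,
    ← map_natCast (algebraMap k B), ← mul_assoc, ← map_mul, inv_mul_cancel₀ (multinomial_ne_zero hd m), map_one, one_mul]

variable [IsAlgClosed k]

/-- A destabilising weight. -/
theorem not_isStableVec_of_weights (hd : (d.factorial : k) ≠ 0) (a : FormIdx N d → k)
    (g : Matrix (Fin N) (Fin N) k) (hg : g.det ≠ 0) (r : Fin N → ℤ) (hr : ∑ i, r i = 0) (hr0 : r ≠ 0)
    (hpos : ∀ e ∈ (subst g (formPoly a)).support, 0 ≤ ∑ i, (e i : ℤ) * r i) :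
    ¬ @GLin.IsStableVec k _ (SLn N k) _ _ (FormIdx N d) (slComod N d k) (slComod_coactAlg N d k) a := by
  classical
  rintro ⟨hcl, hfin⟩
  have hN : 0 < N := by
    rcases Nat.eq_zero_or_pos N with h | h
    · subst h; exact absurd (funext fun i => i.elim0) hr0
    · exact h
  -- normalise the determinant
  obtain ⟨c, hc⟩ := IsAlgClosed.exists_pow_nat_eq g.det⁻¹ hN
  have hc0 : c ≠ 0 := fun h => by
    rw [h, zero_pow hN.ne', eq_comm, inv_eq_zero] at hc
    exact hg hc
  let g1 : Matrix (Fin N) (Fin N) k := c • g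
  have hg1 : g1.det = 1 := by
    rw [Matrix.det_smul, Fintype.card_fin, hc, inv_mul_cancel₀ hg]
  let G := subst g1 (formPoly a)
  have hG : ∀ e, coeff e G ≠ 0 → 0 ≤ ∑ i, (e i : ℤ) * r i := fun e he => hpos e (by
    rw [mem_support_iff]
    intro h0
    apply he
    have h1 : g1 = g * Matrix.diagonal (fun _ => c) := by
      ext i j; simp [g1, mul_comm]
    show coeff e (subst g1 (formPoly a)) = 0
    rw [h1, ← subst_subst, coeff_subst_diagonal, h0, zero_mul])
  let ι : k →+* k[T;T⁻¹] := algebraMap k k[T;T⁻¹]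
  let Dt : Matrix (Fin N) (Fin N) k[T;T⁻¹] := Matrix.diagonal fun i => T (r i)
  have hDt : Dt.det = 1 := by
    rw [Matrix.det_diagonal, CoordGrp.GLn.prod_T, hr, T_zero]
  have hprodT : ∀ e : Fin N →₀ ℕ, ∏ i, (T (r i) : k[T;T⁻¹]) ^ e i = T (∑ i, (e i : ℤ) * r i) := fun e => by
    rw [← CoordGrp.GLn.prod_T]
    exact Finset.prod_congr rfl fun i _ => by rw [T_pow]
  -- the one-parameter family
  let ψ : SLn N k →ₐ[k] k[T;T⁻¹] := SLn.pt N k (g1.map ι * Dt) (by
    rw [Matrix.det_mul, hDt, mul_one, ← RingHom.mapMatrix_apply, ← RingHom.map_det, hg1, map_one])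
  have hψM : (slMat N k).map ψ = g1.map ι * Dt := Matrix.ext fun i j => by
    simp [slMat, ψ]
  have hψ : ∀ m : FormIdx N d, ψ (orbit a (X m)) =
      ι ((m.1.multinomial : k)⁻¹ * coeff m.1 G) * T (∑ i, (m.1 i : ℤ) * r i) := fun m => by
    rw [apply_orbit hd, hψM, ← subst_subst, ← map_subst, coeff_subst_diagonal, coeff_map, hprodT, map_mul, mul_assoc]
  let H : FormRing k N d →ₐ[k] Polynomial k := aeval fun m =>
    Polynomial.C ((m.1.multinomial : k)⁻¹ * coeff m.1 G) * Polynomial.X ^ (∑ i, (m.1 i : ℤ) * r i).toNat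
  have hH : (Polynomial.toLaurentAlg (R := k)).comp H = ψ.comp (orbit a) :=
    MvPolynomial.algHom_ext fun m => by
      rw [AlgHom.comp_apply, AlgHom.comp_apply, hψ, aeval_X, map_mul, map_pow]
      by_cases h0 : coeff m.1 G = 0
      · simp [h0]
      rw [Polynomial.toLaurentAlg_apply, Polynomial.toLaurent_C, Polynomial.toLaurentAlg_apply, Polynomial.toLaurent_X,
        T_pow, mul_one, Int.toNat_of_nonneg (hG _ h0)]
      rfl
  let y : FormRing k N d →ₐ[k] k := (Polynomial.aeval (0 : k)).comp H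
  have hy : ∀ m : FormIdx N d, y (X m) =
      if ∑ i, (m.1 i : ℤ) * r i = 0 then (m.1.multinomial : k)⁻¹ * coeff m.1 G else 0 := fun m => by
    simp only [y, H, AlgHom.comp_apply, aeval_X, map_mul, map_pow, Polynomial.aeval_C, Polynomial.aeval_X,
      Algebra.algebraMap_self_apply]
    split_ifs with h
    · simp [h]
    · by_cases h0 : coeff m.1 G = 0
      · simp [h0]
      · have := hG _ h0
        rw [zero_pow (by omega), mul_zero]
  -- the limit is in the orbit
  let qy : PrimeSpectrum (FormRing k N d) := ⟨RingHom.ker y.toRingHom, RingHom.ker_isPrime _⟩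
  have hqy : qy ∈ closure (Set.range (PrimeSpectrum.comap (orbit a : FormRing k N d →ₐ[k] SLn N k).toRingHom)) := by
    rw [PrimeSpectrum.closure_range_comap, PrimeSpectrum.mem_zeroLocus]
    intro f hf
    have h1 : Polynomial.toLaurentAlg (R := k) (H f) = 0 := by
      have h2 := AlgHom.congr_fun hH f
      rw [AlgHom.comp_apply, AlgHom.comp_apply, show orbit a f = 0 from RingHom.mem_ker.1 hf, map_zero] at h2
      exact h2
    show y f = 0
    rw [show y f = Polynomial.aeval (0 : k) (H f) from rfl,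
      Polynomial.toLaurent_injective (h1.trans (map_zero Polynomial.toLaurent).symm), map_zero]
  obtain ⟨p, hp⟩ := hcl.closure_eq ▸ hqy
  have : Algebra.FiniteType k (SLn N k) := ⟨⟨(Set.finite_range fun p : Fin N × Fin N =>
    (SLn.X p.1 p.2 : SLn N k)).toFinset, by rw [Set.Finite.coe_toFinset]; exact adjoin_slMat⟩⟩
  obtain ⟨M, hM, hpM⟩ := Ideal.exists_le_maximal p.asIdeal p.2.ne_top
  have : M.IsMaximal := hM
  let : Field (SLn N k ⧸ M) := Ideal.Quotient.field M
  have : Algebra.FiniteType k (SLn N k ⧸ M) :=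
    Algebra.FiniteType.of_surjective (Ideal.Quotient.mkₐ k M) (Ideal.Quotient.mkₐ_surjective k M)
  have : Module.Finite k (SLn N k ⧸ M) := finite_of_finite_type_of_isJacobsonRing k (SLn N k ⧸ M)
  let e : k ≃ₐ[k] SLn N k ⧸ M := AlgEquiv.ofBijective (Algebra.ofId k _)
    (IsAlgClosed.algebraMap_bijective_of_isIntegral (k := k) (K := SLn N k ⧸ M))
  let q : SLn N k →ₐ[k] k := e.symm.toAlgHom.comp (Ideal.Quotient.mkₐ k M)
  have hqo : q.comp (orbit a) = y := by
    refine AlgHom.ext fun f => ?_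
    have h1 : f - MvPolynomial.C (y f) ∈ qy.asIdeal := show y (f - MvPolynomial.C (y f)) = 0 by
      rw [map_sub, show y (MvPolynomial.C (y f)) = y f from y.commutes _, sub_self]
    rw [← hp] at h1
    have h2 : orbit a (f - MvPolynomial.C (y f)) ∈ M := hpM h1
    have h3 : q (orbit a (f - MvPolynomial.C (y f))) = 0 := by
      show e.symm (Ideal.Quotient.mk M _) = 0
      rw [Ideal.Quotient.eq_zero_iff_mem.2 h2, map_zero]
    rw [map_sub, map_sub, sub_eq_zero, show orbit a (MvPolynomial.C (y f)) = algebraMap k _ (y f) from (orbit a).commutes _,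
      AlgHom.commutes] at h3
    simpa using h3
  let Q : Matrix (Fin N) (Fin N) k := (slMat N k).map q
  have hQ : Q.det = 1 := by
    show ((slMat N k).map q.toRingHom).det = 1
    rw [← RingHom.mapMatrix_apply, ← RingHom.map_det, det_slMat, map_one]
  let F' := subst Q (formPoly a)
  have hF' : ∀ m : FormIdx N d, coeff m.1 F' ≠ 0 → ∑ i, (m.1 i : ℤ) * r i = 0 := fun m hm => by
    by_contra hne
    have h1 := AlgHom.congr_fun hqo (X m)
    rw [AlgHom.comp_apply, hy, if_neg hne, apply_orbit hd] at h1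
    simp only [Algebra.algebraMap_self_apply, show (algebraMap k k : k →+* k) = RingHom.id k from rfl,
      MvPolynomial.map_id] at h1
    exact hm ((mul_eq_zero.1 h1).resolve_left (inv_ne_zero (multinomial_ne_zero hd m)))
  -- a non-constant family of stabilisers
  let M2 : Matrix (Fin N) (Fin N) k[T;T⁻¹] := Q.map ι * Dt * (Q⁻¹).map ι
  have hQi : IsUnit Q.det := by rw [hQ]; exact isUnit_one
  have hQQ : Q.map ι * (Q⁻¹).map ι = 1 := by
    rw [← Matrix.map_mul, Matrix.mul_nonsing_inv _ hQi, Matrix.map_one _ (map_zero ι) (map_one ι)]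
  have hQQ' : (Q⁻¹).map ι * Q.map ι = 1 := by
    rw [← Matrix.map_mul, Matrix.nonsing_inv_mul _ hQi, Matrix.map_one _ (map_zero ι) (map_one ι)]
  let ψ2 : SLn N k →ₐ[k] k[T;T⁻¹] := SLn.pt N k M2 (by
    rw [Matrix.det_mul, Matrix.det_mul, hDt, mul_one, ← Matrix.det_mul, hQQ, Matrix.det_one])
  have hψ2M : (slMat N k).map ψ2 = M2 := Matrix.ext fun i j => by
    simp [slMat, ψ2]
  have hF'd : F'.IsHomogeneous d := isHomogeneous_subst _ (isHomogeneous_formPoly a)
  have hfix : subst M2 (map ι (formPoly a)) = map ι (formPoly a) := by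
    have h1 : subst Dt (map ι F') = map ι F' := by
      ext e : 1
      rw [coeff_subst_diagonal, coeff_map, hprodT]
      by_cases h0 : coeff e F' = 0
      · rw [h0, map_zero, zero_mul]
      · have he : e.degree = d := by
          by_contra h; exact h0 (hF'd.coeff_eq_zero h)
        rw [hF' ⟨e, he⟩ h0, T_zero, mul_one]
    rw [← subst_subst, ← subst_subst, ← map_subst ι Q (formPoly a), h1, map_subst ι Q (formPoly a), subst_subst, hQQ,
      subst_one]
  have hψ2 : ψ2.comp (orbit a) = (Algebra.ofId k k[T;T⁻¹]).comp (GLin.vecPt k _ a) :=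
    MvPolynomial.algHom_ext fun m => by
      rw [AlgHom.comp_apply, apply_orbit hd, hψ2M, hfix, coeff_map, coeff_formPoly, ← map_mul, ← mul_assoc,
        inv_mul_cancel₀ (multinomial_ne_zero hd m), one_mul]
      simp [GLin.vecPt, Algebra.ofId_apply]
  let I : Ideal (SLn N k) := Ideal.map (orbit a : FormRing k N d →ₐ[k] SLn N k).toRingHom (RingHom.ker (GLin.vecPt k _ a))
  have : Module.Finite k (SLn N k ⧸ I) := hfin
  have hI : ∀ x ∈ I, ψ2 x = 0 := by
    show I ≤ RingHom.ker ψ2.toRingHom
    refine Ideal.map_le_iff_le_comap.2 fun f hf => ?_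
    show ψ2 (orbit a f) = 0
    rw [← AlgHom.comp_apply, hψ2, AlgHom.comp_apply, RingHom.mem_ker.1 hf, map_zero]
  let χ : (SLn N k ⧸ I) →ₐ[k] k[T;T⁻¹] := Ideal.Quotient.liftₐ I ψ2 hI
  have hmem : ∀ i, (T (r i) : k[T;T⁻¹]) ∈ χ.range := fun i => by
    have h1 : Dt = (Q⁻¹).map ι * M2 * Q.map ι := by
      simp only [M2, mul_assoc, hQQ', mul_one]
      rw [← mul_assoc, hQQ', one_mul]
    have h2 : (T (r i) : k[T;T⁻¹]) = ((Q⁻¹).map ι * M2 * Q.map ι) i i := by
      rw [← h1]; simp [Dt]
    rw [h2, Matrix.mul_apply]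
    refine sum_mem fun l _ => mul_mem ?_ (χ.range.algebraMap_mem _)
    rw [Matrix.mul_apply]
    refine sum_mem fun l' _ => mul_mem (χ.range.algebraMap_mem _) ⟨Ideal.Quotient.mk I (SLn.X l' l), ?_⟩
    show ψ2 (SLn.X l' l) = _
    simp [ψ2]
  obtain ⟨i0, hi0⟩ := Function.ne_iff.1 hr0
  have hli : LinearIndependent k (fun n : ℕ => (⟨T (r i0) ^ n, pow_mem (hmem i0) n⟩ : χ.range)) := by
    refine LinearIndependent.of_comp χ.range.val.toLinearMap ?_
    have h3 := ((AddMonoidAlgebra.basis ℤ k).linearIndependent).comp (fun n : ℕ => (n : ℤ) * r i0)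
      fun n n' h => Nat.cast_injective (mul_right_cancel₀ (by simpa using hi0) h)
    have h4 : (χ.range.val.toLinearMap ∘ fun n : ℕ => (⟨T (r i0) ^ n, pow_mem (hmem i0) n⟩ : χ.range)) =
        (AddMonoidAlgebra.basis ℤ k : ℤ → k[T;T⁻¹]) ∘ fun n : ℕ => (n : ℤ) * r i0 := by
      funext n
      simp [T_pow]
    rw [h4]
    exact h3
  have hsurj : Function.Surjective χ.rangeRestrict.toLinearMap := χ.rangeRestrict_surjective
  have : Module.Finite k χ.range := Module.Finite.of_surjective _ hsurj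
  have := hli.finite
  exact not_finite ℕ

end Groth.Agent.CommAlg4.FormAct
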