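import Groth.Agent.CommAlg4.SmoothGood
import Groth.Agent.CommAlg4.FormUnstable
import Mathlib.LinearAlgebra.Matrix.Basis
import Mathlib.Algebra.BigOperators.Intervals
import Mathlib.Algebra.Order.Group.Defs

/-!
# Stability of binary forms, plane cubics and configurations of hyperplanes
-/

set_option autoImplicit false
universe u

noncomputable section

open MvPolynomial

namespace Groth.Agent.CommAlg4.FormAct

variable {N d : ℕ} {k : Type u} [Field k]

theorem subst_linForm (M : Matrix (Fin N) (Fin N) k) (c : Fin N → k) :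
    subst M (∑ j, C (c j) * X j) = ∑ i, C (Matrix.vecMul c M i) * X i := by
  simp only [map_sum, map_mul, algHom_C, algebraMap_eq, subst_X, Finset.mul_sum]
  rw [Finset.sum_comm]
  refine Finset.sum_congr rfl fun i _ => ?_
  rw [Matrix.vecMul, dotProduct, map_sum, Finset.sum_mul]
  exact Finset.sum_congr rfl fun j _ => by rw [map_mul, mul_assoc]

theorem eq_linForm {ℓ : MvPolynomial (Fin N) k} (h : ℓ.IsHomogeneous 1) :
    ℓ = ∑ j, C (coeff (Finsupp.single j 1) ℓ) * X j := by
  classical
  ext e
  rw [coeff_sum]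
  simp only [coeff_C_mul, coeff_X', mul_ite, mul_one, mul_zero]
  by_cases he : ∃ j, Finsupp.single j 1 = e
  · obtain ⟨j, rfl⟩ := he
    rw [Finset.sum_eq_single j, if_pos rfl]
    · intro i _ hi
      rw [if_neg fun hh => hi (Finsupp.single_left_injective one_ne_zero hh)]
    · simp
  · rw [Finset.sum_eq_zero fun j _ => if_neg fun hh => he ⟨j, hh⟩]
    by_contra hne
    have hdeg : e.degree = 1 := by
      by_contra h1; exact hne (h.coeff_eq_zero h1)
    obtain ⟨j, hj⟩ : ∃ j, e j ≠ 0 := by
      by_contra! hall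
      rw [show e = 0 from Finsupp.ext hall, map_zero] at hdeg
      omega
    refine he ⟨j, Finsupp.ext fun i => ?_⟩
    rw [Finsupp.degree_eq_sum] at hdeg
    by_cases hij : i = j
    · subst hij
      have := Finset.single_le_sum (f := fun l => e l) (fun _ _ => Nat.zero_le _) (Finset.mem_univ i)
      simp
      omega
    · have := (Finset.sum_pair (f := fun l => e l) hij).symm.le.trans
        (Finset.sum_le_sum_of_subset (Finset.subset_univ _))
      simp [Ne.symm hij]
      omega

/-- A power of a variable dividing bounds the exponents. -/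
theorem le_of_X_pow_dvd {j : Fin N} {m : ℕ} {G : MvPolynomial (Fin N) k} (h : X j ^ m ∣ G) {e : Fin N →₀ ℕ}
    (he : e ∈ G.support) : m ≤ e j := by
  obtain ⟨Q, rfl⟩ := h
  rw [X_pow_eq_monomial, mem_support_iff, coeff_monomial_mul'] at he
  by_contra hlt
  rw [if_neg fun hle => hlt (by simpa using hle j)] at he
  exact he rfl

theorem X_pow_dvd_of_le {j : Fin N} {m : ℕ} {G : MvPolynomial (Fin N) k} (h : ∀ e ∈ G.support, m ≤ e j) :
    X j ^ m ∣ G := by
  rw [G.as_sum, X_pow_eq_monomial]
  refine Finset.dvd_sum fun e he => ?_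
  rw [monomial_dvd_monomial]
  refine ⟨Or.inr fun l => ?_, one_dvd _⟩
  by_cases hl : l = j
  · subst hl; simpa using h e he
  · simp [Ne.symm hl]

/-- Binary forms whose roots have multiplicity less than half of the degree. -/
theorem good_binary {F : MvPolynomial (Fin 2) k} (hF : F.IsHomogeneous d)
    (h : ∀ ℓ : MvPolynomial (Fin 2) k, ℓ.IsHomogeneous 1 → ℓ ≠ 0 → ∀ m : ℕ, ℓ ^ m ∣ F → 2 * m < d)
    (g : Matrix (Fin 2) (Fin 2) k) (hg : g.det ≠ 0) :
    Good.{u} (↑(subst g F).support : Set (Fin 2 →₀ ℕ)) := by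
  classical
  intro Γ _ _ _ r hr hS
  have key : ∀ i j : Fin 2, i ≠ j → r i ≤ 0 := by
    intro i j hij
    by_contra! hlt
    have hj : r j = -r i := by
      rw [Fin.sum_univ_two] at hr
      fin_cases i <;> fin_cases j <;> simp_all [eq_neg_iff_add_eq_zero, add_comm]
    have hle : ∀ e ∈ (subst g F).support, (d + 1) / 2 ≤ e j := by
      intro e he
      have h1 := hS e (Finset.mem_coe.2 he)
      have hdeg : e i + e j = d := by
        have h2 : e.degree = d := by
          by_contra h3
          exact mem_support_iff.1 he ((isHomogeneous_subst g hF).coeff_eq_zero h3)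
        rw [Finsupp.degree_eq_sum, Fin.sum_univ_two] at h2
        fin_cases i <;> fin_cases j <;> simp_all <;> omega
      have h4 : ∑ l, e l • r l = e i • r i - e j • r i := by
        rw [Fin.sum_univ_two]
        fin_cases i <;> fin_cases j <;> simp_all [sub_eq_add_neg, add_comm]
      rw [h4, sub_nonpos] at h1
      have h5 : e i ≤ e j := by
        by_contra! h6
        exact absurd h1 (not_le.2 (nsmul_lt_nsmul_left hlt h6))
      omega
    have hdvd := map_dvd (subst g⁻¹) (X_pow_dvd_of_le hle)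
    rw [subst_subst, Matrix.mul_nonsing_inv _ (isUnit_iff_ne_zero.2 hg), subst_one, map_pow] at hdvd
    have hhom : (subst g⁻¹ (X j)).IsHomogeneous 1 := isHomogeneous_subst _ (isHomogeneous_X k j)
    have hne : subst g⁻¹ (X j) ≠ 0 := fun h0 => by
      have h7 := congrArg (subst g) h0
      rw [subst_subst, Matrix.nonsing_inv_mul _ (isUnit_iff_ne_zero.2 hg), subst_one, map_zero] at h7
      exact X_ne_zero j h7
    have := h _ hhom hne _ hdvd
    omega
  have h0 := key 0 1 (by decide)
  have h1 := key 1 0 (by decide)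
  rw [Fin.sum_univ_two] at hr
  have e0 : r 0 = 0 := le_antisymm h0 (by rw [eq_neg_of_add_eq_zero_left hr]; exact neg_nonneg.2 h1)
  have e1 : r 1 = 0 := by rwa [e0, zero_add] at hr
  intro i
  fin_cases i <;> assumption

variable [IsAlgClosed k]

theorem isStableVec_binary_iff (hd : (d.factorial : k) ≠ 0) (a : CoordGrp.FormIdx 2 d → k) :
    @GLin.IsStableVec k _ (CoordGrp.SLn 2 k) _ _ (CoordGrp.FormIdx 2 d) (slComod 2 d k) (slComod_coactAlg 2 d k) a ↔
      ∀ ℓ : MvPolynomial (Fin 2) k, ℓ.IsHomogeneous 1 → ℓ ≠ 0 →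
        ∀ m : ℕ, ℓ ^ m ∣ CoordGrp.formPoly a → 2 * m < d := by
  classical
  refine ⟨fun hst ℓ hℓ hℓ0 m hdvd => ?_,
    fun h => isStableVec_of_good a (good_binary (isHomogeneous_formPoly a) h)⟩
  by_contra! hm
  let c : Fin 2 → k := fun j => coeff (Finsupp.single j 1) ℓ
  have hℓc : ℓ = ∑ j, C (c j) * X j := eq_linForm hℓ
  have hc : c 0 ≠ 0 ∨ c 1 ≠ 0 := by
    by_contra! h
    exact hℓ0 (by rw [hℓc, Fin.sum_univ_two, h.1, h.2]; simp)
  let v : Fin 2 → k := if c 1 = 0 then Pi.single 1 1 else Pi.single 0 1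
  let H : Matrix (Fin 2) (Fin 2) k := Matrix.of ![v, c]
  have hH : H.det ≠ 0 := by
    rw [Matrix.det_fin_two]
    by_cases h1 : c 1 = 0
    · simpa [H, v, h1] using hc.resolve_right (not_not.2 h1)
    · simpa [H, v, h1] using h1
  refine not_isStableVec_of_weights hd a H⁻¹ (by
    rw [Matrix.det_nonsing_inv]
    simpa using hH) ![-1, 1] (by simp) (fun h => by simpa using congrFun h 1) (fun e he => ?_) hst
  have hX : subst H⁻¹ ℓ = X 1 := by
    have h2 := congrFun (Matrix.mul_nonsing_inv H (isUnit_iff_ne_zero.2 hH)) 1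
    rw [hℓc, subst_linForm, Fin.sum_univ_two]
    have h3 : ∀ i, Matrix.vecMul c H⁻¹ i = (1 : Matrix (Fin 2) (Fin 2) k) 1 i := fun i => by
      rw [← congrFun h2 i]
      simp [Matrix.mul_apply, Matrix.vecMul, dotProduct, H]
    rw [h3, h3]
    simp
  have hdvd' := map_dvd (subst H⁻¹) hdvd
  rw [map_pow, hX] at hdvd'
  have h4 := le_of_X_pow_dvd hdvd' he
  have h5 : e 0 + e 1 = d := by
    have h6 : e.degree = d := by
      by_contra h7
      exact mem_support_iff.1 he ((isHomogeneous_subst _ (isHomogeneous_formPoly a)).coeff_eq_zero h7)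
    rwa [Finsupp.degree_eq_sum, Fin.sum_univ_two] at h6
  simp [Fin.sum_univ_two]
  omega

/-- A plane cubic is stable iff it is smooth. -/
theorem isStableVec_planeCubic_iff [CharZero k] (a : CoordGrp.FormIdx 3 3 → k) :
    @GLin.IsStableVec k _ (CoordGrp.SLn 3 k) _ _ (CoordGrp.FormIdx 3 3) (slComod 3 3 k) (slComod_coactAlg 3 3 k) a ↔
      ∀ w : Fin 3 → k, w ≠ 0 → ∃ i : Fin 3, eval w (pderiv i (CoordGrp.formPoly a)) ≠ 0 := by
  classical
  refine ⟨fun hst w hw => ?_, isStableVec_of_smooth le_rfl a⟩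
  by_contra! hsing
  obtain ⟨j, hj⟩ := Function.ne_iff.1 hw
  let g : Matrix (Fin 3) (Fin 3) k := (1 : Matrix (Fin 3) (Fin 3) k).updateCol j w
  have hg : g.det ≠ 0 := by
    have h1 : g.det = w j := by
      rw [show g.det = ((1 : Matrix (Fin 3) (Fin 3) k).cramer w) j from (Matrix.cramer_apply _ _ _).symm,
        Matrix.cramer_one]
      rfl
    rw [h1]; simpa using hj
  refine not_isStableVec_of_weights (Nat.cast_ne_zero.2 (Nat.factorial_ne_zero 3)) a g hg
    (fun i => if i = j then -2 else 1) (by fin_cases j <;> simp [Fin.sum_univ_three])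
    (fun h => by simpa using congrFun h j) (fun e he => ?_) hst
  let G := subst g (CoordGrp.formPoly a)
  have hG : G.IsHomogeneous 3 := isHomogeneous_subst _ (isHomogeneous_formPoly a)
  have hdeg : e.degree = 3 := by
    by_contra h
    exact mem_support_iff.1 he (hG.coeff_eq_zero h)
  have hsum : e 0 + e 1 + e 2 = 3 := by rwa [Finsupp.degree_eq_sum, Fin.sum_univ_three] at hdeg
  suffices e j ≤ 1 by
    fin_cases j <;> simp [Fin.sum_univ_three] at this ⊢ <;> omega
  by_contra! hej
  obtain ⟨i, f, hf, hfe⟩ : ∃ (i : Fin 3) (f : Fin 3 →₀ ℕ), f = Finsupp.single j 2 ∧ e = f + Finsupp.single i 1 := by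
    have : e - Finsupp.single j 2 + Finsupp.single j 2 = e :=
      tsub_add_cancel_of_le (Finsupp.single_le_iff.2 hej)
    have hd1 : (e - Finsupp.single j 2).degree = 1 := by
      have h1 := congrArg Finsupp.degree this
      rw [map_add, Finsupp.degree_single, hdeg] at h1
      omega
    obtain ⟨i, hi0⟩ : ∃ i, (e - Finsupp.single j 2 : Fin 3 →₀ ℕ) i ≠ 0 := by
      by_contra! hall
      rw [show e - Finsupp.single j 2 = 0 from Finsupp.ext hall, map_zero] at hd1
      omega
    have hi : e - Finsupp.single j 2 = Finsupp.single i 1 := by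
      refine (eq_of_le_of_not_lt (Finsupp.single_le_iff.2 (by omega)) fun hlt => ?_).symm
      have hle1 : Finsupp.single i 1 ≤ e - Finsupp.single j 2 := hlt.le
      have h1 : (e - Finsupp.single j 2 - Finsupp.single i 1).degree = 0 := by
        have h2 := congrArg Finsupp.degree (tsub_add_cancel_of_le hle1)
        rw [map_add, Finsupp.degree_single, hd1] at h2
        omega
      rw [Finsupp.degree_eq_zero_iff, tsub_eq_zero_iff_le] at h1
      exact hlt.not_ge h1
    exact ⟨i, _, rfl, by rw [← this, hi, add_comm]⟩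
  have h0 : eval (Pi.single j 1) (pderiv i G) = 0 := by
    rw [pderiv_subst, map_sum]
    refine Finset.sum_eq_zero fun l _ => ?_
    rw [map_mul, eval_subst, show g.mulVec (Pi.single j 1) = w from funext fun l => by simp [g], hsing l, mul_zero]
  have h1 : eval (Pi.single j 1) (pderiv i G) = coeff f (pderiv i G) := by
    rw [eval_eq', Finset.sum_eq_single f]
    · rw [hf, Finset.prod_eq_one, mul_one]
      intro l _
      by_cases hl : l = j
      · subst hl; simp
      · simp [hl, Ne.symm hl]
    · intro f' hf' hne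
      refine mul_eq_zero_of_right _ ?_
      have hd2 : f'.degree = 2 := by
        by_contra h
        exact mem_support_iff.1 hf' ((hG.pderiv (i := i)).coeff_eq_zero h)
      obtain ⟨l, hl, hl0⟩ : ∃ l, l ≠ j ∧ f' l ≠ 0 := by
        by_contra! hall
        apply hne
        rw [hf]
        ext l
        by_cases hl : l = j
        · subst hl
          rw [Finsupp.degree_eq_sum, Finset.sum_eq_single l] at hd2
          · simpa using hd2
          · exact fun b _ hb => hall b hb
          · simp
        · simp [hall l hl, Ne.symm hl]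
      exact Finset.prod_eq_zero (Finset.mem_univ l) (by rw [Pi.single_eq_of_ne hl, zero_pow hl0])
    · intro h; rw [notMem_support_iff.1 h, zero_mul]
  rw [h1, coeff_pderiv, ← hfe] at h0
  rcases mul_eq_zero.1 h0 with h2 | h2
  · exact mem_support_iff.1 he h2
  · exact Nat.cast_add_one_ne_zero _ h2

/-! ### Configurations of hyperplanes -/

omit [IsAlgClosed k] in
/-- The top part of a product of linear forms. -/
theorem exists_top_monomial {ι : Type*} (s : Finset ι) {Γ : Type*} [AddCommGroup Γ] [LinearOrder Γ]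
    [IsOrderedAddMonoid Γ] (r : Fin N → Γ) (μ : ι → Γ) (p : ι → Fin N → k)
    (hμ : ∀ i ∈ s, (∃ j, p i j ≠ 0 ∧ r j = μ i) ∧ ∀ j, p i j ≠ 0 → r j ≤ μ i) :
    ∃ e ∈ (∏ i ∈ s, ∑ j, C (p i j) * X j).support, ∑ l, e l • r l = ∑ i ∈ s, μ i := by
  classical
  let wt : (Fin N →₀ ℕ) → Γ := fun e => ∑ l, e l • r l
  have hadd : ∀ a b, wt (a + b) = wt a + wt b := fun a b => by
    simp [wt, add_smul, Finset.sum_add_distrib]
  have hsingle : ∀ j, wt (Finsupp.single j 1) = r j := fun j => by
    simp [wt, Finsupp.single_apply, ite_smul]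
  suffices ∀ t ⊆ s, ∃ Q : MvPolynomial (Fin N) k, Q ≠ 0 ∧ (∀ e ∈ Q.support, wt e = ∑ i ∈ t, μ i) ∧
      ∀ e ∈ ((∏ i ∈ t, ∑ j, C (p i j) * X j) - Q).support, wt e < ∑ i ∈ t, μ i by
    obtain ⟨Q, hQ, hQw, hlow⟩ := this s subset_rfl
    obtain ⟨e, he⟩ := Finset.nonempty_of_ne_empty (fun h => hQ (support_eq_empty.1 h))
    refine ⟨e, ?_, hQw e he⟩
    have h1 : coeff e ((∏ i ∈ s, ∑ j, C (p i j) * X j) - Q) = 0 := by
      by_contra hne
      exact (hlow e (mem_support_iff.2 hne)).ne (hQw e he)
    rw [coeff_sub, sub_eq_zero] at h1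
    rw [mem_support_iff, h1]
    exact mem_support_iff.1 he
  intro t
  induction t using Finset.induction_on with
  | empty => exact fun _ => ⟨1, one_ne_zero, fun e he => by simp [wt, support_one] at he ⊢; subst he; simp,
      fun e he => by simp at he⟩
  | insert i t hi ih =>
    intro hsub
    obtain ⟨Q, hQ, hQw, hlow⟩ := ih fun x hx => hsub (Finset.mem_insert_of_mem hx)
    obtain ⟨⟨j0, hj0, hj0r⟩, hle⟩ := hμ i (hsub (Finset.mem_insert_self i t))
    let T : MvPolynomial (Fin N) k := ∑ j, C (if r j = μ i then p i j else 0) * X j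
    let L : MvPolynomial (Fin N) k := ∑ j, C (p i j) * X j
    have hcoef : ∀ (c : Fin N → k) (e : Fin N →₀ ℕ), e ∈ (∑ j, C (c j) * X j).support →
        ∃ j, c j ≠ 0 ∧ e = Finsupp.single j 1 := fun c e he => by
      rw [mem_support_iff, coeff_sum] at he
      obtain ⟨j, -, hj⟩ := Finset.exists_ne_zero_of_sum_ne_zero he
      rw [coeff_C_mul, coeff_X'] at hj
      split_ifs at hj with h
      · exact ⟨j, by simpa using hj, h.symm⟩
      · simp at hj
    have hT : T ≠ 0 := fun h => by
      have h1 := congrArg (coeff (Finsupp.single j0 1)) h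
      rw [coeff_sum, Finset.sum_eq_single j0] at h1
      · simp [hj0r, hj0] at h1
      · intro b _ hb
        rw [coeff_C_mul, coeff_X', if_neg fun hh => hb (Finsupp.single_left_injective one_ne_zero hh), mul_zero]
      · simp
    refine ⟨Q * T, mul_ne_zero hQ hT, fun e he => ?_, fun e he => ?_⟩
    · obtain ⟨a, ha, b, hb, rfl⟩ := Finset.mem_add.1 (support_mul _ _ he)
      obtain ⟨j, hj, rfl⟩ := hcoef _ b hb
      rw [hadd, hQw a ha, hsingle, Finset.sum_insert hi, add_comm]
      congr 1
      by_contra hne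
      rw [if_neg hne] at hj
      exact hj rfl
    · rw [Finset.prod_insert hi, show L * (∏ x ∈ t, ∑ j, C (p x j) * X j) - Q * T =
          ((∏ x ∈ t, ∑ j, C (p x j) * X j) - Q) * L + Q * (L - T) by ring] at he
      rw [Finset.sum_insert hi]
      rcases Finset.mem_union.1 (support_add he) with h | h <;>
        obtain ⟨a, ha, b, hb, rfl⟩ := Finset.mem_add.1 (support_mul _ _ h) <;> rw [hadd]
      · obtain ⟨j, hj, rfl⟩ := hcoef _ b hb
        rw [hsingle, add_comm (μ i)]
        exact add_lt_add_of_lt_of_le (hlow a ha) (hle j hj)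
      · rw [show L - T = ∑ j, C (p i j - if r j = μ i then p i j else 0) * X j by
          simp only [L, T, map_sub, sub_mul, Finset.sum_sub_distrib]] at hb
        obtain ⟨j, hj, rfl⟩ := hcoef _ b hb
        rw [hsingle, hQw a ha, add_comm (μ i)]
        refine add_lt_add_of_le_of_lt le_rfl ?_
        split_ifs at hj with h1
        · simp at hj
        · rw [sub_zero] at hj
          exact lt_of_le_of_ne (hle j hj) h1

omit [IsAlgClosed k] in
/-- The counting inequality gives the criterion. -/
theorem good_config {D : ℕ} (p : Fin D → Fin N → k) (hp : ∀ i, p i ≠ 0)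
    (hlt : ∀ W : Submodule k (Fin N → k), W ≠ ⊥ → W ≠ ⊤ →
      Nat.card {i : Fin D // p i ∈ W} * N < D * Module.finrank k W)
    (g : Matrix (Fin N) (Fin N) k) (hg : g.det ≠ 0) :
    Good.{u} (↑(subst g (∏ i, ∑ j, C (p i j) * X j)).support : Set (Fin N →₀ ℕ)) := by
  classical
  intro Γ _ _ _ r hr hS
  rcases Nat.eq_zero_or_pos N with rfl | hN
  · exact fun i => i.elim0
  rw [map_prod] at hS
  simp only [subst_linForm] at hS
  let p' : Fin D → Fin N → k := fun i => Matrix.vecMul (p i) g
  have hinj : Function.Injective fun v : Fin N → k => Matrix.vecMul v g :=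
    Matrix.vecMul_injective_iff_isUnit.2 ((Matrix.isUnit_iff_isUnit_det g).2 (isUnit_iff_ne_zero.2 hg))
  have hp' : ∀ i, p' i ≠ 0 := fun i h => hp i (hinj (h.trans (Matrix.zero_vecMul g).symm))
  have hne : ∀ i, (Finset.univ.filter fun j => p' i j ≠ 0).Nonempty := fun i => by
    obtain ⟨j, hj⟩ := Function.ne_iff.1 (hp' i)
    exact ⟨j, Finset.mem_filter.2 ⟨Finset.mem_univ _, hj⟩⟩
  choose j0 hj0 hmax using fun i => Finset.exists_max_image _ r (hne i)
  let μ : Fin D → Γ := fun i => r (j0 i)
  obtain ⟨e, he, hwt⟩ := exists_top_monomial Finset.univ r μ p' fun i _ =>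
    ⟨⟨j0 i, (Finset.mem_filter.1 (hj0 i)).2, rfl⟩, fun j hj => hmax i j (Finset.mem_filter.2 ⟨Finset.mem_univ _, hj⟩)⟩
  have hle : ∑ i, μ i ≤ 0 := hwt ▸ hS e (Finset.mem_coe.2 he)
  by_contra! hr0
  -- sorted weights
  let σ := Tuple.sort r
  have hmono : Monotone (r ∘ σ) := Tuple.monotone_sort r
  let ρ : ℕ → Γ := fun s => r (σ ⟨min s (N - 1), by omega⟩)
  let Δ : ℕ → Γ := fun s => ρ (s + 1) - ρ s
  let c : ℕ → ℕ := fun s => (Finset.univ.filter fun i => μ i ≤ ρ s).card
  have hρmono : Monotone ρ := fun a b hab => hmono (show (⟨min a (N - 1), _⟩ : Fin N) ≤ ⟨min b (N - 1), _⟩ from by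
    simp only [Fin.le_def]; omega)
  have hρσ : ∀ t : Fin N, ρ t = r (σ t) := fun t => by
    simp only [ρ]; congr 2; exact Fin.ext (by simp; omega)
  have hΔ : ∀ s, 0 ≤ Δ s := fun s => sub_nonneg.2 (hρmono (Nat.le_succ s))
  have htele : ∀ t, t ≤ N - 1 → ρ (N - 1) - ρ t = ∑ s ∈ Finset.Ico t (N - 1), Δ s := fun t ht =>
    (Finset.sum_Ico_sub ρ ht).symm
  have hmu : ∀ x : Γ, (∃ t : Fin N, x = ρ t) →
      x = ρ (N - 1) - ∑ s ∈ Finset.range (N - 1), if x ≤ ρ s then Δ s else 0 := by
    rintro _ ⟨t, rfl⟩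
    have ht : t.1 ≤ N - 1 := by omega
    rw [eq_sub_iff_add_eq, ← eq_sub_iff_add_eq', htele t ht, ← Finset.sum_filter]
    refine (Finset.sum_subset (fun s hs => ?_) fun s hs hs' => ?_).symm
    · rw [Finset.mem_Ico] at hs
      exact Finset.mem_filter.2 ⟨Finset.mem_range.2 hs.2, hρmono hs.1⟩
    · rw [Finset.mem_filter, Finset.mem_range] at hs
      rw [Finset.mem_Ico] at hs'
      exact le_antisymm (sub_nonpos.2 ((hρmono (by omega : s + 1 ≤ t.1)).trans hs.2)) (hΔ s)
  have hμρ : ∀ i, ∃ t : Fin N, μ i = ρ t := fun i => ⟨σ.symm (j0 i), by rw [hρσ, σ.apply_symm_apply]⟩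
  have hsumμ : ∑ i, μ i = D • ρ (N - 1) - ∑ s ∈ Finset.range (N - 1), c s • Δ s := by
    rw [Finset.sum_congr rfl fun i _ => hmu (μ i) (hμρ i), Finset.sum_sub_distrib, Finset.sum_const,
      Finset.card_univ, Fintype.card_fin, Finset.sum_comm]
    congr 1
    refine Finset.sum_congr rfl fun s _ => ?_
    rw [← Finset.sum_filter, Finset.sum_const]
  let t : ℕ → ℕ := fun s => (Finset.univ.filter fun j => r j ≤ ρ s).card
  have hsumr : (0 : Γ) = N • ρ (N - 1) - ∑ s ∈ Finset.range (N - 1), t s • Δ s := by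
    rw [← hr, Finset.sum_congr rfl fun j _ => hmu (r j) ⟨σ.symm j, by rw [hρσ, σ.apply_symm_apply]⟩,
      Finset.sum_sub_distrib, Finset.sum_const, Finset.card_univ, Fintype.card_fin, Finset.sum_comm]
    congr 1
    refine Finset.sum_congr rfl fun s _ => ?_
    rw [← Finset.sum_filter, Finset.sum_const]
  have hcount : ∀ s ∈ Finset.range (N - 1), 0 < Δ s → N * c s < D * t s := by
    intro s hs hpos
    rw [Finset.mem_range] at hs
    let J := Finset.univ.filter fun j => r j ≤ ρ s
    let f : (Fin N → k) →ₗ[k] ({j // j ∉ J} → k) :=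
      (LinearMap.funLeft k k Subtype.val).comp g.vecMulLinear
    let W := LinearMap.ker f
    have hW : ∀ i, p i ∈ W ↔ μ i ≤ ρ s := fun i => by
      rw [LinearMap.mem_ker]
      refine ⟨fun h => ?_, fun h => funext fun j => ?_⟩
      · by_contra hlt'
        have h1 := congrFun h ⟨j0 i, fun hmem => hlt' (Finset.mem_filter.1 hmem).2⟩
        exact (Finset.mem_filter.1 (hj0 i)).2 h1
      · by_contra hne'
        exact j.2 (Finset.mem_filter.2 ⟨Finset.mem_univ _,
          (hmax i j.1 (Finset.mem_filter.2 ⟨Finset.mem_univ _, hne'⟩)).trans h⟩)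
    have hrk : Module.finrank k W = t s := by
      have hsurj : Function.Surjective f := by
        intro v
        obtain ⟨x, hx⟩ := Matrix.vecMul_surjective_iff_isUnit.2
          ((Matrix.isUnit_iff_isUnit_det g).2 (isUnit_iff_ne_zero.2 hg))
          (fun j => if h : j ∉ J then v ⟨j, h⟩ else 0)
        refine ⟨x, funext fun j => ?_⟩
        show Matrix.vecMul x g j.1 = v j
        rw [show Matrix.vecMul x g = _ from hx]
        exact dif_pos j.2
      have h2 := f.finrank_range_add_finrank_ker
      rw [LinearMap.range_eq_top.2 hsurj, finrank_top, Module.finrank_fintype_fun_eq_card, Module.finrank_fin_fun,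
        Fintype.card_subtype_compl, Fintype.card_fin, Fintype.card_coe] at h2
      have h3 : J.card ≤ N := by simpa using Finset.card_le_univ J
      show Module.finrank k (LinearMap.ker f) = J.card
      omega
    have hpos' : 0 < t s := Finset.card_pos.2 ⟨σ ⟨min s (N - 1), by omega⟩, Finset.mem_filter.2
      ⟨Finset.mem_univ _, le_rfl⟩⟩
    have hlt' : t s < N := by
      have h4 : σ ⟨s + 1, by omega⟩ ∉ J := fun hmem => by
        have h5 := (Finset.mem_filter.1 hmem).2
        rw [← hρσ] at h5
        exact absurd h5 (not_le.2 (sub_pos.1 hpos))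
      simpa [t] using Finset.card_lt_card (Finset.ssubset_univ_iff.2 (fun h => h4 (by rw [h]; exact Finset.mem_univ _) : J ≠ Finset.univ))
    have h6 := hlt W (fun h => by rw [h, finrank_bot] at hrk; omega)
      (fun h => by rw [h, finrank_top, Module.finrank_fin_fun] at hrk; omega)
    rw [hrk, show Nat.card {i : Fin D // p i ∈ W} = c s by
      rw [Nat.card_congr (Equiv.subtypeEquivRight hW), Nat.card_eq_fintype_card, Fintype.card_subtype]] at h6
    rwa [Nat.mul_comm] at h6
  have hsome : ∃ s ∈ Finset.range (N - 1), 0 < Δ s := by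
    by_contra! hall
    obtain ⟨i, hi⟩ := hr0
    have hzero : ∑ s ∈ Finset.range (N - 1), t s • Δ s = 0 := Finset.sum_eq_zero fun s hs => by
      rw [le_antisymm (hall s hs) (hΔ s), smul_zero]
    rw [hzero, sub_zero, eq_comm, smul_eq_zero] at hsumr
    have h7 := hsumr.resolve_left hN.ne'
    refine hi ((hmu (r i) ⟨σ.symm i, by rw [hρσ, σ.apply_symm_apply]⟩).trans ?_)
    rw [h7, zero_sub, neg_eq_zero]
    exact Finset.sum_eq_zero fun s hs => by rw [le_antisymm (hall s hs) (hΔ s), ite_self]
  have key : (0 : Γ) < N • ∑ i, μ i := by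
    have h8 : D • (0 : Γ) = D • (N • ρ (N - 1) - ∑ s ∈ Finset.range (N - 1), t s • Δ s) := congrArg (D • ·) hsumr
    rw [smul_zero, nsmul_sub, Finset.smul_sum] at h8
    rw [hsumμ, nsmul_sub, Finset.smul_sum]
    have h9 : ∑ s ∈ Finset.range (N - 1), N • c s • Δ s < ∑ s ∈ Finset.range (N - 1), D • t s • Δ s := by
      refine Finset.sum_lt_sum (fun s hs => ?_) ?_
      · rw [← mul_nsmul', ← mul_nsmul']
        rcases (hΔ s).eq_or_lt with h | h
        · rw [← h, smul_zero, smul_zero]
        · exact nsmul_le_nsmul_left h.le (hcount s hs h).le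
      · obtain ⟨s, hs, h⟩ := hsome
        refine ⟨s, hs, ?_⟩
        rw [← mul_nsmul', ← mul_nsmul']
        exact nsmul_lt_nsmul_left h (hcount s hs h)
    rw [sub_pos, smul_comm N D, ← sub_eq_zero.1 h8.symm] at *
    exact h9
  exact absurd (nsmul_nonpos hle N) (not_le.2 key)

/-- Too many hyperplanes through a subspace destabilise. -/
theorem not_isStableVec_config {D : ℕ} (hD : (D.factorial : k) ≠ 0) (p : Fin D → Fin N → k)
    (a : CoordGrp.FormIdx N D → k) (ha : CoordGrp.formPoly a = ∏ i, ∑ j, C (p i j) * X j)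
    (W : Submodule k (Fin N → k)) (hW : W ≠ ⊥) (hW' : W ≠ ⊤)
    (hge : D * Module.finrank k W ≤ Nat.card {i : Fin D // p i ∈ W} * N) :
    ¬ @GLin.IsStableVec k _ (CoordGrp.SLn N k) _ _ (CoordGrp.FormIdx N D) (slComod N D k) (slComod_coactAlg N D k) a := by
  classical
  obtain ⟨W', hWW'⟩ := W.exists_isCompl
  let b := ((Module.finBasis k W).prod (Module.finBasis k W')).map (Submodule.prodEquivOfIsCompl W W' hWW')
  have hsum : Module.finrank k W + Module.finrank k W' = N := by
    rw [Submodule.finrank_add_eq_of_isCompl hWW', Module.finrank_fin_fun]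
  let b' : Module.Basis (Fin N) k (Fin N → k) := b.reindex (finSumFinEquiv.trans (finCongr hsum))
  let t := Module.finrank k W
  let B : Matrix (Fin N) (Fin N) k := Matrix.of fun l => b' l
  have hB : B.det ≠ 0 := by
    have := (Pi.basisFun k (Fin N)).invertibleToMatrix b'
    have h1 := Matrix.isUnit_det_of_invertible ((Pi.basisFun k (Fin N)).toMatrix b')
    rw [show (Pi.basisFun k (Fin N)).toMatrix b' = B.transpose from Matrix.ext fun i j => by
      simp [B, Module.Basis.toMatrix_apply], Matrix.det_transpose] at h1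
    exact h1.ne_zero
  have hmul : ∀ v : Fin N → k, Matrix.vecMul v B⁻¹ = fun l => b'.repr v l := fun v => by
    have h1 : Matrix.vecMul (fun l => b'.repr v l) B = v := by
      conv_rhs => rw [← b'.sum_repr v]
      funext i
      simp [Matrix.vecMul, dotProduct, B, Finset.sum_apply]
    conv_lhs => rw [← h1, Matrix.vecMul_vecMul, Matrix.mul_nonsing_inv _ (isUnit_iff_ne_zero.2 hB), Matrix.vecMul_one]
  have hzero : ∀ v ∈ W, ∀ l : Fin N, t ≤ l.1 → b'.repr v l = 0 := by
    intro v hv l hl
    obtain ⟨x, rfl⟩ : ∃ x : Fin N, x = l := ⟨l, rfl⟩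
    rw [Module.Basis.repr_reindex_apply]
    obtain ⟨s, hs⟩ : ∃ s : Fin (Module.finrank k W'), (finSumFinEquiv.trans (finCongr hsum)).symm x = Sum.inr s := by
      rcases hcase : (finSumFinEquiv.trans (finCongr hsum)).symm x with s | s
      · exfalso
        rw [Equiv.symm_apply_eq] at hcase
        have := congrArg Fin.val hcase
        simp [finSumFinEquiv] at this
        omega
      · exact ⟨s, rfl⟩
    rw [hs]
    simp [b, Submodule.prodEquivOfIsCompl_symm_apply_left _ _ hWW' ⟨v, hv⟩]
  have ht0 : 0 < t := Module.finrank_pos_iff.2 ((Submodule.nontrivial_iff_ne_bot).2 hW)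
  have htN : t < N := by
    have := Submodule.finrank_lt hW'
    rwa [Module.finrank_fin_fun] at this
  let r : Fin N → ℤ := fun l => if l.1 < t then (N : ℤ) - t else -(t : ℤ)
  refine not_isStableVec_of_weights hD a B⁻¹ (by rw [Matrix.det_nonsing_inv]; simpa using hB) r ?_
    (fun h => by have := congrFun h ⟨0, by omega⟩; simp [r, ht0] at this; omega) fun e he => ?_
  · rw [← Equiv.sum_comp (finSumFinEquiv.trans (finCongr hsum)), Fintype.sum_sum_type]
    simp [r, finSumFinEquiv, t]
    have hc : (Module.finrank k W' : ℤ) = N - Module.finrank k W := by omega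
    rw [hc]; ring
  rw [ha, map_prod] at he
  simp only [subst_linForm, hmul] at he
  have key : ∀ (s : Finset (Fin D)) (e : Fin N →₀ ℕ),
      e ∈ (∏ i ∈ s, ∑ j, C (b'.repr (p i) j) * X j).support →
      ((s.filter fun i => p i ∈ W).card : ℤ) * N - s.card * t ≤ ∑ l, (e l : ℤ) * r l := by
    intro s
    induction s using Finset.induction_on with
    | empty => intro e he; simp [support_one] at he; subst he; simp
    | insert i s hi ih =>
      intro e he
      rw [Finset.prod_insert hi] at he
      obtain ⟨a, ha', b, hb, rfl⟩ := Finset.mem_add.1 (support_mul _ _ he)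
      rw [mem_support_iff, coeff_sum] at ha'
      obtain ⟨j, -, hj⟩ := Finset.exists_ne_zero_of_sum_ne_zero ha'
      rw [coeff_C_mul, coeff_X'] at hj
      split_ifs at hj with h
      swap
      · simp at hj
      subst h
      have h2 := ih b hb
      have h3 : ∑ l, ((Finsupp.single j 1 + b : Fin N →₀ ℕ) l : ℤ) * r l = r j + ∑ l, (b l : ℤ) * r l := by
        simp [add_mul, Finset.sum_add_distrib, Finsupp.single_apply, ite_mul]
      rw [h3, Finset.filter_insert, Finset.card_insert_of_notMem hi]
      by_cases hiW : p i ∈ W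
      · have hjt : j.1 < t := by
          by_contra hjt
          exact hj (by rw [hzero _ hiW j (by omega), zero_mul])
        rw [if_pos hiW, Finset.card_insert_of_notMem (fun hh => hi (Finset.mem_filter.1 hh).1)]
        simp only [r, if_pos hjt]
        push_cast
        linarith
      · rw [if_neg hiW]
        have h4 : -(t : ℤ) ≤ r j := by
          simp only [r]; split_ifs <;> omega
        push_cast
        linarith
  have h5 := key Finset.univ e he
  rw [Finset.card_univ, Fintype.card_fin, ← Fintype.card_subtype, ← Nat.card_eq_fintype_card] at h5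
  have h6 : (D * t : ℤ) ≤ (Nat.card {i : Fin D // p i ∈ W} : ℤ) * N := by exact_mod_cast hge
  linarith

end Groth.Agent.CommAlg4.FormAct
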