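import Mathlib.RingTheory.Valuation.LocalSubring
import Mathlib.RingTheory.Localization.Away.Basic
import Mathlib.RingTheory.Ideal.MinimalPrime.Localization
import Mathlib.RingTheory.Adjoin.Polynomial.Basic
import Mathlib.RingTheory.IntegralClosure.IsIntegral.Basic

/-!
# A non-integral element is not integral at some valuation
-/

set_option autoImplicit false
universe u v

namespace Groth.Agent.CommAlg4

/-- If `a` is not integral over `R`, some valuation ring of some point contains the image of `R` and not `a`. -/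
theorem exists_valuation_of_not_integral {R : Type u} {A : Type v} [CommRing R] [CommRing A]
    (f : R →+* A) (a : A) (ha : ¬ f.IsIntegralElem a) :
    ∃ (K : Type v) (_ : Field K) (O : ValuationSubring K) (ψ : A →+* K),
      (∀ r, ψ (f r) ∈ O) ∧ ψ a ∉ O := by
  classical
  let := f.toAlgebra
  let S := Localization.Away a
  let ι : A →+* S := algebraMap A S
  have hu : IsUnit (ι a) := IsLocalization.Away.algebraMap_isUnit a
  let u : S := ↑hu.unit⁻¹
  have hau : ι a * u = 1 := hu.mul_val_inv
  let T : Subalgebra R S := Algebra.adjoin R {u}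
  let uT : T := ⟨u, Algebra.subset_adjoin rfl⟩
  have hnu : ¬ IsUnit uT := fun hU => ha (by
    obtain ⟨⟨b, hb⟩, hb1⟩ := isUnit_iff_exists_inv.1 hU
    have hb2 : b = ι a := by
      have h1 : u * b = 1 := congrArg Subtype.val hb1
      calc b = (ι a * u) * b := by rw [hau, one_mul]
        _ = ι a := by rw [mul_assoc, h1, mul_one]
    rw [show T = (Polynomial.aeval u).range from Algebra.adjoin_singleton_eq_range_aeval R u] at hb
    obtain ⟨p, hp⟩ := hb
    replace hp : Polynomial.aeval u p = ι a := hp.trans hb2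
    let N := p.natDegree
    have h2 : ι a ^ (N + 1) = ι (∑ i ∈ Finset.range (N + 1), f (p.coeff i) * a ^ (N - i)) := by
      rw [pow_succ']
      conv_lhs => arg 1; rw [← hp]
      rw [Polynomial.aeval_eq_sum_range, Finset.sum_mul, map_sum]
      refine Finset.sum_congr rfl fun i hi => ?_
      have hiN : i ≤ N := Nat.lt_succ_iff.1 (Finset.mem_range.1 hi)
      rw [Algebra.smul_def, map_mul, map_pow, mul_assoc]
      refine congrArg₂ (· * ·) rfl ?_
      conv_lhs => rw [← Nat.add_sub_cancel' hiN, pow_add, ← mul_assoc, ← mul_pow, mul_comm u, hau, one_pow, one_mul]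
    rw [← map_pow] at h2
    obtain ⟨⟨_, t, rfl⟩, ht⟩ := (IsLocalization.eq_iff_exists (Submonoid.powers a) S).1 h2
    let G : Polynomial R := Polynomial.X ^ (N + 1) -
      ∑ i ∈ Finset.range (N + 1), Polynomial.C (p.coeff i) * Polynomial.X ^ (N - i)
    refine ⟨Polynomial.X ^ t * G, (Polynomial.monic_X_pow t).mul (Polynomial.monic_X_pow_sub ?_), ?_⟩
    · refine (Polynomial.degree_sum_le _ _).trans_lt ((Finset.sup_lt_iff (WithBot.bot_lt_coe _)).2 fun i hi => ?_)
      refine (Polynomial.degree_C_mul_X_pow_le _ _).trans_lt ?_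
      exact WithBot.coe_lt_coe.2 (Nat.lt_succ_of_le (Nat.sub_le _ _))
    · simp only [G, Polynomial.eval₂_mul, Polynomial.eval₂_sub, Polynomial.eval₂_X_pow, Polynomial.eval₂_finsetSum,
        Polynomial.eval₂_C, mul_sub]
      rw [sub_eq_zero]
      exact ht)
  obtain ⟨P, hP, hle⟩ := Ideal.exists_le_maximal (Ideal.span {uT}) (fun h => hnu (Ideal.span_singleton_eq_top.1 h))
  obtain ⟨Q, hQ, hQP⟩ := Ideal.exists_minimalPrimes_le (I := (⊥ : Ideal T)) (J := P) bot_le
  obtain ⟨q, hq, hqQ⟩ := Ideal.exists_comap_eq_of_mem_minimalPrimes_of_injective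
    (f := (T.val : T →+* S)) Subtype.val_injective Q hQ
  let K := FractionRing (S ⧸ q)
  let g : S →+* K := (algebraMap (S ⧸ q) K).comp (Ideal.Quotient.mk q)
  let h : T →+* K := g.comp (T.val : T →+* S)
  have hker : RingHom.ker h = Q := by
    rw [← hqQ]
    ext x
    simp only [h, g, RingHom.mem_ker, RingHom.comp_apply, Ideal.mem_comap,
      IsFractionRing.to_map_eq_zero_iff, Ideal.Quotient.eq_zero_iff_mem]
  let I : Ideal h.range := Ideal.map h.rangeRestrict P
  have hI : I ≠ ⊤ := fun htop => by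
    obtain ⟨x, hx, hx1⟩ := (Ideal.mem_map_iff_of_surjective _ h.rangeRestrict_surjective).1
      (show (1 : h.range) ∈ I by rw [htop]; trivial)
    have h3 : x - 1 ∈ Q := by
      rw [← hker, RingHom.mem_ker, map_sub, map_one, sub_eq_zero]
      exact congrArg Subtype.val hx1
    exact hP.ne_top ((Ideal.eq_top_iff_one _).2 (by simpa using P.sub_mem hx (hQP h3)))
  obtain ⟨O, hO, hnon⟩ := Ideal.image_subset_nonunits_valuationSubring I hI
  refine ⟨K, inferInstance, O, g.comp ι, fun r => hO ⟨algebraMap R T r, rfl⟩, fun hmem => ?_⟩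
  obtain ⟨hu', hm⟩ := ValuationSubring.mem_nonunits_iff_exists_mem_maximalIdeal.1
    (hnon ⟨⟨h uT, ⟨uT, rfl⟩⟩, Ideal.mem_map_of_mem _ (hle (Ideal.subset_span rfl)), rfl⟩)
  refine (IsLocalRing.mem_maximalIdeal _).1 hm (isUnit_iff_exists_inv.2 ⟨⟨_, hmem⟩, Subtype.ext ?_⟩)
  show g u * g (ι a) = 1
  rw [← map_mul, mul_comm, hau, map_one]

end Groth.Agent.CommAlg4
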