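import Groth.Agent.CAlgMisc2.BezoutTorsion
import Mathlib.RingTheory.Valuation.ValuationSubring
import Mathlib.LinearAlgebra.Matrix.Basis
import Mathlib.LinearAlgebra.Matrix.NonsingularInverse
import Mathlib.LinearAlgebra.Matrix.ToLinearEquiv

/-!
# Diagonalisation of an invertible matrix over a valuation subring
-/

set_option autoImplicit false
universe u

namespace Groth.Agent.CommAlg4

open Matrix

theorem exists_smith {K : Type u} [Field K] (O : ValuationSubring K) {N : ℕ}
    (M : Matrix (Fin N) (Fin N) K) (hM : M.det ≠ 0) :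
    ∃ (U W : Matrix (Fin N) (Fin N) O) (δ : Fin N → K), IsUnit U.det ∧ IsUnit W.det ∧
      M = U.map (fun x => (x : K)) * Matrix.diagonal δ * W.map (fun x => (x : K)) := by
  classical
  rcases Nat.eq_zero_or_pos N with rfl | hN
  · exact ⟨1, 1, 0, by simp, by simp, Subsingleton.elim _ _⟩
  have : Nonempty (Fin N) := ⟨⟨0, hN⟩⟩
  obtain ⟨p, -, hp⟩ := Finset.exists_max_image (Finset.univ : Finset (Fin N × Fin N))
    (fun p => O.valuation (M p.1 p.2)) Finset.univ_nonempty
  have hp0 : M p.1 p.2 ≠ 0 := fun h => hM (by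
    have hz : M = 0 := Matrix.ext fun i j => by
      have h1 := hp (i, j) (Finset.mem_univ _)
      rw [h, map_zero, nonpos_iff_eq_zero, map_eq_zero] at h1
      exact h1
    rw [hz, Matrix.det_zero])
  let c : K := (M p.1 p.2)⁻¹
  have hc : ∀ i j, c * M i j ∈ O := fun i j => by
    rw [← ValuationSubring.valuation_le_one_iff, map_mul, map_inv₀, inv_mul_eq_div]
    exact (div_le_one₀ (zero_lt_iff.2 ((Valuation.ne_zero_iff _).2 hp0))).2 (hp (i, j) (Finset.mem_univ _))
  let MO : Matrix (Fin N) (Fin N) O := fun i j => ⟨c * M i j, hc i j⟩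
  obtain ⟨b, a, hb⟩ := CAlgMisc2.exists_diag_basis
    (fun x y : O => ValuationRing.dvd_total x y) N
    (Submodule.span O (Set.range fun j => MO.col j)) (Submodule.fg_span (Set.finite_range _))
  let U : Matrix (Fin N) (Fin N) O := (Pi.basisFun O (Fin N)).toMatrix b
  have hU : ∀ i l, U i l = b l i := fun i l => by simp [U, Module.Basis.toMatrix_apply]
  have h1 : ∀ j, ∃ w : Fin N → O, ∑ l, w l • (a l • b l) = MO.col j := fun j =>
    Submodule.mem_span_range_iff_exists_fun O |>.1 (hb ▸ Submodule.subset_span ⟨j, rfl⟩)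
  have h2 : ∀ l, ∃ w : Fin N → O, ∑ j, w j • MO.col j = a l • b l := fun l =>
    Submodule.mem_span_range_iff_exists_fun O |>.1 (hb.symm ▸ Submodule.subset_span ⟨l, rfl⟩)
  choose w hw using h1
  choose w' hw' using h2
  let W : Matrix (Fin N) (Fin N) O := fun l j => w j l
  let W' : Matrix (Fin N) (Fin N) O := fun j l => w' l j
  have e1 : MO = U * Matrix.diagonal a * W := Matrix.ext fun i j => by
    have := congrFun (hw j) i
    simp only [Finset.sum_apply, Pi.smul_apply, smul_eq_mul, Matrix.col_apply] at this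
    rw [← this, Matrix.mul_apply]
    exact Finset.sum_congr rfl fun l _ => by rw [Matrix.mul_diagonal, hU]; ring
  have e2 : U * Matrix.diagonal a = MO * W' := Matrix.ext fun i l => by
    have := congrFun (hw' l) i
    simp only [Finset.sum_apply, Pi.smul_apply, smul_eq_mul, Matrix.col_apply] at this
    rw [Matrix.mul_diagonal, hU, mul_comm, ← this, Matrix.mul_apply]
    exact Finset.sum_congr rfl fun j _ => mul_comm _ _
  have hdetMO : MO.det ≠ 0 := fun h => hM (by
    have h3 := congrArg (algebraMap O K) h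
    rw [RingHom.map_det, map_zero] at h3
    have h4 : (algebraMap O K).mapMatrix MO = c • M := Matrix.ext fun i j => rfl
    rw [h4, Matrix.det_smul] at h3
    exact (mul_eq_zero.1 h3).resolve_left (pow_ne_zero _ (inv_ne_zero hp0)))
  have hW : IsUnit W.det := by
    have h5 : MO.det * (W'.det * W.det) = MO.det * 1 := by
      rw [mul_one, ← mul_assoc, ← Matrix.det_mul, ← e2, ← Matrix.det_mul, ← e1]
    exact IsUnit.of_mul_eq_one_right _ (mul_left_cancel₀ hdetMO h5)
  refine ⟨U, W, fun l => c⁻¹ * (a l : K), ?_, hW, Matrix.ext fun i j => ?_⟩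
  · have := (Pi.basisFun O (Fin N)).invertibleToMatrix b
    exact Matrix.isUnit_det_of_invertible U
  · have h6 := congrArg Subtype.val (congrFun (congrFun e1 i) j)
    rw [show (M i j) = c⁻¹ * (c * M i j) by rw [← mul_assoc, inv_mul_cancel₀ (inv_ne_zero hp0), one_mul],
      show c * M i j = ((MO i j : O) : K) from rfl, h6]
    simp only [Matrix.mul_apply, Matrix.diagonal_apply, mul_ite, mul_zero, Finset.sum_ite_eq', Finset.mem_univ,
      if_true, Matrix.map_apply, AddSubmonoidClass.coe_finset_sum, MulMemClass.coe_mul, Finset.mul_sum]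
    exact Finset.sum_congr rfl fun l _ => by ring

end Groth.Agent.CommAlg4
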