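import Groth.Agent.CommAlg4.FormAct
import Groth.Agent.CommAlg4.ValIntegral
import Groth.Agent.CommAlg4.ValSmith
import Mathlib.RingTheory.Nullstellensatz
import Mathlib.RingTheory.Valuation.ValuationSubring

/-!
# A numerical criterion for stability of forms under the special linear group
-/

set_option autoImplicit false
universe u

noncomputable section

open MvPolynomial CoordGrp

namespace Groth.Agent.CommAlg4.FormAct

variable {N d : ℕ}

/-- A set of exponents on which no non-zero weight of sum zero is everywhere non-positive. -/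
def Good (S : Set (Fin N →₀ ℕ)) : Prop :=
  ∀ (Γ : Type u) [AddCommGroup Γ] [LinearOrder Γ] [IsOrderedAddMonoid Γ] (r : Fin N → Γ),
    ∑ i, r i = 0 → (∀ e ∈ S, ∑ i, e i • r i ≤ 0) → ∀ i, r i = 0

variable {k : Type u} [Field k] [IsAlgClosed k]

/-- Descent of the vanishing of coefficients to the algebraically closed base. -/
theorem exists_subst_support {L : Type u} [Field L] [Algebra k L] (U : Matrix (Fin N) (Fin N) L) (hU : U.det ≠ 0)
    {F : MvPolynomial (Fin N) k} (hF : F.IsHomogeneous d) :
    ∃ g : Matrix (Fin N) (Fin N) k, g.det ≠ 0 ∧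
      ∀ e ∈ (subst g F).support, coeff e (subst U (map (algebraMap k L) F)) ≠ 0 := by
  classical
  let Z := Option (Fin N × Fin N)
  let XM : Matrix (Fin N) (Fin N) (MvPolynomial Z k) := fun i j => X (some (i, j))
  let P : MvPolynomial (Fin N) (MvPolynomial Z k) := subst XM (map C F)
  let E : Set (MvPolynomial Z k) :=
    {p | ∃ e, coeff e (subst U (map (algebraMap k L) F)) = 0 ∧ p = coeff e P} ∪ {XM.det * X none - 1}
  let v : Z → L := fun z => z.elim U.det⁻¹ fun p => U p.1 p.2
  let ev : MvPolynomial Z k →+* L := eval₂Hom (algebraMap k L) v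
  have hev : map ev P = subst U (map (algebraMap k L) F) := by
    rw [map_subst, map_map, show ev.comp C = algebraMap k L from RingHom.ext fun r => eval₂Hom_C _ _ r]
    congr 2
    ext i j
    show ev (XM i j) = U i j
    simp [XM, ev, v]
  have hE : Ideal.span E ≠ ⊤ := fun h => by
    have hle : Ideal.span E ≤ RingHom.ker ev := by
      rw [Ideal.span_le]
      rintro _ (⟨e, he, rfl⟩ | rfl)
      · rw [SetLike.mem_coe, RingHom.mem_ker, ← coeff_map, hev, he]
      · rw [SetLike.mem_coe, RingHom.mem_ker, map_sub, map_mul, RingHom.map_det, map_one, sub_eq_zero]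
        rw [show ev.mapMatrix XM = U from Matrix.ext fun i j => by
          show ev (XM i j) = U i j
          simp [XM, ev, v]]
        simp [ev, v, hU]
    rw [h] at hle
    exact one_ne_zero (α := L) (by
      have h1 := RingHom.mem_ker.1 (hle (Submodule.mem_top (x := (1 : MvPolynomial Z k))))
      rwa [map_one] at h1)
  obtain ⟨M, hM, hEM⟩ := Ideal.exists_le_maximal _ hE
  obtain ⟨z, rfl⟩ := isMaximal_iff_eq_vanishingIdeal_singleton.1 hM
  have hz : ∀ p ∈ E, eval z p = 0 := fun p hp => by
    simpa using hEM (Ideal.subset_span hp) z rfl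
  let g : Matrix (Fin N) (Fin N) k := fun i j => z (some (i, j))
  have hg : (eval z).mapMatrix XM = g := Matrix.ext fun i j => by
    show eval z (XM i j) = g i j
    simp [XM, g]
  refine ⟨g, fun h => ?_, fun e he h0 => ?_⟩
  · have h1 := hz _ (Or.inr rfl)
    rw [map_sub, map_mul, RingHom.map_det, hg, h, zero_mul, map_one, zero_sub, neg_eq_zero] at h1
    exact one_ne_zero h1
  · have h1 := hz _ (Or.inl ⟨e, h0, rfl⟩)
    rw [← coeff_map, map_subst, map_map, show (eval z).comp C = RingHom.id k from RingHom.ext fun r => eval_C r,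
      MvPolynomial.map_id, show XM.map (eval z) = g from hg] at h1
    exact mem_support_iff.1 he h1

/-- If a transformed form is integral at a valuation, so is the transformation. -/
theorem entries_mem_of_good' {K : Type u} [Field K] [Algebra k K] (O : ValuationSubring K)
    (hk : ∀ c : k, algebraMap k K c ∈ O) (M : Matrix (Fin N) (Fin N) K) (hM : O.valuation M.det = 1)
    {F : MvPolynomial (Fin N) k} (hF : F.IsHomogeneous d)
    (hint : ∀ e, coeff e (subst M (map (algebraMap k K) F)) ∈ O)
    (hgood : ∀ g : Matrix (Fin N) (Fin N) k, g.det ≠ 0 → Good.{u} (↑(subst g F).support : Set (Fin N →₀ ℕ))) :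
    ∀ i j, M i j ∈ O := by
  classical
  have hM0 : M.det ≠ 0 := fun h => by rw [h, map_zero] at hM; exact zero_ne_one hM
  obtain ⟨U, W, δ, hU, hW, hMeq⟩ := exists_smith O M hM0
  let vO : O →+* K := algebraMap O K
  let jO : k →+* O := (algebraMap k K).codRestrict O.toSubring hk
  let res := IsLocalRing.residue O
  let : Algebra k (IsLocalRing.ResidueField O) := (res.comp jO).toAlgebra
  let U' : Matrix (Fin N) (Fin N) K := U.map vO
  let W' : Matrix (Fin N) (Fin N) K := W.map vO
  have hMeq' : M = U' * Matrix.diagonal δ * W' := hMeq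
  have hdetprod : U'.det * (∏ i, δ i) * W'.det = M.det := by
    rw [← Matrix.det_diagonal, ← Matrix.det_mul, ← Matrix.det_mul, ← hMeq']
  have hδ0 : ∀ i, δ i ≠ 0 := fun i h => by
    rw [Finset.prod_eq_zero (Finset.mem_univ i) h, mul_zero, zero_mul] at hdetprod
    exact hM0 hdetprod.symm
  have hvdet : ∀ V : Matrix (Fin N) (Fin N) O, IsUnit V.det → O.valuation (V.map vO).det = 1 := fun V hV => by
    rw [← RingHom.mapMatrix_apply, ← RingHom.map_det]
    exact (O.valuation_eq_one_iff _).1 hV
  have hprod : ∏ i, O.valuation (δ i) = 1 := by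
    have h1 := congrArg O.valuation hdetprod
    rwa [map_mul, map_mul, hM, hvdet U hU, hvdet W hW, one_mul, mul_one, map_prod] at h1
  -- the form in the middle
  let q : MvPolynomial (Fin N) O := subst U (map jO F)
  have hq : map vO q = subst U' (map (algebraMap k K) F) := by
    rw [map_subst, map_map]
    rfl
  have hqint : ∀ e, coeff e (map vO q) * ∏ i, δ i ^ e i ∈ O := fun e => by
    have hT : ∃ T : MvPolynomial (Fin N) O, map vO T = subst (Matrix.diagonal δ) (map vO q) := by
      obtain ⟨T0, hT0⟩ : ∃ T0 : MvPolynomial (Fin N) O,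
          map vO T0 = subst M (map (algebraMap k K) F) := by
        have hmem : subst M (map (algebraMap k K) F) ∈ (map vO).range := by
          show _ ∈ Set.range (map vO)
          rw [mem_range_map_iff_coeffs_subset]
          intro c hc
          rw [coeffs, Finset.mem_coe, Finset.mem_image] at hc
          obtain ⟨e, -, rfl⟩ := hc
          exact ⟨⟨_, hint e⟩, rfl⟩
        exact hmem
      refine ⟨subst W⁻¹ T0, ?_⟩
      rw [map_subst, hT0, hq, subst_subst, subst_subst]
      congr 2
      rw [hMeq', mul_assoc, ← Matrix.map_mul, Matrix.mul_nonsing_inv _ hW,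
        Matrix.map_one _ (map_zero vO) (map_one vO), mul_one]
    obtain ⟨T, hT⟩ := hT
    rw [← coeff_subst_diagonal, ← hT, coeff_map]
    exact (coeff e T).2
  -- the support of the reduction
  obtain ⟨g, hg, hsupp⟩ := exists_subst_support (k := k) (U.map res) (by
    rw [← RingHom.mapMatrix_apply, ← RingHom.map_det]
    exact (hU.map res).ne_zero) hF
  have hunit : ∀ e ∈ (subst g F).support, O.valuation (coeff e (map vO q)) = 1 := fun e he => by
    have h1 := hsupp e he
    rw [show map (algebraMap k (IsLocalRing.ResidueField O)) F = map res (map jO F) by rw [map_map]; rfl,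
      ← map_subst, coeff_map] at h1
    rw [coeff_map]
    refine (O.valuation_eq_one_iff _).1 ?_
    by_contra h2
    exact h1 ((IsLocalRing.residue_eq_zero_iff _).2 ((IsLocalRing.mem_maximalIdeal _).2 h2))
  let γ : Fin N → (O.ValueGroup)ˣ := fun i => Units.mk0 (O.valuation (δ i)) ((Valuation.ne_zero_iff _).2 (hδ0 i))
  have hγ : ∀ i, Additive.ofMul (γ i) = 0 := by
    refine hgood g hg (Additive (O.ValueGroup)ˣ) (fun i => Additive.ofMul (γ i)) ?_ fun e he => ?_
    · rw [← ofMul_prod, ofMul_eq_zero, ← Units.val_eq_one, Units.coe_prod]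
      exact hprod
    · simp only [← ofMul_pow, ← ofMul_prod]
      rw [← ofMul_one, Additive.ofMul_le, ← Units.val_le_val, Units.coe_prod]
      have h1 := (O.valuation_le_one_iff _).2 (hqint e)
      rw [map_mul, hunit e he, one_mul, map_prod] at h1
      simpa [γ, map_pow] using h1
  have hδO : ∀ i, δ i ∈ O := fun i => by
    have h1 : γ i = 1 := hγ i
    rw [← ValuationSubring.valuation_le_one_iff]
    exact le_of_eq (congrArg Units.val h1)
  intro i j
  rw [hMeq', Matrix.mul_apply]
  refine sum_mem fun l _ => ?_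
  rw [Matrix.mul_diagonal]
  exact mul_mem (mul_mem (U i l).2 (hδO l)) (W l j).2

theorem entries_mem_of_good {K : Type u} [Field K] [Algebra k K] (O : ValuationSubring K)
    (hk : ∀ c : k, algebraMap k K c ∈ O) (M : Matrix (Fin N) (Fin N) K) (hM : M.det = 1)
    {F : MvPolynomial (Fin N) k} (hF : F.IsHomogeneous d)
    (hint : ∀ e, coeff e (subst M (map (algebraMap k K) F)) ∈ O)
    (hgood : ∀ g : Matrix (Fin N) (Fin N) k, g.det ≠ 0 → Good.{u} (↑(subst g F).support : Set (Fin N →₀ ℕ))) :
    ∀ i j, M i j ∈ O :=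
  entries_mem_of_good' O hk M (by rw [hM, map_one]) hF hint hgood

omit [IsAlgClosed k] in
theorem adjoin_slMat :
    Algebra.adjoin k (Set.range fun p : Fin N × Fin N => (SLn.X p.1 p.2 : SLn N k)) = ⊤ := by
  refine top_le_iff.1 fun x _ => ?_
  obtain ⟨y, rfl⟩ := Ideal.Quotient.mkₐ_surjective k (GLn.slIdeal N k) x
  obtain ⟨z, rfl⟩ := Ideal.Quotient.mkₐ_surjective k (GLb.relIdeal N k) y
  show SLn.mk N k (GLn.mk N k z) ∈ _
  have hDinv : SLn.mk N k (GLn.Dinv : GLn N k) = 1 := by
    have h1 := congrArg (SLn.mk N k) (GLn.det_mul_Dinv (n := N) (k := k))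
    rwa [map_mul, SLn.det_eq_one, one_mul, map_one] at h1
  let Φ : MvPolynomial (GLPoly.Idx N) k →ₐ[k] SLn N k := (SLn.mk N k).comp (GLn.mk N k)
  show Φ z ∈ _
  have hz : ∀ p : MvPolynomial (GLPoly.Idx N) k,
      Φ p ∈ Algebra.adjoin k (Set.range fun p : Fin N × Fin N => (SLn.X p.1 p.2 : SLn N k)) := fun p => by
    induction p using MvPolynomial.induction_on with
    | C c => exact (Φ.commutes c).symm ▸ Subalgebra.algebraMap_mem _ c
    | add p q hp hq => rw [map_add]; exact add_mem hp hq
    | mul_X p i hp =>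
      rw [map_mul]
      refine mul_mem hp ?_
      rcases i with ⟨a, b⟩ | ⟨⟨⟩⟩
      · exact Algebra.subset_adjoin ⟨(a, b), rfl⟩
      · show SLn.mk N k (GLn.Dinv : GLn N k) ∈ _
        rw [hDinv]
        exact one_mem _
  exact hz z

/-- The orbit morphism of a form is integral under the criterion. -/
theorem isIntegral_orbit (a : FormIdx N d → k)
    (hgood : ∀ g : Matrix (Fin N) (Fin N) k, g.det ≠ 0 →
      Good.{u} (↑(subst g (formPoly a)).support : Set (Fin N →₀ ℕ))) :
    (orbit a : FormRing k N d →ₐ[k] SLn N k).toRingHom.IsIntegral := by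
  classical
  let f := (orbit a : FormRing k N d →ₐ[k] SLn N k).toRingHom
  have hgen : ∀ i j, f.IsIntegralElem (SLn.X i j) := fun i j => by
    by_contra hni
    obtain ⟨K, _, O, ψ, hR, hX⟩ := exists_valuation_of_not_integral f _ hni
    let : Algebra k K := (ψ.comp (algebraMap k (SLn N k))).toAlgebra
    have hk : ∀ c : k, algebraMap k K c ∈ O := fun c => by
      have h1 := hR (C c)
      rwa [show f (C c) = algebraMap k (SLn N k) c from (orbit a).commutes c] at h1
    refine hX (entries_mem_of_good O hk ((slMat N k).map ψ) ?_ (isHomogeneous_formPoly a) (fun e => ?_) hgood i j)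
    · rw [← RingHom.mapMatrix_apply, ← RingHom.map_det, det_slMat, map_one]
    · rw [show map (algebraMap k K) (formPoly a) = map ψ (map (algebraMap k (SLn N k)) (formPoly a)) by
        rw [map_map]; rfl, ← map_subst, coeff_map]
      by_cases he : e.degree = d
      · rw [coeff_orbit_form a ⟨e, he⟩, map_mul, map_natCast]
        exact mul_mem (natCast_mem O _) (hR _)
      · rw [(isHomogeneous_subst _ ((isHomogeneous_formPoly a).map _)).coeff_eq_zero he, map_zero]
        exact O.zero_mem
  let : Algebra (FormRing k N d) (SLn N k) := f.toAlgebra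
  intro x
  have hmem : x ∈ Algebra.adjoin k (Set.range fun p : Fin N × Fin N => (SLn.X p.1 p.2 : SLn N k)) := by
    rw [adjoin_slMat]; trivial
  induction hmem using Algebra.adjoin_induction with
  | mem y hy => obtain ⟨p, rfl⟩ := hy; exact hgen _ _
  | algebraMap c =>
    rw [show algebraMap k (SLn N k) c = f (C c) from ((orbit a).commutes c).symm]
    exact RingHom.isIntegralElem_map f
  | add y z _ _ hy hz => exact hy.add f hz
  | mul y z _ _ hy hz => exact hy.mul f hz

/-- The numerical criterion of stability. -/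
theorem isStableVec_of_good (a : FormIdx N d → k)
    (hgood : ∀ g : Matrix (Fin N) (Fin N) k, g.det ≠ 0 →
      Good.{u} (↑(subst g (formPoly a)).support : Set (Fin N →₀ ℕ))) :
    @GLin.IsStableVec k _ (SLn N k) _ _ (FormIdx N d) (slComod N d k) (slComod_coactAlg N d k) a := by
  classical
  have hint := isIntegral_orbit a hgood
  refine ⟨(PrimeSpectrum.isClosedMap_comap_of_isIntegral _ hint).isClosed_range, ?_⟩
  let f := (orbit a : FormRing k N d →ₐ[k] SLn N k).toRingHom
  let I : Ideal (SLn N k) := Ideal.map f (RingHom.ker (GLin.vecPt k _ a))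
  show Module.Finite k (SLn N k ⧸ I)
  let mk : SLn N k →ₐ[k] SLn N k ⧸ I := Ideal.Quotient.mkₐ k I
  have hred : ∀ c, mk (f c) = algebraMap k _ (GLin.vecPt k _ a c) := fun c => by
    have h1 : f (c - C (GLin.vecPt k _ a c)) ∈ I := Ideal.mem_map_of_mem _ (by simp [RingHom.mem_ker, GLin.vecPt])
    rw [map_sub, ← Ideal.Quotient.eq, show f (C (GLin.vecPt k _ a c)) = algebraMap k _ _ from (orbit a).commutes _] at h1
    exact h1.trans rfl
  have : Algebra.IsIntegral k (SLn N k ⧸ I) := ⟨fun y => by
    obtain ⟨x, rfl⟩ := Ideal.Quotient.mk_surjective y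
    obtain ⟨p, hp, hpx⟩ := hint x
    refine ⟨p.map (GLin.vecPt k _ a).toRingHom, hp.map _, ?_⟩
    rw [Polynomial.eval₂_map]
    have h2 := congrArg mk hpx
    rw [map_zero] at h2
    refine Eq.trans ?_ h2
    rw [show mk (Polynomial.eval₂ f x p) = mk.toRingHom (Polynomial.eval₂ f x p) from rfl, Polynomial.hom_eval₂]
    exact Polynomial.eval₂_congr (RingHom.ext fun c => (hred c).symm) rfl rfl⟩
  have : Algebra.FiniteType k (SLn N k) := ⟨⟨(Set.finite_range fun p : Fin N × Fin N =>
    (SLn.X p.1 p.2 : SLn N k)).toFinset, by rw [Set.Finite.coe_toFinset]; exact adjoin_slMat⟩⟩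
  have : Algebra.FiniteType k (SLn N k ⧸ I) :=
    Algebra.FiniteType.of_surjective mk (Ideal.Quotient.mkₐ_surjective k I)
  exact Algebra.IsIntegral.finite

end Groth.Agent.CommAlg4.FormAct
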