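import Groth.Prelude.Def_Frob
import Groth.Agent.EGA41Lib.PBasisKaehler
import Groth.Agent.EGA41Lib.FieldSeparableSmooth
import Groth.Agent.CAlgH.CartierSquare
import Mathlib

/-!
# The degree of the relative Frobenius of a separable field extension

`[L : k[L^p]] = p ^ trdeg` and the Frobenius of the spectrum of a ring.
-/

set_option autoImplicit false

universe u

open CategoryTheory AlgebraicGeometry

namespace Groth.Agent.CommAlg4

open EGA41Lib in
/-- For a separable finitely generated extension `L/k` in characteristic `p`, the degree of `L` over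
`k[L^p]` is `p ^ trdeg`. -/
theorem finrank_powAlg (p : ℕ) [Fact p.Prime] (k L : Type u) [Field k] [Field L] [Algebra k L]
    [CharP L p] [Algebra.EssFiniteType k L] [Algebra.FormallySmooth k L] (d : ℕ)
    (hd : Algebra.trdeg k L = d) :
    Module.finrank (PB.powAlg p k L) L = p ^ d := by
  classical
  obtain ⟨hfin, -, hc⟩ := CAlgH.CartierSquare.cartier k L
  haveI := hfin
  have hΩ : Module.finrank L Ω[L⁄k] = d := by
    haveI : Subsingleton (Algebra.H1Cotangent k L) := inferInstance
    rw [Module.finrank_zero_of_subsingleton (R := L) (M := Algebra.H1Cotangent k L), hd,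
      Cardinal.toNat_natCast, Nat.cast_zero, sub_zero] at hc
    exact_mod_cast hc
  obtain ⟨B, hind, hgen⟩ := PB.exists_pBasis p k L
  have hgen' : Algebra.adjoin (PB.powAlg p k L) (Set.range (Subtype.val : B → L)) = ⊤ := by
    rwa [Subtype.range_coe]
  obtain ⟨b, -⟩ := (PB.exists_basis_iff p k (Subtype.val : B → L)).1 ⟨hind, hgen'⟩
  haveI : Fintype B := FiniteDimensional.fintypeBasisIndex b
  have hcard : Fintype.card B = d := by rw [← Module.finrank_eq_card_basis b, hΩ]
  let e : (B → Fin p) ≃ PB.Red p B :=
    { toFun := fun f => ⟨Finsupp.equivFunOnFinite.symm fun i => (f i : ℕ), fun i => by simp⟩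
      invFun := fun e i => ⟨e.1 i, e.2 i⟩
      left_inv := fun f => funext fun i => Fin.ext (by simp)
      right_inv := fun e => Subtype.ext (Finsupp.ext fun i => by simp) }
  have hspan : Submodule.span (PB.powAlg p k L)
      (Set.range fun e : PB.Red p B => PB.mon (Subtype.val : B → L) e.1) = ⊤ := by
    rw [PB.span_mon_eq_adjoin (Fact.out : p.Prime).pos _
      (fun i => PB.pow_mem_range_powAlg p k _), hgen', Algebra.top_toSubmodule]
  let m := (Module.Basis.mk hind hspan.ge).reindex e.symm
  rw [Module.finrank_eq_card_basis m, Fintype.card_fun, Fintype.card_fin, hcard]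

/-- The absolute Frobenius of the spectrum of a ring of characteristic `p`. -/
theorem frob_Spec (p : ℕ) [Fact p.Prime] (R : Type u) [CommRing R] [CharP R p] :
    FrobSch.frob (Spec (CommRingCat.of R)) p = Spec.map (CommRingCat.ofHom (frobenius R p)) := by
  refine ext_of_isAffine ?_
  ext x
  have h1 : (FrobSch.frob (Spec (CommRingCat.of R)) p).appTop.hom x = x ^ p := rfl
  refine h1.trans ?_
  obtain ⟨r, rfl⟩ : ∃ r, (Scheme.ΓSpecIso (CommRingCat.of R)).inv.hom r = x :=
    ⟨(Scheme.ΓSpecIso (CommRingCat.of R)).hom.hom x,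
      (Scheme.ΓSpecIso (CommRingCat.of R)).commRingCatIsoToRingEquiv.symm_apply_apply x⟩
  refine (map_pow (Scheme.ΓSpecIso (CommRingCat.of R)).inv.hom r p).symm.trans ?_
  have h2 := congrArg (fun g => g.hom r)
    (Scheme.ΓSpecIso_inv_naturality (CommRingCat.ofHom (frobenius R p)))
  exact h2

end Groth.Agent.CommAlg4
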