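import Groth.Agent.FF.ExtConst
import Groth.Agent.FF.Degree
import Mathlib

/-! Places fixed by Frobenius of an algebraic constant field extension. -/

set_option autoImplicit false
set_option backward.isDefEq.respectTransparency false

open FunFld WithZero Groth.Agent.FF
open scoped Classical Pointwise

namespace Groth.Agent.CommAlg4.FrobFixPlace

variable {k K kb Kb : Type*} [Field k] [Field K] [Algebra k K] [Field kb] [Algebra k kb]
  [Field Kb] [Algebra K Kb] [Algebra kb Kb]

theorem val_const_eq_one (Q : Place kb Kb) {c : kb} (hc : c ≠ 0) : Q.1 (algebraMap kb Kb c) = 1 :=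
  val_algebraMap Q hc

/-- Writing through constants independent over `k`. -/
theorem exists_indep_rep (hc : ∀ c : k, algebraMap K Kb (algebraMap k K c) = algebraMap kb Kb (algebraMap k kb c))
    (hgen : Algebra.adjoin K (Set.range (algebraMap kb Kb)) = ⊤) (z : Kb) :
    ∃ (n : ℕ) (c : Fin n → kb) (x : Fin n → K), LinearIndependent k c ∧
      z = ∑ i, algebraMap kb Kb (c i) * algebraMap K Kb (x i) := by
  have hV : ∃ V : Submodule k kb, V.FG ∧ z ∈ Submodule.span K (algebraMap kb Kb '' (V : Set kb)) := by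
    have hz : z ∈ Algebra.adjoin K (Set.range (algebraMap kb Kb)) := hgen ▸ Algebra.mem_top
    induction hz using Algebra.adjoin_induction with
    | mem y hy =>
      obtain ⟨c, rfl⟩ := hy
      exact ⟨Submodule.span k {c}, Submodule.fg_span_singleton c,
        Submodule.subset_span ⟨c, Submodule.mem_span_singleton_self c, rfl⟩⟩
    | algebraMap r =>
      refine ⟨Submodule.span k {1}, Submodule.fg_span_singleton 1, ?_⟩
      rw [Algebra.algebraMap_eq_smul_one]
      exact Submodule.smul_mem _ _ (Submodule.subset_span ⟨1, Submodule.mem_span_singleton_self 1, map_one _⟩)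
    | add a b _ _ ha hb =>
      obtain ⟨V, hV, hav⟩ := ha
      obtain ⟨W, hW, hbw⟩ := hb
      exact ⟨V ⊔ W, hV.sup hW, add_mem (Submodule.span_mono (Set.image_mono (SetLike.coe_subset_coe.mpr le_sup_left)) hav)
        (Submodule.span_mono (Set.image_mono (SetLike.coe_subset_coe.mpr le_sup_right)) hbw)⟩
    | mul a b _ _ ha hb =>
      obtain ⟨V, hV, hav⟩ := ha
      obtain ⟨W, hW, hbw⟩ := hb
      refine ⟨V * W, hV.mul hW, ?_⟩
      have hab := Submodule.mul_mem_mul hav hbw
      rw [Submodule.span_mul_span] at hab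
      refine Submodule.span_mono ?_ hab
      rintro _ ⟨_, ⟨v, hv, rfl⟩, _, ⟨w, hw, rfl⟩, rfl⟩
      exact ⟨v * w, Submodule.mul_mem_mul hv hw, map_mul _ _ _⟩
  obtain ⟨V, hV, hz⟩ := hV
  haveI : Module.Finite k V := Module.Finite.iff_fg.mpr hV
  let b := Module.finBasis k V
  refine ⟨_, fun i => (b i : kb), ?_⟩
  have hle : Submodule.span K (algebraMap kb Kb '' (V : Set kb)) ≤
      Submodule.span K (Set.range fun i => algebraMap kb Kb (b i : kb)) := by
    rw [Submodule.span_le]
    rintro _ ⟨v, hv, rfl⟩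
    have h := congrArg Subtype.val (b.sum_repr ⟨v, hv⟩)
    simp only [Submodule.coe_sum, Submodule.coe_smul] at h
    rw [SetLike.mem_coe, ← h, map_sum]
    refine Submodule.sum_mem _ fun i _ => ?_
    rw [Algebra.smul_def, map_mul, ← hc, ← Algebra.smul_def]
    exact Submodule.smul_mem _ _ (Submodule.subset_span ⟨i, rfl⟩)
  obtain ⟨x, hx⟩ := (Submodule.mem_span_range_iff_exists_fun K).mp (hle hz)
  refine ⟨x, b.linearIndependent.map' V.subtype V.ker_subtype, ?_⟩
  rw [← hx]
  exact Finset.sum_congr rfl fun i _ => by rw [Algebra.smul_def, mul_comm]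

theorem exists_residue_const (P : Place k K) (hdeg : P.deg = 1) {x : K} (hx : P.1 x ≤ 1) :
    ∃ r : k, P.1 (x - algebraMap k K r) < 1 := by
  letI := Place.algRes P
  obtain ⟨r, hr⟩ := (finrank_eq_one_iff_of_nonzero' (1 : IsLocalRing.ResidueField P.O) one_ne_zero).mp hdeg
    (IsLocalRing.residue P.O ⟨x, (mem_O P).2 hx⟩)
  rw [← map_one (IsLocalRing.residue P.O), smul_residue P r 1, eq_comm, ← sub_eq_zero, ← map_sub,
    residue_eq_zero_iff] at hr
  refine ⟨r, ?_⟩
  simpa [Algebra.smul_def] using hr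

theorem val_sum_eq (hc : ∀ c : k, algebraMap K Kb (algebraMap k K c) = algebraMap kb Kb (algebraMap k kb c))
    {P : Place k K} {Q : Place kb Kb} (hPQ : ∀ x : K, Q.1 (algebraMap K Kb x) ≤ 1 ↔ P.1 x ≤ 1) (hdeg : P.deg = 1)
    {n : ℕ} {c : Fin n → kb} (hli : LinearIndependent k c) (x : Fin n → K) (i₀ : Fin n) (hi₀ : x i₀ ≠ 0)
    (hmax : ∀ i, Q.1 (algebraMap K Kb (x i)) ≤ Q.1 (algebraMap K Kb (x i₀))) :
    Q.1 (∑ i, algebraMap kb Kb (c i) * algebraMap K Kb (x i)) = Q.1 (algebraMap K Kb (x i₀)) := by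
  have hQ0 : Q.1 (algebraMap K Kb (x i₀)) ≠ 0 := (map_ne_zero Q.1).mpr ((map_ne_zero _).mpr hi₀)
  have hy : ∀ i, P.1 (x i / x i₀) ≤ 1 := fun i => by
    rw [← hPQ, map_div₀, map_div₀, div_le_one₀ (zero_lt_iff.mpr hQ0)]; exact hmax i
  choose r hr using fun i => exists_residue_const P hdeg (hy i)
  have hrQ : ∀ i, Q.1 (algebraMap K Kb (x i / x i₀ - algebraMap k K (r i))) < 1 := fun i => by
    set y := x i / x i₀ - algebraMap k K (r i) with hy'
    rcases eq_or_ne y 0 with h0 | h0
    · rw [h0, map_zero, map_zero]; exact zero_lt_one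
    · refine lt_of_le_of_ne ((hPQ y).mpr (hr i).le) fun h1 => ?_
      have h2 : P.1 y⁻¹ ≤ 1 := (hPQ y⁻¹).mp (by rw [map_inv₀, map_inv₀, h1, inv_one])
      rw [map_inv₀, inv_le_one₀ (zero_lt_iff.mpr ((map_ne_zero P.1).mpr h0))] at h2
      exact not_lt.mpr h2 (hr i)
  set w := ∑ i, c i * algebraMap k kb (r i) with hw
  have hw0 : w ≠ 0 := fun h0 => by
    have h1 := Fintype.linearIndependent_iff.mp hli r (by
      rw [← h0, hw]; exact Finset.sum_congr rfl fun i _ => by rw [Algebra.smul_def, mul_comm]) i₀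
    have h2 := hr i₀
    rw [h1, map_zero, sub_zero, div_self hi₀, map_one] at h2
    exact lt_irrefl _ h2
  have e : ∑ i, algebraMap kb Kb (c i) * algebraMap K Kb (x i) = algebraMap K Kb (x i₀) *
      (algebraMap kb Kb w + ∑ i, algebraMap kb Kb (c i) * algebraMap K Kb (x i / x i₀ - algebraMap k K (r i))) := by
    rw [hw, map_sum, ← Finset.sum_add_distrib, Finset.mul_sum]
    refine Finset.sum_congr rfl fun i _ => ?_
    rw [map_mul, ← hc, map_sub, map_div₀]
    have := (map_ne_zero (algebraMap K Kb)).mpr hi₀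
    field_simp
    ring
  have hsmall : Q.1 (∑ i, algebraMap kb Kb (c i) * algebraMap K Kb (x i / x i₀ - algebraMap k K (r i))) < 1 :=
    Q.1.map_sum_lt one_ne_zero fun i _ => by
      rw [map_mul]
      exact (mul_le_of_le_one_left' (Q.2.1 _)).trans_lt (hrQ i)
  rw [e, map_mul, Valuation.map_add_eq_of_lt_left Q.1 (by rw [val_const_eq_one Q hw0]; exact hsmall),
    val_const_eq_one Q hw0, mul_one]

theorem fixed_of_deg_one (hc : ∀ c : k, algebraMap K Kb (algebraMap k K c) = algebraMap kb Kb (algebraMap k kb c))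
    (hgen : Algebra.adjoin K (Set.range (algebraMap kb Kb)) = ⊤)
    (F : Kb →+* Kb) (hF1 : ∀ c : kb, F (algebraMap kb Kb c) = algebraMap kb Kb c) {q : ℕ} (hq : q ≠ 0)
    (hF2 : ∀ x : K, F (algebraMap K Kb x) = algebraMap K Kb x ^ q)
    {P : Place k K} {Q : Place kb Kb} (hPQ : ∀ x : K, Q.1 (algebraMap K Kb x) ≤ 1 ↔ P.1 x ≤ 1) (hdeg : P.deg = 1)
    (z : Kb) : Q.1 (F z) = Q.1 z ^ q := by
  obtain ⟨n, c, x, hli, rfl⟩ := exists_indep_rep hc hgen z
  by_cases hall : ∀ i, x i = 0
  · simp [hall, hq]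
  push Not at hall
  obtain ⟨j, hj⟩ := hall
  obtain ⟨i₀, -, hmax⟩ := Finset.exists_max_image Finset.univ (fun i => Q.1 (algebraMap K Kb (x i))) ⟨j, Finset.mem_univ _⟩
  have hi₀ : x i₀ ≠ 0 := fun h => by
    have := hmax j (Finset.mem_univ _)
    rw [h, map_zero, map_zero, le_zero_iff] at this
    exact (map_ne_zero Q.1).mpr ((map_ne_zero _).mpr hj) this
  have e : F (∑ i, algebraMap kb Kb (c i) * algebraMap K Kb (x i)) =
      ∑ i, algebraMap kb Kb (c i) * algebraMap K Kb (x i ^ q) := by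
    rw [map_sum]
    exact Finset.sum_congr rfl fun i _ => by rw [map_mul, hF1, hF2, map_pow]
  rw [e, val_sum_eq hc hPQ hdeg hli (fun i => x i ^ q) i₀ (pow_ne_zero _ hi₀) (fun i => by
      simp only [map_pow]; exact pow_le_pow_left₀ zero_le (hmax i (Finset.mem_univ _)) _),
    val_sum_eq hc hPQ hdeg hli x i₀ hi₀ (fun i => hmax i (Finset.mem_univ _)), map_pow, map_pow]

theorem deg_one_of_fixed [Finite k] [IsAlgClosure k kb] (hK : IsFunctionField k K)
    (hc : ∀ c : k, algebraMap K Kb (algebraMap k K c) = algebraMap kb Kb (algebraMap k kb c))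
    (hgen : Algebra.adjoin K (Set.range (algebraMap kb Kb)) = ⊤)
    (F : Kb →+* Kb) (hF1 : ∀ c : kb, F (algebraMap kb Kb c) = algebraMap kb Kb c)
    (hF2 : ∀ x : K, F (algebraMap K Kb x) = algebraMap K Kb x ^ Nat.card k)
    (Q : Place kb Kb) (hfix : ∀ z : Kb, Q.1 (F z) < 1 ↔ Q.1 z < 1) :
    ∃ P : Place k K, (∀ x : K, Q.1 (algebraMap K Kb x) ≤ 1 ↔ P.1 x ≤ 1) ∧ P.deg = 1 := by
  have hne : Q.O.comap (algebraMap K Kb) ≠ ⊤ := by
    intro htop
    have hle : ∀ z : Kb, Q.1 z ≤ 1 := fun z => by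
      obtain ⟨n, c, x, -, rfl⟩ := exists_indep_rep hc hgen z
      refine Q.1.map_sum_le fun i _ => ?_
      rw [map_mul]
      exact mul_le_one' (Q.2.1 _) ((mem_O Q).mp (ValuationSubring.mem_comap.mp (htop ▸ trivial)))
    obtain ⟨t, ht0, ht⟩ := exists_uniformizer Q
    have := hle t⁻¹
    rw [map_inv₀, ht, ← exp_neg, ← exp_zero, exp_le_exp] at this
    omega
  obtain ⟨P, hP⟩ := exists_place' hK.1 (Q.O.comap (algebraMap K Kb))
    (fun c => by rw [ValuationSubring.mem_comap, hc]; exact (mem_O Q).mpr (Q.2.1 _)) hne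
  have hPQ : ∀ x : K, Q.1 (algebraMap K Kb x) ≤ 1 ↔ P.1 x ≤ 1 := fun x => by
    rw [← mem_O P, hP, ValuationSubring.mem_comap, mem_O]
  have hlt : ∀ x : K, P.1 x < 1 → Q.1 (algebraMap K Kb x) < 1 := fun x hx => by
    refine lt_of_le_of_ne ((hPQ x).mpr hx.le) fun h1 => ?_
    have h2 : P.1 x⁻¹ ≤ 1 := (hPQ x⁻¹).mp (by rw [map_inv₀, map_inv₀, h1, inv_one])
    rcases eq_or_ne x 0 with rfl | h0
    · simp at h1
    · rw [map_inv₀, inv_le_one₀ (zero_lt_iff.mpr ((map_ne_zero P.1).mpr h0))] at h2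
      exact not_lt.mpr h2 hx
  refine ⟨P, hPQ, ?_⟩
  set q := Nat.card k
  haveI := Fintype.ofFinite k
  letI := Place.algRes P
  haveI := finiteDimensional_residue hK P
  haveI : IsAlgClosed kb := IsAlgClosure.isAlgClosed k
  haveI : Finite (IsLocalRing.ResidueField P.O) := Module.finite_of_finite k
  haveI := Fintype.ofFinite (IsLocalRing.ResidueField P.O)
  -- every residue is a fixed point of the `q`-power map
  have key : ∀ x : K, P.1 x ≤ 1 → P.1 (x ^ q - x) < 1 := by
    intro x hx
    set m := Fintype.card (IsLocalRing.ResidueField P.O)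
    have hm : 1 < m := Fintype.one_lt_card
    have hres : P.1 (x ^ m - x) < 1 := by
      have h := FiniteField.pow_card (IsLocalRing.residue P.O ⟨x, (mem_O P).2 hx⟩)
      rw [← map_pow, ← sub_eq_zero, ← map_sub, residue_eq_zero_iff] at h
      exact h
    have hsplit : (Polynomial.X ^ m - Polynomial.X : Polynomial kb).Splits := IsAlgClosed.splits _
    have hmon : (Polynomial.X ^ m - Polynomial.X : Polynomial kb).Monic :=
      Polynomial.monic_X_pow_sub (by rw [Polynomial.degree_X]; exact_mod_cast hm)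
    have hev : algebraMap K Kb (x ^ m - x) =
        (((Polynomial.X ^ m - Polynomial.X : Polynomial kb).roots.map
          fun c => algebraMap K Kb x - algebraMap kb Kb c).prod) := by
      have h := congrArg (Polynomial.aeval (algebraMap K Kb x)) (hsplit.eq_prod_roots_of_monic hmon)
      rw [map_multiset_prod, Multiset.map_map] at h
      simp only [Function.comp_def, map_sub, map_pow, Polynomial.aeval_X, Polynomial.aeval_C] at h
      rw [map_sub, map_pow]
      exact h
    obtain ⟨c, hcx⟩ : ∃ c : kb, Q.1 (algebraMap K Kb x - algebraMap kb Kb c) < 1 := by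
      by_contra hno
      push Not at hno
      have h := hlt _ hres
      rw [hev, map_multiset_prod] at h
      refine not_lt.mpr ?_ h
      exact Multiset.one_le_prod fun v hv => by
        simp only [Multiset.mem_map] at hv
        obtain ⟨_, ⟨c, -, rfl⟩, rfl⟩ := hv
        exact hno c
    have h1 := (hfix _).mpr hcx
    rw [map_sub, hF2, hF1] at h1
    have h2 : Q.1 (algebraMap K Kb (x ^ q - x)) < 1 := by
      rw [map_sub, map_pow, show algebraMap K Kb x ^ q - algebraMap K Kb x =
        (algebraMap K Kb x ^ q - algebraMap kb Kb c) - (algebraMap K Kb x - algebraMap kb Kb c) by ring]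
      exact (Q.1.map_sub _ _).trans_lt (max_lt h1 hcx)
    by_contra hge
    push Not at hge
    have hx1 : P.1 (x ^ q - x) = 1 := le_antisymm
      ((P.1.map_sub _ _).trans (max_le (by rw [map_pow]; exact pow_le_one' hx _) hx)) hge
    have hy0 : x ^ q - x ≠ 0 := fun h0 => by rw [h0, map_zero] at hx1; exact zero_ne_one hx1
    have h3 := (hPQ (x ^ q - x)⁻¹).mpr (by rw [map_inv₀, hx1, inv_one])
    rw [map_inv₀, map_inv₀, inv_le_one₀ (zero_lt_iff.mpr ((map_ne_zero Q.1).mpr ((map_ne_zero _).mpr hy0)))] at h3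
    exact not_lt.mpr h3 h2
  have hcard : Fintype.card (IsLocalRing.ResidueField P.O) ≤ q := by
    have hq : 1 < q := Finite.one_lt_card
    have hne : (Polynomial.X ^ q - Polynomial.X : Polynomial (IsLocalRing.ResidueField P.O)) ≠ 0 :=
      FiniteField.X_pow_card_sub_X_ne_zero _ hq
    have hsub : Finset.univ ⊆ ((Polynomial.X ^ q - Polynomial.X : Polynomial (IsLocalRing.ResidueField P.O)).roots).toFinset := by
      intro r _
      obtain ⟨⟨x, hx⟩, rfl⟩ := IsLocalRing.residue_surjective r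
      rw [Multiset.mem_toFinset, Polynomial.mem_roots hne, Polynomial.IsRoot, Polynomial.eval_sub, Polynomial.eval_pow,
        Polynomial.eval_X, ← map_pow, ← map_sub, residue_eq_zero_iff]
      exact key x ((mem_O P).mp hx)
    calc Fintype.card (IsLocalRing.ResidueField P.O) ≤ _ := Finset.card_le_card hsub
      _ ≤ _ := Multiset.toFinset_card_le _
      _ ≤ _ := Polynomial.card_roots' _
      _ = q := FiniteField.X_pow_card_sub_X_natDegree_eq _ hq
  have hcard2 := Module.card_eq_pow_finrank (K := k) (V := IsLocalRing.ResidueField P.O)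
  rw [show q = Fintype.card k from Nat.card_eq_fintype_card] at hcard
  rw [hcard2] at hcard
  have hpos := deg_pos hK P
  by_contra hne1
  have h2 : 2 ≤ Module.finrank k (IsLocalRing.ResidueField P.O) := by
    change P.deg ≠ 1 at hne1
    change 2 ≤ P.deg
    omega
  have := (Nat.pow_lt_pow_right (Fintype.one_lt_card (α := k)) (show 1 < Module.finrank k (IsLocalRing.ResidueField P.O) by omega))
  rw [pow_one] at this
  omega

end Groth.Agent.CommAlg4.FrobFixPlace
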