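import Groth.Prelude.Def_VecGrp
import Groth.Prelude.Def_HopfRep

/-!
`G`-module structures over an affine group scheme `Spec A` are the same as `A`-comodule structures.
-/

set_option autoImplicit false

universe u

open CategoryTheory AlgebraicGeometry TensorProduct Coalgebra WithConv
open scoped MonObj

namespace Groth.Agent.CommAlg4.GModCo

variable (R : Type u) [CommRing R] (A : Type u) [CommRing A] [HopfAlgebra R A]

/-- The group scheme. -/
noncomputable abbrev GA : Over (Spec (CommRingCat.of R)) := (Spec (CommRingCat.of A)).asOver (Spec (CommRingCat.of R))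

variable {R A}

/-- The algebra map of a point. -/
noncomputable def algOf {B : Type u} [CommRing B] [Algebra R B] (g : VecGrp.pt R B ⟶ GA R A) : A →ₐ[R] B :=
  (Spec.mapMulEquiv.symm g).ofConv

/-- The point of an algebra map. -/
noncomputable def ptOf {B : Type u} [CommRing B] [Algebra R B] (f : A →ₐ[R] B) : VecGrp.pt R B ⟶ GA R A :=
  Spec.mapMulEquiv (toConv f)

theorem algOf_ptOf {B : Type u} [CommRing B] [Algebra R B] (f : A →ₐ[R] B) : algOf (ptOf f) = f :=
  congrArg WithConv.ofConv (Spec.mapMulEquiv.symm_apply_apply (toConv f))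

theorem ptOf_algOf {B : Type u} [CommRing B] [Algebra R B] (g : VecGrp.pt R B ⟶ GA R A) : ptOf (algOf g) = g :=
  Spec.mapMulEquiv.apply_symm_apply g

theorem algOf_ptMap {B B' : Type u} [CommRing B] [Algebra R B] [CommRing B'] [Algebra R B'] (φ : B →ₐ[R] B')
    (g : VecGrp.pt R B ⟶ GA R A) : algOf (VecGrp.ptMap φ ≫ g) = φ.comp (algOf g) := by
  conv_lhs => rw [← ptOf_algOf g]
  rw [show VecGrp.ptMap φ ≫ ptOf (algOf g) = ptOf (φ.comp (algOf g)) from ?_, algOf_ptOf]
  apply Over.OverMorphism.ext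
  exact (Spec.map_comp _ _).symm

theorem algOf_mul {B : Type u} [CommRing B] [Algebra R B] (g h : VecGrp.pt R B ⟶ GA R A) :
    toConv (algOf (g * h)) = toConv (algOf g) * toConv (algOf h) :=
  map_mul (Spec.mapMulEquiv (R := R) (S := A) (T := B)).symm g h

theorem algOf_one {B : Type u} [CommRing B] [Algebra R B] :
    algOf (1 : VecGrp.pt R B ⟶ GA R A) = (Algebra.ofId R B).comp (Bialgebra.counitAlgHom R A) :=
  congrArg WithConv.ofConv (map_one (Spec.mapMulEquiv (R := R) (S := A) (T := B)).symm)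

variable {E : Type u} [AddCommGroup E] [Module R E]

/-- The map attached to a coaction and an algebra map. -/
noncomputable def act (δ : E →ₗ[R] E ⊗[R] A) {B : Type u} [CommRing B] [Algebra R B] (f : A →ₐ[R] B) :
    B ⊗[R] E →ₗ[B] B ⊗[R] E :=
  LinearMap.liftBaseChange B ((TensorProduct.comm R E B).toLinearMap ∘ₗ f.toLinearMap.lTensor E ∘ₗ δ)

theorem act_tmul (δ : E →ₗ[R] E ⊗[R] A) {B : Type u} [CommRing B] [Algebra R B] (f : A →ₐ[R] B) (b : B) (x : E) :
    act δ f (b ⊗ₜ[R] x) = b • TensorProduct.comm R E B (f.toLinearMap.lTensor E (δ x)) := by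
  simp [act]

theorem ext_one_tmul {B : Type u} [CommRing B] [Algebra R B] {T T' : B ⊗[R] E →ₗ[B] B ⊗[R] E}
    (h : ∀ x : E, T ((1 : B) ⊗ₜ[R] x) = T' ((1 : B) ⊗ₜ[R] x)) : T = T' := by
  refine LinearMap.ext fun z => ?_
  induction z using TensorProduct.induction_on with
  | zero => simp
  | tmul b x =>
    rw [show b ⊗ₜ[R] x = b • ((1 : B) ⊗ₜ[R] x) by rw [TensorProduct.smul_tmul', smul_eq_mul, mul_one],
      map_smul, map_smul, h]
  | add p q hp hq => rw [map_add, map_add, hp, hq]

/-- `z ⊗ (a ⊗ a') ↦ f(a) h(a') ⊗ z`. -/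
noncomputable def pair {B : Type u} [CommRing B] [Algebra R B] (f h : A →ₐ[R] B) :
    E ⊗[R] (A ⊗[R] A) →ₗ[R] B ⊗[R] E :=
  (TensorProduct.comm R E B).toLinearMap ∘ₗ
    (LinearMap.mul' R B ∘ₗ TensorProduct.map f.toLinearMap h.toLinearMap).lTensor E

theorem act_act (δ : E →ₗ[R] E ⊗[R] A) {B : Type u} [CommRing B] [Algebra R B] (f h : A →ₐ[R] B) (x : E) :
    act δ f (act δ h ((1 : B) ⊗ₜ[R] x)) =
      pair f h (TensorProduct.assoc R E A A (δ.rTensor A (δ x))) := by
  rw [act_tmul, one_smul]
  generalize δ x = w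
  induction w using TensorProduct.induction_on with
  | zero => simp
  | add p q hp hq => simp only [map_add, hp, hq]
  | tmul y a =>
    rw [LinearMap.lTensor_tmul, TensorProduct.comm_tmul, act_tmul, LinearMap.rTensor_tmul]
    generalize δ y = v
    induction v using TensorProduct.induction_on with
    | zero => simp
    | add p q hp hq => simp only [map_add, smul_add, hp, hq, TensorProduct.add_tmul]
    | tmul z b =>
      simp [pair, TensorProduct.smul_tmul', mul_comm]

theorem act_conv (δ : E →ₗ[R] E ⊗[R] A) {B : Type u} [CommRing B] [Algebra R B] (f h k : A →ₐ[R] B)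
    (hk : toConv k = toConv f * toConv h) (x : E) :
    act δ k ((1 : B) ⊗ₜ[R] x) = pair f h ((comul (R := R) (A := A)).lTensor E (δ x)) := by
  rw [act_tmul, one_smul]
  have hk' : k.toLinearMap = (LinearMap.mul' R B ∘ₗ TensorProduct.map f.toLinearMap h.toLinearMap) ∘ₗ comul := by
    have h1 := congrArg (fun c : WithConv (A →ₐ[R] B) => c.ofConv) hk
    refine LinearMap.ext fun a => ?_
    simp only [AlgHom.toLinearMap_apply, LinearMap.comp_apply]
    rw [show k a = (toConv f * toConv h).ofConv a from AlgHom.congr_fun h1 a, AlgHom.convMul_def]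
    simp only [AlgHom.comp_apply, ofConv_toConv]
    rw [Bialgebra.comulAlgHom_apply]
    generalize comul (R := R) a = c
    induction c using TensorProduct.induction_on with
    | zero => simp
    | tmul p q => simp
    | add p q hp hq => simp only [map_add, hp, hq]
  rw [hk', LinearMap.lTensor_comp]
  rfl

theorem act_natural (δ : E →ₗ[R] E ⊗[R] A) {B B' : Type u} [CommRing B] [Algebra R B] [CommRing B'] [Algebra R B']
    (φ : B →ₐ[R] B') (f : A →ₐ[R] B) (z : B ⊗[R] E) :
    VecGrp.Wmap φ (act δ f z) = act δ (φ.comp f) (VecGrp.Wmap φ z) := by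
  induction z using TensorProduct.induction_on with
  | zero => simp
  | add p q hp hq => simp only [map_add, hp, hq]
  | tmul b x =>
    rw [VecGrp.Wmap_tmul, act_tmul, act_tmul, VecGrp.Wmap_smul]
    congr 1
    generalize δ x = w
    induction w using TensorProduct.induction_on with
    | zero => simp
    | add p q hp hq => simp only [map_add, hp, hq]
    | tmul y a => simp

theorem gmod_ext {G : Over (Spec (CommRingCat.of R))} [GrpObj G] {m m' : VecGrp.GMod G E}
    (h : ∀ (B : Type u) [CommRing B] [Algebra R B] (g : VecGrp.pt R B ⟶ G) (x : E),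
      m.ρ B g ((1 : B) ⊗ₜ[R] x) = m'.ρ B g ((1 : B) ⊗ₜ[R] x)) : m = m' := by
  obtain ⟨ρ, hn⟩ := m
  obtain ⟨ρ', hn'⟩ := m'
  congr
  funext B _ _
  refine MonoidHom.ext fun g => LinearEquiv.toLinearMap_injective (ext_one_tmul fun x => ?_)
  exact h B g x

theorem exists_gmod (δ : E →ₗ[R] E ⊗[R] A)
    (hassoc : (TensorProduct.assoc R E A A).toLinearMap ∘ₗ δ.rTensor A ∘ₗ δ = (comul (R := R) (A := A)).lTensor E ∘ₗ δ)
    (hcounit : (counit (R := R) (A := A)).lTensor E ∘ₗ δ = (TensorProduct.mk R E R).flip 1) :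
    ∃ m : VecGrp.GMod (GA R A) E, ∀ (B : Type u) [CommRing B] [Algebra R B] (g : VecGrp.pt R B ⟶ GA R A) (x : E),
      m.ρ B g ((1 : B) ⊗ₜ[R] x) = TensorProduct.comm R E B ((algOf g).toLinearMap.lTensor E (δ x)) := by
  have hone : ∀ (B : Type u) [CommRing B] [Algebra R B],
      act δ (algOf (1 : VecGrp.pt R B ⟶ GA R A)) = LinearMap.id := fun B _ _ => ext_one_tmul fun x => by
    have h1 := congrArg (fun L : E →ₗ[R] E ⊗[R] R =>
      TensorProduct.comm R E B ((Algebra.linearMap R B).lTensor E (L x))) hcounit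
    rw [algOf_one, act_tmul, one_smul, LinearMap.id_apply]
    refine Eq.trans ?_ (h1.trans (by simp))
    simp only [LinearMap.comp_apply, ← LinearMap.lTensor_comp_apply]
    rfl
  have hmul : ∀ (B : Type u) [CommRing B] [Algebra R B] (g h : VecGrp.pt R B ⟶ GA R A),
      act δ (algOf (g * h)) = act δ (algOf g) ∘ₗ act δ (algOf h) := fun B _ _ g h => ext_one_tmul fun x => by
    rw [LinearMap.comp_apply, act_act, act_conv δ _ _ _ (algOf_mul g h)]
    exact congrArg (pair (algOf g) (algOf h)) (LinearMap.congr_fun hassoc x).symm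
  let eqv : ∀ (B : Type u) [CommRing B] [Algebra R B] (g : VecGrp.pt R B ⟶ GA R A),
      VecGrp.W R E B ≃ₗ[B] VecGrp.W R E B := fun B _ _ g =>
    LinearEquiv.ofLinearMap (act δ (algOf g)) (act δ (algOf g⁻¹))
      (by rw [← hmul, mul_inv_cancel, hone]) (by rw [← hmul, inv_mul_cancel, hone])
  refine ⟨{ ρ := fun B _ _ =>
              { toFun := eqv B
                map_one' := LinearEquiv.toLinearMap_injective (hone B)
                map_mul' := fun g h => LinearEquiv.toLinearMap_injective (hmul B g h) }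
            naturality := fun {B B'} _ _ _ _ φ g x => ?_ }, fun B _ _ g x => ?_⟩
  · show VecGrp.Wmap φ (act δ (algOf g) x) = act δ (algOf (VecGrp.ptMap φ ≫ g)) (VecGrp.Wmap φ x)
    rw [algOf_ptMap, act_natural]
  · show act δ (algOf g) _ = _
    rw [act_tmul, one_smul]

theorem exists_coaction (m : VecGrp.GMod (GA R A) E) : ∃ δ : E →ₗ[R] E ⊗[R] A,
    ((TensorProduct.assoc R E A A).toLinearMap ∘ₗ δ.rTensor A ∘ₗ δ = (comul (R := R) (A := A)).lTensor E ∘ₗ δ ∧
      (counit (R := R) (A := A)).lTensor E ∘ₗ δ = (TensorProduct.mk R E R).flip 1) ∧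
    ∀ (B : Type u) [CommRing B] [Algebra R B] (g : VecGrp.pt R B ⟶ GA R A) (x : E),
      m.ρ B g ((1 : B) ⊗ₜ[R] x) = TensorProduct.comm R E B ((algOf g).toLinearMap.lTensor E (δ x)) := by
  obtain ⟨δ, hδ⟩ : ∃ δ : E →ₗ[R] E ⊗[R] A, δ = (TensorProduct.comm R A E).toLinearMap ∘ₗ
      ((m.ρ A (ptOf (AlgHom.id R A))).toLinearMap.restrictScalars R) ∘ₗ TensorProduct.mk R A E 1 := ⟨_, rfl⟩
  have hform : ∀ (B : Type u) [CommRing B] [Algebra R B] (g : VecGrp.pt R B ⟶ GA R A) (x : E),
      m.ρ B g ((1 : B) ⊗ₜ[R] x) = TensorProduct.comm R E B ((algOf g).toLinearMap.lTensor E (δ x)) := by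
    intro B _ _ g x
    have h1 := m.naturality (algOf g) (ptOf (AlgHom.id R A)) ((1 : A) ⊗ₜ[R] x)
    rw [show VecGrp.ptMap (algOf g) ≫ ptOf (AlgHom.id R A) = g from ?_, VecGrp.Wmap_tmul, map_one] at h1
    · rw [← h1, hδ]
      show VecGrp.Wmap (algOf g) (m.ρ A (ptOf (AlgHom.id R A)) ((1 : A) ⊗ₜ[R] x)) = TensorProduct.comm R E B
        ((algOf g).toLinearMap.lTensor E (TensorProduct.comm R A E (m.ρ A (ptOf (AlgHom.id R A)) ((1 : A) ⊗ₜ[R] x))))
      generalize m.ρ A (ptOf (AlgHom.id R A)) ((1 : A) ⊗ₜ[R] x) = z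
      induction z using TensorProduct.induction_on with
      | zero => simp
      | add p q hp hq => simp only [map_add, hp, hq]
      | tmul a y => simp
    · conv_rhs => rw [← ptOf_algOf g]
      have := algOf_ptMap (algOf g) (ptOf (AlgHom.id R A))
      rw [algOf_ptOf, AlgHom.comp_id] at this
      rw [← ptOf_algOf (VecGrp.ptMap (algOf g) ≫ ptOf (AlgHom.id R A)), this]
  have hact : ∀ (B : Type u) [CommRing B] [Algebra R B] (g : VecGrp.pt R B ⟶ GA R A),
      (m.ρ B g).toLinearMap = act δ (algOf g) := fun B _ _ g => ext_one_tmul fun x => by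
    rw [act_tmul, one_smul]; exact hform B g x
  refine ⟨δ, ⟨LinearMap.ext fun x => ?_, LinearMap.ext fun x => ?_⟩, hform⟩
  · let B := A ⊗[R] A
    let f : A →ₐ[R] B := Algebra.TensorProduct.includeLeft
    let h : A →ₐ[R] B := Algebra.TensorProduct.includeRight
    have hpair : ∀ w : E ⊗[R] (A ⊗[R] A), pair f h w = TensorProduct.comm R E B w := fun w => by
      induction w using TensorProduct.induction_on with
      | zero => simp
      | add p q hp hq => simp only [map_add, hp, hq]
      | tmul y c =>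
        induction c using TensorProduct.induction_on with
        | zero => simp
        | add p q hp hq => simp only [TensorProduct.tmul_add, map_add, hp, hq]
        | tmul a a' => simp [pair, f, h, B]
    apply (TensorProduct.comm R E B).injective
    rw [LinearMap.comp_apply, LinearMap.comp_apply, LinearMap.comp_apply, LinearEquiv.coe_coe, ← hpair, ← hpair]
    rw [← act_act δ f h x, ← act_conv δ f h (algOf (ptOf f * ptOf h)) (by rw [algOf_mul, algOf_ptOf, algOf_ptOf]) x]
    have h1 := congrArg (fun e : VecGrp.W R E B ≃ₗ[B] VecGrp.W R E B => e ((1 : B) ⊗ₜ[R] x))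
      (map_mul (m.ρ B) (ptOf f) (ptOf h))
    have e1 := hact B (ptOf f)
    have e2 := hact B (ptOf h)
    rw [algOf_ptOf] at e1 e2
    rw [← e1, ← e2, ← hact B (ptOf f * ptOf h)]
    exact h1.symm
  · have h1 := hform R 1 x
    rw [map_one, algOf_one] at h1
    apply (TensorProduct.comm R E R).injective
    rw [show (TensorProduct.comm R E R) ((TensorProduct.mk R E R).flip 1 x) = (1 : R) ⊗ₜ[R] x by simp]
    refine Eq.trans ?_ h1.symm
    rfl

end Groth.Agent.CommAlg4.GModCo
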