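import Groth.Agent.CommAlg4.GModStable
import Mathlib.AlgebraicGeometry.Morphisms.QuasiSeparated
import Mathlib.RingTheory.Flat.Stability
import Mathlib.LinearAlgebra.FreeModule.Basic
import Mathlib.Algebra.Module.Projective

/-!
Finitely generated stable submodules of flat `G`-modules, for a flat qcqs group scheme with projective
algebra of global functions.
-/

set_option autoImplicit false

universe u

open CategoryTheory AlgebraicGeometry TensorProduct
open scoped MonObj

namespace Groth.Agent.CommAlg4.GModStab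

variable {R : Type u} [CommRing R]

/-- The algebra structure on global functions. -/
@[reducible] noncomputable def gamAlg (G : Over (Spec (CommRingCat.of R))) : Algebra R Γ(G.left, ⊤) :=
  (((Scheme.ΓSpecIso (CommRingCat.of R)).inv ≫ G.hom.appTop).hom).toAlgebra

attribute [local instance] gamAlg

variable {G : Over (Spec (CommRingCat.of R))}

/-- Evaluation of global functions at a point. -/
noncomputable def gam {B : Type u} [CommRing B] [Algebra R B] (g : VecGrp.pt R B ⟶ G) : Γ(G.left, ⊤) →ₐ[R] B where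
  toRingHom := (g.left.appTop ≫ (Scheme.ΓSpecIso (CommRingCat.of B)).hom).hom
  commutes' r := by
    have h : g.left ≫ G.hom = Spec.map (CommRingCat.ofHom (algebraMap R B)) := Over.w g
    have h1 : (Scheme.ΓSpecIso (CommRingCat.of R)).inv ≫ G.hom.appTop ≫ g.left.appTop ≫
        (Scheme.ΓSpecIso (CommRingCat.of B)).hom = CommRingCat.ofHom (algebraMap R B) := by
      rw [← Scheme.Hom.comp_appTop_assoc, h]
      exact (Iso.inv_comp_eq _).mpr (Scheme.ΓSpecIso_naturality _)
    exact congrArg (fun c => c.hom r) h1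

theorem gam_natural {B B' : Type u} [CommRing B] [Algebra R B] [CommRing B'] [Algebra R B'] (φ : B →ₐ[R] B')
    (g : VecGrp.pt R B ⟶ G) : gam (VecGrp.ptMap φ ≫ g) = φ.comp (gam g) := by
  refine AlgHom.ext fun a => ?_
  have h : (VecGrp.ptMap φ ≫ g).left.appTop ≫ (Scheme.ΓSpecIso (CommRingCat.of B')).hom =
      (g.left.appTop ≫ (Scheme.ΓSpecIso (CommRingCat.of B)).hom) ≫ CommRingCat.ofHom φ.toRingHom := by
    rw [Over.comp_left, Scheme.Hom.comp_appTop, VecGrp.ptMap_left, Category.assoc, Category.assoc,
      Scheme.ΓSpecIso_naturality]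
  exact congrArg (fun c => c.hom a) h

variable (G) [GrpObj G]

/-- An atlas with affine overlaps and the sheaf property for functions. -/
theorem exists_atlas [Flat G.hom] [QuasiCompact G.hom] [QuasiSeparated G.hom] :
    ∃ (J : Type u) (_ : Finite J) (A : J → Type u) (_ : ∀ i, CommRing (A i)) (_ : ∀ i, Algebra R (A i))
      (u : ∀ i, VecGrp.pt R (A i) ⟶ G) (K : Type u) (_ : Finite K) (p q : K → J) (W : K → Type u)
      (_ : ∀ k, CommRing (W k)) (_ : ∀ k, Algebra R (W k))
      (r : ∀ k, A (p k) →ₐ[R] W k) (r' : ∀ k, A (q k) →ₐ[R] W k),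
      (∀ i, Module.Flat R (A i)) ∧ (∀ k, VecGrp.ptMap (r k) ≫ u (p k) = VecGrp.ptMap (r' k) ≫ u (q k)) ∧
      (∀ (B : Type u) [CommRing B] [Algebra R B] (g : VecGrp.pt R B ⟶ G),
        ∃ s : Set B, Ideal.span s = ⊤ ∧ ∀ f ∈ s, ∃ (i : J) (ψ : A i →ₐ[R] Localization.Away f),
          VecGrp.ptMap (IsScalarTower.toAlgHom R B (Localization.Away f)) ≫ g = VecGrp.ptMap ψ ≫ u i) ∧
      (∀ a b : Γ(G.left, ⊤), (∀ i, gam (u i) a = gam (u i) b) → a = b) ∧
      (∀ f : ∀ i, A i, (∀ k, r k (f (p k)) = r' k (f (q k))) → ∃ a : Γ(G.left, ⊤), ∀ i, gam (u i) a = f i) := by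
  classical
  have : CompactSpace G.left := QuasiCompact.compactSpace_of_compactSpace G.hom
  have : QuasiSeparatedSpace G.left := quasiSeparatedSpace_of_quasiSeparated G.hom
  choose V hV hxV using fun x : G.left => exists_isAffineOpen_mem_and_subset (U := (⊤ : G.left.Opens)) (x := x) trivial
  obtain ⟨t, ht⟩ := isCompact_univ.elim_finite_subcover (fun x : G.left => (V x : Set G.left))
    (fun x => (V x).2) fun x _ => Set.mem_iUnion.mpr ⟨x, (hxV x).1⟩
  let (U : {U : G.left.Opens // IsAffineOpen U}) : Algebra R Γ(G.left, U.1) := (Spec.preimage (U.2.fromSpec ≫ G.hom)).hom.toAlgebra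
  let Af : G.left → {U : G.left.Opens // IsAffineOpen U} := fun x => ⟨V x, hV x⟩
  let w : ∀ U : {U : G.left.Opens // IsAffineOpen U}, VecGrp.pt R Γ(G.left, U.1) ⟶ G := fun U =>
    Over.homMk U.2.fromSpec (Spec.map_preimage _).symm
  have hgam : ∀ (U : {U : G.left.Opens // IsAffineOpen U}) a, gam (w U) a = G.left.presheaf.map (homOfLE le_top).op a := fun U a => by
    have h : U.2.fromSpec.appTop ≫ (Scheme.ΓSpecIso Γ(G.left, U.1)).hom =
        G.left.presheaf.map (homOfLE le_top).op := by
      rw [show U.2.fromSpec.appTop = U.2.fromSpec.app ⊤ from rfl, IsAffineOpen.fromSpec_app_of_le _ ⊤ le_top]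
      erw [Category.assoc, Category.assoc]
      erw [CategoryTheory.Functor.map_id, Category.id_comp, Iso.inv_hom_id, Category.comp_id]
    exact congrArg (fun c => c.hom a) h
  let res : ∀ (U U' : {U : G.left.Opens // IsAffineOpen U}), U'.1 ≤ U.1 → (Γ(G.left, U.1) →ₐ[R] Γ(G.left, U'.1)) := fun U U' h =>
    { toRingHom := (G.left.presheaf.map (homOfLE h).op).hom
      commutes' := fun r => by
        have h1 : Spec.map (Spec.preimage (U.2.fromSpec ≫ G.hom) ≫ G.left.presheaf.map (homOfLE h).op) =
            Spec.map (Spec.preimage (U'.2.fromSpec ≫ G.hom)) := by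
          rw [Spec.map_comp, Spec.map_preimage, Spec.map_preimage, IsAffineOpen.map_fromSpec_assoc _ U'.2]
        exact congrArg (fun c => c.hom r) (Spec.map_injective h1) }
  have hres : ∀ U U' h, VecGrp.ptMap (res U U' h) ≫ w U = w U' := fun U U' h => by
    apply Over.OverMorphism.ext
    exact U.2.map_fromSpec U'.2 (homOfLE h).op
  have hcov : ∀ ij : t × t, ∃ S : Finset {U : G.left.Opens // IsAffineOpen U},
      (∀ U ∈ S, U.1 ≤ V ij.1 ⊓ V ij.2) ∧ (V ij.1 ⊓ V ij.2 : G.left.Opens) ≤ ⨆ U ∈ S, U.1 := fun ij => by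
    have hc : IsCompact ((V ij.1 : Set G.left) ∩ (V ij.2 : Set G.left)) :=
      QuasiSeparatedSpace.inter_isCompact _ _ (V ij.1).2 (hV _).isCompact (V ij.2).2 (hV _).isCompact
    choose O hO hyO using fun y : ↥(V ij.1 ⊓ V ij.2 : G.left.Opens) =>
      exists_isAffineOpen_mem_and_subset (U := V ij.1 ⊓ V ij.2) (x := (y : G.left)) y.2
    obtain ⟨S, hS⟩ := hc.elim_finite_subcover (fun y => (O y : Set G.left)) (fun y => (O y).2)
      fun y hy => Set.mem_iUnion.mpr ⟨⟨y, hy⟩, (hyO _).1⟩
    refine ⟨S.image fun y => ⟨O y, hO y⟩, fun U hU => ?_, fun y hy => ?_⟩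
    · obtain ⟨y, -, rfl⟩ := Finset.mem_image.mp hU; exact (hyO y).2
    · obtain ⟨z, hz, hyz⟩ := Set.mem_iUnion₂.mp (hS hy)
      exact TopologicalSpace.Opens.mem_iSup.mpr ⟨⟨O z, hO z⟩,
        TopologicalSpace.Opens.mem_iSup.mpr ⟨Finset.mem_image.mpr ⟨z, hz, rfl⟩, hyz⟩⟩
  choose S hS hScov using hcov
  let K := Σ ij : t × t, S ij
  refine ⟨t, inferInstance, fun i => Γ(G.left, (Af i).1), inferInstance, inferInstance, fun i => w (Af i),
    K, inferInstance, fun k => k.1.1, fun k => k.1.2, fun k => Γ(G.left, k.2.1.1), inferInstance, inferInstance,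
    fun k => res _ _ ((hS k.1 _ k.2.2).trans inf_le_left), fun k => res _ _ ((hS k.1 _ k.2.2).trans inf_le_right),
    fun i => ?_, fun k => (hres _ _ _).trans (hres _ _ _).symm, fun B _ _ g => ?_, fun a b hab => ?_, fun f hf => ?_⟩
  · have h1 : Flat (Spec.map (CommRingCat.ofHom (algebraMap R Γ(G.left, (Af i).1)))) := by
      show Flat (Spec.map (Spec.preimage ((Af i).2.fromSpec ≫ G.hom)))
      rw [Spec.map_preimage]; infer_instance
    exact (HasRingHomProperty.Spec_iff (P := @Flat)).mp h1
  · refine ⟨{f | ∃ (i : t) (ψ : Γ(G.left, (Af i).1) →ₐ[R] Localization.Away f),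
      VecGrp.ptMap (IsScalarTower.toAlgHom R B (Localization.Away f)) ≫ g = VecGrp.ptMap ψ ≫ w (Af i)}, ?_, fun f hf => hf⟩
    by_contra hne
    obtain ⟨P, hP, hle⟩ := Ideal.exists_le_maximal _ hne
    let p : PrimeSpectrum B := ⟨P, hP.isPrime⟩
    obtain ⟨x, hxt, hx⟩ := Set.mem_iUnion₂.mp (ht (Set.mem_univ (g.left.base p)))
    obtain ⟨_, ⟨f, rfl⟩, hpf, hfV⟩ := PrimeSpectrum.isTopologicalBasis_basic_opens.exists_subset_of_mem_open
      (show p ∈ g.left.base ⁻¹' (V x : Set G.left) from hx) ((V x).2.preimage g.left.continuous)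
    apply hpf
    apply hle
    apply Ideal.subset_span
    let a : Spec (CommRingCat.of (Localization.Away f)) ⟶ G.left :=
      (VecGrp.ptMap (IsScalarTower.toAlgHom R B (Localization.Away f)) ≫ g).left
    have hrange : Set.range a.base ⊆ Set.range (Af x).2.fromSpec.base := by
      rintro _ ⟨q, rfl⟩
      rw [(Af x).2.range_fromSpec]
      apply hfV
      show _ ∈ (PrimeSpectrum.basicOpen f : Set (PrimeSpectrum B))
      rw [← PrimeSpectrum.localization_away_comap_range (Localization.Away f) f]
      exact ⟨q, rfl⟩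
    let l := IsOpenImmersion.lift (Af x).2.fromSpec a hrange
    have hl : l ≫ (Af x).2.fromSpec = a := IsOpenImmersion.lift_fac _ _ _
    refine ⟨⟨x, hxt⟩, ⟨(Spec.preimage l).hom, fun r => ?_⟩, ?_⟩
    · have h1 : Spec.map (Spec.preimage ((Af x).2.fromSpec ≫ G.hom) ≫ Spec.preimage l) =
          Spec.map (CommRingCat.ofHom (algebraMap R (Localization.Away f))) := by
        rw [Spec.map_comp, Spec.map_preimage, Spec.map_preimage, ← Category.assoc, hl]
        exact Over.w _
      exact congrArg (fun c => c.hom r) (Spec.map_injective h1)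
    · apply Over.OverMorphism.ext
      show a = Spec.map (Spec.preimage l) ≫ (Af x).2.fromSpec
      rw [Spec.map_preimage, hl]
  · refine TopCat.Sheaf.eq_of_locally_eq' G.left.sheaf (fun i : t => (Af i).1) ⊤ (fun i => homOfLE le_top) ?_ a b
      fun i => ?_
    · intro x _
      obtain ⟨y, hy, hxy⟩ := Set.mem_iUnion₂.mp (ht (Set.mem_univ x))
      exact TopologicalSpace.Opens.mem_iSup.mpr ⟨⟨y, hy⟩, hxy⟩
    · exact (hgam _ a).symm.trans ((hab i).trans (hgam _ b))
  · obtain ⟨s, hs, -⟩ := TopCat.Sheaf.existsUnique_gluing' G.left.sheaf (fun i : t => (Af i).1) ⊤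
      (fun i => homOfLE le_top) (fun x _ => by
        obtain ⟨y, hy, hxy⟩ := Set.mem_iUnion₂.mp (ht (Set.mem_univ x))
        exact TopologicalSpace.Opens.mem_iSup.mpr ⟨⟨y, hy⟩, hxy⟩) f (fun i j => by
        refine TopCat.Sheaf.eq_of_locally_eq' G.left.sheaf (fun U : S (i, j) => U.1.1) _
          (fun U => homOfLE (hS _ _ U.2)) (fun y hy => ?_) _ _ fun U => ?_
        · obtain ⟨U, hU⟩ := TopologicalSpace.Opens.mem_iSup.mp (hScov (i, j) hy)
          obtain ⟨hUS, hyU⟩ := TopologicalSpace.Opens.mem_iSup.mp hU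
          exact TopologicalSpace.Opens.mem_iSup.mpr ⟨⟨U, hUS⟩, hyU⟩
        · show G.left.presheaf.map _ (G.left.presheaf.map _ (f i)) = G.left.presheaf.map _ (G.left.presheaf.map _ (f j))
          rw [← ConcreteCategory.comp_apply, ← ConcreteCategory.comp_apply, ← Functor.map_comp, ← Functor.map_comp]
          exact hf ⟨(i, j), U⟩)
    exact ⟨s, fun i => (hgam _ s).trans (hs i)⟩

variable {G} {E : Type u} [AddCommGroup E] [Module R E] (m : VecGrp.GMod G E)

theorem ext_proj {X : Type u} [AddCommGroup X] [Module R X] {J : Type u} [Finite J] {A : J → Type u}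
    [∀ i, AddCommGroup (A i)] [∀ i, Module R (A i)] {z : (∀ i, A i) ⊗[R] X}
    (h : ∀ i, (LinearMap.proj i : (∀ i, A i) →ₗ[R] A i).rTensor X z = 0) : z = 0 := by
  classical
  have := Fintype.ofFinite J
  apply (TensorProduct.piLeft R X (fun i => A i)).injective
  rw [map_zero]
  funext i
  rw [Pi.zero_apply, ← h i]
  clear h
  induction z using TensorProduct.induction_on with
  | zero => simp
  | add p q hp hq => simp only [map_add, Pi.add_apply, hp, hq]
  | tmul a x => simp

theorem ext_proj' {X Y : Type u} [AddCommGroup X] [Module R X] [AddCommGroup Y] [Module R Y] {J : Type u} [Finite J]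
    {A : J → Type u} [∀ i, AddCommGroup (A i)] [∀ i, Module R (A i)] {z : (Y ⊗[R] (∀ i, A i)) ⊗[R] X}
    (h : ∀ i, ((LinearMap.proj i : (∀ i, A i) →ₗ[R] A i).lTensor Y).rTensor X z = 0) : z = 0 := by
  classical
  have := Fintype.ofFinite J
  let e := TensorProduct.piRight R R Y A
  have h1 : e.toLinearMap.rTensor X z = 0 := ext_proj fun i => by
    rw [← LinearMap.rTensor_comp_apply]
    refine Eq.trans ?_ (h i)
    congr 1
    congr 1
    exact TensorProduct.ext' fun y f => by simp [e]
  exact (LinearEquiv.rTensor X e).injective (h1.trans (map_zero (LinearEquiv.rTensor X e)).symm)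

set_option maxHeartbeats 1000000 in
/-- For flat `E`, every finitely generated submodule of a `G`-module lies in a finitely generated stable one
when the algebra of global functions is projective. -/
theorem exists_stable_of_projective [Flat G.hom] [QuasiCompact G.hom] [QuasiSeparated G.hom]
    [Module.Projective R Γ(G.left, ⊤)] [Module.Flat R E]
    (M : Submodule R E) (hM : M.FG) :
    ∃ N : Submodule R E, M ≤ N ∧ N.FG ∧
      ∀ (B : Type u) [CommRing B] [Algebra R B] (g : VecGrp.pt R B ⟶ G) (x : E), x ∈ N →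
        m.ρ B g ((1 : B) ⊗ₜ[R] x) ∈ LinearMap.range (N.subtype.baseChange B) := by
  classical
  obtain ⟨J, _, A, _, _, u, K, _, p, q, W, _, _, r, r', hflat, hw, hcov, hinj, hglue⟩ := exists_atlas G
  let A0 := Γ(G.left, ⊤)
  let d0 : A0 →ₗ[R] ∀ i, A i := LinearMap.pi fun i => (gam (u i)).toLinearMap
  let d1 : (∀ i, A i) →ₗ[R] ∀ k, W k :=
    LinearMap.pi fun k => (r k).toLinearMap ∘ₗ LinearMap.proj (p k) - (r' k).toLinearMap ∘ₗ LinearMap.proj (q k)
  have hd0 : Function.Injective d0 := fun a b hab => hinj a b fun i => congrFun hab i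
  have hgw : ∀ k a, r k (gam (u (p k)) a) = r' k (gam (u (q k)) a) := fun k a => by
    rw [← AlgHom.comp_apply, ← gam_natural, hw k, gam_natural, AlgHom.comp_apply]
  have hex : Function.Exact d0 d1 := fun f => by
    refine ⟨fun hf => ?_, ?_⟩
    · obtain ⟨a, ha⟩ := hglue f fun k => sub_eq_zero.mp (congrFun hf k)
      exact ⟨a, funext ha⟩
    · rintro ⟨a, rfl⟩
      exact funext fun k => sub_eq_zero.mpr (hgw k a)
  have hexE := Module.Flat.rTensor_exact (M := E) hex
  -- the coaction
  have hδ : ∀ x : E, ∃ z : A0 ⊗[R] E, ∀ i, (gam (u i)).toLinearMap.rTensor E z = orb m (u i) x := fun x => by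
    have := Fintype.ofFinite J
    let Z : (∀ i, A i) ⊗[R] E := (TensorProduct.piLeft R E A).symm fun i => orb m (u i) x
    have hZ : ∀ i, (LinearMap.proj i : (∀ i, A i) →ₗ[R] A i).rTensor E Z = orb m (u i) x := fun i => by
      have h2 : ∀ Z, (LinearMap.proj i : (∀ i, A i) →ₗ[R] A i).rTensor E Z = TensorProduct.piLeft R E A Z i := by
        intro Z
        induction Z using TensorProduct.induction_on with
        | zero => simp
        | add p q hp hq => simp only [map_add, Pi.add_apply, hp, hq]
        | tmul a x => simp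
      rw [h2]
      exact congrFun ((TensorProduct.piLeft R E A).apply_symm_apply _) i
    obtain ⟨z, hz⟩ := (hexE Z).mp (ext_proj fun k => by
      rw [← LinearMap.rTensor_comp_apply, LinearMap.proj_pi, LinearMap.rTensor_sub, LinearMap.sub_apply,
        LinearMap.rTensor_comp_apply, LinearMap.rTensor_comp_apply, hZ, hZ]
      exact sub_eq_zero.mpr (by
        show VecGrp.Wmap (r k) _ = VecGrp.Wmap (r' k) _
        rw [wmap_orb, wmap_orb, hw k]))
    refine ⟨z, fun i => ?_⟩
    rw [← hZ i, ← hz, ← LinearMap.rTensor_comp_apply, LinearMap.proj_pi]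
  choose δ hδ using hδ
  have horb : ∀ {B : Type u} [CommRing B] [Algebra R B] (g : VecGrp.pt R B ⟶ G) (x : E),
      (gam g).toLinearMap.rTensor E (δ x) = orb m g x := fun {B} _ _ g x => by
    obtain ⟨s, hs, h⟩ := hcov B g
    refine sub_eq_zero.mp (eq_zero_of_local _ s hs fun f hf => ?_)
    obtain ⟨i, ψ, hψ⟩ := h f hf
    rw [map_sub, sub_eq_zero]
    show VecGrp.Wmap _ _ = VecGrp.Wmap _ (orb m g x)
    rw [wmap_orb, hψ, ← wmap_orb, ← hδ x i]
    show VecGrp.Wmap _ ((gam g).toLinearMap.rTensor E (δ x)) = _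
    rw [VecGrp.Wmap, VecGrp.Wmap, ← LinearMap.rTensor_comp_apply, ← LinearMap.rTensor_comp_apply]
    congr 2
    have h2 := congrArg (fun c => (gam c).toLinearMap) hψ
    simp only [gam_natural, AlgHom.comp_toLinearMap] at h2
    exact h2
  -- the submodule
  obtain ⟨s, hs⟩ := Module.projective_def'.mp (inferInstance : Module.Projective R A0)
  let C : A0 ⊗[R] E →ₗ[R] A0 →₀ E := (TensorProduct.finsuppScalarLeft R E Γ(G.left, ⊤)).toLinearMap ∘ₗ s.rTensor E
  obtain ⟨S, hS⟩ := hM
  let T : Finset E := S.biUnion fun x => (C (δ x)).support.image (C (δ x))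
  let N : Submodule R E := Submodule.span R (T : Set E)
  have hmem : ∀ x ∈ S, ∀ (φ : A0 →ₗ[R] R), TensorProduct.lid R E (φ.rTensor E (δ x)) ∈ N := fun x hx φ => by
    have hz : ∀ z : A0 ⊗[R] E, TensorProduct.lid R E (φ.rTensor E z) = (C z).sum fun a e => φ a • e := by
      intro z
      induction z using TensorProduct.induction_on with
      | zero => simp
      | add p q hp hq =>
        rw [map_add, map_add, map_add, hp, hq, Finsupp.sum_add_index' (fun a => smul_zero _) fun a e e' => smul_add _ e e']
      | tmul a e =>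
        have hl : ∀ l : A0 →₀ R, (TensorProduct.finsuppScalarLeft R E Γ(G.left, ⊤) (l ⊗ₜ[R] e)).sum (fun b e => φ b • e) =
            φ (Finsupp.linearCombination R id l) • e := fun l => by
          induction l using Finsupp.induction_linear with
          | zero => simp
          | add p q hp hq =>
            rw [add_tmul, map_add, Finsupp.sum_add_index' (fun a => smul_zero _) fun a e e' => smul_add _ e e', hp, hq,
              map_add, map_add, add_smul]
          | single b c =>
            rw [TensorProduct.finsuppScalarLeft_apply_tmul, Finsupp.sum_single_index (by simp), Finsupp.sum_single_index (by simp)]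
            simp [smul_smul, mul_comm]
        show _ = (TensorProduct.finsuppScalarLeft R E Γ(G.left, ⊤) (s a ⊗ₜ[R] e)).sum _
        rw [hl, show Finsupp.linearCombination R id (s a) = a from LinearMap.congr_fun hs a]
        simp
    rw [hz]
    exact Submodule.sum_mem _ fun a ha => N.smul_mem _ (Submodule.subset_span
      (Finset.mem_biUnion.mpr ⟨x, hx, Finset.mem_image_of_mem _ ha⟩))
  have hgen : ∀ x ∈ S, ∀ {B : Type u} [CommRing B] [Algebra R B] (ψ : A0 →ₗ[R] B), Into N (ψ.rTensor E (δ x)) := by
    intro x hx B _ _ ψ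
    have hz : ∀ z : A0 ⊗[R] E, N.mkQ.lTensor B (ψ.rTensor E z) =
        (C z).sum fun a e => ψ a ⊗ₜ[R] N.mkQ e := by
      intro z
      induction z using TensorProduct.induction_on with
      | zero => simp
      | add p q hp hq =>
        rw [map_add, map_add, map_add, hp, hq, Finsupp.sum_add_index' (fun a => by simp) fun a e e' => by simp [tmul_add]]
      | tmul a e =>
        have hl : ∀ l : A0 →₀ R, (TensorProduct.finsuppScalarLeft R E Γ(G.left, ⊤) (l ⊗ₜ[R] e)).sum (fun b e => ψ b ⊗ₜ[R] N.mkQ e) =
            ψ (Finsupp.linearCombination R id l) ⊗ₜ[R] N.mkQ e := fun l => by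
          induction l using Finsupp.induction_linear with
          | zero => simp
          | add p q hp hq =>
            rw [add_tmul, map_add, Finsupp.sum_add_index' (fun a => by simp) fun a e e' => by simp [tmul_add], hp, hq,
              map_add, map_add, add_tmul]
          | single b c =>
            rw [TensorProduct.finsuppScalarLeft_apply_tmul, Finsupp.sum_single_index (by simp), Finsupp.sum_single_index (by simp)]
            simp [TensorProduct.smul_tmul']
        show _ = (TensorProduct.finsuppScalarLeft R E Γ(G.left, ⊤) (s a ⊗ₜ[R] e)).sum _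
        rw [hl, show Finsupp.linearCombination R id (s a) = a from LinearMap.congr_fun hs a]
        simp
    rw [Into, hz]
    exact Finset.sum_eq_zero fun a ha => by
      show ψ a ⊗ₜ[R] N.mkQ (C (δ x) a) = 0
      rw [(Submodule.mkQ_apply N _), (Submodule.Quotient.mk_eq_zero _).mpr (Submodule.subset_span
        (Finset.mem_biUnion.mpr ⟨x, hx, Finset.mem_image_of_mem _ ha⟩)), TensorProduct.tmul_zero]
  refine ⟨N, hS ▸ Submodule.span_le.mpr fun x hx => ?_, ⟨T, rfl⟩, fun B _ _ g y hy => ?_⟩
  · have h1 := hmem x hx (gam (1 : VecGrp.pt R R ⟶ G)).toLinearMap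
    rw [horb] at h1
    show x ∈ N
    rw [show orb m (1 : VecGrp.pt R R ⟶ G) x = (1 : R) ⊗ₜ[R] x by simp [orb]] at h1
    simpa using h1
  rw [← into_iff]
  refine into_orb m hcov N y (fun j => ?_) g
  induction hy using Submodule.span_induction with
  | zero => rw [map_zero]; exact map_zero _
  | add a b _ _ ha hb => rw [Into, map_add, map_add, ha, hb, add_zero]
  | smul c a _ ha => rw [Into, map_smul, map_smul, ha, smul_zero]
  | mem a ha =>
    obtain ⟨x, hx, hxa⟩ := Finset.mem_biUnion.mp ha
    obtain ⟨b, -, rfl⟩ := Finset.mem_image.mp hxa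
    clear ha hxa
    have := hflat j
    let φ : A0 →ₗ[R] R := Finsupp.lapply b ∘ₗ s
    have hb : C (δ x) b = TensorProduct.lid R E (φ.rTensor E (δ x)) := by
      generalize δ x = z
      induction z using TensorProduct.induction_on with
      | zero => simp
      | add p q hp hq => simp only [map_add, Finsupp.add_apply, hp, hq]
      | tmul a e =>
        show TensorProduct.finsuppScalarLeft R E Γ(G.left, ⊤) (s a ⊗ₜ[R] e) b = s a b • e
        exact TensorProduct.finsuppScalarLeft_apply_tmul_apply (s a) e b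
    -- the translation on functions
    let l : ∀ i, A j →ₐ[R] A j ⊗[R] A i := fun i => Algebra.TensorProduct.includeLeft
    let rr : ∀ i, A i →ₐ[R] A j ⊗[R] A i := fun i => Algebra.TensorProduct.includeRight
    let c : ∀ i, VecGrp.pt R (A j ⊗[R] A i) ⟶ G := fun i =>
      (VecGrp.ptMap (l i) ≫ u j) * (VecGrp.ptMap (rr i) ≫ u i)
    have := Fintype.ofFinite J
    let Γ0 : A0 →ₗ[R] A j ⊗[R] (∀ i, A i) :=
      (TensorProduct.piRight R R (A j) A).symm.toLinearMap ∘ₗ LinearMap.pi fun i => (gam (c i)).toLinearMap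
    have hΓ : ∀ i, (LinearMap.proj i : (∀ i, A i) →ₗ[R] A i).lTensor (A j) ∘ₗ Γ0 = (gam (c i)).toLinearMap := by
      intro i
      have h2 : ∀ z, (LinearMap.proj i : (∀ i, A i) →ₗ[R] A i).lTensor (A j) z = TensorProduct.piRight R R (A j) A z i := by
        intro z
        induction z using TensorProduct.induction_on with
        | zero => simp
        | add p q hp hq => simp only [map_add, Pi.add_apply, hp, hq]
        | tmul a x => simp
      refine LinearMap.ext fun a => ?_
      rw [LinearMap.comp_apply, h2]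
      exact congrFun ((TensorProduct.piRight R R (A j) A).apply_symm_apply _) i
    have hrange : ∀ a, Γ0 a ∈ LinearMap.range (d0.lTensor (A j)) := fun a => by
      refine ((Module.Flat.lTensor_exact (A j) hex) _).mp ?_
      have := Fintype.ofFinite K
      apply (TensorProduct.piRight R R (A j) W).injective
      rw [map_zero]
      funext k
      let Rp : A j ⊗[R] A (p k) →ₐ[R] A j ⊗[R] W k := Algebra.TensorProduct.map (AlgHom.id R _) (r k)
      let Rq : A j ⊗[R] A (q k) →ₐ[R] A j ⊗[R] W k := Algebra.TensorProduct.map (AlgHom.id R _) (r' k)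
      have hz : ∀ z : A j ⊗[R] (∀ i, A i), TensorProduct.piRight R R (A j) W (d1.lTensor (A j) z) k =
          Rp ((LinearMap.proj (p k) : (∀ i, A i) →ₗ[R] A (p k)).lTensor (A j) z) -
            Rq ((LinearMap.proj (q k) : (∀ i, A i) →ₗ[R] A (q k)).lTensor (A j) z) := by
        intro z
        induction z using TensorProduct.induction_on with
        | zero => simp
        | add p q hp hq => simp only [map_add, Pi.add_apply, hp, hq]; abel
        | tmul a f => simp [Rp, Rq, d1, TensorProduct.tmul_sub]
      rw [hz, ← LinearMap.comp_apply, ← LinearMap.comp_apply, hΓ, hΓ, Pi.zero_apply, sub_eq_zero]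
      show (Rp.comp (gam (c (p k)))) a = (Rq.comp (gam (c (q k)))) a
      rw [← gam_natural, ← gam_natural]
      congr 2
      show VecGrp.ptMap Rp ≫ (_ * _) = VecGrp.ptMap Rq ≫ (_ * _)
      rw [MonObj.comp_mul, MonObj.comp_mul, ← Category.assoc, ← Category.assoc, ← Category.assoc, ← Category.assoc]
      have hcomp : ∀ {X Y Z : Type u} [CommRing X] [Algebra R X] [CommRing Y] [Algebra R Y] [CommRing Z] [Algebra R Z]
          (f : X →ₐ[R] Y) (f' : Y →ₐ[R] Z), VecGrp.ptMap f' ≫ VecGrp.ptMap f = VecGrp.ptMap (f'.comp f) := by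
        intro X Y Z _ _ _ _ _ _ f f'
        apply Over.OverMorphism.ext
        exact (Spec.map_comp _ _).symm
      rw [hcomp, hcomp, hcomp, hcomp]
      congr 1
      · congr 2
        exact AlgHom.ext fun t => by simp [Rp, Rq, l]
      · rw [show Rp.comp (rr (p k)) = (Algebra.TensorProduct.includeRight : W k →ₐ[R] A j ⊗[R] W k).comp (r k) from
            AlgHom.ext fun t => by simp [Rp, rr],
          show Rq.comp (rr (q k)) = (Algebra.TensorProduct.includeRight : W k →ₐ[R] A j ⊗[R] W k).comp (r' k) from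
            AlgHom.ext fun t => by simp [Rq, rr], ← hcomp, ← hcomp, Category.assoc, Category.assoc, hw k]
    let Δ : A0 →ₗ[R] A j ⊗[R] A0 :=
      (LinearEquiv.ofInjective _ (Module.Flat.lTensor_preserves_injective_linearMap (M := A j) d0 hd0)).symm.toLinearMap ∘ₗ
        Γ0.codRestrict _ hrange
    have hΔ : d0.lTensor (A j) ∘ₗ Δ = Γ0 := LinearMap.ext fun a =>
      congrArg Subtype.val ((LinearEquiv.ofInjective (d0.lTensor (A j))
        (Module.Flat.lTensor_preserves_injective_linearMap (M := A j) d0 hd0)).apply_symm_apply (Γ0.codRestrict _ hrange a))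
    -- moving the translated element
    let T0 : A0 ⊗[R] E →ₗ[R] (A j ⊗[R] A0) ⊗[R] E :=
      ((TensorProduct.assoc R (A j) A0 E).symm.toLinearMap ∘ₗ (TensorProduct.leftComm R A0 (A j) E).toLinearMap) ∘ₗ
        (orb m (u j)).lTensor A0
    have hkey : T0 (δ x) = Δ.rTensor E (δ x) := by
      apply Module.Flat.rTensor_preserves_injective_linearMap (M := E) _
        (Module.Flat.lTensor_preserves_injective_linearMap (M := A j) d0 hd0)
      rw [← LinearMap.rTensor_comp_apply, hΔ, ← sub_eq_zero]
      refine ext_proj' fun i => ?_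
      rw [map_sub, sub_eq_zero, ← LinearMap.rTensor_comp_apply, ← LinearMap.rTensor_comp_apply, hΓ, horb,
        ← LinearMap.lTensor_comp, LinearMap.proj_pi]
      show ((gam (u i)).toLinearMap.lTensor (A j)).rTensor E (T0 (δ x)) = m.ρ _ (c i) _
      have hc : ∀ w : A0 ⊗[R] E, ((gam (u i)).toLinearMap.lTensor (A j)).rTensor E (T0 w) =
          m.ρ _ (VecGrp.ptMap (l i) ≫ u j) (VecGrp.Wmap (rr i) ((gam (u i)).toLinearMap.rTensor E w)) := by
        intro w
        induction w using TensorProduct.induction_on with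
        | zero => simp
        | add p q hp hq => simp only [map_add, hp, hq]
        | tmul a e =>
          rw [LinearMap.rTensor_tmul, VecGrp.Wmap_tmul, show rr i ((gam (u i)).toLinearMap a) ⊗ₜ[R] e =
              rr i (gam (u i) a) • ((1 : A j ⊗[R] A i) ⊗ₜ[R] e) by
                rw [TensorProduct.smul_tmul', smul_eq_mul, mul_one]; rfl, map_smul,
            show m.ρ _ (VecGrp.ptMap (l i) ≫ u j) ((1 : A j ⊗[R] A i) ⊗ₜ[R] e) = VecGrp.Wmap (l i) (orb m (u j) e) from
              (wmap_orb m (l i) (u j) e).symm]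
          suffices hg : ∀ v : A j ⊗[R] E, ((gam (u i)).toLinearMap.lTensor (A j)).rTensor E
              ((TensorProduct.assoc R (A j) A0 E).symm (TensorProduct.leftComm R A0 (A j) E (a ⊗ₜ[R] v))) =
              rr i (gam (u i) a) • VecGrp.Wmap (l i) v from hg _
          intro v
          induction v using TensorProduct.induction_on with
          | zero => simp
          | add p q hp hq => simp only [map_add, smul_add, TensorProduct.tmul_add, hp, hq]
          | tmul t e' => simp [l, rr, TensorProduct.smul_tmul']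
      rw [hc, hδ, wmap_orb]
      show m.ρ _ _ (m.ρ _ _ _) = _
      rw [← LinearEquiv.mul_apply, ← map_mul]
    -- conclusion
    show Into N (orb m (u j) (C (δ x) b))
    rw [hb]
    let ψ : A0 →ₗ[R] A j := (TensorProduct.rid R (A j)).toLinearMap ∘ₗ φ.lTensor (A j) ∘ₗ Δ
    have hfin : orb m (u j) (TensorProduct.lid R E (φ.rTensor E (δ x))) = ψ.rTensor E (δ x) := by
      have h3 : ∀ w : A0 ⊗[R] E, orb m (u j) (TensorProduct.lid R E (φ.rTensor E w)) =
          ((TensorProduct.rid R (A j)).toLinearMap ∘ₗ φ.lTensor (A j)).rTensor E (T0 w) := by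
        intro w
        induction w using TensorProduct.induction_on with
        | zero => simp
        | add p q hp hq => simp only [map_add, hp, hq]
        | tmul a e =>
          suffices hg : ∀ v : A j ⊗[R] E, φ a • v =
              ((TensorProduct.rid R (A j)).toLinearMap ∘ₗ φ.lTensor (A j)).rTensor E
                ((TensorProduct.assoc R (A j) A0 E).symm (TensorProduct.leftComm R A0 (A j) E (a ⊗ₜ[R] v))) by
            rw [LinearMap.rTensor_tmul, TensorProduct.lid_tmul, map_smul]
            exact hg _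
          intro v
          induction v using TensorProduct.induction_on with
          | zero => simp
          | add p q hp hq => simp only [map_add, smul_add, TensorProduct.tmul_add, hp, hq]
          | tmul t e' => simp [TensorProduct.smul_tmul']
      rw [h3, hkey, ← LinearMap.rTensor_comp_apply]
      rfl
    rw [hfin]
    exact hgen x hx ψ

end Groth.Agent.CommAlg4.GModStab
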