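import Mathlib

/-! A free Galois extension with no inertia in codimension one, and trivial residue extension, is trivial. -/

set_option autoImplicit false
set_option linter.all false
set_option maxHeartbeats 1000000
universe u v w

open scoped TensorProduct

namespace Groth.Agent.CommAlg4.GaloisFree

variable {R : Type u} [CommRing R] [IsNoetherianRing R] [IsLocalRing R]
  {A : Type v} [CommRing A] [IsDomain A] [IsLocalRing A]
  [Algebra R A] [Module.Finite R A] [Module.Free R A] (hinj : Function.Injective (algebraMap R A))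
  {H : Type w} [Group H] [Finite H] [MulSemiringAction H A] [SMulCommClass H R A]
  (hfix : ∀ a : A, (∀ h : H, h • a = a) → a ∈ Set.range (algebraMap R A))

include hinj hfix in
theorem subsingleton_of_forall_inertia (hres : Function.Surjective (IsLocalRing.residue A ∘ algebraMap R A))
    (hP : ∀ q : Ideal R, q.IsPrime → q.height ≤ 1 → ∀ P : Ideal A, P.IsPrime → P.comap (algebraMap R A) = q → P.inertia H = ⊥) :
    Subsingleton H := by
  classical
  haveI : IsDomain R := hinj.isDomain _
  haveI : Module.IsTorsionFree R A := by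
    haveI : FaithfulSMul R A := (faithfulSMul_iff_algebraMap_injective R A).2 hinj
    infer_instance
  let _ : Fintype H := Fintype.ofFinite H
  let ψ : H → (A ⊗[R] A →ₐ[R] A) := fun h =>
    Algebra.TensorProduct.productMap (AlgHom.id R A) (MulSemiringAction.toAlgHom R A h)
  have hψ : ∀ h a b, ψ h (a ⊗ₜ b) = a * h • b := fun h a b => rfl
  -- trace
  choose tr htr using fun a : A => hfix (∑ h : H, h • a) (fun g => by
    rw [Finset.smul_sum]
    exact Fintype.sum_equiv (Equiv.mulLeft g) _ _ (fun h => by rw [Equiv.coe_mulLeft, mul_smul]))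
  let T : A →ₗ[R] R :=
    { toFun := tr
      map_add' := fun a b => hinj (by simp only [map_add, htr, smul_add, Finset.sum_add_distrib])
      map_smul' := fun r a => hinj (by
        simp only [RingHom.id_apply, smul_eq_mul, map_mul, htr, Finset.mul_sum, Algebra.smul_def, smul_mul', smul_algebraMap]) }
  have hT : ∀ a, algebraMap R A (T a) = ∑ h : H, h • a := htr
  -- solutions
  let Sol : R → Prop := fun c => ∃ t : A ⊗[R] A, ψ 1 t = algebraMap R A c ∧ ∀ h : H, h ≠ 1 → ψ h t = 0
  have hSol : ∀ q : Ideal R, q.IsPrime → q.height ≤ 1 → ∃ c, Sol c ∧ c ∉ q := by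
    intro q hqp hq
    have hone : ∀ h : H, h ≠ 1 → ∃ r : R, r ∉ q ∧ ∃ t, ψ 1 t = algebraMap R A r ∧ ψ h t = 0 := by
      intro h hh
      let I : Ideal A := Ideal.span (Set.range fun a : A => h • a - a)
      have hnot : ¬ I.comap (algebraMap R A) ≤ q := fun hle => by
        haveI := hqp
        obtain ⟨P, hIP, hPp, hPc⟩ := Ideal.exists_ideal_over_prime_of_isIntegral (q) I hle
        have hmem : h ∈ P.inertia H := fun a => hIP (Ideal.subset_span ⟨a, rfl⟩)
        rw [hP q hqp hq P hPp hPc] at hmem
        exact hh (Subgroup.mem_bot.1 hmem)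
      obtain ⟨r, hrI, hrq⟩ := SetLike.not_le_iff_exists.1 hnot
      refine ⟨r, hrq, ?_⟩
      have key : ∀ y ∈ I, ∃ t, ψ 1 t = y ∧ ψ h t = 0 := by
        intro y hy
        induction hy using Submodule.span_induction with
        | mem y hy =>
          obtain ⟨a, rfl⟩ := hy
          exact ⟨(h • a) ⊗ₜ 1 - 1 ⊗ₜ a, by simp [hψ], by simp [hψ]⟩
        | zero => exact ⟨0, map_zero _, map_zero _⟩
        | add y z _ _ hy hz =>
          obtain ⟨t, h1, h2⟩ := hy
          obtain ⟨t', h3, h4⟩ := hz
          exact ⟨t + t', by rw [map_add, h1, h3], by rw [map_add, h2, h4, add_zero]⟩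
        | smul b y _ hy =>
          obtain ⟨t, h1, h2⟩ := hy
          exact ⟨(b ⊗ₜ 1) * t, by rw [map_mul, h1, hψ]; simp, by rw [map_mul, h2, mul_zero]⟩
      exact key _ hrI
    choose! r hr t ht using hone
    refine ⟨∏ h ∈ Finset.univ.erase 1, r h, ⟨∏ h ∈ Finset.univ.erase 1, t h, ?_, fun h hh => ?_⟩, fun hdvd => ?_⟩
    · rw [map_prod, map_prod]
      exact Finset.prod_congr rfl fun h hh => (ht h (Finset.ne_of_mem_erase hh)).1
    · rw [map_prod]
      exact Finset.prod_eq_zero (Finset.mem_erase.2 ⟨hh, Finset.mem_univ h⟩) (ht h hh).2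
    · obtain ⟨h, hh, hdvd'⟩ := hqp.prod_mem_iff.1 hdvd
      exact hr h (Finset.ne_of_mem_erase hh) hdvd'
  have hexp : ∀ c, Sol c → ∃ S : Finset (A × A), (∀ a : A, c • a = ∑ l ∈ S, T (a * l.1) • l.2) ∧
      ∀ h : H, ∑ l ∈ S, l.2 * h • l.1 = if h = 1 then algebraMap R A c else 0 := by
    rintro c ⟨t, ht1, ht2⟩
    obtain ⟨S, rfl⟩ := TensorProduct.exists_finset t
    have hsum : ∀ h : H, ∑ l ∈ S, l.1 * h • l.2 = if h = 1 then algebraMap R A c else 0 := fun h => by
      have : ψ h (∑ l ∈ S, l.1 ⊗ₜ[R] l.2) = ∑ l ∈ S, l.1 * h • l.2 := by simp [map_sum, hψ]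
      rw [← this]
      by_cases hh : h = 1
      · rw [if_pos hh, hh]; exact ht1
      · rw [if_neg hh]; exact ht2 h hh
    have hflip : ∀ h : H, ∑ l ∈ S, l.2 * h • l.1 = if h = 1 then algebraMap R A c else 0 := fun h => by
      have h1 := congrArg (h • ·) (hsum h⁻¹)
      simp only [Finset.smul_sum, smul_mul', smul_inv_smul, inv_eq_one, apply_ite (h • ·), smul_algebraMap, smul_zero] at h1
      rw [← h1]
      exact Finset.sum_congr rfl fun l _ => mul_comm _ _
    refine ⟨S, fun a => ?_, hflip⟩
    simp only [Algebra.smul_def, hT, Finset.sum_mul]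
    rw [Finset.sum_comm, Finset.sum_eq_single (1 : H)]
    · simp only [one_smul, mul_assoc, ← Finset.mul_sum]
      have := hsum 1
      simp only [one_smul, if_pos] at this
      rw [this, mul_comm]
    · intro h _ hh
      simp only [smul_mul', mul_assoc, ← Finset.mul_sum]
      have : ∑ l ∈ S, h • l.1 * l.2 = 0 := by
        have := hflip h
        rw [if_neg hh] at this
        rw [← this]
        exact Finset.sum_congr rfl fun l _ => mul_comm _ _
      rw [this, mul_zero]
    · simp
  let θ : A →ₗ[R] Module.Dual R A := (LinearMap.mul R A).compr₂ T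
  have hθ : ∀ a b, θ a b = T (a * b) := fun a b => rfl
  obtain ⟨D, hD, hDq⟩ := hSol ⊥ Ideal.isPrime_bot (by rw [Ideal.height_bot]; exact zero_le_one)
  have hD0 : D ≠ 0 := fun h => hDq (by rw [h]; exact zero_mem _)
  have hθi : Function.Injective θ := by
    rw [injective_iff_map_eq_zero]
    intro a ha
    obtain ⟨S, hS, -⟩ := hexp D hD
    have := hS a
    simp only [← hθ, ha, LinearMap.zero_apply, zero_smul, Finset.sum_const_zero] at this
    exact (smul_eq_zero.1 this).resolve_left hD0
  have hz : ∀ (φ : Module.Dual R A) c, Sol c → ∃ z, θ z = c • φ := fun φ c hc => by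
    obtain ⟨S, hS, -⟩ := hexp c hc
    refine ⟨∑ l ∈ S, φ l.2 • l.1, LinearMap.ext fun v => ?_⟩
    rw [LinearMap.smul_apply, ← map_smul φ, hS v, map_sum θ, LinearMap.sum_apply, map_sum φ]
    refine Finset.sum_congr rfl fun l _ => ?_
    rw [hθ, Algebra.smul_mul_assoc, map_smul, map_smul, smul_eq_mul, smul_eq_mul, mul_comm l.1, mul_comm (φ l.2)]
  haveI : IsNoetherianRing A := IsNoetherianRing.of_finite R A
  have hθs : Function.Surjective θ := by
    let b := Module.Free.chooseBasis R A
    let M := LinearMap.toMatrix b b.dualBasis θ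
    have key : ∀ c, Sol c → ∃ Z, c • (1 : Matrix _ _ R) = M * Z := fun c hc => by
      choose z hz' using fun i => hz (b.dualBasis i) c hc
      refine ⟨LinearMap.toMatrix b.dualBasis b (b.dualBasis.constr R z), ?_⟩
      rw [← LinearMap.toMatrix_comp, show θ ∘ₗ b.dualBasis.constr R z = c • LinearMap.id from
        b.dualBasis.ext fun i => by simp [hz'], map_smul, LinearMap.toMatrix_id]
    have hdet : IsUnit M.det := by
      by_contra hu
      obtain ⟨q, hq, hle⟩ := Ideal.exists_minimalPrimes_le (I := Ideal.span {M.det}) (J := IsLocalRing.maximalIdeal R)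
        ((Ideal.span_singleton_le_iff_mem _).2 ((IsLocalRing.mem_maximalIdeal _).2 hu))
      have hqp : q.IsPrime := hq.1.1
      obtain ⟨c, hc, hcq⟩ := hSol q hqp (Ideal.height_le_one_of_isPrincipal_of_mem_minimalPrimes _ q hq)
      obtain ⟨Z, hZ⟩ := key c hc
      have h := congrArg Matrix.det hZ
      rw [Matrix.det_smul, Matrix.det_one, mul_one, Matrix.det_mul] at h
      have hmem : M.det * Z.det ∈ q := q.mul_mem_right _ (hq.1.2 (Ideal.mem_span_singleton_self _))
      rw [← h] at hmem
      exact hcq (hqp.mem_of_pow_mem _ hmem)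
    exact (LinearEquiv.ofIsUnitDet hdet).surjective
  let eθ := LinearEquiv.ofBijective θ ⟨hθi, hθs⟩
  let b := Module.Free.chooseBasis R A
  let y := fun i => eθ.symm (b.coord i)
  have hy : ∀ a i, T (y i * a) = b.repr a i := fun a i => LinearMap.congr_fun (eθ.apply_symm_apply (b.coord i)) a
  have hflat : ∀ h : H, ∑ i, y i * h • b i = if h = 1 then 1 else 0 := by
    intro h
    obtain ⟨S, hS, hflip⟩ := hexp D hD
    have h1 : D • ∑ i, y i * h • b i = D • (if h = 1 then (1 : A) else 0) := by
      calc D • ∑ i, y i * h • b i = ∑ i, (∑ l ∈ S, T (y i * l.1) • l.2) * h • b i := by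
            rw [Finset.smul_sum]
            exact Finset.sum_congr rfl fun i _ => by rw [← hS, Algebra.smul_mul_assoc]
        _ = ∑ l ∈ S, l.2 * h • l.1 := by
            simp only [Finset.sum_mul]
            rw [Finset.sum_comm]
            refine Finset.sum_congr rfl fun l _ => ?_
            conv_rhs => rw [← b.sum_repr l.1, Finset.smul_sum, Finset.mul_sum]
            refine Finset.sum_congr rfl fun i _ => ?_
            rw [hy, Algebra.smul_mul_assoc, smul_comm h (b.repr l.1 i) (b i), mul_smul_comm (b.repr l.1 i)]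
        _ = _ := by
            rw [hflip]
            split_ifs
            · rw [Algebra.algebraMap_eq_smul_one]
            · rw [smul_zero]
    exact smul_right_injective A hD0 h1
  refine subsingleton_of_forall_eq 1 fun h => by_contra fun hh => ?_
  have hm : ∀ (g : H) a, g • a - a ∈ IsLocalRing.maximalIdeal A := by
    intro g a
    obtain ⟨r, hr⟩ := hres (IsLocalRing.residue A a)
    have h1 : a - algebraMap R A r ∈ IsLocalRing.maximalIdeal A := Ideal.Quotient.eq.1 hr.symm
    have h2 : g • (a - algebraMap R A r) ∈ IsLocalRing.maximalIdeal A := by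
      rw [IsLocalRing.mem_maximalIdeal, mem_nonunits_iff]
      intro hu
      have h3 := hu.map (MulSemiringAction.toRingHom H A g⁻¹)
      rw [MulSemiringAction.toRingHom_apply, inv_smul_smul] at h3
      exact (IsLocalRing.mem_maximalIdeal _).1 h1 h3
    rw [smul_sub, smul_algebraMap] at h2
    have := sub_mem h2 h1
    rwa [sub_sub_sub_cancel_right] at this
  have h1 : (1 : A) - 0 ∈ IsLocalRing.maximalIdeal A := by
    have e1 := hflat 1
    have e2 := hflat h
    rw [if_pos rfl] at e1
    rw [if_neg hh] at e2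
    rw [← e1, ← e2, ← Finset.sum_sub_distrib]
    refine Ideal.sum_mem _ fun i _ => ?_
    rw [← mul_sub, one_smul]
    exact Ideal.mul_mem_left _ _ (by simpa using neg_mem (hm h (b i)))
  exact (IsLocalRing.maximalIdeal.isMaximal A).ne_top ((Ideal.eq_top_iff_one _).2 (by simpa using h1))

end Groth.Agent.CommAlg4.GaloisFree
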