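import Mathlib

/-!
# Degree one primes give embeddings into completions
-/

set_option autoImplicit false
set_option linter.all false

universe u

open NumberField IsDedekindDomain WithZero Filter Topology

namespace Groth.Agent.CommAlg4.SplitCompletion

section Balls

variable {k : Type u} [Field k] [NumberField k] (v : HeightOneSpectrum (𝓞 k))

theorem valued_algebraMap (x : k) : Valued.v (algebraMap k (v.adicCompletion k) x) = v.valuation k x :=
  HeightOneSpectrum.valuedAdicCompletion_eq_valuation' v x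

/-- Neighbourhoods of a point contain balls of radius `exp (-N)`. -/
theorem exists_ball_subset {s : Set (v.adicCompletion k)} {x : v.adicCompletion k} (hs : s ∈ 𝓝 x) :
    ∃ N : ℕ, ∀ y, Valued.v (y - x) ≤ exp (-(N : ℤ)) → y ∈ s := by
  obtain ⟨γ, hγ⟩ := Valued.mem_nhds.1 hs
  obtain ⟨g, hg, hgv⟩ : ∃ g : ℤᵐ⁰, g ≠ 0 ∧ ∀ y : v.adicCompletion k, Valued.v y < g → Valued.v.restrict y < γ.1 := by
    refine ⟨MonoidWithZeroHom.ValueGroup₀.embedding γ.1, by simp, fun y hy => ?_⟩
    rwa [← MonoidWithZeroHom.ValueGroup₀.embedding_strictMono.lt_iff_lt, Valuation.embedding_restrict]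
  refine ⟨(log g).natAbs + 1, fun y hy => hγ (hgv _ (hy.trans_lt ?_))⟩
  rw [← exp_log hg, exp_lt_exp, log_exp]
  omega

theorem isClosed_ball_exp (c : v.adicCompletion k) (N : ℤ) :
    IsClosed {y : v.adicCompletion k | Valued.v (y - c) ≤ exp N} := by
  rw [← isOpen_compl_iff, isOpen_iff_mem_nhds]
  intro y hy
  simp only [Set.mem_compl_iff, Set.mem_ofPred_eq, not_le] at hy
  have h0 : Valued.v (y - c) ≠ 0 := (pos_of_gt hy).ne'
  refine Filter.mem_of_superset ((continuous_id.sub continuous_const).continuousAt.preimage_mem_nhds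
    (Valued.locally_const h0)) fun z hz => ?_
  simp only [Set.mem_compl_iff, Set.mem_ofPred_eq, not_le]
  exact hy.trans_eq (Set.mem_ofPred_eq ▸ hz).symm

theorem eq_of_forall_le {c c' : v.adicCompletion k} (h : ∀ N : ℕ, Valued.v (c - c') ≤ exp (-(N : ℤ))) : c = c' := by
  rw [← sub_eq_zero, ← map_eq_zero (Valued.v (R := v.adicCompletion k))]
  by_contra hne
  have h1 := h ((log (Valued.v (c - c'))).natAbs + 1)
  rw [← exp_log hne, exp_le_exp, log_exp] at h1
  omega

theorem exists_limit (a : ℕ → v.adicCompletion k)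
    (ha : ∀ N, Valued.v (a (N + 1) - a N) ≤ exp (-(N : ℤ))) :
    ∃ c, ∀ N, Valued.v (c - a N) ≤ exp (-(N : ℤ)) := by
  have hmn : ∀ N M, N ≤ M → Valued.v (a M - a N) ≤ exp (-(N : ℤ)) := fun N M hNM => by
    induction M, hNM using Nat.le_induction with
    | base => simp
    | succ M hM ih =>
      rw [show a (M + 1) - a N = (a (M + 1) - a M) + (a M - a N) by ring]
      refine Valuation.map_add_le _ ((ha M).trans (exp_le_exp.2 (by omega))) ih
  have hc : CauchySeq a := by
    rw [cauchySeq_iff_tendsto, uniformity_eq_comap_nhds_zero, tendsto_comap_iff]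
    intro s hs
    obtain ⟨N, hN⟩ := exists_ball_subset v hs
    rw [mem_map, mem_atTop_sets]
    refine ⟨(N, N), fun p hp => hN _ ?_⟩
    show Valued.v (a p.2 - a p.1 - 0) ≤ _
    rw [sub_zero, show a p.2 - a p.1 = (a p.2 - a N) - (a p.1 - a N) by ring]
    exact Valuation.map_sub_le _ (hmn N p.2 hp.2) (hmn N p.1 hp.1)
  obtain ⟨c, hc⟩ := cauchySeq_tendsto_of_complete hc
  exact ⟨c, fun N => (isClosed_ball_exp v (a N) _).mem_of_tendsto hc
    (eventually_atTop.2 ⟨N, fun M hM => hmn N M hM⟩)⟩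

end Balls

variable {k L : Type u} [Field k] [NumberField k] [Field L] [NumberField L] [Algebra k L]

theorem exists_algHom_of_residue (v : HeightOneSpectrum (𝓞 k)) (P : Ideal (𝓞 L)) [P.IsPrime] [P.LiesOver v.asIdeal]
    (hPbot : P ≠ ⊥) (he : v.asIdeal.ramificationIdx' P = 1)
    (hres : ∀ x : 𝓞 L, ∃ m : 𝓞 k, x - algebraMap (𝓞 k) (𝓞 L) m ∈ P) :
    Nonempty (L →ₐ[k] v.adicCompletion k) := by
  classical
  let W : HeightOneSpectrum (𝓞 L) := ⟨P, inferInstance, hPbot⟩
  haveI : W.asIdeal.LiesOver v.asIdeal := ‹P.LiesOver v.asIdeal›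
  have hval : ∀ a : 𝓞 k, v.intValuation a = W.intValuation (algebraMap (𝓞 k) (𝓞 L) a) := fun a => by
    have h := HeightOneSpectrum.intValuation_liesOver (B := 𝓞 L) v W a
    rwa [show v.asIdeal.ramificationIdx' W.asIdeal = 1 from he, pow_one] at h
  have hmem : ∀ (a : 𝓞 k) (N : ℕ), algebraMap (𝓞 k) (𝓞 L) a ∈ P ^ N → v.intValuation a ≤ exp (-(N : ℤ)) :=
    fun a N h => by
      rw [hval]
      exact (W.intValuation_le_pow_iff_mem _ _).2 h
  obtain ⟨π, hπ⟩ := v.intValuation_exists_uniformizer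
  have hπW : W.intValuation (algebraMap (𝓞 k) (𝓞 L) π) = exp (-1 : ℤ) := (hval π).symm.trans hπ
  have hapx : ∀ (N : ℕ) (x : 𝓞 L), ∃ a : 𝓞 k, x - algebraMap (𝓞 k) (𝓞 L) a ∈ P ^ N := by
    intro N
    induction N with
    | zero => intro x; exact ⟨0, by simp⟩
    | succ N ih =>
      intro x
      obtain ⟨a, ha⟩ := ih x
      -- a uniformiser power divides the error, modulo `P ^ (N + 1)`
      have h1 : Ideal.span {(algebraMap (𝓞 k) (𝓞 L) π) ^ N} ⊔ P ^ (N + 1) = P ^ N := by
        have hle : Ideal.span {(algebraMap (𝓞 k) (𝓞 L) π) ^ N} ⊔ P ^ (N + 1) ≤ P ^ N :=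
          sup_le ((Ideal.span_singleton_le_iff_mem _).2 ((W.intValuation_le_pow_iff_mem _ _).1 (by
            rw [map_pow, hπW, ← exp_nsmul, smul_neg, nsmul_one]))) (Ideal.pow_le_pow_right (Nat.le_succ N))
        obtain ⟨j, hj, hj'⟩ := (dvd_prime_pow (Ideal.prime_of_isPrime hPbot inferInstance) (N + 1)).1
          (Ideal.dvd_iff_le.2 (le_sup_right (a := Ideal.span {(algebraMap (𝓞 k) (𝓞 L) π) ^ N}) (b := P ^ (N + 1))))
        replace hj' := associated_iff_eq.1 hj'
        rw [hj'] at hle ⊢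
        have hjN : j ≤ N := by
          by_contra hcon
          have h2 : (algebraMap (𝓞 k) (𝓞 L) π) ^ N ∈ P ^ (N + 1) := by
            rw [show N + 1 = j by omega, ← hj']
            exact Ideal.mem_sup_left (Ideal.mem_span_singleton_self _)
          have h3 := (W.intValuation_le_pow_iff_mem _ _).2 h2
          rw [map_pow, hπW, ← exp_nsmul, exp_le_exp, smul_neg, nsmul_one] at h3
          push_cast at h3
          omega
        exact le_antisymm hle (Ideal.pow_le_pow_right hjN)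
      obtain ⟨t, ht, w, hw, htw⟩ := Submodule.mem_sup.1 (h1.symm ▸ ha)
      obtain ⟨s, rfl⟩ := Ideal.mem_span_singleton'.1 ht
      obtain ⟨m, hm⟩ := hres s
      refine ⟨a + π ^ N * m, ?_⟩
      rw [map_add, map_mul, map_pow, ← sub_sub, ← htw,
        show s * (algebraMap (𝓞 k) (𝓞 L) π) ^ N + w - (algebraMap (𝓞 k) (𝓞 L) π) ^ N * algebraMap (𝓞 k) (𝓞 L) m =
          (algebraMap (𝓞 k) (𝓞 L) π) ^ N * (s - algebraMap (𝓞 k) (𝓞 L) m) + w by ring]
      refine add_mem ?_ hw
      rw [pow_succ]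
      exact Ideal.mul_mem_mul (h1 ▸ Ideal.mem_sup_left (Ideal.mem_span_singleton_self _)) hm
  choose a ha using hapx
  let φ : 𝓞 k →+* v.adicCompletion k := (algebraMap k (v.adicCompletion k)).comp (algebraMap (𝓞 k) k)
  have hφ : ∀ (b : 𝓞 k) (N : ℕ), algebraMap (𝓞 k) (𝓞 L) b ∈ P ^ N → Valued.v (φ b) ≤ exp (-(N : ℤ)) :=
    fun b N h => by
      show Valued.v (algebraMap k (v.adicCompletion k) _) ≤ _
      rw [valued_algebraMap, HeightOneSpectrum.valuation_of_algebraMap]
      exact hmem b N h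
  have hlim : ∀ x, ∃ c, ∀ N, Valued.v (c - φ (a N x)) ≤ exp (-(N : ℤ)) := fun x => by
    refine exists_limit v _ fun N => ?_
    rw [← map_sub]
    refine hφ _ N ?_
    rw [map_sub, show algebraMap (𝓞 k) (𝓞 L) (a (N + 1) x) - algebraMap (𝓞 k) (𝓞 L) (a N x) =
      (x - algebraMap _ _ (a N x)) - (x - algebraMap _ _ (a (N + 1) x)) by ring]
    exact sub_mem (ha N x) (Ideal.pow_le_pow_right (Nat.le_succ N) (ha (N + 1) x))
  choose g hg using hlim
  have huniq : ∀ (x : 𝓞 L) c, (∀ N : ℕ, ∃ b, x - algebraMap (𝓞 k) (𝓞 L) b ∈ P ^ N ∧ Valued.v (c - φ b) ≤ exp (-(N : ℤ))) →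
      c = g x := fun x c h => eq_of_forall_le v fun N => by
    obtain ⟨b, hb, hcb⟩ := h N
    rw [show c - g x = (c - φ b) + φ (b - a N x) - (g x - φ (a N x)) by rw [map_sub]; ring]
    refine Valuation.map_sub_le _ (Valuation.map_add_le _ hcb (hφ _ N ?_)) (hg x N)
    rw [map_sub, show algebraMap (𝓞 k) (𝓞 L) b - algebraMap (𝓞 k) (𝓞 L) (a N x) =
      (x - algebraMap _ _ (a N x)) - (x - algebraMap _ _ b) by ring]
    exact sub_mem (ha N x) hb
  have hint : ∀ b : 𝓞 k, Valued.v (φ b) ≤ 1 := fun b => by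
    simpa using hφ b 0 (by simp)
  have hgint : ∀ x, Valued.v (g x) ≤ 1 := fun x => by
    rw [show g x = (g x - φ (a 0 x)) + φ (a 0 x) by ring]
    exact Valuation.map_add_le _ (by simpa using hg x 0) (hint _)
  have hconst : ∀ b : 𝓞 k, g (algebraMap (𝓞 k) (𝓞 L) b) = φ b := fun b =>
    (huniq _ _ fun N => ⟨b, by simp, by simp⟩).symm
  let G : 𝓞 L →+* v.adicCompletion k :=
  { toFun := g
    map_one' := by simpa using hconst 1
    map_zero' := by simpa using hconst 0
    map_add' := fun x y => (huniq _ _ fun N => ⟨a N x + a N y, by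
      rw [map_add, show x + y - (algebraMap (𝓞 k) (𝓞 L) (a N x) + algebraMap (𝓞 k) (𝓞 L) (a N y)) =
        (x - algebraMap _ _ (a N x)) + (y - algebraMap _ _ (a N y)) by ring]
      exact add_mem (ha N x) (ha N y), by
      rw [map_add, show g x + g y - (φ (a N x) + φ (a N y)) = (g x - φ (a N x)) + (g y - φ (a N y)) by ring]
      exact Valuation.map_add_le _ (hg x N) (hg y N)⟩).symm
    map_mul' := fun x y => (huniq _ _ fun N => ⟨a N x * a N y, by
      rw [map_mul, show x * y - algebraMap (𝓞 k) (𝓞 L) (a N x) * algebraMap (𝓞 k) (𝓞 L) (a N y) =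
        (x - algebraMap _ _ (a N x)) * y + algebraMap _ _ (a N x) * (y - algebraMap _ _ (a N y)) by ring]
      exact add_mem (Ideal.mul_mem_right _ _ (ha N x)) (Ideal.mul_mem_left _ _ (ha N y)), by
      rw [map_mul, show g x * g y - φ (a N x) * φ (a N y) =
        (g x - φ (a N x)) * g y + φ (a N x) * (g y - φ (a N y)) by ring]
      refine Valuation.map_add_le _ ?_ ?_
      · rw [map_mul]; exact mul_le_of_le_of_le_one (hg x N) (hgint y)
      · rw [map_mul]; exact mul_le_of_le_one_of_le (hint _) (hg y N)⟩).symm }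
  have hinj : Function.Injective G := by
    rw [RingHom.injective_iff_ker_eq_bot]
    haveI : (RingHom.ker G).IsPrime := RingHom.ker_isPrime G
    by_contra hne
    have h2 : ((RingHom.ker G).comap (algebraMap (𝓞 k) (𝓞 L))) ≠ ⊥ := fun h => hne (Ideal.eq_bot_of_comap_eq_bot h)
    refine h2 ((Submodule.eq_bot_iff _).2 fun b hb => ?_)
    have h3 : φ b = 0 := (hconst b).symm.trans hb
    simpa [φ] using h3
  refine ⟨{ (IsFractionRing.lift (K := L) hinj : L →+* v.adicCompletion k) with commutes' := fun c => ?_ }⟩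
  obtain ⟨p, q, hq, rfl⟩ := IsFractionRing.div_surjective (A := 𝓞 k) c
  show IsFractionRing.lift hinj (algebraMap k L _) = _
  rw [map_div₀, map_div₀, map_div₀, ← IsScalarTower.algebraMap_apply (𝓞 k) k L,
    ← IsScalarTower.algebraMap_apply (𝓞 k) k L, IsScalarTower.algebraMap_apply (𝓞 k) (𝓞 L) L,
    IsScalarTower.algebraMap_apply (𝓞 k) (𝓞 L) L, IsFractionRing.lift_algebraMap, IsFractionRing.lift_algebraMap]
  show g _ / g _ = _
  rw [hconst, hconst]
  rfl

theorem exists_algHom (v : HeightOneSpectrum (𝓞 k)) (P : Ideal (𝓞 L)) [P.IsPrime] [P.LiesOver v.asIdeal]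
    (hdiff : ¬ P ∣ differentIdeal (𝓞 k) (𝓞 L)) (hP : (Ideal.absNorm P).Prime) :
    Nonempty (L →ₐ[k] v.adicCompletion k) := by
  classical
  haveI hu : Algebra.IsUnramifiedAt (𝓞 k) P := not_dvd_differentIdeal_iff.1 hdiff
  have he : v.asIdeal.ramificationIdx' P = 1 := by
    rw [Ideal.ramificationIdx'_eq_ramificationIdx _ _ v.ne_bot, Ideal.ramificationIdx_eq_one]
  have hPbot : P ≠ ⊥ := fun h => hP.ne_zero (Ideal.absNorm_eq_zero_iff.2 h)
  -- residue classes are represented by naturals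
  have hres : ∀ x : 𝓞 L, ∃ m : ℕ, x - (m : 𝓞 L) ∈ P := fun x => by
    let p := Ideal.absNorm P
    haveI : Fact p.Prime := ⟨hP⟩
    haveI hfin : Finite (𝓞 L ⧸ P) := (Ideal.absNorm_ne_zero_iff P).1 hP.ne_zero
    letI := Fintype.ofFinite (𝓞 L ⧸ P)
    have hcard : Fintype.card (𝓞 L ⧸ P) = p := by
      rw [← Nat.card_eq_fintype_card, ← Submodule.cardQuot_apply, ← Ideal.absNorm_apply]
    haveI : CharP (𝓞 L ⧸ P) p := charP_of_card_eq_prime hcard
    obtain ⟨m, hm⟩ := (ZMod.ringEquiv (𝓞 L ⧸ P) hcard).surjective (Ideal.Quotient.mk P x)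
    refine ⟨m.val, Ideal.Quotient.eq.1 ?_⟩
    rw [← hm, map_natCast, ← map_natCast (ZMod.ringEquiv (𝓞 L ⧸ P) hcard), ZMod.natCast_rightInverse m]
  refine exists_algHom_of_residue v P hPbot he fun x => ?_
  obtain ⟨m, hm⟩ := hres x
  exact ⟨m, by rwa [map_natCast]⟩

end Groth.Agent.CommAlg4.SplitCompletion
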