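import Mathlib
import Groth.Agent.CommAlg4.SplitCompletion

/-!
# Frobenius elements fixing an embedding give embeddings into completions
-/

set_option autoImplicit false
set_option linter.all false

universe u

open NumberField IsDedekindDomain
open scoped Pointwise

namespace Groth.Agent.CommAlg4.GaloisFrobenius

variable {K N L : Type u} [Field K] [NumberField K] [Field N] [NumberField N] [Algebra K N]
  [Field L] [NumberField L] [Algebra K L]

/-- A field embedding `L → N` unramified below kills inertia. -/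
theorem inertia_fixes [IsGalois K N] (w : HeightOneSpectrum (𝓞 K))
    (hL : ∀ P : Ideal (𝓞 L), P.IsPrime → P.LiesOver w.asIdeal → P.ramificationIdx (𝓞 K) = 1)
    (Q : Ideal (𝓞 N)) [Q.IsPrime] [Q.LiesOver w.asIdeal]
    (σ : N ≃ₐ[K] N) (hσ : σ ∈ Q.inertia (N ≃ₐ[K] N)) (φ : L →ₐ[K] N) :
    σ.toAlgHom.comp φ = φ := by
  letI : Algebra L N := φ.toRingHom.toAlgebra
  haveI : IsScalarTower K L N := IsScalarTower.of_algebraMap_eq fun x => (φ.commutes x).symm
  haveI : IsGalois L N := IsGalois.tower_top_of_isGalois K L N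
  haveI : FiniteDimensional L N := FiniteDimensional.right K L N
  let P : Ideal (𝓞 L) := Q.under (𝓞 L)
  haveI : P.IsPrime := inferInstance
  haveI : Q.LiesOver P := ⟨rfl⟩
  haveI : P.LiesOver w.asIdeal := Ideal.LiesOver.tower_bot Q P w.asIdeal
  haveI := w.isPrime
  haveI : IsScalarTower (𝓞 K) (𝓞 L) (𝓞 N) := inferInstance
  haveI : Module.IsTorsionFree (𝓞 L) (𝓞 N) := inferInstance
  haveI : Finite (𝓞 K ⧸ w.asIdeal) := Ring.HasFiniteQuotients.finiteQuotient w.ne_bot
  haveI : P.IsMaximal := Ideal.IsPrime.isMaximal inferInstance (Ideal.ne_bot_of_liesOver_of_ne_bot w.ne_bot P)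
  haveI : Finite (𝓞 L ⧸ P) := Ring.HasFiniteQuotients.finiteQuotient (Ideal.ne_bot_of_liesOver_of_ne_bot w.ne_bot P)
  have h1 : Nat.card (Q.inertia (N ≃ₐ[K] N)) = Nat.card (Q.inertia (N ≃ₐ[L] N)) := by
    rw [Ideal.card_inertia_eq_ramificationIdxIn w.asIdeal Q, Ideal.card_inertia_eq_ramificationIdxIn P Q,
      Ideal.ramificationIdxIn_eq_ramificationIdx w.asIdeal Q (N ≃ₐ[K] N),
      Ideal.ramificationIdxIn_eq_ramificationIdx P Q (N ≃ₐ[L] N),
      Ideal.ramificationIdx_tower P Q, hL P inferInstance inferInstance, one_mul]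
  let f : Q.inertia (N ≃ₐ[L] N) → Q.inertia (N ≃ₐ[K] N) :=
    fun τ => ⟨τ.1.restrictScalars K, fun x => τ.2 x⟩
  have hf : Function.Injective f := fun a b h =>
    Subtype.ext (AlgEquiv.restrictScalars_injective K (congrArg Subtype.val h))
  obtain ⟨τ, hτ⟩ := ((Nat.bijective_iff_injective_and_card f).2 ⟨hf, h1.symm⟩).2 ⟨σ, hσ⟩
  have h2 : τ.1.restrictScalars K = σ := congrArg Subtype.val hτ
  ext x
  rw [← h2]
  exact τ.1.commutes x

/-- If every prime of `N` above `w` has trivial inertia, it is unramified. -/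
theorem ramificationIdx_eq_one_of_inertia [IsGalois K N] (w : HeightOneSpectrum (𝓞 K))
    (Q : Ideal (𝓞 N)) [Q.IsPrime] [Q.LiesOver w.asIdeal]
    (h : ∀ σ ∈ Q.inertia (N ≃ₐ[K] N), σ = 1) : Q.ramificationIdx (𝓞 K) = 1 := by
  haveI := w.isPrime
  haveI : Finite (𝓞 K ⧸ w.asIdeal) := Ring.HasFiniteQuotients.finiteQuotient w.ne_bot
  rw [← Ideal.ramificationIdxIn_eq_ramificationIdx w.asIdeal Q (N ≃ₐ[K] N),
    ← Ideal.card_inertia_eq_ramificationIdxIn (G := N ≃ₐ[K] N) w.asIdeal Q,
    Nat.card_eq_one_iff_unique]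
  exact ⟨⟨fun a b => Subtype.ext ((h _ a.2).trans (h _ b.2).symm)⟩, ⟨1⟩⟩

theorem mem_range_of_pow_card {F R : Type*} [Field F] [Fintype F] [CommRing R] [IsDomain R] (ψ : F →+* R)
    (z : R) (hz : z ^ Fintype.card F = z) : z ∈ Set.range ψ := by
  classical
  have hq : 1 < Fintype.card F := Fintype.one_lt_card
  let S : Finset R := Finset.univ.image ψ
  by_contra hmem
  have hdeg : (Polynomial.X ^ Fintype.card F - Polynomial.X : Polynomial R).natDegree = Fintype.card F := by
    rw [Polynomial.natDegree_sub_eq_left_of_natDegree_lt (by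
      rw [Polynomial.natDegree_X_pow, Polynomial.natDegree_X]; exact hq), Polynomial.natDegree_X_pow]
  have hne : (Polynomial.X ^ Fintype.card F - Polynomial.X : Polynomial R) ≠ 0 :=
    Polynomial.ne_zero_of_natDegree_gt (hdeg.symm ▸ hq)
  have h1 := Polynomial.card_le_degree_of_subset_roots
    (Z := insert z S) (p := (Polynomial.X ^ Fintype.card F - Polynomial.X : Polynomial R)) (by
      intro t ht
      rw [Finset.mem_val, Finset.mem_insert] at ht
      rw [Polynomial.mem_roots hne, Polynomial.IsRoot.def, Polynomial.eval_sub, Polynomial.eval_pow,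
        Polynomial.eval_X, sub_eq_zero]
      rcases ht with rfl | ht
      · exact hz
      · obtain ⟨a, -, rfl⟩ := Finset.mem_image.1 ht
        rw [← map_pow, FiniteField.pow_card])
  rw [hdeg, Finset.card_insert_of_notMem (by simpa [S] using hmem),
    Finset.card_image_of_injective _ ψ.injective, Finset.card_univ] at h1
  omega

set_option maxHeartbeats 800000 in
/-- If the Frobenius at `Q` fixes an embedding of `L`, and `L` is unramified above `w`, then `L` embeds
into the completion at `w`. -/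
theorem nonempty_algHom_of_frobenius_fixes [IsGalois K N] (w : HeightOneSpectrum (𝓞 K))
    (Q : Ideal (𝓞 N)) [Q.IsPrime] [Q.LiesOver w.asIdeal] (φ : L →ₐ[K] N)
    (σ : N ≃ₐ[K] N) (hσ : IsArithFrobAt (𝓞 K) σ Q) (hfix : σ.toAlgHom.comp φ = φ)
    (hL : ∀ P : Ideal (𝓞 L), P.IsPrime → P.LiesOver w.asIdeal → P.ramificationIdx (𝓞 K) = 1) :
    Nonempty (L →ₐ[K] w.adicCompletion K) := by
  classical
  letI : Algebra L N := φ.toRingHom.toAlgebra
  haveI : IsScalarTower K L N := IsScalarTower.of_algebraMap_eq fun x => (φ.commutes x).symm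
  haveI := w.isPrime
  let P : Ideal (𝓞 L) := Q.under (𝓞 L)
  haveI : Q.LiesOver P := ⟨rfl⟩
  haveI : P.LiesOver w.asIdeal := Ideal.LiesOver.tower_bot Q P w.asIdeal
  have hP0 : P ≠ ⊥ := Ideal.ne_bot_of_liesOver_of_ne_bot w.ne_bot P
  refine SplitCompletion.exists_algHom_of_residue w P hP0 ?_ fun x => ?_
  · rw [Ideal.ramificationIdx'_eq_ramificationIdx _ _ w.ne_bot]
    exact hL P inferInstance inferInstance
  haveI : w.asIdeal.IsMaximal := w.isMaximal
  haveI : Finite (𝓞 K ⧸ w.asIdeal) := Ring.HasFiniteQuotients.finiteQuotient w.ne_bot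
  letI := Ideal.Quotient.field w.asIdeal
  letI := Fintype.ofFinite (𝓞 K ⧸ w.asIdeal)
  let y : 𝓞 N := algebraMap (𝓞 L) (𝓞 N) x
  let q := Fintype.card (𝓞 K ⧸ w.asIdeal)
  have hy : σ • y = y := Subtype.ext (DFunLike.congr_fun hfix (x : L))
  have hroot : (Ideal.Quotient.mk Q y) ^ q = Ideal.Quotient.mk Q y := by
    have h := hσ y
    rw [← Q.over_def w.asIdeal, Nat.card_eq_fintype_card] at h
    change σ • y - y ^ q ∈ Q at h
    rw [hy, ← Ideal.Quotient.eq, map_pow] at h
    exact h.symm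
  obtain ⟨b, hb⟩ := mem_range_of_pow_card (algebraMap (𝓞 K ⧸ w.asIdeal) (𝓞 N ⧸ Q)) _ hroot
  obtain ⟨a, rfl⟩ := Ideal.Quotient.mk_surjective b
  refine ⟨a, ?_⟩
  show algebraMap (𝓞 L) (𝓞 N) (x - algebraMap (𝓞 K) (𝓞 L) a) ∈ Q
  rw [map_sub, ← IsScalarTower.algebraMap_apply, ← Ideal.Quotient.eq]
  exact hb.symm

end Groth.Agent.CommAlg4.GaloisFrobenius
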