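import Mathlib
import Groth.Agent.CAlgH3.ProjDim
import Groth.Agent.CAlgH3.Factorial
import Groth.Agent.DimLib.Algebra

/-! Purity for Galois extensions of two-dimensional regular local rings. -/

set_option autoImplicit false
set_option linter.all false
set_option maxHeartbeats 1000000
universe u v w

open scoped TensorProduct

namespace Groth.Agent.CommAlg4.GaloisPurity

theorem dvd_of_forall_mul_pow {R : Type u} [CommRing R] [IsDomain R] [UniqueFactorizationMonoid R]
    (J : Set R) (hJ : ∀ q : R, Prime q → ∃ j ∈ J, ¬ q ∣ j) (i : ℕ) (D : R) (hD : D ≠ 0) :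
    ∀ e, (∀ j ∈ J, D ∣ j ^ i * e) → D ∣ e := by
  induction D using UniqueFactorizationMonoid.induction_on_prime with
  | h₁ => exact absurd rfl hD
  | h₂ u hu => exact fun e _ => hu.dvd
  | h₃ E q hE hq ih =>
    intro e h
    obtain ⟨j, hj, hqj⟩ := hJ q hq
    obtain ⟨e', rfl⟩ : q ∣ e :=
      (hq.dvd_or_dvd ((dvd_mul_right q E).trans (h j hj))).resolve_left fun h' => hqj (hq.dvd_of_dvd_pow h')
    refine mul_dvd_mul_left q (ih hE e' fun k hk => ?_)
    have := h k hk
    rw [mul_left_comm] at this
    exact (mul_dvd_mul_iff_left hq.ne_zero).1 this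

section Dual
variable {R : Type u} [CommRing R] [IsRegularLocalRing R]

open Groth.Agent.CAlgH3 in
/-- Duals are free over regular local rings of dimension two. -/
theorem free_dual (hd : (IsLocalRing.maximalIdeal R).spanFinrank = 2) (M : Type v) [AddCommGroup M] [Module R M]
    [Module.Finite R M] : Module.Free R (Module.Dual R M) := by
  obtain ⟨n, π, hπ⟩ := Module.Finite.exists_fin' R M
  obtain ⟨m, ρ, hρ⟩ := Module.Finite.exists_fin' R (LinearMap.ker π)
  let σ : (Fin m → R) →ₗ[R] (Fin n → R) := (LinearMap.ker π).subtype ∘ₗ ρ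
  have hex : Function.Exact σ π := fun z => ⟨fun hz => by
    obtain ⟨w, hw⟩ := hρ ⟨z, hz⟩
    exact ⟨w, congrArg Subtype.val hw⟩, by rintro ⟨w, rfl⟩; exact (ρ w).2⟩
  have hK : LinearMap.ker σ.dualMap = LinearMap.range π.dualMap := by
    refine le_antisymm (fun f hf => ?_) ?_
    · rw [LinearMap.range_dualMap_eq_dualAnnihilator_ker_of_surjective π hπ, Submodule.mem_dualAnnihilator]
      intro z hz
      obtain ⟨w, rfl⟩ := (hex z).1 hz
      exact LinearMap.congr_fun hf w
    · rintro _ ⟨g, rfl⟩
      exact LinearMap.ext fun w => by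
        show g (π (σ w)) = 0
        rw [(hex _).2 ⟨w, rfl⟩, map_zero]
  let e : Module.Dual R M ≃ₗ[R] LinearMap.ker σ.dualMap :=
    (LinearEquiv.ofInjective _ (LinearMap.dualMap_injective_of_surjective hπ)).trans (LinearEquiv.ofEq _ _ hK.symm)
  suffices Module.Free R (LinearMap.ker σ.dualMap) from Module.Free.of_equiv e.symm
  set d := σ.dualMap
  haveI : IsNoetherianRing R := inferInstance
  have h3 : PD R 3 (Module.Dual R (Fin m → R) ⧸ LinearMap.range d) := by
    have := pd_finite (R := R) (Module.Dual R (Fin m → R) ⧸ LinearMap.range d)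
    rwa [hd] at this
  have h2 : PD R 2 (LinearMap.range d) :=
    (pd_congr (LinearEquiv.ofEq _ _ (Submodule.ker_mkQ _))).1 ((pd_ker_iff (Submodule.mkQ_surjective _) 1).1 h3)
  have h1 : PD R 1 (LinearMap.ker d.rangeRestrict) := (pd_ker_iff d.surjective_rangeRestrict 0).1 h2
  rw [pd_congr (N := LinearMap.ker d) (LinearEquiv.ofEq _ _ (LinearMap.ker_rangeRestrict d) : _ ≃ₗ[R] LinearMap.ker d), pd_one_iff] at h1
  haveI : Module.Projective R (LinearMap.ker d) := h1
  exact Module.free_of_flat_of_isLocalRing (R := R) (P := ↥(LinearMap.ker d))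

end Dual

variable {R : Type u} [CommRing R] [IsRegularLocalRing R]
  {A : Type v} [CommRing A] [IsDomain A] [IsIntegrallyClosed A] [IsLocalRing A]
  [Algebra R A] [Module.Finite R A] (hinj : Function.Injective (algebraMap R A))
  {H : Type w} [Group H] [Finite H] [MulSemiringAction H A] [SMulCommClass H R A]
  (hfix : ∀ a : A, (∀ h : H, h • a = a) → a ∈ Set.range (algebraMap R A))

include hinj hfix in
/-- If no nontrivial element is inert at a prime over a prime element, the group is trivial (`dim = 2`). -/
theorem subsingleton_of_forall_inertia (hres : Function.Surjective (IsLocalRing.residue A ∘ algebraMap R A))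
    (hd : (IsLocalRing.maximalIdeal R).spanFinrank = 2)
    (hP : ∀ q : R, Prime q → ∀ P : Ideal A, P.IsPrime → P.comap (algebraMap R A) = Ideal.span {q} → P.inertia H = ⊥) :
    Subsingleton H := by
  classical
  haveI : IsDomain R := hinj.isDomain _
  haveI : UniqueFactorizationMonoid R := Groth.Agent.CAlgH3.ufm_of_regular R
  haveI : Module.IsTorsionFree R A := by
    haveI : FaithfulSMul R A := (faithfulSMul_iff_algebraMap_injective R A).2 hinj
    infer_instance
  let _ : Fintype H := Fintype.ofFinite H
  let ψ : H → (A ⊗[R] A →ₐ[R] A) := fun h =>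
    Algebra.TensorProduct.productMap (AlgHom.id R A) (MulSemiringAction.toAlgHom R A h)
  have hψ : ∀ h a b, ψ h (a ⊗ₜ b) = a * h • b := fun h a b => rfl
  -- trace
  choose tr htr using fun a : A => hfix (∑ h : H, h • a) (fun g => by
    rw [Finset.smul_sum]
    exact Fintype.sum_equiv (Equiv.mulLeft g) _ _ (fun h => by rw [Equiv.coe_mulLeft, mul_smul]))
  let T : A →ₗ[R] R :=
    { toFun := tr
      map_add' := fun a b => hinj (by simp only [map_add, htr, smul_add, Finset.sum_add_distrib])
      map_smul' := fun r a => hinj (by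
        simp only [RingHom.id_apply, smul_eq_mul, map_mul, htr, Finset.mul_sum, Algebra.smul_def, smul_mul', smul_algebraMap]) }
  have hT : ∀ a, algebraMap R A (T a) = ∑ h : H, h • a := htr
  -- solutions
  let Sol : R → Prop := fun c => ∃ t : A ⊗[R] A, ψ 1 t = algebraMap R A c ∧ ∀ h : H, h ≠ 1 → ψ h t = 0
  have hSol : ∀ q : R, Prime q → ∃ c, Sol c ∧ ¬ q ∣ c := by
    intro q hq
    have hone : ∀ h : H, h ≠ 1 → ∃ r : R, ¬ q ∣ r ∧ ∃ t, ψ 1 t = algebraMap R A r ∧ ψ h t = 0 := by
      intro h hh
      let I : Ideal A := Ideal.span (Set.range fun a : A => h • a - a)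
      have hnot : ¬ I.comap (algebraMap R A) ≤ Ideal.span {q} := fun hle => by
        haveI := (Ideal.span_singleton_prime hq.ne_zero).2 hq
        obtain ⟨P, hIP, hPp, hPc⟩ := Ideal.exists_ideal_over_prime_of_isIntegral (Ideal.span {q}) I hle
        have hmem : h ∈ P.inertia H := fun a => hIP (Ideal.subset_span ⟨a, rfl⟩)
        rw [hP q hq P hPp hPc] at hmem
        exact hh (Subgroup.mem_bot.1 hmem)
      obtain ⟨r, hrI, hrq⟩ := SetLike.not_le_iff_exists.1 hnot
      rw [Ideal.mem_span_singleton] at hrq
      refine ⟨r, hrq, ?_⟩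
      have key : ∀ y ∈ I, ∃ t, ψ 1 t = y ∧ ψ h t = 0 := by
        intro y hy
        induction hy using Submodule.span_induction with
        | mem y hy =>
          obtain ⟨a, rfl⟩ := hy
          exact ⟨(h • a) ⊗ₜ 1 - 1 ⊗ₜ a, by simp [hψ], by simp [hψ]⟩
        | zero => exact ⟨0, map_zero _, map_zero _⟩
        | add y z _ _ hy hz =>
          obtain ⟨t, h1, h2⟩ := hy
          obtain ⟨t', h3, h4⟩ := hz
          exact ⟨t + t', by rw [map_add, h1, h3], by rw [map_add, h2, h4, add_zero]⟩
        | smul b y _ hy =>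
          obtain ⟨t, h1, h2⟩ := hy
          exact ⟨(b ⊗ₜ 1) * t, by rw [map_mul, h1, hψ]; simp, by rw [map_mul, h2, mul_zero]⟩
      exact key _ hrI
    choose! r hr t ht using hone
    refine ⟨∏ h ∈ Finset.univ.erase 1, r h, ⟨∏ h ∈ Finset.univ.erase 1, t h, ?_, fun h hh => ?_⟩, fun hdvd => ?_⟩
    · rw [map_prod, map_prod]
      exact Finset.prod_congr rfl fun h hh => (ht h (Finset.ne_of_mem_erase hh)).1
    · rw [map_prod]
      exact Finset.prod_eq_zero (Finset.mem_erase.2 ⟨hh, Finset.mem_univ h⟩) (ht h hh).2
    · obtain ⟨h, hh, hdvd'⟩ := hq.exists_mem_finset_dvd hdvd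
      exact hr h (Finset.ne_of_mem_erase hh) hdvd'
  have hexp : ∀ c, Sol c → ∃ S : Finset (A × A), (∀ a : A, c • a = ∑ l ∈ S, T (a * l.1) • l.2) ∧
      ∀ h : H, ∑ l ∈ S, l.2 * h • l.1 = if h = 1 then algebraMap R A c else 0 := by
    rintro c ⟨t, ht1, ht2⟩
    obtain ⟨S, rfl⟩ := TensorProduct.exists_finset t
    have hsum : ∀ h : H, ∑ l ∈ S, l.1 * h • l.2 = if h = 1 then algebraMap R A c else 0 := fun h => by
      have : ψ h (∑ l ∈ S, l.1 ⊗ₜ[R] l.2) = ∑ l ∈ S, l.1 * h • l.2 := by simp [map_sum, hψ]
      rw [← this]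
      by_cases hh : h = 1
      · rw [if_pos hh, hh]; exact ht1
      · rw [if_neg hh]; exact ht2 h hh
    have hflip : ∀ h : H, ∑ l ∈ S, l.2 * h • l.1 = if h = 1 then algebraMap R A c else 0 := fun h => by
      have h1 := congrArg (h • ·) (hsum h⁻¹)
      simp only [Finset.smul_sum, smul_mul', smul_inv_smul, inv_eq_one, apply_ite (h • ·), smul_algebraMap, smul_zero] at h1
      rw [← h1]
      exact Finset.sum_congr rfl fun l _ => mul_comm _ _
    refine ⟨S, fun a => ?_, hflip⟩
    simp only [Algebra.smul_def, hT, Finset.sum_mul]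
    rw [Finset.sum_comm, Finset.sum_eq_single (1 : H)]
    · simp only [one_smul, mul_assoc, ← Finset.mul_sum]
      have := hsum 1
      simp only [one_smul, if_pos] at this
      rw [this, mul_comm]
    · intro h _ hh
      simp only [smul_mul', mul_assoc, ← Finset.mul_sum]
      have : ∑ l ∈ S, h • l.1 * l.2 = 0 := by
        have := hflip h
        rw [if_neg hh] at this
        rw [← this]
        exact Finset.sum_congr rfl fun l _ => mul_comm _ _
      rw [this, mul_zero]
    · simp
  let θ : A →ₗ[R] Module.Dual R A := (LinearMap.mul R A).compr₂ T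
  have hθ : ∀ a b, θ a b = T (a * b) := fun a b => rfl
  obtain ⟨q₀, hq₀⟩ : ∃ q : R, Prime q := by
    have : IsLocalRing.maximalIdeal R ≠ ⊥ := fun h => by rw [h, Submodule.spanFinrank_bot] at hd; omega
    exact ⟨_, (Ideal.IsPrime.exists_mem_prime_of_ne_bot (IsLocalRing.maximalIdeal.isMaximal R).isPrime this).choose_spec.2⟩
  obtain ⟨D, hD, hDq⟩ := hSol q₀ hq₀
  have hD0 : D ≠ 0 := fun h => hDq (h ▸ dvd_zero _)
  have hθi : Function.Injective θ := by
    rw [injective_iff_map_eq_zero]
    intro a ha
    obtain ⟨S, hS, -⟩ := hexp D hD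
    have := hS a
    simp only [← hθ, ha, LinearMap.zero_apply, zero_smul, Finset.sum_const_zero] at this
    exact (smul_eq_zero.1 this).resolve_left hD0
  have hθs : Function.Surjective θ := by
    intro φ
    have hz : ∀ c, Sol c → ∃ z, θ z = c • φ := fun c hc => by
      obtain ⟨S, hS, -⟩ := hexp c hc
      refine ⟨∑ l ∈ S, φ l.2 • l.1, LinearMap.ext fun v => ?_⟩
      rw [LinearMap.smul_apply, ← map_smul φ, hS v, map_sum θ, LinearMap.sum_apply, map_sum φ]
      refine Finset.sum_congr rfl fun l _ => ?_
      rw [hθ, Algebra.smul_mul_assoc, map_smul, map_smul, smul_eq_mul, smul_eq_mul, mul_comm l.1, mul_comm (φ l.2)]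
    obtain ⟨z, hz'⟩ := hz D hD
    have hdiv : ∀ c, Sol c → ∃ w, c • z = D • w := fun c hc => by
      obtain ⟨w, hw⟩ := hz c hc
      exact ⟨w, hθi (by rw [map_smul, map_smul, hz', hw, smul_comm])⟩
    -- `z / D` is integral
    have hint : IsIntegral R (algebraMap A (FractionRing A) z / algebraMap A (FractionRing A) (algebraMap R A D)) := by
      set ι := algebraMap A (FractionRing A)
      set F : Polynomial A := MulSemiringAction.charpoly H z with hF
      have hFh : ∀ i, ∀ h : H, h • F.coeff i = F.coeff i := fun i h => MulSemiringAction.smul_coeff_charpoly z i h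
      have hdvd : ∀ i ∈ Finset.range F.natDegree, ∃ d : R, F.coeff i = algebraMap R A (D ^ (F.natDegree - i) * d) := by
        intro i _
        obtain ⟨e, he⟩ := hfix _ (hFh i)
        obtain ⟨d, rfl⟩ : D ^ (F.natDegree - i) ∣ e := by
          refine dvd_of_forall_mul_pow {c | Sol c} hSol (F.natDegree - i) _ (pow_ne_zero _ hD0) e ?_
          intro c hc
          obtain ⟨w, hw⟩ := hdiv c hc
          have hscale : (MulSemiringAction.charpoly H z).scaleRoots (algebraMap R A c) =
              (MulSemiringAction.charpoly H w).scaleRoots (algebraMap R A D) := by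
            have key : ∀ (r : R) (y : A), (MulSemiringAction.charpoly H y).scaleRoots (algebraMap R A r) =
                MulSemiringAction.charpoly H (r • y) := by
              intro r y
              rw [MulSemiringAction.charpoly_eq, MulSemiringAction.charpoly_eq]
              induction (Finset.univ : Finset H) using Finset.induction_on with
              | empty => simp [Polynomial.one_scaleRoots]
              | insert g s hg ih =>
                rw [Finset.prod_insert hg, Finset.prod_insert hg, Polynomial.mul_scaleRoots_of_noZeroDivisors, ih,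
                  Polynomial.X_sub_C_scaleRoots, mul_comm (g • y) (algebraMap R A r), ← Algebra.smul_def, smul_comm g r y]
            rw [key, key, hw]
          have hdeg : ∀ y : A, (MulSemiringAction.charpoly H y).natDegree = Fintype.card H := fun y => by
            rw [MulSemiringAction.charpoly_eq, Polynomial.natDegree_prod_of_monic _ _ (fun g _ => Polynomial.monic_X_sub_C _)]
            simp
          have h1 := congrArg (fun P => Polynomial.coeff P i) hscale
          simp only [Polynomial.coeff_scaleRoots, hdeg] at h1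
          obtain ⟨e', he'⟩ := hfix _ (fun h => MulSemiringAction.smul_coeff_charpoly w i h)
          rw [← hF, ← he, ← he', ← map_pow, ← map_pow, ← map_mul, ← map_mul] at h1
          rw [hF, hdeg]
          exact ⟨e', by rw [mul_comm, hinj h1, mul_comm]⟩
        exact ⟨d, he.symm⟩
      choose! d hd' using hdvd
      refine ⟨Polynomial.X ^ F.natDegree + ∑ i ∈ Finset.range F.natDegree, Polynomial.C (d i) * Polynomial.X ^ i,
        Polynomial.monic_X_pow_add ((Polynomial.degree_sum_le _ _).trans_lt ((Finset.sup_lt_iff (WithBot.bot_lt_coe _)).2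
          fun i hi => (Polynomial.degree_C_mul_X_pow_le i _).trans_lt (WithBot.coe_lt_coe.2 (Finset.mem_range.1 hi)))), ?_⟩
      set r := ι (algebraMap R A D) with hr
      have hr0 : r ≠ 0 := (map_ne_zero_iff ι (IsFractionRing.injective A _)).2 ((map_ne_zero_iff _ hinj).2 hD0)
      have hroot : ι (F.eval z) = 0 := by rw [hF, MulSemiringAction.eval_charpoly, map_zero]
      have hmon : F.Monic := MulSemiringAction.monic_charpoly H z
      rw [Polynomial.eval_eq_sum_range, Finset.sum_range_succ, hmon.coeff_natDegree, one_mul, map_add, map_sum] at hroot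
      rw [Polynomial.eval₂_add, Polynomial.eval₂_X_pow, Polynomial.eval₂_finset_sum]
      refine mul_left_cancel₀ (pow_ne_zero F.natDegree hr0) ?_
      rw [mul_zero, mul_add, Finset.mul_sum, ← mul_pow, mul_div_cancel₀ _ hr0, ← map_pow, add_comm]
      refine Eq.trans ?_ hroot
      congr 1
      refine Finset.sum_congr rfl fun i hi => ?_
      rw [Polynomial.eval₂_mul, Polynomial.eval₂_C, Polynomial.eval₂_X_pow, IsScalarTower.algebraMap_apply R A (FractionRing A), hd' i hi,
        map_mul, map_mul, map_mul, map_pow, map_pow ι, map_pow ι]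
      rw [div_pow, ← hr]
      field_simp
      rw [mul_assoc (ι z ^ i) (r ^ i), ← pow_add, Nat.add_sub_cancel' (Finset.mem_range.1 hi).le]
      simp only [ι]
      ring
    obtain ⟨w, hw⟩ := IsIntegrallyClosed.isIntegral_iff.1 (hint.tower_top (A := A))
    rw [eq_div_iff ((map_ne_zero_iff _ (IsFractionRing.injective A (FractionRing A))).2 ((map_ne_zero_iff _ hinj).2 hD0)),
      ← map_mul, (IsFractionRing.injective A (FractionRing A)).eq_iff, mul_comm, ← Algebra.smul_def] at hw
    refine ⟨w, ?_⟩
    rw [← hw, map_smul] at hz'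
    exact LinearMap.ext fun v => mul_left_cancel₀ hD0 (LinearMap.congr_fun hz' v)
  let eθ := LinearEquiv.ofBijective θ ⟨hθi, hθs⟩
  haveI : IsNoetherianRing R := inferInstance
  haveI := free_dual hd A
  haveI : Module.Free R A := Module.Free.of_equiv eθ.symm
  let b := Module.Free.chooseBasis R A
  let y := fun i => eθ.symm (b.coord i)
  have hy : ∀ a i, T (y i * a) = b.repr a i := fun a i => LinearMap.congr_fun (eθ.apply_symm_apply (b.coord i)) a
  have hflat : ∀ h : H, ∑ i, y i * h • b i = if h = 1 then 1 else 0 := by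
    intro h
    obtain ⟨S, hS, hflip⟩ := hexp D hD
    have h1 : D • ∑ i, y i * h • b i = D • (if h = 1 then (1 : A) else 0) := by
      calc D • ∑ i, y i * h • b i = ∑ i, (∑ l ∈ S, T (y i * l.1) • l.2) * h • b i := by
            rw [Finset.smul_sum]
            exact Finset.sum_congr rfl fun i _ => by rw [← hS, Algebra.smul_mul_assoc]
        _ = ∑ l ∈ S, l.2 * h • l.1 := by
            simp only [Finset.sum_mul]
            rw [Finset.sum_comm]
            refine Finset.sum_congr rfl fun l _ => ?_
            conv_rhs => rw [← b.sum_repr l.1, Finset.smul_sum, Finset.mul_sum]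
            refine Finset.sum_congr rfl fun i _ => ?_
            rw [hy, Algebra.smul_mul_assoc, smul_comm h (b.repr l.1 i) (b i), mul_smul_comm (b.repr l.1 i)]
        _ = _ := by
            rw [hflip]
            split_ifs
            · rw [Algebra.algebraMap_eq_smul_one]
            · rw [smul_zero]
    exact smul_right_injective A hD0 h1
  refine subsingleton_of_forall_eq 1 fun h => by_contra fun hh => ?_
  have hm : ∀ (g : H) a, g • a - a ∈ IsLocalRing.maximalIdeal A := by
    intro g a
    obtain ⟨r, hr⟩ := hres (IsLocalRing.residue A a)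
    have h1 : a - algebraMap R A r ∈ IsLocalRing.maximalIdeal A := Ideal.Quotient.eq.1 hr.symm
    have h2 : g • (a - algebraMap R A r) ∈ IsLocalRing.maximalIdeal A := by
      rw [IsLocalRing.mem_maximalIdeal, mem_nonunits_iff]
      intro hu
      have h3 := hu.map (MulSemiringAction.toRingHom H A g⁻¹)
      rw [MulSemiringAction.toRingHom_apply, inv_smul_smul] at h3
      exact (IsLocalRing.mem_maximalIdeal _).1 h1 h3
    rw [smul_sub, smul_algebraMap] at h2
    have := sub_mem h2 h1
    rwa [sub_sub_sub_cancel_right] at this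
  have h1 : (1 : A) - 0 ∈ IsLocalRing.maximalIdeal A := by
    have e1 := hflat 1
    have e2 := hflat h
    rw [if_pos rfl] at e1
    rw [if_neg hh] at e2
    rw [← e1, ← e2, ← Finset.sum_sub_distrib]
    refine Ideal.sum_mem _ fun i _ => ?_
    rw [← mul_sub, one_smul]
    exact Ideal.mul_mem_left _ _ (by simpa using neg_mem (hm h (b i)))
  exact (IsLocalRing.maximalIdeal.isMaximal A).ne_top ((Ideal.eq_top_iff_one _).2 (by simpa using h1))

end Groth.Agent.CommAlg4.GaloisPurity
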