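import Mathlib
import Groth.Agent.DimLib.Algebra

/-!
# A general linear combination of generators has finitely many critical points
-/

set_option linter.unusedVariables false
set_option linter.style.haveILetI false

open scoped TensorProduct

universe u

namespace Groth.Agent.CommAlg4

variable {k : Type u} [Field k] {C : Type u} [CommRing C] [Algebra k C] [Algebra.FiniteType k C]

/-- Elements whose differentials span `Ω ⊗ κ(q)` bound the transcendence degree of `κ(q)`. -/
theorem trdeg_residueField_le (q : Ideal C) [q.IsPrime] (s : Set C)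
    (hs : Submodule.span q.ResidueField
      ((fun c => (1 : q.ResidueField) ⊗ₜ[C] KaehlerDifferential.D k C c) '' s) = ⊤) :
    Algebra.trdeg k q.ResidueField ≤ Cardinal.mk s := by
  let K := q.ResidueField
  let t : Set K := algebraMap C K '' s
  let F := IntermediateField.adjoin k t
  haveI : Algebra.EssFiniteType k K := Algebra.EssFiniteType.comp k C K
  haveI : Algebra.EssFiniteType F K := Algebra.EssFiniteType.of_comp k F K
  let Ψ : K ⊗[C] Ω[C⁄k] →ₗ[K] Ω[K⁄F] := LinearMap.liftBaseChange K
    (((KaehlerDifferential.D F K).restrictScalars k).compAlgebraMap C).liftKaehlerDifferential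
  have hΨ : ∀ c, Ψ ((1 : K) ⊗ₜ[C] KaehlerDifferential.D k C c) =
      KaehlerDifferential.D F K (algebraMap C K c) := fun c => by
    simp [Ψ]
  have hΨ0 : Ψ = 0 := by
    refine LinearMap.ext_on hs ?_
    rintro _ ⟨c, hc, rfl⟩
    rw [hΨ, LinearMap.zero_apply]
    exact (KaehlerDifferential.D F K).map_algebraMap
      (⟨algebraMap C K c, IntermediateField.subset_adjoin k _ ⟨c, hc, rfl⟩⟩ : F)
  have hC : ∀ c, KaehlerDifferential.D F K (algebraMap C K c) = 0 := fun c => by
    rw [← hΨ, hΨ0]; rfl
  haveI : Subsingleton Ω[K⁄F] := by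
    have hD : ∀ x : K, KaehlerDifferential.D F K x = 0 := by
      intro x
      obtain ⟨a, b, -, rfl⟩ := IsFractionRing.div_surjective (A := C ⧸ q) x
      obtain ⟨a, rfl⟩ := Ideal.Quotient.mk_surjective a
      obtain ⟨b, rfl⟩ := Ideal.Quotient.mk_surjective b
      rw [show algebraMap (C ⧸ q) K (Ideal.Quotient.mk q a) = algebraMap C K a from
          (IsScalarTower.algebraMap_apply C (C ⧸ q) K a).symm,
        show algebraMap (C ⧸ q) K (Ideal.Quotient.mk q b) = algebraMap C K b from
          (IsScalarTower.algebraMap_apply C (C ⧸ q) K b).symm, Derivation.leibniz_div]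
      simp [hC]
    refine subsingleton_of_forall_eq 0 fun ω => ?_
    have : ω ∈ Submodule.span K (Set.range (KaehlerDifferential.D F K)) := by
      rw [KaehlerDifferential.span_range_derivation]; trivial
    refine (Submodule.mem_bot K).1 (Submodule.span_le.2 ?_ this)
    rintro _ ⟨x, rfl⟩
    exact hD x
  haveI : Algebra.FormallyUnramified F K := ⟨inferInstance⟩
  haveI : Module.Finite F K := Algebra.FormallyUnramified.finite_of_free F K
  haveI : Algebra.IsAlgebraic F K := Algebra.IsAlgebraic.of_finite F K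
  haveI : Algebra.IsAlgebraic (Algebra.adjoin k t) K := IntermediateField.isAlgebraic_adjoin_iff_top.1 ‹_›
  exact (Algebra.IsAlgebraic.trdeg_le_cardinalMk k t).trans Cardinal.mk_image_le

variable {N : ℕ} (a : Fin N → C)

/-- The coefficient forms cutting out the incidence locus. -/
noncomputable def incIdeal : Ideal (MvPolynomial (Fin N) C) :=
  Ideal.span (Set.range fun φ : Ω[C⁄k] →ₗ[C] C =>
    ∑ j, MvPolynomial.X j * MvPolynomial.C (φ (KaehlerDifferential.D k C (a j))))

theorem trdeg_incidence_le [Module.Projective C Ω[C⁄k]]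
    (ha : Submodule.span C (Set.range fun j => KaehlerDifferential.D k C (a j)) = ⊤)
    (Q : Ideal (MvPolynomial (Fin N) C)) [Q.IsPrime] (hQ : incIdeal (k := k) a ≤ Q) :
    Algebra.trdeg k Q.ResidueField ≤ N := by
  classical
  let q : Ideal C := Q.under C
  let K₀ := q.ResidueField
  let K := Q.ResidueField
  haveI : Q.LiesOver q := ⟨rfl⟩
  let v : Fin N → K₀ ⊗[C] Ω[C⁄k] := fun j => 1 ⊗ₜ KaehlerDifferential.D k C (a j)
  have hv : Submodule.span K₀ (Set.range v) = ⊤ := by
    rw [eq_top_iff]
    rintro z -
    induction z using TensorProduct.induction_on with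
    | zero => exact zero_mem _
    | add x y hx hy => exact add_mem hx hy
    | tmul r ω =>
      rw [show r ⊗ₜ[C] ω = r • ((1 : K₀) ⊗ₜ[C] ω) by rw [TensorProduct.smul_tmul', smul_eq_mul, mul_one]]
      refine Submodule.smul_mem _ r ?_
      have : ω ∈ Submodule.span C (Set.range fun j => KaehlerDifferential.D k C (a j)) := by rw [ha]; trivial
      induction this using Submodule.span_induction with
      | mem x hx => obtain ⟨j, rfl⟩ := hx; exact Submodule.subset_span ⟨j, rfl⟩
      | zero => rw [TensorProduct.tmul_zero]; exact zero_mem _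
      | add x y _ _ hx hy => rw [TensorProduct.tmul_add]; exact add_mem hx hy
      | smul c x _ hx => rw [TensorProduct.tmul_smul, ← algebraMap_smul K₀ c]; exact Submodule.smul_mem _ _ hx
  obtain ⟨B, hB⟩ : ∃ B : Finset (Fin N), LinearIndependent K₀ (fun j : B => v j) ∧
      Submodule.span K₀ (Set.range fun j : B => v j) = ⊤ := by
    obtain ⟨b, hb1, hb2, hb3⟩ := exists_linearIndependent K₀ (Set.range v)
    choose σ hσ using fun x : b => hb1 x.2
    have hσi : Function.Injective σ := fun x y h => Subtype.ext (by rw [← hσ x, ← hσ y, h])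
    haveI : Finite b := Finite.of_injective σ hσi
    letI := Fintype.ofFinite b
    let B : Finset (Fin N) := Finset.univ.image σ
    let e : b ≃ B := Equiv.ofBijective (fun x => ⟨σ x, Finset.mem_image_of_mem σ (Finset.mem_univ x)⟩)
      ⟨fun x y h => hσi (congrArg Subtype.val h), fun ⟨j, hj⟩ => by
        obtain ⟨x, -, rfl⟩ := Finset.mem_image.1 hj
        exact ⟨x, rfl⟩⟩
    have he : ∀ x : b, v (e x : Fin N) = x := fun x => hσ x
    refine ⟨B, ?_, ?_⟩
    · rw [← linearIndependent_equiv e]
      rw [show (fun j : B => v j) ∘ e = ((↑) : b → K₀ ⊗[C] Ω[C⁄k]) from funext he]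
      exact hb3
    · rw [← hv, ← hb2]
      congr 1
      ext z
      constructor
      · rintro ⟨j, rfl⟩
        obtain ⟨x, rfl⟩ := e.surjective j
        show v (e x : Fin N) ∈ b
        rw [he]; exact x.2
      · intro hz
        exact ⟨e ⟨z, hz⟩, he ⟨z, hz⟩⟩
  obtain ⟨hli, hspan⟩ := hB
  let bas := Module.Basis.mk hli hspan.ge
  have h1 : Algebra.trdeg k K₀ ≤ B.card := by
    refine (trdeg_residueField_le (k := k) q (a '' B) ?_).trans ?_
    · rw [eq_top_iff, ← hspan]
      refine Submodule.span_mono ?_
      rintro _ ⟨j, rfl⟩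
      exact ⟨a j, ⟨j, j.2, rfl⟩, rfl⟩
    · rw [← Finset.coe_image]
      simp only [Finset.coe_sort_coe, Cardinal.mk_coe_finset]
      exact_mod_cast Finset.card_image_le
  -- the coordinates
  let x : Fin N → K := fun j => algebraMap (MvPolynomial (Fin N) C) K (MvPolynomial.X j)
  let ι : K₀ →+* K := Ideal.ResidueField.map q Q (algebraMap C (MvPolynomial (Fin N) C)) rfl
  letI : Algebra K₀ K := ι.toAlgebra
  have hι : ∀ c, ι (algebraMap C K₀ c) = algebraMap C K c := fun c =>
    (Ideal.ResidueField.map_algebraMap q Q _ rfl c).trans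
      (IsScalarTower.algebraMap_apply C (MvPolynomial (Fin N) C) K c).symm
  haveI : IsScalarTower C K₀ K := IsScalarTower.of_algebraMap_eq fun c => (hι c).symm
  have hrel : ∀ b : B, x b + ∑ j ∈ Finset.univ.filter (fun j => j ∉ B), x j * ι (bas.repr (v j) b) = 0 := by
    intro b
    obtain ⟨n, f, g, -, -, hfg⟩ := Module.Finite.exists_comp_eq_id_of_projective C Ω[C⁄k]
    let L : Ω[C⁄k] →ₗ[C] K :=
      (((Algebra.linearMap K₀ K).restrictScalars C).comp ((bas.coord b).restrictScalars C)).comp
        (TensorProduct.mk C K₀ Ω[C⁄k] 1)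
    have hL : ∀ ω, L ω = ∑ i, algebraMap C K (g ω i) * L (f (Pi.single i 1)) := by
      intro ω
      have e : f (g ω) = ω := LinearMap.congr_fun hfg ω
      conv_lhs => rw [← e, pi_eq_sum_univ' (g ω), map_sum, map_sum]
      exact Finset.sum_congr rfl fun i _ => by rw [map_smul, map_smul, Algebra.smul_def]
    have hsum : ∑ j, x j * L (KaehlerDifferential.D k C (a j)) = 0 := by
      refine (Finset.sum_congr rfl fun j _ => (congrArg (x j * ·) (hL _)).trans (Finset.mul_sum _ _ _)).trans ?_
      rw [Finset.sum_comm]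
      refine Finset.sum_eq_zero fun i _ => ?_
      have hmem : ∑ j, MvPolynomial.X j * MvPolynomial.C (g (KaehlerDifferential.D k C (a j)) i) ∈ Q :=
        hQ (Ideal.subset_span ⟨(LinearMap.proj i).comp g, rfl⟩)
      rw [← Ideal.algebraMap_residueField_eq_zero, map_sum] at hmem
      have h0 : (∑ j, x j * algebraMap C K (g (KaehlerDifferential.D k C (a j)) i)) * L (f (Pi.single i 1)) = 0 := by
        rw [show (∑ j, x j * algebraMap C K (g (KaehlerDifferential.D k C (a j)) i)) = 0 from ?_, zero_mul]
        refine Eq.trans (Finset.sum_congr rfl fun j _ => ?_) hmem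
        rw [map_mul, ← MvPolynomial.algebraMap_eq, ← IsScalarTower.algebraMap_apply]
      rw [Finset.sum_mul] at h0
      simpa [mul_assoc] using h0
    have hLv : ∀ j, L (KaehlerDifferential.D k C (a j)) = ι (bas.repr (v j) b) := fun j => rfl
    simp only [hLv] at hsum
    rw [← Finset.sum_filter_add_sum_filter_not Finset.univ (fun j => j ∈ B)] at hsum
    rw [Finset.sum_eq_single (b : Fin N)] at hsum
    · rw [show v b = bas b from (Module.Basis.mk_apply hli hspan.ge b).symm, Module.Basis.repr_self,
        Finsupp.single_eq_same, map_one, mul_one] at hsum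
      exact hsum
    · intro j hj hjb
      simp only [Finset.mem_filter, Finset.mem_univ, true_and] at hj
      rw [show v j = bas ⟨j, hj⟩ from (Module.Basis.mk_apply hli hspan.ge ⟨j, hj⟩).symm, Module.Basis.repr_self,
        Finsupp.single_eq_of_ne (fun h => hjb (by rw [h])), map_zero, mul_zero]
    · intro h; simp at h
  let S : Set K := x '' {j | j ∉ B}
  let A' := Algebra.adjoin K₀ S
  have hx : ∀ j, x j ∈ A' := by
    intro j
    by_cases hj : j ∈ B
    · rw [eq_neg_of_add_eq_zero_left (hrel ⟨j, hj⟩)]
      refine neg_mem (sum_mem fun i hi => mul_mem (Algebra.subset_adjoin ⟨i, (Finset.mem_filter.1 hi).2, rfl⟩) ?_)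
      exact A'.algebraMap_mem _
    · exact Algebra.subset_adjoin ⟨j, hj, rfl⟩
  have hA : ∀ p : MvPolynomial (Fin N) C, algebraMap _ K p ∈ A' := by
    intro p
    induction p using MvPolynomial.induction_on with
    | C c =>
      rw [← MvPolynomial.algebraMap_eq, ← IsScalarTower.algebraMap_apply, ← hι]
      exact A'.algebraMap_mem _
    | add p q hp hq => rw [map_add]; exact add_mem hp hq
    | mul_X p j hp => rw [map_mul]; exact mul_mem hp (hx j)
  haveI : Algebra.IsAlgebraic A' K := ⟨fun z => by
    obtain ⟨c, d, hd, rfl⟩ := IsFractionRing.div_surjective (A := MvPolynomial (Fin N) C ⧸ Q) z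
    obtain ⟨c, rfl⟩ := Ideal.Quotient.mk_surjective c
    obtain ⟨d, rfl⟩ := Ideal.Quotient.mk_surjective d
    have hcA : IsAlgebraic A' (algebraMap (MvPolynomial (Fin N) C ⧸ Q) K (Ideal.Quotient.mk Q c)) :=
      isAlgebraic_algebraMap (⟨_, hA c⟩ : A')
    have hdA : IsAlgebraic A' (algebraMap (MvPolynomial (Fin N) C ⧸ Q) K (Ideal.Quotient.mk Q d)) :=
      isAlgebraic_algebraMap (⟨_, hA d⟩ : A')
    rw [div_eq_mul_inv]
    exact hcA.mul hdA.inv⟩
  have h2 : Algebra.trdeg K₀ K ≤ (N - B.card : ℕ) := by
    refine (Algebra.IsAlgebraic.trdeg_le_cardinalMk K₀ S).trans ?_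
    rw [show S = ((Bᶜ.image x : Finset K) : Set K) by ext; simp [S]]
    simp only [Finset.coe_sort_coe, Cardinal.mk_coe_finset]
    exact_mod_cast (Finset.card_image_le.trans (by simp [Finset.card_compl]))
  haveI : IsScalarTower k K₀ K := IsScalarTower.of_algebraMap_eq fun c => by
    rw [IsScalarTower.algebraMap_apply k C K₀, ← IsScalarTower.algebraMap_apply C K₀ K,
      ← IsScalarTower.algebraMap_apply k C K]
  rw [← trdeg_add_eq k K₀ (A := K)]
  refine (add_le_add h1 h2).trans ?_
  have : B.card ≤ N := by simpa using B.card_le_univ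
  rw [← Nat.cast_add, Nat.add_sub_cancel' this]

/-- For general `c`, the form `∑ cⱼ daⱼ` vanishes only at finitely many primes, all maximal. -/
theorem exists_generic_finite [Algebra.Smooth k C]
    (ha : Submodule.span C (Set.range fun j => KaehlerDifferential.D k C (a j)) = ⊤) :
    ∃ H : MvPolynomial (Fin N) k, H ≠ 0 ∧ ∀ c : Fin N → k, MvPolynomial.eval c H ≠ 0 →
      ∃ S : Finset (Ideal C), (∀ q ∈ S, q.IsMaximal) ∧ ∀ (q : Ideal C) [q.IsPrime], q ∉ S →
        (1 : q.ResidueField) ⊗ₜ[C] KaehlerDifferential.D k C (∑ j, c j • a j) ≠ 0 := by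
  classical
  haveI : Module.Projective C Ω[C⁄k] := inferInstance
  haveI : IsNoetherianRing C := Algebra.FiniteType.isNoetherianRing k C
  let R := MvPolynomial (Fin N) C
  let J := incIdeal (k := k) a
  let T : MvPolynomial (Fin N) k →ₐ[k] R := MvPolynomial.aeval MvPolynomial.X
  have key : ∀ p : Ideal R, p ∈ J.minimalPrimes → ∃ H : MvPolynomial (Fin N) k, H ≠ 0 ∧
      ∀ (Q : Ideal R) [Q.IsPrime] (c : Fin N → k), p ≤ Q →
        (∀ j, MvPolynomial.X j - MvPolynomial.C (algebraMap k C (c j)) ∈ Q) →
        MvPolynomial.eval c H ≠ 0 → Q.IsMaximal := by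
    intro p hp
    haveI : p.IsPrime := hp.1.1
    haveI : Algebra.FiniteType k R := Algebra.FiniteType.trans (S := C) inferInstance inferInstance
    haveI : Algebra.FiniteType k (R ⧸ p) :=
      Algebra.FiniteType.of_surjective (Ideal.Quotient.mkₐ k p) Ideal.Quotient.mk_surjective
    have hev : ∀ (Q : Ideal R) (c : Fin N → k),
        (∀ j, MvPolynomial.X j - MvPolynomial.C (algebraMap k C (c j)) ∈ Q) →
        ∀ h, Ideal.Quotient.mk Q (T h) = algebraMap k (R ⧸ Q) (MvPolynomial.eval c h) := by
      intro Q c hc h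
      induction h using MvPolynomial.induction_on with
      | C r => rw [MvPolynomial.eval_C]; exact congrArg _ (T.commutes r)
      | add u w hu hw => rw [map_add, map_add, hu, hw, map_add, map_add]
      | mul_X u j hu =>
        rw [map_mul, map_mul, hu, map_mul, map_mul]
        congr 1
        rw [MvPolynomial.eval_X, MvPolynomial.aeval_X, IsScalarTower.algebraMap_apply k R (R ⧸ Q),
          IsScalarTower.algebraMap_apply k C R]
        exact Ideal.Quotient.eq.2 (hc j)
    let π : MvPolynomial (Fin N) k →ₐ[k] R ⧸ p := (Ideal.Quotient.mkₐ k p).comp T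
    by_cases hinj : Function.Injective π
    · letI := π.toRingHom.toAlgebra
      haveI : IsScalarTower k (MvPolynomial (Fin N) k) (R ⧸ p) :=
        IsScalarTower.of_algebraMap_eq fun r => (π.commutes r).symm
      haveI : FaithfulSMul (MvPolynomial (Fin N) k) (R ⧸ p) := (faithfulSMul_iff_algebraMap_injective _ _).2 hinj
      have hle : Algebra.trdeg k (R ⧸ p) ≤ N := by
        refine le_trans ?_ (trdeg_incidence_le a ha p hp.1.2)
        exact trdeg_le_of_injective (IsScalarTower.toAlgHom k (R ⧸ p) p.ResidueField) (IsFractionRing.injective _ _)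
      have h0 : Algebra.trdeg (MvPolynomial (Fin N) k) (R ⧸ p) = 0 := by
        have := trdeg_add_eq k (MvPolynomial (Fin N) k) (A := R ⧸ p)
        rw [← this, MvPolynomial.trdeg_of_isDomain] at hle
        simp only [Cardinal.mk_fin, Cardinal.lift_natCast] at hle
        have hlt : Algebra.trdeg (MvPolynomial (Fin N) k) (R ⧸ p) < Cardinal.aleph0 :=
          lt_of_le_of_lt ((self_le_add_left _ _).trans hle) Cardinal.natCast_lt_aleph0
        obtain ⟨m, hm⟩ := Cardinal.lt_aleph0.1 hlt
        rw [hm] at hle ⊢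
        have : N + m ≤ N := by exact_mod_cast hle
        simp [show m = 0 by omega]
      haveI := trdeg_eq_zero_iff.1 h0
      obtain ⟨n, ψ, hψ⟩ := Algebra.FiniteType.iff_quotient_mvPolynomial''.1 (inferInstance : Algebra.FiniteType k (R ⧸ p))
      choose P hP0 hP using fun i : Fin n => Algebra.IsAlgebraic.isAlgebraic (R := MvPolynomial (Fin N) k) (ψ (MvPolynomial.X i))
      refine ⟨∏ i, (P i).leadingCoeff, Finset.prod_ne_zero_iff.2 fun i _ => Polynomial.leadingCoeff_ne_zero.2 (hP0 i),
        fun Q _ c hpQ hc hH => ?_⟩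
      rw [map_prod, Finset.prod_ne_zero_iff] at hH
      let ρ : (R ⧸ p) →ₐ[k] R ⧸ Q := Ideal.Quotient.factorₐ k hpQ
      haveI : Algebra.IsIntegral k (R ⧸ Q) := by
        refine ⟨fun z => ?_⟩
        obtain ⟨z, rfl⟩ := Ideal.Quotient.factor_surjective hpQ z
        obtain ⟨z, rfl⟩ := hψ z
        induction z using MvPolynomial.induction_on with
        | C r =>
          rw [show Ideal.Quotient.factor hpQ (ψ (MvPolynomial.C r)) = algebraMap k (R ⧸ Q) r from
            ((congrArg ρ (ψ.commutes r)).trans (ρ.commutes r))]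
          exact isIntegral_algebraMap
        | add u w hu hw => rw [map_add, map_add]; exact hu.add hw
        | mul_X u i hu =>
          rw [map_mul, map_mul]
          refine hu.mul ?_
          refine isAlgebraic_iff_isIntegral.1 ⟨(P i).map (MvPolynomial.eval c), ?_, ?_⟩
          · intro e
            have := congrArg (fun f => Polynomial.coeff f (P i).natDegree) e
            simp only [Polynomial.coeff_map, Polynomial.coeff_zero] at this
            exact hH i (Finset.mem_univ _) this
          · rw [Polynomial.aeval_def, Polynomial.eval₂_map]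
            have he : (algebraMap k (R ⧸ Q)).comp (MvPolynomial.eval c) =
                (ρ.toRingHom).comp (algebraMap (MvPolynomial (Fin N) k) (R ⧸ p)) :=
              RingHom.ext fun h => ((hev Q c hc h).symm.trans rfl)
            rw [he, show Ideal.Quotient.factor hpQ (ψ (MvPolynomial.X i)) = ρ.toRingHom (ψ (MvPolynomial.X i)) from rfl,
              ← Polynomial.hom_eval₂, ← Polynomial.aeval_def, hP i, map_zero]
      exact Ideal.Quotient.maximal_of_isField Q (isField_of_isIntegral_of_isField' (Field.toIsField k))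
    · rw [injective_iff_map_eq_zero] at hinj
      push_neg at hinj
      obtain ⟨h, hh, hh0⟩ := hinj
      refine ⟨h, hh0, fun Q _ c hpQ hc hH => absurd ?_ hH⟩
      have h3 : Ideal.Quotient.mk Q (T h) = 0 :=
        Ideal.Quotient.eq_zero_iff_mem.2 (hpQ (Ideal.Quotient.eq_zero_iff_mem.1 hh))
      rw [hev Q c hc] at h3
      exact (algebraMap k (R ⧸ Q)).injective (h3.trans (map_zero _).symm)
  choose H hH0 hH using key
  have hfin : J.minimalPrimes.Finite := Ideal.finite_minimalPrimes_of_isNoetherianRing R J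
  refine ⟨∏ p ∈ hfin.toFinset.attach, H p.1 (hfin.mem_toFinset.1 p.2),
    Finset.prod_ne_zero_iff.2 fun p _ => hH0 _ _, fun c hc => ?_⟩
  rw [map_prod, Finset.prod_ne_zero_iff] at hc
  let ev : R →ₐ[C] C := MvPolynomial.aeval fun j => algebraMap k C (c j)
  have hevX : ∀ j, ev (MvPolynomial.X j) = algebraMap k C (c j) := fun j => MvPolynomial.aeval_X _ j
  have hevC : ∀ z, ev (MvPolynomial.C z) = z := fun z => MvPolynomial.aeval_C _ z
  have hev' : ∀ j, MvPolynomial.X j - MvPolynomial.C (algebraMap k C (c j)) ∈ RingHom.ker ev.toRingHom := fun j => by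
    show ev _ = 0
    rw [map_sub, hevX, hevC, sub_self]
  let I := J.map ev.toRingHom
  have hmax : ∀ q : Ideal C, q.IsPrime → I ≤ q → q.IsMaximal := by
    intro q hq hIq
    haveI := hq
    have hsurj : Function.Surjective ev.toRingHom := fun z => ⟨MvPolynomial.C z, hevC z⟩
    let Q := q.comap ev.toRingHom
    obtain ⟨p, hp, hpQ⟩ := Ideal.exists_minimalPrimes_le (show J ≤ Q from Ideal.map_le_iff_le_comap.1 hIq)
    haveI : Q.IsMaximal := hH p hp Q c hpQ
      (fun j => Ideal.comap_mono bot_le (by simpa [RingHom.ker] using hev' j))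
      (hc ⟨p, hfin.mem_toFinset.2 hp⟩ (Finset.mem_attach _ _))
    rw [← Ideal.map_comap_of_surjective _ hsurj q]
    exact (Ideal.map_eq_top_or_isMaximal_of_surjective _ hsurj ‹Q.IsMaximal›).resolve_left
      (by rw [Ideal.map_comap_of_surjective _ hsurj q]; exact hq.ne_top)
  have hIfin : I.minimalPrimes.Finite := Ideal.finite_minimalPrimes_of_isNoetherianRing C I
  refine ⟨hIfin.toFinset, fun q hq => ?_, fun q _ hq h0 => hq ?_⟩
  · rw [Set.Finite.mem_toFinset] at hq
    exact hmax q hq.1.1 hq.1.2
  · have hIq : I ≤ q := by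
      rw [Ideal.map_le_iff_le_comap]
      refine Ideal.span_le.2 ?_
      rintro _ ⟨φ, rfl⟩
      show ev.toRingHom _ ∈ q
      let L : Ω[C⁄k] →ₗ[C] q.ResidueField := (Algebra.linearMap C q.ResidueField).comp φ
      have h1 := congrArg (LinearMap.liftBaseChange q.ResidueField L) h0
      rw [LinearMap.liftBaseChange_tmul, one_smul, map_zero] at h1
      refine Ideal.algebraMap_residueField_eq_zero.1 (Eq.trans ?_ h1)
      show algebraMap C q.ResidueField (ev _) = algebraMap C q.ResidueField (φ _)
      congr 1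
      rw [map_sum, map_sum, map_sum]
      refine Finset.sum_congr rfl fun j _ => ?_
      rw [map_mul, hevX, hevC, Derivation.map_smul, φ.map_smul_of_tower, Algebra.smul_def]
    rw [Set.Finite.mem_toFinset]
    obtain ⟨p, hp, hpq⟩ := Ideal.exists_minimalPrimes_le hIq
    rwa [← (hmax p hp.1.1 hp.1.2).eq_of_le (Ideal.IsPrime.ne_top ‹_›) hpq]

end Groth.Agent.CommAlg4
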