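import Groth.Prelude.Def_W4c2ratsingkovacsGH
import Groth.Agent.ProjLib.GradedGen
import Mathlib.AlgebraicGeometry.ProjectiveSpectrum.Scheme
import Mathlib.RingTheory.Ideal.KrullsHeightTheorem
import Mathlib.RingTheory.Regular.RegularSequence

/-!
# Homogeneous sequences cutting the geometric height down one by one
-/

set_option autoImplicit false
set_option backward.isDefEq.respectTransparency.types false

universe u v

namespace Groth.Agent.CommAlg4.GeomHeight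

open AlgebraicGeometry W4c2ratsingkovacs

variable {R : Type u} {A : Type v} [CommRing R] [CommRing A] [Algebra R A]
  (𝒜 : ℕ → Submodule R A) [GradedRing 𝒜]

theorem exists_component_notMem {I : Ideal A} (hI : I.IsHomogeneous 𝒜) {p : Ideal A} (h : ¬ I ≤ p) :
    ∃ (a : A) (d : ℕ), a ∈ 𝒜 d ∧ a ∈ I ∧ a ∉ p := by
  classical
  obtain ⟨g, hg, hgp⟩ := SetLike.not_le_iff_exists.1 h
  obtain ⟨i, hi⟩ : ∃ i, (DirectSum.decompose 𝒜 g i : A) ∉ p := by
    by_contra! hh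
    exact hgp (by rw [← DirectSum.sum_support_decompose 𝒜 g]; exact p.sum_mem fun i _ => hh i)
  exact ⟨_, i, SetLike.coe_mem _, hI i hg, hi⟩

theorem exists_pos_notMem {p : Ideal A} (h : ¬ (HomogeneousIdeal.irrelevant 𝒜).toIdeal ≤ p) :
    ∃ (a : A) (d : ℕ), 0 < d ∧ a ∈ 𝒜 d ∧ a ∉ p := by
  classical
  obtain ⟨g, hg, hgz⟩ := SetLike.not_le_iff_exists.1 h
  obtain ⟨i, hi⟩ : ∃ i, (DirectSum.decompose 𝒜 g i : A) ∉ p := by
    by_contra! hh
    exact hgz (by rw [← DirectSum.sum_support_decompose 𝒜 g]; exact p.sum_mem fun i _ => hh i)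
  refine ⟨_, i, Nat.pos_of_ne_zero ?_, SetLike.coe_mem _, hi⟩
  rintro rfl
  replace hg : g ∈ HomogeneousIdeal.irrelevant 𝒜 := hg
  rw [HomogeneousIdeal.mem_irrelevant_iff, GradedRing.proj_apply] at hg
  exact hi (by rw [hg]; exact zero_mem _)

/-- Homogeneous prime avoidance in positive degree. -/
theorem exists_avoid {J : Ideal A} (hJ : J.IsHomogeneous 𝒜) (S : Finset (Ideal A))
    (hS : ∀ q ∈ S, q.IsPrime ∧ ¬ J ≤ q ∧ ¬ (HomogeneousIdeal.irrelevant 𝒜).toIdeal ≤ q) :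
    ∃ (z : A) (n : ℕ), 0 < n ∧ z ∈ 𝒜 n ∧ z ∈ J ∧ ∀ q ∈ S, z ∉ q := by
  classical
  -- reduce to homogeneous primes
  suffices key : ∀ T : Finset (Ideal A),
      (∀ q ∈ T, q.IsPrime ∧ q.IsHomogeneous 𝒜 ∧ ¬ J ≤ q ∧ ¬ (HomogeneousIdeal.irrelevant 𝒜).toIdeal ≤ q) →
      ∃ (z : A) (n : ℕ), 0 < n ∧ z ∈ 𝒜 n ∧ z ∈ J ∧ ∀ q ∈ T, z ∉ q by
    obtain ⟨z, n, hn, hz, hzJ, hzS⟩ := key (S.image fun q => (q.homogeneousCore 𝒜).toIdeal) (by
      intro q' hq'
      obtain ⟨q, hq, rfl⟩ := Finset.mem_image.1 hq'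
      obtain ⟨h1, h2, h3⟩ := hS q hq
      exact ⟨h1.homogeneousCore, (q.homogeneousCore 𝒜).isHomogeneous,
        fun h => h2 (h.trans (q.toIdeal_homogeneousCore_le 𝒜)),
        fun h => h3 (h.trans (q.toIdeal_homogeneousCore_le 𝒜))⟩)
    exact ⟨z, n, hn, hz, hzJ, fun q hq hmem => hzS _ (Finset.mem_image_of_mem _ hq)
      (Ideal.mem_homogeneousCore_of_homogeneous_of_mem ⟨n, hz⟩ hmem)⟩
  intro T
  induction T using Finset.strongInduction with
  | H T ih =>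
  intro hT
  rcases T.eq_empty_or_nonempty with rfl | hne
  · exact ⟨0, 1, one_pos, zero_mem _, zero_mem _, by simp⟩
  by_cases hcomp : ∃ q ∈ T, ∃ q' ∈ T, q ≠ q' ∧ q ≤ q'
  · obtain ⟨q, hq, q', hq', hne', hle⟩ := hcomp
    obtain ⟨z, n, hn, hz, hzJ, hzT⟩ := ih (T.erase q) (Finset.erase_ssubset hq)
      (fun r hr => hT r (Finset.mem_of_mem_erase hr))
    refine ⟨z, n, hn, hz, hzJ, fun r hr hmem => ?_⟩
    by_cases h : r = q
    · exact hzT q' (Finset.mem_erase.2 ⟨Ne.symm hne', hq'⟩) (hle (h ▸ hmem))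
    · exact hzT r (Finset.mem_erase.2 ⟨h, hr⟩) hmem
  push Not at hcomp
  have key : ∀ q : {q // q ∈ T}, ∃ (a : A) (d : ℕ), 0 < d ∧ a ∈ 𝒜 d ∧ a ∈ J ∧ a ∉ q.1 ∧
      ∀ w ∈ T, w ≠ q.1 → a ∈ w := by
    rintro ⟨q, hq⟩
    obtain ⟨hqp, -, hqJ, hqi⟩ := hT q hq
    have hsep : ∀ w : {w // w ∈ T.erase q}, ∃ (a : A) (d : ℕ), a ∈ 𝒜 d ∧ a ∈ w.1 ∧ a ∉ q := fun w =>
      exists_component_notMem 𝒜 (hT _ (Finset.mem_of_mem_erase w.2)).2.1
        (hcomp w.1 (Finset.mem_of_mem_erase w.2) q hq (Finset.ne_of_mem_erase w.2))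
    choose a d ha1 ha2 ha3 using hsep
    obtain ⟨b, e, hb1, hb2, hb3⟩ := exists_component_notMem 𝒜 hJ hqJ
    obtain ⟨c, i, hi0, hic, hc⟩ := exists_pos_notMem 𝒜 hqi
    refine ⟨(∏ w, a w) * b * c, (∑ w, d w) + e + i, by omega,
      SetLike.mul_mem_graded (SetLike.mul_mem_graded (SetLike.prod_mem_graded _ _ _ fun w _ => ha1 w) hb1) hic,
      Ideal.mul_mem_right _ _ (Ideal.mul_mem_left _ _ hb2), ?_, fun w hw hne => ?_⟩
    · refine fun hm => ((hqp.mem_or_mem hm).elim (fun h => ?_) hc)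
      refine ((hqp.mem_or_mem h).elim (fun h => ?_) hb3)
      obtain ⟨w, -, hw⟩ := hqp.prod_mem_iff.1 h
      exact ha3 w hw
    · exact Ideal.mul_mem_right _ _ (Ideal.mul_mem_right _ _
        (Ideal.mem_of_dvd _ (Finset.dvd_prod_of_mem a
          (Finset.mem_univ (⟨w, Finset.mem_erase.2 ⟨hne, hw⟩⟩ : {w // w ∈ T.erase q})))
          (ha2 ⟨w, Finset.mem_erase.2 ⟨hne, hw⟩⟩)))
  choose a d hd ha haJ haq haw using key
  let D := ∏ z, d z
  have hD : 0 < D := Finset.prod_pos fun z _ => hd z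
  have hc : ∀ z, a z ^ (D / d z) ∈ 𝒜 D := fun z => by
    have := SetLike.pow_mem_graded (D / d z) (ha z)
    rwa [smul_eq_mul, Nat.div_mul_cancel (Finset.dvd_prod_of_mem d (Finset.mem_univ z))] at this
  have hpos : ∀ z, 0 < D / d z := fun z =>
    Nat.div_pos (Nat.le_of_dvd hD (Finset.dvd_prod_of_mem d (Finset.mem_univ z))) (hd z)
  refine ⟨∑ z, a z ^ (D / d z), D, hD, sum_mem fun z _ => hc z,
    Ideal.sum_mem _ fun z _ => Ideal.pow_mem_of_mem _ (haJ z) _ (hpos z), fun q hq hm => ?_⟩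
  have hrest : ∑ w ∈ Finset.univ.erase (⟨q, hq⟩ : {q // q ∈ T}), a w ^ (D / d w) ∈ q :=
    Ideal.sum_mem _ fun w hw => Ideal.pow_mem_of_mem _
      (haw w q hq (fun e => Finset.ne_of_mem_erase hw (Subtype.ext e.symm))) _ (hpos w)
  rw [← Finset.add_sum_erase _ _ (Finset.mem_univ (⟨q, hq⟩ : {q // q ∈ T})),
    Ideal.add_mem_iff_left _ hrest] at hm
  exact haq ⟨q, hq⟩ ((hT q hq).1.mem_of_pow_mem _ hm)

theorem isHomogeneous_of_mem_minimalPrimes {I Q : Ideal A} (hI : I.IsHomogeneous 𝒜)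
    (hQ : Q ∈ I.minimalPrimes) : Q.IsHomogeneous 𝒜 := by
  have h1 : (Q.homogeneousCore 𝒜).toIdeal.IsPrime := hQ.1.1.homogeneousCore
  have h2 : I ≤ (Q.homogeneousCore 𝒜).toIdeal := by
    have := Ideal.homogeneousCore_mono 𝒜 hQ.1.2
    rw [← hI.toIdeal_homogeneousCore_eq_self]
    exact this
  rw [le_antisymm (hQ.2 ⟨h1, h2⟩ (Q.toIdeal_homogeneousCore_le 𝒜)) (Q.toIdeal_homogeneousCore_le 𝒜)]
  exact (Q.homogeneousCore 𝒜).isHomogeneous

/-- Every prime of `A_(f)` is the contraction of a homogeneous prime missing `f`. -/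
theorem exists_lift {f : A} {n : ℕ} (hn : 0 < n) (hf : f ∈ 𝒜 n)
    (Q : Ideal (HomogeneousLocalization.Away 𝒜 f)) [hQ : Q.IsPrime] :
    ∃ p : Ideal A, p.IsPrime ∧ p.IsHomogeneous 𝒜 ∧ f ∉ p ∧ Q = locIdeal 𝒜 p f ∧
      ∀ (a : A) (i : ℕ) (hai : a ^ n ∈ 𝒜 (i • n)), a ∈ 𝒜 i →
        (a ∈ p ↔ HomogeneousLocalization.Away.mk 𝒜 hf i (a ^ n) hai ∈ Q) := by
  obtain ⟨x, hx⟩ := ProjIsoSpecTopComponent.toSpec_surjective 𝒜 hf hn ⟨Q, hQ⟩
  have hQeq : ProjIsoSpecTopComponent.ToSpec.carrier x = Q := congrArg PrimeSpectrum.asIdeal hx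
  refine ⟨x.1.asHomogeneousIdeal.toIdeal, x.1.isPrime, x.1.asHomogeneousIdeal.isHomogeneous, x.2,
    hQeq.symm, fun a i hai ha => ?_⟩
  rw [← hQeq]
  unfold HomogeneousLocalization.Away.mk
  rw [ProjIsoSpecTopComponent.ToSpec.mk_mem_carrier]
  exact (x.1.isPrime.pow_mem_iff_mem n hn).symm

theorem locIdeal_mono {I J : Ideal A} (h : I ≤ J) (f : A) : locIdeal 𝒜 I f ≤ locIdeal 𝒜 J f :=
  Ideal.comap_mono (Ideal.map_mono h)

theorem mk_pow_mem_locIdeal {I : Ideal A} {f : A} {n : ℕ} (hn : 0 < n) (hf : f ∈ 𝒜 n) {a : A} {i : ℕ}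
    (hai : a ^ n ∈ 𝒜 (i • n)) (ha : a ∈ I) :
    HomogeneousLocalization.Away.mk 𝒜 hf i (a ^ n) hai ∈ locIdeal 𝒜 I f := by
  rw [locIdeal, Ideal.mem_comap, HomogeneousLocalization.algebraMap_apply,
    HomogeneousLocalization.Away.val_mk, Localization.mk_eq_mk', IsLocalization.mk'_eq_mul_mk'_one]
  exact Ideal.mul_mem_right _ _ (Ideal.mem_map_of_mem _ (Ideal.pow_mem_of_mem _ ha _ hn))

theorem isNoetherianRing_away [IsNoetherianRing A] {f : A} {n : ℕ} (hf : f ∈ 𝒜 n) :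
    IsNoetherianRing (HomogeneousLocalization.Away 𝒜 f) := by
  obtain ⟨h0, hft⟩ := (Groth.Agent.ProjLib.isNoetherianRing_iff_degZero 𝒜).mp inferInstance
  have := HomogeneousLocalization.Away.finiteType (𝒜 := 𝒜) f n hf
  exact Algebra.FiniteType.isNoetherianRing (𝒜 0) _

theorem locIdeal_ne_top {J : Ideal A} (hJ : J.IsHomogeneous 𝒜) {f : A} {n : ℕ} (hn : 0 < n)
    (hf : f ∈ 𝒜 n) (hfJ : f ∉ J.radical) : locIdeal 𝒜 J f ≠ ⊤ := by
  intro h
  rw [locIdeal, Ideal.comap_eq_top_iff] at h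
  refine (IsLocalization.map_algebraMap_ne_top_iff_disjoint (Submonoid.powers f) (Localization.Away f) J).2
    (Set.disjoint_left.2 ?_) h
  rintro _ ⟨k, rfl⟩ hk
  exact hfJ ⟨k, hk⟩

variable [IsNoetherianRing A]

/-- The height of a prime containing the first `i` elements of an avoiding sequence. -/
theorem le_height {J : Ideal A} (hJ : J.IsHomogeneous 𝒜) {h : ℕ} (hJh : HasUniformGeomHeight 𝒜 J h)
    (zs : List A) (hzs : ∀ z ∈ zs, (∃ n : ℕ, 0 < n ∧ z ∈ 𝒜 n) ∧ z ∈ J)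
    (havoid : ∀ i (hi : i < zs.length), ∀ p ∈ (Ideal.ofList (zs.take i)).minimalPrimes,
      ¬ J ≤ p → ¬ (HomogeneousIdeal.irrelevant 𝒜).toIdeal ≤ p → zs[i] ∉ p)
    {f : A} {n : ℕ} (hn : 0 < n) (hf : f ∈ 𝒜 n) (hfJ : f ∉ J.radical) :
    ∀ i : ℕ, i ≤ zs.length → i ≤ h → ∀ Q : Ideal (HomogeneousLocalization.Away 𝒜 f), Q.IsPrime →
      locIdeal 𝒜 (Ideal.ofList (zs.take i)) f ≤ Q → (i : ℕ∞) ≤ Q.height := by
  intro i
  induction i with
  | zero => intro _ _ Q _ _; simp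
  | succ i ih =>
    intro hil hih Q hQ hle
    haveI := isNoetherianRing_away 𝒜 hf
    have hi : i < zs.length := by omega
    have htake : zs.take (i + 1) = zs.take i ++ [zs[i]] := by
      rw [List.take_concat_get' _ _ hi]
    have hsub : Ideal.ofList (zs.take i) ≤ Ideal.ofList (zs.take (i + 1)) := by
      rw [htake, Ideal.ofList_append]; exact le_sup_left
    obtain ⟨Q', hQ', hQ'le⟩ := Ideal.exists_minimalPrimes_le ((locIdeal_mono 𝒜 hsub f).trans hle)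
    haveI := hQ'.1.1
    have hht : (i : ℕ∞) ≤ Q'.height := ih (by omega) (by omega) Q' hQ'.1.1 hQ'.1.2
    by_cases hJQ : locIdeal 𝒜 J f ≤ Q'
    · have h1 : (h : ℕ∞) ≤ Q.height :=
        (hJh f n hn hf hfJ).symm.le.trans (Ideal.height_mono (hJQ.trans hQ'le))
      exact le_trans (by exact_mod_cast hih) h1
    obtain ⟨p, hp, hph, hfp, hQp, hiff⟩ := exists_lift 𝒜 hn hf Q'
    have hIp : Ideal.ofList (zs.take i) ≤ p := by
      rw [Ideal.ofList, Ideal.span_le]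
      intro z hz
      obtain ⟨⟨m, hm, hzm⟩, -⟩ := hzs z (List.mem_of_mem_take hz)
      refine (hiff z m (by simpa [smul_eq_mul, mul_comm] using SetLike.pow_mem_graded n hzm) hzm).2 ?_
      exact hQ'.1.2 (mk_pow_mem_locIdeal 𝒜 hn hf _ (Ideal.subset_span hz))
    obtain ⟨p₀, hp₀, hp₀le⟩ := Ideal.exists_minimalPrimes_le hIp
    have hJp₀ : ¬ J ≤ p₀ := fun hle' => hJQ (hQp ▸ locIdeal_mono 𝒜 (hle'.trans hp₀le) f)
    have hirr : ¬ (HomogeneousIdeal.irrelevant 𝒜).toIdeal ≤ p₀ := fun hle' =>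
      hfp (hp₀le (hle' (HomogeneousIdeal.mem_irrelevant_of_mem 𝒜 hn hf)))
    have hz := havoid i hi p₀ hp₀ hJp₀ hirr
    -- `Q'` is the contraction of the minimal prime `p₀`
    obtain ⟨⟨m, hm, hzm⟩, -⟩ := hzs zs[i] (List.getElem_mem hi)
    have hzn : zs[i] ^ n ∈ 𝒜 (m • n) := by
      simpa [smul_eq_mul, mul_comm] using SetLike.pow_mem_graded n hzm
    haveI := hp₀.1.1
    have hQ₀ : Q' = locIdeal 𝒜 p₀ f := by
      refine le_antisymm (hQ'.2 ⟨?_, locIdeal_mono 𝒜 hp₀.1.2 f⟩ (hQp ▸ locIdeal_mono 𝒜 hp₀le f))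
        (hQp ▸ locIdeal_mono 𝒜 hp₀le f)
      exact Ideal.IsPrime.comap _ (hK := IsLocalization.isPrime_of_isPrime_disjoint (Submonoid.powers f)
        _ _ hp₀.1.1 ((Ideal.disjoint_powers_iff_notMem_of_isPrime f).2 fun hfp₀ => hfp (hp₀le hfp₀)))
    have hnot : HomogeneousLocalization.Away.mk 𝒜 hf m (zs[i] ^ n) hzn ∉ Q' := by
      rw [hQ₀, locIdeal, Ideal.mem_comap, HomogeneousLocalization.algebraMap_apply,
        HomogeneousLocalization.Away.val_mk, Localization.mk_eq_mk', IsLocalization.mk'_mem_iff,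
        ← Ideal.mem_comap, ← Ideal.under_def, IsLocalization.under_map_of_isPrime_disjoint (Submonoid.powers f) _ hp₀.1.1
          ((Ideal.disjoint_powers_iff_notMem_of_isPrime f).2 fun hfp₀ => hfp (hp₀le hfp₀))]
      exact fun hmem => hz (hp₀.1.1.mem_of_pow_mem _ hmem)
    have hmemQ : HomogeneousLocalization.Away.mk 𝒜 hf m (zs[i] ^ n) hzn ∈ Q :=
      hle (mk_pow_mem_locIdeal 𝒜 hn hf _ (by
        rw [htake, Ideal.ofList_append, Ideal.ofList_singleton]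
        exact Ideal.mem_sup_right (Ideal.mem_span_singleton_self _)))
    have hlt : Q' < Q := lt_of_le_of_ne hQ'le fun e => hnot (e ▸ hmemQ)
    have := Ideal.height_strict_mono_of_isPrime_of_isPrime hlt
    push_cast
    exact Order.add_one_le_of_lt (lt_of_le_of_lt hht this)

theorem height_le {J : Ideal A} (hJ : J.IsHomogeneous 𝒜) (zs : List A)
    (hzs : ∀ z ∈ zs, (∃ n : ℕ, 0 < n ∧ z ∈ 𝒜 n) ∧ z ∈ J)
    {f : A} {n : ℕ} (hn : 0 < n) (hf : f ∈ 𝒜 n) (hfJ : f ∉ J.radical) :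
    (locIdeal 𝒜 (Ideal.ofList zs) f).height ≤ zs.length := by
  classical
  haveI := isNoetherianRing_away 𝒜 hf
  choose m hm hzm using fun z : {z // z ∈ zs} => (hzs z.1 z.2).1
  have hzn : ∀ z : {z // z ∈ zs}, z.1 ^ n ∈ 𝒜 (m z • n) := fun z => by
    simpa [smul_eq_mul, mul_comm] using SetLike.pow_mem_graded n (hzm z)
  let s : Finset (HomogeneousLocalization.Away 𝒜 f) :=
    zs.attach.toFinset.image fun z => HomogeneousLocalization.Away.mk 𝒜 hf (m z) (z.1 ^ n) (hzn z)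
  have hs : Ideal.span (s : Set (HomogeneousLocalization.Away 𝒜 f)) ≤ locIdeal 𝒜 (Ideal.ofList zs) f := by
    rw [Ideal.span_le]
    intro x hx
    obtain ⟨z, -, rfl⟩ := Finset.mem_image.1 hx
    exact mk_pow_mem_locIdeal 𝒜 hn hf _ (Ideal.subset_span z.2)
  have hIJ : Ideal.ofList zs ≤ J := Ideal.span_le.2 fun z hz => (hzs z hz).2
  have hne : Ideal.span (s : Set (HomogeneousLocalization.Away 𝒜 f)) ≠ ⊤ := fun e =>
    locIdeal_ne_top 𝒜 hJ hn hf hfJ (top_le_iff.1 (e ▸ hs.trans (locIdeal_mono 𝒜 hIJ f)))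
  obtain ⟨Q, hQ⟩ := Ideal.nonempty_minimalPrimes hne
  haveI := hQ.1.1
  obtain ⟨p, hp, hph, hfp, hQp, hiff⟩ := exists_lift 𝒜 hn hf Q
  have hIp : Ideal.ofList zs ≤ p := Ideal.span_le.2 fun z hz =>
    (hiff z (m ⟨z, hz⟩) (hzn ⟨z, hz⟩) (hzm ⟨z, hz⟩)).2
      (hQ.1.2 (Ideal.subset_span (Finset.mem_image.2 ⟨⟨z, hz⟩, by simp, rfl⟩)))
  calc (locIdeal 𝒜 (Ideal.ofList zs) f).height ≤ Q.height :=
        Ideal.height_mono (hQp ▸ locIdeal_mono 𝒜 hIp f)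
    _ ≤ s.card := Ideal.height_le_card_of_mem_minimalPrimes_span_finset hQ
    _ ≤ zs.length := by
        exact_mod_cast Finset.card_image_le.trans ((zs.attach.toFinset_card_le).trans (by simp))

theorem exists_seq {J : Ideal A} (hJ : J.IsHomogeneous 𝒜) (P : Finset (Ideal A))
    (hP : ∀ q ∈ P, q.IsPrime ∧ ¬ J ≤ q ∧ ¬ (HomogeneousIdeal.irrelevant 𝒜).toIdeal ≤ q) (k : ℕ) :
    ∃ zs : List A, zs.length = k ∧
      (∀ z ∈ zs, (∃ n : ℕ, 0 < n ∧ z ∈ 𝒜 n) ∧ z ∈ J ∧ ∀ q ∈ P, z ∉ q) ∧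
      ∀ i (hi : i < zs.length), ∀ p ∈ (Ideal.ofList (zs.take i)).minimalPrimes,
        ¬ J ≤ p → ¬ (HomogeneousIdeal.irrelevant 𝒜).toIdeal ≤ p → zs[i] ∉ p := by
  classical
  induction k with
  | zero => exact ⟨[], rfl, by simp, by simp⟩
  | succ k ih =>
    obtain ⟨zs, hlen, hzs, hav⟩ := ih
    have hfin := (Ideal.ofList zs).finite_minimalPrimes_of_isNoetherianRing
    obtain ⟨z, n, hn, hz, hzJ, hzS⟩ := exists_avoid 𝒜 hJ
      (P ∪ hfin.toFinset.filter fun p => ¬ J ≤ p ∧ ¬ (HomogeneousIdeal.irrelevant 𝒜).toIdeal ≤ p) (by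
        intro q hq
        rcases Finset.mem_union.1 hq with hq | hq
        · exact hP q hq
        · obtain ⟨h1, h2⟩ := Finset.mem_filter.1 hq
          exact ⟨(hfin.mem_toFinset.1 h1).1.1, h2⟩)
    refine ⟨zs ++ [z], by simp [hlen], ?_, ?_⟩
    · intro w hw
      rcases List.mem_append.1 hw with hw | hw
      · exact hzs w hw
      · obtain rfl := List.mem_singleton.1 hw
        exact ⟨⟨n, hn, hz⟩, hzJ, fun q hq => hzS q (Finset.mem_union_left _ hq)⟩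
    · intro i hi p hp h1 h2
      rw [List.length_append, List.length_singleton] at hi
      rcases Nat.lt_succ_iff_lt_or_eq.1 hi with hi' | rfl
      · rw [List.take_append_of_le_length hi'.le] at hp
        rw [List.getElem_append_left hi']
        exact hav i hi' p hp h1 h2
      · rw [List.take_left] at hp
        rw [List.getElem_append_right le_rfl]
        simpa using hzS p (Finset.mem_union_right _ (Finset.mem_filter.2 ⟨hfin.mem_toFinset.2 hp, h1, h2⟩))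

theorem main {J : Ideal A} (hJ : J.IsHomogeneous 𝒜) (h : ℕ) (hJh : HasUniformGeomHeight 𝒜 J h)
    (P : Finset (Ideal A))
    (hP : ∀ q ∈ P, q.IsPrime ∧ ¬ J ≤ q ∧ ¬ (HomogeneousIdeal.irrelevant 𝒜).toIdeal ≤ q) :
    ∃ zs : List A, zs.length = h ∧
      (∀ z ∈ zs, (∃ n : ℕ, 0 < n ∧ z ∈ 𝒜 n) ∧ z ∈ J ∧ ∀ q ∈ P, z ∉ q) ∧
      ∀ (f : A) (n : ℕ), 0 < n → f ∈ 𝒜 n → f ∉ J.radical →
        ∀ j : ℕ, 1 ≤ j → j ≤ h → geomHeight 𝒜 (Ideal.ofList (zs.take j)) f = j := by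
  obtain ⟨zs, hlen, hzs, hav⟩ := exists_seq 𝒜 hJ P hP h
  refine ⟨zs, hlen, hzs, fun f n hn hf hfJ j _ hjh => le_antisymm ?_ ?_⟩
  · refine (height_le 𝒜 hJ (zs.take j) (fun z hz => ⟨(hzs z (List.mem_of_mem_take hz)).1,
      (hzs z (List.mem_of_mem_take hz)).2.1⟩) hn hf hfJ).trans ?_
    simp
  · unfold geomHeight
    rw [Ideal.height_eq_inf_minimalPrimes]
    refine le_iInf₂ fun Q hQ => ?_
    haveI := hQ.1.1
    have := le_height 𝒜 hJ hJh zs (fun z hz => ⟨(hzs z hz).1, (hzs z hz).2.1⟩) hav hn hf hfJ j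
      (by omega) hjh Q hQ.1.1 hQ.1.2
    exact this

end Groth.Agent.CommAlg4.GeomHeight
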