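import Mathlib
import Groth.Prelude
import Groth.Agent.LocCoh.GorensteinCriteria
import Groth.Agent.CAlgH3.Parameters
import Groth.Agent.CAlgH3.Depth
import Groth.Agent.EGA41Lib.FlatRegularSeq

/-!
Annihilators of Cohen–Macaulay quotients of maximal dimension of Gorenstein local rings, modulo regular sequences.
-/
set_option autoImplicit false
set_option linter.all false
set_option maxHeartbeats 1000000

universe u

open IsLocalRing RingTheory.Sequence
open scoped Pointwise

namespace Groth.Agent.CommAlg4.GorensteinLink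

variable {A : Type u} [CommRing A]

/-- Data: `A/I` is Cohen–Macaulay of dimension `dim A`. -/
def IsMaxCM [IsLocalRing A] (I : Ideal A) : Prop :=
  _root_.LocCoh.IsCohenMacaulayModule A (A ⧸ I) ∧ ringKrullDim (A ⧸ I) = ringKrullDim A

section Step

variable [IsLocalRing A] [IsNoetherianRing A] (I : Ideal A) {x : A}

/-- `A/(x)` modulo the image of `I`. -/
noncomputable def quotEquiv : ((A ⧸ Ideal.span {x}) ⧸ I.map (Ideal.Quotient.mk (Ideal.span {x}))) ≃ₐ[A]
    A ⧸ (I ⊔ Ideal.span {x}) :=
  (DoubleQuot.quotQuotEquivQuotSupₐ A (Ideal.span {x}) I).trans (Ideal.quotientEquivAlgOfEq A (sup_comm _ _))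

theorem isMaxCM_map [LocCoh.IsGorensteinLocalRing A] [IsLocalRing (A ⧸ Ideal.span {x})] (hI : IsMaxCM I)
    (hx : x ∈ maximalIdeal A) (hA : IsSMulRegular A x) (hM : IsSMulRegular (A ⧸ I) x) :
    IsMaxCM (I.map (Ideal.Quotient.mk (Ideal.span {x}))) ∧
      ringKrullDim (A ⧸ (I ⊔ Ideal.span {x})) + 1 = ringKrullDim (A ⧸ I) := by
  haveI := CAlgH3.nontrivial_of_cm hI.1
  let e := CAlgH3.quotSMulTopQuotient I x
  have hdim : ringKrullDim (A ⧸ (I ⊔ Ideal.span {x})) + 1 = ringKrullDim (A ⧸ I) := by
    rw [← Module.supportDim_quotient_eq_ringKrullDim, ← Module.supportDim_quotient_eq_ringKrullDim,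
      ← Module.supportDim_eq_of_equiv e, Module.supportDim_quotSMulTop_succ_eq_supportDim hM hx]
  have hdimA : ringKrullDim (A ⧸ Ideal.span {x}) + 1 = ringKrullDim A := by
    rw [← Module.supportDim_quotient_eq_ringKrullDim, ← Module.supportDim_eq_of_equiv (CAlgH3.quotSMulTopSelf x),
      Module.supportDim_quotSMulTop_succ_eq_supportDim hA hx, Module.supportDim_self_eq_ringKrullDim]
  have hcm : _root_.LocCoh.IsCohenMacaulayModule A (A ⧸ (I ⊔ Ideal.span {x})) :=
    (CAlgH3.isCohenMacaulayModule_congr e).1 ((CAlgH3.isCohenMacaulayModule_quotSMulTop_iff hx hM).2 hI.1)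
  haveI : Nontrivial (A ⧸ (I ⊔ Ideal.span {x})) := CAlgH3.nontrivial_of_cm hcm
  haveI : IsLocalRing (A ⧸ (I ⊔ Ideal.span {x})) := .of_surjective' _ Ideal.Quotient.mk_surjective
  haveI : Nontrivial ((A ⧸ Ideal.span {x}) ⧸ I.map (Ideal.Quotient.mk (Ideal.span {x}))) := (quotEquiv I).toEquiv.nontrivial
  haveI : IsLocalRing ((A ⧸ Ideal.span {x}) ⧸ I.map (Ideal.Quotient.mk (Ideal.span {x}))) := .of_surjective' _ Ideal.Quotient.mk_surjective
  haveI := (CAlgH3.isCohenMacaulayLocalRing_quotient_iff (I ⊔ Ideal.span {x})).2 hcm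
  refine ⟨⟨(CAlgH3.isCohenMacaulayLocalRing_quotient_iff _).1
    (CAlgH3.isCohenMacaulayLocalRing_of_ringEquiv (quotEquiv I).symm.toRingEquiv), CAlgH3.withBot_add_one_cancel ?_⟩, hdim⟩
  rw [ringKrullDim_eq_of_ringEquiv (quotEquiv I).toRingEquiv, hdim, hdimA, hI.2]

theorem gorenstein_quot [LocCoh.IsGorensteinLocalRing A] (hx : x ∈ maximalIdeal A) (hA : IsSMulRegular A x) :
    LocCoh.IsGorensteinLocalRing (A ⧸ Ideal.span {x}) :=
  (LocCoh.gorenstein_quotient_iff hx hA).1 inferInstance

end Step

/-- Linear forms on an ideal `I` with `A/I` maximal Cohen–Macaulay over a Gorenstein local ring extend. -/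
theorem exists_eq_mul : ∀ (d : ℕ) (A : Type u) [CommRing A] [LocCoh.IsGorensteinLocalRing A], ringKrullDim A = d →
    ∀ (I : Ideal A), IsMaxCM I → ∀ φ : I →ₗ[A] A, ∃ b : A, ∀ i : I, φ i = b * i := by
  intro d
  induction d with
  | zero =>
    intro A _ _ hd I _ φ
    haveI := LocCoh.hasInjectiveDimensionLT_gorenstein (R := A) hd
    haveI hinj : CategoryTheory.Injective (ModuleCat.of A A) :=
      CategoryTheory.injective_iff_hasInjectiveDimensionLT_one.2 (by simpa using this)
    haveI : Module.Injective A A := Module.injective_module_of_injective_object A A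
    obtain ⟨h, hh⟩ := Module.Injective.out I.subtype I.injective_subtype φ
    exact ⟨h 1, fun i => by rw [← hh i, mul_comm, ← smul_eq_mul, ← map_smul, smul_eq_mul, mul_one]; rfl⟩
  | succ d ih =>
    intro A _ _ hd I hI φ
    haveI := LocCoh.isCohenMacaulayLocalRing_of_gorenstein (R := A)
    haveI := CAlgH3.nontrivial_of_cm hI.1
    obtain ⟨x, hx, hxreg⟩ := CAlgH3.exists_regular_of_one_le_depth (R := A) (M := A × (A ⧸ I)) (by
      rw [CAlgH3.depth_prod]
      have h1 := ((CAlgH3.isCohenMacaulayLocalRing_iff_depth A).1 inferInstance).symm.trans hd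
      have h2 := ((Module.supportDim_quotient_eq_ringKrullDim (R := A) I).symm.trans hI.1).symm.trans (hI.2.trans hd)
      rw [← WithBot.coe_natCast, WithBot.coe_inj] at h1 h2
      rw [h1, h2, min_self]
      exact Nat.one_le_cast.2 (Nat.succ_pos d))
    have hA : IsSMulRegular A x := fun a b h => congrArg Prod.fst (hxreg (a₁ := (a, (0 : A ⧸ I))) (a₂ := (b, 0)) (Prod.ext h rfl))
    have hM : IsSMulRegular (A ⧸ I) x := fun a b h => congrArg Prod.snd (hxreg (a₁ := ((0 : A), a)) (a₂ := (0, b)) (Prod.ext rfl h))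
    haveI := gorenstein_quot hx hA
    let mk := Ideal.Quotient.mk (Ideal.span {x})
    obtain ⟨hI', -⟩ := isMaxCM_map I hI hx hA hM
    have hd' : ringKrullDim (A ⧸ Ideal.span {x}) = d := CAlgH3.withBot_add_one_cancel (by
      rw [← Module.supportDim_quotient_eq_ringKrullDim, ← Module.supportDim_eq_of_equiv (CAlgH3.quotSMulTopSelf x),
        Module.supportDim_quotSMulTop_succ_eq_supportDim hA hx, Module.supportDim_self_eq_ringKrullDim, hd, Nat.cast_add, Nat.cast_one])
    have hIx : ∀ (i : I) (c : A), (i : A) = x * c → c ∈ I := fun i c h => by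
      rw [← Ideal.Quotient.eq_zero_iff_mem]
      refine hM ?_
      show x • (Ideal.Quotient.mk I c) = x • (0 : A ⧸ I)
      rw [smul_zero, Algebra.smul_def, Ideal.Quotient.algebraMap_eq, ← map_mul, ← h, Ideal.Quotient.eq_zero_iff_mem]
      exact i.2
    have hwd : ∀ i j : I, mk i = mk j → mk (φ i) = mk (φ j) := fun i j h => by
      obtain ⟨c, hc⟩ := Ideal.mem_span_singleton.1 (Ideal.Quotient.eq.1 h)
      have : i - j = x • (⟨c, hIx (i - j) c hc⟩ : I) := Subtype.ext hc
      rw [Ideal.Quotient.eq, ← map_sub, this, map_smul, smul_eq_mul]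
      exact Ideal.mem_span_singleton'.2 ⟨_, mul_comm _ _⟩
    choose pre hpre using fun y : I.map mk => (Ideal.mem_map_iff_of_surjective mk Ideal.Quotient.mk_surjective).1 y.2
    haveI : Module.Finite A (I →ₗ[A] A) := inferInstance
    let P : Submodule A (I →ₗ[A] A) := LinearMap.range (LinearMap.toSpanSingleton A _ I.subtype)
    have key : ∀ ψ : I →ₗ[A] A, (∀ i : I, mk (ψ i) = 0) → ψ ∈ Ideal.span {x} • (⊤ : Submodule A (I →ₗ[A] A)) := by
      intro ψ hψ
      choose c hc using fun i => Ideal.mem_span_singleton.1 (Ideal.Quotient.eq_zero_iff_mem.1 (hψ i))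
      let χ : I →ₗ[A] A :=
        { toFun := c
          map_add' := fun i j => hA (show x * c (i + j) = x * (c i + c j) by rw [mul_add, ← hc, ← hc, ← hc, map_add])
          map_smul' := fun r i => hA (show x * c (r • i) = x * (r * c i) by rw [mul_left_comm, ← hc, ← hc, map_smul, smul_eq_mul]) }
      have : ψ = x • χ := LinearMap.ext fun i => hc i
      rw [this]
      exact Submodule.smul_mem_smul (Ideal.mem_span_singleton_self x) trivial
    -- Nakayama
    have htop : (⊤ : Submodule A (I →ₗ[A] A)) ≤ P := by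
      refine Submodule.le_of_le_smul_of_le_jacobson_bot (I := Ideal.span {x}) (Module.Finite.fg_top) ?_ ?_
      · rw [IsLocalRing.jacobson_eq_maximalIdeal ⊥ bot_ne_top]; exact (Ideal.span_singleton_le_iff_mem _).2 hx
      · intro ψ _
        -- apply the case of `A/(x)` to `ψ`
        have hwd' : ∀ i j : I, mk i = mk j → mk (ψ i) = mk (ψ j) := fun i j h => by
          obtain ⟨c, hc⟩ := Ideal.mem_span_singleton.1 (Ideal.Quotient.eq.1 h)
          have : i - j = x • (⟨c, hIx (i - j) c hc⟩ : I) := Subtype.ext hc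
          rw [Ideal.Quotient.eq, ← map_sub, this, map_smul, smul_eq_mul]
          exact Ideal.mem_span_singleton'.2 ⟨_, mul_comm _ _⟩
        let ψ' : I.map mk →ₗ[A ⧸ Ideal.span {x}] A ⧸ Ideal.span {x} :=
          { toFun := fun y => mk (ψ ⟨pre y, (hpre y).1⟩)
            map_add' := fun y z => by
              rw [← map_add, ← map_add]
              refine hwd' _ _ ?_
              simp [(hpre _).2]
            map_smul' := fun r y => by
              obtain ⟨r, rfl⟩ := Ideal.Quotient.mk_surjective r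
              rw [RingHom.id_apply, smul_eq_mul, ← map_mul, ← smul_eq_mul, ← map_smul]
              refine hwd' _ _ ?_
              simp [(hpre _).2, mk] }
        obtain ⟨b, hb⟩ := ih _ hd' _ hI' ψ'
        obtain ⟨b, rfl⟩ := Ideal.Quotient.mk_surjective b
        refine Submodule.mem_sup.2 ⟨_, LinearMap.mem_range_self _ b, ψ - b • I.subtype, key _ fun i => ?_, ?_⟩
        · have h1 := hb ⟨mk i, Ideal.mem_map_of_mem mk i.2⟩
          have h2 := hwd' ⟨pre ⟨mk i, Ideal.mem_map_of_mem mk i.2⟩, (hpre _).1⟩ i (hpre _).2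
          rw [LinearMap.sub_apply, map_sub, sub_eq_zero]
          exact h2.symm.trans (h1.trans (map_mul mk _ _).symm)
        · simp
    obtain ⟨b, hb⟩ := htop (Submodule.mem_top (x := φ))
    exact ⟨b, fun i => by rw [← hb]; rfl⟩

section Colon

variable [LocCoh.IsGorensteinLocalRing A] (I : Ideal A) (hI : IsMaxCM I) {x : A}

include hI in
theorem colon_step (hx : x ∈ maximalIdeal A) (hA : IsSMulRegular A x) :
    (Submodule.annihilator I).map (Ideal.Quotient.mk (Ideal.span {x})) =
      Submodule.annihilator (I.map (Ideal.Quotient.mk (Ideal.span {x}))) := by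
  obtain ⟨d, hd⟩ := LocCoh.exists_dim_eq (R := A)
  refine le_antisymm (Ideal.map_le_iff_le_comap.2 fun a ha => ?_) fun y hy => ?_
  · rw [Ideal.mem_comap, Submodule.mem_annihilator]
    intro y hy
    obtain ⟨i, hi, rfl⟩ := (Ideal.mem_map_iff_of_surjective _ Ideal.Quotient.mk_surjective).1 hy
    rw [smul_eq_mul, ← map_mul, ← smul_eq_mul, Submodule.mem_annihilator.1 ha i hi, map_zero]
  · obtain ⟨a, rfl⟩ := Ideal.Quotient.mk_surjective y
    have h : ∀ i : I, ∃ c, a * i = x * c := fun i => Ideal.mem_span_singleton.1 (Ideal.Quotient.eq_zero_iff_mem.1 (by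
      rw [map_mul, ← smul_eq_mul]; exact Submodule.mem_annihilator.1 hy _ (Ideal.mem_map_of_mem _ i.2)))
    choose c hc using h
    let χ : I →ₗ[A] A :=
      { toFun := c
        map_add' := fun i j => hA (show x * c (i + j) = x * (c i + c j) by rw [mul_add, ← hc, ← hc, ← hc, Submodule.coe_add, mul_add])
        map_smul' := fun r i => hA (show x * c (r • i) = x * (r * c i) by
          rw [mul_left_comm, ← hc, ← hc, SetLike.val_smul, smul_eq_mul, mul_left_comm]) }
    obtain ⟨b, hb⟩ := exists_eq_mul d A hd I hI χ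
    have hmem : a - x * b ∈ Submodule.annihilator I := Submodule.mem_annihilator.2 fun i hi => by
      have := hb ⟨i, hi⟩
      change c ⟨i, hi⟩ = _ at this
      rw [smul_eq_mul, sub_mul, show a * i = x * c ⟨i, hi⟩ from hc ⟨i, hi⟩, this, mul_assoc, sub_self]
    rw [show Ideal.Quotient.mk (Ideal.span {x}) a = Ideal.Quotient.mk _ (a - x * b) from
      Ideal.Quotient.eq.2 (by rw [sub_sub_cancel]; exact Ideal.mem_span_singleton.2 ⟨b, rfl⟩)]
    exact Ideal.mem_map_of_mem _ hmem

end Colon

/-- The main statement. -/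
theorem main : ∀ (rs : List A) [LocCoh.IsGorensteinLocalRing A] (I : Ideal A), IsMaxCM I →
    (∀ r ∈ rs, r ∈ maximalIdeal A) → IsWeaklyRegular A rs →
    ringKrullDim (A ⧸ (I ⊔ Ideal.ofList rs)) + (rs.length : ℕ) ≤ ringKrullDim (A ⧸ I) →
    Submodule.annihilator I ⊔ Ideal.ofList rs = Submodule.colon (Ideal.ofList rs) (I : Set A) ∧
      Submodule.annihilator I ⊓ Ideal.ofList rs = Ideal.ofList rs * Submodule.annihilator I ∧
      IsWeaklyRegular (A ⧸ I) rs ∧ IsWeaklyRegular (A ⧸ Submodule.annihilator I) rs := by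
  intro rs
  induction hn : rs.length generalizing A rs with
  | zero =>
    intro _ I hI _ _ _
    obtain rfl := List.eq_nil_of_length_eq_zero hn
    refine ⟨?_, by simp, .nil _ _, .nil _ _⟩
    rw [Ideal.ofList_nil, sup_bot_eq]
    ext a
    simp [Submodule.mem_colon, Submodule.mem_annihilator]
  | succ n ih =>
    intro _ I hI hmem hreg hdim
    obtain ⟨x, rs, rfl⟩ := List.exists_cons_of_length_eq_add_one hn
    simp only [List.length_cons, Nat.add_right_cancel_iff] at hn
    subst hn
    have hx : x ∈ maximalIdeal A := hmem x List.mem_cons_self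
    obtain ⟨hA, hreg'⟩ := (isWeaklyRegular_cons_iff _ _ _).1 hreg
    haveI := CAlgH3.nontrivial_of_cm hI.1
    haveI := gorenstein_quot hx hA
    let mk := Ideal.Quotient.mk (Ideal.span {x})
    -- `x` is regular on `A/I`
    have hM : IsSMulRegular (A ⧸ I) x := by
      refine CAlgH3.isSMulRegular_of_supportDim_quot hI.1 ?_
      rw [Module.supportDim_eq_of_equiv (CAlgH3.quotSMulTopQuotient I x), Module.supportDim_quotient_eq_ringKrullDim,
        Module.supportDim_quotient_eq_ringKrullDim]
      refine le_trans (add_le_add (?_ : _ ≤ ringKrullDim (A ⧸ (I ⊔ Ideal.ofList (x :: rs))) + (rs.length : ℕ)) le_rfl) ?_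
      · haveI : Nontrivial (A ⧸ (I ⊔ Ideal.span {x})) := Ideal.Quotient.nontrivial_iff.2
          (ne_top_of_le_ne_top (maximalIdeal.isMaximal A).ne_top (sup_le (le_maximalIdeal (Ideal.Quotient.nontrivial_iff.1 inferInstance))
            ((Ideal.span_singleton_le_iff_mem _).2 hx)))
        haveI : IsLocalRing (A ⧸ (I ⊔ Ideal.span {x})) := .of_surjective' _ Ideal.Quotient.mk_surjective
        classical
        refine (ringKrullDim_le_ringKrullDim_quotient_add_encard
          ↑((rs.map (Ideal.Quotient.mk (I ⊔ Ideal.span {x}))).toFinset) ?_).trans (add_le_add ?_ ?_)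
        · intro y hy
          obtain ⟨r, hr, rfl⟩ := List.mem_map.1 (List.mem_toFinset.1 hy)
          rw [IsLocalRing.ringJacobson_eq_maximalIdeal, ← IsLocalRing.map_maximalIdeal_of_surjective _ Ideal.Quotient.mk_surjective]
          exact Ideal.mem_map_of_mem _ (hmem r (List.mem_cons_of_mem _ hr))
        · refine le_of_eq (ringKrullDim_eq_of_ringEquiv ?_)
          refine (Ideal.quotEquivOfEq ?_).trans ((DoubleQuot.quotQuotEquivQuotSup (I ⊔ Ideal.span {x}) (Ideal.ofList rs)).trans
            (Ideal.quotEquivOfEq (by rw [Ideal.ofList_cons, sup_assoc])))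
          rw [Ideal.map_ofList]
          simp [Ideal.ofList]
        · rw [Set.encard_coe_eq_coe_finsetCard]
          exact_mod_cast (List.toFinset_card_le _).trans (le_of_eq (List.length_map _))
      · simpa [List.length_cons, Nat.cast_add, add_assoc] using hdim
    obtain ⟨hI', hdim'⟩ := isMaxCM_map I hI hx hA hM
    have hstep := colon_step I hI hx hA
    have hof : (Ideal.ofList rs).map mk = Ideal.ofList (rs.map mk) := Ideal.map_ofList mk rs
    have hsup : ∀ K : Ideal A, (K.map mk).comap mk = K ⊔ Ideal.span {x} := fun K => by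
      rw [Ideal.comap_map_of_surjective mk Ideal.Quotient.mk_surjective, ← RingHom.ker_eq_comap_bot, Ideal.mk_ker]
    obtain ⟨h1, h2, h3, h4⟩ := ih (rs.map mk) (List.length_map _) (I.map mk) hI' (by
        intro r hr
        obtain ⟨a, ha, rfl⟩ := List.mem_map.1 hr
        rw [← IsLocalRing.map_maximalIdeal_of_surjective mk Ideal.Quotient.mk_surjective]
        exact Ideal.mem_map_of_mem _ (hmem a (List.mem_cons_of_mem _ ha)))
      ((isWeaklyRegular_map_algebraMap_iff (A ⧸ Ideal.span {x}) (A ⧸ Ideal.span {x}) rs).2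
        ((LinearEquiv.isWeaklyRegular_congr (CAlgH3.quotSMulTopSelf x) rs).1 hreg'))
      (CAlgH3.withBot_add_one_le_cancel (by
        rw [ringKrullDim_eq_of_ringEquiv (quotEquiv I).toRingEquiv, hdim', ringKrullDim_eq_of_ringEquiv (((Ideal.quotEquivOfEq
          (show I.map mk ⊔ Ideal.ofList (rs.map mk) = (I ⊔ Ideal.ofList rs).map mk by rw [Ideal.map_sup, hof])).trans
            (DoubleQuot.quotQuotEquivQuotSup _ _)).trans (Ideal.quotEquivOfEq
              (show Ideal.span {x} ⊔ (I ⊔ Ideal.ofList rs) = I ⊔ Ideal.ofList (x :: rs) by rw [Ideal.ofList_cons, sup_left_comm])))]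
        simpa [List.length_cons, List.length_map, Nat.cast_add, add_assoc] using hdim))
    rw [← hstep] at h1 h2 h4
    refine ⟨le_antisymm (sup_le (fun a ha => Submodule.mem_colon.2 fun i hi => ?_) (fun a ha => Submodule.mem_colon.2 fun i hi => ?_)) ?_, le_antisymm ?_ (le_inf Ideal.mul_le_right Ideal.mul_le_left), ?_, ?_⟩
    · rw [Submodule.mem_annihilator.1 ha i hi]; exact zero_mem _
    · exact Ideal.mul_mem_right _ _ ha
    · intro a ha
      have : mk a ∈ (Submodule.annihilator I ⊔ Ideal.ofList rs).map mk := by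
        rw [Ideal.map_sup, hof, h1, Submodule.mem_colon]
        intro y hy
        obtain ⟨i, hi, rfl⟩ := (Ideal.mem_map_iff_of_surjective mk Ideal.Quotient.mk_surjective).1 hy
        have h := Ideal.mem_map_of_mem mk (Submodule.mem_colon.1 ha i hi)
        rw [Ideal.ofList_cons, Ideal.map_sup, Ideal.map_quotient_self, bot_sup_eq, hof] at h
        rwa [smul_eq_mul, ← map_mul]
      rw [← Ideal.mem_comap, hsup] at this
      rwa [Ideal.ofList_cons, sup_comm (Ideal.span {x}), ← sup_assoc]
    · rintro a ⟨haJ, har⟩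
      have h5 : mk a ∈ (Submodule.annihilator I).map mk ⊓ Ideal.ofList (rs.map mk) := by
        refine ⟨Ideal.mem_map_of_mem _ haJ, ?_⟩
        have h := Ideal.mem_map_of_mem mk har
        rwa [Ideal.ofList_cons, Ideal.map_sup, Ideal.map_quotient_self, bot_sup_eq, hof] at h
      rw [h2, ← hof, ← Ideal.map_mul, ← Ideal.mem_comap, hsup] at h5
      obtain ⟨t, ht, y, hy, rfl⟩ := Submodule.mem_sup.1 h5
      obtain ⟨c, rfl⟩ := Ideal.mem_span_singleton.1 hy
      have hxc : x * c ∈ Submodule.annihilator I := by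
        have htJ : t ∈ Submodule.annihilator I :=
          (Ideal.mul_le_right : Ideal.ofList rs * Submodule.annihilator I ≤ Submodule.annihilator I) ht
        exact (Submodule.add_mem_iff_right (Submodule.annihilator I) htJ).1 haJ
      refine add_mem (Ideal.mul_mono_left (by rw [Ideal.ofList_cons]; exact le_sup_right) ht) (Ideal.mul_mem_mul (Ideal.subset_span List.mem_cons_self) ?_)
      exact Submodule.mem_annihilator.2 fun i hi => hA (by
        show x * (c * i) = x * 0
        rw [mul_zero, ← mul_assoc]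
        exact Submodule.mem_annihilator.1 hxc i hi)
    · rw [isWeaklyRegular_cons_iff]
      refine ⟨hM, (LinearEquiv.isWeaklyRegular_congr ((CAlgH3.quotSMulTopQuotient I x).trans (quotEquiv I).symm.toLinearEquiv) rs).2 ?_⟩
      exact (isWeaklyRegular_map_algebraMap_iff (A ⧸ Ideal.span {x}) _ rs).1 h3
    · rw [isWeaklyRegular_cons_iff]
      refine ⟨fun a b h => ?_, (LinearEquiv.isWeaklyRegular_congr ((CAlgH3.quotSMulTopQuotient (Submodule.annihilator I) x).trans
        (quotEquiv (Submodule.annihilator I)).symm.toLinearEquiv) rs).2 ((isWeaklyRegular_map_algebraMap_iff (A ⧸ Ideal.span {x}) _ rs).1 h4)⟩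
      obtain ⟨a, rfl⟩ := Ideal.Quotient.mk_surjective a
      obtain ⟨b, rfl⟩ := Ideal.Quotient.mk_surjective b
      change Submodule.Quotient.mk (x * a) = Submodule.Quotient.mk (x * b) at h
      rw [Submodule.Quotient.eq, ← mul_sub] at h
      rw [Ideal.Quotient.eq, Submodule.mem_annihilator]
      exact fun i hi => hA (by
        show x * ((a - b) * i) = x * 0
        rw [mul_zero, ← mul_assoc]
        exact Submodule.mem_annihilator.1 h i hi)

/-- Regular sequences of the base of a flat local homomorphism. -/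
theorem of_flat {R : Type u} [CommRing R] [IsLocalRing R] [Algebra R A] [LocCoh.IsGorensteinLocalRing A]
    [IsLocalHom (algebraMap R A)] [Module.Flat R A] (I : Ideal A) (hI : ringKrullDim (A ⧸ I) = ringKrullDim A)
    [hcm : LocCoh.IsCohenMacaulayLocalRing (A ⧸ I)] (rs : List R) (hrs : IsRegular R rs) :
    Submodule.annihilator I ⊔ (Ideal.ofList rs).map (algebraMap R A) =
        Submodule.colon ((Ideal.ofList rs).map (algebraMap R A)) (I : Set A) ∧
      Submodule.annihilator I ⊓ (Ideal.ofList rs).map (algebraMap R A) =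
        (Ideal.ofList rs).map (algebraMap R A) * Submodule.annihilator I ∧
      IsWeaklyRegular (A ⧸ I) rs ∧ IsWeaklyRegular (A ⧸ Submodule.annihilator I) rs := by
  have hmem : ∀ r ∈ rs, r ∈ maximalIdeal R := by
    refine fun r hr => le_maximalIdeal (J := Ideal.ofList rs) (fun h => hrs.top_ne_smul ?_) (Ideal.subset_span hr)
    rw [h, Submodule.top_smul]
  have hmem' : ∀ r ∈ rs.map (algebraMap R A), r ∈ maximalIdeal A := fun r hr => by
    obtain ⟨a, ha, rfl⟩ := List.mem_map.1 hr
    exact map_nonunit _ a (hmem a ha)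
  have hreg : IsWeaklyRegular A (rs.map (algebraMap R A)) :=
    (isWeaklyRegular_map_algebraMap_iff A A rs).2 (EGA41Lib.isWeaklyRegular_of_flat A hrs.toIsWeaklyRegular)
  have hAreg : IsRegular A (rs.map (algebraMap R A)) := by
    rw [isRegular_iff]
    refine ⟨hreg, fun h => ?_⟩
    rw [smul_eq_mul, Ideal.mul_top] at h
    exact (maximalIdeal.isMaximal A).ne_top (top_le_iff.1 (h.le.trans (Ideal.span_le.2 hmem')))
  have hdim := ringKrullDim_add_length_eq_ringKrullDim_of_isRegular _ hAreg
  rw [Ideal.map_ofList]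
  obtain ⟨h1, h2, h3, h4⟩ := main (rs.map (algebraMap R A)) I
    ⟨(CAlgH3.isCohenMacaulayLocalRing_quotient_iff I).1 hcm, hI⟩ hmem' hreg
    (by rw [hI, ← hdim]; exact add_le_add (ringKrullDim_le_of_surjective (Ideal.Quotient.factor le_sup_right) (Ideal.Quotient.factor_surjective _)) le_rfl)
  exact ⟨h1, h2, (isWeaklyRegular_map_algebraMap_iff A (A ⧸ I) rs).1 h3, (isWeaklyRegular_map_algebraMap_iff A _ rs).1 h4⟩

end Groth.Agent.CommAlg4.GorensteinLink
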