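import Groth.Agent.ARLib.NoethArt
import Mathlib

/-! Grothendieck / locally noetherian categories transfer along a faithful exact left adjoint. -/
set_option autoImplicit false
set_option linter.style.haveILetI false
set_option backward.isDefEq.respectTransparency false
universe w u₁ u₂
open CategoryTheory CategoryTheory.Limits

namespace Groth.Agent.CommAlg4.GrothTransfer

attribute [local instance] Abelian.hasFiniteBiproducts

variable {B : Type u₂} [Category.{w} B] [Abelian B] [HasColimitsOfSize.{w, w} B]

section InB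

variable {ι : Type w} (s : ι → B)

theorem eq_zero_of_sep
    (hsep : ∀ ⦃X Y : B⦄ (f g : X ⟶ Y), (∀ (i : ι) (h : s i ⟶ X), h ≫ f = h ≫ g) → f = g)
    {X Y : B} (f : X ⟶ Y) (h : ∀ (i : ι) (m : s i ⟶ X), m ≫ f = 0) : f = 0 :=
  hsep f 0 fun i m => by rw [h, comp_zero]

theorem isSeparator_sigma_of_sep
    (hsep : ∀ ⦃X Y : B⦄ (f g : X ⟶ Y), (∀ (i : ι) (h : s i ⟶ X), h ≫ f = h ≫ g) → f = g) :
    IsSeparator (∐ s) := by
  rw [isSeparator_sigma]
  intro X Y f g h
  exact hsep f g fun i m => h (s i) ⟨i⟩ m

theorem isGrothendieck_of_sep [AB5OfSize.{w, w} B]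
    (hsep : ∀ ⦃X Y : B⦄ (f g : X ⟶ Y), (∀ (i : ι) (h : s i ⟶ X), h ≫ f = h ≫ g) → f = g) :
    IsGrothendieckAbelian.{w} B where
  hasSeparator := ⟨⟨_, isSeparator_sigma_of_sep s hsep⟩⟩

variable (X : B)

/-- The index of the canonical exhaustion of `X`. -/
abbrev Idx := Finset (Σ i, (s i ⟶ X))

/-- The subobject spanned by finitely many maps from the generators. -/
noncomputable def span (j : Idx s X) : Subobject X :=
  imageSubobject (biproduct.desc (fun k : Fin j.card => (j.equivFin.symm k).1.2))

theorem factors_span (j : Idx s X) (h : Σ i, (s i ⟶ X)) (hh : h ∈ j) :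
    (span s X j).Factors h.2 := by
  have e : ∀ k : Fin j.card, (span s X j).Factors ((j.equivFin.symm k).1.2) := by
    intro k
    refine Subobject.factors_of_le (P := span s X j) _ le_rfl ?_
    rw [show ((j.equivFin.symm k).1.2) = biproduct.ι _ k ≫
      biproduct.desc (fun k : Fin j.card => (j.equivFin.symm k).1.2) from (biproduct.ι_desc
        (fun k : Fin j.card => (j.equivFin.symm k).1.2) k).symm]
    exact imageSubobject_factors_comp_self
      (f := biproduct.desc (fun k : Fin j.card => (j.equivFin.symm k).1.2)) _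
  have key : ∀ x : {x // x ∈ j}, (span s X j).Factors x.1.2 := fun x => by
    obtain ⟨k, rfl⟩ := j.equivFin.symm.surjective x
    exact e k
  exact key ⟨h, hh⟩

theorem span_mono : Monotone (span s X) := by
  intro j j' h
  refine imageSubobject_le _ ?_ ?_
  · exact biproduct.desc fun k => (span s X j').factorThru _
      (factors_span s X j' _ (h (j.equivFin.symm k).2))
  · refine biproduct.hom_ext' _ _ fun k => ?_
    simp

theorem iSup_span [AB5OfSize.{w, w} B]
    (hsep : ∀ ⦃X Y : B⦄ (f g : X ⟶ Y), (∀ (i : ι) (h : s i ⟶ X), h ≫ f = h ≫ g) → f = g)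
    (T : Subobject X) (hT : ∀ j, span s X j ≤ T) : T = ⊤ := by
  classical
  have h0 : cokernel.π T.arrow = 0 := by
    refine eq_zero_of_sep s hsep _ fun i m => ?_
    exact (ARLib.factors_iff_comp_cokernel_eq_zero T m).1
      (Subobject.factors_of_le _ (hT {⟨i, m⟩}) (factors_span s X _ _ (Finset.mem_singleton_self _)))
  have : Epi T.arrow := Preadditive.epi_of_cokernel_zero h0
  exact Subobject.isIso_arrow_iff_eq_top _ |>.1 (isIso_of_mono_of_epi _)

/-- `X` is the colimit of its spans. -/
theorem isColimit_span [AB5OfSize.{w, w} B]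
    (hsep : ∀ ⦃X Y : B⦄ (f g : X ⟶ Y), (∀ (i : ι) (h : s i ⟶ X), h ≫ f = h ≫ g) → f = g) :
    ∃ c : Cocone ((span_mono s X).functor ⋙ Subobject.underlying), c.pt = X ∧
      Nonempty (IsColimit c) ∧ ∀ (e : c.pt = X) (j : Idx s X), c.ι.app j ≫ eqToHom e = (span s X j).arrow := by
  classical
  have := isGrothendieck_of_sep s hsep
  let F : Idx s X ⥤ MonoOver X := (span_mono s X).functor ⋙ Subobject.representative
  let c : Cocone (F ⋙ MonoOver.forget _) :=
    { pt := Over.mk (𝟙 X)
      ι :=
        { app := fun j => Over.homMk (F.obj j).obj.hom (Category.comp_id _)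
          naturality := fun j j' g => by
            apply Over.OverMorphism.ext
            simp } }
  have hm : Mono c.pt.hom := inferInstanceAs (Mono (𝟙 X))
  have hsup : Subobject.mk c.pt.hom = ⨆ j, Subobject.mk (F.obj j).obj.hom := by
    refine Eq.trans ?_ (iSup_span s X hsep _ fun j => ?_).symm
    · exact Subobject.mk_eq_top_of_isIso (𝟙 X)
    · refine le_trans (le_of_eq ?_) (le_iSup (fun j => Subobject.mk (F.obj j).obj.hom) j)
      exact (Subobject.mk_arrow (span s X j)).symm
  refine ⟨(Over.forget _).mapCocone c, rfl,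
    ⟨IsGrothendieckAbelian.isColimitMapCoconeOfSubobjectMkEqISup F c hsup⟩, fun e j => ?_⟩
  simp [c, F]

theorem isNoetherianObject_span (hsN : ∀ i, IsNoetherianObject (s i)) (j : Idx s X) :
    IsNoetherianObject (span s X j : B) := by
  have := ARLib.isNoetherianObject_biproduct (fun k : Fin j.card => s (j.equivFin.symm k).1.1)
    (fun k => hsN _)
  exact ARLib.isNoetherianObject_of_epi
    (factorThruImageSubobject (biproduct.desc (fun k : Fin j.card => (j.equivFin.symm k).1.2)))

end InB

variable {A : Type u₁} [Category.{w} A] [Abelian A] [HasColimitsOfSize.{w, w} A]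
  (F : A ⥤ B) [F.Faithful] [PreservesFiniteLimits F] [PreservesFiniteColimits F]
  {G : B ⥤ A} (adj : F ⊣ G)

include adj in
theorem ab5 [AB5OfSize.{w, w} B] : AB5OfSize.{w, w} A where
  ofShape J _ _ := by
    have := adj.leftAdjoint_preservesColimits
    have : PreservesColimitsOfShape J F := inferInstance
    have : F.ReflectsIsomorphisms := reflectsIsomorphisms_of_reflectsMonomorphisms_of_reflectsEpimorphisms F
    have : ReflectsFiniteLimits F := ⟨fun K _ _ =>
      reflectsLimitsOfShape_of_reflectsIsomorphisms⟩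
    exact HasExactColimitsOfShape.domain_of_functor J F

theorem map_le_iff {a : A} (S T : Subobject a) :
    Subobject.mk (F.map S.arrow) ≤ Subobject.mk (F.map T.arrow) ↔ S ≤ T := by
  refine ⟨fun h => ?_, fun h => ?_⟩
  · rw [ARLib.le_iff_arrow_comp_cokernel]
    apply F.map_injective
    rw [F.map_comp, F.map_zero, ← Subobject.ofMkLEMk_comp h, Category.assoc, ← F.map_comp,
      cokernel.condition, F.map_zero, comp_zero]
  · exact Subobject.mk_le_mk_of_comm (F.map (Subobject.ofLE S T h))
      (by rw [← F.map_comp, Subobject.ofLE_arrow])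

theorem map_injective {a : A} :
    Function.Injective (fun S : Subobject a => Subobject.mk (F.map S.arrow)) := fun S T h =>
  le_antisymm ((map_le_iff F S T).1 h.le) ((map_le_iff F T S).1 h.ge)

include F in
theorem isNoetherianObject_of_map (a : A) [IsNoetherianObject (F.obj a)] : IsNoetherianObject a := by
  haveI : WellFoundedGT (Subobject (F.obj a)) := (isNoetherianObject.is_iff _).mp ‹_›
  refine (isNoetherianObject.is_iff a).mpr (StrictMono.wellFoundedGT
    (f := fun S : Subobject a => Subobject.mk (F.map S.arrow)) ?_)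
  exact Monotone.strictMono_of_injective (fun S T h => (map_le_iff F S T).2 h) (map_injective F)

variable [PreservesFilteredColimitsOfSize.{w, w} G] [AB5OfSize.{w, w} B] {ι : Type w} (s : ι → B)

include adj in
/-- Every object is exhausted by subobjects living in `G` of spans. -/
theorem exhaust
    (hsep : ∀ ⦃X Y : B⦄ (f g : X ⟶ Y), (∀ (i : ι) (h : s i ⟶ X), h ≫ f = h ≫ g) → f = g) (a : A) :
    ∃ (P : Idx s (F.obj a) ⥤ A) (q : ∀ j, P.obj j ⟶ a)
      (p : ∀ j, P.obj j ⟶ G.obj (span s (F.obj a) j : B)),
      (∀ j, Mono (q j)) ∧ (∀ j, Mono (p j)) ∧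
      (∀ j j' (h : j ≤ j'), P.map (homOfLE h) ≫ q j' = q j) ∧
      (∀ j, p j ≫ G.map (span s (F.obj a) j).arrow = q j ≫ adj.unit.app a) ∧
      ∀ ⦃Y : A⦄ (f : a ⟶ Y), (∀ j, q j ≫ f = 0) → f = 0 := by
  classical
  have := ab5 F adj
  have := adj.rightAdjoint_preservesLimits
  let J := Idx s (F.obj a)
  have : IsFiltered J := inferInstance
  obtain ⟨c, hc, ⟨hcl⟩, hleg⟩ := isColimit_span s (F.obj a) hsep
  let D : J ⥤ A := ((span_mono s (F.obj a)).functor ⋙ Subobject.underlying) ⋙ G
  let α : D ⟶ (Functor.const J).obj (G.obj (F.obj a)) :=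
    { app := fun j => G.map (span s (F.obj a) j).arrow
      naturality := fun j j' g => by
        show G.map _ ≫ G.map _ = G.map _ ≫ 𝟙 _
        rw [← G.map_comp, Category.comp_id]
        exact congrArg G.map (Subobject.underlying_arrow _) }
  let β : (Functor.const J).obj a ⟶ (Functor.const J).obj (G.obj (F.obj a)) :=
    (Functor.const J).map (adj.unit.app a)
  have hα : IsIso (colim.map α) := by
    have hd := isColimitOfPreserves G hcl
    let k := colimit.isColimit ((Functor.const J).obj (G.obj (F.obj a)))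
    let e₁ := (colimit.isColimit D).coconePointUniqueUpToIso hd
    let e₂ := k.coconePointUniqueUpToIso (isColimitConstCocone J (G.obj (F.obj a)))
    have : colim.map α = e₁.hom ≫ G.map (eqToHom hc) ≫ e₂.inv := by
      refine colimit.hom_ext fun j => ?_
      have h1 : colimit.ι D j ≫ e₁.hom = G.map (c.ι.app j) :=
        (colimit.isColimit D).comp_coconePointUniqueUpToIso_hom hd j
      have h2 : 𝟙 (G.obj (F.obj a)) ≫ e₂.inv = colimit.ι ((Functor.const J).obj (G.obj (F.obj a))) j :=
        k.comp_coconePointUniqueUpToIso_inv (isColimitConstCocone J (G.obj (F.obj a))) j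
      rw [reassoc_of% h1, ← G.map_comp_assoc, hleg hc j, colimit.ι_map, ← h2, Category.id_comp]
    rw [this]
    infer_instance
  let P := pullback β α
  have hpb := (IsPullback.of_hasPullback β α).map colim
  have hq : IsIso (colim.map (pullback.fst β α)) := hpb.isIso_fst_of_isIso
  have hαm : Mono α := by
    have : ∀ j, Mono (α.app j) := fun j => inferInstanceAs (Mono (G.map (span s (F.obj a) j).arrow))
    exact NatTrans.mono_of_mono_app α
  have hβm : Mono β := by
    have : ∀ j, Mono (β.app j) := fun j => inferInstanceAs (Mono (adj.unit.app a))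
    exact NatTrans.mono_of_mono_app β
  refine ⟨P, fun j => (pullback.fst β α).app j, fun j => (pullback.snd β α).app j,
    fun j => inferInstance, fun j => inferInstance, fun j j' h => ?_, fun j => ?_, fun Y f hf => ?_⟩
  · exact ((pullback.fst β α).naturality (homOfLE h)).trans (Category.comp_id _)
  · exact (congrArg (fun φ => NatTrans.app φ j) (pullback.condition (f := β) (g := α))).symm
  · let d : colimit ((Functor.const J).obj a) ⟶ Y :=
      colimit.desc _ { pt := Y, ι := { app := fun _ => f } }
    have h0 : colim.map (pullback.fst β α) ≫ d = 0 := by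
      refine colimit.hom_ext fun j => ?_
      rw [← Category.assoc, colimit.ι_map, Category.assoc, colimit.ι_desc, comp_zero]
      exact hf j
    have hd : d = 0 := (cancel_epi (colim.map (pullback.fst β α))).1 (h0.trans comp_zero.symm)
    have : colimit.ι ((Functor.const J).obj a) (∅ : J) ≫ d = f := colimit.ι_desc _ _
    rw [← this, hd, comp_zero]

include adj in
theorem forward
    (hsN : ∀ i, IsNoetherianObject (s i))
    (hsep : ∀ ⦃X Y : B⦄ (f g : X ⟶ Y), (∀ (i : ι) (h : s i ⟶ X), h ≫ f = h ≫ g) → f = g)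
    (a : A) [IsNoetherianObject a] : IsNoetherianObject (F.obj a) := by
  classical
  obtain ⟨P, q, p, hqm, hpm, hcomp, hfac, hjoint⟩ := exhaust F adj s hsep a
  let T : Idx s (F.obj a) → Subobject a := fun j => Subobject.mk (q j)
  have hT : Monotone T := fun j j' h => Subobject.mk_le_mk_of_comm _ (hcomp j j' h)
  obtain ⟨M, ⟨j₀, rfl⟩, hmax⟩ := (wellFounded_gt (α := Subobject a)).has_min (Set.range T)
    ⟨_, ⟨∅, rfl⟩⟩
  have hall : ∀ j, T j ≤ T j₀ := fun j => by
    have h1 : T j₀ ≤ T (j₀ ∪ j) := hT Finset.subset_union_left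
    have h2 : T j₀ = T (j₀ ∪ j) := by
      rcases h1.lt_or_eq with h | h
      · exact absurd h (hmax _ ⟨_, rfl⟩)
      · exact h
    exact h2 ▸ hT Finset.subset_union_right
  have : Epi (q j₀) := by
    refine Preadditive.epi_of_cokernel_zero (hjoint _ fun j => ?_)
    rw [← Subobject.ofMkLEMk_comp (hall j), Category.assoc, cokernel.condition, comp_zero]
  have := isIso_of_mono_of_epi (q j₀)
  have hsplit : ((adj.homEquiv _ _).symm (inv (q j₀) ≫ p j₀)) ≫ (span s (F.obj a) j₀).arrow = 𝟙 _ := by
    rw [← adj.homEquiv_naturality_right_symm, Category.assoc, hfac, IsIso.inv_hom_id_assoc]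
    rw [← adj.homEquiv_id, Equiv.symm_apply_apply]
  have : Epi (span s (F.obj a) j₀).arrow := by
    exact epi_of_epi_fac hsplit
  have := isNoetherianObject_span s (F.obj a) hsN j₀
  exact ARLib.isNoetherianObject_of_epi (span s (F.obj a) j₀).arrow

include adj in
/-- The piece maps monomorphically into the span. -/
theorem isNoetherianObject_piece (hsN : ∀ i, IsNoetherianObject (s i)) (a : A) (j : Idx s (F.obj a))
    {Pj : A} (q : Pj ⟶ a) [Mono q] (p : Pj ⟶ G.obj (span s (F.obj a) j : B))
    (h : p ≫ G.map (span s (F.obj a) j).arrow = q ≫ adj.unit.app a) : IsNoetherianObject Pj := by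
  have h1 : (adj.homEquiv _ _).symm p ≫ (span s (F.obj a) j).arrow = F.map q := by
    rw [← adj.homEquiv_naturality_right_symm, h]
    rw [adj.homEquiv_naturality_left_symm, ← adj.homEquiv_id, Equiv.symm_apply_apply, Category.comp_id]
  have : Mono ((adj.homEquiv _ _).symm p) := mono_of_mono_fac h1
  have := isNoetherianObject_span s (F.obj a) hsN j
  have := isNoetherianObject_of_mono ((adj.homEquiv _ _).symm p)
  exact isNoetherianObject_of_map F Pj

include adj in
/-- A small separating family made of the pieces. -/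
theorem small_family
    (hsep : ∀ ⦃X Y : B⦄ (f g : X ⟶ Y), (∀ (i : ι) (h : s i ⟶ X), h ≫ f = h ≫ g) → f = g) :
    ∃ (κ : Type w) (t : κ → A), ∀ ⦃X Y : A⦄ (f : X ⟶ Y),
      (∀ (k : κ) (j : Idx s (F.obj X)) (Pj : A) (q : Pj ⟶ X) (p : Pj ⟶ G.obj (span s (F.obj X) j : B)),
        Mono q → p ≫ G.map (span s (F.obj X) j).arrow = q ≫ adj.unit.app X → (t k ≅ Pj) → q ≫ f = 0) →
      f = 0 := by
  classical
  have hB : WellPowered.{w} B := wellPowered_of_isSeparator (∐ s) (isSeparator_sigma_of_sep s hsep)
  have hA : ∀ a : A, Small.{w} (Subobject a) := fun a => small_of_injective (map_injective F (a := a))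
  let K₀ := Σ (n : ℕ) (g : Fin n → ι), Shrink.{w} (Subobject (⨁ fun k => s (g k)))
  let b : K₀ → B := fun k => cokernel ((equivShrink _).symm k.2.2).arrow
  refine ⟨Σ k : K₀, Shrink.{w} (Subobject (G.obj (b k))),
    fun k => (((equivShrink _).symm k.2 : Subobject (G.obj (b k.1))) : A), fun X Y f hf => ?_⟩
  obtain ⟨P, q, p, hqm, hpm, hcomp, hfac, hjoint⟩ := exhaust F adj s hsep X
  refine hjoint f fun j => ?_
  let g : Fin j.card → ι := fun k => (j.equivFin.symm k).1.1
  let d : (⨁ fun k => s (g k)) ⟶ (span s (F.obj X) j : B) :=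
    factorThruImageSubobject (biproduct.desc (fun k : Fin j.card => (j.equivFin.symm k).1.2))
  have : Epi d := inferInstanceAs (Epi (factorThruImageSubobject _))
  let S : Subobject (⨁ fun k => s (g k)) := kernelSubobject d
  let k₀ : K₀ := ⟨j.card, g, equivShrink _ S⟩
  have e : b k₀ ≅ (span s (F.obj X) j : B) := by
    refine (eqToIso (congrArg (fun T : Subobject (⨁ fun k => s (g k)) => cokernel T.arrow)
      ((equivShrink _).symm_apply_apply S))) ≪≫ ?_
    exact cokernelIsoOfEq (kernelSubobject_arrow d).symm ≪≫ cokernelEpiComp _ _ ≪≫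
      (cokernelIsCokernel (kernel.ι d)).coconePointUniqueUpToIso
        (Abelian.epiIsCokernelOfKernel (KernelFork.ofι (kernel.ι d) (kernel.condition d)) (kernelIsKernel d))
  let m : P.obj j ⟶ G.obj (b k₀) := p j ≫ (G.mapIso e).inv
  have : Mono m := mono_comp _ _
  refine hf ⟨k₀, equivShrink _ (Subobject.mk m)⟩ j (P.obj j) (q j) (p j) (hqm j) (hfac j) ?_
  exact eqToIso (congrArg (fun T : Subobject (G.obj (b k₀)) => (T : A))
    ((equivShrink _).symm_apply_apply _)) ≪≫ Subobject.underlyingIso m

end Groth.Agent.CommAlg4.GrothTransfer
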