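import Groth.Agent.CommAlg4.HilbSlice
import Mathlib

open MvPolynomial W4c1hilbpn
open scoped Classical
open Groth.Agent.CommAlg4.HilbPiece Groth.Agent.CommAlg4.HilbSplit Groth.Agent.CommAlg4.StairDual
open Groth.Agent.CommAlg4.HilbSlice

namespace Groth.Agent.CommAlg4.HilbDim

universe u v
variable {σ : Type v} [Fintype σ] [Nontrivial σ] {k : Type u} [Field k] {I : Ideal (MvPolynomial σ k)}
variable (hI : IsMonomial I) [Module.Finite k (MvPolynomial σ k ⧸ I)]

omit [Nontrivial σ] [Module.Finite k (MvPolynomial σ k ⧸ I)] in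
include hI in
lemma tgt_ext {φ ψ : Tgt I}
    (h : ∀ β : σ →₀ ℕ, ∀ hβ : β ∈ exps I, φ ⟨monomial β 1, hβ⟩ = ψ ⟨monomial β 1, hβ⟩) : φ = ψ := by
  apply LinearMap.ext
  intro p
  have hp : p = ∑ β ∈ p.1.support.attach,
      (C (coeff β.1 p.1) : MvPolynomial σ k) • (⟨monomial β.1 1, hI p.1 p.2 β.1 β.2⟩ : I) := by
    apply Subtype.ext
    rw [AddSubmonoidClass.coe_finsetSum]
    conv_lhs => rw [p.1.as_sum, ← Finset.sum_attach]
    exact Finset.sum_congr rfl fun β _ => by simp [C_mul_monomial]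
  rw [hp, map_sum, map_sum]
  refine Finset.sum_congr rfl fun β _ => ?_
  rw [map_smul, map_smul]
  exact congrArg _ (h β.1 (hI p.1 p.2 β.1 β.2))

/-- projection to a multidegree -/
noncomputable def Pr (α : σ → ℤ) : Tgt I →ₗ[k] Tgt I where
  toFun φ := (comp α hI φ : Tgt I)
  map_add' φ ψ := tgt_ext hI fun β hβ => by
    rw [comp_apply, LinearMap.add_apply, LinearMap.add_apply, comp_apply, comp_apply]
    split_ifs <;> simp [add_smul]
  map_smul' r φ := tgt_ext hI fun β hβ => by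
    rw [comp_apply, RingHom.id_apply, LinearMap.smul_apply, LinearMap.smul_apply, comp_apply]
    split_ifs <;> simp [smul_smul]

lemma Pr_of_mem {α α' : σ → ℤ} {φ : Tgt I} (hφ : φ ∈ tPiece I α') :
    Pr hI α φ = if α = α' then φ else 0 := by
  refine tgt_ext hI fun β hβ => ?_
  show (comp α hI φ : Tgt I) _ = _
  rw [comp_apply]
  by_cases e : α = α'
  · subst e
    rw [if_pos rfl]
    by_cases hp : ∀ i, 0 ≤ vec α β i
    · have h1 := (hφ β hβ).1 hp
      rw [shift_eq, Submodule.mem_span_singleton] at h1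
      obtain ⟨r, hr⟩ := h1
      rw [← hr]
      split_ifs with h
      · rw [map_smul, π_mk, coeff_monomial, if_pos rfl, smul_eq_mul, mul_one]
      · have : toF (vec α β) ∈ exps I := by
          by_contra hc; exact h ⟨hp, hc⟩
        rw [show Ideal.Quotient.mk I (monomial (toF (vec α β)) (1 : k)) = 0 from
          Ideal.Quotient.eq_zero_iff_mem.mpr this, smul_zero]
    · rw [dif_neg (fun h => hp h.1)]
      push_neg at hp
      exact ((hφ β hβ).2 hp).symm
  · rw [if_neg e, LinearMap.zero_apply]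
    split_ifs with h
    · by_cases hp : ∀ i, 0 ≤ vec α' β i
      · have h1 := (hφ β hβ).1 hp
        rw [shift_eq, Submodule.mem_span_singleton] at h1
        obtain ⟨r, hr⟩ := h1
        rw [← hr, map_smul, π_mk, coeff_monomial, if_neg, smul_zero, zero_smul]
        intro he
        apply e
        funext i
        have := congrArg (fun g : σ →₀ ℕ => g i) he
        simp only [toF_apply, vec] at this hp h
        have := hp i; have := h.1 i
        omega
      · push_neg at hp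
        rw [(hφ β hβ).2 hp, map_zero, zero_smul]
    · rfl

set_option backward.isDefEq.respectTransparency false in
include hI in
lemma finrank_biSup (S : Finset (σ → ℤ)) [Module.Finite k (Tgt I)] :
    Module.finrank k ↥(⨆ α ∈ S, tPiece I α) = ∑ α ∈ S, Module.finrank k ↥(tPiece I α) := by
  let Φ : (∀ α : S, tPiece I α.1) →ₗ[k] Tgt I :=
    ∑ α : S, (tPiece I α.1).subtype.comp (LinearMap.proj α)
  have hΦ : ∀ f : ∀ α : S, tPiece I α.1, Φ f = ∑ α : S, (f α : Tgt I) := fun f => by simp [Φ]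
  have hPr : ∀ f : ∀ α : S, tPiece I α.1, ∀ β : S, Pr hI β.1 (Φ f) = (f β : Tgt I) := by
    intro f β
    rw [hΦ, map_sum, Finset.sum_eq_single β]
    · rw [Pr_of_mem hI (f β).2, if_pos rfl]
    · intro α _ hα
      rw [Pr_of_mem hI (f α).2, if_neg fun e => hα (Subtype.ext e.symm)]
    · simp
  have hinj : Function.Injective Φ := fun f g h => funext fun β => Subtype.ext (by rw [← hPr f β, h, hPr g β])
  have hr : LinearMap.range Φ = ⨆ α ∈ S, tPiece I α := by
    refine le_antisymm ?_ (iSup₂_le fun α hα φ hφ => ?_)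
    · rintro _ ⟨f, rfl⟩
      rw [hΦ]
      exact Submodule.sum_mem _ fun α _ =>
        Submodule.mem_iSup_of_mem α.1 (Submodule.mem_iSup_of_mem α.2 (f α).2)
    · refine ⟨Pi.single ⟨α, hα⟩ ⟨φ, hφ⟩, ?_⟩
      rw [hΦ, Finset.sum_eq_single ⟨α, hα⟩]
      · simp
      · intro b _ hb; simp [hb]
      · simp
  haveI : ∀ α : S, Module.Free k ↥(tPiece I α.1) := fun α =>
    @Module.Free.of_divisionRing k (tPiece I α.1) _ (tPiece I α.1).addCommGroup (tPiece I α.1).module
  haveI : ∀ α : S, Module.Finite k ↥(tPiece I α.1) := fun α => inferInstance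
  rw [← hr, LinearMap.finrank_range_of_inj hinj, Module.finrank_pi_fintype k,
    Finset.sum_coe_sort S fun α => Module.finrank k ↥(tPiece I α)]

omit [Nontrivial σ] in
lemma finite_tgt : Module.Finite k (Tgt I) := by
  obtain ⟨G, hG⟩ := (IsNoetherian.noetherian I : I.FG)
  let ev : Tgt I →ₗ[k] ({g // g ∈ G} → MvPolynomial σ k ⧸ I) :=
    { toFun := fun φ g => φ ⟨g.1, hG ▸ Submodule.subset_span g.2⟩
      map_add' := fun φ ψ => rfl
      map_smul' := fun r φ => by funext g; simp }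
  refine Module.Finite.of_injective ev fun φ ψ h => ?_
  apply LinearMap.ext
  rintro ⟨p, hp⟩
  have hp' : p ∈ Submodule.span (MvPolynomial σ k) (G : Set (MvPolynomial σ k)) := by rw [hG]; exact hp
  suffices H : ∃ hp : p ∈ I, φ ⟨p, hp⟩ = ψ ⟨p, hp⟩ by exact H.2
  refine Submodule.span_induction (p := fun q _ => ∃ hq : q ∈ I, φ ⟨q, hq⟩ = ψ ⟨q, hq⟩)
    (fun q hq => ⟨hG ▸ Submodule.subset_span hq, congrFun h ⟨q, hq⟩⟩) ⟨I.zero_mem, ?_⟩ ?_ ?_ hp'
  · rw [show (⟨0, I.zero_mem⟩ : I) = 0 from rfl, map_zero, map_zero]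
  · rintro x y - - ⟨hx, ex⟩ ⟨hy, ey⟩
    refine ⟨I.add_mem hx hy, ?_⟩
    rw [show (⟨x + y, I.add_mem hx hy⟩ : I) = ⟨x, hx⟩ + ⟨y, hy⟩ from rfl, map_add, map_add, ex, ey]
  · rintro r x - ⟨hx, ex⟩
    refine ⟨I.mul_mem_left r hx, ?_⟩
    rw [show (⟨r • x, I.mul_mem_left r hx⟩ : I) = r • (⟨x, hx⟩ : I) from rfl, map_smul, map_smul, ex]

include hI in
lemma finite_ne_bot : {α : σ → ℤ | tPiece I α ≠ ⊥}.Finite := by
  haveI := finite_tgt (k := k) (I := I)
  by_contra h
  obtain ⟨S, hS, hc⟩ := Set.Infinite.exists_subset_card_eq h (Module.finrank k (Tgt I) + 1)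
  have h1 := finrank_biSup hI S
  have h2 : Module.finrank k ↥(⨆ α ∈ S, tPiece I α) ≤ Module.finrank k (Tgt I) := Submodule.finrank_le _
  have h3 : S.card ≤ ∑ α ∈ S, Module.finrank k ↥(tPiece I α) := by
    rw [Finset.card_eq_sum_ones]
    refine Finset.sum_le_sum fun α hα => ?_
    have := hS hα
    exact Submodule.one_le_finrank_iff.mpr this
  omega

/-- the finite set of multidegrees which occur -/
noncomputable def A : Finset (σ → ℤ) := (finite_ne_bot hI).toFinset

lemma mem_A {α : σ → ℤ} : α ∈ A hI ↔ tPiece I α ≠ ⊥ := Set.Finite.mem_toFinset _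

/-- total dimension of the pieces with a property -/
noncomputable def Dim (S : (σ → ℤ) → Prop) : ℕ :=
  ∑ α ∈ (A hI).filter S, Module.finrank k ↥(tPiece I α)

lemma finrank_iSup (S : (σ → ℤ) → Prop) :
    Module.finrank k ↥(⨆ α : {α : σ → ℤ // S α}, tPiece I α.1) = Dim hI S := by
  haveI := finite_tgt (k := k) (I := I)
  rw [Dim, ← finrank_biSup hI]
  suffices h : (⨆ α : {α : σ → ℤ // S α}, tPiece I α.1) = ⨆ α ∈ (A hI).filter S, tPiece I α by rw [h]
  refine le_antisymm (iSup_le fun α => ?_) (iSup₂_le fun α hα => ?_)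
  · by_cases h : tPiece I α.1 = ⊥
    · rw [h]; exact bot_le
    · exact le_iSup₂_of_le α.1 (Finset.mem_filter.mpr ⟨(mem_A hI).mpr h, α.2⟩) le_rfl
  · exact le_iSup_of_le ⟨α, (Finset.mem_filter.mp hα).2⟩ le_rfl

lemma finrank_tgt : Module.finrank k (Tgt I) = Dim hI (fun _ => True) := by
  rw [← finrank_iSup hI, ← finrank_top, ← iSup_tPiece_eq_top hI]
  suffices h : (⨆ α : σ → ℤ, tPiece I α) = ⨆ α : {α : σ → ℤ // True}, tPiece I α.1 by rw [h]
  exact le_antisymm (iSup_le fun α => le_iSup_of_le ⟨α, trivial⟩ le_rfl)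
    (iSup_le fun α => le_iSup (fun β => tPiece I β) α.1)

lemma finrank_sigPiece (N : Set σ) :
    Module.finrank k ↥(sigPiece I N) = Dim hI (fun α => ∀ i, α i < 0 ↔ i ∈ N) := finrank_iSup hI _

omit [Nontrivial σ] in
include hI in
lemma finrank_quot : Module.finrank k (MvPolynomial σ k ⧸ I) = (finite_compl hI).toFinset.card := by
  set D := (finite_compl hI).toFinset
  have li : LinearIndependent k (fun δ : D => Ideal.Quotient.mk I (monomial δ.1 (1 : k))) := by
    rw [linearIndependent_iff']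
    intro s c hs δ hδ
    have hδ' : δ.1 ∉ exps I := (Set.Finite.mem_toFinset (finite_compl hI)).mp δ.2
    have := congrArg (π hI hδ') hs
    rw [map_sum, map_zero] at this
    rw [Finset.sum_eq_single δ] at this
    · rw [map_smul, π_mk, coeff_monomial, if_pos rfl, smul_eq_mul, mul_one] at this; exact this
    · intro x _ hx
      rw [map_smul, π_mk, coeff_monomial, if_neg (fun h => hx (Subtype.ext h)), smul_zero]
    · exact fun h => absurd hδ h
  have hspan : Submodule.span k (Set.range fun δ : D => Ideal.Quotient.mk I (monomial δ.1 (1 : k))) = ⊤ := by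
    rw [eq_top_iff]
    intro v _
    rw [expand_mk hI v]
    exact Submodule.sum_mem _ fun δ _ => Submodule.smul_mem _ _ (Submodule.subset_span ⟨δ, rfl⟩)
  rw [← finrank_top (R := k) (M := MvPolynomial σ k ⧸ I), ← hspan, finrank_span_eq_card li]
  simp

section three

variable {J : Ideal (MvPolynomial (Fin 3) k)} (hJ : IsMonomial J)
  [Module.Finite k (MvPolynomial (Fin 3) k ⧸ J)] (ρ : Equiv.Perm (Fin 3))

include hJ in
theorem slice_eq (i j : ℕ) :
    Module.finrank k ↥(P (I := J) ρ (i : ℤ) (j : ℤ)) =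
      st J ρ i j + Module.finrank k ↥(P (I := J) ρ (-(i : ℤ) - 1) (-(j : ℤ) - 1)) := by
  obtain ⟨N, hN⟩ := stair ρ hJ
  have := finrank_sub (k := k) hN (i : ℤ) (j : ℤ)
  rw [← finrank_P ρ hJ, ← finrank_P ρ hJ] at this
  have e1 : cb (st J ρ) (i : ℤ) (j : ℤ) = st J ρ i j := by simp [cb]
  have e2 : cb (st J ρ) (-(i : ℤ) - 1) (-(j : ℤ) - 1) = 0 := by
    rw [cb, if_neg (by omega)]
  omega

include hJ in
theorem sigPiece_axis :
    Module.finrank k ↥(sigPiece J {ρ 2}) =
      Module.finrank k ↥(sigPiece J ({ρ 2}ᶜ : Set (Fin 3))) +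
        Module.finrank k (MvPolynomial (Fin 3) k ⧸ J) := by
  obtain ⟨N, hN⟩ := exists_bound hJ
  set R : ℕ := N + (A hJ).sup (fun α => (α (ρ 0)).natAbs + (α (ρ 1)).natAbs) + 1 with hR
  have hRA : ∀ α ∈ A hJ, (α (ρ 0)).natAbs < R ∧ (α (ρ 1)).natAbs < R := by
    intro α hα
    have := Finset.le_sup (f := fun α : Fin 3 → ℤ => (α (ρ 0)).natAbs + (α (ρ 1)).natAbs) hα
    omega
  set box := Finset.range R ×ˢ Finset.range R with hbox
  have hforall : ∀ Q : Fin 3 → Prop, (∀ x, Q x) ↔ Q (ρ 0) ∧ Q (ρ 1) ∧ Q (ρ 2) := fun Q =>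
    ⟨fun h => ⟨h _, h _, h _⟩, fun ⟨a, b, c⟩ x => by
      obtain ⟨y, rfl⟩ := ρ.surjective x
      fin_cases y <;> assumption⟩
  have hA : ∀ α ∈ A hJ, ¬ (∀ x, 0 ≤ α x) ∧ ¬ (∀ x, α x < 0) := fun α hα =>
    ⟨fun h => (mem_A hJ).mp hα (tPiece_eq_bot hJ (Or.inl h)),
      fun h => (mem_A hJ).mp hα (tPiece_eq_bot hJ (Or.inr h))⟩
  have hp : Dim hJ (fun α => ∀ x, α x < 0 ↔ x ∈ ({ρ 2} : Set (Fin 3))) =
      ∑ p ∈ box, Dim hJ (fun α => α (ρ 0) = (p.1 : ℤ) ∧ α (ρ 1) = (p.2 : ℤ)) := by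
    have e : ∀ α ∈ A hJ, (∀ x, α x < 0 ↔ x ∈ ({ρ 2} : Set (Fin 3))) ↔ (0 ≤ α (ρ 0) ∧ 0 ≤ α (ρ 1)) := by
      intro α hα
      have h := (hA α hα).1
      rw [hforall] at h
      rw [hforall]
      simp only [Set.mem_singleton_iff, ρ.injective.eq_iff, Fin.reduceEq, iff_false, iff_true, not_lt]
      constructor
      · exact fun h => ⟨h.1, h.2.1⟩
      · exact fun hh => ⟨hh.1, hh.2, by by_contra hc; exact h ⟨hh.1, hh.2, by omega⟩⟩
    have e' : Dim hJ (fun α => ∀ x, α x < 0 ↔ x ∈ ({ρ 2} : Set (Fin 3))) =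
        Dim hJ (fun α => 0 ≤ α (ρ 0) ∧ 0 ≤ α (ρ 1)) := by
      unfold Dim
      refine Finset.sum_congr (Finset.ext fun α => ?_) fun _ _ => rfl
      simp only [Finset.mem_filter]
      exact and_congr_right fun h => e α h
    rw [e']
    simp only [Dim]
    rw [← Finset.sum_fiberwise_of_maps_to
      (g := fun α : Fin 3 → ℤ => ((α (ρ 0)).toNat, (α (ρ 1)).toNat)) (t := box)]
    · refine Finset.sum_congr rfl fun p _ => Finset.sum_congr ?_ fun _ _ => rfl
      ext α
      simp only [Finset.mem_filter, Prod.ext_iff]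
      constructor
      · rintro ⟨⟨ha, h0, h1⟩, h2, h3⟩; exact ⟨ha, by omega, by omega⟩
      · rintro ⟨ha, h0, h1⟩; exact ⟨⟨ha, by omega, by omega⟩, by omega, by omega⟩
    · intro α hα
      have hm : α ∈ A hJ := (@Finset.mem_filter _ _ (fun a => Classical.propDecidable _) _ _).mp hα |>.1
      have := hRA α hm
      simp only [hbox, Finset.mem_product, Finset.mem_range]
      omega
  have hn : Dim hJ (fun α => ∀ x, α x < 0 ↔ x ∈ ({ρ 2}ᶜ : Set (Fin 3))) =
      ∑ p ∈ box, Dim hJ (fun α => α (ρ 0) = -(p.1 : ℤ) - 1 ∧ α (ρ 1) = -(p.2 : ℤ) - 1) := by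
    have e : ∀ α ∈ A hJ, (∀ x, α x < 0 ↔ x ∈ ({ρ 2}ᶜ : Set (Fin 3))) ↔ (α (ρ 0) < 0 ∧ α (ρ 1) < 0) := by
      intro α hα
      have h := (hA α hα).2
      rw [hforall] at h
      rw [hforall]
      simp only [Set.mem_compl_iff, Set.mem_singleton_iff, ρ.injective.eq_iff, Fin.reduceEq,
        not_false_eq_true, not_true_eq_false, iff_false, iff_true, not_lt]
      constructor
      · exact fun h => ⟨h.1, h.2.1⟩
      · exact fun hh => ⟨hh.1, hh.2, by by_contra hc; exact h ⟨hh.1, hh.2, by omega⟩⟩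
    have e' : Dim hJ (fun α => ∀ x, α x < 0 ↔ x ∈ ({ρ 2}ᶜ : Set (Fin 3))) =
        Dim hJ (fun α => α (ρ 0) < 0 ∧ α (ρ 1) < 0) := by
      unfold Dim
      refine Finset.sum_congr (Finset.ext fun α => ?_) fun _ _ => rfl
      simp only [Finset.mem_filter]
      exact and_congr_right fun h => e α h
    rw [e']
    simp only [Dim]
    rw [← Finset.sum_fiberwise_of_maps_to
      (g := fun α : Fin 3 → ℤ => ((-α (ρ 0) - 1).toNat, (-α (ρ 1) - 1).toNat)) (t := box)]
    · refine Finset.sum_congr rfl fun p _ => Finset.sum_congr ?_ fun _ _ => rfl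
      ext α
      simp only [Finset.mem_filter, Prod.ext_iff]
      constructor
      · rintro ⟨⟨ha, h0, h1⟩, h2, h3⟩; exact ⟨ha, by omega, by omega⟩
      · rintro ⟨ha, h0, h1⟩; exact ⟨⟨ha, by omega, by omega⟩, by omega, by omega⟩
    · intro α hα
      have hm : α ∈ A hJ := (@Finset.mem_filter _ _ (fun a => Classical.propDecidable _) _ _).mp hα |>.1
      have := hRA α hm
      simp only [hbox, Finset.mem_product, Finset.mem_range]
      omega
  have hd : Module.finrank k (MvPolynomial (Fin 3) k ⧸ J) = ∑ p ∈ box, st J ρ p.1 p.2 := by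
    rw [finrank_quot hJ]
    have : (finite_compl hJ).toFinset =
        (box.sigma fun p => Finset.range (st J ρ p.1 p.2)).image (fun x => pt ρ x.1.1 x.1.2 x.2) := by
      ext δ
      simp only [Set.Finite.mem_toFinset, Set.mem_setOf_eq, Finset.mem_image, Finset.mem_sigma,
        Finset.mem_range, Sigma.exists, hbox, Finset.mem_product, Prod.exists]
      constructor
      · intro hδ
        have := hN δ hδ (ρ 0); have := hN δ hδ (ρ 1)
        refine ⟨δ (ρ 0), δ (ρ 1), δ (ρ 2), ⟨⟨by omega, by omega⟩, ?_⟩, pt_eta ρ δ⟩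
        by_contra hc
        apply hδ
        rw [← pt_eta ρ δ, mem_exps_iff ρ hJ]; omega
      · rintro ⟨a, b, l, ⟨-, hl⟩, rfl⟩
        rw [mem_exps_iff ρ hJ]; omega
    rw [this, Finset.card_image_of_injective, Finset.card_sigma]
    · simp
    · rintro ⟨⟨a, b⟩, l⟩ ⟨⟨a', b'⟩, l'⟩ h
      have e0 := congrArg (fun g : Fin 3 →₀ ℕ => g (ρ 0)) h
      have e1 := congrArg (fun g : Fin 3 →₀ ℕ => g (ρ 1)) h
      have e2 := congrArg (fun g : Fin 3 →₀ ℕ => g (ρ 2)) h
      simp at e0 e1 e2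
      subst e0 e1 e2; rfl
  rw [finrank_sigPiece hJ, finrank_sigPiece hJ, hp, hn, hd, ← Finset.sum_add_distrib]
  refine Finset.sum_congr rfl fun p _ => ?_
  rw [← finrank_iSup hJ, ← finrank_iSup hJ, add_comm]
  exact slice_eq hJ ρ p.1 p.2

include hJ in
theorem tgt_mod_two :
    Module.finrank k (Tgt J) % 2 = Module.finrank k (MvPolynomial (Fin 3) k ⧸ J) % 2 := by
  have hax : ∀ i : Fin 3, Module.finrank k ↥(sigPiece J {i}) =
      Module.finrank k ↥(sigPiece J ({i}ᶜ : Set (Fin 3))) + Module.finrank k (MvPolynomial (Fin 3) k ⧸ J) := by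
    intro i
    have := sigPiece_axis hJ (Equiv.swap i 2)
    rw [Equiv.swap_apply_right] at this
    exact this
  have hsum : Module.finrank k (Tgt J) = ∑ i : Fin 3,
      (Module.finrank k ↥(sigPiece J {i}) + Module.finrank k ↥(sigPiece J ({i}ᶜ : Set (Fin 3)))) := by
    simp only [finrank_tgt hJ, finrank_sigPiece hJ, Dim, Fin.sum_univ_three, Finset.filter_true, Finset.sum_filter,
      ← Finset.sum_add_distrib]
    refine Finset.sum_congr rfl fun α hα => ?_
    have h1 : ¬ (∀ x, 0 ≤ α x) := fun h => (mem_A hJ).mp hα (tPiece_eq_bot hJ (Or.inl h))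
    have h2 : ¬ (∀ x, α x < 0) := fun h => (mem_A hJ).mp hα (tPiece_eq_bot hJ (Or.inr h))
    simp only [Fin.forall_fin_succ, IsEmpty.forall_iff, Set.mem_singleton_iff, Set.mem_compl_iff,
      Fin.succ_zero_eq_one, Fin.succ_one_eq_two, and_true, Fin.reduceEq, not_false_eq_true, not_true_eq_false,
      iff_false, iff_true, not_lt] at h1 h2 ⊢
    generalize Module.finrank k ↥(tPiece J α) = n at *
    split_ifs <;> omega
  rw [hsum, Fin.sum_univ_three, hax 0, hax 1, hax 2]
  omega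

end three

end Groth.Agent.CommAlg4.HilbDim
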