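import Groth.Agent.CommAlg4.HilbSlice
import Groth.Agent.CommAlg4.HilbDim
import Mathlib

open MvPolynomial W4c1hilbpn
open scoped Classical
open Groth.Agent.CommAlg4.HilbPiece Groth.Agent.CommAlg4.HilbSplit Groth.Agent.CommAlg4.StairDual
open Groth.Agent.CommAlg4.HilbSlice

namespace Groth.Agent.CommAlg4.HilbCorner

universe u
variable {k : Type u} [Field k] {c : ℕ → ℕ → ℕ} {N : ℕ}

lemma T_le_terminal (hc : Stair c N) (i j : ℕ) :
    Module.finrank k (T c k (i : ℤ) (j : ℤ)) ≤
      ∑ p ∈ Finset.range N ×ˢ Finset.range N, (if i ≤ p.1 ∧ j ≤ p.2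
        then c p.1 p.2 - max (c (p.1 + 1) p.2) (c p.1 (p.2 + 1)) else 0) := by
  set S : Finset ((ℕ × ℕ) × ℕ) := ((Finset.range N ×ˢ Finset.range N).filter fun p => i ≤ p.1 ∧ j ≤ p.2).biUnion
    (fun p => (Finset.Ico (max (c (p.1 + 1) p.2) (c p.1 (p.2 + 1))) (c p.1 p.2)).image fun l => (p, l)) with hS
  let g : S → ℤ × ℤ × ℤ := fun x => ((x.1.1.1 : ℤ) - i, (x.1.1.2 : ℤ) - j,
    (x.1.2 : ℤ) - cb c ((x.1.1.1 : ℤ) - i) ((x.1.1.2 : ℤ) - j))
  let E : T c k (i : ℤ) (j : ℤ) →ₗ[k] (S → k) :=
    { toFun := fun v x => StairDual.ext k i j v.1 (g x)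
      map_add' := fun v w => by funext x; simp
      map_smul' := fun r v => by funext x; simp }
  have hinj : Function.Injective E := by
    refine (injective_iff_map_eq_zero _).mpr fun v hv => ?_
    suffices H : ∀ n : ℕ, ∀ a b m : ℤ, (2 * (N : ℤ) - a - b).toNat = n →
        StairDual.ext k i j v.1 (a, b, m) = 0 by
      refine Subtype.ext (funext fun t => ?_)
      obtain ⟨⟨a, b, m⟩, ht⟩ := t
      have := H _ a b m rfl
      rw [ext_of_mem _ ht] at this
      exact this
    intro n
    induction n using Nat.strong_induction_on with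
    | _ n ih =>
      intro a b m hn
      by_cases hcell : (a, b, m) ∈ Cell c (i : ℤ) (j : ℤ)
      swap
      · exact ext_of_not_mem _ hcell
      obtain ⟨ha, hb, h1, h2⟩ := hcell
      simp only at ha hb h1 h2
      have hp : a + i < N ∧ b + j < N := by
        constructor <;> by_contra h
        · have := cb_bound hc (a := a + i) (b := b + j) (Or.inl (by omega)); omega
        · have := cb_bound hc (a := a + i) (b := b + j) (Or.inr (by omega)); omega
      by_cases hx : m + cb c a b < cb c (a + (i + 1)) (b + j)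
      · have := congrFun (LinearMap.mem_ker.mp v.2) (Sum.inl ⟨(a, b, m), ha, hb, h1, hx⟩)
        simp only [d0, LinearMap.coe_mk, AddHom.coe_mk, Sum.elim_inl, Pi.zero_apply, sub_eq_zero] at this
        rw [← this]
        exact ih _ (by omega) (a + 1) b m rfl
      by_cases hy : m + cb c a b < cb c (a + i) (b + (j + 1))
      · have := congrFun (LinearMap.mem_ker.mp v.2) (Sum.inr ⟨(a, b, m), ha, hb, h1, hy⟩)
        simp only [d0, LinearMap.coe_mk, AddHom.coe_mk, Sum.elim_inr, Pi.zero_apply, sub_eq_zero] at this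
        rw [← this]
        exact ih _ (by omega) a (b + 1) m rfl
      -- a terminal cell
      obtain ⟨A, rfl⟩ := Int.eq_ofNat_of_zero_le ha
      obtain ⟨B, rfl⟩ := Int.eq_ofNat_of_zero_le hb
      obtain ⟨L, hL⟩ := Int.eq_ofNat_of_zero_le h1
      have hmem : (((A + i, B + j), L) : (ℕ × ℕ) × ℕ) ∈ S := by
        rw [hS]
        simp only [Finset.mem_biUnion, Finset.mem_filter, Finset.mem_product, Finset.mem_range, Finset.mem_image,
          Finset.mem_Ico, Prod.mk.injEq]
        refine ⟨(A + i, B + j), ⟨⟨by omega, by omega⟩, by omega, by omega⟩, L, ⟨?_, ?_⟩, rfl, rfl⟩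
        · show max (c (A + i + 1) (B + j)) (c (A + i) (B + j + 1)) ≤ L
          rw [max_le_iff]
          constructor
          · have e : cb c ((A : ℤ) + (i + 1)) ((B : ℤ) + j) = c (A + i + 1) (B + j) := by
              rw [cb, if_pos ⟨by omega, by omega⟩]; congr 2 <;> omega
            omega
          · have e : cb c ((A : ℤ) + i) ((B : ℤ) + (j + 1)) = c (A + i) (B + j + 1) := by
              rw [cb, if_pos ⟨by omega, by omega⟩]; congr 2 <;> omega
            omega
        · show L < c (A + i) (B + j)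
          have e : cb c ((A : ℤ) + i) ((B : ℤ) + j) = c (A + i) (B + j) := by
            rw [cb, if_pos ⟨by omega, by omega⟩]; congr 2 <;> omega
          omega
      have := congrFun hv ⟨_, hmem⟩
      simp only [E, g, LinearMap.coe_mk, AddHom.coe_mk, Pi.zero_apply] at this
      push_cast at this
      rw [add_sub_cancel_right, add_sub_cancel_right] at this
      rwa [show (L : ℤ) - cb c (A : ℤ) (B : ℤ) = m by omega] at this
  refine (LinearMap.finrank_le_finrank_of_injective hinj).trans ?_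
  rw [Module.finrank_fintype_fun_eq_card, Fintype.card_coe, hS, Finset.sum_ite, Finset.sum_const_zero, add_zero]
  refine Finset.card_biUnion_le.trans (Finset.sum_le_sum fun p _ => ?_)
  exact Finset.card_image_le.trans (by simp)

variable {I : Ideal (MvPolynomial (Fin 3) k)}

theorem finrank_le_corners (hI : IsMonomial I) [Module.Finite k (MvPolynomial (Fin 3) k ⧸ I)] (i j : ℕ) :
    Module.finrank k ↥(⨆ α : {α : Fin 3 → ℤ // α 0 = (i : ℤ) ∧ α 1 = (j : ℤ) ∧ α 2 < 0}, tPiece I α.1) ≤
      ∑ᶠ p : ℕ × ℕ, (if i ≤ p.1 ∧ j ≤ p.2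
        then stairZ I p.1 p.2 - max (stairZ I (p.1 + 1) p.2) (stairZ I p.1 (p.2 + 1)) else 0) := by
  haveI := HilbDim.finite_tgt (k := k) (I := I)
  obtain ⟨N, hN⟩ := stair (1 : Equiv.Perm (Fin 3)) hI
  have hst : st I (1 : Equiv.Perm (Fin 3)) = fun a b => stairZ I a b := by
    funext a b
    have hpt : ∀ l, pt (1 : Equiv.Perm (Fin 3)) a b l = e3 a b l := by
      intro l
      ext x
      fin_cases x <;> simp [pt, e3, Finsupp.single_apply]
    simp only [st, stairZ, hpt]
  rw [hst] at hN
  have h1 : (⨆ α : {α : Fin 3 → ℤ // α 0 = (i : ℤ) ∧ α 1 = (j : ℤ) ∧ α 2 < 0}, tPiece I α.1) ≤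
      P (I := I) (1 : Equiv.Perm (Fin 3)) (i : ℤ) (j : ℤ) :=
    iSup_le fun α => le_iSup_of_le ⟨α.1, α.2.1, α.2.2.1⟩ le_rfl
  have h2 := Submodule.finrank_mono h1
  rw [finrank_P _ hI, hst] at h2
  refine h2.trans ((T_le_terminal hN i j).trans (le_of_eq ?_))
  symm
  refine finsum_eq_sum_of_support_subset _ fun p hp => ?_
  simp only [Function.mem_support, ne_eq] at hp
  simp only [Finset.coe_product, Finset.coe_range, Set.mem_prod, Set.mem_Iio]
  constructor <;> by_contra h <;> apply hp <;> split_ifs <;> try rfl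
  · rw [hN.bound p.1 p.2 (Or.inl (by omega))]; simp
  · rw [hN.bound p.1 p.2 (Or.inr (by omega))]; simp

end Groth.Agent.CommAlg4.HilbCorner
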