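import Groth.Prelude.Def_W4c1hilbpnTgt
import Mathlib

open MvPolynomial W4c1hilbpn
open scoped Classical

namespace Groth.Agent.CommAlg4.HilbPiece

universe u v
variable {σ : Type v} [Fintype σ] {k : Type u} [Field k] {I : Ideal (MvPolynomial σ k)}

/-- truncation of an integer vector -/
noncomputable def toF (γ : σ → ℤ) : σ →₀ ℕ :=
  Finsupp.equivFunOnFinite.symm fun i => (γ i).toNat

@[simp] lemma toF_apply (γ : σ → ℤ) (i : σ) : toF γ i = (γ i).toNat := by simp [toF]

/-- `β + α` -/
def vec (α : σ → ℤ) (β : σ →₀ ℕ) : σ → ℤ := fun i => (β i : ℤ) + α i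

lemma shift_eq (α : σ → ℤ) (β : σ →₀ ℕ) : shift β α = toF (vec α β) := rfl

lemma toF_natCast (β : σ →₀ ℕ) : toF (fun i => (β i : ℤ)) = β := by ext i; simp

lemma vec_add_single (α : σ → ℤ) (β : σ →₀ ℕ) (i : σ) :
    vec α (β + Finsupp.single i 1) = vec α β + Pi.single i 1 := by
  funext j
  simp only [vec, Finsupp.add_apply, Pi.add_apply, Finsupp.single_apply, Pi.single_apply]
  by_cases h : i = j
  · subst h; simp; ring
  · simp [h, Ne.symm h]

lemma toF_add_single (γ : σ → ℤ) (i : σ) (h : ∀ j, 0 ≤ γ j) :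
    toF (γ + Pi.single i 1) = toF γ + Finsupp.single i 1 := by
  ext j
  simp only [toF_apply, Finsupp.add_apply, Pi.add_apply, Finsupp.single_apply, Pi.single_apply]
  by_cases hij : i = j
  · subst hij; have := h i; simp; omega
  · simp [hij, Ne.symm hij]

lemma exps_mono {β β' : σ →₀ ℕ} (h : β ∈ exps I) (hle : β ≤ β') : β' ∈ exps I := by
  show monomial β' (1 : k) ∈ I
  rw [show monomial β' (1 : k) = monomial (β' - β) 1 * monomial β 1 by
    rw [monomial_mul, one_mul, tsub_add_cancel_of_le hle]]
  exact I.mul_mem_left _ h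

/-- coefficient functional on the quotient at an exponent outside `exps` -/
noncomputable def π (hI : IsMonomial I) {δ : σ →₀ ℕ} (hδ : δ ∉ exps I) :
    (MvPolynomial σ k ⧸ I) →ₗ[k] k :=
  (Submodule.liftQ (I.restrictScalars k) (lcoeff k δ) (fun p hp => by
      rw [LinearMap.mem_ker, lcoeff_apply]
      by_contra h
      exact hδ (hI p hp δ (mem_support_iff.mpr h)))).comp
    (Submodule.Quotient.restrictScalarsEquiv k I).symm.toLinearMap

lemma π_mk (hI : IsMonomial I) {δ : σ →₀ ℕ} (hδ : δ ∉ exps I) (p : MvPolynomial σ k) :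
    π hI hδ (Ideal.Quotient.mk I p) = coeff δ p := rfl

lemma finite_compl (hI : IsMonomial I) [Module.Finite k (MvPolynomial σ k ⧸ I)] :
    {δ : σ →₀ ℕ | δ ∉ exps I}.Finite := by
  have : LinearIndependent k
      (fun δ : {δ : σ →₀ ℕ | δ ∉ exps I} => Ideal.Quotient.mk I (monomial δ.1 (1 : k))) := by
    rw [linearIndependent_iff']
    intro s c hs δ hδ
    have := congrArg (π hI δ.2) hs
    rw [map_sum, map_zero] at this
    rw [Finset.sum_eq_single δ] at this
    · rw [map_smul, π_mk, coeff_monomial, if_pos rfl, smul_eq_mul, mul_one] at this; exact this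
    · intro x _ hx
      rw [map_smul, π_mk, coeff_monomial, if_neg (fun h => hx (Subtype.ext h)), smul_zero]
    · exact fun h => absurd hδ h
  exact Set.finite_coe_iff.mp this.finite

variable (I) (α : σ → ℤ)

/-- the graph on the region -/
abbrev GR : SimpleGraph (region I α) := (stepGraph σ).induce (region I α)

variable {I α}

lemma mem_region {γ : σ → ℤ} :
    γ ∈ region I α ↔ (∃ β ∈ exps I, γ = vec α β) ∧ ¬ ((∀ i, 0 ≤ γ i) ∧ toF γ ∈ exps I) := Iff.rfl

/-- the exponent of the source monomial of a region point -/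
noncomputable def bet (α : σ → ℤ) (γ : σ → ℤ) : σ →₀ ℕ := toF (γ - α)

lemma bet_vec (β : σ →₀ ℕ) : bet α (vec α β) = β := by ext i; simp [bet, vec]

lemma bet_mem {γ : σ → ℤ} (h : γ ∈ region I α) : bet α γ ∈ exps I ∧ vec α (bet α γ) = γ := by
  obtain ⟨β, hβ, rfl⟩ := (mem_region.mp h).1
  rw [bet_vec]; exact ⟨hβ, rfl⟩

lemma not_mem_exps {γ : σ → ℤ} (h : γ ∈ region I α) (h0 : ∀ i, 0 ≤ γ i) : toF γ ∉ exps I :=
  fun he => (mem_region.mp h).2 ⟨h0, he⟩

lemma adj_of_succ {γ γ' : σ → ℤ} (h : γ ∈ region I α) (h' : γ' ∈ region I α) (i : σ)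
    (e : γ' = γ + Pi.single i 1) : (GR I α).Adj ⟨γ, h⟩ ⟨γ', h'⟩ := by
  show (stepGraph σ).Adj γ γ'
  rw [stepGraph, SimpleGraph.fromRel_adj]
  refine ⟨fun hh => ?_, Or.inl ?_⟩
  · have := congrFun (hh ▸ e) i; simp at this
  · rw [Finset.sum_eq_single i]
    · subst e; simp
    · intro j _ hj; subst e; simp [hj]
    · simp

lemma succ_of_adj {a b : region I α} (h : (GR I α).Adj a b) :
    ∃ i, (b : σ → ℤ) = (a : σ → ℤ) + Pi.single i 1 ∨ (a : σ → ℤ) = (b : σ → ℤ) + Pi.single i 1 := by
  obtain ⟨a, ha⟩ := a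
  obtain ⟨b, hb⟩ := b
  change (stepGraph σ).Adj a b at h
  rw [stepGraph, SimpleGraph.fromRel_adj] at h
  have hs : ∑ i, |a i - b i| = 1 := by
    rcases h.2 with h2 | h2
    · exact h2
    · rw [← h2]; exact Finset.sum_congr rfl fun i _ => abs_sub_comm _ _
  obtain ⟨i, hi⟩ := Function.ne_iff.mp h.1
  refine ⟨i, ?_⟩
  have h1 := Finset.add_sum_erase Finset.univ (fun j => |a j - b j|) (Finset.mem_univ i)
  have h2 : 1 ≤ |a i - b i| := Int.one_le_abs (sub_ne_zero.mpr hi)
  have h3 : 0 ≤ ∑ j ∈ Finset.univ.erase i, |a j - b j| := Finset.sum_nonneg fun j _ => abs_nonneg _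
  have h4 : ∑ j ∈ Finset.univ.erase i, |a j - b j| = 0 := by omega
  have h5 : ∀ j, j ≠ i → a j = b j := fun j hj => sub_eq_zero.mp (abs_eq_zero.mp
    ((Finset.sum_eq_zero_iff_of_nonneg fun j _ => abs_nonneg _).mp h4 j
      (Finset.mem_erase.mpr ⟨hj, Finset.mem_univ j⟩)))
  have h6 : |a i - b i| = 1 := by omega
  rcases (abs_eq (by norm_num : (0 : ℤ) ≤ 1)).mp h6 with h7 | h7
  · refine Or.inr (funext fun j => ?_)
    by_cases hj : j = i
    · subst hj; simp; omega
    · simp [hj, h5 j hj]
  · refine Or.inl (funext fun j => ?_)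
    by_cases hj : j = i
    · subst hj; simp; omega
    · simp [hj, h5 j hj]

/-- the scalar attached to a region point -/
noncomputable def cval (hI : IsMonomial I) (φ : tPiece I α) (γ : region I α) : k :=
  if h : ∀ i, 0 ≤ γ.1 i then
    π hI (not_mem_exps γ.2 h) ((φ : Tgt I) ⟨monomial (bet α γ.1) 1, (bet_mem γ.2).1⟩)
  else 0

lemma mul_apply (φ : Tgt I) {β : σ →₀ ℕ} (hβ : β ∈ exps I) (i : σ) :
    φ ⟨monomial (β + Finsupp.single i 1) 1, exps_mono hβ le_self_add⟩ =
      (X i : MvPolynomial σ k) • φ ⟨monomial β 1, hβ⟩ := by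
  rw [← map_smul]
  congr 1
  apply Subtype.ext
  show monomial (β + Finsupp.single i 1) (1 : k) = X i * monomial β 1
  rw [X, monomial_mul, one_mul, add_comm]

lemma eq_smul_mk (hI : IsMonomial I) (φ : tPiece I α) (γ : region I α) (h : ∀ i, 0 ≤ γ.1 i) :
    (φ : Tgt I) ⟨monomial (bet α γ.1) 1, (bet_mem γ.2).1⟩ =
      cval hI φ γ • Ideal.Quotient.mk I (monomial (toF γ.1) 1) := by
  have he := (bet_mem γ.2).2
  have := (φ.2 (bet α γ.1) (bet_mem γ.2).1).1 (fun i => by
    have := congrFun he i; simp only [vec] at this; rw [this]; exact h i)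
  rw [shift_eq, show toF (vec α (bet α γ.1)) = toF γ.1 from congrArg toF he, Submodule.mem_span_singleton] at this
  obtain ⟨c, hc⟩ := this
  rw [cval, dif_pos h, ← hc, map_smul, π_mk, coeff_monomial, if_pos rfl, smul_eq_mul, mul_one]

lemma cval_succ (hI : IsMonomial I) (φ : tPiece I α) {a b : region I α} (i : σ)
    (e : (b : σ → ℤ) = (a : σ → ℤ) + Pi.single i 1) : cval hI φ a = cval hI φ b := by
  by_cases hb : ∀ j, 0 ≤ b.1 j
  swap
  · have ha : ¬ ∀ j, 0 ≤ a.1 j := fun ha => hb fun j => by
      rw [e]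
      by_cases hj : j = i
      · subst hj; have := ha j; simp; omega
      · simp [hj, ha j]
    rw [cval, cval, dif_neg ha, dif_neg hb]
  have hbet : bet α b.1 = bet α a.1 + Finsupp.single i 1 := by
    rw [← bet_vec (α := α) (bet α a.1 + Finsupp.single i 1), vec_add_single, (bet_mem a.2).2, e]
  have key : (φ : Tgt I) ⟨monomial (bet α b.1) 1, (bet_mem b.2).1⟩ =
      (X i : MvPolynomial σ k) • (φ : Tgt I) ⟨monomial (bet α a.1) 1, (bet_mem a.2).1⟩ := by
    rw [← mul_apply]
    simp only [hbet]
  by_cases ha : ∀ j, 0 ≤ a.1 j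
  · rw [eq_smul_mk hI φ b hb, eq_smul_mk hI φ a ha, smul_comm] at key
    have h2 : (X i : MvPolynomial σ k) • Ideal.Quotient.mk I (monomial (toF a.1) (1 : k)) =
        Ideal.Quotient.mk I (monomial (toF b.1) 1) := by
      show Ideal.Quotient.mk I (X i * monomial (toF a.1) 1) = _
      rw [X, monomial_mul, one_mul, e, toF_add_single _ _ ha, add_comm]
    rw [h2] at key
    have := congrArg (π hI (not_mem_exps b.2 hb)) key
    rw [map_smul, map_smul, π_mk, coeff_monomial, if_pos rfl, smul_eq_mul, smul_eq_mul, mul_one, mul_one] at this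
    exact this.symm
  · have h0 : (φ : Tgt I) ⟨monomial (bet α a.1) 1, (bet_mem a.2).1⟩ = 0 := by
      push_neg at ha
      obtain ⟨j, hj⟩ := ha
      exact (φ.2 _ (bet_mem a.2).1).2 ⟨j, by
        have := congrFun (bet_mem a.2).2 j; simp only [vec] at this; omega⟩
    rw [h0, smul_zero] at key
    rw [cval, dif_neg ha, cval, dif_pos hb, key, map_zero]

lemma cval_reachable (hI : IsMonomial I) (φ : tPiece I α) {a b : region I α} (h : (GR I α).Reachable a b) :
    cval hI φ a = cval hI φ b := by
  obtain ⟨w⟩ := h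
  induction w with
  | nil => rfl
  | cons hadj _ ih =>
    rw [← ih]
    obtain ⟨i, hi | hi⟩ := succ_of_adj hadj
    · exact cval_succ hI φ i hi
    · exact (cval_succ hI φ i hi).symm

lemma nonneg_of_finite [Nontrivial σ] {C : (GR I α).ConnectedComponent} (hC : C.supp.Finite)
    {a : region I α} (ha : a ∈ C.supp) : ∀ i, 0 ≤ a.1 i := by
  intro i
  by_contra hi
  obtain ⟨j, hj⟩ := exists_ne i
  let f : ℕ → σ → ℤ := fun t => a.1 + Pi.single j (t : ℤ)
  have hf : ∀ t, f t ∈ region I α := by
    intro t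
    refine mem_region.mpr ⟨⟨bet α a.1 + Finsupp.single j t,
      exps_mono (bet_mem a.2).1 le_self_add, ?_⟩, fun h => ?_⟩
    · funext l
      have := congrFun (bet_mem a.2).2 l
      simp only [vec] at this
      simp only [f, vec, Pi.add_apply, Finsupp.add_apply, Finsupp.single_apply, Pi.single_apply]
      by_cases hl : j = l
      · subst hl; simp; omega
      · simp [hl, Ne.symm hl]; omega
    · have := h.1 i; simp only [f, Pi.add_apply, Pi.single_eq_of_ne (Ne.symm hj)] at this; omega
  have hmem : ∀ t, (⟨f t, hf t⟩ : region I α) ∈ C.supp := by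
    intro t
    induction t with
    | zero =>
      have : (⟨f 0, hf 0⟩ : region I α) = a := Subtype.ext (by simp [f])
      rw [this]; exact ha
    | succ t ih =>
      rw [SimpleGraph.ConnectedComponent.mem_supp_iff] at ih ⊢
      rw [← ih]
      refine (SimpleGraph.ConnectedComponent.connectedComponentMk_eq_of_adj
        (adj_of_succ (hf t) (hf (t + 1)) j ?_)).symm
      simp only [f, add_assoc, ← Pi.single_add, Nat.cast_add, Nat.cast_one]
  exact hC.not_infinite (Set.infinite_of_injective_forall_mem (fun s t e => by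
    have := congrFun (congrArg Subtype.val e) j
    simpa [f] using this) hmem)

lemma exists_neg_of_infinite (hI : IsMonomial I) [Module.Finite k (MvPolynomial σ k ⧸ I)]
    {C : (GR I α).ConnectedComponent} (hC : ¬ C.supp.Finite) :
    ∃ a ∈ C.supp, ¬ ∀ i, 0 ≤ (a : σ → ℤ) i := by
  by_contra h
  push_neg at h
  apply hC
  refine Set.Finite.of_finite_image (f := fun a : region I α => toF a.1)
    ((finite_compl hI).subset ?_) ?_
  · rintro _ ⟨a, ha, rfl⟩; exact not_mem_exps a.2 (h a ha)
  · intro a ha b hb e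
    apply Subtype.ext
    funext i
    have := congrArg (fun g : σ →₀ ℕ => g i) e
    simp only [toF_apply] at this
    have := h a ha i; have := h b hb i; omega

variable (I α) in
abbrev FinComp := {C : (GR I α).ConnectedComponent // C.supp.Finite}

lemma finComp_finite [Nontrivial σ] (hI : IsMonomial I) [Module.Finite k (MvPolynomial σ k ⧸ I)] :
    Finite (FinComp I α) := by
  have hne : ∀ C : FinComp I α, ∃ a, a ∈ C.1.supp := fun C => by
    obtain ⟨a, ha⟩ := C.1.exists_rep
    exact ⟨a, ha⟩
  choose a ha using hne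
  have := Set.finite_coe_iff.mpr (finite_compl hI)
  refine Finite.of_injective (fun C => (⟨toF (a C).1,
    not_mem_exps (a C).2 (nonneg_of_finite C.2 (ha C))⟩ : {δ : σ →₀ ℕ | δ ∉ exps I})) ?_
  intro C D e
  have e' : a C = a D := Subtype.ext (funext fun i => by
    have := congrArg (fun g : {δ : σ →₀ ℕ | δ ∉ exps I} => g.1 i) e
    simp only [toF_apply] at this
    have := nonneg_of_finite C.2 (ha C) i
    have := nonneg_of_finite D.2 (ha D) i
    omega)
  have h1 := ha C
  rw [e', SimpleGraph.ConnectedComponent.mem_supp_iff] at h1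
  have h2 := ha D
  rw [SimpleGraph.ConnectedComponent.mem_supp_iff] at h2
  exact Subtype.ext (h1.symm.trans h2)

/-- restriction to the bounded components -/
noncomputable def toComp (hI : IsMonomial I) : tPiece I α →ₗ[k] (FinComp I α → k) where
  toFun φ C := cval hI φ C.1.out
  map_add' φ ψ := by
    funext C
    simp only [cval, Pi.add_apply]
    split_ifs <;> simp
  map_smul' c φ := by
    funext C
    simp only [cval, Pi.smul_apply, RingHom.id_apply]
    split_ifs <;> simp

lemma out_spec (C : (GR I α).ConnectedComponent) : (GR I α).connectedComponentMk C.out = C :=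
  Quot.out_eq C

lemma cval_eq_comp (hI : IsMonomial I) [Module.Finite k (MvPolynomial σ k ⧸ I)] (φ : tPiece I α)
    (γ : region I α) : cval hI φ γ =
      if h : ((GR I α).connectedComponentMk γ).supp.Finite then toComp hI φ ⟨_, h⟩ else 0 := by
  split_ifs with h
  · exact cval_reachable hI φ (SimpleGraph.ConnectedComponent.exact (out_spec _).symm)
  · obtain ⟨a, ha, hneg⟩ := exists_neg_of_infinite hI h
    rw [cval_reachable hI φ (SimpleGraph.ConnectedComponent.exact ha.symm), cval, dif_neg hneg]

lemma toComp_injective (hI : IsMonomial I) [Module.Finite k (MvPolynomial σ k ⧸ I)] :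
    Function.Injective (toComp (α := α) hI) := by
  refine (injective_iff_map_eq_zero _).mpr ?_
  intro φ hφ
  apply Subtype.ext
  have hmon : ∀ β : σ →₀ ℕ, ∀ hβ : β ∈ exps I, (φ : Tgt I) ⟨monomial β 1, hβ⟩ = 0 := by
    intro β hβ
    by_cases h0 : ∀ i, 0 ≤ vec α β i
    · by_cases he : toF (vec α β) ∈ exps I
      · have h1 := (φ.2 β hβ).1 h0
        rw [shift_eq, show Ideal.Quotient.mk I (monomial (toF (vec α β)) (1 : k)) = 0 from
          Ideal.Quotient.eq_zero_iff_mem.mpr he, Submodule.span_zero_singleton, Submodule.mem_bot] at h1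
        exact h1
      · have hr : vec α β ∈ region I α := mem_region.mpr ⟨⟨β, hβ, rfl⟩, fun h => he h.2⟩
        have h1 := eq_smul_mk hI φ ⟨_, hr⟩ h0
        simp only [bet_vec] at h1
        rw [h1, cval_eq_comp, hφ]
        split_ifs <;> simp
    · push_neg at h0
      exact (φ.2 β hβ).2 h0
  apply LinearMap.ext
  intro p
  have hp : p = ∑ β ∈ p.1.support.attach,
      (C (coeff β.1 p.1) : MvPolynomial σ k) • (⟨monomial β.1 1, hI p.1 p.2 β.1 β.2⟩ : I) := by
    apply Subtype.ext
    rw [AddSubmonoidClass.coe_finset_sum]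
    conv_lhs => rw [p.1.as_sum, ← Finset.sum_attach]
    refine Finset.sum_congr rfl fun β _ => ?_
    simp [C_mul_monomial]
  rw [hp, map_sum, map_sum]
  refine Finset.sum_congr rfl fun β _ => ?_
  rw [map_smul, hmon β.1 (hI p.1 p.2 β.1 β.2), smul_zero]
  simp

/-- scalar on the whole lattice, from data on bounded components -/
noncomputable def scal (f : FinComp I α → k) (γ : σ → ℤ) : k :=
  if h : γ ∈ region I α then
    (if h' : ((GR I α).connectedComponentMk ⟨γ, h⟩).supp.Finite then f ⟨_, h'⟩ else 0)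
  else 0

/-- image of a monomial -/
noncomputable def img (f : FinComp I α → k) (β : σ →₀ ℕ) : MvPolynomial σ k ⧸ I :=
  scal f (vec α β) • Ideal.Quotient.mk I (monomial (toF (vec α β)) 1)

lemma img_succ [Nontrivial σ] (f : FinComp I α → k) {β : σ →₀ ℕ} (hβ : β ∈ exps I) (i : σ) :
    img f (β + Finsupp.single i 1) = (X i : MvPolynomial σ k) • img f β := by
  have e := vec_add_single α β i
  simp only [img]
  by_cases h : vec α β ∈ region I α
  swap
  · have h1 : (∀ j, 0 ≤ vec α β j) ∧ toF (vec α β) ∈ exps I := by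
      by_contra hc
      exact h (mem_region.mpr ⟨⟨β, hβ, rfl⟩, hc⟩)
    have h2 : vec α (β + Finsupp.single i 1) ∉ region I α := by
      intro hr
      refine (mem_region.mp hr).2 ⟨fun j => ?_, ?_⟩
      · rw [e]; by_cases hj : j = i
        · subst hj; have := h1.1 j; simp; omega
        · simp [hj, h1.1 j]
      · rw [e, toF_add_single _ _ h1.1]; exact exps_mono h1.2 le_self_add
    simp [scal, h, h2]
  by_cases hf : ((GR I α).connectedComponentMk ⟨_, h⟩).supp.Finite
  swap
  · by_cases h' : vec α (β + Finsupp.single i 1) ∈ region I α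
    · have hcc := SimpleGraph.ConnectedComponent.connectedComponentMk_eq_of_adj (adj_of_succ h h' i e)
      simp [scal, h, h', ← hcc, hf]
    · simp [scal, h, h', hf]
  have h0 : ∀ j, 0 ≤ vec α β j := nonneg_of_finite hf rfl
  have hm : (X i : MvPolynomial σ k) • Ideal.Quotient.mk I (monomial (toF (vec α β)) (1 : k)) =
      Ideal.Quotient.mk I (monomial (toF (vec α (β + Finsupp.single i 1))) 1) := by
    show Ideal.Quotient.mk I (X i * monomial _ 1) = _
    rw [X, monomial_mul, one_mul, e, toF_add_single _ _ h0, add_comm]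
  rw [smul_comm, hm]
  by_cases h' : vec α (β + Finsupp.single i 1) ∈ region I α
  · have hcc := SimpleGraph.ConnectedComponent.connectedComponentMk_eq_of_adj (adj_of_succ h h' i e)
    have : scal f (vec α (β + Finsupp.single i 1)) = scal f (vec α β) := by
      simp only [scal, dif_pos h, dif_pos h', hf, dite_true]
      rw [dif_pos (hcc ▸ hf)]
      congr 1
      exact Subtype.ext hcc.symm
    rw [this]
  · have : toF (vec α (β + Finsupp.single i 1)) ∈ exps I := by
      by_contra hc
      exact h' (mem_region.mpr ⟨⟨_, exps_mono hβ le_self_add, rfl⟩, fun hh => hc hh.2⟩)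
    rw [show Ideal.Quotient.mk I (monomial (toF (vec α (β + Finsupp.single i 1))) (1 : k)) = 0 from
      Ideal.Quotient.eq_zero_iff_mem.mpr this, smul_zero, smul_zero]

lemma img_mul [Nontrivial σ] (f : FinComp I α → k) {β : σ →₀ ℕ} (hβ : β ∈ exps I) (μ : σ →₀ ℕ) :
    img f (β + μ) = (monomial μ 1 : MvPolynomial σ k) • img f β := by
  induction μ using Finsupp.induction_linear generalizing β with
  | zero => simp
  | add μ ν hμ hν =>
    rw [← add_assoc, hν (exps_mono hβ le_self_add), hμ hβ, smul_smul, monomial_mul, one_mul, add_comm ν μ]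
  | single i t =>
    induction t generalizing β with
    | zero => simp
    | succ t ih =>
      rw [Finsupp.single_add, ← add_assoc, img_succ f (exps_mono hβ le_self_add) i, ih hβ, smul_smul]
      congr 1
      rw [X, monomial_mul, one_mul, add_comm]

/-- the `k`-linear extension -/
noncomputable def ext₀ (f : FinComp I α → k) : MvPolynomial σ k →ₗ[k] MvPolynomial σ k ⧸ I :=
  (basisMonomials σ k).constr k (img f)

lemma ext₀_monomial (f : FinComp I α → k) (β : σ →₀ ℕ) (c : k) :
    ext₀ f (monomial β c) = c • img f β := by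
  have h1 : ext₀ f (monomial β (1 : k)) = img f β := by
    have := (basisMonomials σ k).constr_basis k (img f) β
    rwa [show basisMonomials σ k β = monomial β (1 : k) by simp] at this
  rw [show monomial β c = c • monomial β (1 : k) by simp [smul_monomial], map_smul, h1]

lemma ext₀_mul [Nontrivial σ] (f : FinComp I α → k) {β : σ →₀ ℕ} (hβ : β ∈ exps I)
    (q : MvPolynomial σ k) : ext₀ f (q * monomial β 1) = q • ext₀ f (monomial β 1) := by
  induction q using MvPolynomial.induction_on' with
  | monomial μ c =>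
    rw [monomial_mul, mul_one, ext₀_monomial, ext₀_monomial, one_smul, add_comm μ β, img_mul f hβ,
      ← smul_assoc, smul_monomial, smul_eq_mul, mul_one]
  | add p q hp hq => rw [add_mul, map_add, hp, hq, add_smul]

/-- the map attached to data on bounded components -/
noncomputable def fromComp [Nontrivial σ] (hI : IsMonomial I) (f : FinComp I α → k) : tPiece I α :=
  ⟨{ toFun := fun p => ext₀ f p.1
     map_add' := fun p q => by simp
     map_smul' := fun q p => by
      show ext₀ f (q * p.1) = q • ext₀ f p.1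
      conv_lhs => rw [p.1.as_sum, Finset.mul_sum, map_sum]
      conv_rhs => rw [p.1.as_sum, map_sum, Finset.smul_sum]
      refine Finset.sum_congr rfl fun β hβ => ?_
      rw [show monomial β (coeff β p.1) = C (coeff β p.1) * monomial β (1 : k) by simp [C_mul_monomial],
        ← mul_assoc, ext₀_mul f (hI p.1 p.2 β hβ), ext₀_mul f (hI p.1 p.2 β hβ), smul_smul] },
   fun β hβ => by
    simp only [LinearMap.coe_mk, AddHom.coe_mk, ext₀_monomial, one_smul, img, shift_eq]
    refine ⟨fun _ => Submodule.smul_mem _ _ (Submodule.mem_span_singleton_self _), ?_⟩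
    rintro ⟨i, hi⟩
    have : scal f (vec α β) = 0 := by
      unfold scal
      split_ifs with h h'
      · exact absurd (nonneg_of_finite h' (SimpleGraph.ConnectedComponent.mem_supp_iff _ _ |>.mpr rfl) i) (not_le.mpr hi)
      · rfl
      · rfl
    rw [this, zero_smul]⟩

lemma toComp_surjective [Nontrivial σ] (hI : IsMonomial I) :
    Function.Surjective (toComp (α := α) hI) := by
  intro f
  refine ⟨fromComp hI f, ?_⟩
  funext C
  set γ := C.1.out
  have hmk := out_spec C.1
  have h0 : ∀ i, 0 ≤ γ.1 i := nonneg_of_finite C.2 hmk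
  show cval hI (fromComp hI f) γ = f C
  rw [cval, dif_pos h0]
  simp only [fromComp, LinearMap.coe_mk, AddHom.coe_mk, ext₀_monomial, one_smul, img, (bet_mem γ.2).2]
  rw [map_smul, π_mk, coeff_monomial, if_pos rfl, smul_eq_mul, mul_one, scal, dif_pos γ.2,
    dif_pos (hmk.symm ▸ C.2)]
  congr 1
  exact Subtype.ext hmk

theorem finrank_tPiece [Nontrivial σ] (hI : IsMonomial I) [Module.Finite k (MvPolynomial σ k ⧸ I)]
    (α : σ → ℤ) : Module.finrank k ↥(tPiece I α) = nBddComp I α := by
  haveI := finComp_finite (α := α) hI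
  haveI := Fintype.ofFinite (FinComp I α)
  rw [(LinearEquiv.ofBijective (toComp hI) ⟨toComp_injective hI, toComp_surjective hI⟩).finrank_eq,
    Module.finrank_fintype_fun_eq_card, nBddComp]
  exact (Nat.card_eq_fintype_card (α := FinComp I α)).symm

end Groth.Agent.CommAlg4.HilbPiece
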