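import Mathlib

open Module

namespace Groth.Agent.CommAlg4.StairDual

universe u

/-- zero extension of a staircase -/
def cb (c : ℕ → ℕ → ℕ) (a b : ℤ) : ℤ :=
  if 0 ≤ a ∧ 0 ≤ b then (c a.toNat b.toNat : ℤ) else 0

/-- staircase of a finite colength monomial ideal -/
structure Stair (c : ℕ → ℕ → ℕ) (N : ℕ) : Prop where
  anti : ∀ a a' b b', a ≤ a' → b ≤ b' → c a' b' ≤ c a b
  bound : ∀ a b, N ≤ a ∨ N ≤ b → c a b = 0

variable {c : ℕ → ℕ → ℕ} {N : ℕ}

lemma cb_nonneg (a b : ℤ) : 0 ≤ cb c a b := by unfold cb; split_ifs <;> omega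

lemma cb_pos {a b x : ℤ} (h : x < cb c a b) (hx : 0 ≤ x) : 0 ≤ a ∧ 0 ≤ b := by
  unfold cb at h
  split_ifs at h with h1
  · exact h1
  · omega

lemma cb_anti (hc : Stair c N) {a a' b b' : ℤ} (ha : 0 ≤ a) (hb : 0 ≤ b) (h : a ≤ a') (h' : b ≤ b') :
    cb c a' b' ≤ cb c a b := by
  unfold cb
  rw [if_pos ⟨ha.trans h, hb.trans h'⟩, if_pos ⟨ha, hb⟩]
  exact_mod_cast hc.anti _ _ _ _ (Int.toNat_le_toNat h) (Int.toNat_le_toNat h')

lemma cb_bound (hc : Stair c N) {a b : ℤ} (h : (N : ℤ) ≤ a ∨ (N : ℤ) ≤ b) : cb c a b = 0 := by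
  unfold cb
  split_ifs with h1
  · rw [hc.bound _ _ (by omega)]; rfl
  · rfl

/-- cells with target shift `(i, j)` -/
def Cell (c : ℕ → ℕ → ℕ) (i j : ℤ) : Set (ℤ × ℤ × ℤ) :=
  {t | 0 ≤ t.1 ∧ 0 ≤ t.2.1 ∧ 0 ≤ t.2.2 + cb c t.1 t.2.1 ∧
    t.2.2 + cb c t.1 t.2.1 < cb c (t.1 + i) (t.2.1 + j)}

lemma cell_finite (hc : Stair c N) (i j : ℤ) : (Cell c i j).Finite := by
  let M : ℤ := (c 0 0 : ℤ)
  refine Set.Finite.subset ((Finset.Icc (0 : ℤ) (N - i) ×ˢ (Finset.Icc (0 : ℤ) (N - j) ×ˢ
    Finset.Icc (-M) M)).finite_toSet) ?_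
  rintro ⟨a, b, m⟩ ⟨ha, hb, h1, h2⟩
  simp only at ha hb h1 h2
  have hp := cb_pos h2 h1
  have e1 : a + i < N := by
    by_contra h; have := cb_bound hc (a := a + i) (b := b + j) (Or.inl (by omega)); omega
  have e2 : b + j < N := by
    by_contra h; have := cb_bound hc (a := a + i) (b := b + j) (Or.inr (by omega)); omega
  have e3 : cb c (a + i) (b + j) ≤ M := by
    have := cb_anti hc le_rfl le_rfl hp.1 hp.2
    simpa [cb, M] using this
  have e4 : cb c a b ≤ M := by
    have := cb_anti hc le_rfl le_rfl ha hb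
    simpa [cb, M] using this
  have := cb_nonneg (c := c) a b
  simp only [Finset.coe_product, Set.mem_prod, Finset.coe_Icc, Set.mem_Icc]
  omega

variable (k : Type u) [Field k]

open scoped Classical in
/-- zero extension of a function on cells -/
noncomputable def ext (i j : ℤ) : (Cell c i j → k) →ₗ[k] (ℤ × ℤ × ℤ → k) where
  toFun v t := if h : t ∈ Cell c i j then v ⟨t, h⟩ else 0
  map_add' v w := by funext t; simp only [Pi.add_apply]; split_ifs <;> simp
  map_smul' r v := by funext t; simp only [Pi.smul_apply, RingHom.id_apply]; split_ifs <;> simp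

variable {k}

lemma ext_of_mem {i j : ℤ} (v : Cell c i j → k) {t} (h : t ∈ Cell c i j) : ext k i j v t = v ⟨t, h⟩ :=
  dif_pos h

lemma ext_of_not_mem {i j : ℤ} (v : Cell c i j → k) {t} (h : t ∉ Cell c i j) : ext k i j v t = 0 :=
  dif_neg h

variable (c k)

/-- the edge cells -/
abbrev Edge (i j : ℤ) := Cell c (i + 1) j ⊕ Cell c i (j + 1)

/-- first differential -/
noncomputable def d0 (i j : ℤ) : (Cell c i j → k) →ₗ[k] (Edge c i j → k) where
  toFun v := Sum.elim
    (fun t => ext k i j v (t.1.1 + 1, t.1.2.1, t.1.2.2) - ext k i j v t.1)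
    (fun t => ext k i j v (t.1.1, t.1.2.1 + 1, t.1.2.2) - ext k i j v t.1)
  map_add' v w := by funext e; rcases e with t | t <;> simp <;> ring
  map_smul' r v := by funext e; rcases e with t | t <;> simp <;> ring

/-- the slice of the tangent space -/
noncomputable def T (i j : ℤ) : Submodule k (Cell c i j → k) := LinearMap.ker (d0 c k i j)

/-- transpose of the first differential -/
noncomputable def δ (i j : ℤ) : (Edge c i j → k) →ₗ[k] (Cell c i j → k) where
  toFun u t :=
    ext k (i + 1) j (u ∘ Sum.inl) (t.1.1 - 1, t.1.2.1, t.1.2.2) - ext k (i + 1) j (u ∘ Sum.inl) t.1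
      + ext k i (j + 1) (u ∘ Sum.inr) (t.1.1, t.1.2.1 - 1, t.1.2.2) - ext k i (j + 1) (u ∘ Sum.inr) t.1
  map_add' u w := by
    funext t
    rw [show (u + w) ∘ Sum.inl = u ∘ Sum.inl + w ∘ Sum.inl from rfl,
      show (u + w) ∘ Sum.inr = u ∘ Sum.inr + w ∘ Sum.inr from rfl]
    simp only [map_add, Pi.add_apply]; ring
  map_smul' r u := by
    funext t
    rw [show (r • u) ∘ Sum.inl = r • (u ∘ Sum.inl) from rfl,
      show (r • u) ∘ Sum.inr = r • (u ∘ Sum.inr) from rfl]
    simp only [map_smul, Pi.smul_apply, RingHom.id_apply, smul_eq_mul]; ring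

variable {c k}

open scoped Classical in
lemma ext_single {i j : ℤ} (x : Cell c i j) (t : ℤ × ℤ × ℤ) :
    ext k i j (Pi.single x 1) t = if t = x.1 then 1 else 0 := by
  by_cases h : t ∈ Cell c i j
  · rw [ext_of_mem _ h, Pi.single_apply]
    by_cases e : t = x.1
    · rw [if_pos e, if_pos (Subtype.ext e)]
    · rw [if_neg e, if_neg fun e' => e (congrArg Subtype.val e')]
  · rw [ext_of_not_mem _ h, if_neg fun e : t = x.1 => h (e ▸ x.2)]

lemma finrank_ker_δ (hc : Stair c N) (i j : ℤ) :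
    finrank k (LinearMap.ker (δ c k i j)) + (Cell c i j).ncard =
      finrank k (T c k i j) + ((Cell c (i + 1) j).ncard + (Cell c i (j + 1)).ncard) := by
  classical
  letI := (cell_finite hc i j).fintype
  letI := (cell_finite hc (i + 1) j).fintype
  letI := (cell_finite hc i (j + 1)).fintype
  have hM : LinearMap.toMatrix' (δ c k i j) = (LinearMap.toMatrix' (d0 c k i j)).transpose := by
    ext v e
    rw [Matrix.transpose_apply, LinearMap.toMatrix'_apply, LinearMap.toMatrix'_apply]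
    rcases e with ⟨⟨a, b, m⟩, he⟩ | ⟨⟨a, b, m⟩, he⟩
    · have h2 : (Pi.single (Sum.inl ⟨(a, b, m), he⟩) (1 : k) : Edge c i j → k) ∘ Sum.inr = 0 := by
        funext x; simp
      have h1 : (Pi.single (Sum.inl ⟨(a, b, m), he⟩) (1 : k) : Edge c i j → k) ∘ Sum.inl =
          Pi.single ⟨(a, b, m), he⟩ 1 := by
        funext x; simp [Pi.single_apply]
      obtain ⟨⟨a', b', m'⟩, hv⟩ := v
      simp only [δ, d0, LinearMap.coe_mk, AddHom.coe_mk, Sum.elim_inl, h1, h2, map_zero, Pi.zero_apply,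
        ext_single, Prod.mk.injEq]
      split_ifs <;> first | (exfalso; omega) | simp
    · have h2 : (Pi.single (Sum.inr ⟨(a, b, m), he⟩) (1 : k) : Edge c i j → k) ∘ Sum.inl = 0 := by
        funext x; simp
      have h1 : (Pi.single (Sum.inr ⟨(a, b, m), he⟩) (1 : k) : Edge c i j → k) ∘ Sum.inr =
          Pi.single ⟨(a, b, m), he⟩ 1 := by
        funext x; simp [Pi.single_apply]
      obtain ⟨⟨a', b', m'⟩, hv⟩ := v
      simp only [δ, d0, LinearMap.coe_mk, AddHom.coe_mk, Sum.elim_inr, h1, h2, map_zero, Pi.zero_apply,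
        ext_single, Prod.mk.injEq]
      split_ifs <;> first | (exfalso; omega) | simp
  have hr : finrank k (LinearMap.range (δ c k i j)) = finrank k (LinearMap.range (d0 c k i j)) := by
    have e1 : (LinearMap.toMatrix' (δ c k i j)).rank = finrank k (LinearMap.range (δ c k i j)) := by
      rw [Matrix.rank, ← Matrix.toLin'_apply', Matrix.toLin'_toMatrix']
    have e2 : (LinearMap.toMatrix' (d0 c k i j)).rank = finrank k (LinearMap.range (d0 c k i j)) := by
      rw [Matrix.rank, ← Matrix.toLin'_apply', Matrix.toLin'_toMatrix']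
    rw [← e1, ← e2, hM, Matrix.rank_transpose]
  have n1 := LinearMap.finrank_range_add_finrank_ker (δ c k i j)
  have n2 := LinearMap.finrank_range_add_finrank_ker (d0 c k i j)
  rw [finrank_fintype_fun_eq_card, Fintype.card_sum] at n1
  rw [finrank_fintype_fun_eq_card] at n2
  simp only [Set.ncard_eq_toFinset_card', Set.toFinset_card]
  change _ = finrank k (LinearMap.ker (d0 c k i j)) + _
  omega

/-- the glued function on the dual lattice -/
noncomputable def G (i j : ℤ) (W : T c k (-i - 1) (-j - 1)) (μ : Cell c (i + 1) (j + 1) → k)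
    (t : ℤ × ℤ × ℤ) : k :=
  ext k (-i - 1) (-j - 1) W.1 (t.1, t.2.1, -1 - t.2.2)
    + ext k (i + 1) (j + 1) μ (t.1 - i - 1, t.2.1 - j - 1, t.2.2)

variable (c k) in
/-- gradient of the glued function -/
noncomputable def Ψ (i j : ℤ) :
    (T c k (-i - 1) (-j - 1) × (Cell c (i + 1) (j + 1) → k)) →ₗ[k] (Edge c i j → k) where
  toFun P := Sum.elim
    (fun e => G i j P.1 P.2 (e.1.1 + i + 1, e.1.2.1 + j + 1, e.1.2.2)
      - G i j P.1 P.2 (e.1.1 + i + 1, e.1.2.1 + j, e.1.2.2))
    (fun e => -(G i j P.1 P.2 (e.1.1 + i + 1, e.1.2.1 + j + 1, e.1.2.2)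
      - G i j P.1 P.2 (e.1.1 + i, e.1.2.1 + j + 1, e.1.2.2)))
  map_add' P Q := by
    funext e
    rcases e with t | t <;> simp [G] <;> ring
  map_smul' r P := by
    funext e
    rcases e with t | t <;> simp [G] <;> ring

lemma G_eq_zero {i j : ℤ} (W : T c k (-i - 1) (-j - 1)) (μ : Cell c (i + 1) (j + 1) → k) {p q m : ℤ}
    (h : ¬ (0 ≤ p ∧ 0 ≤ q ∧ 0 ≤ p - i - 1 ∧ 0 ≤ q - j - 1 ∧ m < cb c p q ∧
      0 ≤ m + cb c (p - i - 1) (q - j - 1))) : G i j W μ (p, q, m) = 0 := by
  unfold G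
  rw [ext_of_not_mem, ext_of_not_mem, add_zero]
  · rintro ⟨h1, h2, h3, h4⟩
    simp only at h1 h2 h3 h4
    have e := cb_pos h4 h3
    have := cb_nonneg (c := c) (p - i - 1) (q - j - 1)
    rw [show p - i - 1 + (i + 1) = p by ring, show q - j - 1 + (j + 1) = q by ring] at h4 e
    exact h ⟨e.1, e.2, h1, h2, by omega, h3⟩
  · rintro ⟨h1, h2, h3, h4⟩
    simp only at h1 h2 h3 h4
    have e := cb_pos h4 h3
    rw [show p + (-i - 1) = p - i - 1 by ring, show q + (-j - 1) = q - j - 1 by ring] at h4 e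
    have := cb_nonneg (c := c) p q
    exact h ⟨h1, h2, e.1, e.2, by omega, by omega⟩

lemma wedge_x (hc : Stair c N) {i j : ℤ} (W : T c k (-i - 1) (-j - 1)) (μ : Cell c (i + 1) (j + 1) → k)
    {p q m : ℤ} (hp : 0 ≤ p) (hq : 0 ≤ q) (ha : 0 ≤ p - i) (hb : 0 ≤ q - j - 1) (hm : m < cb c p q)
    (hw : cb c p q ≤ m + cb c (p - i) (q - j - 1)) :
    G i j W μ (p + 1, q, m) = G i j W μ (p, q, m) := by
  unfold G
  simp only
  rw [ext_of_not_mem μ (t := (p + 1 - i - 1, q - j - 1, m)), ext_of_not_mem μ (t := (p - i - 1, q - j - 1, m))]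
  · have hk := congrFun (LinearMap.mem_ker.mp W.2)
      (Sum.inl ⟨(p, q, -1 - m), hp, hq, by simp only; omega, by
        simp only
        rw [show p + (-i - 1 + 1) = p - i by ring, show q + (-j - 1) = q - j - 1 by ring]; omega⟩)
    simp only [d0, LinearMap.coe_mk, AddHom.coe_mk, Sum.elim_inl, Pi.zero_apply, sub_eq_zero] at hk
    rw [add_zero, add_zero, hk]
  · rintro ⟨h1, h2, h3, h4⟩
    simp only at h1 h2 h3 h4
    rw [show p - i - 1 + (i + 1) = p by ring, show q - j - 1 + (j + 1) = q by ring] at h4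
    have := cb_anti hc h1 h2 (show p - i - 1 ≤ p - i by omega) le_rfl
    omega
  · rintro ⟨h1, h2, h3, h4⟩
    simp only at h1 h2 h3 h4
    rw [show p + 1 - i - 1 + (i + 1) = p + 1 by ring, show q - j - 1 + (j + 1) = q by ring,
      show p + 1 - i - 1 = p - i by ring] at h4
    have := cb_anti hc hp hq (show p ≤ p + 1 by omega) le_rfl
    omega

lemma wedge_y (hc : Stair c N) {i j : ℤ} (W : T c k (-i - 1) (-j - 1)) (μ : Cell c (i + 1) (j + 1) → k)
    {p q m : ℤ} (hp : 0 ≤ p) (hq : 0 ≤ q) (ha : 0 ≤ p - i - 1) (hb : 0 ≤ q - j) (hm : m < cb c p q)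
    (hw : cb c p q ≤ m + cb c (p - i - 1) (q - j)) :
    G i j W μ (p, q + 1, m) = G i j W μ (p, q, m) := by
  unfold G
  simp only
  rw [ext_of_not_mem μ (t := (p - i - 1, q + 1 - j - 1, m)), ext_of_not_mem μ (t := (p - i - 1, q - j - 1, m))]
  · have hk := congrFun (LinearMap.mem_ker.mp W.2)
      (Sum.inr ⟨(p, q, -1 - m), hp, hq, by simp only; omega, by
        simp only
        rw [show q + (-j - 1 + 1) = q - j by ring, show p + (-i - 1) = p - i - 1 by ring]; omega⟩)
    simp only [d0, LinearMap.coe_mk, AddHom.coe_mk, Sum.elim_inr, Pi.zero_apply, sub_eq_zero] at hk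
    rw [add_zero, add_zero, hk]
  · rintro ⟨h1, h2, h3, h4⟩
    simp only at h1 h2 h3 h4
    rw [show p - i - 1 + (i + 1) = p by ring, show q - j - 1 + (j + 1) = q by ring] at h4
    have := cb_anti hc h1 h2 le_rfl (show q - j - 1 ≤ q - j by omega)
    omega
  · rintro ⟨h1, h2, h3, h4⟩
    simp only at h1 h2 h3 h4
    rw [show q + 1 - j - 1 + (j + 1) = q + 1 by ring, show p - i - 1 + (i + 1) = p by ring,
      show q + 1 - j - 1 = q - j by ring] at h4
    have := cb_anti hc hp hq le_rfl (show q ≤ q + 1 by omega)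
    omega

lemma ext_Ψx (hc : Stair c N) {i j : ℤ} (P : T c k (-i - 1) (-j - 1) × (Cell c (i + 1) (j + 1) → k))
    {a b m : ℤ} (hb : 0 ≤ b) (hm : 0 ≤ m + cb c a b ∨ a < 0) (hq : 0 ≤ b + j) :
    ext k (i + 1) j (Ψ c k i j P ∘ Sum.inl) (a, b, m) =
      G i j P.1 P.2 (a + i + 1, b + j + 1, m) - G i j P.1 P.2 (a + i + 1, b + j, m) := by
  by_cases h : (a, b, m) ∈ Cell c (i + 1) j
  · rw [ext_of_mem _ h]; rfl
  · rw [ext_of_not_mem _ h]
    by_cases ha : a < 0
    · rw [G_eq_zero _ _ (by omega), G_eq_zero _ _ (by omega), sub_zero]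
    · have hm' : 0 ≤ m + cb c a b := hm.resolve_right ha
      have hw : cb c (a + i + 1) (b + j) ≤ m + cb c a b := by
        by_contra hc'
        refine h ⟨by simp only; omega, hb, hm', ?_⟩
        simp only
        rw [show a + (i + 1) = a + i + 1 by ring]; omega
      symm
      rw [sub_eq_zero]
      by_cases hp : 0 ≤ a + i + 1
      · by_cases h2 : m < cb c (a + i + 1) (b + j)
        · refine wedge_y hc _ _ hp hq (by omega) (by omega) h2 ?_
          rw [show a + i + 1 - i - 1 = a by ring, show b + j - j = b by ring]; omega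
        · rw [G_eq_zero _ _, G_eq_zero _ _ (by omega)]
          intro hh
          have := cb_anti hc hp hq le_rfl (show b + j ≤ b + j + 1 by omega)
          omega
      · rw [G_eq_zero _ _ (by omega), G_eq_zero _ _ (by omega)]

lemma ext_Ψy (hc : Stair c N) {i j : ℤ} (P : T c k (-i - 1) (-j - 1) × (Cell c (i + 1) (j + 1) → k))
    {a b m : ℤ} (ha : 0 ≤ a) (hm : 0 ≤ m + cb c a b ∨ b < 0) (hp : 0 ≤ a + i) :
    ext k i (j + 1) (Ψ c k i j P ∘ Sum.inr) (a, b, m) =
      -(G i j P.1 P.2 (a + i + 1, b + j + 1, m) - G i j P.1 P.2 (a + i, b + j + 1, m)) := by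
  by_cases h : (a, b, m) ∈ Cell c i (j + 1)
  · rw [ext_of_mem _ h]; rfl
  · rw [ext_of_not_mem _ h]
    by_cases hb : b < 0
    · rw [G_eq_zero _ _ (by omega), G_eq_zero _ _ (by omega), sub_zero, neg_zero]
    · have hm' : 0 ≤ m + cb c a b := hm.resolve_right hb
      have hw : cb c (a + i) (b + j + 1) ≤ m + cb c a b := by
        by_contra hc'
        refine h ⟨ha, by simp only; omega, hm', ?_⟩
        simp only
        rw [show b + (j + 1) = b + j + 1 by ring]; omega
      symm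
      rw [neg_eq_zero, sub_eq_zero]
      by_cases hq : 0 ≤ b + j + 1
      · by_cases h2 : m < cb c (a + i) (b + j + 1)
        · refine wedge_x hc _ _ hp hq (by omega) (by omega) h2 ?_
          rw [show b + j + 1 - j - 1 = b by ring, show a + i - i = a by ring]; omega
        · rw [G_eq_zero _ _, G_eq_zero _ _ (by omega)]
          intro hh
          have := cb_anti hc hp hq (show a + i ≤ a + i + 1 by omega) le_rfl
          omega
      · rw [G_eq_zero _ _ (by omega), G_eq_zero _ _ (by omega)]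

lemma δ_Ψ (hc : Stair c N) (i j : ℤ) (P) : δ c k i j (Ψ c k i j P) = 0 := by
  funext v
  obtain ⟨⟨a, b, m⟩, ha, hb, h1, h2⟩ := v
  simp only at ha hb h1 h2
  obtain ⟨hp, hq⟩ := cb_pos h2 h1
  have hm1 : 0 ≤ m + cb c (a - 1) b ∨ a - 1 < 0 := by
    by_cases h : a - 1 < 0
    · exact Or.inr h
    · have := cb_anti hc (show (0 : ℤ) ≤ a - 1 by omega) hb (show a - 1 ≤ a by omega) le_rfl
      exact Or.inl (by omega)
  have hm2 : 0 ≤ m + cb c a (b - 1) ∨ b - 1 < 0 := by
    by_cases h : b - 1 < 0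
    · exact Or.inr h
    · have := cb_anti hc ha (show (0 : ℤ) ≤ b - 1 by omega) le_rfl (show b - 1 ≤ b by omega)
      exact Or.inl (by omega)
  show ext k (i + 1) j (_ ∘ Sum.inl) (a - 1, b, m) - ext k (i + 1) j (_ ∘ Sum.inl) (a, b, m)
      + ext k i (j + 1) (_ ∘ Sum.inr) (a, b - 1, m) - ext k i (j + 1) (_ ∘ Sum.inr) (a, b, m) = 0
  rw [ext_Ψx hc P hb hm1 hq, ext_Ψx hc P hb (Or.inl h1) hq, ext_Ψy hc P ha hm2 hp,
    ext_Ψy hc P ha (Or.inl h1) hp]
  rw [show a - 1 + i + 1 = a + i by ring, show b - 1 + j + 1 = b + j by ring]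
  ring

lemma edge_x (hc : Stair c N) {i j : ℤ} {P : T c k (-i - 1) (-j - 1) × (Cell c (i + 1) (j + 1) → k)}
    (hP : Ψ c k i j P = 0) {p q m : ℤ} (hp : 0 ≤ p) (hq : 0 ≤ q) (ha : 0 ≤ p - i) (hb : 0 ≤ q - j - 1)
    (hm : m < cb c p q) (hl : 0 ≤ m + cb c (p - i) (q - j - 1)) :
    G i j P.1 P.2 (p + 1, q, m) = G i j P.1 P.2 (p, q, m) := by
  by_cases hw : cb c p q ≤ m + cb c (p - i) (q - j - 1)
  · exact wedge_x hc _ _ hp hq ha hb hm hw
  · have hk := congrFun hP (Sum.inr ⟨(p - i, q - j - 1, m), ha, hb, hl, by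
      simp only
      rw [show p - i + i = p by ring, show q - j - 1 + (j + 1) = q by ring]; omega⟩)
    simp only [Ψ, LinearMap.coe_mk, AddHom.coe_mk, Sum.elim_inr, Pi.zero_apply, neg_eq_zero, sub_eq_zero] at hk
    rwa [show p - i + i + 1 = p + 1 by ring, show p - i + i = p by ring,
      show q - j - 1 + j + 1 = q by ring] at hk

lemma edge_y (hc : Stair c N) {i j : ℤ} {P : T c k (-i - 1) (-j - 1) × (Cell c (i + 1) (j + 1) → k)}
    (hP : Ψ c k i j P = 0) {p q m : ℤ} (hp : 0 ≤ p) (hq : 0 ≤ q) (ha : 0 ≤ p - i - 1) (hb : 0 ≤ q - j)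
    (hm : m < cb c p q) (hl : 0 ≤ m + cb c (p - i - 1) (q - j)) :
    G i j P.1 P.2 (p, q + 1, m) = G i j P.1 P.2 (p, q, m) := by
  by_cases hw : cb c p q ≤ m + cb c (p - i - 1) (q - j)
  · exact wedge_y hc _ _ hp hq ha hb hm hw
  · have hk := congrFun hP (Sum.inl ⟨(p - i - 1, q - j, m), ha, hb, hl, by
      simp only
      rw [show p - i - 1 + (i + 1) = p by ring, show q - j + j = q by ring]; omega⟩)
    simp only [Ψ, LinearMap.coe_mk, AddHom.coe_mk, Sum.elim_inl, Pi.zero_apply, sub_eq_zero] at hk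
    rwa [show p - i - 1 + i + 1 = p by ring, show q - j + j + 1 = q + 1 by ring,
      show q - j + j = q by ring] at hk

lemma up_zero (hc : Stair c N) {i j : ℤ} {P : T c k (-i - 1) (-j - 1) × (Cell c (i + 1) (j + 1) → k)}
    (hP : Ψ c k i j P = 0) {m : ℤ} (hm : 0 ≤ m) (p q : ℤ) : G i j P.1 P.2 (p, q, m) = 0 := by
  suffices H : ∀ n : ℕ, ∀ p : ℤ, ((N : ℤ) - p).toNat = n → G i j P.1 P.2 (p, q, m) = 0 from H _ p rfl
  intro n
  induction n using Nat.strong_induction_on with
  | _ n ih =>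
    intro p hn
    by_cases h : 0 ≤ p ∧ 0 ≤ q ∧ 0 ≤ p - i - 1 ∧ 0 ≤ q - j - 1 ∧ m < cb c p q
    · have hpN : p < N := by
        by_contra hh; have := cb_bound hc (a := p) (b := q) (Or.inl (by omega)); omega
      have := cb_nonneg (c := c) (p - i) (q - j - 1)
      rw [← edge_x hc hP h.1 h.2.1 (by omega) h.2.2.2.1 h.2.2.2.2 (by omega)]
      exact ih _ (by omega) (p + 1) rfl
    · exact G_eq_zero _ _ (by tauto)

lemma down (hc : Stair c N) {i j : ℤ} {P : T c k (-i - 1) (-j - 1) × (Cell c (i + 1) (j + 1) → k)}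
    (hP : Ψ c k i j P = 0) {m : ℤ} (hm : m < 0) :
    ∀ (n : ℕ) (p q : ℤ), (p + q).toNat = n → G i j P.1 P.2 (p, q, m) = 0 ∨
      (0 ≤ -i - 1 ∧ 0 ≤ -j - 1 ∧ 0 ≤ m + cb c (-i - 1) (-j - 1) ∧
        G i j P.1 P.2 (p, q, m) = G i j P.1 P.2 (0, 0, m)) := by
  intro n
  induction n using Nat.strong_induction_on with
  | _ n ih =>
    intro p q hn
    by_cases h : 0 ≤ p ∧ 0 ≤ q ∧ 0 ≤ p - i - 1 ∧ 0 ≤ q - j - 1 ∧ m < cb c p q ∧
      0 ≤ m + cb c (p - i - 1) (q - j - 1)
    · obtain ⟨hp, hq, ha, hb, h5, h6⟩ := h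
      rcases (show p = 0 ∨ 1 ≤ p by omega) with rfl | hp1
      · rcases (show q = 0 ∨ 1 ≤ q by omega) with rfl | hq1
        · simp only [zero_sub] at ha hb h6
          exact Or.inr ⟨ha, hb, h6, rfl⟩
        · have e := edge_y hc hP (p := 0) (q := q - 1) le_rfl (by omega) ha (by omega)
            (lt_of_lt_of_le h5 (cb_anti hc le_rfl (by omega) le_rfl (by omega)))
            (by rw [show q - 1 - j = q - j - 1 by ring]; exact h6)
          rw [sub_add_cancel] at e
          rw [e]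
          exact ih _ (by omega) 0 (q - 1) rfl
      · have e := edge_x hc hP (p := p - 1) (q := q) (by omega) hq (by omega) hb
          (lt_of_lt_of_le h5 (cb_anti hc (by omega) hq (by omega) le_rfl))
          (by rw [show p - 1 - i = p - i - 1 by ring]; exact h6)
        rw [sub_add_cancel] at e
        rw [e]
        exact ih _ (by omega) (p - 1) q rfl
    · exact Or.inl (G_eq_zero _ _ h)

theorem finrank_le (hc : Stair c N) (i j : ℤ) :
    finrank k (T c k (-i - 1) (-j - 1)) + (Cell c (i + 1) (j + 1)).ncard + (Cell c i j).ncard ≤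
      finrank k (T c k i j) + ((Cell c (i + 1) j).ncard + (Cell c i (j + 1)).ncard)
        + (cb c (-i - 1) (-j - 1)).toNat := by
  classical
  letI := (cell_finite hc i j).fintype
  letI := (cell_finite hc (i + 1) j).fintype
  letI := (cell_finite hc i (j + 1)).fintype
  letI := (cell_finite hc (i + 1) (j + 1)).fintype
  letI := (cell_finite hc (-i - 1) (-j - 1)).fintype
  let Km := Finset.Ico (-(cb c (-i - 1) (-j - 1))) 0
  let Ev : LinearMap.ker (Ψ c k i j) →ₗ[k] ({x // x ∈ Km} → k) :=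
    { toFun := fun P m => G i j P.1.1 P.1.2 (0, 0, m.1)
      map_add' := fun P Q => by funext m; simp [G]; ring
      map_smul' := fun r P => by funext m; simp [G]; ring }
  have hinj : Function.Injective Ev := by
    refine (injective_iff_map_eq_zero _).mpr fun P hP => ?_
    have hG : ∀ p q m, G i j P.1.1 P.1.2 (p, q, m) = 0 := by
      intro p q m
      rcases lt_or_ge m 0 with hm | hm
      · rcases down hc (LinearMap.mem_ker.mp P.2) hm _ p q rfl with h | ⟨-, -, h3, h4⟩
        · exact h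
        · rw [h4]
          exact congrFun hP ⟨m, Finset.mem_Ico.mpr ⟨by omega, hm⟩⟩
      · exact up_zero hc (LinearMap.mem_ker.mp P.2) hm p q
    apply Subtype.ext
    refine Prod.ext (Subtype.ext (funext fun t => ?_)) (funext fun t => ?_)
    · obtain ⟨⟨p, q, n⟩, ht⟩ := t
      have h := hG p q (-1 - n)
      have hn : ((p, q, -1 - (-1 - n)) : ℤ × ℤ × ℤ) = (p, q, n) := by ring_nf
      simp only [G, hn, ext_of_mem _ ht] at h
      rw [ext_of_not_mem] at h
      · simpa using h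
      · rintro ⟨h1, h2, h3, h4⟩
        obtain ⟨g1, g2, g3, g4⟩ := ht
        simp only at h1 h2 h3 h4 g1 g2 g3 g4
        rw [show p - i - 1 + (i + 1) = p by ring, show q - j - 1 + (j + 1) = q by ring] at h4
        rw [show p + (-i - 1) = p - i - 1 by ring, show q + (-j - 1) = q - j - 1 by ring] at g4
        omega
    · obtain ⟨⟨a, b, m⟩, ht⟩ := t
      have h := hG (a + i + 1) (b + j + 1) m
      have hn : ((a + i + 1 - i - 1, b + j + 1 - j - 1, m) : ℤ × ℤ × ℤ) = (a, b, m) := by ring_nf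
      simp only [G, hn, ext_of_mem _ ht] at h
      rw [ext_of_not_mem] at h
      · simpa using h
      · rintro ⟨h1, h2, h3, h4⟩
        obtain ⟨g1, g2, g3, g4⟩ := ht
        simp only at h1 h2 h3 h4 g1 g2 g3 g4
        rw [show a + i + 1 + (-i - 1) = a by ring, show b + j + 1 + (-j - 1) = b by ring] at h4
        rw [show a + (i + 1) = a + i + 1 by ring, show b + (j + 1) = b + j + 1 by ring] at g4
        omega
  have h1 : finrank k (LinearMap.ker (Ψ c k i j)) ≤ (cb c (-i - 1) (-j - 1)).toNat := by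
    refine (LinearMap.finrank_le_finrank_of_injective hinj).trans ?_
    rw [finrank_fintype_fun_eq_card]
    simp [Km]
  have h2 : finrank k (LinearMap.range (Ψ c k i j)) ≤ finrank k (LinearMap.ker (δ c k i j)) :=
    Submodule.finrank_mono (by rintro _ ⟨P, rfl⟩; exact δ_Ψ hc i j P)
  have h3 := LinearMap.finrank_range_add_finrank_ker (Ψ c k i j)
  rw [finrank_prod, finrank_fintype_fun_eq_card] at h3
  have h4 := finrank_ker_δ (k := k) hc i j
  simp only [Set.ncard_eq_toFinset_card', Set.toFinset_card] at h4 ⊢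
  omega

lemma card_cell (hc : Stair c N) (i j : ℤ) {R : ℕ} (h1 : (N : ℤ) ≤ R + i) (h2 : (N : ℤ) ≤ R + j) :
    ((Cell c i j).ncard : ℤ) = ∑ a ∈ Finset.range R, ∑ b ∈ Finset.range R, cb c (a + i) (b + j) := by
  classical
  have hS : Cell c i j = ↑(((Finset.range R ×ˢ Finset.range R).sigma fun p : ℕ × ℕ =>
      Finset.range (cb c (p.1 + i) (p.2 + j)).toNat).image
        (fun x => ((x.1.1 : ℤ), (x.1.2 : ℤ), (x.2 : ℤ) - cb c x.1.1 x.1.2))) := by
    ext ⟨a, b, m⟩
    simp only [Finset.coe_image, Set.mem_image, Finset.mem_coe, Finset.mem_sigma, Finset.mem_product,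
      Finset.mem_range, Sigma.exists, Prod.exists, Prod.mk.injEq]
    constructor
    · rintro ⟨ha, hb, h3, h4⟩
      simp only at ha hb h3 h4
      have hp := cb_pos h4 h3
      have e1 : a + i < N := by
        by_contra h; have := cb_bound hc (a := a + i) (b := b + j) (Or.inl (by omega)); omega
      have e2 : b + j < N := by
        by_contra h; have := cb_bound hc (a := a + i) (b := b + j) (Or.inr (by omega)); omega
      refine ⟨a.toNat, b.toNat, (m + cb c a b).toNat, ⟨⟨by omega, by omega⟩, ?_⟩, ?_⟩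
      · rw [Int.toNat_of_nonneg ha, Int.toNat_of_nonneg hb]; omega
      · rw [Int.toNat_of_nonneg ha, Int.toNat_of_nonneg hb]; omega
    · rintro ⟨a', b', l, ⟨_, hl⟩, rfl, rfl, rfl⟩
      refine ⟨by simp, by simp, ?_, ?_⟩ <;> simp only <;> omega
  rw [hS, Set.ncard_coe_finset, Finset.card_image_of_injective, Finset.card_sigma, Finset.sum_product]
  · push_cast
    simp only [Finset.card_range]
    refine Finset.sum_congr rfl fun a _ => Finset.sum_congr rfl fun b _ => ?_
    exact Int.toNat_of_nonneg (cb_nonneg _ _)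
  · rintro ⟨⟨a, b⟩, l⟩ ⟨⟨a', b'⟩, l'⟩ h
    simp only [Prod.mk.injEq, Nat.cast_inj] at h
    obtain ⟨rfl, rfl, h⟩ := h
    have : l = l' := by omega
    subst this; rfl

lemma euler_char (hc : Stair c N) (i j : ℤ) :
    ((Cell c i j).ncard : ℤ) - (Cell c (i + 1) j).ncard - (Cell c i (j + 1)).ncard
      + (Cell c (i + 1) (j + 1)).ncard = cb c i j := by
  set R : ℕ := N + i.natAbs + j.natAbs + 1
  rw [card_cell hc i j (R := R) (by omega) (by omega), card_cell hc (i + 1) j (R := R) (by omega) (by omega),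
    card_cell hc i (j + 1) (R := R) (by omega) (by omega),
    card_cell hc (i + 1) (j + 1) (R := R) (by omega) (by omega)]
  rw [← Finset.sum_sub_distrib, ← Finset.sum_sub_distrib, ← Finset.sum_add_distrib]
  have hb : ∀ a : ℕ, ∑ b ∈ Finset.range R, (cb c (a + i) (b + j) - cb c (a + i) (b + (j + 1))) =
      cb c (a + i) j := by
    intro a
    have := Finset.sum_range_sub' (fun b : ℕ => cb c (a + i) (b + j)) R
    simp only [Nat.cast_zero, zero_add, Nat.cast_add, Nat.cast_one] at this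
    rw [cb_bound hc (b := (R : ℤ) + j) (Or.inr (by omega)), sub_zero] at this
    rw [← this]
    exact Finset.sum_congr rfl fun b _ => by rw [show (b : ℤ) + 1 + j = b + (j + 1) by ring]
  have hb' : ∀ a : ℕ, ∑ b ∈ Finset.range R, (cb c (a + (i + 1)) (b + j) - cb c (a + (i + 1)) (b + (j + 1))) =
      cb c (a + 1 + i) j := by
    intro a
    have := hb (a + 1)
    push_cast at this
    rw [← this]
    exact Finset.sum_congr rfl fun b _ => by rw [show (a : ℤ) + (i + 1) = a + 1 + i by ring]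
  have := Finset.sum_range_sub' (fun a : ℕ => cb c (a + i) j) R
  simp only [Nat.cast_zero, zero_add, Nat.cast_add, Nat.cast_one] at this
  rw [cb_bound hc (a := (R : ℤ) + i) (Or.inl (by omega)), sub_zero] at this
  rw [← this]
  refine Finset.sum_congr rfl fun a _ => ?_
  rw [← hb a, ← hb' a, ← Finset.sum_sub_distrib, ← Finset.sum_sub_distrib, ← Finset.sum_sub_distrib,
    ← Finset.sum_add_distrib]
  exact Finset.sum_congr rfl fun b _ => by ring

theorem finrank_sub (hc : Stair c N) (i j : ℤ) :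
    (finrank k (T c k i j) : ℤ) - finrank k (T c k (-i - 1) (-j - 1)) =
      cb c i j - cb c (-i - 1) (-j - 1) := by
  have h1 := finrank_le (k := k) hc i j
  have h2 := finrank_le (k := k) hc (-i - 1) (-j - 1)
  rw [show -(-i - 1) - 1 = i by ring, show -(-j - 1) - 1 = j by ring] at h2
  have e1 := euler_char hc i j
  have e2 := euler_char hc (-i - 1) (-j - 1)
  have := cb_nonneg (c := c) i j
  have := cb_nonneg (c := c) (-i - 1) (-j - 1)
  omega

end Groth.Agent.CommAlg4.StairDual
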