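import Groth.Agent.CommAlg4.HilbSplit
import Groth.Agent.CommAlg4.StairDual
import Mathlib

open MvPolynomial W4c1hilbpn
open scoped Classical
open Groth.Agent.CommAlg4.HilbPiece Groth.Agent.CommAlg4.HilbSplit Groth.Agent.CommAlg4.StairDual

namespace Groth.Agent.CommAlg4.HilbSlice

universe u
variable {k : Type u} [Field k] {I : Ideal (MvPolynomial (Fin 3) k)} (ρ : Equiv.Perm (Fin 3))

/-- exponent with coordinates `a, b, l` along the axes `ρ 0, ρ 1, ρ 2` -/
noncomputable def pt (a b l : ℕ) : Fin 3 →₀ ℕ :=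
  Finsupp.single (ρ 0) a + Finsupp.single (ρ 1) b + Finsupp.single (ρ 2) l

@[simp] lemma pt_0 (a b l : ℕ) : pt ρ a b l (ρ 0) = a := by
  simp [pt, ρ.injective.eq_iff]
@[simp] lemma pt_1 (a b l : ℕ) : pt ρ a b l (ρ 1) = b := by
  simp [pt, ρ.injective.eq_iff]
@[simp] lemma pt_2 (a b l : ℕ) : pt ρ a b l (ρ 2) = l := by
  simp [pt, ρ.injective.eq_iff]

lemma ext3 {M : Type*} {f g : Fin 3 → M} (h0 : f (ρ 0) = g (ρ 0)) (h1 : f (ρ 1) = g (ρ 1))
    (h2 : f (ρ 2) = g (ρ 2)) : f = g := by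
  funext x
  obtain ⟨y, rfl⟩ := ρ.surjective x
  fin_cases y <;> assumption

lemma pt_eta (β : Fin 3 →₀ ℕ) : pt ρ (β (ρ 0)) (β (ρ 1)) (β (ρ 2)) = β :=
  DFunLike.coe_injective (ext3 ρ (by simp) (by simp) (by simp))

lemma pt_le {a b l a' b' l' : ℕ} (ha : a ≤ a') (hb : b ≤ b') (hl : l ≤ l') :
    pt ρ a b l ≤ pt ρ a' b' l' := by
  intro x
  obtain ⟨y, rfl⟩ := ρ.surjective x
  fin_cases y <;> simpa

variable (I) in
/-- staircase along the axis `ρ 2` -/
noncomputable def st (a b : ℕ) : ℕ := Nat.card {l : ℕ // pt ρ a b l ∉ exps I}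

variable (hI : IsMonomial I) [Module.Finite k (MvPolynomial (Fin 3) k ⧸ I)]

include hI in
lemma exists_bound : ∃ N : ℕ, ∀ δ : Fin 3 →₀ ℕ, δ ∉ exps I → ∀ x, δ x < N := by
  refine ⟨(finite_compl hI).toFinset.sup (fun δ => δ 0 + δ 1 + δ 2) + 1, fun δ hδ x => ?_⟩
  have := Finset.le_sup (f := fun δ : Fin 3 →₀ ℕ => δ 0 + δ 1 + δ 2)
    ((Set.Finite.mem_toFinset (finite_compl hI)).mpr hδ)
  fin_cases x <;> simp <;> omega

include hI in
lemma mem_exps_iff (a b l : ℕ) : pt ρ a b l ∈ exps I ↔ st I ρ a b ≤ l := by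
  obtain ⟨N, hN⟩ := exists_bound hI
  have hex : ∃ t, pt ρ a b t ∈ exps I := ⟨N, by
    by_contra h; have := hN _ h (ρ 2); simp at this⟩
  have hiff : ∀ t, pt ρ a b t ∈ exps I ↔ Nat.find hex ≤ t := fun t =>
    ⟨fun h => Nat.find_min' hex h, fun h => exps_mono (Nat.find_spec hex) (pt_le ρ le_rfl le_rfl h)⟩
  have : st I ρ a b = Nat.find hex := by
    unfold st
    rw [show {l : ℕ // pt ρ a b l ∉ exps I} = {l : ℕ // l ∈ Finset.range (Nat.find hex)} from by
      congr 1; funext t; rw [hiff, Finset.mem_range, not_le], Nat.card_eq_fintype_card, Fintype.card_coe, Finset.card_range]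
  rw [this, hiff]

include hI in
lemma stair : ∃ N, Stair (st I ρ) N := by
  obtain ⟨N, hN⟩ := exists_bound hI
  refine ⟨N, ⟨fun a a' b b' ha hb => ?_, fun a b h => ?_⟩⟩
  · rw [← mem_exps_iff ρ hI]
    exact exps_mono ((mem_exps_iff ρ hI a b _).mpr le_rfl) (pt_le ρ ha hb le_rfl)
  · rw [← Nat.le_zero, ← mem_exps_iff ρ hI]
    by_contra hc
    have h0 := hN _ hc (ρ 0); have h1 := hN _ hc (ρ 1)
    simp at h0 h1
    omega

/-- the shift with prescribed coordinates -/
noncomputable def al (i j m : ℤ) : Fin 3 → ℤ := fun x => ![i, j, m] (ρ.symm x)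

@[simp] lemma al_0 (i j m : ℤ) : al ρ i j m (ρ 0) = i := by simp [al]
@[simp] lemma al_1 (i j m : ℤ) : al ρ i j m (ρ 1) = j := by simp [al]
@[simp] lemma al_2 (i j m : ℤ) : al ρ i j m (ρ 2) = m := by simp [al]

lemma al_eta (α : Fin 3 → ℤ) : al ρ (α (ρ 0)) (α (ρ 1)) (α (ρ 2)) = α :=
  ext3 ρ (by simp) (by simp) (by simp)

/-- generator cell -/
noncomputable def src (t : ℤ × ℤ × ℤ) : Fin 3 →₀ ℕ :=
  pt ρ t.1.toNat t.2.1.toNat (st I ρ t.1.toNat t.2.1.toNat)

include hI in
lemma src_mem (t : ℤ × ℤ × ℤ) : src (I := I) ρ t ∈ exps I := (mem_exps_iff ρ hI _ _ _).mpr le_rfl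

include hI in
lemma cell_iff (i j : ℤ) (t : ℤ × ℤ × ℤ) (h0 : 0 ≤ t.1) (h1 : 0 ≤ t.2.1) :
    t ∈ Cell (st I ρ) i j ↔ (∀ x, 0 ≤ vec (al ρ i j t.2.2) (src (I := I) ρ t) x) ∧
      toF (vec (al ρ i j t.2.2) (src (I := I) ρ t)) ∉ exps I := by
  obtain ⟨a, b, m⟩ := t
  simp only at h0 h1
  obtain ⟨A, rfl⟩ := Int.eq_ofNat_of_zero_le h0
  obtain ⟨B, rfl⟩ := Int.eq_ofNat_of_zero_le h1
  have hv : ∀ x, vec (al ρ i j m) (src (I := I) ρ ((A : ℤ), (B : ℤ), m)) x =
      al ρ ((A : ℤ) + i) ((B : ℤ) + j) ((st I ρ A B : ℤ) + m) x :=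
    fun x => congrFun (ext3 ρ (by simp [vec, src]) (by simp [vec, src]) (by simp [vec, src])) x
  have hF : toF (vec (al ρ i j m) (src (I := I) ρ ((A : ℤ), (B : ℤ), m))) =
      pt ρ ((A : ℤ) + i).toNat ((B : ℤ) + j).toNat ((st I ρ A B : ℤ) + m).toNat :=
    DFunLike.coe_injective (ext3 ρ (by simp [hv]) (by simp [hv]) (by simp [hv]))
  have hcb : cb (st I ρ) (A : ℤ) (B : ℤ) = (st I ρ A B : ℤ) := by simp [cb]
  constructor
  · rintro ⟨-, -, h2, h3⟩
    simp only [hcb] at h2 h3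
    obtain ⟨hp, hq⟩ := cb_pos h3 h2
    refine ⟨fun x => ?_, ?_⟩
    · rw [hv]
      obtain ⟨y, rfl⟩ := ρ.surjective x
      fin_cases y <;> simp <;> omega
    · rw [hF, mem_exps_iff ρ hI]
      unfold cb at h3
      rw [if_pos ⟨hp, hq⟩] at h3
      omega
  · rintro ⟨hpos, hnot⟩
    have e0 := hpos (ρ 0); have e1 := hpos (ρ 1); have e2 := hpos (ρ 2)
    rw [hv] at e0 e1 e2
    simp only [al_0, al_1, al_2] at e0 e1 e2
    rw [hF, mem_exps_iff ρ hI] at hnot
    refine ⟨h0, h1, ?_, ?_⟩ <;> simp only [hcb]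
    · omega
    · unfold cb; rw [if_pos ⟨e0, e1⟩]; omega

omit [Module.Finite k (MvPolynomial (Fin 3) k ⧸ I)] in
include hI in
lemma π_congr {δ δ' : Fin 3 →₀ ℕ} (e : δ = δ') (h : δ ∉ exps I) (h' : δ' ∉ exps I)
    (v : MvPolynomial (Fin 3) k ⧸ I) : π hI h v = π hI h' v := by subst e; rfl

/-- the pieces with fixed first two degrees -/
noncomputable def P (i j : ℤ) : Submodule k (Tgt I) :=
  ⨆ α : {α : Fin 3 → ℤ // α (ρ 0) = i ∧ α (ρ 1) = j}, tPiece I α.1

/-- the coefficients on generators -/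
noncomputable def L (i j : ℤ) : Tgt I →ₗ[k] (Cell (st I ρ) i j → k) :=
  LinearMap.pi fun t => (π hI ((cell_iff ρ hI i j t.1 t.2.1 t.2.2.1).mp t.2).2).comp
    ({ toFun := fun φ => φ ⟨monomial (src (I := I) ρ t.1) 1, src_mem ρ hI t.1⟩
       map_add' := fun φ ψ => rfl
       map_smul' := fun r φ => by simp } : Tgt I →ₗ[k] MvPolynomial (Fin 3) k ⧸ I)

lemma L_apply (i j : ℤ) (φ : Tgt I) (t : Cell (st I ρ) i j) :
    L ρ hI i j φ t = π hI ((cell_iff ρ hI i j t.1 t.2.1 t.2.2.1).mp t.2).2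
      (φ ⟨monomial (src (I := I) ρ t.1) 1, src_mem ρ hI t.1⟩) := rfl

include hI in
lemma L_step (i j : ℤ) (φ : Tgt I) {t : ℤ × ℤ × ℤ} (h0 : 0 ≤ t.1) (h1 : 0 ≤ t.2.1) :
    StairDual.ext k i j (L ρ hI i j φ) t =
      if h : vec (al ρ i j t.2.2) (src (I := I) ρ t) ∈ region I (al ρ i j t.2.2)
      then cgen hI φ ⟨_, h⟩ else 0 := by
  by_cases hc : t ∈ Cell (st I ρ) i j
  · obtain ⟨hp, hn⟩ := (cell_iff ρ hI i j t h0 h1).mp hc
    rw [ext_of_mem _ hc, dif_pos (mem_region.mpr ⟨⟨_, src_mem ρ hI t, rfl⟩, fun h => hn h.2⟩), cgen,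
      dif_pos hp, L_apply]
    simp only [bet_vec]
  · rw [ext_of_not_mem _ hc]
    split_ifs with h
    · rw [cgen, dif_neg]
      exact fun hp => hc ((cell_iff ρ hI i j t h0 h1).mpr ⟨hp, not_mem_exps h hp⟩)
    · rfl

include hI in
lemma L_pt (i j : ℤ) (φ : Tgt I) (A B : ℕ) (m : ℤ)
    (hr : vec (al ρ i j m) (pt ρ A B (st I ρ A B)) ∈ region I (al ρ i j m)) :
    StairDual.ext k i j (L ρ hI i j φ) ((A : ℤ), (B : ℤ), m) = cgen hI φ ⟨_, hr⟩ := by
  rw [L_step ρ hI i j φ (by simp) (by simp), dif_pos (by simpa [src] using hr)]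
  simp [src]

include hI in
lemma L_mem_T (i j : ℤ) (φ : Tgt I) : L ρ hI i j φ ∈ T (st I ρ) k i j := by
  obtain ⟨N, hN⟩ := stair ρ hI
  rw [T, LinearMap.mem_ker]
  funext e
  rcases e with ⟨⟨a, b, m⟩, ha, hb, h1, h2⟩ | ⟨⟨a, b, m⟩, ha, hb, h1, h2⟩
  all_goals
    simp only at ha hb h1 h2
    obtain ⟨hp, hq⟩ := cb_pos h2 h1
    obtain ⟨A, rfl⟩ := Int.eq_ofNat_of_zero_le ha
    obtain ⟨B, rfl⟩ := Int.eq_ofNat_of_zero_le hb
    have hcb : cb (st I ρ) (A : ℤ) (B : ℤ) = (st I ρ A B : ℤ) := by simp [cb]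
  · show StairDual.ext k i j _ ((A : ℤ) + 1, (B : ℤ), m) - StairDual.ext k i j _ ((A : ℤ), (B : ℤ), m) = 0
    rw [sub_eq_zero, show (A : ℤ) + 1 = ((A + 1 : ℕ) : ℤ) by push_cast; ring]
    have hE : pt ρ (A + 1) B (st I ρ A B) = pt ρ A B (st I ρ A B) + Finsupp.single (ρ 0) 1 :=
      DFunLike.coe_injective (ext3 ρ (by simp) (by simp [ρ.injective.eq_iff]) (by simp [ρ.injective.eq_iff]))
    have htop : vec (al ρ i j m) (pt ρ (A + 1) B (st I ρ A B)) ∈ region I (al ρ i j m) := by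
      refine mem_region.mpr ⟨⟨_, exps_mono ((mem_exps_iff ρ hI A B _).mpr le_rfl) (by rw [hE]; exact le_self_add), rfl⟩,
        fun hh => ?_⟩
      have hF : toF (vec (al ρ i j m) (pt ρ (A + 1) B (st I ρ A B))) =
          pt ρ ((A : ℤ) + 1 + i).toNat ((B : ℤ) + j).toNat ((st I ρ A B : ℤ) + m).toNat :=
        DFunLike.coe_injective (ext3 ρ (by simp [vec]) (by simp [vec]) (by simp [vec]))
      rw [hF, mem_exps_iff ρ hI] at hh
      have e : cb (st I ρ) ((A : ℤ) + (i + 1)) ((B : ℤ) + j) =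
          (st I ρ ((A : ℤ) + (i + 1)).toNat ((B : ℤ) + j).toNat : ℤ) := if_pos ⟨hp, hq⟩
      rw [e, show (A : ℤ) + (i + 1) = A + 1 + i by ring] at h2
      simp only [hcb] at h1 h2
      have := hh.2
      omega
    have hA : pt ρ A B (st I ρ A B) ∈ exps I := (mem_exps_iff ρ hI _ _ _).mpr le_rfl
    have hA1 : pt ρ (A + 1) B (st I ρ (A + 1) B) ∈ exps I := (mem_exps_iff ρ hI _ _ _).mpr le_rfl
    have hle0 : pt ρ A B (st I ρ A B) ≤ pt ρ (A + 1) B (st I ρ A B) := pt_le ρ (by omega) le_rfl le_rfl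
    have hle1 : pt ρ (A + 1) B (st I ρ (A + 1) B) ≤ pt ρ (A + 1) B (st I ρ A B) :=
      pt_le ρ le_rfl le_rfl (hN.anti _ _ _ _ (by omega) le_rfl)
    obtain ⟨μ, hμ⟩ := exists_add_of_le hle0
    obtain ⟨ν, hν⟩ := exists_add_of_le hle1
    rw [L_pt ρ hI i j φ _ _ _ (region_down hA1 hle1 htop), L_pt ρ hI i j φ _ _ _ (region_down hA hle0 htop)]
    rw [cgen_reachable hI φ (conn hA1 ν (hν ▸ htop)), cgen_reachable hI φ (conn hA μ (hμ ▸ htop))]
    simp only [← hν, ← hμ]
  · show StairDual.ext k i j _ ((A : ℤ), (B : ℤ) + 1, m) - StairDual.ext k i j _ ((A : ℤ), (B : ℤ), m) = 0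
    rw [sub_eq_zero, show (B : ℤ) + 1 = ((B + 1 : ℕ) : ℤ) by push_cast; ring]
    have htop : vec (al ρ i j m) (pt ρ A (B + 1) (st I ρ A B)) ∈ region I (al ρ i j m) := by
      refine mem_region.mpr ⟨⟨_, exps_mono ((mem_exps_iff ρ hI A B _).mpr le_rfl) (pt_le ρ le_rfl (by omega) le_rfl), rfl⟩,
        fun hh => ?_⟩
      have hF : toF (vec (al ρ i j m) (pt ρ A (B + 1) (st I ρ A B))) =
          pt ρ ((A : ℤ) + i).toNat ((B : ℤ) + 1 + j).toNat ((st I ρ A B : ℤ) + m).toNat :=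
        DFunLike.coe_injective (ext3 ρ (by simp [vec]) (by simp [vec]) (by simp [vec]))
      rw [hF, mem_exps_iff ρ hI] at hh
      have e : cb (st I ρ) ((A : ℤ) + i) ((B : ℤ) + (j + 1)) =
          (st I ρ ((A : ℤ) + i).toNat ((B : ℤ) + (j + 1)).toNat : ℤ) := if_pos ⟨hp, hq⟩
      rw [e, show (B : ℤ) + (j + 1) = B + 1 + j by ring] at h2
      simp only [hcb] at h1 h2
      have := hh.2
      omega
    have hA : pt ρ A B (st I ρ A B) ∈ exps I := (mem_exps_iff ρ hI _ _ _).mpr le_rfl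
    have hA1 : pt ρ A (B + 1) (st I ρ A (B + 1)) ∈ exps I := (mem_exps_iff ρ hI _ _ _).mpr le_rfl
    have hle0 : pt ρ A B (st I ρ A B) ≤ pt ρ A (B + 1) (st I ρ A B) := pt_le ρ le_rfl (by omega) le_rfl
    have hle1 : pt ρ A (B + 1) (st I ρ A (B + 1)) ≤ pt ρ A (B + 1) (st I ρ A B) :=
      pt_le ρ le_rfl le_rfl (hN.anti _ _ _ _ le_rfl (by omega))
    obtain ⟨μ, hμ⟩ := exists_add_of_le hle0
    obtain ⟨ν, hν⟩ := exists_add_of_le hle1
    rw [L_pt ρ hI i j φ _ _ _ (region_down hA1 hle1 htop), L_pt ρ hI i j φ _ _ _ (region_down hA hle0 htop)]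
    rw [cgen_reachable hI φ (conn hA1 ν (hν ▸ htop)), cgen_reachable hI φ (conn hA μ (hμ ▸ htop))]
    simp only [← hν, ← hμ]

include hI in
lemma only_shift {i j : ℤ} {φ : Tgt I} (hφ : φ ∈ P (I := I) ρ i j) (β : Fin 3 →₀ ℕ) (hβ : β ∈ exps I)
    {δ : Fin 3 →₀ ℕ} (hδ : δ ∉ exps I) (hne : π hI hδ (φ ⟨monomial β 1, hβ⟩) ≠ 0) :
    (δ (ρ 0) : ℤ) = β (ρ 0) + i ∧ (δ (ρ 1) : ℤ) = β (ρ 1) + j := by
  by_contra hc
  apply hne
  let S : Submodule k (Tgt I) :=
    { carrier := {ψ | π hI hδ (ψ ⟨monomial β 1, hβ⟩) = 0}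
      add_mem' := fun {a b} ha hb => by simp only [Set.mem_setOf_eq] at *; simp [ha, hb]
      zero_mem' := by simp
      smul_mem' := fun r a ha => by simp only [Set.mem_setOf_eq] at *; simp [ha] }
  have : P (I := I) ρ i j ≤ S := iSup_le fun α ψ hψ => by
    show π hI hδ (ψ ⟨monomial β 1, hβ⟩) = 0
    by_cases hp : ∀ x, 0 ≤ vec α.1 β x
    · have := (hψ β hβ).1 hp
      rw [shift_eq, Submodule.mem_span_singleton] at this
      obtain ⟨r, hr⟩ := this
      rw [← hr, map_smul, π_mk, coeff_monomial, if_neg, smul_zero]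
      intro e
      refine hc ⟨?_, ?_⟩
      · have := hp (ρ 0); rw [← e]; simp only [toF_apply, vec, α.2.1] at this ⊢; omega
      · have := hp (ρ 1); rw [← e]; simp only [toF_apply, vec, α.2.2] at this ⊢; omega
    · push_neg at hp
      rw [(hψ β hβ).2 hp, map_zero]
  exact this hφ

include hI in
lemma L_injOn {i j : ℤ} {φ : Tgt I} (hφ : φ ∈ P (I := I) ρ i j) (h : L ρ hI i j φ = 0) : φ = 0 := by
  have hgen : ∀ t : ℤ × ℤ × ℤ, φ ⟨monomial (src (I := I) ρ t) 1, src_mem ρ hI t⟩ = 0 := by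
    intro t
    rw [expand_mk hI (φ ⟨monomial (src (I := I) ρ t) 1, src_mem ρ hI t⟩)]
    refine Finset.sum_eq_zero fun δ _ => ?_
    by_contra hne
    have hπ : π hI ((Set.Finite.mem_toFinset (finite_compl hI)).mp δ.2 : δ.1 ∉ exps I)
        (φ ⟨monomial (src (I := I) ρ t) 1, src_mem ρ hI t⟩) ≠ 0 := fun e => hne (by rw [e, zero_smul])
    obtain ⟨e0, e1⟩ := only_shift ρ hI hφ _ _ _ hπ
    set A := t.1.toNat with hA
    set B := t.2.1.toNat with hB
    set m : ℤ := (δ.1 (ρ 2) : ℤ) - st I ρ A B with hm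
    set t' : ℤ × ℤ × ℤ := ((A : ℤ), (B : ℤ), m) with ht'
    have hsrc : src (I := I) ρ t' = src (I := I) ρ t := by
      show src (I := I) ρ ((A : ℤ), (B : ℤ), m) = _
      simp only [src, Int.toNat_natCast, hA, hB]
    have hv : toF (vec (al ρ i j m) (src (I := I) ρ t')) = δ.1 := by
      apply DFunLike.coe_injective
      refine ext3 ρ ?_ ?_ ?_ <;> simp only [toF_apply, vec, al_0, al_1, al_2, hsrc] <;>
        simp only [src, pt_0, pt_1, pt_2, ← hA, ← hB] at e0 e1 ⊢ <;> omega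
    have hcell : t' ∈ Cell (st I ρ) i j := by
      refine (cell_iff ρ hI i j t' (by simp [ht']) (by simp [ht'])).mpr ⟨fun x => ?_, ?_⟩
      · obtain ⟨y, rfl⟩ := ρ.surjective x
        simp only [src, pt_0, pt_1] at e0 e1
        rw [← hA, ← hB] at *
        fin_cases y <;> simp [ht', vec, src, hm] <;> omega
      · show toF (vec (al ρ i j m) _) ∉ _
        rw [hv]; exact (Set.Finite.mem_toFinset (finite_compl hI)).mp δ.2
    apply hπ
    have := congrFun h ⟨t', hcell⟩
    rw [L_apply] at this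
    simp only [hsrc] at this
    rw [hsrc] at hv
    exact (π_congr hI hv.symm _ _ _).trans this
  apply LinearMap.ext
  intro p
  have hp : p = ∑ β ∈ p.1.support.attach,
      (C (coeff β.1 p.1) : MvPolynomial (Fin 3) k) • (⟨monomial β.1 1, hI p.1 p.2 β.1 β.2⟩ : I) := by
    apply Subtype.ext
    rw [AddSubmonoidClass.coe_finsetSum]
    conv_lhs => rw [p.1.as_sum, ← Finset.sum_attach]
    exact Finset.sum_congr rfl fun β _ => by simp [C_mul_monomial]
  rw [hp, map_sum, LinearMap.zero_apply]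
  refine Finset.sum_eq_zero fun β _ => ?_
  set t : ℤ × ℤ × ℤ := ((β.1 (ρ 0) : ℤ), (β.1 (ρ 1) : ℤ), 0)
  have hle : src (I := I) ρ t ≤ β.1 := by
    conv_rhs => rw [← pt_eta ρ β.1]
    simp only [src, t, Int.toNat_natCast]
    exact pt_le ρ le_rfl le_rfl ((mem_exps_iff ρ hI _ _ _).mp (by rw [pt_eta]; exact hI p.1 p.2 β.1 β.2))
  have he : (⟨monomial β.1 1, hI p.1 p.2 β.1 β.2⟩ : I) =
      (monomial (β.1 - src (I := I) ρ t) 1 : MvPolynomial (Fin 3) k) •
        (⟨monomial (src (I := I) ρ t) 1, src_mem ρ hI t⟩ : I) := by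
    apply Subtype.ext
    show monomial β.1 (1 : k) = monomial (β.1 - src (I := I) ρ t) 1 * monomial _ 1
    rw [monomial_mul, one_mul, tsub_add_cancel_of_le hle]
  rw [map_smul, he, map_smul, hgen, smul_zero, smul_zero]

/-- single-degree map attached to slice data -/
noncomputable def imgS (i j : ℤ) (v : Cell (st I ρ) i j → k) (m : ℤ) (β : Fin 3 →₀ ℕ) :
    MvPolynomial (Fin 3) k ⧸ I :=
  StairDual.ext k i j v ((β (ρ 0) : ℤ), (β (ρ 1) : ℤ), m) •
    Ideal.Quotient.mk I (monomial (toF (vec (al ρ i j m) β)) 1)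

include hI in
lemma imgS_step {i j : ℤ} {v : Cell (st I ρ) i j → k} (hv : v ∈ T (st I ρ) k i j) (m : ℤ)
    {β : Fin 3 →₀ ℕ} (hβ : β ∈ exps I) (x : Fin 3) :
    imgS ρ i j v m (β + Finsupp.single x 1) = (X x : MvPolynomial (Fin 3) k) • imgS ρ i j v m β := by
  obtain ⟨N, hN⟩ := stair ρ hI
  set α := al ρ i j m with hα
  set a := β (ρ 0) with ha
  set b := β (ρ 1) with hb
  set l := β (ρ 2) with hl
  have hst : st I ρ a b ≤ l := by rw [← mem_exps_iff ρ hI, pt_eta]; exact hβ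
  have hmk : ∀ γ : Fin 3 → ℤ, (X x : MvPolynomial (Fin 3) k) •
      Ideal.Quotient.mk I (monomial (toF γ) (1 : k)) =
        Ideal.Quotient.mk I (monomial (toF γ + Finsupp.single x 1) 1) := by
    intro γ
    show Ideal.Quotient.mk I (X x * monomial _ 1) = _
    rw [X, monomial_mul, one_mul, add_comm]
  have hcoe : ∀ c d : k, ∀ δ δ' : Fin 3 →₀ ℕ, δ = δ' → c = d →
      c • Ideal.Quotient.mk I (monomial δ (1 : k)) = d • Ideal.Quotient.mk I (monomial δ' 1) := by
    rintro c d δ δ' rfl rfl; rfl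
  have hpos : ∀ {a' b' : ℕ}, StairDual.ext k i j v ((a' : ℤ), (b' : ℤ), m) ≠ 0 →
      0 ≤ (a' : ℤ) + i ∧ 0 ≤ (b' : ℤ) + j ∧ 0 ≤ m + st I ρ a' b' := by
    intro a' b' hne
    by_contra hc
    refine hne (ext_of_not_mem _ fun hcell => hc ?_)
    obtain ⟨-, -, h3, h4⟩ := hcell
    have := cb_pos h4 h3
    simp only [cb, Nat.cast_nonneg, and_self, if_true, Int.toNat_natCast] at h3
    exact ⟨this.1, this.2, h3⟩
  rw [imgS, imgS, smul_comm, hmk]
  rw [← ha, ← hb, ← hα]
  obtain ⟨y, rfl⟩ := ρ.surjective x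
  have hvec : ∀ h0 : (0 : ℤ) ≤ vec α β (ρ y), toF (vec α (β + Finsupp.single (ρ y) 1)) =
      toF (vec α β) + Finsupp.single (ρ y) 1 := by
    intro h0
    rw [vec_add_single]
    ext z
    simp only [toF_apply, Finsupp.add_apply, Pi.add_apply, Finsupp.single_apply, Pi.single_apply]
    by_cases hz : ρ y = z
    · subst hz; simp; omega
    · simp [hz, Ne.symm hz]
  fin_cases y
  · simp only [Fin.zero_eta, Finsupp.add_apply, Finsupp.single_apply, ρ.injective.eq_iff,
      Fin.reduceEq, if_false, if_true, add_zero] at *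
    rw [← ha, ← hb]
    push_cast
    by_cases hne : StairDual.ext k i j v ((a : ℤ) + 1, (b : ℤ), m) = 0 ∧ StairDual.ext k i j v ((a : ℤ), (b : ℤ), m) = 0
    · rw [hne.1, hne.2, zero_smul, zero_smul]
    by_cases hE : ((a : ℤ), (b : ℤ), m) ∈ Cell (st I ρ) (i + 1) j
    · have he := congrFun (LinearMap.mem_ker.mp hv) (Sum.inl ⟨_, hE⟩)
      simp only [d0, LinearMap.coe_mk, AddHom.coe_mk, Sum.elim_inl, Pi.zero_apply, sub_eq_zero] at he
      rw [he] at hne ⊢
      by_cases h0 : 0 ≤ vec α β (ρ 0)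
      · exact hcoe _ _ _ _ (hvec h0) rfl
      · exfalso
        simp only [and_self] at hne
        obtain ⟨p1, -, -⟩ := hpos hne
        apply h0
        simp only [vec, hα, al_0]; omega
    · by_cases h1 : 0 ≤ m + (st I ρ a b : ℤ)
      · have hbig : cb (st I ρ) ((a : ℤ) + (i + 1)) ((b : ℤ) + j) ≤ m + st I ρ a b := by
          by_contra hc
          refine hE ⟨by simp, by simp, ?_, ?_⟩ <;>
            simp only [cb, Nat.cast_nonneg, and_self, if_true, Int.toNat_natCast] at hc ⊢ <;> omega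
        have hz : StairDual.ext k i j v ((a : ℤ) + 1, (b : ℤ), m) = 0 ∨
            toF (vec α (β + Finsupp.single (ρ 0) 1)) ∈ exps I := by
          by_cases h : StairDual.ext k i j v (((a + 1 : ℕ) : ℤ), (b : ℤ), m) = 0
          · left; push_cast at h; exact h
          obtain ⟨p1, p2, p3⟩ := hpos h
          right
          have hF : toF (vec α (β + Finsupp.single (ρ 0) 1)) =
              pt ρ ((a : ℤ) + (i + 1)).toNat ((b : ℤ) + j).toNat ((l : ℤ) + m).toNat :=
            DFunLike.coe_injective (ext3 ρ (by simp [vec, hα, ← ha]; omega)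
              (by simp [vec, hα, ← hb, ρ.injective.eq_iff])
              (by simp [vec, hα, ← hl, ρ.injective.eq_iff]))
          rw [hF, mem_exps_iff ρ hI]
          push_cast at p1
          simp only [cb, show 0 ≤ (a : ℤ) + (i + 1) by omega, p2, and_self, if_true] at hbig
          omega
        have hz' : StairDual.ext k i j v ((a : ℤ), (b : ℤ), m) = 0 ∨
            toF (vec α β) + Finsupp.single (ρ 0) 1 ∈ exps I := by
          by_cases h : StairDual.ext k i j v ((a : ℤ), (b : ℤ), m) = 0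
          · exact Or.inl h
          obtain ⟨p1, p2, p3⟩ := hpos h
          right
          have hF : toF (vec α β) + Finsupp.single (ρ 0) 1 =
              pt ρ ((a : ℤ) + (i + 1)).toNat ((b : ℤ) + j).toNat ((l : ℤ) + m).toNat :=
            DFunLike.coe_injective (ext3 ρ (by simp [vec, hα, ← ha]; omega)
              (by simp [vec, hα, ← hb, ρ.injective.eq_iff])
              (by simp [vec, hα, ← hl, ρ.injective.eq_iff]))
          rw [hF, mem_exps_iff ρ hI]
          simp only [cb, show 0 ≤ (a : ℤ) + (i + 1) by omega, p2, and_self, if_true] at hbig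
          omega
        rw [show StairDual.ext k i j v ((a : ℤ) + 1, (b : ℤ), m) •
            Ideal.Quotient.mk I (monomial (toF (vec α (β + Finsupp.single (ρ 0) 1))) (1 : k)) = 0 from
          hz.elim (fun h => by rw [h, zero_smul]) fun h => by
            rw [Ideal.Quotient.eq_zero_iff_mem.mpr h, smul_zero]]
        exact Eq.symm (hz'.elim (fun h => by rw [h, zero_smul]) fun h => by
            rw [Ideal.Quotient.eq_zero_iff_mem.mpr h, smul_zero])
      · exfalso
        rcases not_and_or.mp hne with h | h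
        · have := hpos (a' := a + 1) (b' := b) (by push_cast; exact h)
          have := hN.anti a (a + 1) b b (by omega) le_rfl
          omega
        · have := hpos (a' := a) (b' := b) h
          omega
  · simp only [Fin.mk_one, Finsupp.add_apply, Finsupp.single_apply, ρ.injective.eq_iff,
      Fin.reduceEq, if_false, if_true, add_zero] at *
    rw [← ha, ← hb]
    push_cast
    by_cases hne : StairDual.ext k i j v ((a : ℤ), (b : ℤ) + 1, m) = 0 ∧ StairDual.ext k i j v ((a : ℤ), (b : ℤ), m) = 0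
    · rw [hne.1, hne.2, zero_smul, zero_smul]
    by_cases hE : ((a : ℤ), (b : ℤ), m) ∈ Cell (st I ρ) i (j + 1)
    · have he := congrFun (LinearMap.mem_ker.mp hv) (Sum.inr ⟨_, hE⟩)
      simp only [d0, LinearMap.coe_mk, AddHom.coe_mk, Sum.elim_inr, Pi.zero_apply, sub_eq_zero] at he
      rw [he] at hne ⊢
      by_cases h0 : 0 ≤ vec α β (ρ 1)
      · exact hcoe _ _ _ _ (hvec h0) rfl
      · exfalso
        simp only [and_self] at hne
        obtain ⟨-, p1, -⟩ := hpos hne
        apply h0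
        simp only [vec, hα, al_1]; omega
    · by_cases h1 : 0 ≤ m + (st I ρ a b : ℤ)
      · have hbig : cb (st I ρ) ((a : ℤ) + i) ((b : ℤ) + (j + 1)) ≤ m + st I ρ a b := by
          by_contra hc
          refine hE ⟨by simp, by simp, ?_, ?_⟩ <;>
            simp only [cb, Nat.cast_nonneg, and_self, if_true, Int.toNat_natCast] at hc ⊢ <;> omega
        have hz : StairDual.ext k i j v ((a : ℤ), (b : ℤ) + 1, m) = 0 ∨
            toF (vec α (β + Finsupp.single (ρ 1) 1)) ∈ exps I := by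
          by_cases h : StairDual.ext k i j v ((a : ℤ), ((b + 1 : ℕ) : ℤ), m) = 0
          · left; push_cast at h; exact h
          obtain ⟨p1, p2, p3⟩ := hpos h
          right
          have hF : toF (vec α (β + Finsupp.single (ρ 1) 1)) =
              pt ρ ((a : ℤ) + i).toNat ((b : ℤ) + (j + 1)).toNat ((l : ℤ) + m).toNat :=
            DFunLike.coe_injective (ext3 ρ (by simp [vec, hα, ← ha, ρ.injective.eq_iff])
              (by simp [vec, hα, ← hb]; omega)
              (by simp [vec, hα, ← hl, ρ.injective.eq_iff]))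
          rw [hF, mem_exps_iff ρ hI]
          push_cast at p2
          simp only [cb, show 0 ≤ (b : ℤ) + (j + 1) by omega, p1, and_self, if_true] at hbig
          omega
        have hz' : StairDual.ext k i j v ((a : ℤ), (b : ℤ), m) = 0 ∨
            toF (vec α β) + Finsupp.single (ρ 1) 1 ∈ exps I := by
          by_cases h : StairDual.ext k i j v ((a : ℤ), (b : ℤ), m) = 0
          · exact Or.inl h
          obtain ⟨p1, p2, p3⟩ := hpos h
          right
          have hF : toF (vec α β) + Finsupp.single (ρ 1) 1 =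
              pt ρ ((a : ℤ) + i).toNat ((b : ℤ) + (j + 1)).toNat ((l : ℤ) + m).toNat :=
            DFunLike.coe_injective (ext3 ρ (by simp [vec, hα, ← ha, ρ.injective.eq_iff])
              (by simp [vec, hα, ← hb]; omega)
              (by simp [vec, hα, ← hl, ρ.injective.eq_iff]))
          rw [hF, mem_exps_iff ρ hI]
          simp only [cb, show 0 ≤ (b : ℤ) + (j + 1) by omega, p1, and_self, if_true] at hbig
          omega
        rw [show StairDual.ext k i j v ((a : ℤ), (b : ℤ) + 1, m) •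
            Ideal.Quotient.mk I (monomial (toF (vec α (β + Finsupp.single (ρ 1) 1))) (1 : k)) = 0 from
          hz.elim (fun h => by rw [h, zero_smul]) fun h => by
            rw [Ideal.Quotient.eq_zero_iff_mem.mpr h, smul_zero]]
        exact Eq.symm (hz'.elim (fun h => by rw [h, zero_smul]) fun h => by
            rw [Ideal.Quotient.eq_zero_iff_mem.mpr h, smul_zero])
      · exfalso
        rcases not_and_or.mp hne with h | h
        · have := hpos (a' := a) (b' := b + 1) (by push_cast; exact h)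
          have := hN.anti a a b (b + 1) le_rfl (by omega)
          omega
        · have := hpos (a' := a) (b' := b) h
          omega
  · simp only [Fin.reduceFinMk, Finsupp.add_apply, Finsupp.single_apply, ρ.injective.eq_iff,
      Fin.reduceEq, if_false, add_zero] at *
    rw [← ha, ← hb]
    by_cases h : StairDual.ext k i j v ((a : ℤ), (b : ℤ), m) = 0
    · rw [h, zero_smul, zero_smul]
    · obtain ⟨-, -, p3⟩ := hpos h
      refine hcoe _ _ _ _ (hvec ?_) rfl
      simp only [vec, hα, al_2, ← hl]; omega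

lemma img_mul_of_step {f : (Fin 3 →₀ ℕ) → MvPolynomial (Fin 3) k ⧸ I}
    (hf : ∀ β ∈ exps I, ∀ x, f (β + Finsupp.single x 1) = (X x : MvPolynomial (Fin 3) k) • f β)
    {β : Fin 3 →₀ ℕ} (hβ : β ∈ exps I) (μ : Fin 3 →₀ ℕ) :
    f (β + μ) = (monomial μ 1 : MvPolynomial (Fin 3) k) • f β := by
  induction μ using Finsupp.induction_linear generalizing β with
  | zero => simp
  | add μ ν hμ hν =>
    rw [← add_assoc, hν (exps_mono hβ le_self_add), hμ hβ, smul_smul, monomial_mul, one_mul, add_comm ν μ]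
  | single i t =>
    induction t generalizing β with
    | zero => simp
    | succ t ih =>
      rw [Finsupp.single_add, ← add_assoc, hf _ (exps_mono hβ le_self_add) i, ih hβ, smul_smul]
      congr 1
      rw [X, monomial_mul, one_mul, add_comm]

include hI in
lemma ofStep_linear {f : (Fin 3 →₀ ℕ) → MvPolynomial (Fin 3) k ⧸ I}
    (hf : ∀ β ∈ exps I, ∀ x, f (β + Finsupp.single x 1) = (X x : MvPolynomial (Fin 3) k) • f β)
    (q : MvPolynomial (Fin 3) k) (p : I) :
    (basisMonomials (Fin 3) k).constr k f (q * p.1) = q • (basisMonomials (Fin 3) k).constr k f p.1 := by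
  set F := (basisMonomials (Fin 3) k).constr k f with hF
  have h1 : ∀ μ c, F (monomial μ c) = c • f μ := by
    intro μ c
    have := (basisMonomials (Fin 3) k).constr_basis k f μ
    rw [show basisMonomials (Fin 3) k μ = monomial μ (1 : k) by simp, ← hF] at this
    rw [show monomial μ c = c • monomial μ (1 : k) by simp [smul_monomial], map_smul, this]
  conv_lhs => rw [p.1.as_sum, Finset.mul_sum, map_sum]
  conv_rhs => rw [p.1.as_sum, map_sum, Finset.smul_sum]
  refine Finset.sum_congr rfl fun β hβ => ?_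
  induction q using MvPolynomial.induction_on' with
  | monomial μ c =>
    rw [monomial_mul, h1, h1, add_comm μ β, img_mul_of_step hf (hI p.1 p.2 β hβ)]
    rw [← smul_assoc, smul_comm (monomial μ c) (coeff β p.1), ← smul_assoc, smul_monomial, smul_monomial,
      smul_eq_mul, smul_eq_mul, mul_one, mul_comm]
  | add p q hp hq => rw [add_mul, map_add, hp, hq, add_smul]

include hI in
lemma exists_preimage {i j : ℤ} {v : Cell (st I ρ) i j → k} (hv : v ∈ T (st I ρ) k i j) (m : ℤ) :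
    ∃ φ ∈ P (I := I) ρ i j, ∀ t : Cell (st I ρ) i j,
      L ρ hI i j φ t = if t.1.2.2 = m then v t else 0 := by
  let f := imgS ρ i j v m
  let φ : Tgt I :=
    { toFun := fun p => (basisMonomials (Fin 3) k).constr k f p.1
      map_add' := fun p q => by simp
      map_smul' := fun q p => ofStep_linear hI (fun β hβ x => imgS_step ρ hI hv m hβ x) q p }
  have hval : ∀ β : Fin 3 →₀ ℕ, ∀ hβ : β ∈ exps I, φ ⟨monomial β 1, hβ⟩ = imgS ρ i j v m β := by
    intro β hβ
    have := (basisMonomials (Fin 3) k).constr_basis k f β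
    rwa [show basisMonomials (Fin 3) k β = monomial β (1 : k) by simp] at this
  refine ⟨φ, Submodule.mem_iSup_of_mem ⟨al ρ i j m, by simp, by simp⟩ ?_, fun t => ?_⟩
  · intro β hβ
    refine ⟨fun _ => ?_, ?_⟩
    · rw [show φ ⟨monomial β 1, hβ⟩ = _ from hval β hβ, shift_eq]
      exact Submodule.smul_mem _ _ (Submodule.mem_span_singleton_self _)
    · rintro ⟨x, hx⟩
      rw [show φ ⟨monomial β 1, hβ⟩ = _ from hval β hβ, imgS, ext_of_not_mem, zero_smul]
      intro hc
      obtain ⟨-, -, h3, h4⟩ := hc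
      have := cb_pos h4 h3
      simp only [cb, Nat.cast_nonneg, and_self, if_true, Int.toNat_natCast] at h3
      have hl : st I ρ (β (ρ 0)) (β (ρ 1)) ≤ β (ρ 2) := by
        rw [← mem_exps_iff ρ hI, pt_eta]; exact hβ
      obtain ⟨y, rfl⟩ := ρ.surjective x
      fin_cases y <;> simp at hx this <;> omega
  · rw [L_apply, hval, imgS, map_smul, π_mk]
    obtain ⟨⟨a, b, m'⟩, ha, hb, h3, h4⟩ := t
    simp only at ha hb h3 h4
    obtain ⟨A, rfl⟩ := Int.eq_ofNat_of_zero_le ha
    obtain ⟨B, rfl⟩ := Int.eq_ofNat_of_zero_le hb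
    simp only [src, Int.toNat_natCast, pt_0, pt_1]
    by_cases hm : m' = m
    · subst hm
      rw [if_pos rfl, ext_of_mem _ ⟨ha, hb, h3, h4⟩, coeff_monomial, if_pos rfl, smul_eq_mul, mul_one]
    · rw [if_neg hm]
      by_cases hz : StairDual.ext k i j v ((A : ℤ), (B : ℤ), m) = 0
      · rw [hz, zero_smul]
      have hc : ((A : ℤ), (B : ℤ), m) ∈ Cell (st I ρ) i j := by
        by_contra h; exact hz (ext_of_not_mem _ h)
      obtain ⟨-, -, g3, -⟩ := hc
      simp only [cb, Nat.cast_nonneg, and_self, if_true, Int.toNat_natCast] at h3 g3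
      rw [coeff_monomial, if_neg, smul_zero]
      intro e
      have := congrArg (fun g : Fin 3 →₀ ℕ => g (ρ 2)) e
      simp [vec] at this
      omega

include hI in
theorem finrank_P (i j : ℤ) :
    Module.finrank k (P (I := I) ρ i j) = Module.finrank k (T (st I ρ) k i j) := by
  obtain ⟨N, hN⟩ := stair ρ hI
  letI := (cell_finite hN i j).fintype
  let L' : P (I := I) ρ i j →ₗ[k] T (st I ρ) k i j :=
    ((L ρ hI i j).comp (P (I := I) ρ i j).subtype).codRestrict _ fun φ => L_mem_T ρ hI i j φ.1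
  refine (LinearEquiv.ofBijective L' ⟨?_, ?_⟩).finrank_eq
  · refine (injective_iff_map_eq_zero _).mpr fun φ hφ => ?_
    exact Subtype.ext (L_injOn ρ hI φ.2 (congrArg Subtype.val hφ))
  · intro v
    choose φ hP hφ using fun m => exists_preimage ρ hI v.2 m
    refine ⟨⟨∑ m ∈ Finset.univ.image (fun t : Cell (st I ρ) i j => t.1.2.2), φ m,
      Submodule.sum_mem _ fun m _ => hP m⟩, Subtype.ext ?_⟩
    show L ρ hI i j (∑ m ∈ _, φ m) = v.1
    funext t
    rw [map_sum, Finset.sum_apply]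
    simp only [hφ, Finset.sum_ite_eq]
    rw [if_pos]
    exact Finset.mem_image.mpr ⟨t, Finset.mem_univ _, rfl⟩

end Groth.Agent.CommAlg4.HilbSlice
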