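import Groth.Agent.CommAlg4.HilbPiece
import Mathlib

open MvPolynomial W4c1hilbpn
open scoped Classical
open Groth.Agent.CommAlg4.HilbPiece

namespace Groth.Agent.CommAlg4.HilbSplit

universe u v
variable {σ : Type v} [Fintype σ] {k : Type u} [Field k] {I : Ideal (MvPolynomial σ k)} {α : σ → ℤ}

lemma region_down {β β' : σ →₀ ℕ} (hβ : β ∈ exps I) (hle : β ≤ β') (h : vec α β' ∈ region I α) :
    vec α β ∈ region I α := by
  refine mem_region.mpr ⟨⟨β, hβ, rfl⟩, fun hc => (mem_region.mp h).2 ⟨fun i => ?_, ?_⟩⟩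
  · have := hc.1 i; have := hle i; simp only [vec] at *; omega
  · refine exps_mono hc.2 fun i => ?_
    simp only [toF_apply, vec]
    have := hle i; omega

lemma conn {β : σ →₀ ℕ} (hβ : β ∈ exps I) (μ : σ →₀ ℕ) (h : vec α (β + μ) ∈ region I α) :
    (GR I α).Reachable ⟨vec α β, region_down hβ le_self_add h⟩ ⟨vec α (β + μ), h⟩ := by
  induction μ using Finsupp.induction_linear generalizing β with
  | zero => simp
  | add μ ν hμ hν =>
    have h' : vec α (β + μ) ∈ region I α :=
      region_down (exps_mono hβ le_self_add) (by rw [← add_assoc]; exact le_self_add) h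
    have h2 : vec α (β + μ + ν) ∈ region I α := by rwa [add_assoc]
    refine (hμ hβ h').trans ?_
    convert hν (exps_mono hβ le_self_add) h2 using 3
    rw [add_assoc]
  | single i t =>
    induction t generalizing β with
    | zero => simp
    | succ t ih =>
      have h' : vec α (β + Finsupp.single i t) ∈ region I α :=
        region_down (exps_mono hβ le_self_add) (by rw [Finsupp.single_add, ← add_assoc]; exact le_self_add) h
      refine (ih hβ h').trans (SimpleGraph.Adj.reachable (adj_of_succ h' h i ?_))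
      rw [Finsupp.single_add, ← add_assoc, vec_add_single]

lemma no_finite_of_neg (hI : IsMonomial I) [Module.Finite k (MvPolynomial σ k ⧸ I)] [Nontrivial σ]
    (hα : ∀ i, α i < 0) (C : (GR I α).ConnectedComponent) : ¬ C.supp.Finite := by
  intro hC
  obtain ⟨i1, i2, hne⟩ := exists_pair_ne σ
  suffices H : ∀ (N : ℕ) (a : region I α), a ∈ C.supp → (a.1 i2).toNat = N → False by
    obtain ⟨a, ha⟩ := C.exists_rep
    exact H _ a ha rfl
  intro N
  induction N using Nat.strong_induction_on with
  | _ N ih =>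
    intro a ha hN
    have h0 := nonneg_of_finite hC ha
    obtain ⟨hb, hv⟩ := bet_mem a.2
    have hex : ∃ t : ℕ, toF a.1 + Finsupp.single i1 t ∈ exps I := by
      by_contra hc
      push_neg at hc
      exact (finite_compl hI).not_infinite (Set.infinite_of_injective_forall_mem
        (fun s t e => by simpa using congrArg (fun g : σ →₀ ℕ => g i1) e) hc)
    have ht := Nat.find_spec hex
    have ht0 : Nat.find hex ≠ 0 := fun e => by
      rw [e, Finsupp.single_zero, add_zero] at ht
      exact not_mem_exps a.2 h0 ht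
    obtain ⟨s, hs⟩ := Nat.exists_eq_succ_of_ne_zero ht0
    have hlow : toF a.1 + Finsupp.single i1 s ∉ exps I := Nat.find_min hex (by omega)
    rw [hs] at ht
    have hvec : ∀ j, vec α (bet α a.1 + Finsupp.single i1 s) j =
        a.1 j + (Finsupp.single i1 s j : ℕ) := fun j => by
      have := congrFun hv j
      simp only [vec, Finsupp.add_apply] at this ⊢
      push_cast; omega
    have hη : vec α (bet α a.1 + Finsupp.single i1 s) ∈ region I α := by
      refine mem_region.mpr ⟨⟨_, exps_mono hb le_self_add, rfl⟩, fun hc => hlow ?_⟩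
      convert hc.2 using 1
      ext j
      simp only [toF_apply, Finsupp.add_apply, hvec]
      have := h0 j; omega
    have r1 := conn hb (Finsupp.single i1 s) hη
    have ha' : (⟨vec α (bet α a.1), region_down hb le_self_add hη⟩ : region I α) = a := Subtype.ext hv
    rw [ha'] at r1
    -- the lower source
    set β' := toF a.1 + Finsupp.single i1 (s + 1) with hβ'
    have hle : β' ≤ bet α a.1 + Finsupp.single i1 s := by
      intro j
      have := congrFun hv j
      simp only [vec] at this
      have := h0 j; have := hα j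
      simp only [hβ', Finsupp.add_apply, toF_apply, Finsupp.single_apply]
      split_ifs <;> omega
    obtain ⟨μ, hμ⟩ := exists_add_of_le hle
    have hη2 : vec α (β' + μ) ∈ region I α := by rw [← hμ]; exact hη
    have r2 := conn ht μ hη2
    have he : (⟨vec α (bet α a.1 + Finsupp.single i1 s), hη⟩ : region I α) = ⟨vec α (β' + μ), hη2⟩ :=
      Subtype.ext (by show vec α _ = vec α _; rw [hμ])
    have r3 := r1.trans (he ▸ r2.symm)
    have hmem : (⟨vec α β', region_down ht le_self_add hη2⟩ : region I α) ∈ C.supp := by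
      rw [SimpleGraph.ConnectedComponent.mem_supp_iff] at ha ⊢
      rw [← ha]
      exact (SimpleGraph.ConnectedComponent.sound r3).symm
    have hlt : (vec α β' i2).toNat < N := by
      have := nonneg_of_finite hC hmem i2
      have := hα i2; have := h0 i2
      simp only [vec, hβ', Finsupp.add_apply, toF_apply, Finsupp.single_apply, if_neg hne] at *
      omega
    exact ih _ hlt _ hmem rfl

theorem tPiece_eq_bot (hI : IsMonomial I) [Module.Finite k (MvPolynomial σ k ⧸ I)] [Nontrivial σ]
    (hα : (∀ i, 0 ≤ α i) ∨ (∀ i, α i < 0)) : tPiece I α = ⊥ := by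
  haveI : IsEmpty (FinComp I α) := ⟨fun C => by
    rcases hα with h | h
    · obtain ⟨⟨γ, hγ⟩, -⟩ := C.1.exists_rep
      obtain ⟨⟨β, hβ, rfl⟩, h2⟩ := mem_region.mp hγ
      refine h2 ⟨fun i => by simp only [vec]; have := h i; omega, exps_mono hβ fun i => ?_⟩
      simp only [toF_apply, vec]; have := h i; omega
    · exact no_finite_of_neg hI h C.1 C.2⟩
  haveI : Subsingleton ↥(tPiece I α) := (toComp_injective hI).subsingleton
  exact Submodule.eq_bot_of_subsingleton

lemma coeff_step (hI : IsMonomial I) (φ : Tgt I) {a b : region I α} (i : σ)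
    (e : (b : σ → ℤ) = (a : σ → ℤ) + Pi.single i 1) :
    (if h : ∀ j, 0 ≤ a.1 j then π hI (not_mem_exps a.2 h) (φ ⟨monomial (bet α a.1) 1, (bet_mem a.2).1⟩) else 0) =
    (if h : ∀ j, 0 ≤ b.1 j then π hI (not_mem_exps b.2 h) (φ ⟨monomial (bet α b.1) 1, (bet_mem b.2).1⟩) else 0) := by
  by_cases hb : ∀ j, 0 ≤ b.1 j
  swap
  · have ha : ¬ ∀ j, 0 ≤ a.1 j := fun ha => hb fun j => by
      rw [e]
      by_cases hj : j = i
      · subst hj; have := ha j; simp; omega
      · simp [hj, ha j]
    rw [dif_neg ha, dif_neg hb]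
  have hbet : bet α b.1 = bet α a.1 + Finsupp.single i 1 := by
    rw [← bet_vec (α := α) (bet α a.1 + Finsupp.single i 1), vec_add_single, (bet_mem a.2).2, e]
  have key : φ ⟨monomial (bet α b.1) 1, (bet_mem b.2).1⟩ =
      (X i : MvPolynomial σ k) • φ ⟨monomial (bet α a.1) 1, (bet_mem a.2).1⟩ := by
    rw [← mul_apply]; simp only [hbet]
  obtain ⟨p, hp⟩ := Ideal.Quotient.mk_surjective (φ ⟨monomial (bet α a.1) 1, (bet_mem a.2).1⟩)
  rw [dif_pos hb, key, ← hp]
  show _ = π hI _ (Ideal.Quotient.mk I (X i * p))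
  rw [π_mk]
  by_cases ha : ∀ j, 0 ≤ a.1 j
  · rw [dif_pos ha, π_mk, e, toF_add_single _ _ ha, add_comm, coeff_X_mul]
  · rw [dif_neg ha, coeff_X_mul', if_neg]
    push_neg at ha
    obtain ⟨j, hj⟩ := ha
    have hji : j = i := by
      by_contra h; have := hb j; rw [e] at this; simp [h] at this; omega
    subst hji
    simp only [Finsupp.mem_support_iff, toF_apply, ne_eq, not_not]
    rw [e]; simp; omega

/-- coefficient of a homomorphism along a region point -/
noncomputable def cgen (hI : IsMonomial I) (φ : Tgt I) (a : region I α) : k :=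
  if h : ∀ j, 0 ≤ a.1 j then π hI (not_mem_exps a.2 h) (φ ⟨monomial (bet α a.1) 1, (bet_mem a.2).1⟩) else 0

lemma cgen_reachable (hI : IsMonomial I) (φ : Tgt I) {a b : region I α} (h : (GR I α).Reachable a b) :
    cgen hI φ a = cgen hI φ b := by
  obtain ⟨w⟩ := h
  induction w with
  | nil => rfl
  | cons hadj _ ih =>
    rw [← ih]
    obtain ⟨i, hi | hi⟩ := succ_of_adj hadj
    · exact coeff_step hI φ i hi
    · exact (coeff_step hI φ i hi).symm

variable (α) in
/-- the multidegree component of a homomorphism -/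
noncomputable def comp [Nontrivial σ] (hI : IsMonomial I) (φ : Tgt I) : tPiece I α :=
  fromComp hI fun C => cgen hI φ C.1.out

lemma comp_apply [Nontrivial σ] (hI : IsMonomial I) [Module.Finite k (MvPolynomial σ k ⧸ I)] (φ : Tgt I)
    {β : σ →₀ ℕ} (hβ : β ∈ exps I) :
    (comp α hI φ : Tgt I) ⟨monomial β 1, hβ⟩ =
      if h : (∀ i, 0 ≤ vec α β i) ∧ toF (vec α β) ∉ exps I then
        π hI h.2 (φ ⟨monomial β 1, hβ⟩) • Ideal.Quotient.mk I (monomial (toF (vec α β)) 1) else 0 := by
  simp only [comp, fromComp, LinearMap.coe_mk, AddHom.coe_mk, ext₀_monomial, one_smul, img]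
  split_ifs with h
  · have hr : vec α β ∈ region I α := mem_region.mpr ⟨⟨β, hβ, rfl⟩, fun hh => h.2 hh.2⟩
    congr 1
    have hc : cgen hI φ ⟨_, hr⟩ = π hI h.2 (φ ⟨monomial β 1, hβ⟩) := by
      rw [cgen, dif_pos h.1]
      simp only [bet_vec]
    rw [scal, dif_pos hr]
    by_cases hf : ((GR I α).connectedComponentMk ⟨_, hr⟩).supp.Finite
    · rw [dif_pos hf, cgen_reachable hI φ (SimpleGraph.ConnectedComponent.exact (out_spec _)), hc]
    · rw [dif_neg hf, ← hc]
      obtain ⟨a, ha, hneg⟩ := exists_neg_of_infinite hI hf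
      rw [← cgen_reachable hI φ (SimpleGraph.ConnectedComponent.exact ha), cgen, dif_neg hneg]
  · by_cases h0 : ∀ i, 0 ≤ vec α β i
    · rw [show Ideal.Quotient.mk I (monomial (toF (vec α β)) (1 : k)) = 0 from
        Ideal.Quotient.eq_zero_iff_mem.mpr (not_not.mp fun he => h ⟨h0, he⟩), smul_zero]
    · have : scal (fun C : FinComp I α => cgen hI φ C.1.out) (vec α β) = 0 := by
        unfold scal
        split_ifs with h1 h2
        · exact absurd (nonneg_of_finite h2 (SimpleGraph.ConnectedComponent.mem_supp_iff _ _ |>.mpr rfl)) h0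
        · rfl
        · rfl
      rw [this, zero_smul]

lemma expand_mk (hI : IsMonomial I) [Module.Finite k (MvPolynomial σ k ⧸ I)] (v : MvPolynomial σ k ⧸ I) :
    v = ∑ δ ∈ (finite_compl hI).toFinset.attach,
      π hI ((Set.Finite.mem_toFinset (finite_compl hI)).mp δ.2 : δ.1 ∉ exps I) v • Ideal.Quotient.mk I (monomial δ.1 1) := by
  obtain ⟨p, rfl⟩ := Ideal.Quotient.mk_surjective v
  induction p using MvPolynomial.induction_on' with
  | monomial μ c =>
    simp only [π_mk, coeff_monomial]
    by_cases hμ : μ ∈ exps I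
    · rw [show monomial μ c = C c * monomial μ (1 : k) by simp [C_mul_monomial], map_mul,
        show Ideal.Quotient.mk I (monomial μ (1 : k)) = 0 from Ideal.Quotient.eq_zero_iff_mem.mpr hμ, mul_zero]
      refine (Finset.sum_eq_zero fun δ _ => ?_).symm
      rw [if_neg (show ¬ μ = δ.1 from fun e => by
        have hd : δ.1 ∉ exps I := (Set.Finite.mem_toFinset (finite_compl hI)).mp δ.2
        rw [← e] at hd
        exact hd hμ), zero_smul]
    · rw [Finset.sum_eq_single ⟨μ, by simpa using hμ⟩]
      · rw [if_pos rfl]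
        show Ideal.Quotient.mk I (monomial μ c) = Ideal.Quotient.mk I (c • monomial μ 1)
        rw [smul_monomial, smul_eq_mul, mul_one]
      · intro δ _ hδ
        rw [if_neg (fun e => hδ (Subtype.ext e.symm)), zero_smul]
      · intro h; exact absurd (Finset.mem_attach _ _) h
  | add p q hp hq =>
    simp only [map_add, add_smul, Finset.sum_add_distrib]
    rw [← hp, ← hq]

theorem iSup_tPiece_eq_top (hI : IsMonomial I) [Module.Finite k (MvPolynomial σ k ⧸ I)] [Nontrivial σ] :
    ⨆ α : σ → ℤ, tPiece I α = ⊤ := by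
  set D := (finite_compl hI).toFinset with hD
  set B : Finset (σ →₀ ℕ) := insert 0 ((D ×ˢ (Finset.univ : Finset σ)).image
    fun p => p.1 + Finsupp.single p.2 1) with hB
  have hgen : ∀ n, ∀ β : σ →₀ ℕ, β.degree = n → β ∈ exps I → ∃ b ∈ B, b ∈ exps I ∧ b ≤ β := by
    intro n
    induction n using Nat.strong_induction_on with
    | _ n ih =>
      intro β hn hβ
      by_cases hm : β ∈ B
      · exact ⟨β, hm, hβ, le_rfl⟩
      · have hne : β ≠ 0 := fun e => hm (e ▸ Finset.mem_insert_self _ _)
        obtain ⟨i, hi⟩ := Finsupp.ne_iff.mp hne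
        simp only [Finsupp.coe_zero, Pi.zero_apply] at hi
        have hle : Finsupp.single i 1 ≤ β := Finsupp.single_le_iff.mpr (Nat.one_le_iff_ne_zero.mpr hi)
        by_cases hp : β - Finsupp.single i 1 ∈ exps I
        · obtain ⟨b, h1, h2, h3⟩ := ih (n - 1) (by
            have : n ≠ 0 := fun e => hne ((Finsupp.degree_eq_zero_iff β).mp (hn.trans e))
            omega) _ (by
            have := congrArg Finsupp.degree (tsub_add_cancel_of_le hle)
            simp only [map_add, Finsupp.degree_single] at this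
            omega) hp
          exact ⟨b, h1, h2, h3.trans tsub_le_self⟩
        · refine absurd ?_ hm
          refine Finset.mem_insert_of_mem (Finset.mem_image.mpr ⟨(β - Finsupp.single i 1, i), ?_,
            tsub_add_cancel_of_le hle⟩)
          simp [hD, hp]
  set A : Finset (σ → ℤ) := (D ×ˢ B).image fun p => fun i => (p.1 i : ℤ) - p.2 i with hA
  rw [eq_top_iff]
  intro φ _
  have hφ : φ = ∑ α ∈ A, (comp α hI φ : Tgt I) := by
    have hb : ∀ b ∈ B, ∀ hbI : b ∈ exps I, φ ⟨monomial b 1, hbI⟩ =
        (∑ α ∈ A, (comp α hI φ : Tgt I)) ⟨monomial b 1, hbI⟩ := by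
      intro b hbB hbI
      rw [LinearMap.sum_apply]
      conv_lhs => rw [expand_mk hI (φ ⟨monomial b 1, hbI⟩)]
      symm
      have hinj : Set.InjOn (fun δ : {x // x ∈ D} => fun i => (δ.1 i : ℤ) - b i) D.attach := by
        intro x _ y _ e
        exact Subtype.ext (Finsupp.ext fun i => by have := congrFun e i; simp only at this; omega)
      rw [← Finset.sum_subset (s₁ := D.attach.image fun δ : {x // x ∈ D} => fun i => (δ.1 i : ℤ) - b i)]
      · rw [Finset.sum_image hinj]
        refine Finset.sum_congr rfl fun δ _ => ?_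
        have hδ : δ.1 ∉ exps I := (Set.Finite.mem_toFinset (finite_compl hI)).mp δ.2
        have hv : vec (fun i => (δ.1 i : ℤ) - b i) b = fun i => (δ.1 i : ℤ) := by funext i; simp [vec]
        rw [comp_apply, dif_pos ⟨fun i => by rw [hv]; simp, by rw [hv, toF_natCast]; exact hδ⟩]
        simp only [hv, toF_natCast]
      · intro α hα
        obtain ⟨δ, -, rfl⟩ := Finset.mem_image.mp hα
        exact Finset.mem_image.mpr ⟨(δ.1, b), Finset.mem_product.mpr ⟨δ.2, hbB⟩, rfl⟩
      · intro α _ hα
        rw [comp_apply, dif_neg]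
        rintro ⟨h0, hne⟩
        refine hα (Finset.mem_image.mpr ⟨⟨toF (vec α b), by simpa [hD] using hne⟩, Finset.mem_attach _ _, ?_⟩)
        funext i
        have := h0 i
        simp only [toF_apply, vec] at this ⊢
        omega
    apply LinearMap.ext
    intro p
    have hp : p = ∑ β ∈ p.1.support.attach,
        (C (coeff β.1 p.1) : MvPolynomial σ k) • (⟨monomial β.1 1, hI p.1 p.2 β.1 β.2⟩ : I) := by
      apply Subtype.ext
      rw [AddSubmonoidClass.coe_finsetSum]
      conv_lhs => rw [p.1.as_sum, ← Finset.sum_attach]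
      refine Finset.sum_congr rfl fun β _ => ?_
      simp [C_mul_monomial]
    rw [hp, map_sum, map_sum]
    refine Finset.sum_congr rfl fun β _ => ?_
    obtain ⟨b, hbB, hbI, hle⟩ := hgen _ β.1 rfl (hI p.1 p.2 β.1 β.2)
    have he : (⟨monomial β.1 1, hI p.1 p.2 β.1 β.2⟩ : I) =
        (monomial (β.1 - b) 1 : MvPolynomial σ k) • (⟨monomial b 1, hbI⟩ : I) := by
      apply Subtype.ext
      show monomial β.1 (1 : k) = monomial (β.1 - b) 1 * monomial b 1
      rw [monomial_mul, one_mul, tsub_add_cancel_of_le hle]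
    rw [map_smul, map_smul, he, map_smul, map_smul, hb b hbB hbI]
  rw [hφ]
  exact Submodule.sum_mem _ fun α _ => Submodule.mem_iSup_of_mem α (comp α hI φ).2

theorem iSup_sigPiece_eq_top (hI : IsMonomial I) [Module.Finite k (MvPolynomial σ k ⧸ I)] [Nontrivial σ] :
    (⨆ N : {N : Set σ // N.Nonempty ∧ N ≠ Set.univ}, sigPiece I N.1) = ⊤ := by
  rw [eq_top_iff, ← iSup_tPiece_eq_top hI]
  refine iSup_le fun α => ?_
  by_cases h : (∀ i, 0 ≤ α i) ∨ (∀ i, α i < 0)
  · rw [tPiece_eq_bot hI h]; exact bot_le
  · push_neg at h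
    obtain ⟨⟨i, hi⟩, ⟨j, hj⟩⟩ := h
    refine le_trans ?_ (le_iSup _ (⟨{l | α l < 0}, ⟨i, hi⟩, fun e => ?_⟩ :
      {N : Set σ // N.Nonempty ∧ N ≠ Set.univ}))
    · exact le_iSup_of_le ⟨α, fun l => Iff.rfl⟩ le_rfl
    · have : j ∈ {l | α l < 0} := e ▸ Set.mem_univ j
      exact absurd this (not_lt.mpr hj)

end Groth.Agent.CommAlg4.HilbSplit
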