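import Mathlib
import Groth.Agent.HilbertBurch29.Regular
import Groth.Agent.LocCoh.Duality2
import Groth.Agent.Matlis6.Recognition

/-!
The length of `Hom(I, R/J)` for ideals of finite colength in a two-dimensional regular local ring.
-/

set_option autoImplicit false

universe u

open IsLocalRing Matrix

namespace Groth.Agent.CommAlg4

variable {R : Type u} [CommRing R]

open HilbertBurch29 in
/-- The comparison between the Koszul complex on `f, g ∈ I` and the Hilbert–Burch resolution
of `R/I`: the second Koszul homology in the form of a cyclic module. -/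
theorem exists_koszul_comparison [IsDomain R] {n : ℕ} (φ : Matrix (Fin (n + 1)) (Fin n) R)
    (hinj : Function.Injective φ.mulVecLin)
    (hex : LinearMap.range φ.mulVecLin = LinearMap.ker (Fintype.linearCombination R (minors φ)))
    (f g : R) (hf : f ∈ Ideal.span (Set.range (minors φ)))
    (hg : g ∈ Ideal.span (Set.range (minors φ))) (hf0 : f ≠ 0) (hg0 : g ≠ 0)
    (hreg : ∀ x : R, f ∣ g * x → f ∣ x) :
    ∃ δ : Fin n → R,
      (∀ r : R, (∀ j, r * δ j ∈ Ideal.span {f, g}) ↔ r ∈ Ideal.span (Set.range (minors φ))) ∧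
      (∀ (r : R) i, (φ *ᵥ (r • δ)) i ∈ Ideal.span {f, g}) ∧
      ∀ v : Fin n → R, (∀ i, (φ *ᵥ v) i ∈ Ideal.span {f, g}) →
        ∃ r : R, ∀ j, v j - r * δ j ∈ Ideal.span {f, g} := by
  set c := Fintype.linearCombination R (minors φ) with hc
  obtain ⟨a, ha⟩ := (Ideal.mem_span_range_iff_exists_fun).mp hf
  obtain ⟨b, hb⟩ := (Ideal.mem_span_range_iff_exists_fun).mp hg
  have hca : c a = f := by rw [hc, Fintype.linearCombination_apply]; simpa using ha
  have hcb : c b = g := by rw [hc, Fintype.linearCombination_apply]; simpa using hb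
  have hcφ : ∀ v, c (φ *ᵥ v) = 0 := fun v => by
    rw [← LinearMap.mem_ker, ← hex]; exact ⟨v, rfl⟩
  have hker : ∀ w, c w = 0 → ∃ v, φ *ᵥ v = w := fun w hw => by
    rw [← LinearMap.mem_ker, ← hex] at hw; exact hw
  obtain ⟨δ, hδ⟩ := hker (g • a - f • b) (by rw [map_sub, map_smul, map_smul, hca, hcb]; simp; ring)
  have hmem : ∀ x : R, x ∈ Ideal.span ({f, g} : Set R) ↔ ∃ p q, p * f + q * g = x := fun x =>
    Ideal.mem_span_pair
  refine ⟨δ, fun r => ⟨fun h => ?_, fun h => ?_⟩, fun r i => ?_, fun v hv => ?_⟩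
  · choose u w huw using fun j => (hmem _).mp (h j)
    have e : r • δ = f • u + g • w := by
      funext j
      simp only [Pi.smul_apply, Pi.add_apply, smul_eq_mul, ← huw j]
      ring
    have e2 : r • (g • a - f • b) = f • (φ *ᵥ u) + g • (φ *ᵥ w) := by
      rw [← hδ, ← Matrix.mulVec_smul, e, Matrix.mulVec_add, Matrix.mulVec_smul, Matrix.mulVec_smul]
    have hz : ∀ i, ∃ z, (φ *ᵥ u) i + r * b i = g * z := by
      intro i
      have h' := congrFun e2 i
      simp only [Pi.smul_apply, Pi.add_apply, Pi.sub_apply, smul_eq_mul] at h'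
      obtain ⟨z, hz⟩ := hreg ((φ *ᵥ w) i - r * a i) ⟨-((φ *ᵥ u) i + r * b i), by linear_combination -h'⟩
      refine ⟨-z, mul_left_cancel₀ hf0 ?_⟩
      linear_combination -h' - g * hz
    choose z hz using hz
    have e3 : φ *ᵥ u + r • b = g • z := funext fun i => by simpa using hz i
    have e4 := congrArg c e3
    rw [map_add, map_smul, map_smul, hcφ, zero_add, hcb, smul_eq_mul, smul_eq_mul] at e4
    have : r = c z := mul_left_cancel₀ hg0 (by linear_combination e4)
    rw [this, hc, Fintype.linearCombination_apply]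
    exact sum_mem fun i _ => Ideal.mul_mem_left _ _ (Ideal.subset_span ⟨i, rfl⟩)
  · obtain ⟨z, hz⟩ := (Ideal.mem_span_range_iff_exists_fun).mp h
    have hcz : c z = r := by rw [hc, Fintype.linearCombination_apply]; simpa using hz
    obtain ⟨w, hw⟩ := hker (r • a - f • z) (by rw [map_sub, map_smul, map_smul, hca, hcz]; simp; ring)
    obtain ⟨u, hu⟩ := hker (r • b - g • z) (by rw [map_sub, map_smul, map_smul, hcb, hcz]; simp; ring)
    have e : r • δ = g • w - f • u := by
      apply hinj
      simp only [Matrix.mulVecLin_apply, Matrix.mulVec_sub, Matrix.mulVec_smul, hδ, hu, hw]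
      funext i
      simp only [Pi.smul_apply, Pi.sub_apply, smul_eq_mul]
      ring
    intro j
    have h' := congrFun e j
    simp only [Pi.smul_apply, Pi.sub_apply, smul_eq_mul] at h'
    exact (hmem _).mpr ⟨-u j, w j, by linear_combination -h'⟩
  · rw [Matrix.mulVec_smul, hδ]
    exact (hmem _).mpr ⟨-(r * b i), r * a i, by simp; ring⟩
  · choose p q hpq using fun i => (hmem _).mp (hv i)
    have e : φ *ᵥ v = f • p + g • q := by
      funext i
      simp only [Pi.smul_apply, Pi.add_apply, smul_eq_mul, ← hpq i]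
      ring
    have e2 := congrArg c e
    rw [hcφ, map_add, map_smul, map_smul, smul_eq_mul, smul_eq_mul] at e2
    obtain ⟨r, hr⟩ := hreg (c q) ⟨-c p, by linear_combination -e2⟩
    have hp : c p + g * r = 0 := by
      apply mul_left_cancel₀ hf0
      rw [mul_zero]
      linear_combination -e2 - g * hr
    obtain ⟨w, hw⟩ := hker (q - r • a) (by rw [map_sub, map_smul, hca, hr]; simp; ring)
    obtain ⟨u, hu⟩ := hker (p + r • b) (by rw [map_add, map_smul, hcb]; simp; linear_combination hp)
    have e3 : v = f • u + g • w + r • δ := by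
      apply hinj
      simp only [Matrix.mulVecLin_apply, Matrix.mulVec_add, Matrix.mulVec_smul, hδ, hu, hw, e]
      funext i
      simp only [Pi.smul_apply, Pi.sub_apply, Pi.add_apply, smul_eq_mul]
      ring
    refine ⟨r, fun j => (hmem _).mpr ⟨u j, w j, ?_⟩⟩
    simp [e3]
    ring

/-- A zero-dimensional local Noetherian ring is Cohen–Macaulay. -/
theorem isCM_of_dim_zero (A : Type u) [CommRing A] [IsLocalRing A] [IsNoetherianRing A]
    (h : ringKrullDim A = 0) : _root_.LocCoh.IsCohenMacaulayLocalRing A := by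
  rw [CAlgH3.isCohenMacaulayLocalRing_iff_depth]
  have h1 := CAlgH3.depth_le_supportDim (R := A) (M := A)
  rw [Module.supportDim_self_eq_ringKrullDim, h] at h1
  rw [h]
  exact le_antisymm (WithBot.coe_le_coe.mpr zero_le') h1

section Regular

variable [IsRegularLocalRing R]

theorem exists_hom_hull [IsDomain R] (f g : R) (hf0 : f ≠ 0) (hg0 : g ≠ 0)
    (hreg : ∀ x : R, f ∣ g * x → f ∣ x) {E : Type u} [AddCommGroup E] [Module R E]
    (hE : Matlis6.IsHullAt (maximalIdeal R) E) (Q : Ideal R) (hQ : Q = Ideal.span {f, g})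
    (hQtop : Q ≠ ⊤) (N : ℕ) (hN : maximalIdeal R ^ N ≤ Q) (hdim : ringKrullDim R = 2) :
    ∃ ι : R →ₗ[R] E, LinearMap.ker ι = Q ∧
      ∀ e : E, (∀ x ∈ Q, x • e = 0) → e ∈ LinearMap.range ι := by
  have hk0 : ringKrullDim (R ⧸ maximalIdeal R) = 0 := by
    letI := Ideal.Quotient.field (maximalIdeal R)
    exact ringKrullDim_eq_zero_of_field _
  haveI : IsLocalRing (R ⧸ maximalIdeal R) :=
    IsLocalRing.of_surjective' (Ideal.Quotient.mk _) Ideal.Quotient.mk_surjective
  haveI : _root_.LocCoh.IsCohenMacaulayLocalRing (R ⧸ maximalIdeal R) :=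
    isCM_of_dim_zero _ hk0
  obtain ⟨n, φ, hspan, hfr, hinj, hex⟩ :=
    HilbertBurch29.exists_presentation (maximalIdeal R) (by rw [hk0, hdim, zero_add])
  obtain rfl : n = 1 := by
    have h2 := (isRegularLocalRing_iff R).1 inferInstance
    rw [hdim, hfr] at h2
    have : n + 1 = 2 := by exact_mod_cast h2
    omega
  have hentry : ∀ i j, φ i j ∈ maximalIdeal R := by
    intro i j
    obtain rfl : j = 0 := Subsingleton.elim _ _
    have h0 : HilbertBurch29.minors φ 0 ∈ maximalIdeal R := hspan.le (Ideal.subset_span ⟨0, rfl⟩)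
    have h1 : HilbertBurch29.minors φ 1 ∈ maximalIdeal R := hspan.le (Ideal.subset_span ⟨1, rfl⟩)
    simp [HilbertBurch29.minors, Matrix.det_unique] at h0 h1
    fin_cases i
    · exact h1
    · exact h0
  have hQm : Q ≤ maximalIdeal R := IsLocalRing.le_maximalIdeal hQtop
  obtain ⟨δ, hδ1, hδ2, hδ3⟩ := exists_koszul_comparison φ hinj hex f g
    (hspan.symm ▸ hQm (hQ ▸ Ideal.subset_span (by simp)))
    (hspan.symm ▸ hQm (hQ ▸ Ideal.subset_span (by simp))) hf0 hg0 hreg
  rw [hspan, ← hQ] at hδ1
  rw [← hQ] at hδ2 hδ3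
  -- socle element
  obtain ⟨j₀, hj₀⟩ : ∃ j, δ j ∉ Q := by
    by_contra hall
    push Not at hall
    exact (maximalIdeal.isMaximal R).ne_top
      ((Ideal.eq_top_iff_one _).mpr ((hδ1 1).mp fun j => by rw [one_mul]; exact hall j))
  set s := δ j₀ with hs
  have hsm : ∀ a ∈ maximalIdeal R, a * s ∈ Q := fun a ha => (hδ1 a).mpr ha j₀
  have hsoc : ∀ x, (∀ a ∈ maximalIdeal R, a * x ∈ Q) → ∃ c, x - c * s ∈ Q := by
    intro x hx
    obtain ⟨r, hr⟩ := hδ3 (Pi.single j₀ x) fun i => by
      rw [Matrix.mulVec_single, Pi.smul_apply, op_smul_eq_smul, smul_eq_mul, Matrix.col_apply,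
        mul_comm]
      refine hx _ ?_
      exact hentry i j₀
    exact ⟨r, by simpa using hr j₀⟩
  obtain ⟨e, he0, hme, hess⟩ := hE.ess
  let B := R ⧸ Q
  let a : R →ₗ[R] B := LinearMap.toSpanSingleton R B (Submodule.Quotient.mk s)
  have hak : LinearMap.ker a = maximalIdeal R := by
    refine le_antisymm ?_ fun x hx => ?_
    · refine IsLocalRing.le_maximalIdeal fun htop => hj₀ ?_
      have : (1 : R) ∈ LinearMap.ker a := htop ▸ Submodule.mem_top
      rwa [LinearMap.mem_ker, LinearMap.toSpanSingleton_apply, one_smul,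
        Submodule.Quotient.mk_eq_zero] at this
    · rw [LinearMap.mem_ker, LinearMap.toSpanSingleton_apply, ← Submodule.Quotient.mk_smul,
        Submodule.Quotient.mk_eq_zero]
      exact hsm x hx
  let b : (R ⧸ LinearMap.ker a) →ₗ[R] E :=
    (LinearMap.ker a).liftQ (LinearMap.toSpanSingleton R E e) fun x hx => by
      rw [hak] at hx
      exact hme x hx
  haveI := hE.inj
  obtain ⟨h, hh⟩ := Module.Injective.out ((LinearMap.ker a).liftQ a le_rfl)
    (by rw [← LinearMap.ker_eq_bot]; exact Submodule.ker_liftQ_eq_bot _ _ _ le_rfl) b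
  have hhs : h (Submodule.Quotient.mk s) = e := by
    have := hh (Submodule.Quotient.mk 1)
    have h1 : ((LinearMap.ker a).liftQ a le_rfl) (Submodule.Quotient.mk 1) =
        Submodule.Quotient.mk s := by
      rw [Submodule.liftQ_apply]
      exact one_smul R _
    rw [h1] at this
    exact this.trans (one_smul R e)
  have hinjh : Function.Injective h := by
    rw [injective_iff_map_eq_zero]
    intro y
    obtain ⟨x, rfl⟩ := Submodule.Quotient.mk_surjective _ y
    intro hy
    by_contra hne
    rw [Submodule.Quotient.mk_eq_zero] at hne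
    -- push `x` down to the socle
    have key : ∀ m : ℕ, ∀ x : R, h (Submodule.Quotient.mk x) = 0 →
        (∀ a ∈ maximalIdeal R ^ m, a * x ∈ Q) → x ∈ Q := by
      intro m
      induction m with
      | zero => intro x _ hx; simpa using hx 1 (by simp)
      | succ m ih =>
        intro x hx0 hx
        have h1 : ∀ a ∈ maximalIdeal R, a * x ∈ Q := fun a ha => ih _
          (by rw [← smul_eq_mul, Submodule.Quotient.mk_smul, map_smul, hx0, smul_zero])
          fun b hb => by
            rw [← mul_assoc]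
            exact hx _ (by rw [pow_succ]; exact Ideal.mul_mem_mul hb ha)
        obtain ⟨c, hc⟩ := hsoc x h1
        have h2 : c • e = 0 := by
          rw [← hhs, ← map_smul, ← Submodule.Quotient.mk_smul, smul_eq_mul,
            ← (Submodule.Quotient.eq Q).mpr hc]
          exact hx0
        have hcm : c ∈ maximalIdeal R := by
          intro hcu
          exact he0 ((IsUnit.smul_eq_zero hcu).mp h2)
        have := Q.add_mem hc (hsm c hcm)
        simpa using this
    exact hne (key N x hy fun a ha => Ideal.mul_mem_right _ _ (hN ha))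
  refine ⟨h.comp Q.mkQ, ?_, fun z hz => ?_⟩
  · rw [LinearMap.ker_comp, LinearMap.ker_eq_bot.mpr hinjh, ← LinearMap.ker, Submodule.ker_mkQ]
  let K : Submodule R E :=
    { carrier := {z | ∀ x ∈ Q, x • z = 0}
      add_mem' := fun {z w} hz hw x hx => by rw [smul_add, hz x hx, hw x hx, add_zero]
      zero_mem' := fun x _ => smul_zero x
      smul_mem' := fun c z hz x hx => by rw [smul_comm, hz x hx, smul_zero] }
  let L : (B →ₗ[R] E) →ₗ[R] E := LinearMap.applyₗ (Submodule.Quotient.mk 1)
  have hLinj : Function.Injective L := fun p q hpq => Submodule.linearMap_qext _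
    (LinearMap.ext_ring hpq)
  have hLr : LinearMap.range L = K := by
    ext w
    constructor
    · rintro ⟨p, rfl⟩ x hx
      show x • p _ = 0
      rw [← map_smul, ← Submodule.Quotient.mk_smul, smul_eq_mul, mul_one,
        (Submodule.Quotient.mk_eq_zero _).mpr hx, map_zero]
    · intro hw
      exact ⟨Q.liftQ (LinearMap.toSpanSingleton R E w) (fun x hx => hw x hx), one_smul R w⟩
  have hflB : IsFiniteLength R B := LocCoh.isFiniteLength_of_pow_le hN
  have hkB : ∀ a ∈ maximalIdeal R ^ N, ∀ x : B, a • x = 0 := fun a ha x => by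
    obtain ⟨x, rfl⟩ := Submodule.Quotient.mk_surjective _ x
    rw [← Submodule.Quotient.mk_smul, Submodule.Quotient.mk_eq_zero, smul_eq_mul]
    exact Ideal.mul_mem_right _ _ (hN ha)
  have hlK : Module.length R K = Module.length R B := by
    rw [← hLr, ← (LinearEquiv.ofInjective L hLinj).length_eq,
      Matlis6.IsHullAt.length_dual hE hflB hkB]
  have hhK : ∀ y, h y ∈ K := fun y x hx => by
    obtain ⟨y, rfl⟩ := Submodule.Quotient.mk_surjective _ y
    rw [← map_smul, ← Submodule.Quotient.mk_smul, (Submodule.Quotient.mk_eq_zero _).mpr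
      (show x • y ∈ Q from Ideal.mul_mem_right _ _ hx), map_zero]
  obtain ⟨y, hy⟩ := Matlis6.surjective_of_injective_of_length_eq (h.codRestrict K hhK)
    (fun p q hpq => hinjh (congrArg Subtype.val hpq)) hlK (Module.length_ne_top_iff.2 hflB) ⟨z, hz⟩
  obtain ⟨x, rfl⟩ := Submodule.Quotient.mk_surjective _ y
  exact ⟨x, congrArg Subtype.val hy⟩

theorem exists_pow_le_of_length_lt {I : Ideal R} (hI : Module.length R (R ⧸ I) < ⊤) :
    ∃ j : ℕ, maximalIdeal R ^ j ≤ I := by
  haveI : IsNoetherianRing R := inferInstance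
  have hfl : IsFiniteLength R (R ⧸ I) := Module.length_ne_top_iff.mp hI.ne
  obtain ⟨hN, hA⟩ := isFiniteLength_iff_isNoetherian_isArtinian.mp hfl
  rcases eq_or_ne I ⊤ with rfl | hI'
  · exact ⟨0, le_top⟩
  haveI : Nontrivial (R ⧸ I) := Ideal.Quotient.nontrivial_iff.mpr hI'
  haveI : IsArtinianRing (R ⧸ I) := isArtinian_of_tower R hA
  haveI : IsLocalRing (R ⧸ I) := IsLocalRing.of_surjective' (Ideal.Quotient.mk I) Ideal.Quotient.mk_surjective
  obtain ⟨j, hj⟩ := IsArtinianRing.isNilpotent_jacobson_bot (R := R ⧸ I)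
  rw [IsLocalRing.jacobson_eq_maximalIdeal ⊥ bot_ne_top] at hj
  refine ⟨j, ?_⟩
  have h1 : (maximalIdeal R).map (Ideal.Quotient.mk I) ≤ maximalIdeal (R ⧸ I) := by
    refine IsLocalRing.le_maximalIdeal fun h => ?_
    have h' := congrArg (Ideal.comap (Ideal.Quotient.mk I)) h
    rw [Ideal.comap_map_of_surjective _ Ideal.Quotient.mk_surjective, Ideal.comap_top] at h'
    apply (maximalIdeal.isMaximal R).ne_top
    rw [← h']
    exact (sup_eq_left.mpr (by rw [← RingHom.ker, Ideal.mk_ker]; exact IsLocalRing.le_maximalIdeal hI')).symm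
  have h2 : (maximalIdeal R ^ j).map (Ideal.Quotient.mk I) ≤ ⊥ := by
    rw [Ideal.map_pow]
    exact (Ideal.pow_right_mono h1 j).trans hj.le
  intro x hx
  exact Ideal.Quotient.eq_zero_iff_mem.mp (h2 (Ideal.mem_map_of_mem _ hx))

open HilbertBurch29 in
theorem length_hom_ideal_quot (hdim : ringKrullDim R = 2) (I J : Ideal R)
    (hI : Module.length R (R ⧸ I) < ⊤) (hJ : Module.length R (R ⧸ J) < ⊤) :
    Module.length R (↥I →ₗ[R] (R ⧸ J)) + Module.length R (R ⧸ I.colon J) =
      Module.length R (R ⧸ J) + Module.length R (R ⧸ I) := by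
  haveI : IsDomain R := CAlgH3.isDomain_of_isRegularLocalRing R
  haveI := CAlgH3.isCohenMacaulayLocalRing_of_regular R
  rcases eq_or_ne I ⊤ with rfl | hI'
  · haveI : Subsingleton (R ⧸ (⊤ : Ideal R)) := Ideal.Quotient.subsingleton_iff.mpr rfl
    have hcol : (⊤ : Ideal R).colon (J : Set R) = ⊤ :=
      eq_top_iff.mpr fun x _ => Submodule.mem_colon.mpr fun s _ => trivial
    rw [hcol, ((Submodule.topEquiv (R := R) (M := R)).congrLeft (R ⧸ J) R).length_eq,
      (LinearMap.ringLmapEquivSelf R R (R ⧸ J)).length_eq]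
  haveI : IsLocalRing (R ⧸ I) :=
    haveI : Nontrivial (R ⧸ I) := Ideal.Quotient.nontrivial_iff.mpr hI'
    IsLocalRing.of_surjective' (Ideal.Quotient.mk I) Ideal.Quotient.mk_surjective
  obtain ⟨hN, hA⟩ := isFiniteLength_iff_isNoetherian_isArtinian.mp (Module.length_ne_top_iff.mp hI.ne)
  haveI : IsArtinianRing (R ⧸ I) := isArtinian_of_tower R hA
  have hI0 : ringKrullDim (R ⧸ I) = 0 :=
    ringKrullDimZero_iff_ringKrullDim_eq_zero.mp inferInstance
  haveI : _root_.LocCoh.IsCohenMacaulayLocalRing (R ⧸ I) := isCM_of_dim_zero (R ⧸ I) hI0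
  obtain ⟨n, φ, hspan, -, hinj, hex⟩ := exists_presentation I (by rw [hI0, hdim, zero_add])
  obtain ⟨jI, hjI⟩ := exists_pow_le_of_length_lt hI
  obtain ⟨jJ, hjJ⟩ := exists_pow_le_of_length_lt hJ
  obtain ⟨xs, hlen, hxs, hreg, hrad⟩ :=
    LocCoh.exists_parameters_in_pow (R := R) (n := 2) (by exact_mod_cast hdim) (jI + jJ + 1)
  match xs, hlen with
  | [f, g], _ => ?_
  have hf := hxs f (by simp)
  have hg := hxs g (by simp)
  have hle : maximalIdeal R ^ (jI + jJ + 1) ≤ I ⊓ J :=
    le_inf ((Ideal.pow_le_pow_right (by omega)).trans hjI) ((Ideal.pow_le_pow_right (by omega)).trans hjJ)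
  set Q : Ideal R := Ideal.span {f, g} with hQ
  have hQI : Q ≤ I ⊓ J := Ideal.span_le.mpr (by rintro x (rfl | rfl); exacts [hle hf, hle hg])
  have hwr := hreg.toIsWeaklyRegular
  rw [RingTheory.Sequence.isWeaklyRegular_cons_iff, RingTheory.Sequence.isWeaklyRegular_cons_iff] at hwr
  have hf0 : f ≠ 0 := fun h0 => by
    have h1 : IsSMulRegular R f := hwr.1
    rw [h0] at h1
    exact one_ne_zero (α := R) (h1 (by simp : (0 : R) • (1 : R) = (0 : R) • (0 : R)))
  have hdiv : ∀ x, f ∣ g * x → f ∣ x := by
    intro x hx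
    have h1 : (Submodule.Quotient.mk x : QuotSMulTop f R) = 0 := by
      apply hwr.2.1
      simp only [smul_zero, ← Submodule.Quotient.mk_smul, Submodule.Quotient.mk_eq_zero]
      obtain ⟨y, hy⟩ := hx
      rw [smul_eq_mul, hy, ← smul_eq_mul]
      exact Submodule.smul_mem_pointwise_smul y f ⊤ trivial
    rw [Submodule.Quotient.mk_eq_zero, Submodule.mem_smul_pointwise_iff_exists] at h1
    obtain ⟨y, -, hy⟩ := h1
    exact ⟨y, hy.symm⟩
  have hg0 : g ≠ 0 := fun h0 => by
    have hu : IsUnit f := isUnit_of_dvd_one (hdiv 1 (by simp [h0]))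
    exact (Ideal.pow_le_self (by omega : jI + jJ + 1 ≠ 0) hf : f ∈ maximalIdeal R) hu
  obtain ⟨δ, hδ1, hδ2, hδ3⟩ := exists_koszul_comparison φ hinj hex f g
    (hspan ▸ (hle hf).1) (hspan ▸ (hle hg).1) hf0 hg0 hdiv
  rw [hspan] at hδ1
  obtain ⟨E, _, _, hE⟩ := Matlis6.exists_isHullAt (maximalIdeal R)
  have hQm : ∃ N, maximalIdeal R ^ N ≤ Q := by
    have : Ideal.ofList [f, g] = Q := by
      rw [hQ, Ideal.ofList]
      congr 1
      ext z
      simp
    rw [this] at hrad
    exact Ideal.exists_pow_le_of_le_radical_of_fg hrad (IsNoetherian.noetherian _)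
  obtain ⟨NQ, hNQ⟩ := hQm
  -- `R/Q` is the part of `E` killed by `Q`
  obtain ⟨ι, hιker, hιran⟩ := exists_hom_hull f g hf0 hg0 hdiv hE Q hQ
    (ne_top_of_le_ne_top (maximalIdeal.isMaximal R).ne_top
      (Ideal.span_le.mpr (by
        rintro x (rfl | rfl)
        exacts [Ideal.pow_le_self (by omega) hf, Ideal.pow_le_self (by omega) hg])))
    NQ hNQ hdim
  let Ψ : R →ₗ[R] (Fin n → E) := LinearMap.pi fun j => ι ∘ₗ LinearMap.mulRight R (δ j)
  have hΨ : ∀ r j, Ψ r j = ι (r * δ j) := fun r j => rfl
  have hΨker : LinearMap.ker Ψ = I := by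
    ext r
    rw [LinearMap.mem_ker, funext_iff, ← hδ1 r]
    exact forall_congr' fun j => by rw [Pi.zero_apply, hΨ, ← LinearMap.mem_ker, hιker]
  -- the solutions in `E`
  let S : Submodule R (Fin n → E) :=
    { carrier := {v | (∀ x ∈ J, x • v = 0) ∧ ∀ i, ∑ j, φ i j • v j = 0}
      add_mem' := fun {v w} hv hw => ⟨fun x hx => by rw [smul_add, hv.1 x hx, hw.1 x hx, add_zero],
        fun i => by simp [smul_add, Finset.sum_add_distrib, hv.2 i, hw.2 i]⟩
      zero_mem' := ⟨fun x _ => smul_zero x, fun i => by simp⟩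
      smul_mem' := fun c v hv => ⟨fun x hx => by rw [smul_comm, hv.1 x hx, smul_zero],
        fun i => by simp [smul_comm _ c, ← Finset.smul_sum, hv.2 i]⟩ }
  have hS : Submodule.map Ψ (I.colon (J : Set R)) = S := by
    ext v
    constructor
    · rintro ⟨r, hr, rfl⟩
      refine ⟨fun x hx => ?_, fun i => ?_⟩
      · rw [← map_smul, ← LinearMap.mem_ker, hΨker, smul_eq_mul, mul_comm]
        exact Submodule.mem_colon.mp hr x hx
      · simp only [hΨ, ← map_smul, ← map_sum, smul_eq_mul]
        rw [← LinearMap.mem_ker, hιker]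
        simpa [Matrix.mulVec, dotProduct] using hδ2 r i
    · rintro ⟨hJv, hPv⟩
      have hQv : ∀ j, v j ∈ LinearMap.range ι := fun j =>
        hιran (v j) fun x hx => congrFun (hJv x (hQI hx).2) j
      choose w hw using hQv
      obtain ⟨r, hr⟩ := hδ3 w fun i => by
        rw [← hQ, ← hιker, LinearMap.mem_ker, Matrix.mulVec, dotProduct, map_sum]
        simpa [← smul_eq_mul, map_smul, hw] using hPv i
      have hv : Ψ r = v := funext fun j => by
        rw [hΨ, ← hw j, ← sub_eq_zero, ← map_sub, ← LinearMap.mem_ker, hιker, ← neg_mem_iff, neg_sub]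
        exact hr j
      refine ⟨r, Submodule.mem_colon.mpr fun x hx => ?_, hv⟩
      rw [← hΨker, LinearMap.mem_ker, smul_eq_mul, mul_comm, ← smul_eq_mul, map_smul, hv]
      exact hJv x hx
  -- length of `S`
  have hlS : Module.length R S + Module.length R (R ⧸ I.colon (J : Set R)) = Module.length R (R ⧸ I) := by
    have hIle : I ≤ I.colon (J : Set R) := fun x hx =>
      Submodule.mem_colon.mpr fun s _ => by rw [smul_eq_mul]; exact Ideal.mul_mem_right _ _ hx
    let q : (R ⧸ I) →ₗ[R] (R ⧸ I.colon (J : Set R)) := Submodule.mapQ I _ LinearMap.id hIle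
    have hqs : Function.Surjective q := fun y => by
      obtain ⟨x, rfl⟩ := Submodule.Quotient.mk_surjective _ y
      exact ⟨Submodule.Quotient.mk x, rfl⟩
    rw [Module.length_eq_add_of_exact (LinearMap.ker q).subtype q (Subtype.val_injective) hqs
      (LinearMap.exact_subtype_ker_map q)]
    congr 1
    let Ψ' : (R ⧸ I) →ₗ[R] (Fin n → E) := I.liftQ Ψ hΨker.ge
    have hΨ' : Function.Injective Ψ' := by
      rw [← LinearMap.ker_eq_bot]
      exact Submodule.ker_liftQ_eq_bot _ _ _ hΨker.le
    rw [((LinearMap.ker q).equivMapOfInjective Ψ' hΨ').length_eq]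
    refine (LinearEquiv.ofEq _ _ ?_).length_eq
    rw [← hS]
    ext v
    constructor
    · rintro ⟨r, hr, rfl⟩
      exact ⟨Submodule.Quotient.mk r, (Submodule.Quotient.mk_eq_zero _).mpr hr, rfl⟩
    · rintro ⟨y, hy, rfl⟩
      obtain ⟨r, rfl⟩ := Submodule.Quotient.mk_surjective _ y
      exact ⟨r, (Submodule.Quotient.mk_eq_zero _).mp hy, rfl⟩
  -- the complex with values in `M = R/J`
  let M := R ⧸ J
  let T : (Fin (n + 1) → M) →ₗ[R] (Fin n → M) :=
    LinearMap.pi fun j => ∑ i, φ i j • LinearMap.proj i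
  have hT : ∀ v j, T v j = ∑ i, φ i j • v i := fun v j => by simp [T]
  let C := (Fin n → M) ⧸ LinearMap.range T
  have hflM : IsFiniteLength R M := Module.length_ne_top_iff.mp hJ.ne
  have hflC : IsFiniteLength R C := Module.length_ne_top_iff.mp <| ne_top_of_le_ne_top
    (show Module.length R (Fin n → M) ≠ ⊤ by
      rw [Module.length_pi_of_fintype]; exact WithTop.sum_ne_top.mpr fun _ _ => hJ.ne)
    (Module.length_le_of_surjective _ (Submodule.mkQ_surjective _))
  have hkillC : ∀ a ∈ maximalIdeal R ^ jJ, ∀ x : C, a • x = 0 := by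
    intro a ha x
    obtain ⟨v, rfl⟩ := Submodule.mkQ_surjective _ x
    rw [← map_smul]
    convert map_zero (LinearMap.range T).mkQ
    funext j
    obtain ⟨y, hy⟩ := Submodule.Quotient.mk_surjective _ (v j)
    rw [Pi.smul_apply, ← hy, ← Submodule.Quotient.mk_smul, Pi.zero_apply,
      Submodule.Quotient.mk_eq_zero, smul_eq_mul]
    exact Ideal.mul_mem_right _ _ (hjJ ha)
  have hlC : Module.length R C = Module.length R S := by
    rw [← Matlis6.IsHullAt.length_dual hE hflC hkillC]
    let one : M := Submodule.Quotient.mk 1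
    have hone : ∀ y : M, ∃ r : R, y = r • one := fun y => by
      obtain ⟨r, rfl⟩ := Submodule.Quotient.mk_surjective _ y
      exact ⟨r, by rw [← Submodule.Quotient.mk_smul, smul_eq_mul, mul_one]⟩
    let L : (C →ₗ[R] E) →ₗ[R] (Fin n → E) :=
      LinearMap.pi fun j => LinearMap.applyₗ ((LinearMap.range T).mkQ (Pi.single j one))
    have hL : ∀ h j, L h j = h ((LinearMap.range T).mkQ (Pi.single j one)) := fun h j => rfl
    have hLinj : Function.Injective L := by
      intro h h' hh
      refine Submodule.linearMap_qext _ (LinearMap.pi_ext fun j y => ?_)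
      obtain ⟨r, rfl⟩ := hone y
      simp only [LinearMap.comp_apply, ← smul_eq_mul, Pi.single_smul, map_smul]
      exact congrArg (r • ·) (congrFun hh j)
    rw [(LinearEquiv.ofInjective L hLinj).length_eq]
    refine (LinearEquiv.ofEq _ _ ?_).length_eq
    ext v
    constructor
    · rintro ⟨h, rfl⟩
      refine ⟨fun x hx => funext fun j => ?_, fun i => ?_⟩
      · rw [Pi.smul_apply, Pi.zero_apply, hL, ← map_smul, ← map_smul, ← Pi.single_smul,
          ← Submodule.Quotient.mk_smul, (Submodule.Quotient.mk_eq_zero _).mpr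
            (show x • (1 : R) ∈ J by rwa [smul_eq_mul, mul_one]), Pi.single_zero, map_zero, map_zero]
      · simp only [hL, ← map_smul, ← map_sum]
        convert map_zero h
        rw [Submodule.mkQ_apply, Submodule.Quotient.mk_eq_zero]
        refine ⟨Pi.single i one, funext fun j => ?_⟩
        rw [hT, Finset.sum_apply]
        simp [Pi.single_apply]
    · rintro ⟨hJv, hPv⟩
      let ψ : Fin n → (M →ₗ[R] E) := fun j =>
        J.liftQ (LinearMap.toSpanSingleton R E (v j)) (fun x hx => congrFun (hJv x hx) j)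
      have hψ : ∀ j, ψ j one = v j := fun j => one_smul R (v j)
      let h0 : (Fin n → M) →ₗ[R] E := ∑ j, (ψ j).comp (LinearMap.proj j)
      refine ⟨(LinearMap.range T).liftQ h0 ?_, funext fun j => ?_⟩
      · rintro _ ⟨w, rfl⟩
        rw [LinearMap.mem_ker]
        choose r hr using fun i => hone (w i)
        simp only [h0, LinearMap.sum_apply, LinearMap.comp_apply, LinearMap.proj_apply, hT, hr,
          map_sum, map_smul]
        rw [Finset.sum_comm]
        refine Finset.sum_eq_zero fun i _ => ?_
        simp only [hψ, smul_comm _ (r i)]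
        rw [← Finset.smul_sum, hPv i, smul_zero]
      · rw [hL, Submodule.mkQ_apply, Submodule.liftQ_apply]
        simp only [h0, LinearMap.sum_apply, LinearMap.comp_apply, LinearMap.proj_apply]
        rw [Finset.sum_eq_single j (fun k _ hk => by simp [Pi.single_eq_of_ne hk])
          (fun h => absurd (Finset.mem_univ j) h), Pi.single_eq_same, hψ]
  -- `Hom(I, M)` is the kernel of `T`
  have hlHom : Module.length R (↥I →ₗ[R] M) = Module.length R (LinearMap.ker T) := by
    let c : (Fin (n + 1) → R) →ₗ[R] ↥I := (Fintype.linearCombination R (minors φ)).codRestrict I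
      fun v => by
        rw [← hspan, Fintype.linearCombination_apply]
        exact sum_mem fun i _ => Ideal.mul_mem_left _ _ (Ideal.subset_span ⟨i, rfl⟩)
    have hcs : Function.Surjective c := fun y => by
      obtain ⟨v, hv⟩ := (Ideal.mem_span_range_iff_exists_fun).mp (show (y : R) ∈ Ideal.span (Set.range (minors φ)) by rw [hspan]; exact y.2)
      exact ⟨v, Subtype.ext (by
        rw [LinearMap.codRestrict_apply, Fintype.linearCombination_apply]; simpa using hv)⟩
    have hck : LinearMap.ker c = LinearMap.range φ.mulVecLin := by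
      rw [LinearMap.ker_codRestrict, hex]
    let L : (↥I →ₗ[R] M) →ₗ[R] (Fin (n + 1) → M) :=
      LinearMap.pi fun i => LinearMap.applyₗ (c (Pi.single i 1))
    have hLinj : Function.Injective L := by
      intro h h' hh
      have : h ∘ₗ c = h' ∘ₗ c := LinearMap.pi_ext fun i y => by
        rw [show Pi.single i y = y • (Pi.single i 1 : Fin (n + 1) → R) by
          rw [← Pi.single_smul, smul_eq_mul, mul_one]]
        simp only [map_smul]
        exact congrArg (y • ·) (congrFun hh i)
      exact (LinearMap.cancel_right hcs).mp this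
    rw [(LinearEquiv.ofInjective L hLinj).length_eq]
    refine (LinearEquiv.ofEq _ _ ?_).length_eq
    have hcol : ∀ j, φ.mulVecLin (Pi.single j 1) = ∑ i, φ i j • (Pi.single i 1 : Fin (n + 1) → R) := by
      intro j
      funext i
      simp [Finset.sum_apply, Pi.single_apply]
    ext v
    constructor
    · rintro ⟨h, rfl⟩
      refine LinearMap.mem_ker.mpr (funext fun j => ?_)
      rw [hT]
      show ∑ i, φ i j • h (c (Pi.single i 1)) = 0
      simp only [← map_smul, ← map_sum, ← hcol]
      rw [LinearMap.mem_ker.mp (hck.ge (LinearMap.mem_range_self _ _)), map_zero]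
    · intro hv
      rw [LinearMap.mem_ker] at hv
      let h0 : (Fin (n + 1) → R) →ₗ[R] M := Fintype.linearCombination R v
      have hk : LinearMap.ker c ≤ LinearMap.ker h0 := by
        rw [hck, LinearMap.range_le_ker_iff]
        refine LinearMap.pi_ext fun j y => ?_
        rw [show Pi.single j y = y • (Pi.single j 1 : Fin n → R) by
          rw [← Pi.single_smul, smul_eq_mul, mul_one]]
        simp only [LinearMap.comp_apply, map_smul, hcol, map_sum, LinearMap.zero_apply, h0,
          Fintype.linearCombination_apply_single, one_smul]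
        rw [← hT, hv, Pi.zero_apply, smul_zero]
      refine ⟨((LinearMap.ker c).liftQ h0 hk).comp
        (c.quotKerEquivOfSurjective hcs).symm.toLinearMap, funext fun i => ?_⟩
      show ((LinearMap.ker c).liftQ h0 hk) ((c.quotKerEquivOfSurjective hcs).symm (c _)) = v i
      have : (c.quotKerEquivOfSurjective hcs).symm (c (Pi.single i 1)) =
          Submodule.Quotient.mk (Pi.single i 1) := by
        rw [LinearEquiv.symm_apply_eq]; rfl
      rw [this, Submodule.liftQ_apply]
      simp [h0]
  -- count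
  have e1 := Module.length_eq_add_of_exact (LinearMap.ker T).subtype T.rangeRestrict
    Subtype.val_injective T.surjective_rangeRestrict (by
      rw [LinearMap.exact_iff, LinearMap.ker_rangeRestrict, Submodule.range_subtype])
  have e2 := Module.length_eq_add_of_exact (LinearMap.range T).subtype (LinearMap.range T).mkQ
    Subtype.val_injective (Submodule.mkQ_surjective _) (LinearMap.exact_subtype_mkQ _)
  rw [Module.length_pi_of_fintype, Fin.sum_const, ← hlHom] at e1
  rw [Module.length_pi_of_fintype, Fin.sum_const] at e2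
  have hRfin : Module.length R (LinearMap.range T) ≠ ⊤ := ne_top_of_le_ne_top
    (show Module.length R (Fin n → M) ≠ ⊤ by
      rw [Module.length_pi_of_fintype]; exact WithTop.sum_ne_top.mpr fun _ _ => hJ.ne)
    (Module.length_le_of_injective (LinearMap.range T).subtype Subtype.val_injective)
  rw [succ_nsmul, e2, ← show Module.length R C = Module.length R ((Fin n → M) ⧸ LinearMap.range T) from rfl,
    hlC] at e1
  have e4 : Module.length R (↥I →ₗ[R] M) + Module.length R (LinearMap.range T) =
      Module.length R S + Module.length R M + Module.length R (LinearMap.range T) := by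
    rw [← e1]
    ring
  have e3 : Module.length R (↥I →ₗ[R] M) = Module.length R S + Module.length R M :=
    WithTop.add_right_cancel hRfin e4
  rw [e3, ← hlS]
  show Module.length R S + Module.length R (R ⧸ J) + _ = _
  ring

end Regular

end Groth.Agent.CommAlg4
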