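import Mathlib

/-!
Sections of a base change along a free ring extension: injectivity for arbitrary opens, and
bijectivity for compact (not necessarily quasi-separated) schemes.
-/

set_option autoImplicit false
set_option backward.isDefEq.respectTransparency false
universe u

open CategoryTheory CategoryTheory.Limits AlgebraicGeometry TopologicalSpace
open scoped TensorProduct

namespace Groth.Agent.CommAlg4.PushoutSectionFree

theorem injective_piMap (R M : Type u) [CommRing R] [AddCommGroup M] [Module R M] [Module.Free R M]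
    {ι : Type u} (N : ι → Type u) [∀ i, AddCommGroup (N i)] [∀ i, Module R (N i)] :
    Function.Injective (fun (x : M ⊗[R] (Π i, N i)) (i : ι) => LinearMap.lTensor M (LinearMap.proj i) x) := by
  classical
  let b := Module.Free.chooseBasis R M
  intro x y h
  rw [← sub_eq_zero]
  have hxy : ∀ i, LinearMap.lTensor M (LinearMap.proj i) (x - y) = 0 := fun i => by
    rw [map_sub, sub_eq_zero]
    exact congrFun h i
  generalize x - y = z at hxy ⊢
  let e := fun (P : Type u) [AddCommGroup P] [Module R P] =>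
    (TensorProduct.congr b.repr (LinearEquiv.refl R P)) ≪≫ₗ TensorProduct.finsuppScalarLeft R P _
  refine (e (Π i, N i)).injective ?_
  rw [map_zero]
  have hnat : ∀ (i : ι) (w : M ⊗[R] (Π i, N i)) (j : Module.Free.ChooseBasisIndex R M),
      e (N i) (LinearMap.lTensor M (LinearMap.proj i) w) j = e (Π i, N i) w j i := by
    intro i w j
    induction w using TensorProduct.induction_on with
    | zero => simp
    | add a c ha hc => simp [map_add, ha, hc]
    | tmul m n => simp [e]
  refine Finsupp.ext fun j => funext fun i => ?_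
  rw [← hnat i z j, hxy i]
  simp

variable {X Y S T : Scheme.{u}} {f : T ⟶ S} {g : Y ⟶ X} {iX : X ⟶ S} {iY : Y ⟶ T}
  (H : IsPullback g iY iX f)
  {US : S.Opens} {UT : T.Opens}
  {UX : X.Opens} (hUST : UT ≤ f ⁻¹ᵁ US) (hUSX : UX ≤ iX ⁻¹ᵁ US)
  {UY : Y.Opens} (hUY : UY = g ⁻¹ᵁ UX ⊓ iY ⁻¹ᵁ UT)

/-- Injectivity of `Γ(UX) ⊗ Γ(UT) → Γ(UX × UT)` for a free extension, any open. -/
theorem mono_pushoutSection_of_free (hUS : IsAffineOpen US) (hUT : IsAffineOpen UT)
    (hfree : letI := (f.appLE US UT hUST).hom.toAlgebra; Module.Free Γ(S, US) Γ(T, UT)) :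
    Mono (pushoutSection H hUST hUSX hUY) := by
  obtain ⟨ι, VX, hVU, hVaff⟩ : ∃ (ι : Type u) (VX : ι → X.Opens), iSup VX = UX ∧ ∀ i, IsAffineOpen (VX i) :=
    ⟨{V : X.Opens // IsAffineOpen V ∧ V ≤ UX}, fun V => V.1, by
      refine le_antisymm (iSup_le fun V => V.2.2) fun x hx => ?_
      obtain ⟨_, ⟨V, hV, rfl⟩, hxV, hle⟩ := X.isBasis_affineOpens.exists_subset_of_mem_open hx UX.2
      exact Opens.mem_iSup.2 ⟨⟨V, hV, hle⟩, hxV⟩, fun V => V.2.1⟩
  have hle (i : ι) : VX i ≤ UX := hVU ▸ le_iSup VX i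
  have hUi (i : ι) : VX i ≤ iX ⁻¹ᵁ US := (hle i).trans hUSX
  have hV : ∀ i, Function.Injective (pushoutSection H hUST (hUi i) rfl) := fun i => by
    haveI := isIso_pushoutSection_of_isAffineOpen H hUST (hUi i) rfl hUS hUT (hVaff i)
    exact (ConcreteCategory.bijective_of_isIso (pushoutSection H hUST (hUi i) rfl)).1
  classical
  algebraize [(iX.appLE US UX hUSX).hom, (f.appLE US UT hUST).hom]
  let (i : ι) := (iX.appLE US (VX i) (hUi i)).hom.toAlgebra
  haveI : Module.Free Γ(S, US) Γ(T, UT) := hfree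
  let ψY : Γ(Y, UY) →+* Π i, Γ(Y, g ⁻¹ᵁ VX i ⊓ iY ⁻¹ᵁ UT) := RingHom.pi fun i ↦
      (Y.presheaf.map (homOfLE (by subst hUY hVU; gcongr; exact le_iSup _ _)).op).hom
  let ψ : Γ(X, UX) →ₐ[Γ(S, US)] Π i, Γ(X, VX i) := AlgHom.pi fun i ↦
    ⟨(X.presheaf.map (homOfLE (hle i)).op).hom, fun r ↦ by
      dsimp [RingHom.algebraMap_toAlgebra]
      simp only [← CommRingCat.comp_apply, Scheme.Hom.appLE_map]⟩
  have hψ : Function.Injective ψ := by
    intro s t est
    apply X.IsSheaf.section_ext fun x hx ↦ ?_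
    simp only [← hVU, Opens.mem_iSup] at hx
    obtain ⟨i, hxi⟩ := hx
    exact ⟨_, _, hxi, congr($est i)⟩
  have hψ' : Function.Injective (Algebra.TensorProduct.map (AlgHom.id Γ(T, UT) Γ(T, UT)) ψ) :=
    Module.Flat.lTensor_preserves_injective_linearMap ψ.toLinearMap hψ
  simp_rw [@ConcreteCategory.mono_iff_injective_of_preservesPullback]
  let κ : (Γ(T, UT) ⊗[Γ(S, US)] Π i, Γ(X, VX i)) →ₐ[Γ(S, US)] Π i, Γ(T, UT) ⊗[Γ(S, US)] Γ(X, VX i) :=
    AlgHom.pi fun i => Algebra.TensorProduct.map (AlgHom.id Γ(S, US) Γ(T, UT)) (Pi.evalAlgHom _ _ i)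
  have hκ : Function.Injective κ := injective_piMap Γ(S, US) Γ(T, UT) (fun i => Γ(X, VX i))
  let φ : (Γ(T, UT) ⊗[Γ(S, US)] Π i, Γ(X, VX i)) →+* Π i, Γ(Y, g ⁻¹ᵁ VX i ⊓ iY ⁻¹ᵁ UT) :=
    (RingHom.pi fun i ↦ (pushoutSection H hUST (hUi i) rfl).hom.comp
      ((CommRingCat.isPushout_tensorProduct _ _ _).flip.isoPushout.hom.hom.comp
      (by exact Pi.evalRingHom _ _))).comp κ.toRingHom
  have hφ : Function.Injective φ := by
    dsimp [φ]
    refine .comp ?_ hκ
    exact .piMap fun i ↦ (hV _).comp <| CommRingCat.isPushout_tensorProduct _ _ _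
      |>.flip.isoPushout.commRingCatIsoToRingEquiv.injective
  let e : pushout (iX.appLE US UX hUSX) (f.appLE US UT hUST) ≅
      .of (Γ(T, UT) ⊗[Γ(S, US)] Γ(X, UX)) :=
    (CommRingCat.isPushout_tensorProduct _ _ _).flip.isoPushout.symm
  suffices (ψY.comp (pushoutSection H hUST hUSX hUY).hom).comp e.inv.hom = φ.comp
      (Algebra.TensorProduct.map (AlgHom.id Γ(T, UT) Γ(T, UT)) ψ).toRingHom by
    refine .of_comp (f := ψY) ?_
    convert (hφ.comp hψ').comp e.commRingCatIsoToRingEquiv.injective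
    ext1 x; simpa using! congr($this (e.hom x))
  ext1
  · have H₁ : e.inv.hom.comp Algebra.TensorProduct.includeLeftRingHom =
        (pushout.inr (C := CommRingCat) _ _).hom :=
      congr($((CommRingCat.isPushout_tensorProduct _ _ _).flip.inr_isoPushout_hom).hom)
    have H₂ (x j) : φ (x ⊗ₜ[↑Γ(S, US)] 1) j = pushoutSection H hUST (UX := VX j) (hUi j) rfl
        (pushout.inr (C := CommRingCat) _ _ x) := congr(pushoutSection H hUST (UX := VX j) _ rfl
        ($((CommRingCat.isPushout_tensorProduct ↑Γ(S, US)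
          ↑Γ(T, UT) ↑Γ(X, VX j)).flip.inr_isoPushout_hom) x))
    simp only [RingHom.comp_assoc, H₁]
    ext x j
    simp [ψY, H₂, ← CategoryTheory.comp_apply, pushoutSection]
  · have H₁ : e.inv.hom.comp Algebra.TensorProduct.includeRight.toRingHom =
        (pushout.inl (C := CommRingCat) _ _).hom :=
      congr($((CommRingCat.isPushout_tensorProduct _ _ _).flip.inl_isoPushout_hom).hom)
    have H₂ (x j) : φ (1 ⊗ₜ[↑Γ(S, US)] x) j = pushoutSection H hUST (UX := VX j) (hUi j) rfl
        (pushout.inl (C := CommRingCat) _ _ (x j)) := congr(pushoutSection H hUST (UX := VX j) _ rfl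
        ($((CommRingCat.isPushout_tensorProduct ↑Γ(S, US)
          ↑Γ(T, UT) ↑Γ(X, VX j)).flip.inl_isoPushout_hom) (x j)))
    simp only [RingHom.comp_assoc, H₁]
    ext x j
    simp [ψY, H₂, -CommRingCat.hom_comp, ← CategoryTheory.comp_apply, pushoutSection, ψ]

/-- Bijectivity for a compact scheme over a free extension. -/
theorem isIso_pushoutSection_of_free [Flat f] (hUS : IsAffineOpen US) (hUT : IsAffineOpen UT)
    (hUX : IsCompact (X := X) UX)
    (hfree : letI := (f.appLE US UT hUST).hom.toAlgebra; Module.Free Γ(S, US) Γ(T, UT)) :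
    IsIso (pushoutSection H hUST hUSX hUY) := by
  obtain ⟨I, hI, e⟩ := isCompact_iff_finite_and_eq_biUnion_affineOpens.mp hUX
  have := hI.to_subtype
  exact isIso_pushoutSection_of_iSup_eq H hUST hUSX hUY (fun i : I ↦ i) (by rwa [iSup_subtype, eq_comm])
    (fun i ↦ isIso_pushoutSection_of_isAffineOpen _ _ _ _ hUS hUT i.1.2)
    (fun i j ↦ mono_pushoutSection_of_free _ _ _ _ hUS hUT hfree)
    (f.flat_appLE hUS hUT _)

end Groth.Agent.CommAlg4.PushoutSectionFree
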