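import Mathlib
import Groth.Agent.CommAlg4.PushoutSectionFree
import Groth.Agent.FlatMor12.MorSFree

/-!
Morphisms `X × S → Z` for `X` compact with finite dimensional ring of functions and `Z` affine,
over a field.
-/

set_option autoImplicit false
set_option backward.isDefEq.respectTransparency false
universe u

open CategoryTheory CategoryTheory.Limits AlgebraicGeometry MonoidalCategory CartesianMonoidalCategory
open scoped TensorProduct

namespace Groth.Agent.CommAlg4.HomIntoAffine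

variable {k : Type u} [Field k]

/-- The structure of a `k`-algebra on global functions. -/
noncomputable instance algΓ (U : Over (Spec (CommRingCat.of k))) : Algebra k Γ(U.left, ⊤) :=
  ((Scheme.ΓSpecIso (CommRingCat.of k)).inv ≫ U.hom.appTop).hom.toAlgebra

theorem algΓ_def (U : Over (Spec (CommRingCat.of k))) :
    CommRingCat.ofHom (algebraMap k Γ(U.left, ⊤)) = (Scheme.ΓSpecIso (CommRingCat.of k)).inv ≫ U.hom.appTop := rfl

variable {U V W : Over (Spec (CommRingCat.of k))}

/-- Pullback of functions. -/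
noncomputable def res (g : U ⟶ V) : Γ(V.left, ⊤) →ₐ[k] Γ(U.left, ⊤) :=
  { g.left.appTop.hom with
    commutes' := fun r => by
      have h : ((Scheme.ΓSpecIso (CommRingCat.of k)).inv ≫ V.hom.appTop) ≫ g.left.appTop =
          (Scheme.ΓSpecIso (CommRingCat.of k)).inv ≫ U.hom.appTop := by
        rw [Category.assoc, ← Scheme.Hom.comp_appTop, Over.w g]
      exact ConcreteCategory.congr_hom h r }

theorem res_apply (g : U ⟶ V) (z : Γ(V.left, ⊤)) : res g z = g.left.appTop z := rfl

theorem res_comp (g : U ⟶ V) (h : V ⟶ W) : res (g ≫ h) = (res g).comp (res h) := by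
  ext z
  simp [res_apply, Scheme.Hom.comp_appTop]

theorem res_injective [IsAffine V.left] : Function.Injective (res : (U ⟶ V) → _) := fun g h e =>
  Over.OverMorphism.ext (ext_of_isAffine (CommRingCat.hom_ext (RingHom.ext fun z => AlgHom.congr_fun e z)))

theorem res_surjective [IsAffine V.left] : Function.Surjective (res : (U ⟶ V) → _) := fun χ => by
  let g : U.left ⟶ V.left := U.left.toSpecΓ ≫ Spec.map (CommRingCat.ofHom χ.toRingHom) ≫ V.left.isoSpec.inv
  have hg : g.appTop = CommRingCat.ofHom χ.toRingHom := by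
    simp only [g, Scheme.Hom.comp_appTop, Scheme.toSpecΓ_appTop, Category.assoc]
    rw [Scheme.ΓSpecIso_naturality, ← Category.assoc]
    conv_rhs => rw [← Category.id_comp (CommRingCat.ofHom χ.toRingHom)]
    congr 1
    rw [← cancel_epi (V.left.toSpecΓ.appTop), ← Category.assoc, ← Scheme.Hom.comp_appTop,
      show V.left.toSpecΓ = V.left.isoSpec.hom from rfl, Iso.inv_hom_id, Scheme.Hom.id_appTop]
    simp [Scheme.isoSpec, Scheme.toSpecΓ_appTop]
    exact (Category.id_comp _).trans (Category.comp_id _).symm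
  refine ⟨Over.homMk g (ext_of_isAffine ?_), AlgHom.ext fun z => ConcreteCategory.congr_hom hg z⟩
  rw [Scheme.Hom.comp_appTop, hg, ← cancel_epi (Scheme.ΓSpecIso (CommRingCat.of k)).inv]
  ext r
  exact χ.commutes r

/-- The Künneth map. -/
noncomputable def theta (X S : Over (Spec (CommRingCat.of k))) :
    Γ(S.left, ⊤) ⊗[k] Γ(X.left, ⊤) →ₐ[k] Γ((X ⊗ S).left, ⊤) :=
  Algebra.TensorProduct.lift (res (snd X S)) (res (fst X S)) fun _ _ => Commute.all _ _

theorem theta_natural (X : Over (Spec (CommRingCat.of k))) {S T : Over (Spec (CommRingCat.of k))} (g : S ⟶ T) :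
    (res (X ◁ g)).comp (theta X T) =
      (theta X S).comp (Algebra.TensorProduct.map (res g) (AlgHom.id k Γ(X.left, ⊤))) := by
  ext z
  · show res (X ◁ g) (theta X T (z ⊗ₜ 1)) = theta X S (res g z ⊗ₜ 1)
    simp only [theta, Algebra.TensorProduct.lift_tmul, map_one, mul_one]
    rw [← AlgHom.comp_apply, ← res_comp, ← AlgHom.comp_apply, ← res_comp, whiskerLeft_snd]
  · show res (X ◁ g) (theta X T (1 ⊗ₜ z)) = theta X S (res g 1 ⊗ₜ z)
    simp only [theta, Algebra.TensorProduct.lift_tmul, map_one, one_mul]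
    rw [← AlgHom.comp_apply, ← res_comp, whiskerLeft_fst]

theorem isField_gamma : IsField Γ(Spec (CommRingCat.of k), ⊤) :=
  MulEquiv.isField (Field.toIsField k) (Scheme.ΓSpecIso (CommRingCat.of k)).commRingCatIsoToRingEquiv.toMulEquiv

theorem free_gamma {R : Type u} [CommRing R] (φ : Γ(Spec (CommRingCat.of k), ⊤) →+* R) :
    letI := φ.toAlgebra; Module.Free Γ(Spec (CommRingCat.of k), ⊤) R := by
  letI := φ.toAlgebra
  letI := (isField_gamma (k := k)).toField
  exact Module.Free.of_divisionRing _ _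

theorem bijective_theta (X S : Over (Spec (CommRingCat.of k))) [CompactSpace X.left] [IsAffine S.left] :
    Function.Bijective (theta X S) := by
  haveI : Flat S.hom := by
    rw [HasRingHomProperty.iff_of_isAffine (P := @Flat)]
    letI := S.hom.appTop.hom.toAlgebra
    haveI : Module.Free Γ(Spec (CommRingCat.of k), ⊤) Γ(S.left, ⊤) := free_gamma S.hom.appTop.hom
    exact Module.Flat.of_free
  have H : IsPullback (fst X S).left (snd X S).left X.hom S.hom := IsPullback.of_hasPullback X.hom S.hom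
  haveI := PushoutSectionFree.isIso_pushoutSection_of_free H (US := ⊤) (UT := ⊤) (UX := ⊤) (UY := ⊤)
    le_top le_top (by simp) (isAffineOpen_top _) (isAffineOpen_top _) isCompact_univ
    (free_gamma (S.hom.appLE ⊤ ⊤ le_top).hom)
  have h0 := (isIso_pushoutSection_iff H (US := ⊤) (UT := ⊤) (UX := ⊤) (UY := ⊤) le_top le_top (by simp)).1 ‹_›
  simp only [Scheme.Hom.appLE_eq_app, Scheme.Hom.preimage_top, Scheme.Hom.appLE, homOfLE_refl, op_id,
    CategoryTheory.Functor.map_id, Category.comp_id] at h0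
  have h1 : IsPushout (CommRingCat.ofHom (algebraMap k Γ(X.left, ⊤))) (CommRingCat.ofHom (algebraMap k Γ(S.left, ⊤)))
      (fst X S).left.appTop (snd X S).left.appTop :=
    IsPushout.of_iso h0 (Scheme.ΓSpecIso (CommRingCat.of k)) (Iso.refl _) (Iso.refl _) (Iso.refl _)
      (by rw [algΓ_def]; simp) (by rw [algΓ_def]; simp) (by simp) (by simp)
  have h2 := (CommRingCat.isPushout_tensorProduct k Γ(S.left, ⊤) Γ(X.left, ⊤)).flip
  have he : (h2.isoIsPushout _ _ h1).hom = CommRingCat.ofHom (theta X S).toRingHom := by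
    refine h2.hom_ext ?_ ?_
    · rw [IsPushout.inl_isoIsPushout_hom]
      ext z
      show _ = theta X S (1 ⊗ₜ z)
      simp [theta]
      rfl
    · rw [IsPushout.inr_isoIsPushout_hom]
      ext z
      show _ = theta X S (z ⊗ₜ 1)
      simp [theta]
      rfl
  haveI : IsIso (CommRingCat.ofHom (theta X S).toRingHom) := he ▸ inferInstance
  exact ConcreteCategory.bijective_of_isIso (CommRingCat.ofHom (theta X S).toRingHom)

/-- Morphisms in `Over` glue. -/
theorem exists_glue {B : Scheme.{u}} {S M : Over B} (𝒰 : S.left.OpenCover)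
    (g : ∀ i, Over.mk (𝒰.f i ≫ S.hom) ⟶ M)
    (hglue : ∀ i l, pullback.fst (𝒰.f i) (𝒰.f l) ≫ (g i).left = pullback.snd (𝒰.f i) (𝒰.f l) ≫ (g l).left) :
    ∃ G : S ⟶ M, ∀ i, (Over.homMk (𝒰.f i) rfl : Over.mk (𝒰.f i ≫ S.hom) ⟶ S) ≫ G = g i := by
  have hw : 𝒰.glueMorphisms (fun i => (g i).left) hglue ≫ M.hom = S.hom := 𝒰.hom_ext _ _ fun i => by
    rw [Scheme.Cover.ι_glueMorphisms_assoc]
    exact Over.w (g i)
  refine ⟨Over.homMk _ hw, fun i => Over.OverMorphism.ext ?_⟩
  exact Scheme.Cover.ι_glueMorphisms 𝒰 (fun i => (g i).left) hglue i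

set_option maxHeartbeats 800000 in
/-- Gluing a representation from affine test objects. -/
theorem existsUnique_of_affine {X M Z : Over (Spec (CommRingCat.of k))} (ev : X ⊗ M ⟶ Z)
    (h : ∀ (S : Over (Spec (CommRingCat.of k))) [IsAffine S.left] (f : X ⊗ S ⟶ Z), ∃! g : S ⟶ M, (X ◁ g) ≫ ev = f)
    (S : Over (Spec (CommRingCat.of k))) (f : X ⊗ S ⟶ Z) : ∃! g : S ⟶ M, (X ◁ g) ≫ ev = f := by
  let 𝒰 := S.left.affineCover
  let P : 𝒰.I₀ → Over (Spec (CommRingCat.of k)) := fun i => Over.mk (𝒰.f i ≫ S.hom)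
  let j : ∀ i, P i ⟶ S := fun i => Over.homMk (𝒰.f i) rfl
  haveI : ∀ i, IsAffine (P i).left := fun i => inferInstanceAs (IsAffine (𝒰.X i))
  choose g hg hu using fun i => h (P i) ((X ◁ j i) ≫ f)
  have hglue : ∀ i l, pullback.fst (𝒰.f i) (𝒰.f l) ≫ (g i).left = pullback.snd (𝒰.f i) (𝒰.f l) ≫ (g l).left := by
    intro i l
    refine (pullback (𝒰.f i) (𝒰.f l)).affineCover.hom_ext _ _ fun m => ?_
    let q := (pullback (𝒰.f i) (𝒰.f l)).affineCover.f m
    let Q : Over (Spec (CommRingCat.of k)) := Over.mk (q ≫ pullback.fst (𝒰.f i) (𝒰.f l) ≫ 𝒰.f i ≫ S.hom)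
    haveI : IsAffine Q.left := inferInstanceAs (IsAffine ((pullback (𝒰.f i) (𝒰.f l)).affineCover.X m))
    let a : Q ⟶ P i := Over.homMk (q ≫ pullback.fst (𝒰.f i) (𝒰.f l)) (by simp [P, Q])
    let b : Q ⟶ P l := Over.homMk (q ≫ pullback.snd (𝒰.f i) (𝒰.f l)) (by simp [P, Q, pullback.condition_assoc])
    have hab : a ≫ j i = b ≫ j l := Over.OverMorphism.ext (by simp [a, b, j, pullback.condition])
    have := (h Q ((X ◁ (a ≫ j i)) ≫ f)).unique (y₁ := a ≫ g i) (y₂ := b ≫ g l)
      (by simp only [whiskerLeft_comp, Category.assoc, hg i])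
      (by rw [hab]; simp only [whiskerLeft_comp, Category.assoc, hg l])
    exact ((Category.assoc _ _ _).symm.trans (congrArg CommaMorphism.left this)).trans (Category.assoc _ _ _)
  obtain ⟨G, hG'⟩ := exists_glue 𝒰 g hglue
  have hG : ∀ i, j i ≫ G = g i := hG'
  refine ⟨G, ?_, ?_⟩
  · refine Over.OverMorphism.ext ((Scheme.Pullback.openCoverOfRight 𝒰 X.hom S.hom).hom_ext _ _ fun i => ?_)
    have hf : (Scheme.Pullback.openCoverOfRight 𝒰 X.hom S.hom).f i = (X ◁ j i).left := by
      refine pullback.hom_ext ?_ ?_ <;> simp [j, P]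
    rw [hf]
    show (X ◁ j i).left ≫ ((X ◁ G) ≫ ev).left = (X ◁ j i).left ≫ f.left
    exact congrArg CommaMorphism.left (show (X ◁ j i) ≫ (X ◁ G) ≫ ev = (X ◁ j i) ≫ f by
      rw [← Category.assoc, ← whiskerLeft_comp, hG, hg])
  · intro g' hg'
    refine Over.OverMorphism.ext (𝒰.hom_ext _ _ fun i => ?_)
    have h1 : j i ≫ g' = g i := hu i _ (by
      show X ◁ (j i ≫ g') ≫ ev = _
      rw [whiskerLeft_comp, Category.assoc, hg'])
    exact congrArg CommaMorphism.left (h1.trans (hG i).symm)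

/-- Generators of the coefficient algebra. -/
theorem finiteType_homRing (R B C : Type u) [CommRing R] [CommRing B] [CommRing C] [Algebra R B] [Algebra R C]
    {ι : Type u} [Fintype ι] (b : ι → B) (φ : ι → B →ₗ[R] R) (hbφ : ∀ x, ∑ j, φ j x • b j = x)
    [Algebra.FiniteType R C] : Algebra.FiniteType R (FlatMor12.MorSFree.HomRing R B C b φ) := by
  classical
  obtain ⟨s, hs⟩ := (inferInstance : Algebra.FiniteType R C).1
  let A := FlatMor12.MorSFree.HomRing R B C b φ
  let Φ := FlatMor12.MorSFree.phi R B C b φ hbφ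
  let gens : Set A := ↑(Finset.image₂ (fun c j => FlatMor12.MorSFree.coef φ A j (Φ c)) s Finset.univ)
  let S₀ : Subalgebra R A := Algebra.adjoin R gens
  let m : S₀ ⊗[R] B →ₐ[R] A ⊗[R] B := Algebra.TensorProduct.map S₀.val (AlgHom.id R B)
  have hall : ∀ c, Φ c ∈ m.range := by
    intro c
    have hc : c ∈ Algebra.adjoin R (s : Set C) := hs ▸ Algebra.mem_top
    have hle : Algebra.adjoin R (s : Set C) ≤ m.range.comap Φ := by
      refine Algebra.adjoin_le fun x hx => ?_
      show Φ x ∈ m.range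
      rw [← FlatMor12.MorSFree.sum_coef hbφ (Φ x)]
      refine sum_mem fun j _ => ?_
      exact ⟨(⟨FlatMor12.MorSFree.coef φ A j (Φ x), Algebra.subset_adjoin (Finset.mem_coe.2
        (Finset.mem_image₂_of_mem hx (Finset.mem_univ j)))⟩ : S₀) ⊗ₜ b j, rfl⟩
    exact hle hc
  have hmem : ∀ c j, FlatMor12.MorSFree.coef φ A j (Φ c) ∈ S₀ := by
    intro c j
    obtain ⟨y, hy⟩ := hall c
    rw [← hy]
    show FlatMor12.MorSFree.coef φ A j (Algebra.TensorProduct.map S₀.val (AlgHom.id R B) y) ∈ S₀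
    rw [FlatMor12.MorSFree.coef_map]
    exact Subtype.mem _
  refine ⟨Finset.image₂ (fun c j => FlatMor12.MorSFree.coef φ A j (Φ c)) s Finset.univ, eq_top_iff.2 ?_⟩
  rintro z -
  obtain ⟨P, rfl⟩ := Ideal.Quotient.mk_surjective z
  induction P using MvPolynomial.induction_on with
  | C r => exact Subalgebra.algebraMap_mem _ r
  | add p q hp hq => exact add_mem (hp) (hq)
  | mul_X p ck hp =>
    rw [map_mul]
    refine mul_mem hp ?_
    obtain ⟨c, j⟩ := ck
    have : Ideal.Quotient.mk (FlatMor12.MorSFree.relIdeal R B C b φ) (MvPolynomial.X (c, j)) =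
        FlatMor12.MorSFree.coef φ A j (Φ c) := by
      show _ = FlatMor12.MorSFree.coef φ A j (FlatMor12.MorSFree.phi R B C b φ hbφ c)
      rw [FlatMor12.MorSFree.phi_apply, FlatMor12.MorSFree.coef_map, Ideal.Quotient.mkₐ_eq_mk]
      exact (Ideal.Quotient.mk_eq_mk_iff_sub_mem _ _).2 (Ideal.subset_span (Or.inr ⟨(c, j), rfl⟩))
    rw [this]
    exact hmem c j

set_option maxHeartbeats 1600000 in
/-- The representing affine scheme. -/
theorem exists_repr (X Z : Over (Spec (CommRingCat.of k))) [CompactSpace X.left] [IsAffine Z.left]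
    [Module.Finite k Γ(X.left, ⊤)] :
    ∃ (M : Over (Spec (CommRingCat.of k))) (_ : IsAffine M.left) (ev : X ⊗ M ⟶ Z),
      (∀ (S : Over (Spec (CommRingCat.of k))) (f : X ⊗ S ⟶ Z), ∃! g : S ⟶ M, (X ◁ g) ≫ ev = f) ∧
      (LocallyOfFiniteType Z.hom → LocallyOfFiniteType M.hom) := by
  classical
  let bs := Module.Free.chooseBasis k Γ(X.left, ⊤)
  let φ : Module.Free.ChooseBasisIndex k Γ(X.left, ⊤) → Γ(X.left, ⊤) →ₗ[k] k := fun j => bs.coord j
  have hbφ : ∀ x, ∑ j, φ j x • bs j = x := fun x => bs.sum_repr x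
  let A := FlatMor12.MorSFree.HomRing k Γ(X.left, ⊤) Γ(Z.left, ⊤) bs φ
  let M : Over (Spec (CommRingCat.of k)) := Over.mk (Spec.map (CommRingCat.ofHom (algebraMap k A)))
  haveI : IsAffine M.left := inferInstanceAs (IsAffine (Spec _))
  let e : A →ₐ[k] Γ(M.left, ⊤) :=
    { (Scheme.ΓSpecIso (CommRingCat.of A)).inv.hom with
      commutes' := fun r => ConcreteCategory.congr_hom
        (Scheme.ΓSpecIso_inv_naturality (CommRingCat.ofHom (algebraMap k A))) r }
  have he : Function.Bijective e := ConcreteCategory.bijective_of_isIso (Scheme.ΓSpecIso (CommRingCat.of A)).inv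
  let E : A ≃ₐ[k] Γ(M.left, ⊤) := AlgEquiv.ofBijective e he
  let u : Γ(Z.left, ⊤) →ₐ[k] Γ(M.left, ⊤) ⊗[k] Γ(X.left, ⊤) :=
    (Algebra.TensorProduct.map e (AlgHom.id k _)).comp (FlatMor12.MorSFree.phi k Γ(X.left, ⊤) Γ(Z.left, ⊤) bs φ hbφ)
  obtain ⟨ev, hev⟩ := res_surjective (U := X ⊗ M) (V := Z) ((theta X M).comp u)
  refine ⟨M, inferInstance, ev, fun S f => existsUnique_of_affine ev (fun S _ f => ?_) S f, fun hZ => ?_⟩
  · let Θ := AlgEquiv.ofBijective _ (bijective_theta X S)
    obtain ⟨hi, hs⟩ := FlatMor12.MorSFree.bijective_comp_phi (C := Γ(Z.left, ⊤)) hbφ Γ(S.left, ⊤)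
    have key : ∀ g : S ⟶ M, (X ◁ g) ≫ ev = f ↔
        (Algebra.TensorProduct.map ((res g).comp e) (AlgHom.id k _)).comp
          (FlatMor12.MorSFree.phi k Γ(X.left, ⊤) Γ(Z.left, ⊤) bs φ hbφ) = Θ.symm.toAlgHom.comp (res f) := by
      intro g
      have h1 : res ((X ◁ g) ≫ ev) = Θ.toAlgHom.comp ((Algebra.TensorProduct.map ((res g).comp e) (AlgHom.id k _)).comp
          (FlatMor12.MorSFree.phi k Γ(X.left, ⊤) Γ(Z.left, ⊤) bs φ hbφ)) := by
        rw [res_comp, hev, ← AlgHom.comp_assoc, theta_natural]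
        simp only [u, AlgHom.comp_assoc]
        rw [← AlgHom.comp_assoc (Algebra.TensorProduct.map (res g) _), ← Algebra.TensorProduct.map_comp,
          AlgHom.comp_id]
        rfl
      constructor
      · intro hh
        rw [hh] at h1
        rw [h1, ← AlgHom.comp_assoc, AlgEquiv.symm_comp, AlgHom.id_comp]
      · intro hh
        refine res_injective ?_
        rw [h1, hh, ← AlgHom.comp_assoc, AlgEquiv.comp_symm, AlgHom.id_comp]
    obtain ⟨χ, hχ⟩ := hs (Θ.symm.toAlgHom.comp (res f))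
    obtain ⟨g, hg⟩ := res_surjective (U := S) (V := M) (χ.comp E.symm.toAlgHom)
    have hge : (res g).comp e = χ := by
      rw [hg, AlgHom.comp_assoc, show e = E.toAlgHom from rfl, AlgEquiv.symm_comp, AlgHom.comp_id]
    refine ⟨g, (key g).2 (by rw [hge]; exact hχ), fun g' hg' => res_injective ?_⟩
    have h3 : (res g').comp e = (res g).comp e := by
      rw [hge]
      exact hi (((key g').1 hg').trans hχ.symm)
    refine AlgHom.ext fun z => ?_
    obtain ⟨z, rfl⟩ := he.2 z
    exact AlgHom.congr_fun h3 z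
  · haveI : Algebra.FiniteType k Γ(Z.left, ⊤) := by
      rw [← RingHom.finiteType_algebraMap]
      exact RingHom.finiteType_respectsIso.2 Z.hom.appTop.hom
        (Scheme.ΓSpecIso (CommRingCat.of k)).commRingCatIsoToRingEquiv.symm
        ((HasRingHomProperty.iff_of_isAffine (P := @LocallyOfFiniteType)).1 hZ)
    haveI := finiteType_homRing k Γ(X.left, ⊤) Γ(Z.left, ⊤) bs φ hbφ
    show LocallyOfFiniteType (Spec.map (CommRingCat.ofHom (algebraMap k A)))
    rw [HasRingHomProperty.Spec_iff (P := @LocallyOfFiniteType)]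
    exact RingHom.finiteType_algebraMap.2 inferInstance

end Groth.Agent.CommAlg4.HomIntoAffine
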