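import Mathlib
import Groth.Agent.HopfLib.SubHopf
import Groth.Agent.HopfLib.FgSubHopf
import Groth.Agent.HopfLib.GITPoints
import Groth.Agent.HopfLib.Cartier

set_option autoImplicit false

/-! Rational points of an arbitrary commutative Hopf algebra over an algebraically closed field of
characteristic zero separate its elements. -/

universe u v

open TensorProduct

namespace Groth.Agent.CommAlg4.HopfPoints

open Groth.Agent.HopfLib

variable {k : Type u} [Field k] {A : Type v} [CommRing A] [HopfAlgebra k A]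

theorem isSubHopf_adjoin_iUnion {ι : Sort*} (C : ι → Subalgebra k A) (hC : ∀ i, IsSubHopf k A (C i)) :
    IsSubHopf k A (⨆ i, C i) := by
  have hmono : ∀ i, LinearMap.range (TensorProduct.map (C i).val.toLinearMap (C i).val.toLinearMap) ≤
      LinearMap.range (TensorProduct.map (⨆ j, C j).val.toLinearMap (⨆ j, C j).val.toLinearMap) := by
    intro i
    have : (C i).val.toLinearMap =
        (⨆ j, C j).val.toLinearMap ∘ₗ (Subalgebra.inclusion (le_iSup C i)).toLinearMap := rfl
    rw [this, TensorProduct.map_comp]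
    exact LinearMap.range_comp_le_range _ _
  constructor
  · have : (⨆ i, C i) ≤ (Algebra.TensorProduct.map (⨆ j, C j).val (⨆ j, C j).val).range.comap
        (Bialgebra.comulAlgHom k A) := by
      refine iSup_le fun i b hb => ?_
      exact hmono i ((hC i).1 b hb)
    exact fun b hb => this hb
  · have : (⨆ i, C i) ≤ (⨆ i, C i).comap (HopfAlgebra.antipodeAlgHom k A) := by
      refine iSup_le fun i b hb => ?_
      exact le_iSup C i ((hC i).2 b hb)
    exact fun b hb => this hb

theorem exists_sub_mem_of_mem_adjoin {J : Submodule k A} (hJ : ∀ a ∈ J, ∀ b ∈ J, a * b ∈ J) {a : A}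
    (ha : a ∈ Algebra.adjoin k (J : Set A)) : ∃ c : k, a - algebraMap k A c ∈ J := by
  induction ha using Algebra.adjoin_induction with
  | mem x hx => exact ⟨0, by simpa using hx⟩
  | algebraMap r => exact ⟨r, by simp⟩
  | add x y _ _ hx hy =>
    obtain ⟨c, hc⟩ := hx
    obtain ⟨d, hd⟩ := hy
    exact ⟨c + d, by convert J.add_mem hc hd using 1; rw [map_add]; ring⟩
  | mul x y _ _ hx hy =>
    obtain ⟨c, hc⟩ := hx
    obtain ⟨d, hd⟩ := hy
    refine ⟨c * d, ?_⟩
    convert J.add_mem (J.add_mem (hJ _ hc _ hd) (J.smul_mem c hd)) (J.smul_mem d hc) using 1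
    rw [map_mul, Algebra.smul_def, Algebra.smul_def]
    ring

/-- a partial rational point: the kernel of a character of a Hopf subalgebra -/
def IsPartial (J : Submodule k A) : Prop :=
  (1 : A) ∉ J ∧ (∀ a ∈ J, ∀ b ∈ J, a * b ∈ J) ∧ IsSubHopf k A (Algebra.adjoin k (J : Set A))

theorem isPartial_map_ker {B : Subalgebra k A} (hB : IsSubHopf k A B) (y : B →ₐ[k] k) :
    IsPartial ((LinearMap.ker y.toLinearMap).map B.val.toLinearMap) ∧
      Algebra.adjoin k ((((LinearMap.ker y.toLinearMap).map B.val.toLinearMap) : Submodule k A) : Set A) = B := by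
  have h : Algebra.adjoin k ((((LinearMap.ker y.toLinearMap).map B.val.toLinearMap) : Submodule k A) : Set A) = B := by
    refine le_antisymm (Algebra.adjoin_le ?_) fun b hb => ?_
    · rintro _ ⟨b, -, rfl⟩
      exact b.2
    · have e : b = algebraMap k A (y ⟨b, hb⟩) + (b - algebraMap k A (y ⟨b, hb⟩)) := by ring
      rw [e]
      refine Subalgebra.add_mem _ (Subalgebra.algebraMap_mem _ _) (Algebra.subset_adjoin ?_)
      exact ⟨⟨b, hb⟩ - algebraMap k B (y ⟨b, hb⟩), by simp, rfl⟩
  refine ⟨⟨?_, ?_, h.symm ▸ hB⟩, h⟩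
  · rintro ⟨b, hb, hb'⟩
    have : b = 1 := Subtype.ext hb'
    simp [this] at hb
  · rintro _ ⟨a, ha, rfl⟩ _ ⟨b, hb, rfl⟩
    refine ⟨a * b, ?_, rfl⟩
    change y (a * b) = 0
    rw [map_mul, show y a = 0 from ha, zero_mul]

/-- A rational point of a Hopf subalgebra extends. -/
theorem exists_extend [IsAlgClosed k] {B : Subalgebra k A} (hB : IsSubHopf k A B) (y : B →ₐ[k] k) :
    ∃ g : A →ₐ[k] k, ∀ b : B, g b = y b := by
  classical
  obtain ⟨J, hJ₀, hJmax⟩ := zorn_le_nonempty₀ {J : Submodule k A | IsPartial J} (fun c hc hchain z hz => by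
    refine ⟨sSup c, ⟨?_, ?_, ?_⟩, fun J hJ => le_sSup hJ⟩
    · intro h1
      obtain ⟨J, hJ, h⟩ := (Submodule.mem_sSup_of_directed ⟨z, hz⟩ hchain.directedOn).1 h1
      exact (hc hJ).1 h
    · intro a ha b hb
      obtain ⟨J, hJ, ha⟩ := (Submodule.mem_sSup_of_directed ⟨z, hz⟩ hchain.directedOn).1 ha
      obtain ⟨J', hJ', hb⟩ := (Submodule.mem_sSup_of_directed ⟨z, hz⟩ hchain.directedOn).1 hb
      obtain ⟨L, hL, h1, h2⟩ := hchain.directedOn J hJ J' hJ'
      exact le_sSup hL ((hc hL).2.1 a (h1 ha) b (h2 hb))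
    · have : Algebra.adjoin k ((sSup c : Submodule k A) : Set A) = ⨆ J : c, Algebra.adjoin k ((J : Submodule k A) : Set A) := by
        refine le_antisymm (Algebra.adjoin_le fun a ha => ?_) (iSup_le fun J => Algebra.adjoin_mono ?_)
        · obtain ⟨J, hJ, ha⟩ := (Submodule.mem_sSup_of_directed ⟨z, hz⟩ hchain.directedOn).1 ha
          exact le_iSup (fun J : c => Algebra.adjoin k ((J : Submodule k A) : Set A)) ⟨J, hJ⟩ (Algebra.subset_adjoin ha)
        · exact le_sSup (a := (J : Submodule k A)) J.2
      rw [this]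
      exact isSubHopf_adjoin_iUnion _ fun J => (hc J.2).2.2)
    _ (isPartial_map_ker hB y).1
  obtain ⟨h1, hmul, hH⟩ := hJmax.prop
  have htop : ∀ a : A, a ∈ Algebra.adjoin k (J : Set A) := by
    intro a
    let C := Algebra.adjoin k (J : Set A)
    obtain ⟨B₁, ha₁, hfg, hB₁⟩ := exists_fg_isSubHopf (k := k) ({a} : Set A) (Set.finite_singleton a)
    obtain ⟨G, hG⟩ := hfg
    let C' : Subalgebra k A := Algebra.adjoin k ((J : Set A) ∪ (G : Set A))
    have hC' : IsSubHopf k A C' := by
      have e : C' = ⨆ b : Bool, cond b C B₁ := by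
        rw [iSup_bool_eq]
        simp only [C', C, Algebra.adjoin_union, hG, cond]
      rw [e]
      exact isSubHopf_adjoin_iUnion _ fun b => by cases b <;> assumption
    have hJC : (J : Set A) ⊆ C := Algebra.subset_adjoin
    have hJC' : (J : Set A) ⊆ C' := fun x hx => Algebra.subset_adjoin (Or.inl hx)
    -- the ideal generated by J in A is proper, by faithful flatness over C
    have hspan : Ideal.span (J : Set A) ≠ ⊤ := by
      haveI := faithfullyFlat_isSubHopf hH
      let P : Ideal C :=
        { carrier := {c | (c : A) ∈ J}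
          zero_mem' := J.zero_mem
          add_mem' := fun ha hb => J.add_mem ha hb
          smul_mem' := fun c x hx => by
            obtain ⟨r, hr⟩ := exists_sub_mem_of_mem_adjoin hmul c.2
            change (c : A) * (x : A) ∈ J
            have e : (c : A) * (x : A) = ((c : A) - algebraMap k A r) * (x : A) + r • (x : A) := by
              rw [Algebra.smul_def]; ring
            rw [e]
            exact J.add_mem (hmul _ hr _ hx) (J.smul_mem r hx) }
      have hP : P ≠ ⊤ := fun h => h1 (show (1 : C) ∈ P from h ▸ Submodule.mem_top)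
      obtain ⟨M, hM, hPM⟩ := Ideal.exists_le_maximal P hP
      intro htop
      refine Module.FaithfullyFlat.submodule_ne_top (R := C) (M := A) hM (eq_top_iff.2 fun z _ => ?_)
      have hz : z ∈ Ideal.span (J : Set A) := htop ▸ Submodule.mem_top
      suffices ∀ w : A, w ∈ Ideal.span (J : Set A) → ∀ t : A, t * w ∈ M • (⊤ : Submodule C A) by
        simpa using this z hz 1
      intro w hw
      induction hw using Submodule.span_induction with
      | mem j hj =>
        intro t
        rw [show t * j = (⟨j, hJC hj⟩ : C) • t by rw [Subalgebra.smul_def, smul_eq_mul, mul_comm]]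
        exact Submodule.smul_mem_smul (hPM hj) Submodule.mem_top
      | zero => intro t; simp
      | add p q _ _ hp hq => intro t; rw [mul_add]; exact Submodule.add_mem _ (hp t) (hq t)
      | smul r p _ hp => intro t; rw [smul_eq_mul, ← mul_assoc]; exact hp _
    let I : Ideal C' := (Ideal.span (J : Set A)).comap C'.val
    have hI : I ≠ ⊤ := fun h => hspan ((Ideal.eq_top_iff_one _).2
      (show (1 : A) ∈ Ideal.span (J : Set A) from (show (1 : C') ∈ I from h ▸ Submodule.mem_top)))
    haveI : Nontrivial (C' ⧸ I) := Ideal.Quotient.nontrivial_iff.mpr hI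
    haveI : Algebra.FiniteType k (C' ⧸ I) := by
      let q := Ideal.Quotient.mkₐ k I
      refine ⟨Subalgebra.fg_def.mpr ⟨(fun g : (G : Set A) => q ⟨g, Algebra.subset_adjoin (Or.inr g.2)⟩) '' Set.univ,
        (Set.toFinite _).image _, ?_⟩⟩
      rw [eq_top_iff]
      rintro x -
      obtain ⟨⟨c, hc⟩, rfl⟩ := Ideal.Quotient.mk_surjective x
      induction hc using Algebra.adjoin_induction with
      | mem z hz =>
        rcases hz with hz | hz
        · convert Subalgebra.zero_mem _ using 1
          exact Ideal.Quotient.eq_zero_iff_mem.mpr (Ideal.subset_span hz)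
        · exact Algebra.subset_adjoin ⟨⟨z, hz⟩, trivial, rfl⟩
      | algebraMap r => exact Subalgebra.algebraMap_mem _ r
      | add p q hp hq ihp ihq => exact Subalgebra.add_mem _ ihp ihq
      | mul p q hp hq ihp ihq => exact Subalgebra.mul_mem _ ihp ihq
    obtain ⟨x, -⟩ := exists_algHom_le_ker (k := k) (R := C' ⧸ I) (I := ⊥) bot_ne_top
    let x' : C' →ₐ[k] k := x.comp (Ideal.Quotient.mkₐ k I)
    obtain ⟨hpart, hadj⟩ := isPartial_map_ker hC' x'
    have hle : J ≤ (LinearMap.ker x'.toLinearMap).map C'.val.toLinearMap := fun j hj => by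
      refine ⟨⟨j, hJC' hj⟩, ?_, rfl⟩
      change x (Ideal.Quotient.mk I ⟨j, hJC' hj⟩) = 0
      rw [Ideal.Quotient.eq_zero_iff_mem.mpr (show (⟨j, hJC' hj⟩ : C') ∈ I from Ideal.subset_span hj), map_zero]
    have heq := hJmax.eq_of_le hpart hle
    rw [heq, hadj]
    have : B₁ ≤ C' := hG ▸ Algebra.adjoin_mono Set.subset_union_right
    exact this (ha₁ rfl)
  choose f hf using fun a => exists_sub_mem_of_mem_adjoin hmul (htop a)
  have huniq : ∀ (a : A) (c : k), a - algebraMap k A c ∈ J → f a = c := by
    intro a c hc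
    by_contra hne
    have h : algebraMap k A (f a - c) ∈ J := by
      convert J.sub_mem hc (hf a) using 1
      rw [map_sub]; ring
    apply h1
    have := J.smul_mem (f a - c)⁻¹ h
    rwa [Algebra.smul_def, ← map_mul, inv_mul_cancel₀ (sub_ne_zero.mpr hne), map_one] at this
  refine ⟨{ toFun := f, map_one' := huniq _ _ (by simp), map_zero' := huniq _ _ (by simp),
            map_add' := fun a b => huniq _ _ (by
              convert J.add_mem (hf a) (hf b) using 1; rw [map_add]; ring),
            map_mul' := fun a b => huniq _ _ (by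
              convert J.add_mem (J.add_mem (hmul _ (hf a) _ (hf b)) (J.smul_mem (f a) (hf b)))
                (J.smul_mem (f b) (hf a)) using 1
              rw [map_mul, Algebra.smul_def, Algebra.smul_def]; ring),
            commutes' := fun r => huniq _ _ (by simp) }, fun b => ?_⟩
  exact huniq _ _ (hJ₀ ⟨b - algebraMap k B (y b), by simp, rfl⟩)

/-- Points separate elements. -/
theorem eq_zero_of_forall_point [IsAlgClosed k] [CharZero k] {a : A} (h : ∀ g : A →ₐ[k] k, g a = 0) :
    a = 0 := by
  obtain ⟨B, ha, hfg, hB⟩ := exists_fg_isSubHopf (k := k) ({a} : Set A) (Set.finite_singleton a)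
  letI := subHopf hB
  haveI : Algebra.FiniteType k B := (Subalgebra.fg_iff_finiteType B).1 hfg
  haveI : IsReduced B := isReduced_of_charZero (k := k)
  by_contra hne
  obtain ⟨x, hx⟩ := exists_algHom_ne_zero (k := k) (f := (⟨a, ha rfl⟩ : B))
    fun hn => hne (congrArg Subtype.val hn.eq_zero)
  obtain ⟨g, hg⟩ := exists_extend hB x
  exact hx ((hg ⟨a, ha rfl⟩).symm.trans (h g))

end Groth.Agent.CommAlg4.HopfPoints

namespace Groth.Agent.CommAlg4.HopfPoints

open Groth.Agent.HopfLib

variable {k : Type u} [Field k] [IsAlgClosed k] {A : Type v} [CommRing A] [HopfAlgebra k A]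

/-- Points detect nilpotence, in any characteristic. -/
theorem exists_point_ne_zero {a : A} (h : ¬ IsNilpotent a) : ∃ g : A →ₐ[k] k, g a ≠ 0 := by
  obtain ⟨B, ha, hfg, hB⟩ := exists_fg_isSubHopf (k := k) ({a} : Set A) (Set.finite_singleton a)
  letI := subHopf hB
  haveI : Algebra.FiniteType k B := (Subalgebra.fg_iff_finiteType B).1 hfg
  obtain ⟨x, hx⟩ := exists_algHom_ne_zero (k := k) (f := (⟨a, ha rfl⟩ : B))
    fun hn => h (hn.map B.val)
  obtain ⟨g, hg⟩ := exists_extend hB x
  exact ⟨g, fun h0 => hx ((hg ⟨a, ha rfl⟩).symm.trans h0)⟩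

omit [IsAlgClosed k] in
theorem isSubHopf_range {B : Type v} [CommRing B] [HopfAlgebra k B] (f : B →ₐc[k] A) :
    IsSubHopf k A (f : B →ₐ[k] A).range := by
  constructor
  · rintro _ ⟨b, rfl⟩
    refine ⟨TensorProduct.map (f : B →ₐ[k] A).rangeRestrict.toLinearMap (f : B →ₐ[k] A).rangeRestrict.toLinearMap
      (CoalgebraStruct.comul (R := k) b), ?_⟩
    rw [← LinearMap.comp_apply, ← TensorProduct.map_comp]
    exact CoalgHomClass.map_comp_comul_apply f b
  · rintro _ ⟨b, rfl⟩
    exact ⟨HopfAlgebra.antipode k b, map_antipode' f b⟩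

/-- Points lift along a map with surjective spectrum. -/
theorem exists_point_lift {B : Type v} [CommRing B] [HopfAlgebra k B] (f : B →ₐc[k] A)
    (hf : Function.Surjective (PrimeSpectrum.comap (f : B →ₐ[k] A).toRingHom)) (ψ : B →ₐ[k] k) :
    ∃ φ : A →ₐ[k] k, φ.comp (f : B →ₐ[k] A) = ψ := by
  have hker : RingHom.ker (f : B →ₐ[k] A).rangeRestrict.toRingHom ≤ RingHom.ker ψ.toRingHom := by
    intro b hb
    have hb' : (f : B →ₐ[k] A) b = 0 := congrArg Subtype.val (RingHom.mem_ker.1 hb)
    have hn : IsNilpotent b := by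
      rw [← mem_nilradical, nilradical_eq_sInf]
      refine Submodule.mem_sInf.2 fun p hp => ?_
      obtain ⟨q, hq⟩ := hf ⟨p, hp⟩
      rw [← show q.asIdeal.comap (f : B →ₐ[k] A).toRingHom = p from congrArg PrimeSpectrum.asIdeal hq]
      change (f : B →ₐ[k] A) b ∈ q.asIdeal
      rw [hb']
      exact zero_mem _
    exact (hn.map ψ).eq_zero
  let y := AlgHom.liftOfSurjective _ (f : B →ₐ[k] A).rangeRestrict_surjective ψ hker
  obtain ⟨g, hg⟩ := exists_extend (isSubHopf_range f) y
  refine ⟨g, AlgHom.ext fun b => ?_⟩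
  exact (hg ((f : B →ₐ[k] A).rangeRestrict b)).trans
    (AlgHom.congr_fun (AlgHom.liftOfSurjective_comp _ (f : B →ₐ[k] A).rangeRestrict_surjective ψ hker) b)

end Groth.Agent.CommAlg4.HopfPoints
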