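import Groth.Agent.FF.DiffExp
import Groth.Agent.FF.Quadratic
import Groth.Agent.FF.HyperGenus
import Mathlib

/-! Regular differentials of hyperelliptic function fields in odd characteristic. -/

set_option autoImplicit false
set_option backward.isDefEq.respectTransparency false

open FunFld WithZero LocRes Polynomial Groth.Agent.FF
open scoped LaurentSeries

namespace Groth.Agent.CommAlg4.HyperDiff

universe u v w

variable {k : Type u} {K : Type v} [Field k] [Field K] [Algebra k K] [Algebra (RatFunc k) K]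
  [IsScalarTower k (RatFunc k) K]

local notation "ι" => algebraMap (Polynomial k) (RatFunc k)

theorem two_ne_zero_k (h2 : ringChar k ≠ 2) : (2 : k) ≠ 0 := fun h =>
  h2 (CharP.ringChar_of_prime_eq_zero Nat.prime_two (by exact_mod_cast h))

/-- A square root of a unit excludes ramification. -/
theorem ramIdx_eq_one_of_sq (hdeg : Module.finrank (RatFunc k) K = 2) (h2 : ringChar k ≠ 2)
    {p : Place k (RatFunc k)} {P : Place k K} {e : ℕ} (he : IsOverWith P p e) {z : K}
    (hz : z ∉ Set.range (algebraMap (RatFunc k) K)) {g : RatFunc k}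
    (hsq : z ^ 2 = algebraMap (RatFunc k) K g) (hg : p.1 g = 1) : e = 1 := by
  haveI : FiniteDimensional (RatFunc k) K := Module.finite_of_finrank_pos (by omega)
  have h1 : IsOverWith P p 1 := by
    refine unramified_of_approx isFF'_ratFunc hdeg hz (fun he2 N => ?_) ⟨e, he⟩
    have hvz : P.1 z = 1 := by
      have h1 : P.1 z ^ 2 = 1 := by rw [← map_pow, hsq, he2, hg, one_pow]
      exact (pow_eq_one_iff_of_nonneg zero_le two_ne_zero).mp h1
    obtain ⟨a, -, ha⟩ := exists_residue_approx isFF'_ratFunc hdeg he2 hvz.le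
    have hva : P.1 (algebraMap (RatFunc k) K a) = 1 := by
      have h1 := Valuation.map_sub_eq_of_lt_left P.1 (x := z) (y := z - algebraMap (RatFunc k) K a)
        (by rw [hvz]; exact ha)
      rwa [sub_sub_cancel, hvz] at h1
    have hva' : p.1 a = 1 := by
      rw [he2] at hva
      exact (pow_eq_one_iff_of_nonneg zero_le two_ne_zero).mp hva
    have hu : p.1 (2 * a) = 1 := by
      rw [map_mul, hva', mul_one, ← map_ofNat (algebraMap k (RatFunc k)) 2]
      exact val_algebraMap p (two_ne_zero_k h2)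
    obtain ⟨b, hb⟩ := exists_approx_root ⟨2, he2⟩ (u := 2 * a) (g := g - a ^ 2) ha hu
      (by rw [map_sub, map_mul, map_ofNat, map_pow, ← hsq]; ring) N
    exact ⟨a + b, by rwa [map_add, sub_add_eq_sub_sub]⟩
  exact (ow_eq he h1)

variable {F : Type w} [Field F] [Algebra k F] {P : Place k K} {φ : K →ₐ[k] F⸨X⸩}

local notation "xK" => algebraMap (RatFunc k) K RatFunc.X

theorem natCast_ne_zero (h2 : ringChar k ≠ 2) {e : ℕ} (he0 : 0 < e) (he : e ≤ 2) : ((e : ℤ) : F) ≠ 0 := by
  rcases Nat.lt_or_ge e 2 with h | h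
  · obtain rfl : e = 1 := by omega
    simp
  · obtain rfl : e = 2 := by omega
    have h20 := (_root_.map_ne_zero (algebraMap k F)).mpr (two_ne_zero_k h2)
    rw [map_ofNat] at h20
    simpa using h20

/-- At a finite place `dx` has the order of `y`. -/
theorem val_dX_finite (hdeg : Module.finrank (RatFunc k) K = 2) (h2 : ringChar k ≠ 2) {y : K} {f : Polynomial k}
    (hf : Squarefree f) (hd : 1 ≤ f.natDegree) (heq : y ^ 2 = algebraMap (RatFunc k) K (ι f))
    (hφ : IsExpansionAt P.1 φ) (hX : P.1 xK ≤ 1) :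
    Valued.v (LocRes.D F (φ xK)) = P.1 y ∧ P.1 y ≠ 0 := by
  haveI : FiniteDimensional (RatFunc k) K := Module.finite_of_finrank_pos (by omega)
  have hy0 : y ≠ 0 := fun h => by
    rw [h, zero_pow two_ne_zero, eq_comm, map_eq_zero] at heq
    exact ι_ne_zero hf.ne_zero heq
  have hyr : y ∉ Set.range (algebraMap (RatFunc k) K) := fun ⟨r, hr⟩ =>
    not_square hf hd r ((algebraMap (RatFunc k) K).injective (by rw [map_pow, hr, heq]))
  refine ⟨?_, (_root_.map_ne_zero _).mpr hy0⟩
  obtain ⟨p, e, hepos, he⟩ := exists_isOverWith (K := RatFunc k) isFF'_ratFunc P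
  have hpX : p.1 RatFunc.X ≤ 1 := (ow_le_one_iff he _).mp hX
  obtain ⟨q, hq, hq1, hq0⟩ := exists_prime_of_finite p hpX
  have he2 := ramIdx_le_two isFF'_ratFunc hdeg he
  have hordy : 2 * P.ord y = e * p.ord (ι f) := by
    rw [← ow_ord_eq he, ← heq, ord_pow']; norm_num
  have hordy' : P.ord y = (e : ℤ) - 1 := by
    obtain ⟨hf0, hf1⟩ := ord_squarefree_le_one p hpX hf
    rcases eq_or_ne (p.ord (ι f)) 0 with h | h
    · rw [h, mul_zero] at hordy
      have : e = 1 := ramIdx_eq_one_of_sq hdeg h2 he hyr heq (by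
        rw [val_eq_exp_neg_ord p (ι_ne_zero hf.ne_zero), h, neg_zero, exp_zero])
      omega
    · rw [show p.ord (ι f) = 1 by omega, mul_one] at hordy
      omega
  have hv : Valued.v (φ (algebraMap (RatFunc k) K (ι q))) = exp (-(e : ℤ)) := by
    rw [hφ.1, he, val_eq_exp_neg_ord p (ι_ne_zero hq.ne_zero), hq1, ← exp_nsmul]
    simp
  have hDT := valued_D_eq_of_ord hv (natCast_ne_zero h2 hepos he2)
  have hae : ∀ g : Polynomial k, algebraMap (RatFunc k) K (ι g) = aeval xK g := fun g => by
    rw [show ι g = aeval (RatFunc.X : RatFunc k) g by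
      rw [← RatFunc.algebraMap_X, aeval_algebraMap_apply, aeval_X_left_apply], aeval_algebraMap_apply]
  have hrel : KaehlerDifferential.D k K (aeval xK q) = aeval xK q.derivative • KaehlerDifferential.D k K xK :=
    Derivation.map_aeval _ _ _
  have hq' : q.derivative ≠ 0 := fun h0 => by
    rw [hae, D_rel φ (a := aeval xK q) (x := xK) (c := 0) (by rw [hrel, h0, map_zero]), map_zero, zero_mul, map_zero] at hDT
    exact exp_ne_zero hDT.symm
  have hunit : P.1 (aeval xK q.derivative) = 1 := by
    have hnd : ¬ q ∣ q.derivative := fun h => by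
      have h1 := Polynomial.degree_le_of_dvd h hq'
      exact not_lt.mpr h1 (Polynomial.degree_derivative_lt hq.ne_zero)
    rw [← hae, he, val_eq_exp_neg_ord p (ι_ne_zero hq'), hq0 _ hnd, neg_zero, exp_zero, one_pow]
  rw [hae, D_rel φ hrel, map_mul, hφ.1, hunit, one_mul] at hDT
  rw [hDT, val_eq_exp_neg_ord P hy0, hordy']

/-- At an infinite place. -/
theorem val_dX_infinite (hdeg : Module.finrank (RatFunc k) K = 2) (h2 : ringChar k ≠ 2) {y : K} {f : Polynomial k}
    (hf : Squarefree f) (hd : 1 ≤ f.natDegree) (heq : y ^ 2 = algebraMap (RatFunc k) K (ι f))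
    (hφ : IsExpansionAt P.1 φ) (hX : ¬ P.1 xK ≤ 1) :
    Valued.v (LocRes.D F (φ xK)) ≠ 0 ∧
      P.1 y = Valued.v (LocRes.D F (φ xK)) * exp (-(P.ord xK) * ((((f.natDegree - 1) / 2 : ℕ) : ℤ) - 1)) := by
  haveI : FiniteDimensional (RatFunc k) K := Module.finite_of_finrank_pos (by omega)
  have hy0 : y ≠ 0 := fun h => by
    rw [h, zero_pow two_ne_zero, eq_comm, map_eq_zero] at heq
    exact ι_ne_zero hf.ne_zero heq
  have hyr : y ∉ Set.range (algebraMap (RatFunc k) K) := fun ⟨r, hr⟩ =>
    not_square hf hd r ((algebraMap (RatFunc k) K).injective (by rw [map_pow, hr, heq]))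
  obtain ⟨p, e, hepos, he⟩ := exists_isOverWith (K := RatFunc k) isFF'_ratFunc P
  obtain ⟨-, hordg⟩ := infinite_place p fun h => hX ((ow_le_one_iff he _).mpr h)
  have he2 := ramIdx_le_two isFF'_ratFunc hdeg he
  have hX0 : (RatFunc.X : RatFunc k) ≠ 0 := RatFunc.X_ne_zero
  have hpX : p.ord (RatFunc.X : RatFunc k) = -1 := by
    rw [← RatFunc.algebraMap_X, hordg _ Polynomial.X_ne_zero]; simp
  have hPX : P.ord xK = -(e : ℤ) := by rw [ow_ord_eq he, hpX]; ring
  have hordy : 2 * P.ord y = -((e : ℤ) * f.natDegree) := by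
    have h1 := ow_ord_eq he (ι f)
    rw [← heq, ord_pow', hordg f hf.ne_zero] at h1
    push_cast at h1
    linarith
  have hpar : e = if Even f.natDegree then 1 else 2 := by
    split_ifs with hev
    · obtain ⟨m, hm⟩ := hev
      refine ramIdx_eq_one_of_sq hdeg h2 he (z := y / algebraMap (RatFunc k) K (RatFunc.X ^ m))
        (g := ι f / RatFunc.X ^ (2 * m)) (fun ⟨r, hr⟩ => hyr ⟨r * RatFunc.X ^ m, ?_⟩) ?_ ?_
      · rw [map_mul, hr, div_mul_cancel₀]
        exact (_root_.map_ne_zero _).mpr (pow_ne_zero _ hX0)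
      · rw [div_pow, heq, map_div₀, ← map_pow, ← pow_mul, mul_comm m 2]
      · rw [map_div₀, map_pow, val_eq_exp_neg_ord p (ι_ne_zero hf.ne_zero), val_eq_exp_neg_ord p hX0, hordg f hf.ne_zero,
          hpX, ← exp_nsmul, ← exp_sub, ← exp_zero]
        congr 1
        simp [hm]
        ring
    · obtain ⟨m, hm⟩ := Nat.not_even_iff_odd.mp hev
      rcases Nat.lt_or_ge e 2 with h | h
      · obtain rfl : e = 1 := by omega
        rw [hm] at hordy; push_cast at hordy; omega
      · omega
  set T := φ (algebraMap (RatFunc k) K (RatFunc.X)⁻¹) with hT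
  have hv : Valued.v T = exp (-(e : ℤ)) := by
    rw [hT, hφ.1, he, map_inv₀, val_eq_exp_neg_ord p hX0, hpX, ← exp_neg, ← exp_nsmul]
    simp
  have hDT := valued_D_eq_of_ord hv (natCast_ne_zero h2 hepos he2)
  have hT0 : T ≠ 0 := fun h => by rw [h, map_zero] at hv; exact exp_ne_zero hv.symm
  have hXT : φ xK = T⁻¹ := by rw [hT, ← map_inv₀, ← map_inv₀, inv_inv]
  have hDX : Valued.v (LocRes.D F (φ xK)) = exp ((e : ℤ) + 1) := by
    rw [hXT, Derivation.leibniz_inv, smul_eq_mul, map_mul, Valuation.map_neg, map_pow, map_inv₀, hv, hDT,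
      ← exp_neg, ← exp_nsmul, ← exp_add]
    congr 1
    rw [nsmul_eq_mul]; push_cast; ring
  refine ⟨by rw [hDX]; exact exp_ne_zero, ?_⟩
  rw [hDX, ← exp_add, val_eq_exp_neg_ord P hy0, exp_inj, hPX]
  split_ifs at hpar with hev
  · subst hpar; obtain ⟨m, hm⟩ := hev; omega
  · subst hpar; obtain ⟨m, hm⟩ := Nat.not_even_iff_odd.mp hev; omega

/-- The regular differentials `z dx` are exactly `a(x)/y dx` with `deg a < g`. -/
theorem regular_iff (hK : IsFunctionField k K) (hdeg : Module.finrank (RatFunc k) K = 2) (h2 : ringChar k ≠ 2)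
    (y : K) (f : Polynomial k) (hf : Squarefree f) (hd : 1 ≤ f.natDegree)
    (heq : y ^ 2 = algebraMap (RatFunc k) K (ι f))
    (F : Place k K → Type w) [∀ P, Field (F P)] [∀ P, Algebra k (F P)]
    (φ : ∀ P, K →ₐ[k] (F P)⸨X⸩) (hφ : ∀ P, IsExpansionAt P.1 (φ P)) (z : K) :
    (∀ P, vDiff (φ P) z xK ≤ 1) ↔
      ∃ a : Polynomial k, a.degree < (genus k K : WithBot ℕ) ∧ z = algebraMap (RatFunc k) K (ι a) / y := by
  haveI : FiniteDimensional (RatFunc k) K := Module.finite_of_finrank_pos (by omega)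
  have hxt : Transcendental k xK := fun h =>
    (show Transcendental k (RatFunc.X : RatFunc k) by
      rw [← RatFunc.algebraMap_X]
      exact fun h => Polynomial.transcendental_X k
        ((isAlgebraic_algebraMap_iff (IsFractionRing.injective (Polynomial k) (RatFunc k))).mp h))
      ((isAlgebraic_algebraMap_iff (algebraMap (RatFunc k) K).injective).mp h)
  have hy0 : y ≠ 0 := fun h => by
    rw [h, zero_pow two_ne_zero, eq_comm, map_eq_zero] at heq
    exact ι_ne_zero hf.ne_zero heq
  have hyr : y ∉ Set.range (algebraMap (RatFunc k) K) := fun ⟨r, hr⟩ =>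
    not_square hf hd r ((algebraMap (RatFunc k) K).injective (by rw [map_pow, hr, heq]))
  have hae : ∀ g : Polynomial k, algebraMap (RatFunc k) K (ι g) = aeval xK g := fun g => by
    rw [show ι g = aeval (RatFunc.X : RatFunc k) g by
      rw [← RatFunc.algebraMap_X, aeval_algebraMap_apply, aeval_X_left_apply], aeval_algebraMap_apply]
  have hxy : IntermediateField.adjoin k ({xK, y} : Set K) = ⊤ := by
    have hr : ∀ r : RatFunc k, algebraMap (RatFunc k) K r ∈ IntermediateField.adjoin k ({xK, y} : Set K) := fun r => by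
      rw [← RatFunc.num_div_denom r, map_div₀, hae, hae]
      refine div_mem ?_ ?_ <;>
        exact IntermediateField.algebra_adjoin_le_adjoin k _ (Algebra.adjoin_mono (Set.singleton_subset_iff.mpr
          (Set.mem_insert _ _)) (Polynomial.aeval_mem_adjoin_singleton k xK))
    refine top_unique fun w _ => ?_
    obtain ⟨c, d, rfl⟩ := exists_decomp hdeg hyr w
    exact add_mem (hr c) (mul_mem (hr d) (IntermediateField.subset_adjoin k _ (Set.mem_insert_of_mem _ rfl)))
  have hg : genus k K = (f.natDegree - 1) / 2 :=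
    HyperGenus.genus_eq xK y f hK h2 hxt hxy hf hd (by rw [heq, hae])
  set D : Divisor k K := ((genus k K : ℤ) - 1) • poles (k := k) xK with hD
  have hiff : ∀ w : K, (∀ P, vDiff (φ P) (w / y) xK ≤ 1) ↔ w ∈ L D := by
    intro w
    refine forall_congr' fun P => ?_
    rw [vDiff, map_mul, (hφ P).1, map_div₀, hD, Finsupp.smul_apply, poles_apply hK, smul_eq_mul]
    by_cases hX : P.1 xK ≤ 1
    · obtain ⟨h1, h1'⟩ := val_dX_finite hdeg h2 hf hd heq (hφ P) hX
      rw [h1, div_mul_cancel₀ _ h1',
        max_eq_right (by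
          have := (val_le_one_iff P ((_root_.map_ne_zero (algebraMap (RatFunc k) K)).mpr RatFunc.X_ne_zero)).mp hX
          omega), mul_zero, exp_zero]
    · obtain ⟨hne, h1⟩ := val_dX_infinite hdeg h2 hf hd heq (hφ P) hX
      have hpole : P.ord xK ≤ 0 := by
        by_contra h
        exact hX ((val_le_one_iff P ((_root_.map_ne_zero (algebraMap (RatFunc k) K)).mpr RatFunc.X_ne_zero)).mpr (by omega))
      rw [h1, ← hg, max_eq_left (by omega), div_mul_eq_mul_div, mul_comm (P.1 w), mul_div_mul_left _ _ hne,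
        div_le_one₀ (by exact zero_lt_iff.mpr exp_ne_zero), mul_comm ((genus k K : ℤ) - 1)]
  let Ψ : Polynomial.degreeLT k (genus k K) →ₗ[k] K :=
    (aeval xK).toLinearMap.comp (Polynomial.degreeLT k (genus k K)).subtype
  have hrange : LinearMap.range Ψ ≤ L D := by
    rintro _ ⟨⟨a, ha⟩, rfl⟩
    rcases eq_or_ne a 0 with rfl | ha0
    · exact (map_zero (aeval (R := k) xK)).symm ▸ zero_mem _
    have h1 := (Polynomial.natDegree_lt_iff_degree_lt ha0).mpr (Polynomial.mem_degreeLT.mp ha)
    exact L_mono (fun Q => mul_le_mul_of_nonneg_right (show (a.natDegree : ℤ) ≤ (genus k K : ℤ) - 1 by omega)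
      (poles_nonneg xK Q)) (HyperGenus.aeval_mem_L hK xK (le_refl a.natDegree))
  have hdegD : D.deg = 2 * (genus k K : ℤ) - 2 := by
    rw [hD, deg_zsmul, deg_poles hK hxt,
      finrank_adjoin_map (k := k) (K := RatFunc k) (K' := K) (RatFunc.X : RatFunc k), hdeg]
    have h1 : Module.finrank (IntermediateField.adjoin k ({(RatFunc.X : RatFunc k)} : Set (RatFunc k))) (RatFunc k) = 1 := by
      rw [RatFunc.adjoin_X]; exact IntermediateField.finrank_top
    rw [h1]; push_cast; ring
  have hell : ell D ≤ genus k K := by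
    obtain ⟨C, hC⟩ := exists_isCanonical hK
    have hCd := (ell_canonical hK hC).2
    have hrr := riemann_roch' hK hC D
    have hle : ell (C - D) ≤ 1 := by
      by_contra hgt
      have h0 : (C - D).deg = 0 := by rw [deg_sub, hCd, hdegD]; ring
      obtain ⟨u, hu0, hu⟩ := exists_div_of_ell_pos_deg_zero hK h0 (by omega)
      have h1 := ell_add_div hK (C - D) hu0
      rw [hu, ell, L_zero_eq hK, finrank_span_singleton one_ne_zero] at h1
      omega
    omega
  have hfinD := finiteDimensional_L hK D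
  have hinj : Function.Injective Ψ := fun a b hab => Subtype.ext (transcendental_iff_injective.mp hxt hab)
  have hLD : LinearMap.range Ψ = L D := by
    refine Submodule.eq_of_le_of_finrank_le hrange ?_
    rw [LinearMap.finrank_range_of_inj hinj, (Polynomial.degreeLTEquiv k _).finrank_eq, Module.finrank_fin_fun]
    exact hell
  constructor
  · intro h
    obtain ⟨⟨a, ha⟩, haz⟩ : z * y ∈ LinearMap.range Ψ := by
      rw [hLD, ← hiff]; simpa [mul_div_assoc, div_self hy0] using h
    exact ⟨a, Polynomial.mem_degreeLT.mp ha, by rw [hae, eq_div_iff hy0]; exact haz.symm⟩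
  · rintro ⟨a, ha, rfl⟩
    rw [hiff, hae, ← hLD]
    exact ⟨⟨a, Polynomial.mem_degreeLT.mpr ha⟩, rfl⟩

end Groth.Agent.CommAlg4.HyperDiff
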