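import Groth.Prelude.Def_RDerDelta
import Mathlib.Algebra.Homology.HomologySequenceLemmas

/-!
# Injective horseshoe lemma and independence of the connecting morphism
-/

set_option autoImplicit false
set_option linter.all false
set_option backward.isDefEq.respectTransparency false
set_option backward.isDefEq.respectTransparency.types false
set_option backward.defeqAttrib.useBackward true

universe v u v' u'

open CategoryTheory CategoryTheory.Limits

namespace Groth.Agent.CommAlg4.InjHorseshoe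

variable {C : Type u} [Category.{v} C] [Abelian C]

theorem ι_exact {Z : C} (I : InjectiveResolution Z) :
    (ShortComplex.mk (I.ι.f 0) (I.cocomplex.d 0 1) I.ι_f_zero_comp_complex_d).Exact :=
  ShortComplex.exact_of_f_is_kernel _ I.isLimitKernelFork

section Exists

variable {S : ShortComplex C} (I₁ : InjectiveResolution S.X₁) (I₃ : InjectiveResolution S.X₃)

/-- twisting maps -/
structure Twist where
  h : S.X₂ ⟶ I₁.cocomplex.X 0
  s : ∀ n, I₃.cocomplex.X n ⟶ I₁.cocomplex.X (n + 1)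
  f_h : S.f ≫ h = I₁.ι.f 0
  s_zero : S.g ≫ I₃.ι.f 0 ≫ s 0 = -(h ≫ I₁.cocomplex.d 0 1)
  s_succ : ∀ n, I₃.cocomplex.d n (n + 1) ≫ s (n + 1) = -(s n ≫ I₁.cocomplex.d (n + 1) (n + 2))

theorem nonempty_twist (hS : S.ShortExact) : Nonempty (Twist I₁ I₃) := by
  haveI := hS.mono_f
  haveI := hS.epi_g
  haveI : Injective (I₁.cocomplex.X 0) := I₁.injective 0
  haveI : ∀ n, Injective (I₁.cocomplex.X n) := I₁.injective
  let h : S.X₂ ⟶ I₁.cocomplex.X 0 := Injective.factorThru (I₁.ι.f 0) S.f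
  have hh : S.f ≫ h = I₁.ι.f 0 := Injective.comp_factorThru _ _
  have c0 : S.f ≫ (-(h ≫ I₁.cocomplex.d 0 1)) = 0 := by
    rw [Preadditive.comp_neg, ← Category.assoc, hh, I₁.ι_f_zero_comp_complex_d, neg_zero]
  let t := hS.exact.descToInjective _ c0
  have ht : S.g ≫ t = -(h ≫ I₁.cocomplex.d 0 1) := hS.exact.comp_descToInjective _ _
  let s0 : I₃.cocomplex.X 0 ⟶ I₁.cocomplex.X 1 := Injective.factorThru t (I₃.ι.f 0)
  have hs0 : S.g ≫ I₃.ι.f 0 ≫ s0 = -(h ≫ I₁.cocomplex.d 0 1) := by rw [Injective.comp_factorThru, ht]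
  have c1 : I₃.ι.f 0 ≫ (-(s0 ≫ I₁.cocomplex.d 1 2)) = 0 := by
    rw [← cancel_epi S.g, comp_zero, Preadditive.comp_neg, Preadditive.comp_neg, ← Category.assoc (I₃.ι.f 0),
      ← Category.assoc, hs0, Preadditive.neg_comp, Category.assoc, I₁.complex_d_comp, comp_zero, neg_zero, neg_zero]
  let s1 := (ι_exact I₃).descToInjective _ c1
  have hs1 : I₃.cocomplex.d 0 1 ≫ s1 = -(s0 ≫ I₁.cocomplex.d 1 2) := (ι_exact I₃).comp_descToInjective _ _
  let T : ℕ → Type v := fun n =>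
    { p : (I₃.cocomplex.X n ⟶ I₁.cocomplex.X (n + 1)) × (I₃.cocomplex.X (n + 1) ⟶ I₁.cocomplex.X (n + 2)) //
      I₃.cocomplex.d n (n + 1) ≫ p.2 = -(p.1 ≫ I₁.cocomplex.d (n + 1) (n + 2)) }
  have step : ∀ n (p : T n), ∃ q : T (n + 1), q.1.1 = p.1.2 := by
    rintro n ⟨⟨a, b⟩, hab⟩
    have c : I₃.cocomplex.d n (n + 1) ≫ (-(b ≫ I₁.cocomplex.d (n + 2) (n + 3))) = 0 := by
      rw [Preadditive.comp_neg, ← Category.assoc, hab]; simp
    exact ⟨⟨⟨b, (I₃.exact_succ n).descToInjective _ c⟩, (I₃.exact_succ n).comp_descToInjective _ c⟩, rfl⟩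
  choose next hnext using step
  let seq : ∀ n, T n := fun n => Nat.rec (motive := T) ⟨⟨s0, s1⟩, hs1⟩ next n
  refine ⟨⟨h, fun n => (seq n).1.1, hh, hs0, fun n => ?_⟩⟩
  have hn : (seq (n + 1)).1.1 = (seq n).1.2 := hnext n (seq n)
  show _ ≫ (seq (n + 1)).1.1 = _
  rw [hn]
  exact (seq n).2

variable {I₁ I₃} (T : Twist I₁ I₃)

/-- the horseshoe differential -/
noncomputable def d (n : ℕ) :
    I₁.cocomplex.X n ⊞ I₃.cocomplex.X n ⟶ I₁.cocomplex.X (n + 1) ⊞ I₃.cocomplex.X (n + 1) :=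
  biprod.lift (biprod.fst ≫ I₁.cocomplex.d n (n + 1) + biprod.snd ≫ T.s n)
    (biprod.snd ≫ I₃.cocomplex.d n (n + 1))

theorem d_comp (n : ℕ) : d T n ≫ d T (n + 1) = 0 := by
  apply biprod.hom_ext <;>
    simp [d, Preadditive.comp_add, Preadditive.add_comp, T.s_succ]

/-- the horseshoe complex -/
noncomputable def cx : CochainComplex C ℕ :=
  CochainComplex.of (fun n => I₁.cocomplex.X n ⊞ I₃.cocomplex.X n) (d T) (d_comp T)

theorem cx_d (n : ℕ) : (cx T).d n (n + 1) = d T n := by simp [cx]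

/-- coaugmentation -/
noncomputable def ι₀ : S.X₂ ⟶ I₁.cocomplex.X 0 ⊞ I₃.cocomplex.X 0 :=
  biprod.lift T.h (S.g ≫ I₃.ι.f 0)

theorem ι₀_d : ι₀ T ≫ (cx T).d 0 1 = 0 := by
  rw [cx_d]
  apply biprod.hom_ext
  · simp [d, ι₀, Preadditive.comp_add, T.s_zero]
  · simp [d, ι₀, I₃.ι_f_zero_comp_complex_d]

/-- inclusion -/
noncomputable def incl : I₁.cocomplex ⟶ cx T where
  f n := biprod.inl
  comm' i j (hij : i + 1 = j) := by
    subst hij
    rw [cx_d]
    apply biprod.hom_ext <;> simp [d, Preadditive.comp_add]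

/-- projection -/
noncomputable def proj : cx T ⟶ I₃.cocomplex where
  f n := biprod.snd
  comm' i j (hij : i + 1 = j) := by
    subst hij
    rw [cx_d]
    simp [d]

/-- the short complex of resolutions -/
noncomputable def sc : ShortComplex (CochainComplex C ℕ) :=
  ShortComplex.mk (incl T) (proj T) (by ext n : 1; exact biprod.inl_snd)

theorem sc_shortExact : (sc T).ShortExact :=
  HomologicalComplex.shortExact_of_degreewise_shortExact _ fun n =>
    ShortComplex.Splitting.shortExact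
      ({ r := biprod.fst, s := biprod.inr, f_r := biprod.inl_fst, s_g := biprod.inr_snd, id := biprod.total } :
        ((sc T).map (HomologicalComplex.eval C (ComplexShape.up ℕ) n)).Splitting)

theorem exact_and_mono (hS : S.ShortExact) :
    (ShortComplex.mk _ _ (ι₀_d T)).Exact ∧ Mono (ι₀ T) := by
  haveI := hS.mono_f
  haveI := hS.epi_g
  refine ⟨?_, Preadditive.mono_of_cancel_zero _ fun {P} x hx => ?_⟩
  · rw [ShortComplex.exact_iff_exact_up_to_refinements]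
    intro A z hz
    change A ⟶ I₁.cocomplex.X 0 ⊞ I₃.cocomplex.X 0 at z
    change z ≫ (cx T).d 0 1 = 0 at hz
    rw [cx_d] at hz
    have h3 : (z ≫ biprod.snd) ≫ I₃.cocomplex.d 0 1 = 0 := by
      simpa [d] using congrArg (· ≫ (biprod.snd : _ ⟶ I₃.cocomplex.X 1)) hz
    haveI : Mono (I₃.ι.f 0) := inferInstance
    let x3 := (ι_exact I₃).lift _ h3
    have hx3 : x3 ≫ I₃.ι.f 0 = z ≫ biprod.snd := (ι_exact I₃).lift_f _ _
    obtain ⟨A', π, hπ, x2, hx2⟩ := surjective_up_to_refinements_of_epi S.g x3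
    change π ≫ x3 = x2 ≫ S.g at hx2
    let w := π ≫ z ≫ biprod.fst - x2 ≫ T.h
    have hw : w ≫ I₁.cocomplex.d 0 1 = 0 := by
      have h1 : (z ≫ biprod.fst) ≫ I₁.cocomplex.d 0 1 + (z ≫ biprod.snd) ≫ T.s 0 = 0 := by
        simpa [d, Preadditive.comp_add] using congrArg (· ≫ (biprod.fst : _ ⟶ I₁.cocomplex.X 1)) hz
      have h2 : x2 ≫ T.h ≫ I₁.cocomplex.d 0 1 = -(π ≫ (z ≫ biprod.snd) ≫ T.s 0) := by
        rw [← hx3, Category.assoc x3, ← Category.assoc π, hx2, Category.assoc x2, T.s_zero, Preadditive.comp_neg, neg_neg]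
      simp only [w, Preadditive.sub_comp, Category.assoc, h2, sub_neg_eq_add]
      rw [← Preadditive.comp_add]
      simp only [Category.assoc] at h1
      rw [h1, comp_zero]
    let x1 := (ι_exact I₁).lift _ hw
    have hx1 : x1 ≫ I₁.ι.f 0 = w := (ι_exact I₁).lift_f _ _
    refine ⟨A', π, hπ, x2 + x1 ≫ S.f, ?_⟩
    show π ≫ z = (x2 + x1 ≫ S.f) ≫ ι₀ T
    apply biprod.hom_ext
    · simp [ι₀, Preadditive.add_comp, T.f_h, hx1, w]
    · simp [ι₀, Preadditive.add_comp, ← hx3, reassoc_of% hx2]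
  · have e1 : x ≫ T.h = 0 := by simpa [ι₀] using congrArg (· ≫ (biprod.fst : _ ⟶ I₁.cocomplex.X 0)) hx
    have e2 : x ≫ S.g ≫ I₃.ι.f 0 = 0 := by simpa [ι₀] using congrArg (· ≫ (biprod.snd : _ ⟶ I₃.cocomplex.X 0)) hx
    have e3 : x ≫ S.g = 0 := by rw [← cancel_mono (I₃.ι.f 0), Category.assoc, e2, zero_comp]
    let x1 := hS.exact.lift _ e3
    have hx1 : x1 ≫ S.f = x := hS.exact.lift_f _ _
    have : x1 = 0 := by rw [← cancel_mono (I₁.ι.f 0), ← T.f_h, reassoc_of% hx1, e1, zero_comp]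
    rw [← hx1, this, zero_comp]

/-- the horseshoe resolution -/
noncomputable def res (hS : S.ShortExact) : InjectiveResolution S.X₂ where
  cocomplex := cx T
  ι := (CochainComplex.fromSingle₀Equiv _ _).symm ⟨ι₀ T, ι₀_d T⟩
  injective n := by
    haveI := I₁.injective n
    haveI := I₃.injective n
    exact inferInstanceAs (Injective (I₁.cocomplex.X n ⊞ I₃.cocomplex.X n))
  quasiIso := ⟨fun n => by
    cases n
    · rw [CochainComplex.quasiIsoAt₀_iff, ShortComplex.quasiIso_iff_of_zeros]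
      · refine (ShortComplex.exact_and_mono_f_iff_of_iso ?_).2 (exact_and_mono T hS)
        exact ShortComplex.isoMk (Iso.refl _) (Iso.refl _) (Iso.refl _) (by simp) (by simp)
      all_goals rfl
    · rw [quasiIsoAt_iff_exactAt]
      · exact (sc_shortExact T).exactAt_X₂ _ (I₁.cocomplex_exactAt_succ _) (I₃.cocomplex_exactAt_succ _)
      · apply CochainComplex.exactAt_succ_single_obj⟩

theorem nonempty_sesRes [HasInjectiveResolutions C] (hS : S.ShortExact) : Nonempty (RDer.SESRes S) := by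
  obtain ⟨I₁⟩ := (HasInjectiveResolution.out : Nonempty (InjectiveResolution S.X₁))
  obtain ⟨I₃⟩ := (HasInjectiveResolution.out : Nonempty (InjectiveResolution S.X₃))
  obtain ⟨T⟩ := nonempty_twist I₁ I₃ hS
  refine ⟨⟨I₁, res T hS, I₃, incl T, proj T, (sc T).zero, ?_, ?_, sc_shortExact T⟩⟩
  · apply HomologicalComplex.from_single_hom_ext
    apply biprod.hom_ext <;> simp [res, incl, ι₀, T.f_h]
  · apply HomologicalComplex.from_single_hom_ext
    simp [res, proj, ι₀]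

end Exists

section Compare

variable {S S' : ShortComplex C} (T : RDer.SESRes S)

theorem ι_f₀ : T.I₁.ι.f 0 ≫ T.f.f 0 = S.f ≫ T.I₂.ι.f 0 := by
  simpa using HomologicalComplex.congr_hom T.ι_f 0

theorem ι_g₀ : T.I₂.ι.f 0 ≫ T.g.f 0 = S.g ≫ T.I₃.ι.f 0 := by
  simpa using HomologicalComplex.congr_hom T.ι_g 0

theorem mono_f (n : ℕ) : Mono (T.f.f n) :=
  (T.shortExact.map_of_exact (HomologicalComplex.eval C (ComplexShape.up ℕ) n)).mono_f

theorem epi_g (n : ℕ) : Epi (T.g.f n) :=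
  (T.shortExact.map_of_exact (HomologicalComplex.eval C (ComplexShape.up ℕ) n)).epi_g

theorem fg_zero (n : ℕ) : T.f.f n ≫ T.g.f n = 0 := by
  simpa using HomologicalComplex.congr_hom T.zero n

theorem exists_lift {A : C} {n : ℕ} (w : A ⟶ T.I₂.cocomplex.X n) (hw : w ≫ T.g.f n = 0) :
    ∃ z : A ⟶ T.I₁.cocomplex.X n, z ≫ T.f.f n = w :=
  have h := T.shortExact.map_of_exact (HomologicalComplex.eval C (ComplexShape.up ℕ) n)
  haveI := h.mono_f
  ⟨h.exact.lift w hw, h.exact.lift_f w hw⟩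

theorem short_exact (T : RDer.SESRes S) : S.Exact ∧ Epi S.g := by
  haveI := mono_f T
  constructor
  · rw [ShortComplex.exact_iff_exact_up_to_refinements]
    intro A x hx
    obtain ⟨z, hz⟩ := exists_lift T (x ≫ T.I₂.ι.f 0) (by rw [Category.assoc, ι_g₀, reassoc_of% hx, zero_comp])
    have hzd : z ≫ T.I₁.cocomplex.d 0 1 = 0 := by
      rw [← cancel_mono (T.f.f 1), zero_comp, Category.assoc, ← T.f.comm, reassoc_of% hz, T.I₂.ι_f_zero_comp_complex_d, comp_zero]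
    refine ⟨A, 𝟙 A, inferInstance, (ι_exact T.I₁).lift z hzd, ?_⟩
    have h := (ι_exact T.I₁).lift_f z hzd
    rw [← cancel_mono (T.I₂.ι.f 0), Category.id_comp, Category.assoc, ← ι_f₀, reassoc_of% h, hz]
  · rw [epi_iff_surjective_up_to_refinements]
    intro A x
    haveI := epi_g T 0
    obtain ⟨A', π, hπ, y, hy⟩ := surjective_up_to_refinements_of_epi (T.g.f 0) (x ≫ T.I₃.ι.f 0)
    obtain ⟨z, hz⟩ := exists_lift T (y ≫ T.I₂.cocomplex.d 0 1) (by
      rw [Category.assoc, ← T.g.comm, ← reassoc_of% hy, T.I₃.ι_f_zero_comp_complex_d, comp_zero, comp_zero])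
    have hzd : z ≫ T.I₁.cocomplex.d 1 2 = 0 := by
      rw [← cancel_mono (T.f.f 2), zero_comp, Category.assoc, ← T.f.comm, reassoc_of% hz, T.I₂.complex_d_comp, comp_zero]
    obtain ⟨A'', π', hπ', u, hu⟩ := (T.I₁.exact_succ 0).exact_up_to_refinements z hzd
    change A'' ⟶ T.I₁.cocomplex.X 0 at u
    change π' ≫ z = u ≫ T.I₁.cocomplex.d 0 1 at hu
    have hyd : (π' ≫ y - u ≫ T.f.f 0) ≫ T.I₂.cocomplex.d 0 1 = 0 := by
      rw [Preadditive.sub_comp, Category.assoc, Category.assoc, ← hz, T.f.comm, reassoc_of% hu, sub_self]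
    refine ⟨A'', π' ≫ π, inferInstance, (ι_exact T.I₂).lift _ hyd, ?_⟩
    have h := (ι_exact T.I₂).lift_f _ hyd
    rw [← cancel_mono (T.I₃.ι.f 0), Category.assoc, Category.assoc, hy, Category.assoc, ← ι_g₀, reassoc_of% h,
      Preadditive.sub_comp, Category.assoc, Category.assoc, fg_zero, comp_zero, sub_zero]

theorem split_id (n : ℕ) : ∃ (r : T.I₂.cocomplex.X n ⟶ T.I₁.cocomplex.X n) (s : T.I₃.cocomplex.X n ⟶ T.I₂.cocomplex.X n),
    T.f.f n ≫ r = 𝟙 _ ∧ s ≫ T.g.f n = 𝟙 _ ∧ r ≫ T.f.f n + T.g.f n ≫ s = 𝟙 _ :=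
  ⟨(T.splitting n).r, (T.splitting n).s, (T.splitting n).f_r, (T.splitting n).s_g, (T.splitting n).id⟩

variable (T' : RDer.SESRes S') (φ : S ⟶ S')

theorem exists_hom (a : T.I₁.cocomplex ⟶ T'.I₁.cocomplex) (ha : T.I₁.ι.f 0 ≫ a.f 0 = φ.τ₁ ≫ T'.I₁.ι.f 0)
    (c : T.I₃.cocomplex ⟶ T'.I₃.cocomplex) (hc : T.I₃.ι.f 0 ≫ c.f 0 = φ.τ₃ ≫ T'.I₃.ι.f 0) :
    ∃ b : T.I₂.cocomplex ⟶ T'.I₂.cocomplex, a ≫ T'.f = T.f ≫ b ∧ T.g ≫ c = b ≫ T'.g := by
  obtain ⟨hex, hepi⟩ := short_exact T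
  haveI := hepi
  haveI : ∀ n, Injective (T'.I₁.cocomplex.X n) := T'.I₁.injective
  haveI := mono_f T'
  haveI := epi_g T
  choose r s hr hs hid using split_id T
  choose r' s' hr' hs' hid' using split_id T'
  let b₀ : ∀ n, T.I₂.cocomplex.X n ⟶ T'.I₂.cocomplex.X n := fun n =>
    r n ≫ a.f n ≫ T'.f.f n + T.g.f n ≫ c.f n ≫ s' n
  have hfb : ∀ n, T.f.f n ≫ b₀ n = a.f n ≫ T'.f.f n := fun n => by
    simp [b₀, Preadditive.comp_add, reassoc_of% (hr n), reassoc_of% (fg_zero T n)]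
  have hbg : ∀ n, b₀ n ≫ T'.g.f n = T.g.f n ≫ c.f n := fun n => by
    simp [b₀, Preadditive.add_comp, fg_zero T' n, hs' n]
  -- a map killed on both sides factors through the outer terms
  have hfac : ∀ (m n : ℕ) (e : T.I₂.cocomplex.X m ⟶ T'.I₂.cocomplex.X n), T.f.f m ≫ e = 0 → e ≫ T'.g.f n = 0 →
      T.g.f m ≫ (s m ≫ e ≫ r' n) ≫ T'.f.f n = e := fun m n e h1 h2 => by
    calc T.g.f m ≫ (s m ≫ e ≫ r' n) ≫ T'.f.f n
        = (r m ≫ T.f.f m + T.g.f m ≫ s m) ≫ e ≫ (r' n ≫ T'.f.f n + T'.g.f n ≫ s' n) := by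
          simp [Preadditive.add_comp, Preadditive.comp_add, reassoc_of% h1, reassoc_of% h2]
      _ = e := by rw [hid, hid', Category.id_comp, Category.comp_id]
  let e : ∀ n, T.I₂.cocomplex.X n ⟶ T'.I₂.cocomplex.X (n + 1) := fun n =>
    b₀ n ≫ T'.I₂.cocomplex.d n (n + 1) - T.I₂.cocomplex.d n (n + 1) ≫ b₀ (n + 1)
  have he1 : ∀ n, T.f.f n ≫ e n = 0 := fun n => by
    simp only [e, Preadditive.comp_sub, reassoc_of% (hfb n), ← Category.assoc (T.f.f n) (T.I₂.cocomplex.d n (n + 1))]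
    rw [T.f.comm, Category.assoc, hfb, ← a.comm_assoc, T'.f.comm, sub_self]
  have he2 : ∀ n, e n ≫ T'.g.f (n + 1) = 0 := fun n => by
    simp only [e, Preadditive.sub_comp, Category.assoc, hbg]
    rw [← T'.g.comm, reassoc_of% (hbg n), ← T.g.comm_assoc, c.comm, sub_self]
  let E : ∀ n, T.I₃.cocomplex.X n ⟶ T'.I₁.cocomplex.X (n + 1) := fun n => s n ≫ e n ≫ r' (n + 1)
  have hE : ∀ n, T.g.f n ≫ E n ≫ T'.f.f (n + 1) = e n := fun n => hfac _ _ _ (he1 n) (he2 n)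
  have hEd : ∀ n, T.I₃.cocomplex.d n (n + 1) ≫ E (n + 1) = -(E n ≫ T'.I₁.cocomplex.d (n + 1) (n + 2)) := fun n => by
    rw [← cancel_epi (T.g.f n), ← cancel_mono (T'.f.f (n + 2)), Preadditive.comp_neg, Preadditive.neg_comp]
    simp only [Category.assoc]
    rw [T.g.comm_assoc, hE, ← T'.f.comm, reassoc_of% (hE n)]
    simp [e, Preadditive.comp_sub, Preadditive.sub_comp]
  -- degree zero
  let ε : S.X₂ ⟶ T'.I₂.cocomplex.X 0 := (T.I₂.ι.f 0 ≫ b₀ 0 : S.X₂ ⟶ T'.I₂.cocomplex.X 0) - φ.τ₂ ≫ T'.I₂.ι.f 0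
  have hε1 : S.f ≫ ε = 0 := by
    simp only [ε, Preadditive.comp_sub]
    rw [← reassoc_of% (ι_f₀ T), hfb, reassoc_of% ha, ι_f₀, φ.comm₁₂_assoc, sub_self]
  have hε2 : ε ≫ T'.g.f 0 = 0 := by
    simp only [ε, Preadditive.sub_comp, Category.assoc]
    rw [hbg, reassoc_of% (ι_g₀ T), hc, ι_g₀, φ.comm₂₃_assoc, sub_self]
  obtain ⟨h, hh⟩ := exists_lift T' ε hε2
  have hh1 : S.f ≫ h = 0 := by rw [← cancel_mono (T'.f.f 0), Category.assoc, hh, hε1, zero_comp]
  let u0 : T.I₃.cocomplex.X 0 ⟶ T'.I₁.cocomplex.X 0 := -Injective.factorThru (hex.descToInjective h hh1) (T.I₃.ι.f 0)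
  have hu0 : S.g ≫ T.I₃.ι.f 0 ≫ u0 = -h := by
    simp [u0]
  have c1 : T.I₃.ι.f 0 ≫ (E 0 + u0 ≫ T'.I₁.cocomplex.d 0 1) = 0 := by
    rw [← cancel_epi S.g, ← cancel_mono (T'.f.f 1), comp_zero, zero_comp]
    simp only [Preadditive.comp_add, Preadditive.add_comp, Category.assoc]
    rw [← reassoc_of% (ι_g₀ T), hE, ← T'.f.comm, reassoc_of% hu0, Preadditive.neg_comp, reassoc_of% hh]
    simp [e, ε, Preadditive.comp_sub, Preadditive.sub_comp, T'.I₂.ι_f_zero_comp_complex_d,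
      reassoc_of% T.I₂.ι_f_zero_comp_complex_d]
  let u1 := (ι_exact T.I₃).descToInjective _ c1
  have hu1 : T.I₃.cocomplex.d 0 1 ≫ u1 = E 0 + u0 ≫ T'.I₁.cocomplex.d 0 1 := (ι_exact T.I₃).comp_descToInjective _ _
  let U : ℕ → Type v := fun n =>
    { p : (T.I₃.cocomplex.X n ⟶ T'.I₁.cocomplex.X n) × (T.I₃.cocomplex.X (n + 1) ⟶ T'.I₁.cocomplex.X (n + 1)) //
      T.I₃.cocomplex.d n (n + 1) ≫ p.2 = E n + p.1 ≫ T'.I₁.cocomplex.d n (n + 1) }
  have step : ∀ n (p : U n), ∃ q : U (n + 1), q.1.1 = p.1.2 := by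
    rintro n ⟨⟨x, y⟩, hxy⟩
    have c2 : T.I₃.cocomplex.d n (n + 1) ≫ (E (n + 1) + y ≫ T'.I₁.cocomplex.d (n + 1) (n + 2)) = 0 := by
      rw [Preadditive.comp_add, hEd, reassoc_of% hxy]
      simp
    exact ⟨⟨⟨y, (T.I₃.exact_succ n).descToInjective _ c2⟩, (T.I₃.exact_succ n).comp_descToInjective _ c2⟩, rfl⟩
  choose next hnext using step
  let seq : ∀ n, U n := fun n => Nat.rec (motive := U) ⟨⟨u0, u1⟩, hu1⟩ next n
  let u := fun n => (seq n).1.1
  have hu : ∀ n, T.I₃.cocomplex.d n (n + 1) ≫ u (n + 1) = E n + u n ≫ T'.I₁.cocomplex.d n (n + 1) := fun n => by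
    have hn : (seq (n + 1)).1.1 = (seq n).1.2 := hnext n (seq n)
    show _ ≫ (seq (n + 1)).1.1 = _
    rw [hn]
    exact (seq n).2
  refine ⟨{ f := fun n => b₀ n + T.g.f n ≫ u n ≫ T'.f.f n, comm' := fun i j (hij : i + 1 = j) => ?_ }, ?_, ?_⟩
  · subst hij
    simp only [Preadditive.add_comp, Preadditive.comp_add, Category.assoc]
    rw [← T.g.comm_assoc, reassoc_of% (hu i), T'.f.comm]
    simp only [Preadditive.add_comp, Preadditive.comp_add, Category.assoc]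
    rw [hE]
    simp only [e]
    abel
  · ext n
    simp [Preadditive.comp_add, hfb, reassoc_of% (fg_zero T n)]
  · ext n
    simp [Preadditive.add_comp, hbg, fg_zero T' n]

variable [HasInjectiveResolutions C] {D : Type u'} [Category.{v'} D] [Abelian D] (F : C ⥤ D) [F.Additive]

theorem delta_natural (n₀ n₁ : ℕ) (h : n₀ + 1 = n₁) :
    (F.rightDerived n₀).map φ.τ₃ ≫ T'.delta F n₀ n₁ h = T.delta F n₀ n₁ h ≫ (F.rightDerived n₁).map φ.τ₁ := by
  have ha0 : T.I₁.ι.f 0 ≫ (InjectiveResolution.desc φ.τ₁ T'.I₁ T.I₁).f 0 = φ.τ₁ ≫ T'.I₁.ι.f 0 := by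
    simpa using HomologicalComplex.congr_hom (InjectiveResolution.desc_commutes φ.τ₁ T'.I₁ T.I₁) 0
  have hc0 : T.I₃.ι.f 0 ≫ (InjectiveResolution.desc φ.τ₃ T'.I₃ T.I₃).f 0 = φ.τ₃ ≫ T'.I₃.ι.f 0 := by
    simpa using HomologicalComplex.congr_hom (InjectiveResolution.desc_commutes φ.τ₃ T'.I₃ T.I₃) 0
  obtain ⟨b, hb1, hb2⟩ := exists_hom T T' φ _ ha0 _ hc0
  let M := F.mapHomologicalComplex (ComplexShape.up ℕ)
  let ψ : T.cx ⟶ T'.cx := ShortComplex.homMk _ b _ hb1 hb2.symm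
  let Ψ : T.cx.map M ⟶ T'.cx.map M := M.mapShortComplex.map ψ
  have key := HomologicalComplex.HomologySequence.δ_naturality Ψ (T.map_shortExact F) (T'.map_shortExact F) n₀ n₁ h
  have n3 := InjectiveResolution.isoRightDerivedObj_hom_naturality φ.τ₃ T.I₃ T'.I₃ _ hc0 F n₀
  have n1 := InjectiveResolution.isoRightDerivedObj_inv_naturality φ.τ₁ T.I₁ T'.I₁ _ ha0 F n₁
  simp only [RDer.SESRes.delta, Category.assoc]
  rw [reassoc_of% n3, n1]
  exact congrArg (fun z => _ ≫ z) ((reassoc_of% key) _).symm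

theorem delta_eq (T₂ : RDer.SESRes S) (n₀ n₁ : ℕ) (h : n₀ + 1 = n₁) : T.delta F n₀ n₁ h = T₂.delta F n₀ n₁ h := by
  simpa using (delta_natural T T₂ (𝟙 S) F n₀ n₁ h).symm

theorem nonempty_derivedLES : Nonempty (RDer.DerivedLES F) := by
  let R : ∀ (S : ShortComplex C), S.ShortExact → RDer.SESRes S := fun S hS => (nonempty_sesRes hS).some
  have n2 : ∀ {S : ShortComplex C} (T : RDer.SESRes S) (n : ℕ),
      (F.rightDerived n).map S.f ≫ (T.I₂.isoRightDerivedObj F n).hom =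
        (T.I₁.isoRightDerivedObj F n).hom ≫ HomologicalComplex.homologyMap ((F.mapHomologicalComplex _).map T.f) n ∧
      (F.rightDerived n).map S.g ≫ (T.I₃.isoRightDerivedObj F n).hom =
        (T.I₂.isoRightDerivedObj F n).hom ≫ HomologicalComplex.homologyMap ((F.mapHomologicalComplex _).map T.g) n :=
    fun T n => ⟨InjectiveResolution.isoRightDerivedObj_hom_naturality _ T.I₁ T.I₂ T.f (ι_f₀ T) F n,
      InjectiveResolution.isoRightDerivedObj_hom_naturality _ T.I₂ T.I₃ T.g (ι_g₀ T) F n⟩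
  refine ⟨
    { δ := fun S hS n₀ n₁ h => (R S hS).delta F n₀ n₁ h
      δ_eq := fun S hS T n₀ n₁ h => delta_eq _ F T n₀ n₁ h
      δ_natural := fun hS hS' φ n₀ n₁ h => delta_natural (R _ hS) (R _ hS') φ F n₀ n₁ h
      exact₂ := fun S hS n => ?_
      comp_δ := fun S hS n₀ n₁ h => ?_
      exact₃ := fun S hS n₀ n₁ h => ?_
      δ_comp := fun S hS n₀ n₁ h => ?_
      exact₁ := fun S hS n₀ n₁ h => ?_ }⟩
  · exact ShortComplex.exact_of_iso (ShortComplex.isoMk ((R S hS).I₁.isoRightDerivedObj F n).symm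
      ((R S hS).I₂.isoRightDerivedObj F n).symm ((R S hS).I₃.isoRightDerivedObj F n).symm
      (by rw [← cancel_mono ((R S hS).I₂.isoRightDerivedObj F n).hom]; simp [(n2 (R S hS) n).1])
      (by rw [← cancel_mono ((R S hS).I₃.isoRightDerivedObj F n).hom]; simp [(n2 (R S hS) n).2]))
      (((R S hS).map_shortExact F).homology_exact₂ n)
  · simp only [RDer.SESRes.delta, reassoc_of% (n2 (R S hS) n₀).2]
    erw [reassoc_of% (((R S hS).map_shortExact F).comp_δ n₀ n₁ h)]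
    simp
  · exact ShortComplex.exact_of_iso (ShortComplex.isoMk ((R S hS).I₂.isoRightDerivedObj F n₀).symm
      ((R S hS).I₃.isoRightDerivedObj F n₀).symm ((R S hS).I₁.isoRightDerivedObj F n₁).symm
      (by rw [← cancel_mono ((R S hS).I₃.isoRightDerivedObj F n₀).hom]; simp [(n2 (R S hS) n₀).2])
      (by simp [RDer.SESRes.delta])) (((R S hS).map_shortExact F).homology_exact₃ n₀ n₁ h)
  · rw [← cancel_mono ((R S hS).I₂.isoRightDerivedObj F n₁).hom]
    simp only [RDer.SESRes.delta, Category.assoc, (n2 (R S hS) n₁).1, Iso.inv_hom_id_assoc, zero_comp]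
    erw [((R S hS).map_shortExact F).δ_comp n₀ n₁ h]
    simp
  · exact ShortComplex.exact_of_iso (ShortComplex.isoMk ((R S hS).I₃.isoRightDerivedObj F n₀).symm
      ((R S hS).I₁.isoRightDerivedObj F n₁).symm ((R S hS).I₂.isoRightDerivedObj F n₁).symm
      (by simp [RDer.SESRes.delta])
      (by rw [← cancel_mono ((R S hS).I₂.isoRightDerivedObj F n₁).hom]; simp [(n2 (R S hS) n₁).1]))
      (((R S hS).map_shortExact F).homology_exact₁ n₀ n₁ h)

end Compare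

end Groth.Agent.CommAlg4.InjHorseshoe
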