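import Groth.Agent.IsoTriv.Local
import Groth.Agent.IsoTriv.FieldSplit
import Groth.Agent.IsoTriv.ConnSplit
import Groth.Agent.IsoTriv.Nilpotent
import Groth.Agent.IsoTriv.MultBasic
import Mathlib.RingTheory.Smooth.IntegralClosure
import Mathlib.RingTheory.IntegralClosure.IntegrallyClosed
import Mathlib.RingTheory.LocalProperties.Exactness
import Mathlib.RingTheory.Unramified.Field

/-!
Groups of multiplicative type and of finite type over a normal domain are isotrivial.

The splitting algebra is the compositum, inside a finite extension splitting the generic fibre, of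
the images of all points of the duals of the torsion subgroups; it is finite etale because an
integrally closed domain has only integral idempotents in the generic fibre of a finite etale algebra.
-/

set_option autoImplicit false

universe u

open TensorProduct Coalgebra

namespace Groth.Agent.CommAlg4.IsoNormal

open Groth.Agent.IsoTriv Groth.Agent.SGA3bLib

section Points

variable {X : Type u} [CommRing X] [IsDomain X] [IsIntegrallyClosed X]
  {D : Type u} [CommRing D] [Algebra X D] [Algebra.Smooth X D]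

/-- An element of the generic fibre of a smooth algebra over a normal domain, integral over the algebra,
comes from the algebra. -/
theorem exists_eq_of_isIntegral (L : Type u) [Field L] [Algebra X L] [IsFractionRing X L]
    {z : D ⊗[X] L} (hz : IsIntegral D z) : ∃ d : D, d ⊗ₜ[X] (1 : L) = z := by
  obtain ⟨w, hw⟩ := (TensorProduct.toIntegralClosure_bijective_of_smooth (R := X) (S := D) (B := L)).2 ⟨z, hz⟩
  have hw' := congrArg Subtype.val hw
  rw [show z = Algebra.TensorProduct.map (AlgHom.id D D) (integralClosure X L).val w from hw'.symm]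
  clear hw hw'
  induction w using TensorProduct.induction_on with
  | zero => exact ⟨0, by simp⟩
  | add p q hp hq =>
    obtain ⟨a, ha⟩ := hp
    obtain ⟨b, hb⟩ := hq
    exact ⟨a + b, by rw [map_add, add_tmul, ha, hb]⟩
  | tmul d y =>
    obtain ⟨y, hy⟩ := y
    obtain ⟨x, rfl⟩ := (isIntegrallyClosed_iff L).mp ‹IsIntegrallyClosed X› hy
    refine ⟨x • d, ?_⟩
    show (x • d) ⊗ₜ[X] (1 : L) = d ⊗ₜ[X] algebraMap X L x
    rw [Algebra.algebraMap_eq_smul_one, TensorProduct.smul_tmul]

/-- An idempotent of the generic fibre comes from the algebra. -/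
theorem exists_eq_of_idem (L : Type u) [Field L] [Algebra X L] [IsFractionRing X L]
    {z : D ⊗[X] L} (hz : IsIdempotentElem z) : ∃ d : D, d ⊗ₜ[X] (1 : L) = z := by
  refine exists_eq_of_isIntegral L ⟨Polynomial.X * (Polynomial.X - Polynomial.C 1), ?_, ?_⟩
  · exact (Polynomial.monic_X).mul (Polynomial.monic_X_sub_C 1)
  · rw [Polynomial.eval₂_mul, Polynomial.eval₂_sub, Polynomial.eval₂_X, Polynomial.eval₂_C, map_one, mul_sub,
      hz.eq, mul_one, sub_self]

theorem eq_of_tmul_one_eq [Module.Flat X D] (L : Type u) [Field L] [Algebra X L]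
    (hinj : Function.Injective (algebraMap X L)) {a b : D}
    (h : a ⊗ₜ[X] (1 : L) = b ⊗ₜ[X] (1 : L)) : a = b := by
  have h' := Module.Flat.lTensor_preserves_injective_linearMap (M := D) (Algebra.linearMap X L) hinj
  have := @h' (a ⊗ₜ[X] (1 : X)) (b ⊗ₜ[X] (1 : X)) (by simpa using h)
  simpa using congrArg (TensorProduct.rid X D) this

/-- Over a normal domain, if the points of a finite etale algebra with values in a field are defined over the
domain and split it, then so are its points in connected algebras. -/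
theorem exists_point_factor [Module.Flat X D] (L0 : Type u) [Field L0] [Algebra X L0]
    (hinj : Function.Injective (algebraMap X L0)) {ι : Type u} [Finite ι]
    (a : L0 ⊗[X] D ≃ₐ[L0] (ι → L0)) (τ : ι → (D →ₐ[X] X))
    (hτ : ∀ i d, a ((1 : L0) ⊗ₜ[X] d) i = algebraMap X L0 (τ i d))
    (S : Type u) [CommRing S] [Nontrivial S] [Algebra X S]
    (hS : ∀ e : S, IsIdempotentElem e → e = 0 ∨ e = 1) (χ : D →ₐ[X] S) :
    ∃ i, ∀ d, χ d = algebraMap X S (τ i d) := by
  classical
  have := Fintype.ofFinite ι
  have hjoint : ∀ d : D, (∀ i, τ i d = 0) → d = 0 := fun d hd => by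
    refine eq_of_tmul_one_eq L0 hinj ?_
    have h1 : (1 : L0) ⊗ₜ[X] d = 0 := a.injective (funext fun i => by rw [hτ, hd, map_zero, map_zero, Pi.zero_apply])
    have := congrArg (TensorProduct.comm X L0 D) h1
    simpa using this
  let L := FractionRing X
  let T : D ⊗[X] L →ₐ[X] (ι → L) := Algebra.TensorProduct.lift
    (AlgHom.pi fun i => (IsScalarTower.toAlgHom X X L).comp (τ i))
    (AlgHom.pi fun _ => AlgHom.id X L) fun _ _ => Commute.all _ _
  have hT : ∀ d l i, T (d ⊗ₜ[X] l) i = algebraMap X L (τ i d) * l := fun d l i => by simp [T]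
  have hTinj : Function.Injective T := by
    refine (injective_iff_map_eq_zero T).mpr fun z hz => ?_
    obtain ⟨s, hs, d, hd⟩ : ∃ s : X, s ≠ 0 ∧ ∃ d : D, s • z = d ⊗ₜ[X] (1 : L) := by
      clear hz
      induction z using TensorProduct.induction_on with
      | zero => exact ⟨1, one_ne_zero, 0, by simp⟩
      | tmul d l =>
        obtain ⟨x, s, rfl⟩ := IsLocalization.exists_mk'_eq (nonZeroDivisors X) l
        refine ⟨s, nonZeroDivisors.ne_zero s.2, x • d, ?_⟩
        rw [TensorProduct.smul_tmul', TensorProduct.smul_tmul, TensorProduct.smul_tmul, Algebra.smul_def,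
          Algebra.smul_def, mul_one, IsLocalization.mk'_spec']
      | add p q hp hq =>
        obtain ⟨s, hs, d, hd⟩ := hp
        obtain ⟨t, ht, e, he⟩ := hq
        refine ⟨s * t, mul_ne_zero hs ht, t • d + s • e, ?_⟩
        rw [smul_add, add_tmul, ← TensorProduct.smul_tmul', ← TensorProduct.smul_tmul', ← hd, ← he, smul_smul,
          smul_smul, mul_comm t s]
    have hd0 : d = 0 := hjoint d fun i => by
      apply IsFractionRing.injective X L
      have h1 := congrArg (fun v => T v i) hd
      simp only [map_smul, hz, smul_zero, Pi.zero_apply, hT, mul_one] at h1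
      rw [← h1, map_zero]
    rw [hd0, zero_tmul] at hd
    clear hz
    suffices hz : ((1 : D) ⊗ₜ[X] (algebraMap X L s)⁻¹) * (s • z) = z by rw [← hz, hd, mul_zero]
    rw [Algebra.smul_def s z, Algebra.TensorProduct.algebraMap_apply', ← mul_assoc, Algebra.TensorProduct.tmul_mul_tmul,
      one_mul, inv_mul_cancel₀ (fun h' => hs ((map_eq_zero_iff _ (IsFractionRing.injective X L)).mp h')),
      ← Algebra.TensorProduct.one_def, one_mul]
  have hidem : ∀ i, ∃ e : D, ∀ j, τ j e = if j = i then 1 else 0 := by
    let j₀ : L →ₐ[X] L0 := IsFractionRing.liftAlgHom (g := Algebra.ofId X L0) hinj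
    let W : Submodule L (ι → L) := Submodule.span L (Set.range fun d => T (d ⊗ₜ[X] (1 : L)))
    have hW : W = ⊤ := by
      by_contra hne
      obtain ⟨f, hf0, hf⟩ := Submodule.exists_le_ker_of_lt_top W (lt_top_iff_ne_top.mpr hne)
      apply hf0
      have hfv : ∀ v, f v = ∑ j, v j * f (Pi.single j 1) := fun v => by
        conv_lhs => rw [show v = ∑ j, v j • (Pi.single j 1 : ι → L) from by
          ext k; simp [Finset.sum_apply, Pi.single_apply]]
        simp
      have key : ∀ w : L0 ⊗[X] D, ∑ j, a w j * j₀ (f (Pi.single j 1)) = 0 := fun w => by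
        induction w using TensorProduct.induction_on with
        | zero => simp
        | add p q hp hq => simp only [map_add, Pi.add_apply, add_mul, Finset.sum_add_distrib, hp, hq, add_zero]
        | tmul l d =>
          have h0 : f (T (d ⊗ₜ[X] (1 : L))) = 0 := hf (Submodule.subset_span ⟨d, rfl⟩)
          rw [hfv] at h0
          have h1 := congrArg j₀ h0
          rw [map_sum, map_zero] at h1
          rw [show l ⊗ₜ[X] d = l • ((1 : L0) ⊗ₜ[X] d) by rw [TensorProduct.smul_tmul', smul_eq_mul, mul_one], map_smul]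
          rw [← mul_zero l, ← h1, Finset.mul_sum]
          refine Finset.sum_congr rfl fun j _ => ?_
          rw [Pi.smul_apply, smul_eq_mul, hτ, map_mul, hT, mul_one, AlgHom.commutes, mul_assoc]
      refine LinearMap.ext fun v => ?_
      rw [hfv, LinearMap.zero_apply]
      refine Finset.sum_eq_zero fun j _ => ?_
      have h2 := key (a.symm (Pi.single j 1))
      simp only [AlgEquiv.apply_symm_apply, Pi.single_apply, ite_mul, one_mul, zero_mul, Finset.sum_ite_eq',
        Finset.mem_univ, if_true] at h2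
      rw [(map_eq_zero j₀).mp h2, mul_zero]
    intro i
    have hsurj : ∀ v, v ∈ W → ∃ z, T z = v := fun v hv => by
      induction hv using Submodule.span_induction with
      | mem x hx => obtain ⟨d, rfl⟩ := hx; exact ⟨_, rfl⟩
      | zero => exact ⟨0, map_zero T⟩
      | add p q _ _ hp hq => obtain ⟨x, rfl⟩ := hp; obtain ⟨y, rfl⟩ := hq; exact ⟨x + y, map_add T x y⟩
      | smul l p _ hp =>
        obtain ⟨x, rfl⟩ := hp
        refine ⟨((1 : D) ⊗ₜ[X] l) * x, ?_⟩
        rw [map_mul]
        funext j
        simp [hT]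
    obtain ⟨z, hz⟩ := hsurj (Pi.single i 1) (hW ▸ Submodule.mem_top)
    have hzid : IsIdempotentElem z := hTinj (by rw [map_mul, hz, ← Pi.single_mul, mul_one])
    obtain ⟨e, rfl⟩ := exists_eq_of_idem L hzid
    refine ⟨e, fun j => IsFractionRing.injective X L ?_⟩
    have h3 := congrFun hz j
    rw [hT, mul_one, Pi.single_apply] at h3
    rw [h3]
    split_ifs <;> simp
  choose e he using hidem
  have hsum : ∑ i, e i = 1 := sub_eq_zero.mp (hjoint _ fun j => by
    rw [map_sub, map_sum, map_one, sub_eq_zero]; simp [he])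
  have hee : ∀ i, IsIdempotentElem (e i) := fun i => sub_eq_zero.mp (hjoint _ fun j => by
    rw [map_sub, map_mul, he]; split_ifs <;> simp)
  obtain ⟨i, hi⟩ : ∃ i, χ (e i) = 1 := by
    by_contra! hne
    refine one_ne_zero (α := S) ?_
    rw [← map_one χ, ← hsum, map_sum]
    exact Finset.sum_eq_zero fun i _ => (hS _ ((hee i).map χ)).resolve_right (hne i)
  refine ⟨i, fun d => ?_⟩
  have h4 : (d - algebraMap X D (τ i d)) * e i = 0 := hjoint _ fun j => by
    rw [map_mul, map_sub, AlgHom.commutes, he]
    by_cases h : j = i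
    · subst h; simp
    · rw [if_neg h, mul_zero]
  have h5 := congrArg χ h4
  rw [map_mul, map_sub, AlgHom.commutes, hi, mul_one, map_zero, sub_eq_zero] at h5
  exact h5

end Points

section Image

variable {X : Type u} [CommRing X] [IsDomain X] [IsIntegrallyClosed X]
  {D : Type u} [CommRing D] [Algebra X D] [Algebra.Etale X D] [Module.Finite X D]

/-- The image of a finite etale algebra over a normal domain in a field is finite etale and normal. -/
theorem image_etale (L0 : Type u) [Field L0] [Algebra X L0] (hinj : Function.Injective (algebraMap X L0))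
    (χ : D →ₐ[X] L0) :
    Algebra.Etale X χ.range ∧ Module.Finite X χ.range ∧ IsIntegrallyClosed χ.range := by
  classical
  let L := FractionRing X
  let j₀ : L →ₐ[X] L0 := IsFractionRing.liftAlgHom (g := Algebra.ofId X L0) hinj
  let χL : D ⊗[X] L →ₐ[X] L0 := Algebra.TensorProduct.lift χ j₀ fun _ _ => Commute.all _ _
  have hχL : ∀ d l, χL (d ⊗ₜ[X] l) = χ d * j₀ l := fun d l => by simp [χL]
  let : Algebra L (D ⊗[X] L) := Algebra.TensorProduct.rightAlgebra
  let eC : L ⊗[X] D ≃ₐ[L] D ⊗[X] L :=
    { (Algebra.TensorProduct.comm X L D).toRingEquiv with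
      commutes' := fun l => Algebra.TensorProduct.comm_tmul X l (1 : D) }
  have : Algebra.Etale L (D ⊗[X] L) := Algebra.Etale.of_equiv eC
  have : Module.Finite L (D ⊗[X] L) := Module.Finite.equiv eC.toLinearEquiv
  have : IsArtinianRing (D ⊗[X] L) := IsArtinianRing.of_finite L (D ⊗[X] L)
  have : IsReduced (D ⊗[X] L) := Algebra.FormallyUnramified.isReduced_of_field L (D ⊗[X] L)
  have : IsSemisimpleRing (D ⊗[X] L) := IsArtinianRing.isSemisimpleRing_of_isReduced _
  obtain ⟨ε, hε, hker⟩ := IsSemisimpleRing.ideal_eq_span_idempotent (RingHom.ker χL)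
  have hχε : χL ε = 0 := RingHom.mem_ker.mp (hker ▸ Ideal.mem_span_singleton_self ε)
  obtain ⟨e, rfl⟩ := exists_eq_of_idem L hε
  have hinjD : ∀ a b : D, a ⊗ₜ[X] (1 : L) = b ⊗ₜ[X] (1 : L) → a = b := fun a b =>
    eq_of_tmul_one_eq L (IsFractionRing.injective X L)
  have he : IsIdempotentElem e := hinjD _ _ (by
    conv_rhs => rw [← hε.eq]
    rw [Algebra.TensorProduct.tmul_mul_tmul, mul_one])
  have hχe : χ e = 0 := by rw [hχL, map_one, mul_one] at hχε; exact hχε
  have hkerχ : RingHom.ker (χ.rangeRestrict : D →+* χ.range) = Ideal.span {1 - (1 - e)} := by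
    rw [sub_sub_cancel]
    refine le_antisymm (fun d hd => ?_) (Ideal.span_le.mpr (Set.singleton_subset_iff.mpr (Subtype.ext hχe)))
    have hd' : χ d = 0 := congrArg Subtype.val (RingHom.mem_ker.mp hd)
    have h1 : d ⊗ₜ[X] (1 : L) ∈ RingHom.ker χL := by rw [RingHom.mem_ker, hχL, hd', zero_mul]
    rw [hker] at h1
    obtain ⟨w, hw⟩ := Ideal.mem_span_singleton'.mp h1
    have h2 : d * e = d := hinjD _ _ (by
      have h3 := congrArg (· * (e ⊗ₜ[X] (1 : L))) hw
      simp only [mul_assoc, hε.eq] at h3
      rw [hw, Algebra.TensorProduct.tmul_mul_tmul, mul_one] at h3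
      exact h3.symm)
    exact Ideal.mem_span_singleton'.mpr ⟨d, h2⟩
  let : Algebra D χ.range := χ.rangeRestrict.toRingHom.toAlgebra
  have : IsScalarTower X D χ.range := .of_algebraMap_eq fun x => (χ.rangeRestrict.commutes x).symm
  have hloc : IsLocalization.Away (1 - e) χ.range :=
    IsLocalization.away_of_isIdempotentElem he.one_sub hkerχ χ.rangeRestrict_surjective
  have : Algebra.Etale D χ.range := Algebra.Etale.of_isLocalizationAway (1 - e)
  have hfin : Module.Finite X χ.range :=
    Module.Finite.of_surjective χ.rangeRestrict.toLinearMap χ.rangeRestrict_surjective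
  refine ⟨Algebra.Etale.comp X D χ.range, hfin, ?_⟩
  refine (isIntegrallyClosed_iff (FractionRing χ.range)).mpr fun {x} hx => ?_
  let ι : FractionRing χ.range →ₐ[χ.range] L0 :=
    IsFractionRing.liftAlgHom (g := Algebra.ofId χ.range L0) Subtype.val_injective
  have hxint : IsIntegral X (ι x) := by
    have : Algebra.IsIntegral X χ.range := Algebra.IsIntegral.of_finite X χ.range
    exact isIntegral_trans (A := χ.range) _ (hx.map ι)
  obtain ⟨a, b, hb, hab⟩ := IsFractionRing.div_surjective (A := χ.range) x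
  obtain ⟨⟨_, da, rfl⟩, rfl⟩ := (⟨a, rfl⟩ : ∃ a', a = a')
  obtain ⟨⟨_, db, rfl⟩, rfl⟩ := (⟨b, rfl⟩ : ∃ b', b = b')
  have hdb : χ db ≠ 0 := fun h => nonZeroDivisors.ne_zero hb (Subtype.ext h)
  have hprime : (RingHom.ker χL).IsPrime := RingHom.ker_isPrime _
  have hmax : (RingHom.ker χL).IsMaximal := IsArtinianRing.isMaximal_of_isPrime _
  obtain ⟨u, i, hi, hui⟩ := hmax.exists_inv (x := db ⊗ₜ[X] (1 : L)) (fun h => hdb (by
    rw [RingHom.mem_ker, hχL, map_one, mul_one] at h; exact h))
  have hu : χL u * χ db = 1 := by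
    have := congrArg χL hui
    rwa [map_add, map_mul, RingHom.mem_ker.mp hi, add_zero, hχL, map_one, map_one, mul_one] at this
  let w : D ⊗[X] L := (da ⊗ₜ[X] (1 : L)) * u
  have hw : χL w = ι x := by
    have h1 : ι x * χ db = χ da := by
      rw [← hab, map_div₀, AlgHom.commutes, AlgHom.commutes]
      exact div_mul_cancel₀ _ hdb
    show χL ((da ⊗ₜ[X] (1 : L)) * u) = ι x
    rw [map_mul, hχL, map_one, mul_one, ← h1, mul_assoc, mul_comm (χ db), hu, mul_one]
  let ε : D ⊗[X] L := e ⊗ₜ[X] (1 : L)
  let w' : D ⊗[X] L := (1 - ε) * w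
  obtain ⟨p, hpm, hp⟩ := hxint
  have hw'ε : ε * w' = 0 := by
    show ε * ((1 - ε) * w) = 0
    rw [← mul_assoc, mul_sub, mul_one, hε.eq, sub_self, zero_mul]
  have hmem : Polynomial.aeval w' p ∈ Ideal.span {ε} := by
    have h0 : Polynomial.aeval w p ∈ Ideal.span {ε} := by
      rw [← hker, RingHom.mem_ker, ← Polynomial.aeval_algHom_apply, hw]; exact hp
    rw [← Ideal.Quotient.eq_zero_iff_mem] at h0 ⊢
    rw [← Ideal.Quotient.mkₐ_eq_mk X, ← Polynomial.aeval_algHom_apply] at h0 ⊢
    have hmk : Ideal.Quotient.mkₐ X (Ideal.span {ε}) w' = Ideal.Quotient.mkₐ X (Ideal.span {ε}) w :=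
      Ideal.Quotient.eq.mpr (Ideal.mem_span_singleton'.mpr ⟨-w, by show -w * ε = (1 - ε) * w - w; ring⟩)
    rwa [hmk]
  have hw'int : IsIntegral D w' := by
    have : IsIntegral X w' := by
      refine ⟨Polynomial.X * p, Polynomial.monic_X.mul hpm, ?_⟩
      obtain ⟨v, hv⟩ := Ideal.mem_span_singleton'.mp hmem
      show Polynomial.aeval w' (Polynomial.X * p) = 0
      rw [map_mul, Polynomial.aeval_X, ← hv, ← mul_assoc, mul_comm w', mul_assoc, mul_comm w', hw'ε, mul_zero]
    exact this.tower_top
  obtain ⟨d, hd⟩ := exists_eq_of_isIntegral L hw'int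
  refine ⟨χ.rangeRestrict d, (ι : FractionRing χ.range →+* L0).injective ?_⟩
  show ι _ = ι x
  rw [AlgHom.commutes, ← hw]
  show χ d = χL w
  have h1 : χL w' = χL w := by rw [map_mul, map_sub, map_one, hχε, sub_zero, one_mul]
  rw [← h1, ← hd, hχL, map_one, mul_one]

end Image

section Main

variable {R : Type u} [CommRing R] [IsDomain R] [IsIntegrallyClosed R]

/-- A finite etale normal subalgebra of the splitting field. -/
def Good (L0 : Type u) [Field L0] [Algebra R L0] (T : Subalgebra R L0) : Prop :=
  Algebra.Etale R T ∧ Module.Finite R T ∧ IsIntegrallyClosed T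

theorem good_bot (L0 : Type u) [Field L0] [Algebra R L0] (hinj : Function.Injective (algebraMap R L0)) :
    Good L0 (⊥ : Subalgebra R L0) := by
  let e : R ≃ₐ[R] (⊥ : Subalgebra R L0) := (Algebra.botEquivOfInjective hinj).symm
  exact ⟨Algebra.Etale.of_equiv e, Module.Finite.equiv e.toLinearEquiv, IsIntegrallyClosed.of_equiv e.toRingEquiv⟩

theorem good_adjoin (L0 : Type u) [Field L0] [Algebra R L0] {T : Subalgebra R L0} (hT : Good L0 T)
    {D : Type u} [CommRing D] [Algebra R D] [Algebra.Etale R D] [Module.Finite R D] (χ : D →ₐ[R] L0) :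
    ∃ T' : Subalgebra R L0, Good L0 T' ∧ T ≤ T' ∧ ∀ d, χ d ∈ T' := by
  obtain ⟨het, hfin, hic⟩ := hT
  have := het; have := hfin; have := hic
  let χ' : T ⊗[R] D →ₐ[T] L0 := Algebra.TensorProduct.lift (Algebra.ofId T L0) χ fun _ _ => Commute.all _ _
  obtain ⟨h1, h2, h3⟩ := image_etale (X := T) (D := T ⊗[R] D) L0 Subtype.val_injective χ'
  have := h1; have := h2; have := h3
  let e : χ'.range ≃ₐ[R] χ'.range.restrictScalars R := AlgEquiv.refl
  have : Algebra.Etale R χ'.range := Algebra.Etale.comp R T χ'.range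
  have : Module.Finite R χ'.range := Module.Finite.trans T χ'.range
  refine ⟨χ'.range.restrictScalars R, ⟨Algebra.Etale.of_equiv e, Module.Finite.equiv e.toLinearEquiv,
    IsIntegrallyClosed.of_equiv e.toRingEquiv⟩, fun t ht => ?_, fun d => ⟨1 ⊗ₜ[R] d, by simp [χ']⟩⟩
  exact ⟨(⟨t, ht⟩ : T) ⊗ₜ[R] 1, by simp [χ']⟩

/-- There is a finite etale normal subalgebra containing all the given points. -/
theorem exists_good_all (L0 : Type u) [Field L0] [Algebra R L0] (hinj : Function.Injective (algebraMap R L0))
    (K : Type u) [Field K] [Algebra R K] [IsFractionRing R K] [Algebra K L0] [IsScalarTower R K L0]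
    [FiniteDimensional K L0] {J : Type u} (D : J → Type u) [∀ j, CommRing (D j)] [∀ j, Algebra R (D j)]
    [∀ j, Algebra.Etale R (D j)] [∀ j, Module.Finite R (D j)] :
    ∃ T : Subalgebra R L0, Good L0 T ∧ ∀ (j : J) (χ : D j →ₐ[R] L0) (d : D j), χ d ∈ T := by
  let sp : Subalgebra R L0 → Submodule K L0 := fun T => Submodule.span K (T : Set L0)
  obtain ⟨W, ⟨T, hT, rfl⟩, hmax⟩ := set_has_maximal_iff_noetherian.mpr (inferInstance : IsNoetherian K L0)
    (sp '' {T | Good L0 T}) ⟨_, ⊥, good_bot L0 hinj, rfl⟩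
  refine ⟨T, hT, fun j χ d => ?_⟩
  obtain ⟨T', hT', hle, hd⟩ := good_adjoin L0 hT χ
  have hsp : sp T ≤ sp T' := Submodule.span_mono hle
  have heq : sp T = sp T' := hsp.lt_or_eq.resolve_left (hmax _ ⟨T', hT', rfl⟩)
  obtain ⟨het, hfin, hic⟩ := hT
  have := het; have := hfin; have := hic
  have hmem : χ d ∈ sp T := heq ▸ Submodule.subset_span (hd d)
  obtain ⟨r, hr, hrd⟩ : ∃ r : R, r ≠ 0 ∧ r • χ d ∈ T := by
    generalize χ d = z at hmem ⊢
    induction hmem using Submodule.span_induction with
    | mem x hx => exact ⟨1, one_ne_zero, by rw [one_smul]; exact hx⟩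
    | zero => exact ⟨1, one_ne_zero, by rw [smul_zero]; exact T.zero_mem⟩
    | add x y _ _ hx hy =>
      obtain ⟨r, hr, hx⟩ := hx
      obtain ⟨s, hs, hy⟩ := hy
      exact ⟨r * s, mul_ne_zero hr hs, by
        rw [smul_add]; exact T.add_mem (by rw [mul_comm, mul_smul]; exact T.smul_mem hx s)
          (by rw [mul_smul]; exact T.smul_mem hy r)⟩
    | smul c x _ hx =>
      obtain ⟨r, hr, hx⟩ := hx
      obtain ⟨a, s, rfl⟩ := IsLocalization.exists_mk'_eq (nonZeroDivisors R) c
      refine ⟨s * r, mul_ne_zero (nonZeroDivisors.ne_zero s.2) hr, ?_⟩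
      have h : ((s : R) * r) • (IsLocalization.mk' K a s • x) = a • (r • x) := by
        rw [Algebra.smul_def, Algebra.smul_def, Algebra.smul_def a, Algebra.smul_def r, map_mul,
          IsScalarTower.algebraMap_apply R K L0 a, ← IsLocalization.mk'_spec' K a s, map_mul,
          ← IsScalarTower.algebraMap_apply]
        ring
      rw [h]; exact T.smul_mem hx a
  have hint : IsIntegral T (χ d) := ((Algebra.IsIntegral.isIntegral (R := R) d).map χ).tower_top
  let ι : FractionRing T →ₐ[T] L0 := IsFractionRing.liftAlgHom (g := Algebra.ofId T L0) Subtype.val_injective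
  let x : FractionRing T := algebraMap T _ ⟨_, hrd⟩ / algebraMap T _ (algebraMap R T r)
  have hr0 : algebraMap R L0 r ≠ 0 := fun h => hr ((map_eq_zero_iff _ hinj).mp h)
  have hx : ι x = χ d := by
    rw [map_div₀, AlgHom.commutes, AlgHom.commutes]
    show (r • χ d) / algebraMap R L0 r = χ d
    rw [Algebra.smul_def, mul_div_assoc, mul_div_cancel₀ _ hr0]
  obtain ⟨y, hy⟩ := (isIntegrallyClosed_iff (FractionRing T)).mp hic
    ((isIntegral_algHom_iff ι (ι : FractionRing T →+* L0).injective).mp (hx ▸ hint))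
  rw [← hx, ← hy, AlgHom.commutes]
  exact y.2

variable {A : Type u} [CommRing A] [HopfAlgebra R A]

theorem push_injective [Module.Flat R A] {S S' : Type u} [CommRing S] [CommRing S'] [Algebra R S] [Algebra R S']
    (f : S →ₐ[R] S') (hf : Function.Injective f) : Function.Injective (push A f) := by
  have h : ∀ z, push A f z = f.toLinearMap.rTensor A z := fun z => by
    induction z using TensorProduct.induction_on with
    | zero => simp
    | tmul s a => rfl
    | add p q hp hq => simp [hp, hq]
  rw [funext h]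
  exact Module.Flat.rTensor_preserves_injective_linearMap f.toLinearMap hf

/-- An element of the generic base change lying in all localizations comes from the ring. -/
theorem exists_eq_push {T : Type u} [CommRing T] [Algebra R T] {L0 : Type u} [CommRing L0] [Algebra R L0]
    (j : T →ₐ[R] L0) (x : L0 ⊗[R] A)
    (h : ∀ (P : Ideal T) [P.IsMaximal], ∃ (j' : Localization.AtPrime P →ₐ[R] L0) (y : Localization.AtPrime P ⊗[R] A),
      (∀ t, j' (algebraMap T _ t) = j t) ∧ push A j' y = x) :
    ∃ a : T ⊗[R] A, push A j a = x := by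
  let I : Ideal T :=
    { carrier := {t | (j t ⊗ₜ[R] (1 : A)) * x ∈ (push A j).range}
      add_mem' := fun {s t} hs ht => by
        show (j (s + t) ⊗ₜ[R] (1 : A)) * x ∈ (push A j).range
        rw [map_add, add_tmul, add_mul]; exact add_mem hs ht
      zero_mem' := by
        show (j 0 ⊗ₜ[R] (1 : A)) * x ∈ (push A j).range
        rw [map_zero, zero_tmul, zero_mul]; exact zero_mem _
      smul_mem' := fun c t ht => by
        show (j (c * t) ⊗ₜ[R] (1 : A)) * x ∈ (push A j).range
        rw [map_mul, ← mul_one (1 : A), ← Algebra.TensorProduct.tmul_mul_tmul, mul_assoc]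
        exact mul_mem ⟨c ⊗ₜ[R] 1, by simp⟩ ht }
  suffices I = ⊤ by
    obtain ⟨a, ha⟩ := (Ideal.eq_top_iff_one I).mp this
    exact ⟨a, ha.trans (by rw [map_one, ← Algebra.TensorProduct.one_def, one_mul])⟩
  by_contra hne
  obtain ⟨P, hP, hle⟩ := Ideal.exists_le_maximal I hne
  obtain ⟨j', y, hj', hy⟩ := h P
  obtain ⟨s, hs, a, ha⟩ : ∃ s : T, s ∉ P ∧ ∃ a : T ⊗[R] A, push A j a = (j s ⊗ₜ[R] (1 : A)) * push A j' y := by
    clear hy
    induction y using TensorProduct.induction_on with
    | zero => exact ⟨1, P.primeCompl.one_mem, 0, by simp⟩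
    | tmul z c =>
      obtain ⟨b, s, rfl⟩ := IsLocalization.exists_mk'_eq P.primeCompl z
      refine ⟨s, s.2, b ⊗ₜ[R] c, ?_⟩
      rw [push_tmul, push_tmul, Algebra.TensorProduct.tmul_mul_tmul, one_mul, ← hj', ← hj', ← map_mul,
        IsLocalization.mk'_spec']
    | add p q hp hq =>
      obtain ⟨s, hs, a, ha⟩ := hp
      obtain ⟨t, ht, b, hb⟩ := hq
      refine ⟨s * t, P.primeCompl.mul_mem hs ht, (t ⊗ₜ[R] 1) * a + (s ⊗ₜ[R] 1) * b, ?_⟩
      simp only [map_add, map_mul, push_tmul, ha, hb, mul_add]
      rw [← mul_assoc, ← mul_assoc, Algebra.TensorProduct.tmul_mul_tmul, Algebra.TensorProduct.tmul_mul_tmul,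
        mul_one, mul_comm (j t)]
  exact hs (hle (show s ∈ I from ⟨a, ha.trans (by rw [hy])⟩))

/-- Over a domain, diagonalisability can be tested at the maximal ideals. -/
theorem isDiag_of_local [Module.Flat R A] {T : Type u} [CommRing T] [IsDomain T] [Algebra R T]
    {L0 : Type u} [Field L0] [Algebra R L0] (j : T →ₐ[R] L0) (hj : Function.Injective j)
    {N : Type u} [CommGroup N] (e0 : L0 ⊗[R] A ≃ₐc[L0] MonoidAlgebra L0 N)
    (hloc : ∀ (P : Ideal T) [P.IsMaximal], SGA3b.IsDiag (Localization.AtPrime P) (Localization.AtPrime P ⊗[R] A)) :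
    SGA3b.IsDiag T (T ⊗[R] A) := by
  classical
  let x : N → L0 ⊗[R] A := fun m => e0.symm (MonoidAlgebra.single m 1)
  have hP : ∀ (P : Ideal T) [P.IsMaximal], ∃ (j' : Localization.AtPrime P →ₐ[R] L0) (NP : Type u) (_ : CommGroup NP)
      (eP : Localization.AtPrime P ⊗[R] A ≃ₐc[Localization.AtPrime P] MonoidAlgebra (Localization.AtPrime P) NP)
      (c : N → NP), (∀ t, j' (algebraMap T _ t) = j t) ∧ Function.Injective j' ∧ Function.Bijective c ∧
        ∀ m, push A j' (eP.symm (MonoidAlgebra.single (c m) 1)) = x m := by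
    intro P _
    have hu : ∀ s : P.primeCompl, IsUnit (j s) := fun s => isUnit_iff_ne_zero.mpr fun h =>
      s.2 (by rw [(map_eq_zero_iff _ hj).mp h]; exact P.zero_mem)
    let j' : Localization.AtPrime P →ₐ[R] L0 := IsLocalization.liftAlgHom (M := P.primeCompl) hu
    have hj' : ∀ t, j' (algebraMap T _ t) = j t := fun t => IsLocalization.lift_eq _ t
    have hinj : Function.Injective j' := (injective_iff_map_eq_zero j').mpr fun z hz => by
      obtain ⟨b, s, rfl⟩ := IsLocalization.exists_mk'_eq P.primeCompl z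
      have h2 := congrArg j' (IsLocalization.mk'_spec' (Localization.AtPrime P) b s)
      rw [map_mul, hz, mul_zero, hj'] at h2
      rw [(map_eq_zero_iff _ hj).mp h2.symm, IsLocalization.mk'_zero]
    obtain ⟨NP, _, ⟨eP⟩⟩ := hloc P
    let : Algebra (Localization.AtPrime P) L0 := j'.toRingHom.toAlgebra
    have : IsScalarTower R (Localization.AtPrime P) L0 := .of_algebraMap_eq fun r => (j'.commutes r).symm
    have hjs : IsScalarTower.toAlgHom R (Localization.AtPrime P) L0 = j' := AlgHom.ext fun z => rfl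
    let eL : L0 ⊗[R] A ≃ₐc[L0] MonoidAlgebra L0 NP := bcTriv eP
    let ψ : MonoidAlgebra L0 N ≃ₐc[L0] MonoidAlgebra L0 NP := e0.symm.trans eL
    have hψ : ∀ m, ∃ c, MonoidAlgebra.single c 1 = ψ (MonoidAlgebra.single m 1) := fun m =>
      MonoidAlgebra.isGroupLikeElem_iff_mem_range_single_one.mp
        ((MonoidAlgebra.isGroupLikeElem_single_one (R := L0) (A := L0) m).map (ψ : MonoidAlgebra L0 N →ₐc[L0] MonoidAlgebra L0 NP))
    choose c hc using hψ
    refine ⟨j', NP, inferInstance, eP, c, hj', hinj, ⟨fun a b hab => ?_, fun n => ?_⟩, fun m => ?_⟩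
    · exact MonoidAlgebra.single_left_injective (one_ne_zero (α := L0)) (ψ.injective (by
        show ψ (MonoidAlgebra.single a 1) = ψ (MonoidAlgebra.single b 1)
        rw [← hc, ← hc, hab]))
    · obtain ⟨m, hm⟩ := MonoidAlgebra.isGroupLikeElem_iff_mem_range_single_one.mp
        ((MonoidAlgebra.isGroupLikeElem_single_one (R := L0) (A := L0) n).map
          (ψ.symm : MonoidAlgebra L0 NP →ₐc[L0] MonoidAlgebra L0 N))
      refine ⟨m, MonoidAlgebra.single_left_injective (one_ne_zero (α := L0)) ?_⟩
      show MonoidAlgebra.single (c m) (1 : L0) = MonoidAlgebra.single n 1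
      rw [hc, show MonoidAlgebra.single m (1 : L0) = ψ.symm (MonoidAlgebra.single n 1) from hm]
      exact ψ.apply_symm_apply _
    · apply eL.injective
      rw [← hjs]
      refine (bcTriv_push eP _).trans ?_
      rw [eP.apply_symm_apply, MonoidAlgebra.mapRingHom_single, map_one, hc]
      rfl
  have ha : ∀ m, ∃ a : T ⊗[R] A, push A j a = x m := fun m => exists_eq_push j (x m) fun P _ => by
    obtain ⟨j', NP, _, eP, c, h1, -, -, h4⟩ := hP P
    exact ⟨j', _, h1, h4 m⟩
  choose a ha using ha
  have hpj := push_injective (A := A) j hj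
  let v : N →* T ⊗[R] A :=
    { toFun := a
      map_one' := hpj (by rw [ha, map_one]; exact map_one e0.symm)
      map_mul' := fun p q => hpj (by
        rw [map_mul, ha, ha, ha]
        show e0.symm _ = e0.symm _ * e0.symm _
        rw [← map_mul, MonoidAlgebra.single_mul_single, mul_one]) }
  let f : MonoidAlgebra T N →ₐ[T] T ⊗[R] A := MonoidAlgebra.lift T _ N v
  have hf : ∀ m, f (MonoidAlgebra.single m 1) = a m := fun m => by simp [f, v]
  have hg : ∀ m, IsGroupLikeElem T (a m) := by
    intro m
    let : Algebra T L0 := j.toRingHom.toAlgebra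
    have : IsScalarTower R T L0 := .of_algebraMap_eq fun r => (j.commutes r).symm
    have hxm : IsGroupLikeElem L0 (x m) :=
      (MonoidAlgebra.isGroupLikeElem_single_one (R := L0) (A := L0) m).map (e0.symm : MonoidAlgebra L0 N →ₐc[L0] L0 ⊗[R] A)
    refine ⟨hj ?_, (glDefect_eq_zero_iff _).mp ?_⟩
    · have hc : ∀ y : T ⊗[R] A, counit (R := L0) (push A j y) = j (counit (R := T) y) := fun y => by
        induction y using TensorProduct.induction_on with
        | zero => simp
        | tmul t b => simp
        | add p q hp hq => rw [map_add, map_add, map_add, hp, hq, map_add]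
      rw [map_one, ← hc, ha, hxm.counit_eq_one]
    · apply Module.Flat.rTensor_preserves_injective_linearMap (M := A ⊗[R] A) j.toLinearMap hj
      rw [map_zero, glDefect_push, glDefect_eq_zero_iff, ha]
      exact hxm.comul_eq_tmul_self
  let φ : MonoidAlgebra T N →ₐc[T] T ⊗[R] A := BialgHom.ofAlgHom f
    (MonoidAlgebra.algHom_ext (single_one_left := Subsingleton.elim _ _) fun m => by simp [hf, (hg m).counit_eq_one])
    (MonoidAlgebra.algHom_ext (single_one_left := Subsingleton.elim _ _) fun m => by
      simp [hf, (hg m).comul_eq_tmul_self])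
  refine ⟨N, inferInstance, ⟨(BialgEquiv.ofBijective φ ?_).symm⟩⟩
  refine bijective_of_isLocalized_maximal
    (fun P _ => Localization.AtPrime P ⊗[T] MonoidAlgebra T N)
    (fun P _ => TensorProduct.mk T (Localization.AtPrime P) (MonoidAlgebra T N) 1)
    (fun P _ => Localization.AtPrime P ⊗[T] (T ⊗[R] A))
    (fun P _ => TensorProduct.mk T (Localization.AtPrime P) (T ⊗[R] A) 1)
    (φ : MonoidAlgebra T N →ₐ[T] T ⊗[R] A).toLinearMap fun P _ => ?_
  obtain ⟨j', NP, _, eP, c, h1, h2, hc, h4⟩ := hP P
  let S := Localization.AtPrime P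
  let cd : S ⊗[T] (T ⊗[R] A) ≃ₐc[S] S ⊗[R] A := cancelBC (R := R) T S A
  have hΨ : ∀ w, eP (cd (bcHom S φ w)) = MonoidAlgebra.mapDomain c ((monoidBC S N : S ⊗[T] MonoidAlgebra T N ≃ₐc[S] MonoidAlgebra S N) w) := by
    intro w
    induction w using TensorProduct.induction_on with
    | zero => simp
    | add p q hp hq => rw [map_add, map_add, map_add, hp, hq, map_add, MonoidAlgebra.mapDomain_add]
    | tmul s g =>
      induction g using MonoidAlgebra.induction_linear with
      | zero => simp
      | add p q hp hq => rw [tmul_add, map_add, map_add, map_add, hp, hq, map_add, MonoidAlgebra.mapDomain_add]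
      | single m t =>
        have key : cd ((1 : S) ⊗ₜ[T] a m) = eP.symm (MonoidAlgebra.single (c m) 1) := by
          apply push_injective (A := A) j' h2
          rw [show cd ((1 : S) ⊗ₜ[T] a m) = push A (IsScalarTower.toAlgHom R T S) (a m) from push_cancel _,
            push_push, show j'.comp (IsScalarTower.toAlgHom R T S) = j from AlgHom.ext fun t => h1 t, ha, h4]
        rw [show (s ⊗ₜ[T] MonoidAlgebra.single m t : S ⊗[T] MonoidAlgebra T N) =
          (t • s) • ((1 : S) ⊗ₜ[T] MonoidAlgebra.single m 1) by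
            rw [TensorProduct.smul_tmul', smul_eq_mul, mul_one, TensorProduct.smul_tmul]; simp]
        simp only [map_smul, MonoidAlgebra.mapDomain_smul]
        rw [show bcHom S φ ((1 : S) ⊗ₜ[T] MonoidAlgebra.single m 1) = (1 : S) ⊗ₜ[T] f (MonoidAlgebra.single m 1) from rfl,
          hf, key, eP.apply_symm_apply, monoidBC_one_tmul]
        simp
  have hbij : Function.Bijective (bcHom S φ) := by
    have h5 : Function.Bijective (MonoidAlgebra.mapDomain (R := S) c ∘ (monoidBC S N : S ⊗[T] MonoidAlgebra T N ≃ₐc[S] MonoidAlgebra S N)) := by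
      refine Function.Bijective.comp ⟨MonoidAlgebra.mapDomain_injective hc.1, ?_⟩ (monoidBC S N : S ⊗[T] MonoidAlgebra T N ≃ₐc[S] MonoidAlgebra S N).bijective
      intro v
      induction v using MonoidAlgebra.induction_linear with
      | zero => exact ⟨0, MonoidAlgebra.mapDomain_zero _⟩
      | add p q hp hq =>
        obtain ⟨p', rfl⟩ := hp
        obtain ⟨q', rfl⟩ := hq
        exact ⟨p' + q', MonoidAlgebra.mapDomain_add _ _ _⟩
      | single n r =>
        obtain ⟨m, rfl⟩ := hc.2 n
        exact ⟨MonoidAlgebra.single m r, MonoidAlgebra.mapDomain_single⟩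
    rw [show (MonoidAlgebra.mapDomain (R := S) c ∘ (monoidBC S N : S ⊗[T] MonoidAlgebra T N ≃ₐc[S] MonoidAlgebra S N)) = (eP ∘ cd) ∘ bcHom S φ from funext fun w => (hΨ w).symm] at h5
    exact (Function.Bijective.of_comp_iff' (eP.bijective.comp cd.bijective) _).mp h5
  convert hbij using 1
  refine congrArg DFunLike.coe (IsLocalizedModule.ext P.primeCompl
    (TensorProduct.mk T S (MonoidAlgebra T N) 1)
    (IsLocalizedModule.map_units (TensorProduct.mk T S (T ⊗[R] A) 1))
    (k := (bcHom S φ : S ⊗[T] MonoidAlgebra T N →ₐ[S] _).toLinearMap.restrictScalars T) ?_)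
  refine LinearMap.ext fun g => ?_
  rw [LinearMap.comp_apply, IsLocalizedModule.map_apply]
  rfl

omit [IsIntegrallyClosed R] [IsDomain R] in
/-- Points with values in connected algebras over a localization of a good subalgebra. -/
theorem exists_point_local (L0 : Type u) [Field L0] [Algebra R L0] (T : Subalgebra R L0) [IsIntegrallyClosed T]
    {D : Type u} [CommRing D] [Algebra R D] [Algebra.Etale R D] (hT : ∀ (χ : D →ₐ[R] L0) (d : D), χ d ∈ T)
    {G : Type u} [Finite G] (a : L0 ⊗[R] D ≃ₐ[L0] (G → L0)) (P : Ideal T) [P.IsPrime]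
    (S : Type u) [CommRing S] [Nontrivial S] [Algebra R S] [Algebra (Localization.AtPrime P) S]
    [IsScalarTower R (Localization.AtPrime P) S]
    (hS : ∀ e : S, IsIdempotentElem e → e = 0 ∨ e = 1) (χ : D →ₐ[R] S) :
    ∃ τ : D →ₐ[R] Localization.AtPrime P, ∀ d, χ d = algebraMap (Localization.AtPrime P) S (τ d) := by
  let c : L0 ⊗[T] (T ⊗[R] D) ≃ₐ[L0] L0 ⊗[R] D := Algebra.TensorProduct.cancelBaseChange R T L0 L0 D
  let pt : G → (D →ₐ[R] L0) := fun g =>
    ((Pi.evalAlgHom R (fun _ : G => L0) g).comp (a.toAlgHom.restrictScalars R)).comp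
      Algebra.TensorProduct.includeRight
  let τ : G → (T ⊗[R] D →ₐ[T] T) := fun g =>
    Algebra.TensorProduct.lift (AlgHom.id T T) ((pt g).codRestrict T (hT (pt g))) fun _ _ => Commute.all _ _
  have hτ : ∀ g d, (c.trans a) ((1 : L0) ⊗ₜ[T] d) g = algebraMap T L0 (τ g d) := fun g d => by
    induction d using TensorProduct.induction_on with
    | zero => simp
    | add p q hp hq => rw [tmul_add, map_add, Pi.add_apply, hp, hq, map_add, map_add]
    | tmul t d =>
      show a (c ((1 : L0) ⊗ₜ[T] (t ⊗ₜ[R] d))) g = _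
      rw [Algebra.TensorProduct.cancelBaseChange_tmul,
        show (t • (1 : L0)) ⊗ₜ[R] d = (t : L0) • ((1 : L0) ⊗ₜ[R] d) by
          rw [TensorProduct.smul_tmul', smul_eq_mul, mul_one]; simp [Algebra.smul_def], map_smul]
      simp only [τ, Algebra.TensorProduct.lift_tmul, AlgHom.id_apply, map_mul]
      rfl
  let : Algebra T S := ((algebraMap (Localization.AtPrime P) S).comp (algebraMap T (Localization.AtPrime P))).toAlgebra
  have : IsScalarTower T (Localization.AtPrime P) S := .of_algebraMap_eq fun r => rfl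
  have : IsScalarTower R T S := .of_algebraMap_eq fun r => by
    show _ = algebraMap (Localization.AtPrime P) S (algebraMap T (Localization.AtPrime P) (algebraMap R T r))
    rw [← IsScalarTower.algebraMap_apply R T (Localization.AtPrime P), ← IsScalarTower.algebraMap_apply]
  let χ' : T ⊗[R] D →ₐ[T] S := Algebra.TensorProduct.lift (Algebra.ofId T S) χ fun _ _ => Commute.all _ _
  obtain ⟨g, hg⟩ := exists_point_factor (X := T) (D := T ⊗[R] D) L0 Subtype.val_injective
    (c.trans a) τ hτ S hS χ'
  refine ⟨((IsScalarTower.toAlgHom R T (Localization.AtPrime P)).comp ((τ g).restrictScalars R)).comp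
    Algebra.TensorProduct.includeRight, fun d => ?_⟩
  have h1 := hg ((1 : T) ⊗ₜ[R] d)
  simp only [χ', Algebra.TensorProduct.lift_tmul, map_one, one_mul] at h1
  exact h1

/-- Groups of multiplicative type and finite type over a normal domain are isotrivial. -/
theorem isIsotrivial (hft : Algebra.FiniteType R A) (h : SGA3b.IsMultType R A) : SGA3b.IsIsotrivial R A := by
  classical
  have hconst : SGA3b.IsMultTypeConst R A := isMultTypeConst_of_connected (hasCover_of_isMultType h)
  have hflat : Module.Flat R A := flat_of_isMultType h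
  have hcoc : Coalgebra.IsCocomm R A := isCocomm_of_isMultType h
  let K := FractionRing R
  obtain ⟨L0, _, _, hfinK, -, N, _, hfg, ⟨eK⟩⟩ :=
    exists_splitting (k := K) (A := K ⊗[R] A) inferInstance (isMultTypeConst_bc hconst K)
  have := hfinK
  let : Algebra R L0 := ((algebraMap K L0).comp (algebraMap R K)).toAlgebra
  have : IsScalarTower R K L0 := .of_algebraMap_eq fun r => rfl
  let e0 : L0 ⊗[R] A ≃ₐc[L0] MonoidAlgebra L0 N := (cancelBC (R := R) K L0 A).symm.trans eK
  have hinj : Function.Injective (algebraMap R L0) :=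
    (algebraMap K L0).injective.comp (IsFractionRing.injective R K)
  obtain ⟨R', _, _, N', _, hff, hfg', ⟨e'⟩⟩ := exists_triv hft hconst
  have := hff
  have hH : ∀ n : ℕ, (SGA3b.torsionIdeal R A n).IsHopfIdeal R := fun n => isHopfIdeal_torsion n
  let J := {n : ULift.{u} ℕ // 0 < n.down}
  let D : J → Type u := fun n =>
    haveI := hH n.1.down
    CartDual.D R (A ⧸ SGA3b.torsionIdeal R A n.1.down)
  have hcc : ∀ n, haveI := hH n; Coalgebra.IsCocomm R (A ⧸ SGA3b.torsionIdeal R A n) := fun n =>
    haveI := hH n; isCocomm_quotient (R := R) (SGA3b.torsionIdeal R A n)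
  let (n : J) : CommRing (D n) := by
    haveI := hH n.1.down; haveI := hcc n.1.down; exact inferInstanceAs (CommRing (CartDual.D R _))
  let (n : J) : Algebra R (D n) := by
    haveI := hH n.1.down; haveI := hcc n.1.down; exact inferInstanceAs (Algebra R (CartDual.D R _))
  have (n : J) : Module.Finite R (D n) := by
    haveI := hH n.1.down; haveI := hcc n.1.down
    haveI := finite_torsion e' hfg' n.1.down n.2
    haveI := projective_torsion e' n.1.down
    exact inferInstanceAs (Module.Finite R (CartDual.D R _))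
  have (n : J) : Algebra.Etale R (D n) := by
    haveI := hH n.1.down; haveI := hcc n.1.down
    haveI := finite_torsion e' hfg' n.1.down n.2
    haveI := projective_torsion e' n.1.down
    exact etale_dual e' hfg' n.1.down n.2
  obtain ⟨T, hgood, hT⟩ := exists_good_all L0 hinj K D
  obtain ⟨het, hfin, hic⟩ := hgood
  have := het; have := hfin; have := hic
  have : FaithfulSMul R T := (faithfulSMul_iff_algebraMap_injective R T).mpr fun a b hab =>
    hinj (congrArg Subtype.val hab)
  refine ⟨T, inferInstance, inferInstance, het, hfin, inferInstance, isDiag_of_local T.val Subtype.val_injective e0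
    fun P _ => ?_⟩
  suffices hP : _ from
    (exists_iso_of_points hft hconst (Localization.AtPrime P) hP).elim fun NP h => h.elim fun i h' =>
      ⟨NP, i, h'.2⟩
  intro n hn _ _ _ _ _ S _ _ _ _ _ hS χ
  obtain ⟨en⟩ := quotEquiv e0 n
  have := finite_quot hfg hn
  let G := N ⧸ (powMonoidHom n : N →* N).range
  let a : L0 ⊗[R] CartDual.D R (A ⧸ SGA3b.torsionIdeal R A n) ≃ₐ[L0] (G → L0) := AlgEquiv.ofBijective _ (dualToFun_bijective en)
  exact exists_point_local L0 T (fun χ d => hT ⟨⟨n⟩, hn⟩ χ d) a P S hS χ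

end Main

end Groth.Agent.CommAlg4.IsoNormal
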