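import Groth.Agent.FF.LocRing
import Groth.Agent.FF.LinSys
import Mathlib

/-! The Jacobian criterion at a place of a projective curve model. -/

set_option autoImplicit false
set_option backward.isDefEq.respectTransparency false

open FunFld WithZero MvPolynomial Groth.Agent.FF
open scoped Classical

namespace Groth.Agent.CommAlg4.JacobianCrit

variable {k K : Type*} [Field k] [Field K] [Algebra k K] {n : ℕ} (P : Place k K) (y : Fin n → K) (c : Fin n → k)

/-- First-order expansion at the point. -/
theorem taylor (hc : ∀ j, P.1 (y j - algebraMap k K (c j)) < 1) (G : MvPolynomial (Fin n) k) :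
    P.1 (aeval y G - algebraMap k K (eval c G) -
      ∑ j, algebraMap k K (eval c (pderiv j G)) * (y j - algebraMap k K (c j))) ≤ exp (-2 : ℤ) := by
  have hm : ∀ j, P.1 (y j - algebraMap k K (c j)) ≤ exp (-1 : ℤ) := fun j => by
    simpa using pow_le_exp_neg (hc j) 1
  have hlin : ∀ H : MvPolynomial (Fin n) k,
      P.1 (∑ j, algebraMap k K (eval c (pderiv j H)) * (y j - algebraMap k K (c j))) ≤ exp (-1 : ℤ) := fun H =>
    P.1.map_sum_le fun j _ => by
      rw [map_mul]; exact (mul_le_of_le_one_left' (P.2.1 _)).trans (hm j)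
  induction G using MvPolynomial.induction_on with
  | C a => simp
  | add p q hp hq =>
    refine le_trans (le_of_eq (congrArg P.1 ?_)) ((P.1.map_add _ _).trans (max_le hp hq))
    simp only [map_add, add_mul, Finset.sum_add_distrib]
    ring
  | mul_X p i hp =>
    have e : ∑ j, algebraMap k K (eval c (pderiv j (p * X i))) * (y j - algebraMap k K (c j)) =
        algebraMap k K (c i) * (∑ j, algebraMap k K (eval c (pderiv j p)) * (y j - algebraMap k K (c j))) +
          algebraMap k K (eval c p) * (y i - algebraMap k K (c i)) := by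
      rw [Finset.mul_sum]
      rw [show algebraMap k K (eval c p) * (y i - algebraMap k K (c i)) =
        ∑ j, algebraMap k K (if j = i then eval c p else 0) * (y j - algebraMap k K (c j)) by
          rw [Finset.sum_eq_single i (fun j _ hj => by rw [if_neg hj, map_zero, zero_mul])
            (fun h => absurd (Finset.mem_univ i) h), if_pos rfl], ← Finset.sum_add_distrib]
      refine Finset.sum_congr rfl fun j _ => ?_
      rw [Derivation.leibniz, pderiv_X, smul_eq_mul, smul_eq_mul]
      by_cases h : j = i
      · subst h; simp; ring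
      · simp [h, Pi.single_eq_of_ne (Ne.symm h)]; ring
    have h1 : P.1 ((∑ j, algebraMap k K (eval c (pderiv j p)) * (y j - algebraMap k K (c j))) *
        (y i - algebraMap k K (c i))) ≤ exp (-2 : ℤ) := by
      rw [map_mul]
      refine (mul_le_mul' (hlin p) (hm i)).trans_eq ?_
      rw [← exp_add]; norm_num
    refine le_trans (le_of_eq (congrArg P.1 ?_)) ((P.1.map_add _ _).trans (max_le
      (show P.1 ((aeval y p - algebraMap k K (eval c p) -
        ∑ j, algebraMap k K (eval c (pderiv j p)) * (y j - algebraMap k K (c j))) * y i) ≤ exp (-2 : ℤ) from ?_) h1))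
    · rw [e, map_mul (aeval y), aeval_X, map_mul (eval c), eval_X, map_mul (algebraMap k K)]
      ring
    · rw [map_mul]
      refine (mul_le_mul' hp ?_).trans_eq (mul_one _)
      rw [← sub_add_cancel (y i) (algebraMap k K (c i))]
      exact (P.1.map_add _ _).trans (max_le (hc i).le (P.2.1 _))

/-- Linear functional of first order. -/
noncomputable def dv (v : Fin n → k) (G : MvPolynomial (Fin n) k) : k := ∑ j, eval c (pderiv j G) * v j

theorem dv_add (v : Fin n → k) (G H : MvPolynomial (Fin n) k) : dv c v (G + H) = dv c v G + dv c v H := by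
  simp only [dv, map_add, add_mul, Finset.sum_add_distrib]

theorem dv_mul (v : Fin n → k) (G H : MvPolynomial (Fin n) k) :
    dv c v (G * H) = eval c G * dv c v H + eval c H * dv c v G := by
  simp only [dv, Derivation.leibniz, smul_eq_mul, map_add, map_mul, Finset.mul_sum, ← Finset.sum_add_distrib]
  exact Finset.sum_congr rfl fun j _ => by ring

/-- The tangent space. -/
def tangent {r : ℕ} (g : Fin r → MvPolynomial (Fin n) k) : Submodule k (Fin n → k) where
  carrier := {v | ∀ i, dv c v (g i) = 0}
  add_mem' {v w} hv hw i := by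
    show dv c (v + w) (g i) = 0
    simp only [dv, Pi.add_apply, mul_add, Finset.sum_add_distrib]
    exact (congrArg₂ (· + ·) (hv i) (hw i)).trans (add_zero 0)
  zero_mem' i := by simp [dv]
  smul_mem' a v hv i := by
    show dv c (a • v) (g i) = 0
    have e : dv c (a • v) (g i) = a * dv c v (g i) := by
      simp only [dv, Pi.smul_apply, smul_eq_mul, Finset.mul_sum]
      exact Finset.sum_congr rfl fun j _ => by ring
    rw [e, hv i, mul_zero]

variable {P y c} {r : ℕ} {g : Fin r → MvPolynomial (Fin n) k}

theorem eval_eq_zero (hc : ∀ j, P.1 (y j - algebraMap k K (c j)) < 1) {G : MvPolynomial (Fin n) k}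
    (hG : P.1 (aeval y G) < 1) : eval c G = 0 := by
  by_contra h0
  have hsum : P.1 (∑ j, algebraMap k K (eval c (pderiv j G)) * (y j - algebraMap k K (c j))) < 1 :=
    P.1.map_sum_lt one_ne_zero fun j _ => by
      rw [map_mul]; exact (mul_le_of_le_one_left' (P.2.1 _)).trans_lt (hc j)
  have h1 := (taylor P y c hc G).trans_lt (exp_zero.symm.trans_gt (exp_lt_exp.mpr (by norm_num : (-2 : ℤ) < 0)))
  have h2 : P.1 (algebraMap k K (eval c G)) < 1 := by
    rw [show algebraMap k K (eval c G) = aeval y G - (∑ j, algebraMap k K (eval c (pderiv j G)) * (y j - algebraMap k K (c j))) -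
      (aeval y G - algebraMap k K (eval c G) -
        ∑ j, algebraMap k K (eval c (pderiv j G)) * (y j - algebraMap k K (c j))) by ring]
    exact (P.1.map_sub _ _).trans_lt (max_lt ((P.1.map_sub _ _).trans_lt (max_lt hG hsum)) h1)
  rw [val_algebraMap P h0] at h2
  exact lt_irrefl _ h2

/-- Tangent vectors kill the ideal of relations. -/
theorem dv_ker (hc : ∀ j, P.1 (y j - algebraMap k K (c j)) < 1)
    (hker : RingHom.ker (aeval y : MvPolynomial (Fin n) k →ₐ[k] K) = Ideal.span (Set.range g))
    {v : Fin n → k} (hv : v ∈ tangent c g) {G : MvPolynomial (Fin n) k} (hG : aeval y G = 0) : dv c v G = 0 := by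
  have hmem : G ∈ Ideal.span (Set.range g) := hker ▸ hG
  induction hmem using Submodule.span_induction with
  | mem x hx => obtain ⟨i, rfl⟩ := hx; exact hv i
  | zero => simp [dv]
  | add a b ha hb iha ihb =>
    rw [dv_add, iha (RingHom.mem_ker.mp (hker ▸ ha)), ihb (RingHom.mem_ker.mp (hker ▸ hb)), add_zero]
  | smul a b hb ihb =>
    have h0 : aeval y b = 0 := RingHom.mem_ker.mp (hker ▸ hb)
    rw [smul_eq_mul, dv_mul, ihb h0, eval_eq_zero (G := b) hc (by rw [h0, map_zero]; exact zero_lt_one)]
    ring

/-- A nonsingular point has at most a line of tangents. -/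
theorem finrank_tangent_le_one (hc : ∀ j, P.1 (y j - algebraMap k K (c j)) < 1)
    (hker : RingHom.ker (aeval y : MvPolynomial (Fin n) k →ₐ[k] K) = Ideal.span (Set.range g))
    (hfull : ∀ z : K, P.1 z ≤ 1 → ∃ A B : MvPolynomial (Fin n) k, P.1 (aeval y B) = 1 ∧ z * aeval y B = aeval y A) :
    Module.finrank k (tangent c g) ≤ 1 := by
  obtain ⟨π, hπ0, hπ⟩ := exists_uniformizer P
  have hπ1 : P.1 π < 1 := by rw [hπ, ← exp_zero, exp_lt_exp]; norm_num
  obtain ⟨T, B, hB, hT⟩ := hfull π hπ1.le
  have hTv : P.1 (aeval y T) = exp (-1 : ℤ) := by rw [← hT, map_mul, hB, mul_one, hπ]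
  have hT1 : P.1 (aeval y T) < 1 := by rw [hTv, ← exp_zero, exp_lt_exp]; norm_num
  let f : tangent c g →ₗ[k] k :=
    { toFun := fun v => dv c (v : Fin n → k) T
      map_add' := fun v w => by
        simp only [dv, Submodule.coe_add, Pi.add_apply, mul_add, Finset.sum_add_distrib]
      map_smul' := fun a v => by
        simp only [dv, Submodule.coe_smul, Pi.smul_apply, smul_eq_mul, RingHom.id_apply, Finset.mul_sum]
        exact Finset.sum_congr rfl fun j _ => by ring }
  have hinj : Function.Injective f := by
    rw [← LinearMap.ker_eq_bot, Submodule.eq_bot_iff]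
    intro v hv
    change dv c (v : Fin n → k) T = 0 at hv
    apply Subtype.ext
    funext i
    have h1 : P.1 ((y i - algebraMap k K (c i)) / aeval y T) ≤ 1 := by
      rw [map_div₀, hTv, div_le_one₀ (by exact zero_lt_iff.mpr exp_ne_zero)]
      simpa using pow_le_exp_neg (hc i) 1
    obtain ⟨A, W, hW, hA⟩ := hfull _ h1
    have hrel : aeval y ((X i - C (c i)) * W - T * A) = 0 := by
      rw [map_sub, map_mul, map_mul, map_sub, aeval_X, aeval_C, ← hA]
      have : aeval y T ≠ 0 := fun h => exp_ne_zero (hTv.symm.trans (by rw [h, map_zero]))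
      field_simp
      ring
    have h2 := dv_ker hc hker v.2 hrel
    have hW0 : eval c W ≠ 0 := fun h => by
      have h3 := taylor P y c hc W
      rw [h, map_zero, sub_zero] at h3
      have hsum : P.1 (∑ j, algebraMap k K (eval c (pderiv j W)) * (y j - algebraMap k K (c j))) < 1 :=
        P.1.map_sum_lt one_ne_zero fun j _ => by
          rw [map_mul]; exact (mul_le_of_le_one_left' (P.2.1 _)).trans_lt (hc j)
      have h4 : P.1 (aeval y W) < 1 := by
        rw [← sub_add_cancel (aeval y W) (∑ j, algebraMap k K (eval c (pderiv j W)) * (y j - algebraMap k K (c j)))]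
        exact (P.1.map_add _ _).trans_lt (max_lt (h3.trans_lt (exp_zero.symm.trans_gt
          (exp_lt_exp.mpr (by norm_num : (-2 : ℤ) < 0)))) hsum)
      rw [hW] at h4
      exact lt_irrefl _ h4
    have hxi : dv c (v : Fin n → k) (X i - C (c i)) = (v : Fin n → k) i := by
      simp only [dv, map_sub, pderiv_X, pderiv_C, sub_zero]
      rw [Finset.sum_eq_single i (fun j _ hj => by simp [Pi.single_eq_of_ne (Ne.symm hj)])
        (fun h => absurd (Finset.mem_univ i) h)]
      simp
    have hsub : ∀ G H : MvPolynomial (Fin n) k, dv c (v : Fin n → k) (G - H) =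
        dv c (v : Fin n → k) G - dv c (v : Fin n → k) H := fun G H => by
      simp only [dv, map_sub, sub_mul, Finset.sum_sub_distrib]
    rw [hsub, dv_mul, dv_mul, hxi, hv, eval_eq_zero hc hT1, map_sub, eval_X, eval_C] at h2
    have : eval c W * (v : Fin n → k) i = 0 := by linear_combination h2
    exact (mul_eq_zero.mp this).resolve_left hW0
  have := LinearMap.finrank_le_finrank_of_injective hinj
  rwa [Module.finrank_self] at this

theorem eval_eq_zero_iff (hc : ∀ j, P.1 (y j - algebraMap k K (c j)) < 1) (G : MvPolynomial (Fin n) k) :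
    P.1 (aeval y G) < 1 ↔ eval c G = 0 := by
  refine ⟨eval_eq_zero hc, fun h => ?_⟩
  have h3 := taylor P y c hc G
  rw [h, map_zero, sub_zero] at h3
  rw [← sub_add_cancel (aeval y G) (∑ j, algebraMap k K (eval c (pderiv j G)) * (y j - algebraMap k K (c j)))]
  refine (P.1.map_add _ _).trans_lt (max_lt (h3.trans_lt (exp_zero.symm.trans_gt
    (exp_lt_exp.mpr (by norm_num : (-2 : ℤ) < 0)))) (P.1.map_sum_lt one_ne_zero fun j _ => ?_))
  rw [map_mul]; exact (mul_le_of_le_one_left' (P.2.1 _)).trans_lt (hc j)

/-- The polynomial form of the first-order expansion. -/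
theorem taylor_mem (G : MvPolynomial (Fin n) k) :
    G - C (eval c G) - ∑ j, C (eval c (pderiv j G)) * (X j - C (c j)) ∈
      Ideal.span (Set.range fun j => X j - C (c j)) ^ 2 := by
  set M := Ideal.span (Set.range fun j => X j - C (c j)) with hM
  have hmem : ∀ j, X j - C (c j) ∈ M := fun j => Ideal.subset_span ⟨j, rfl⟩
  induction G using MvPolynomial.induction_on with
  | C a => simp
  | add p q hp hq =>
    have e := add_mem hp hq
    convert e using 1
    simp only [map_add, add_mul, Finset.sum_add_distrib]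
    ring
  | mul_X p i hp =>
    have e : ∑ j, C (eval c (pderiv j (p * X i))) * (X j - C (c j)) =
        C (c i) * (∑ j, C (eval c (pderiv j p)) * (X j - C (c j))) + C (eval c p) * (X i - C (c i)) := by
      rw [Finset.mul_sum]
      rw [show C (eval c p) * (X i - C (c i)) = ∑ j, C (if j = i then eval c p else 0) * (X j - C (c j)) by
          rw [Finset.sum_eq_single i (fun j _ hj => by rw [if_neg hj, map_zero, zero_mul])
            (fun h => absurd (Finset.mem_univ i) h), if_pos rfl], ← Finset.sum_add_distrib]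
      refine Finset.sum_congr rfl fun j _ => ?_
      rw [Derivation.leibniz, pderiv_X, smul_eq_mul, smul_eq_mul]
      by_cases h : j = i
      · subst h; simp; ring
      · simp [h, Pi.single_eq_of_ne (Ne.symm h)]; ring
    have h1 : (∑ j, C (eval c (pderiv j p)) * (X j - C (c j))) * (X i - C (c i)) ∈ M ^ 2 := by
      rw [sq]
      exact Ideal.mul_mem_mul (Ideal.sum_mem _ fun j _ => M.mul_mem_left _ (hmem j)) (hmem i)
    have e2 := add_mem (Ideal.mul_mem_right (X i) _ hp) h1
    convert e2 using 1
    rw [e, map_mul (eval c), eval_X, map_mul C]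
    ring

theorem nakayama_principal {A : Type*} [CommRing A] [IsLocalRing A] [IsNoetherianRing A] {t : A}
    (hle : IsLocalRing.maximalIdeal A ≤ Ideal.span {t} ⊔ IsLocalRing.maximalIdeal A • IsLocalRing.maximalIdeal A) :
    IsLocalRing.maximalIdeal A ≤ Ideal.span {t} :=
  Submodule.le_of_le_smul_of_le_jacobson_bot (IsNoetherian.noetherian _) (IsLocalRing.maximalIdeal_le_jacobson ⊥) hle

/-- A tangent line forces the local ring to be the valuation ring. -/
theorem full_of_finrank_le_one (hc : ∀ j, P.1 (y j - algebraMap k K (c j)) < 1)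
    (hker : RingHom.ker (aeval y : MvPolynomial (Fin n) k →ₐ[k] K) = Ideal.span (Set.range g))
    (hfrac : IntermediateField.adjoin k (Set.range y) = ⊤)
    (hT : Module.finrank k (tangent c g) ≤ 1) (z : K) (hz : P.1 z ≤ 1) :
    ∃ A B : MvPolynomial (Fin n) k, P.1 (aeval y B) = 1 ∧ z * aeval y B = aeval y A := by
  set M := Ideal.span (Set.range fun j => X j - C (c j)) with hM
  set I := RingHom.ker (aeval y : MvPolynomial (Fin n) k →ₐ[k] K) with hI
  -- first-order forms vanishing on the curve
  let ℓ : (Fin n → k) →ₗ[k] MvPolynomial (Fin n) k := Fintype.linearCombination k fun j => X j - C (c j)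
  have hℓ : ∀ w, ℓ w = ∑ j, C (w j) * (X j - C (c j)) := fun w => by
    simp [ℓ, Fintype.linearCombination_apply, MvPolynomial.smul_eq_C_mul]
  let V : Submodule k (Fin n → k) := ((I ⊔ M ^ 2).restrictScalars k).comap ℓ
  have hgrad : ∀ i, (fun j => eval c (pderiv j (g i))) ∈ V := fun i => by
    show ℓ _ ∈ I ⊔ M ^ 2
    have hgi : g i ∈ I := hker.symm ▸ Ideal.subset_span ⟨i, rfl⟩
    have h0 : eval c (g i) = 0 := eval_eq_zero hc (by rw [RingHom.mem_ker.mp hgi, map_zero]; exact zero_lt_one)
    have h := taylor_mem (c := c) (g i)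
    rw [h0, map_zero, sub_zero] at h
    rw [hℓ, show (∑ j, C (eval c (pderiv j (g i))) * (X j - C (c j))) = g i -
      (g i - ∑ j, C (eval c (pderiv j (g i))) * (X j - C (c j))) by ring]
    exact sub_mem (Submodule.mem_sup_left hgi) (Submodule.mem_sup_right h)
  obtain ⟨lam, hlam⟩ : ∃ lam : Fin n → k, V ⊔ Submodule.span k {lam} = ⊤ := by
    let J : Matrix (Fin r) (Fin n) k := Matrix.of fun i j => eval c (pderiv j (g i))
    have hker' : LinearMap.ker J.mulVecLin = tangent c g := by
      ext v
      rw [LinearMap.mem_ker, Matrix.mulVecLin_apply, funext_iff]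
      exact Iff.rfl
    have hrow : Submodule.span k (Set.range J.row) ≤ V :=
      Submodule.span_le.mpr (by rintro _ ⟨i, rfl⟩; exact hgrad i)
    have h1 : n ≤ Module.finrank k V + 1 := by
      have ha := LinearMap.finrank_range_add_finrank_ker J.mulVecLin
      rw [Module.finrank_fin_fun, hker'] at ha
      have hb : Module.finrank k (Submodule.span k (Set.range J.row)) = J.rank := (Matrix.rank_eq_finrank_span_row J).symm
      have hcc := Submodule.finrank_mono hrow
      change J.rank + _ = n at ha
      omega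
    by_cases htop : V = ⊤
    · exact ⟨0, by rw [htop]; simp⟩
    · obtain ⟨lam, -, hnot⟩ := SetLike.exists_of_lt (lt_top_iff_ne_top.mpr htop)
      refine ⟨lam, Submodule.eq_top_of_finrank_eq (le_antisymm (Submodule.finrank_le _) ?_)⟩
      have hlt : V < V ⊔ Submodule.span k {lam} := left_lt_sup.mpr fun h =>
        hnot (h (Submodule.mem_span_singleton_self lam))
      have := Submodule.finrank_lt_finrank_of_lt hlt
      rw [Module.finrank_fin_fun]
      omega
  set T := ℓ lam with hTdef
  have hXle : ∀ j, X j - C (c j) ∈ Ideal.span {T} ⊔ (I ⊔ M ^ 2) := fun j => by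
    have hj : Pi.single j (1 : k) ∈ V ⊔ Submodule.span k {lam} := hlam ▸ trivial
    obtain ⟨v, hv, w, hw, hvw⟩ := Submodule.mem_sup.mp hj
    obtain ⟨a, rfl⟩ := Submodule.mem_span_singleton.mp hw
    have e : X j - C (c j) = ℓ v + ℓ (a • lam) := by
      rw [← map_add, hvw, hℓ, Finset.sum_eq_single j (fun i _ hi => by rw [Pi.single_eq_of_ne hi, map_zero, zero_mul])
        (fun h => absurd (Finset.mem_univ j) h), Pi.single_eq_same, map_one, one_mul]
    rw [e, map_smul, MvPolynomial.smul_eq_C_mul]
    exact add_mem (Submodule.mem_sup_right hv) (Submodule.mem_sup_left (Ideal.mul_mem_left _ _ (Ideal.mem_span_singleton_self T)))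
  have hMle : M ≤ Ideal.span {T} ⊔ (I ⊔ M ^ 2) := Ideal.span_le.mpr (by rintro _ ⟨j, rfl⟩; exact hXle j)
  -- the local ring
  let R := MvPolynomial (Fin n) k ⧸ I
  let ψ : R →+* K := RingHom.kerLift (aeval y : MvPolynomial (Fin n) k →ₐ[k] K).toRingHom
  have hψinj : Function.Injective ψ := RingHom.kerLift_injective _
  have hψmk : ∀ G, ψ (Ideal.Quotient.mk I G) = aeval y G := fun G => RingHom.kerLift_mk _ G
  haveI : IsDomain R := hψinj.isDomain ψ
  let q : Ideal R := M.map (Ideal.Quotient.mk I)
  have hIM : I ≤ M := fun G hG => by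
    have h0 : eval c G = 0 := eval_eq_zero hc (by rw [RingHom.mem_ker.mp hG, map_zero]; exact zero_lt_one)
    have h := taylor_mem (c := c) G
    rw [h0, map_zero, sub_zero] at h
    rw [← sub_add_cancel G (∑ j, C (eval c (pderiv j G)) * (X j - C (c j)))]
    exact add_mem (Ideal.pow_le_self two_ne_zero h) (Ideal.sum_mem _ fun j _ => M.mul_mem_left _ (Ideal.subset_span ⟨j, rfl⟩))
  have hMiff : ∀ G, G ∈ M ↔ eval c G = 0 := fun G => by
    refine ⟨fun hG => ?_, fun h0 => ?_⟩
    · have : M ≤ RingHom.ker (eval c) := Ideal.span_le.mpr (by rintro _ ⟨j, rfl⟩; simp)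
      exact this hG
    · have h := taylor_mem (c := c) G
      rw [h0, map_zero, sub_zero] at h
      rw [← sub_add_cancel G (∑ j, C (eval c (pderiv j G)) * (X j - C (c j)))]
      exact add_mem (Ideal.pow_le_self two_ne_zero h) (Ideal.sum_mem _ fun j _ => M.mul_mem_left _ (Ideal.subset_span ⟨j, rfl⟩))
  have hq : ∀ G, Ideal.Quotient.mk I G ∈ q ↔ P.1 (aeval y G) < 1 := fun G => by
    rw [eval_eq_zero_iff hc, ← hMiff, Ideal.mem_quotient_iff_mem hIM]
  haveI hqp : q.IsPrime := by
    refine ⟨fun h => ?_, fun {a b} hab => ?_⟩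
    · have := (hq 1).mp (h ▸ trivial)
      simp at this
    · obtain ⟨A, rfl⟩ := Ideal.Quotient.mk_surjective a
      obtain ⟨B, rfl⟩ := Ideal.Quotient.mk_surjective b
      rw [← map_mul, hq, eval_eq_zero_iff hc, map_mul, mul_eq_zero, ← eval_eq_zero_iff hc, ← eval_eq_zero_iff hc, ← hq, ← hq] at hab
      exact hab
  let S := Localization.AtPrime q
  haveI : IsNoetherianRing S := IsLocalization.isNoetherianRing q.primeCompl S inferInstance
  haveI : IsDomain S := IsLocalization.isDomain_localization q.primeCompl_le_nonZeroDivisors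
  have hunit : ∀ a : q.primeCompl, IsUnit (ψ a) := fun a => by
    refine Ne.isUnit fun h => a.2 ?_
    rw [hψinj (h.trans (map_zero ψ).symm)]
    exact zero_mem q
  let Ψ : S →+* K := IsLocalization.lift hunit
  -- the maximal ideal is principal
  let αS : MvPolynomial (Fin n) k →+* S := (algebraMap R S).comp (Ideal.Quotient.mk I)
  have hmax : IsLocalRing.maximalIdeal S = M.map αS := by
    rw [← IsLocalization.AtPrime.map_eq_maximalIdeal q S, Ideal.map_map]
  have hprinc : IsLocalRing.maximalIdeal S = Ideal.span {αS T} := by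
    have hle : IsLocalRing.maximalIdeal S ≤
        Ideal.span {αS T} ⊔ IsLocalRing.maximalIdeal S • IsLocalRing.maximalIdeal S := by
      conv_lhs => rw [hmax]
      refine (Ideal.map_mono hMle).trans ?_
      rw [Ideal.map_sup, Ideal.map_sup, Ideal.map_span, Set.image_singleton, Ideal.map_pow, ← hmax, sq,
        show Ideal.map αS I = ⊥ by
          rw [← Ideal.map_map, Ideal.map_quotient_self, Ideal.map_bot]]
      simp
    refine le_antisymm (by with_reducible_and_instances exact nakayama_principal (A := S) (t := αS T) hle) ?_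
    rw [Ideal.span_singleton_le_iff_mem, hmax]
    refine Ideal.mem_map_of_mem αS ?_
    rw [hTdef, hℓ]
    exact Ideal.sum_mem _ fun j _ => M.mul_mem_left _ (Ideal.subset_span ⟨j, rfl⟩)
  have hpr : (IsLocalRing.maximalIdeal S).IsPrincipal := ⟨⟨αS T, hprinc⟩⟩
  haveI hVR : ValuationRing S := ((tfae_of_isNoetherianRing_of_isLocalRing_of_isDomain (R := S)).out 4 1).mp hpr
  have hrep : ∀ w : S, ∃ A B : MvPolynomial (Fin n) k, P.1 (aeval y B) = 1 ∧ Ψ w * aeval y B = aeval y A := fun w => by
    obtain ⟨⟨a, b⟩, hab⟩ := IsLocalization.surj q.primeCompl w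
    obtain ⟨A, rfl⟩ := Ideal.Quotient.mk_surjective a
    obtain ⟨⟨B', hB'⟩, rfl⟩ : ∃ b', b' = b := ⟨b, rfl⟩
    obtain ⟨B, rfl⟩ := Ideal.Quotient.mk_surjective B'
    refine ⟨A, B, le_antisymm ?_ (not_lt.mp fun h => hB' ((hq B).mpr h)), ?_⟩
    · by_contra hgt
      have hle : ∀ H : MvPolynomial (Fin n) k, P.1 (aeval y H) ≤ 1 := fun H => by
        induction H using MvPolynomial.induction_on with
        | C a => rw [aeval_C]; exact P.2.1 a
        | add p q hp hq => rw [map_add]; exact (P.1.map_add _ _).trans (max_le hp hq)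
        | mul_X p i hp =>
          rw [map_mul, map_mul, aeval_X]
          refine mul_le_one' hp ?_
          rw [← sub_add_cancel (y i) (algebraMap k K (c i))]
          exact (P.1.map_add _ _).trans (max_le (hc i).le (P.2.1 _))
      exact hgt (hle B)
    · have h := congrArg Ψ hab
      rw [map_mul, IsLocalization.lift_eq, IsLocalization.lift_eq, hψmk, hψmk] at h
      exact h
  rcases eq_or_ne z 0 with rfl | hz0
  · exact ⟨0, 1, by simp, by simp⟩
  obtain ⟨a, b, hab⟩ : ∃ a b : S, z * Ψ b = Ψ a ∧ Ψ b ≠ 0 := by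
    have hzmem : z ∈ IntermediateField.adjoin k (Set.range y) := hfrac ▸ trivial
    obtain ⟨A, B, hAB⟩ := (IntermediateField.mem_adjoin_range_iff k _ z).mp hzmem
    have hB0 : aeval y B ≠ 0 := fun h => hz0 (by rw [hAB, h, div_zero])
    have eA : ∀ G, Ψ (αS G) = aeval y G := fun G => (IsLocalization.lift_eq hunit _).trans (hψmk G)
    exact ⟨αS A, αS B, by rw [eA, eA, hAB, div_mul_cancel₀ _ hB0], by rw [eA]; exact hB0⟩
  obtain ⟨w, hw | hw⟩ := hVR.toPreValuationRing.cond' a b
  · -- `a * w = b`
    have hzw : z * Ψ w = 1 := by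
      have h := congrArg Ψ hw
      rw [map_mul, ← hab.1] at h
      exact mul_left_cancel₀ hab.2 (by linear_combination h)
    by_cases hu : IsUnit w
    · obtain ⟨wi, hwi⟩ := hu.exists_left_inv
      have : z = Ψ wi := by
        calc z = z * (Ψ wi * Ψ w) := by rw [← map_mul, hwi, map_one, mul_one]
          _ = Ψ wi := by rw [mul_left_comm, hzw, mul_one]
      rw [this]; exact hrep wi
    · exfalso
      have hwm : w ∈ IsLocalRing.maximalIdeal S := hu
      rw [hprinc, Ideal.mem_span_singleton'] at hwm
      obtain ⟨s, rfl⟩ := hwm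
      obtain ⟨A, B, hB, hsB⟩ := hrep s
      have hTy : P.1 (aeval y T) < 1 := by
        rw [← hq, hTdef, hℓ]
        exact Ideal.mem_map_of_mem _ (Ideal.sum_mem _ fun j _ => M.mul_mem_left _ (Ideal.subset_span ⟨j, rfl⟩))
      have hA1 : P.1 (Ψ s) ≤ 1 := by
        have h := congrArg P.1 hsB
        rw [map_mul, hB, mul_one] at h
        rw [h]
        by_contra hgt
        push Not at hgt
        have h1 := taylor P y c hc A
        have h2 : P.1 (algebraMap k K (eval c A) + ∑ j, algebraMap k K (eval c (pderiv j A)) * (y j - algebraMap k K (c j))) ≤ 1 :=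
          (P.1.map_add _ _).trans (max_le (P.2.1 _) (P.1.map_sum_le fun j _ => by
            rw [map_mul]; exact mul_le_one' (P.2.1 _) (hc j).le))
        have h3 : P.1 (aeval y A) ≤ 1 := by
          rw [show aeval y A = (aeval y A - algebraMap k K (eval c A) - ∑ j, algebraMap k K (eval c (pderiv j A)) * (y j - algebraMap k K (c j))) +
            (algebraMap k K (eval c A) + ∑ j, algebraMap k K (eval c (pderiv j A)) * (y j - algebraMap k K (c j))) by ring]
          exact (P.1.map_add _ _).trans (max_le (h1.trans ((exp_le_exp.mpr (by norm_num : (-2 : ℤ) ≤ 0)).trans_eq exp_zero)) h2)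
        exact not_lt.mpr h3 hgt
      have h1 : P.1 (z * Ψ (s * αS T)) < 1 := by
        rw [map_mul, map_mul Ψ, map_mul]
        refine lt_of_le_of_lt (mul_le_of_le_one_left' hz) (lt_of_le_of_lt (mul_le_of_le_one_left' hA1) ?_)
        show P.1 (Ψ (algebraMap R S (Ideal.Quotient.mk I T))) < 1
        rw [IsLocalization.lift_eq, hψmk]; exact hTy
      rw [hzw, map_one] at h1
      exact lt_irrefl _ h1
  · -- `b * w = a`
    have : z = Ψ w := by
      have h := congrArg Ψ hw
      rw [map_mul, ← hab.1] at h
      exact mul_left_cancel₀ hab.2 (by linear_combination -h)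
    rw [this]; exact hrep w

end Groth.Agent.CommAlg4.JacobianCrit
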