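import Groth.Agent.CommAlg4.JacobianCrit
import Mathlib

/-! From homogeneous equations to the affine chart of a projective map at a place. -/

set_option autoImplicit false
set_option backward.isDefEq.respectTransparency false

open FunFld WithZero MvPolynomial Groth.Agent.FF Groth.Agent.CommAlg4.JacobianCrit
open scoped Classical

namespace Groth.Agent.CommAlg4.JacobianModel

variable {k K : Type*} [Field k] [Field K] [Algebra k K] {n : ℕ}

/-- Setting the first variable to `1`. -/
noncomputable def dehom : MvPolynomial (Fin (n + 1)) k →ₐ[k] MvPolynomial (Fin n) k :=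
  aeval (Fin.cases (1 : MvPolynomial (Fin n) k) X)

theorem aeval_dehom {A : Type*} [CommRing A] [Algebra k A] (w : Fin (n + 1) → A) (hw : w 0 = 1)
    (F : MvPolynomial (Fin (n + 1)) k) : aeval (fun j : Fin n => w j.succ) (dehom F) = aeval w F := by
  have e : (aeval (fun j : Fin n => w j.succ)).comp (dehom (k := k) (n := n)) = aeval w :=
    MvPolynomial.algHom_ext fun i => by
      refine Fin.cases ?_ (fun j => ?_) i <;> simp [dehom, hw]
  exact AlgHom.congr_fun e F

theorem pderiv_dehom (j : Fin n) (F : MvPolynomial (Fin (n + 1)) k) :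
    pderiv j (dehom F) = dehom (pderiv j.succ F) := by
  induction F using MvPolynomial.induction_on with
  | C a => simp [dehom]
  | add p q hp hq => simp only [map_add, hp, hq]
  | mul_X p i hp =>
    rw [map_mul, Derivation.leibniz, hp, Derivation.leibniz, map_add, smul_eq_mul, smul_eq_mul, smul_eq_mul, smul_eq_mul,
      map_mul, map_mul]
    congr 1
    refine congrArg (dehom p * ·) ?_
    refine Fin.cases ?_ (fun l => ?_) i
    · simp [dehom, pderiv_X, Pi.single_eq_of_ne (Fin.succ_ne_zero j).symm]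
    · by_cases h : l = j
      · subst h; simp [dehom, pderiv_X]
      · simp [dehom, pderiv_X, Pi.single_apply, h]

theorem aeval_smul_homog {σ A : Type*} [CommRing A] [Algebra k A] {F : MvPolynomial σ k} {N : ℕ}
    (hF : F.IsHomogeneous N) (a : A) (w : σ → A) :
    aeval (fun i => a * w i) F = a ^ N * aeval w F := by
  conv_lhs => rw [F.as_sum]
  conv_rhs => rw [F.as_sum]
  rw [map_sum, map_sum, Finset.mul_sum]
  refine Finset.sum_congr rfl fun m hm => ?_
  rw [aeval_monomial, aeval_monomial]
  simp only [Finsupp.prod, mul_pow, Finset.prod_mul_distrib, Finset.prod_pow_eq_pow_sum]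
  rw [← hF.degree_eq_sum_deg_support hm]
  ring

theorem exists_homog (G : MvPolynomial (Fin n) k) :
    ∃ H : MvPolynomial (Fin (n + 1)) k, H.IsHomogeneous G.totalDegree ∧ dehom H = G := by
  refine ⟨∑ m ∈ G.support, monomial (Finsupp.cons (G.totalDegree - ∑ i, m i) m) (coeff m G),
    IsHomogeneous.sum _ _ _ fun m hm => isHomogeneous_monomial _ ?_, ?_⟩
  · have h1 : ∑ i, m i ≤ G.totalDegree := by
      refine le_trans (le_of_eq ?_) (le_totalDegree hm)
      rw [Finsupp.sum_fintype _ _ fun _ => rfl]
    rw [Finsupp.degree_eq_sum, Fin.sum_univ_succ]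
    simp only [Finsupp.cons_zero, Finsupp.cons_succ]
    omega
  · conv_rhs => rw [G.as_sum]
    rw [map_sum]
    refine Finset.sum_congr rfl fun m _ => ?_
    rw [dehom, aeval_monomial, monomial_eq, Finsupp.prod_fintype _ _ fun _ => pow_zero _,
      Finsupp.prod_fintype _ _ fun _ => pow_zero _, Fin.prod_univ_succ]
    simp

variable {P : Place k K} {φ : Fin (n + 1) → K} {r : ℕ} {f : Fin r → MvPolynomial (Fin (n + 1)) k}

theorem ker_eq (hφ0 : φ 0 ≠ 0) (hhom : ∀ i, (f i).IsHomogeneous (f i).totalDegree)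
    (hgen : Ideal.span (Set.range f) =
      RingHom.ker (MvPolynomial.aeval (R := k) fun i => Polynomial.C (φ i) * Polynomial.X)) :
    RingHom.ker (aeval fun j : Fin n => φ j.succ / φ 0 : MvPolynomial (Fin n) k →ₐ[k] K) =
      Ideal.span (Set.range fun i => dehom (f i)) := by
  have h0 : φ 0 / φ 0 = 1 := div_self hφ0
  have hmem : ∀ (F : MvPolynomial (Fin (n + 1)) k) (N : ℕ), F.IsHomogeneous N →
      (F ∈ RingHom.ker (MvPolynomial.aeval (R := k) fun i => Polynomial.C (φ i) * Polynomial.X) ↔
        aeval (fun l => φ l / φ 0) F = 0) := by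
    intro F N hF
    have e1 : (fun i => Polynomial.C (φ i) * Polynomial.X) =
        fun i => (Polynomial.X * Polynomial.C (φ 0)) * Polynomial.C (φ i / φ 0) := by
      funext i
      rw [mul_assoc, ← map_mul, mul_div_cancel₀ _ hφ0, mul_comm]
    have e2 : aeval (fun i => Polynomial.C (φ i / φ 0)) F = Polynomial.C (aeval (fun i => φ i / φ 0) F) := by
      have e : (Polynomial.CAlgHom (R := k) (A := K)).comp (aeval fun i => φ i / φ 0) =
          aeval fun i => Polynomial.C (φ i / φ 0) :=
        MvPolynomial.algHom_ext fun i => by simp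
      exact (AlgHom.congr_fun e F).symm
    rw [RingHom.mem_ker, e1, aeval_smul_homog hF, e2, mul_eq_zero, Polynomial.C_eq_zero, or_iff_right]
    exact pow_ne_zero _ (mul_ne_zero Polynomial.X_ne_zero (Polynomial.C_ne_zero.mpr hφ0))
  refine le_antisymm (fun G hG => ?_) (Ideal.span_le.mpr ?_)
  · obtain ⟨H, hH, rfl⟩ := exists_homog G
    have hH0 : H ∈ Ideal.span (Set.range f) := by
      rw [hgen, hmem H _ hH, ← aeval_dehom (fun l => φ l / φ 0) h0]
      exact hG
    have := Ideal.mem_map_of_mem (dehom (k := k) (n := n)) hH0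
    rwa [Ideal.map_span, ← Set.range_comp] at this
  · rintro _ ⟨i, rfl⟩
    show dehom (f i) ∈ RingHom.ker _
    rw [RingHom.mem_ker, aeval_dehom (fun l => φ l / φ 0) h0, ← hmem _ _ (hhom i), ← hgen]
    exact Ideal.subset_span ⟨i, rfl⟩

theorem adjoin_eq_top (hφ0 : φ 0 ≠ 0)
    (hbir : IntermediateField.adjoin k (Set.range fun i => φ i / φ 0) = ⊤) :
    IntermediateField.adjoin k (Set.range fun j : Fin n => φ j.succ / φ 0) = ⊤ := by
  rw [eq_top_iff, ← hbir, IntermediateField.adjoin_le_iff]
  rintro _ ⟨i, rfl⟩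
  refine Fin.cases ?_ (fun j => ?_) i
  · show φ 0 / φ 0 ∈ _
    rw [div_self hφ0]; exact one_mem _
  · exact IntermediateField.subset_adjoin k _ ⟨j, rfl⟩

theorem nonsingular_iff (hmax : IsMax φ P 0) :
    IsNonsingularAt φ P ↔ ∀ z : K, P.1 z ≤ 1 → ∃ A B : MvPolynomial (Fin n) k,
      P.1 (aeval (fun j : Fin n => φ j.succ / φ 0) B) = 1 ∧
        z * aeval (fun j : Fin n => φ j.succ / φ 0) B = aeval (fun j : Fin n => φ j.succ / φ 0) A := by
  have hrange : ratioAlg k φ 0 = (aeval fun j : Fin n => φ j.succ / φ 0 : MvPolynomial (Fin n) k →ₐ[k] K).range := by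
    refine le_antisymm (Algebra.adjoin_le ?_) ?_
    · rintro _ ⟨i, rfl⟩
      refine Fin.cases ?_ (fun j => ?_) i
      · exact ⟨1, by simp [div_self hmax.1]⟩
      · exact ⟨X j, by simp⟩
    · rintro _ ⟨G, rfl⟩
      show (aeval fun j : Fin n => φ j.succ / φ 0) G ∈ _
      induction G using MvPolynomial.induction_on with
      | C a => rw [aeval_C]; exact Subalgebra.algebraMap_mem _ a
      | add p q hp hq => rw [map_add]; exact add_mem hp hq
      | mul_X p i hp => rw [map_mul, aeval_X]; exact mul_mem hp (Algebra.subset_adjoin ⟨i.succ, rfl⟩)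
  constructor
  · intro h z hz
    obtain ⟨u, hu, w, hw, hw1, hzw⟩ := exists_rep (h z hz) hmax
    rw [hrange] at hu hw
    obtain ⟨A, rfl⟩ := hu
    obtain ⟨B, rfl⟩ := hw
    exact ⟨A, B, hw1, hzw⟩
  · intro h z hz
    obtain ⟨A, B, hB, hAB⟩ := h z hz
    exact inLocRing_of_max hmax (hrange ▸ ⟨A, rfl⟩) (hrange ▸ ⟨B, rfl⟩) hB hAB

variable {y : Fin n → K} {c : Fin n → k} {g : Fin r → MvPolynomial (Fin n) k}

/-- There is at least one tangent direction at a nonsingular point. -/
theorem one_le_finrank_tangent [IsAlgClosed k] (hK : IsFunctionField k K)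
    (hc : ∀ j, P.1 (y j - algebraMap k K (c j)) < 1)
    (hker : RingHom.ker (aeval y : MvPolynomial (Fin n) k →ₐ[k] K) = Ideal.span (Set.range g))
    (hfull : ∀ z : K, P.1 z ≤ 1 → ∃ A B : MvPolynomial (Fin n) k, P.1 (aeval y B) = 1 ∧ z * aeval y B = aeval y A) :
    1 ≤ Module.finrank k (tangent c g) := by
  obtain ⟨π, hπ0, hπ⟩ := exists_uniformizer P
  have hy : ∀ j, P.1 ((y j - algebraMap k K (c j)) / π) ≤ 1 := fun j => by
    rw [map_div₀, hπ, div_le_one₀ (by exact zero_lt_iff.mpr exp_ne_zero)]
    simpa using pow_le_exp_neg (hc j) 1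
  choose v hv using fun j => exists_const_near hK P (hy j)
  have h2lt : exp (-2 : ℤ) < exp (-1 : ℤ) := exp_lt_exp.mpr (by norm_num)
  have h1lt : exp (-1 : ℤ) < 1 := (exp_lt_exp.mpr (by norm_num : (-1 : ℤ) < 0)).trans_eq exp_zero
  have hvmem : v ∈ tangent c g := fun i => by
    have hg : aeval y (g i) = 0 := RingHom.mem_ker.mp (hker ▸ Ideal.subset_span ⟨i, rfl⟩)
    have h0 : eval c (g i) = 0 := eval_eq_zero hc (by rw [hg, map_zero]; exact zero_lt_one)
    have ht := taylor P y c hc (g i)
    rw [hg, h0, map_zero, sub_zero, zero_sub, Valuation.map_neg] at ht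
    by_contra hd
    have h1 : P.1 (algebraMap k K (dv c v (g i))) < 1 := by
      rw [show algebraMap k K (dv c v (g i)) =
        (∑ j, algebraMap k K (eval c (pderiv j (g i))) * (y j - algebraMap k K (c j))) / π -
          ∑ j, algebraMap k K (eval c (pderiv j (g i))) * ((y j - algebraMap k K (c j)) / π - algebraMap k K (v j)) by
        rw [dv, map_sum, Finset.sum_div, ← Finset.sum_sub_distrib]
        exact Finset.sum_congr rfl fun j _ => by rw [map_mul]; ring]
      refine (P.1.map_sub _ _).trans_lt (max_lt ?_ (P.1.map_sum_lt one_ne_zero fun j _ => ?_))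
      · rw [map_div₀, hπ, div_lt_one₀ (by exact zero_lt_iff.mpr exp_ne_zero)]
        exact ht.trans_lt h2lt
      · rw [map_mul]; exact (mul_le_of_le_one_left' (P.2.1 _)).trans_lt (hv j)
    rw [val_algebraMap P hd] at h1
    exact lt_irrefl _ h1
  have hv0 : v ≠ 0 := fun h => by
    obtain ⟨A, B, hB, hA⟩ := hfull π (hπ.trans_le h1lt.le)
    have hA1 : P.1 (aeval y A) = exp (-1 : ℤ) := by rw [← hA, map_mul, hB, mul_one, hπ]
    have hA0 : eval c A = 0 := eval_eq_zero hc (hA1.trans_lt h1lt)
    have ht := taylor P y c hc A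
    rw [hA0, map_zero, sub_zero] at ht
    have hlow : ∀ j, P.1 (y j - algebraMap k K (c j)) ≤ exp (-2 : ℤ) := fun j => by
      have h3 := hv j
      rw [h, Pi.zero_apply, map_zero, sub_zero, map_div₀, hπ,
        div_lt_one₀ (by exact zero_lt_iff.mpr exp_ne_zero)] at h3
      rcases eq_or_ne (y j - algebraMap k K (c j)) 0 with h4 | h4
      · rw [h4, map_zero]; exact zero_le
      · have hm := (exp_log ((map_ne_zero P.1).mpr h4)).symm
        rw [hm, exp_lt_exp] at h3
        rw [hm, exp_le_exp]
        omega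
    have : P.1 (aeval y A) ≤ exp (-2 : ℤ) := by
      rw [← sub_add_cancel (aeval y A) (∑ j, algebraMap k K (eval c (pderiv j A)) * (y j - algebraMap k K (c j)))]
      refine (P.1.map_add _ _).trans (max_le ht (P.1.map_sum_le fun j _ => ?_))
      rw [map_mul]; exact (mul_le_of_le_one_left' (P.2.1 _)).trans (hlow j)
    rw [hA1] at this
    exact not_lt.mpr this h2lt
  rw [Nat.one_le_iff_ne_zero, Ne, Submodule.finrank_eq_zero]
  intro hbot
  exact hv0 ((Submodule.mem_bot k).mp (hbot ▸ hvmem))

theorem rank_map_of_bijective {κ : Type*} [Field κ] [Algebra k κ] (hb : Function.Bijective (algebraMap k κ))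
    {m : ℕ} (J : Matrix (Fin m) (Fin n) k) : (J.map (algebraMap k κ)).rank = J.rank := by
  let e : (Fin m → k) ≃ₗ[k] (Fin m → κ) :=
    LinearEquiv.piCongrRight fun _ => LinearEquiv.ofBijective (Algebra.linearMap k κ) hb
  have hd : Module.finrank k κ = 1 := by
    rw [← LinearEquiv.finrank_eq (LinearEquiv.ofBijective (Algebra.linearMap k κ) hb), Module.finrank_self]
  have hr : (LinearMap.range (J.map (algebraMap k κ)).mulVecLin).restrictScalars k =
      (LinearMap.range J.mulVecLin).map e.toLinearMap := by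
    ext w
    rw [Submodule.restrictScalars_mem, LinearMap.mem_range, Submodule.mem_map]
    constructor
    · rintro ⟨x, rfl⟩
      obtain ⟨x', hx'⟩ : ∃ x' : Fin n → k, x = algebraMap k κ ∘ x' := by
        choose x' hx' using fun i => hb.2 (x i)
        exact ⟨x', funext fun i => (hx' i).symm⟩
      refine ⟨J.mulVec x', ⟨x', rfl⟩, funext fun i => ?_⟩
      subst hx'
      show algebraMap k κ (J.mulVec x' i) = _
      rw [RingHom.map_mulVec]
      rfl
    · rintro ⟨u, ⟨x', rfl⟩, rfl⟩
      refine ⟨algebraMap k κ ∘ x', funext fun i => ?_⟩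
      show _ = algebraMap k κ (J.mulVec x' i)
      rw [RingHom.map_mulVec]
      rfl
  have h1 : Module.finrank k ((LinearMap.range J.mulVecLin).map e.toLinearMap) = J.rank :=
    LinearEquiv.finrank_map_eq e _
  have h2 := Module.finrank_mul_finrank k κ (LinearMap.range (J.map (algebraMap k κ)).mulVecLin)
  rw [hd, one_mul] at h2
  show Module.finrank κ (LinearMap.range (J.map (algebraMap k κ)).mulVecLin) = J.rank
  rw [h2, ← h1, ← hr]
  rfl

theorem finrank_tangent_add_rank :
    Module.finrank k (tangent c g) + (Matrix.of fun i j => eval c (pderiv j (g i))).rank = n := by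
  have hker' : LinearMap.ker (Matrix.of fun i j => eval c (pderiv j (g i))).mulVecLin = tangent c g := by
    ext v
    rw [LinearMap.mem_ker, Matrix.mulVecLin_apply, funext_iff]
    exact Iff.rfl
  have ha := LinearMap.finrank_range_add_finrank_ker (Matrix.of fun i j => eval c (pderiv j (g i))).mulVecLin
  rw [Module.finrank_fin_fun, hker'] at ha
  change (Matrix.of fun i j => eval c (pderiv j (g i))).rank + _ = n at ha
  omega

end Groth.Agent.CommAlg4.JacobianModel
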