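import Mathlib

/-! Right resolutions of bounded below complexes by objects of a class closed under nothing. -/
set_option autoImplicit false
set_option linter.style.haveILetI false
set_option backward.isDefEq.respectTransparency false
universe v u
open CategoryTheory CategoryTheory.Limits HomologicalComplex

namespace Groth.Agent.CommAlg4.RightResol

variable {A : Type u} [Category.{v} A] [Abelian A]

/-- Stage of the construction: the last term `L`, the map `α` into it, and the cokernel `π` of the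
incoming differential. -/
structure St (K : CochainComplex A ℕ) (n : ℕ) where
  L : A
  C : A
  π : L ⟶ C
  α : K.X n ⟶ L

variable {I : A → Prop} (emb : A → A) (ι : ∀ X, X ⟶ emb X)
variable (K : CochainComplex A ℕ)

noncomputable def next (n : ℕ) (s : St K n) : St K (n + 1) where
  L := emb (pushout (s.α ≫ s.π) (K.d n (n + 1)))
  C := cokernel (s.π ≫ pushout.inl (s.α ≫ s.π) (K.d n (n + 1)) ≫ ι _)
  π := cokernel.π _
  α := pushout.inr (s.α ≫ s.π) (K.d n (n + 1)) ≫ ι _

noncomputable def st : (n : ℕ) → St K n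
  | 0 => ⟨emb (K.X 0), emb (K.X 0), 𝟙 _, ι (K.X 0)⟩
  | n + 1 => next emb ι K n (st n)

/-- The differential. -/
noncomputable def dd (n : ℕ) : (st emb ι K n).L ⟶ (st emb ι K (n + 1)).L :=
  (st emb ι K n).π ≫ pushout.inl ((st emb ι K n).α ≫ (st emb ι K n).π) (K.d n (n + 1)) ≫ ι _

theorem π_succ (n : ℕ) : dd emb ι K n ≫ (st emb ι K (n + 1)).π = 0 :=
  cokernel.condition _

theorem dd_dd (n : ℕ) : dd emb ι K n ≫ dd emb ι K (n + 1) = 0 :=
  (Category.assoc _ _ _).symm.trans ((congrArg (· ≫ _) (π_succ emb ι K n)).trans zero_comp)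

noncomputable def cx : CochainComplex A ℕ :=
  CochainComplex.of (fun n => (st emb ι K n).L) (dd emb ι K) (dd_dd emb ι K)

theorem cx_d (n : ℕ) : (cx emb ι K).d n (n + 1) = dd emb ι K n :=
  CochainComplex.of_d (fun n => (st emb ι K n).L) (dd emb ι K) n

theorem α_dd (n : ℕ) : (st emb ι K n).α ≫ dd emb ι K n = K.d n (n + 1) ≫ (st emb ι K (n + 1)).α := by
  have h := pushout.condition (f := (st emb ι K n).α ≫ (st emb ι K n).π) (g := K.d n (n + 1))
  show (st emb ι K n).α ≫ (st emb ι K n).π ≫ pushout.inl _ _ ≫ ι _ =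
    K.d n (n + 1) ≫ pushout.inr _ _ ≫ ι _
  simp only [← Category.assoc] at h ⊢
  rw [h]

noncomputable def map : K ⟶ cx emb ι K where
  f n := (st emb ι K n).α
  comm' i j h := by
    obtain rfl : i + 1 = j := h
    rw [cx_d]
    exact α_dd emb ι K i

variable [hι : ∀ X, Mono (ι X)]

theorem exact_pushout {X Y Z T : A} (f : X ⟶ Y) (g : X ⟶ Z) (y : T ⟶ Y) (z : T ⟶ Z)
    (h : y ≫ pushout.inl f g + z ≫ pushout.inr f g = 0) :
    ∃ (T' : A) (p : T' ⟶ T) (_ : Epi p) (x : T' ⟶ X), p ≫ y = x ≫ f ∧ p ≫ z = -(x ≫ g) := by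
  have hex := (IsPushout.of_hasPushout f g).exact_shortComplex
  obtain ⟨T', p, hp, x, hx⟩ := hex.exact_up_to_refinements (biprod.lift y z) (by
    show biprod.lift y z ≫ biprod.desc (pushout.inl f g) (pushout.inr f g) = 0
    rw [biprod.lift_desc]; exact h)
  change p ≫ biprod.lift y z = x ≫ biprod.lift f (-g) at hx
  refine ⟨T', p, hp, x, ?_, ?_⟩
  · simpa using hx =≫ biprod.fst
  · simpa using hx =≫ biprod.snd

theorem invariant : ∀ n : ℕ, Mono (st emb ι K n).α ∧
    ∀ ⦃T : A⦄ (x : T ⟶ K.X n), x ≫ (st emb ι K n).α ≫ (st emb ι K n).π = 0 →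
      ∃ (T' : A) (p : T' ⟶ T) (_ : Epi p) (w : T' ⟶ K.X (n - 1)), p ≫ x = w ≫ K.d (n - 1) n
  | 0 => by
      refine ⟨hι _, fun T x hx => ⟨T, 𝟙 _, inferInstance, 0, ?_⟩⟩
      have : x = 0 := by
        rw [← cancel_mono (ι (K.X 0)), zero_comp]
        exact (congrArg (x ≫ ·) (Category.comp_id _)).symm.trans hx
      simp [this]
  | n + 1 => by
      obtain ⟨-, hk⟩ := invariant n
      have hq : Mono (pushout.inr ((st emb ι K n).α ≫ (st emb ι K n).π) (K.d n (n + 1))) := by
        rw [Preadditive.mono_iff_cancel_zero]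
        intro T z hz
        obtain ⟨T', p, _, x, h1, h2⟩ := exact_pushout (0 : T ⟶ (st emb ι K n).C) z
          (f := (st emb ι K n).α ≫ (st emb ι K n).π) (g := K.d n (n + 1)) (by simp [hz])
        rw [comp_zero] at h1
        obtain ⟨T'', r, _, w, hw⟩ := hk x h1.symm
        rw [← cancel_epi p, ← cancel_epi r, h2, Preadditive.comp_neg, ← Category.assoc, hw,
          Category.assoc, K.d_comp_d, comp_zero, neg_zero, comp_zero, comp_zero]
      have hα : Mono (st emb ι K (n + 1)).α := by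
        show Mono (pushout.inr _ _ ≫ ι _)
        infer_instance
      refine ⟨hα, fun T x hx => ?_⟩
      have hx' : (x ≫ (st emb ι K (n + 1)).α) ≫ cokernel.π (dd emb ι K n) = 0 := by
        rw [Category.assoc]; exact hx
      obtain ⟨T₁, p₁, _, u, hu⟩ := (ShortComplex.exact_of_g_is_cokernel
        (ShortComplex.mk (dd emb ι K n) (cokernel.π _) (cokernel.condition _))
        (cokernelIsCokernel _)).exact_up_to_refinements _ hx'
      change p₁ ≫ x ≫ (st emb ι K (n + 1)).α = u ≫ dd emb ι K n at hu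
      have h0 : (u ≫ (st emb ι K n).π) ≫ pushout.inl ((st emb ι K n).α ≫ (st emb ι K n).π)
          (K.d n (n + 1)) + (-(p₁ ≫ x)) ≫ pushout.inr ((st emb ι K n).α ≫ (st emb ι K n).π)
          (K.d n (n + 1)) = 0 := by
        rw [← cancel_mono (ι _), zero_comp, Preadditive.add_comp, Preadditive.neg_comp,
          Preadditive.neg_comp, ← sub_eq_add_neg, sub_eq_zero]
        simpa [dd, st, next] using hu.symm
      obtain ⟨T₂, p₂, _, w, -, h2⟩ := exact_pushout _ _ _ _ h0
      refine ⟨T₂, p₂ ≫ p₁, epi_comp _ _, w, ?_⟩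
      rw [Preadditive.comp_neg, neg_inj] at h2
      rw [Category.assoc]
      exact h2

theorem mono_map (n : ℕ) : Mono ((map emb ι K).f n) := (invariant emb ι K n).1

theorem epi_homology_zero : Epi (homologyMap (map emb ι K) 0) := by
  rw [epi_homologyMap_iff_up_to_refinements (map emb ι K) 0 0 1 (CochainComplex.prev_nat_zero)
    (CochainComplex.next ℕ 0)]
  intro T y hy
  rw [cx_d] at hy
  change y ≫ (𝟙 _ ≫ pushout.inl (ι (K.X 0) ≫ 𝟙 _) (K.d 0 1) ≫ ι _) = 0 at hy
  rw [Category.id_comp, ← Category.assoc] at hy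
  have h0 : y ≫ pushout.inl (ι (K.X 0) ≫ 𝟙 _) (K.d 0 1) = 0 := by
    rw [← cancel_mono (ι (pushout (ι (K.X 0) ≫ 𝟙 _) (K.d 0 1))), zero_comp]
    exact hy
  obtain ⟨T', p, hp, x, h1, h2⟩ := exact_pushout _ _ y (0 : T ⟶ K.X 1) (by simpa using h0)
  rw [comp_zero, eq_comm, neg_eq_zero] at h2
  refine ⟨T', p, hp, x, h2, 0, ?_⟩
  rw [zero_comp, add_zero, h1, Category.comp_id]
  rfl

theorem epi_homology_succ (n : ℕ) : Epi (homologyMap (map emb ι K) (n + 1)) := by
  rw [epi_homologyMap_iff_up_to_refinements (map emb ι K) n (n + 1) (n + 2)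
    (CochainComplex.prev_nat_succ n) (CochainComplex.next ℕ (n + 1))]
  intro T y₀ hy
  obtain ⟨y, rfl⟩ : ∃ y : T ⟶ (st emb ι K (n + 1)).L, y = y₀ := ⟨y₀, rfl⟩
  rw [cx_d] at hy
  let s := st emb ι K (n + 1)
  change y ≫ s.π ≫ pushout.inl (s.α ≫ s.π) (K.d (n + 1) (n + 2)) ≫ ι _ = 0 at hy
  have h0 : (y ≫ s.π) ≫ pushout.inl (s.α ≫ s.π) (K.d (n + 1) (n + 2)) = 0 := by
    rw [← cancel_mono (ι (pushout (s.α ≫ s.π) (K.d (n + 1) (n + 2)))), zero_comp, Category.assoc,
      Category.assoc]
    exact hy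
  obtain ⟨T', p, hp, x, h1, h2⟩ := exact_pushout _ _ (y ≫ s.π) (0 : T ⟶ K.X (n + 2))
    (by simpa using h0)
  rw [comp_zero, eq_comm, neg_eq_zero] at h2
  have h3 : (p ≫ y - x ≫ s.α) ≫ cokernel.π (dd emb ι K n) = 0 := by
    show (p ≫ y - x ≫ s.α) ≫ s.π = 0
    rw [Preadditive.sub_comp, Category.assoc, h1, Category.assoc, sub_self]
  obtain ⟨T'', r, hr, u, hu⟩ := (ShortComplex.exact_of_g_is_cokernel
    (ShortComplex.mk (dd emb ι K n) (cokernel.π _) (cokernel.condition _))
    (cokernelIsCokernel _)).exact_up_to_refinements _ h3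
  change r ≫ (p ≫ y - x ≫ s.α) = u ≫ dd emb ι K n at hu
  refine ⟨T'', r ≫ p, epi_comp _ _, r ≫ x, by rw [Category.assoc, h2, comp_zero], u, ?_⟩
  have hd : (cx emb ι K).d n (n + 1) = dd emb ι K n := cx_d emb ι K n
  refine Eq.trans ?_ (congrArg (((r ≫ x) ≫ (map emb ι K).f (n + 1)) + ·) (congrArg (u ≫ ·) hd)).symm
  show (r ≫ p) ≫ y = (r ≫ x) ≫ s.α + u ≫ dd emb ι K n
  rw [← hu, Category.assoc, Category.assoc, Preadditive.comp_sub, add_sub_cancel]

theorem mono_homology (j : ℕ) : Mono (homologyMap (map emb ι K) j) := by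
  cases j with
  | zero =>
    rw [mono_homologyMap_iff_up_to_refinements (map emb ι K) 0 0 1 (CochainComplex.prev_nat_zero)
      (CochainComplex.next ℕ 0)]
    intro T x _ y hy
    refine ⟨T, 𝟙 _, inferInstance, 0, ?_⟩
    have : x = 0 := by
      have := mono_map emb ι K 0
      rw [← cancel_mono ((map emb ι K).f 0), zero_comp, hy, (cx emb ι K).shape 0 0 (by simp),
        comp_zero]
    simp [this]
  | succ n =>
    rw [mono_homologyMap_iff_up_to_refinements (map emb ι K) n (n + 1) (n + 2)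
      (CochainComplex.prev_nat_succ n) (CochainComplex.next ℕ (n + 1))]
    intro T x _ y hy
    have hd : (cx emb ι K).d n (n + 1) = dd emb ι K n := cx_d emb ι K n
    refine (invariant emb ι K (n + 1)).2 x ?_
    have hy' : x ≫ (st emb ι K (n + 1)).α = y ≫ dd emb ι K n := hd ▸ hy
    rw [← Category.assoc, hy', Category.assoc, π_succ, comp_zero]

theorem quasiIso_map : QuasiIso (map emb ι K) where
  quasiIsoAt n := by
    rw [quasiIsoAt_iff_isIso_homologyMap]
    have := mono_homology emb ι K n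
    have : Epi (homologyMap (map emb ι K) n) := by
      cases n with
      | zero => exact epi_homology_zero emb ι K
      | succ n => exact epi_homology_succ emb ι K n
    exact isIso_of_mono_of_epi _

omit [∀ X, Mono (ι X)] in
/-- A quasi-isomorphism into a complex with terms in `I`, monic in every degree. -/
theorem exists_resolution (hI0 : ∃ Z : A, IsZero Z ∧ I Z)
    (hI : ∀ X : A, ∃ (Y : A) (j : X ⟶ Y), I Y ∧ Mono j)
    (K : CochainComplex A ℤ) (a : ℤ) [K.IsStrictlyGE a] :
    ∃ (L : CochainComplex A ℤ) (α : K ⟶ L), L.IsStrictlyGE a ∧ (∀ n, I (L.X n)) ∧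
      (∀ n, Mono (α.f n)) ∧ QuasiIso α := by
  choose emb ι hIe hmono using hI
  let e := ComplexShape.embeddingUpIntGE a
  let K₀ := K.restriction e
  let L₀ : CochainComplex A ℤ := (cx emb ι K₀).extend e
  let g : K ⟶ K₀.extend e := e.liftExtend (𝟙 K₀) (fun j hj i' hi' => by
    have hz : IsZero (K.X i') :=
      K.isZero_X_of_isStrictlySupported e i' (fun m hm => hj.2 m (by rw [hm]; exact hi'))
    exact hz.eq_of_src _ _)
  have : IsIso g := by
    have : ∀ n, IsIso (g.f n) := fun n => by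
      by_cases h : ∃ m, e.f m = n
      · obtain ⟨m, hm⟩ := h
        rw [e.isIso_liftExtend_f_iff _ _ hm]
        exact IsIso.id _
      · push Not at h
        exact ⟨0, (K.isZero_X_of_isStrictlySupported e n h).eq_of_src _ _,
          (isZero_extend_X K₀ e n h).eq_of_src _ _⟩
    exact Hom.isIso_of_components g
  let β : K ⟶ L₀ := g ≫ extendMap (map emb ι K₀) e
  have hq : QuasiIso β := by
    have := quasiIso_map emb ι K₀
    have : QuasiIso (extendMap (map emb ι K₀) e) := (quasiIso_extendMap_iff _ e).2 this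
    infer_instance
  have hm : ∀ n, Mono (β.f n) := fun n => by
    by_cases h : ∃ m, e.f m = n
    · obtain ⟨m, hm⟩ := h
      have := mono_map emb ι K₀ m
      show Mono (g.f n ≫ (extendMap (map emb ι K₀) e).f n)
      rw [extendMap_f _ e hm]
      infer_instance
    · push Not at h
      exact ⟨fun u v _ => (K.isZero_X_of_isStrictlySupported e n h).eq_of_tgt u v⟩
  obtain ⟨Z, hZ, hZI⟩ := hI0
  have hY : ∀ n, ∃ Y : A, I Y ∧ Nonempty (L₀.X n ≅ Y) := fun n => by
    by_cases h : ∃ m, e.f m = n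
    · obtain ⟨m, hm⟩ := h
      refine ⟨_, ?_, ⟨(cx emb ι K₀).extendXIso e hm⟩⟩
      show I ((st emb ι K₀ m).L)
      cases m with
      | zero => exact hIe _
      | succ m => exact hIe _
    · push Not at h
      exact ⟨Z, hZI, ⟨(isZero_extend_X _ e n h).iso hZ⟩⟩
  choose Y hYI φ using hY
  let φ := fun n => (φ n).some
  let L : CochainComplex A ℤ :=
    { X := Y
      d := fun i j => (φ i).inv ≫ L₀.d i j ≫ (φ j).hom
      shape := fun i j h => by rw [L₀.shape i j h, zero_comp, comp_zero]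
      d_comp_d' := fun i j k _ _ => by simp }
  let Φ : L₀ ≅ L := HomologicalComplex.Hom.isoOfComponents φ (fun i j _ => by simp [L])
  have : L₀.IsStrictlyGE a := inferInstanceAs (((cx emb ι K₀).extend e).IsStrictlySupported e)
  refine ⟨L, β ≫ Φ.hom, CochainComplex.isStrictlyGE_of_iso Φ a, hYI, fun n => ?_, inferInstance⟩
  have := hm n
  rw [comp_f]
  infer_instance

end Groth.Agent.CommAlg4.RightResol
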