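import Mathlib
import Groth.Agent.CommAlg4.RightResol
import Groth.Agent.DCat.LeftRes
import Groth.Agent.DCat.Acyclic

/-! Special inverse and direct systems of bounded resolutions of the truncations of a complex. -/
set_option autoImplicit false
set_option linter.style.haveILetI false
set_option linter.unusedSectionVars false
set_option backward.isDefEq.respectTransparency false
universe v u
open CategoryTheory CategoryTheory.Limits HomologicalComplex
open scoped ZeroObject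

namespace Groth.Agent.CommAlg4.SpecialSystems

attribute [local instance] Abelian.hasFiniteBiproducts

variable {A : Type u} [Category.{v} A] [Abelian A]

section Split

variable {M J R : A} (σ : J ⟶ M) (a : R ⟶ M) (b : M ⟶ R)

/-- The kernel of a split epimorphism is a given complement. -/
theorem kernel_iso {K : A} (ι : K ⟶ M) [Mono ι] {g : M ⟶ J} (w : ι ≫ g = 0)
    (hl : ∀ {T : A} (x : T ⟶ M), x ≫ g = 0 → ∃ y, y ≫ ι = x) (hσ : σ ≫ g = 𝟙 J)
    (hab : a ≫ b = 𝟙 R) (hσb : σ ≫ b = 0) (t : M ⟶ J) (htot : b ≫ a + t ≫ σ = 𝟙 M) :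
    ∃ e : K ≅ R, e.hom = ι ≫ b := by
  obtain ⟨inv', hinv⟩ := hl (a - a ≫ g ≫ σ) (by simp [hσ])
  refine ⟨⟨ι ≫ b, inv', ?_, ?_⟩, rfl⟩
  · rw [← cancel_mono ι, Category.assoc, Category.assoc, hinv, Category.id_comp,
      Preadditive.comp_sub, ← Category.assoc b]
    have k1 : ι ≫ b ≫ a = ι - ι ≫ t ≫ σ := by
      rw [eq_sub_iff_add_eq, ← Preadditive.comp_add, htot, Category.comp_id]
    have k2 : t = g - b ≫ a ≫ g := by
      rw [eq_sub_iff_add_eq]
      have := htot =≫ g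
      simp [hσ] at this
      rw [add_comm]; exact this
    rw [Preadditive.comp_sub]
    simp only [Category.assoc]
    rw [k1, k2]
    simp [Preadditive.sub_comp, reassoc_of% w]
  · rw [reassoc_of% hinv]
    simp [hab, hσb]

/-- The cokernel of a split monomorphism is a given complement. -/
theorem cokernel_iso {X : A} (π : M ⟶ X) [Epi π] {g : J ⟶ M} (w : g ≫ π = 0)
    (hd : ∀ {T : A} (x : M ⟶ T), g ≫ x = 0 → ∃ y, π ≫ y = x) (r : M ⟶ J) (hr : g ≫ r = 𝟙 J)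
    (hab : a ≫ b = 𝟙 R) (har : a ≫ r = 0) (htot : b ≫ a + r ≫ σ = 𝟙 M) :
    ∃ e : X ≅ R, e.inv = a ≫ π := by
  obtain ⟨inv', hinv⟩ := hd (b - r ≫ g ≫ b) (by simp [reassoc_of% hr])
  refine ⟨⟨inv', a ≫ π, ?_, ?_⟩, rfl⟩
  · rw [← cancel_epi π, reassoc_of% hinv, Category.comp_id, Preadditive.sub_comp, Category.assoc,
      Category.assoc]
    have k1 : b ≫ a ≫ π = π - r ≫ σ ≫ π := by
      rw [eq_sub_iff_add_eq]
      simpa [Preadditive.add_comp] using htot =≫ π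
    rw [k1]
    simp only [Preadditive.comp_sub, reassoc_of% hr, w, comp_zero, zero_sub, Preadditive.comp_neg]
    abel
  · rw [Category.assoc, hinv]
    simp [hab, reassoc_of% har]

end Split

section Pair

variable {X W R Q E : A} (e : X ≅ W ⊞ R) (e' : W ≅ Q ⊞ E)

/-- A projection onto a double complement has a section. -/
theorem proj_props (I : ObjectProperty A) [I.IsClosedUnderIsomorphisms] (hER : I (E ⊞ R)) (u : X ⟶ Q)
    (hu : u = e.hom ≫ biprod.fst ≫ e'.hom ≫ biprod.fst) :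
    (∃ s : Q ⟶ X, s ≫ u = 𝟙 Q) ∧ I (kernel u) := by
  refine ⟨⟨biprod.inl ≫ e'.inv ≫ biprod.inl ≫ e.inv, by simp [hu]⟩, ?_⟩
  let ε : X ≅ Q ⊞ (E ⊞ R) := e ≪≫ biprod.mapIso e' (Iso.refl _) ≪≫ biprod.associator Q E R
  have hε : u = ε.hom ≫ biprod.fst := by simp [hu, ε]
  subst hε
  exact I.prop_of_iso ((kernelIsIsoComp ε.hom biprod.fst ≪≫ kernelBiprodFstIso).symm) hER

/-- An inclusion of a double complement has a retraction. -/
theorem incl_props (P : ObjectProperty A) [P.IsClosedUnderIsomorphisms] (hER : P (E ⊞ R)) (u : Q ⟶ X)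
    (hu : u = biprod.inl ≫ e'.inv ≫ biprod.inl ≫ e.inv) :
    (∃ r : X ⟶ Q, u ≫ r = 𝟙 Q) ∧ P (cokernel u) := by
  refine ⟨⟨e.hom ≫ biprod.fst ≫ e'.hom ≫ biprod.fst, by simp [hu]⟩, ?_⟩
  let ε : Q ⊞ (E ⊞ R) ≅ X := (biprod.associator Q E R).symm ≪≫ (biprod.mapIso e' (Iso.refl _)).symm ≪≫ e.symm
  have ha : (biprod.inl : Q ⟶ Q ⊞ (E ⊞ R)) ≫ (biprod.associator Q E R).inv = biprod.inl ≫ biprod.inl := by
    apply biprod.hom_ext <;> simp
    apply biprod.hom_ext <;> simp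
  have hε : u = biprod.inl ≫ ε.hom := by simp [hu, ε, reassoc_of% ha, -biprod.associator_inv]
  subst hε
  exact P.prop_of_iso ((cokernelCompIsIso biprod.inl ε.hom ≪≫ cokernelBiprodInlIso).symm) hER

end Pair

/-- Termwise direct sum of complexes. -/
noncomputable def eXIso (K L : CochainComplex A ℤ) (i : ℤ) : (K ⊞ L).X i ≅ K.X i ⊞ L.X i where
  hom := biprod.lift ((biprod.fst : K ⊞ L ⟶ K).f i) ((biprod.snd : K ⊞ L ⟶ L).f i)
  inv := biprod.desc ((biprod.inl : K ⟶ K ⊞ L).f i) ((biprod.inr : L ⟶ K ⊞ L).f i)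
  hom_inv_id := by
    rw [biprod.lift_desc, ← comp_f, ← comp_f, ← add_f_apply, biprod.total, id_f]
  inv_hom_id := by
    apply biprod.hom_ext' <;> apply biprod.hom_ext <;> simp [← comp_f]

theorem isZero_biprod {X Y : A} (hX : IsZero X) (hY : IsZero Y) : IsZero (X ⊞ Y) := by
  rw [IsZero.iff_id_eq_zero]
  apply biprod.hom_ext' <;> [exact hX.eq_of_src _ _; exact hY.eq_of_src _ _]

theorem quasiIso_inl (W Z : CochainComplex A ℤ) (hZ : Z.Acyclic) :
    QuasiIso (biprod.inl : W ⟶ W ⊞ Z) := by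
  rw [quasiIso_iff]
  intro i
  rw [quasiIsoAt_iff_isIso_homologyMap]
  let H := homologyFunctor A (ComplexShape.up ℤ) i
  haveI := preservesBinaryBiproducts_of_preservesBiproducts H
  have hz : IsZero (H.obj Z) := (exactAt_iff_isZero_homology _ _).1 (hZ i)
  refine ⟨H.map (biprod.fst : W ⊞ Z ⟶ W), ?_, ?_⟩
  · exact (H.map_comp _ _).symm.trans ((congrArg H.map biprod.inl_fst).trans (H.map_id _))
  · have e := congrArg H.map (biprod.total (X := W) (Y := Z))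
    rw [H.map_add, H.map_comp, H.map_comp, H.map_id, hz.eq_of_tgt (H.map biprod.snd) 0, zero_comp, add_zero] at e
    exact e

theorem quasiIso_fst (W Z : CochainComplex A ℤ) (hZ : Z.Acyclic) :
    QuasiIso (biprod.fst : W ⊞ Z ⟶ W) := by
  haveI := quasiIso_inl W Z hZ
  haveI : QuasiIso ((biprod.inl : W ⟶ W ⊞ Z) ≫ biprod.fst) := by
    rw [biprod.inl_fst]; infer_instance
  exact quasiIso_of_comp_left (biprod.inl : W ⟶ W ⊞ Z) biprod.fst

section Right

variable (I : ObjectProperty A) [I.IsClosedUnderIsomorphisms]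
  (hI0 : ∃ Z : A, IsZero Z ∧ I Z) (hIprod : ∀ X Y : A, I X → I Y → I (X ⊞ Y))
  (hI : ∀ X : A, ∃ (Y : A) (ι : X ⟶ Y), I Y ∧ Mono ι)

include hI0 hIprod hI in
/-- A map of bounded below complexes into one with terms in `I` factors as a monic quasi-isomorphism followed by
a termwise split epimorphism with kernel in `I`. -/
theorem factor {T Qn : CochainComplex A ℤ} (c : T ⟶ Qn) (a₀ : ℤ) [T.IsStrictlyGE a₀]
    (hQ : ∃ a : ℤ, Qn.IsStrictlyGE a) (hQI : ∀ i, I (Qn.X i)) :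
    ∃ (Q' : CochainComplex A ℤ) (π : T ⟶ Q') (p : Q' ⟶ Qn), π ≫ p = c ∧ QuasiIso π ∧
      (∀ i, Mono (π.f i)) ∧ (∃ a : ℤ, Q'.IsStrictlyGE a) ∧ (∀ i, I (Q'.X i)) ∧
      ∀ i, (∃ s : Qn.X i ⟶ Q'.X i, s ≫ p.f i = 𝟙 _) ∧ I (kernel (p.f i)) := by
  obtain ⟨a₁, ha₁⟩ := hQ
  haveI := T.isStrictlyGE_of_ge (min a₀ a₁) a₀ (min_le_left _ _)
  haveI := Qn.isStrictlyGE_of_ge (min a₀ a₁) a₁ (min_le_right _ _)
  generalize min a₀ a₁ = a at *
  obtain ⟨E, j, hEb, hEI, hj, -⟩ := RightResol.exists_resolution (I := I) hI0 hI T a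
  let W := Qn ⊞ E
  let f : T ⟶ W := biprod.lift c j
  haveI : ∀ i, Mono (f.f i) := fun i => by
    haveI := hj i
    exact mono_of_mono_fac (show f.f i ≫ (biprod.snd : W ⟶ E).f i = j.f i by
      rw [← comp_f]; simp [f])
  haveI : Mono f := mono_of_mono_f f inferInstance
  have hWz : ∀ i, i < a → IsZero (W.X i) := fun i hi =>
    (isZero_biprod (Qn.isZero_of_isStrictlyGE a i hi) (E.isZero_of_isStrictlyGE a i hi)).of_iso (eXIso Qn E i)
  haveI : (cokernel f).IsStrictlyGE a := by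
    rw [CochainComplex.isStrictlyGE_iff]
    intro i hi
    haveI : Epi ((cokernel.π f).f i) := inferInstance
    exact IsZero.of_epi ((cokernel.π f).f i) (hWz i hi)
  obtain ⟨J, g₁, hJb, hJI, -, hg₁⟩ := RightResol.exists_resolution (I := I) hI0 hI (cokernel f) a
  let Z := CochainComplex.mappingCocone (𝟙 J)
  let g : W ⊞ Z ⟶ J := biprod.desc (cokernel.π f ≫ g₁) (CochainComplex.mappingCocone.fst _)
  let σ : ∀ p, J.X p ⟶ (W ⊞ Z).X p := fun p =>
    (CochainComplex.mappingCocone.inl (𝟙 J)).v p p (add_zero p) ≫ (biprod.inr : Z ⟶ W ⊞ Z).f p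
  have hσ : ∀ p, σ p ≫ g.f p = 𝟙 _ := fun p => by
    simp only [σ, Category.assoc, ← comp_f, g, biprod.inr_desc]
    exact CochainComplex.mappingCocone.inl_v_fst_f _ p
  haveI : Epi g := epi_of_epi_f g fun p => (SplitEpi.mk (σ p) (hσ p)).epi
  let S : ShortComplex (CochainComplex A ℤ) := ShortComplex.mk f (cokernel.π f) (cokernel.condition f)
  have hS : S.ShortExact := { exact := ShortComplex.exact_cokernel f }
  let T' : ShortComplex (CochainComplex A ℤ) := ShortComplex.mk (kernel.ι g) g (kernel.condition g)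
  have hT : T'.ShortExact := { exact := ShortComplex.exact_kernel g }
  let φS : S ⟶ T' :=
    { τ₁ := kernel.lift g (f ≫ biprod.inl) (by
        rw [Category.assoc, biprod.inl_desc, ← Category.assoc, cokernel.condition, zero_comp])
      τ₂ := biprod.inl
      τ₃ := g₁
      comm₁₂ := kernel.lift_ι _ _ _
      comm₂₃ := biprod.inl_desc _ _ }
  let p : kernel g ⟶ Qn := kernel.ι g ≫ biprod.fst ≫ biprod.fst
  have key : ∀ i, ∃ q, ∃ e : (kernel g).X i ≅ W.X i ⊞ J.X q, q + 1 = i ∧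
      e.hom ≫ biprod.fst = (kernel.ι g).f i ≫ (biprod.fst : W ⊞ Z ⟶ W).f i := by
    intro i
    obtain ⟨q, hq⟩ : ∃ q, i + (-1) = q := ⟨i + -1, rfl⟩
    have hTi := hT.map_of_exact (HomologicalComplex.eval A (ComplexShape.up ℤ) i)
    haveI : Mono ((kernel.ι g).f i) := hTi.mono_f
    haveI := hTi.mono_f
    let a' : W.X i ⊞ J.X q ⟶ (W ⊞ Z).X i := biprod.desc ((biprod.inl : W ⟶ W ⊞ Z).f i)
      ((CochainComplex.mappingCocone.inr (𝟙 J)).1.v q i (by omega) ≫ (biprod.inr : Z ⟶ W ⊞ Z).f i)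
    let b : (W ⊞ Z).X i ⟶ W.X i ⊞ J.X q := biprod.lift ((biprod.fst : W ⊞ Z ⟶ W).f i)
      ((biprod.snd : W ⊞ Z ⟶ Z).f i ≫ (CochainComplex.mappingCocone.snd (𝟙 J)).v i q hq)
    let t : (W ⊞ Z).X i ⟶ J.X i :=
      (biprod.snd : W ⊞ Z ⟶ Z).f i ≫ (CochainComplex.mappingCocone.fst (𝟙 J)).f i
    have hab : a' ≫ b = 𝟙 _ := by
      apply biprod.hom_ext' <;> apply biprod.hom_ext <;>
        simp [a', b, ← comp_f_assoc, ← comp_f]
    have hσb : σ i ≫ b = 0 := by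
      apply biprod.hom_ext <;> simp [σ, b, ← comp_f_assoc, ← comp_f]
    have htot : b ≫ a' + t ≫ σ i = 𝟙 _ := by
      have e := congrArg (fun h => h.f i) (biprod.total (X := W) (Y := Z))
      simp only [add_f_apply, comp_f, id_f] at e
      rw [← e]
      have e2 := CochainComplex.mappingCocone.id_X (𝟙 J) i q hq
      simp only [a', b, t, σ, biprod.lift_desc, Category.assoc]
      rw [add_assoc, ← Preadditive.comp_add]
      congr 2
      rw [← Category.assoc, ← Category.assoc, ← Preadditive.add_comp]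
      conv_rhs => rw [← Category.id_comp ((biprod.inr : Z ⟶ W ⊞ Z).f i)]
      congr 1
      exact (add_comm _ _).trans e2
    obtain ⟨e, he⟩ := kernel_iso (g := g.f i) (σ i) a' b ((kernel.ι g).f i)
      (by rw [← comp_f, kernel.condition, zero_f])
      (fun x hx => ⟨hTi.exact.lift x hx, hTi.exact.lift_f x hx⟩) (hσ i) hab hσb t htot
    exact ⟨q, e, by omega, by simp [he, b]⟩
  choose q e hq he using key
  refine ⟨kernel g, φS.τ₁, p, ?_,
    DCat.Acyclic.quasiIso_τ₁ φS hS hT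
      (quasiIso_inl W Z (DCat.Acyclic.acyclic_mappingCocone_id J)) hg₁,
    fun i => ?_, ⟨a, ?_⟩, fun i => ?_, fun i => ?_⟩
  · simp [φS, p, f]
  · have h := congrArg (fun k => k.f i) φS.comm₁₂
    simp only [comp_f] at h
    haveI : Mono (((biprod.inl : W ⟶ W ⊞ Z)).f i) :=
      mono_of_mono_fac (show _ ≫ (biprod.fst : W ⊞ Z ⟶ W).f i = 𝟙 _ by rw [← comp_f, biprod.inl_fst, id_f])
    exact mono_of_mono_fac (h.trans (show f.f i ≫ (biprod.inl : W ⟶ W ⊞ Z).f i = _ from rfl))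
  · rw [CochainComplex.isStrictlyGE_iff]
    intro i hi
    exact (isZero_biprod (hWz i hi)
      (J.isZero_of_isStrictlyGE a (q i) (by have := hq i; omega))).of_iso (e i)
  · exact I.prop_of_iso (e i).symm (hIprod _ _ (I.prop_of_iso (eXIso Qn E i).symm (hIprod _ _ (hQI i) (hEI i))) (hJI _))
  · refine proj_props (e i) (eXIso Qn E i) I (hIprod _ _ (hEI i) (hJI _)) _ ?_
    simp [p, reassoc_of% (he i), eXIso, comp_f]

variable (K : CochainComplex A ℤ)

theorem isIso_πTruncGE_f {m i : ℤ} (h : m < i) : IsIso ((K.πTruncGE m).f i) := by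
  let e := ComplexShape.embeddingUpIntGE m
  have hi : e.f (i - m).toNat = i := by
    change m + ((i - m).toNat : ℤ) = i
    omega
  have hb : ¬ e.BoundaryGE (i - m).toNat := by
    simp [e, ComplexShape.boundaryGE_embeddingUpIntGE_iff]
    omega
  change IsIso ((HomologicalComplex.πTruncGE K e).f i)
  dsimp [HomologicalComplex.πTruncGE]
  erw [e.isIso_liftExtend_f_iff _ _ hi]
  exact HomologicalComplex.isIso_restrictionToTruncGE' K e _ hb

theorem exists_trans {m m' : ℤ} (h : m' < m) :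
    ∃ t : K.truncGE m' ⟶ K.truncGE m, K.πTruncGE m' ≫ t = K.πTruncGE m := by
  haveI : Epi (K.πTruncGE m') :=
    inferInstanceAs (Epi (HomologicalComplex.πTruncGE K (ComplexShape.embeddingUpIntGE m')))
  refine ⟨Abelian.epiDesc (K.πTruncGE m') (K.πTruncGE m) ?_, Abelian.comp_epiDesc _ _ _⟩
  ext i
  rw [comp_f, zero_f]
  by_cases hi : m' < i
  · haveI := isIso_πTruncGE_f K hi
    have h0 : (kernel.ι (K.πTruncGE m')).f i = 0 := by
      rw [← cancel_mono ((K.πTruncGE m').f i), ← comp_f, kernel.condition, zero_f, zero_comp]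
    rw [h0, zero_comp]
  · exact ((K.truncGE m).isZero_of_isStrictlyGE m i (by omega)).eq_of_tgt _ _

/-- A stage of the special inverse system. -/
structure RStage (T : CochainComplex A ℤ) where
  Q : CochainComplex A ℤ
  π : T ⟶ Q
  qi : QuasiIso π
  mono : ∀ i, Mono (π.f i)
  bdd : ∃ a : ℤ, Q.IsStrictlyGE a
  mem : ∀ i, I (Q.X i)

include hI0 hIprod hI in
/-- A special inverse system. -/
theorem exists_inverse :
    ∃ (Q : ℕ → CochainComplex A ℤ) (p : ∀ n, Q (n + 1) ⟶ Q n) (π : ∀ n : ℕ, K.truncGE (-(n : ℤ)) ⟶ Q n),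
      (∀ n, QuasiIso (π n) ∧ ∀ i, Mono ((π n).f i)) ∧
      (∀ n, ∃ a : ℤ, (Q n).IsStrictlyGE a) ∧ (∀ n i, I ((Q n).X i)) ∧
      (∀ n i, (∃ s : (Q n).X i ⟶ (Q (n + 1)).X i, s ≫ (p n).f i = 𝟙 _) ∧ I (kernel ((p n).f i))) ∧
      (∀ n : ℕ, K.πTruncGE (-((n + 1 : ℕ) : ℤ)) ≫ π (n + 1) ≫ p n = K.πTruncGE (-(n : ℤ)) ≫ π n) := by
  have base : Nonempty (RStage I (K.truncGE (-((0 : ℕ) : ℤ)))) := by
    obtain ⟨L, α, h1, h2, h3, h4⟩ :=
      RightResol.exists_resolution (I := I) hI0 hI (K.truncGE (-((0 : ℕ) : ℤ))) (-((0 : ℕ) : ℤ))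
    exact ⟨⟨L, α, h4, h3, ⟨_, h1⟩, h2⟩⟩
  have step : ∀ (n : ℕ) (s : RStage I (K.truncGE (-(n : ℤ)))),
      ∃ (s' : RStage I (K.truncGE (-((n + 1 : ℕ) : ℤ)))) (p : s'.Q ⟶ s.Q),
        (∀ i, (∃ u : s.Q.X i ⟶ s'.Q.X i, u ≫ p.f i = 𝟙 _) ∧ I (kernel (p.f i))) ∧
        K.πTruncGE (-((n + 1 : ℕ) : ℤ)) ≫ s'.π ≫ p = K.πTruncGE (-(n : ℤ)) ≫ s.π := by
    intro n s
    obtain ⟨t, ht⟩ := exists_trans K (m := -(n : ℤ)) (m' := -((n + 1 : ℕ) : ℤ)) (by omega)
    obtain ⟨Q', π, p, h1, h2, h3, h4, h5, h6⟩ :=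
      factor I hI0 hIprod hI (t ≫ s.π) (-((n + 1 : ℕ) : ℤ)) s.bdd s.mem
    exact ⟨⟨Q', π, h2, h3, h4, h5⟩, p, h6, by rw [h1, reassoc_of% ht]⟩
  choose nxt p hp hcomm using step
  let seq : ∀ n : ℕ, RStage I (K.truncGE (-(n : ℤ))) := fun n => Nat.rec base.some (fun n s => nxt n s) n
  exact ⟨fun n => (seq n).Q, fun n => p n (seq n), fun n => (seq n).π,
    fun n => ⟨(seq n).qi, (seq n).mono⟩, fun n => (seq n).bdd, fun n => (seq n).mem,
    fun n => hp n (seq n), fun n => hcomm n (seq n)⟩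

end Right

section Left

variable (P : ObjectProperty A) [P.IsClosedUnderIsomorphisms]
  (hP0 : ∃ Z : A, IsZero Z ∧ P Z) (hPsum : ∀ X Y : A, P X → P Y → P (X ⊞ Y))
  (hP : ∀ X : A, ∃ (Y : A) (π : Y ⟶ X), P Y ∧ Epi π)

include hP0 hPsum hP in
/-- A map of bounded above complexes out of one with terms in `P` factors as a termwise split monomorphism with
cokernel in `P` followed by an epic quasi-isomorphism. -/
theorem factorL {T Qn : CochainComplex A ℤ} (c : Qn ⟶ T) (a₀ : ℤ) [T.IsStrictlyLE a₀]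
    (hQ : ∃ a : ℤ, Qn.IsStrictlyLE a) (hQP : ∀ i, P (Qn.X i)) :
    ∃ (Q' : CochainComplex A ℤ) (ι : Qn ⟶ Q') (π : Q' ⟶ T), ι ≫ π = c ∧ QuasiIso π ∧
      (∀ i, Epi (π.f i)) ∧ (∃ a : ℤ, Q'.IsStrictlyLE a) ∧ (∀ i, P (Q'.X i)) ∧
      ∀ i, (∃ r : Q'.X i ⟶ Qn.X i, ι.f i ≫ r = 𝟙 _) ∧ P (cokernel (ι.f i)) := by
  obtain ⟨a₁, ha₁⟩ := hQ
  haveI := T.isStrictlyLE_of_le a₀ (max a₀ a₁) (le_max_left _ _)
  haveI := Qn.isStrictlyLE_of_le a₁ (max a₀ a₁) (le_max_right _ _)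
  generalize max a₀ a₁ = a at *
  obtain ⟨E, j, hEb, hEP, hj, -⟩ := DCat.LeftRes.exists_resolution P hP0 hP T a
  let W := Qn ⊞ E
  let f : W ⟶ T := biprod.desc c j
  haveI : ∀ i, Epi (f.f i) := fun i => by
    haveI := hj i
    exact epi_of_epi_fac (show (biprod.inr : E ⟶ W).f i ≫ f.f i = j.f i by
      rw [← comp_f]; simp [f])
  haveI : Epi f := epi_of_epi_f f inferInstance
  have hWz : ∀ i, a < i → IsZero (W.X i) := fun i hi =>
    (isZero_biprod (Qn.isZero_of_isStrictlyLE a i hi) (E.isZero_of_isStrictlyLE a i hi)).of_iso (eXIso Qn E i)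
  haveI : (kernel f).IsStrictlyLE a := by
    rw [CochainComplex.isStrictlyLE_iff]
    intro i hi
    haveI : Mono ((kernel.ι f).f i) := inferInstance
    exact IsZero.of_mono ((kernel.ι f).f i) (hWz i hi)
  obtain ⟨J, g₁, hJb, hJP, -, hg₁⟩ := DCat.LeftRes.exists_resolution P hP0 hP (kernel f) a
  let Z := CochainComplex.mappingCone (𝟙 J)
  let g : J ⟶ W ⊞ Z := biprod.lift (g₁ ≫ kernel.ι f) (CochainComplex.mappingCone.inr _)
  let r : ∀ p, (W ⊞ Z).X p ⟶ J.X p := fun p =>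
    (biprod.snd : W ⊞ Z ⟶ Z).f p ≫ (CochainComplex.mappingCone.snd (𝟙 J)).v p p (add_zero p)
  have hr : ∀ p, g.f p ≫ r p = 𝟙 _ := fun p => by
    simp only [r, ← comp_f_assoc, g, biprod.lift_snd]
    exact CochainComplex.mappingCone.inr_f_snd_v _ p
  haveI : Mono g := mono_of_mono_f g fun p => (SplitMono.mk (r p) (hr p)).mono
  let S : ShortComplex (CochainComplex A ℤ) := ShortComplex.mk g (cokernel.π g) (cokernel.condition g)
  have hS : S.ShortExact := { exact := ShortComplex.exact_cokernel g }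
  let S' : ShortComplex (CochainComplex A ℤ) := ShortComplex.mk (kernel.ι f) f (kernel.condition f)
  have hS' : S'.ShortExact := { exact := ShortComplex.exact_kernel f }
  let φS : S ⟶ S' :=
    { τ₁ := g₁
      τ₂ := biprod.fst
      τ₃ := cokernel.desc g (biprod.fst ≫ f) (by
        rw [biprod.lift_fst_assoc, Category.assoc, kernel.condition, comp_zero])
      comm₁₂ := (biprod.lift_fst _ _).symm
      comm₂₃ := (cokernel.π_desc _ _ _).symm }
  let ι : Qn ⟶ cokernel g := biprod.inl ≫ biprod.inl ≫ cokernel.π g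
  have key : ∀ i, ∃ q, ∃ e : (cokernel g).X i ≅ W.X i ⊞ J.X q, i + 1 = q ∧
      biprod.inl ≫ e.inv = (biprod.inl : W ⟶ W ⊞ Z).f i ≫ (cokernel.π g).f i := by
    intro i
    have hSi := hS.map_of_exact (HomologicalComplex.eval A (ComplexShape.up ℤ) i)
    haveI : Epi ((cokernel.π g).f i) := hSi.epi_g
    haveI := hSi.epi_g
    let a' : W.X i ⊞ J.X (i + 1) ⟶ (W ⊞ Z).X i := biprod.desc ((biprod.inl : W ⟶ W ⊞ Z).f i)
      ((CochainComplex.mappingCone.inl (𝟙 J)).v (i + 1) i (by omega) ≫ (biprod.inr : Z ⟶ W ⊞ Z).f i)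
    let b : (W ⊞ Z).X i ⟶ W.X i ⊞ J.X (i + 1) := biprod.lift ((biprod.fst : W ⊞ Z ⟶ W).f i)
      ((biprod.snd : W ⊞ Z ⟶ Z).f i ≫ (CochainComplex.mappingCone.fst (𝟙 J)).1.v i (i + 1) rfl)
    let σ : J.X i ⟶ (W ⊞ Z).X i :=
      (CochainComplex.mappingCone.inr (𝟙 J)).f i ≫ (biprod.inr : Z ⟶ W ⊞ Z).f i
    have hab : a' ≫ b = 𝟙 _ := by
      apply biprod.hom_ext' <;> apply biprod.hom_ext <;>
        simp [a', b, ← comp_f_assoc, ← comp_f]
    have har : a' ≫ r i = 0 := by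
      apply biprod.hom_ext' <;> simp [r, a', ← comp_f_assoc, ← comp_f]
    have htot : b ≫ a' + r i ≫ σ = 𝟙 _ := by
      have e := congrArg (fun h => h.f i) (biprod.total (X := W) (Y := Z))
      simp only [add_f_apply, comp_f, id_f] at e
      rw [← e]
      have e2 := CochainComplex.mappingCone.id_X (𝟙 J) i (i + 1) rfl
      simp only [a', b, r, σ, biprod.lift_desc, Category.assoc]
      rw [add_assoc, ← Preadditive.comp_add]
      congr 2
      rw [← Category.assoc, ← Category.assoc, ← Preadditive.add_comp]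
      conv_rhs => rw [← Category.id_comp ((biprod.inr : Z ⟶ W ⊞ Z).f i)]
      congr 1
    obtain ⟨e, he⟩ := cokernel_iso (g := g.f i) σ a' b ((cokernel.π g).f i)
      (by rw [← comp_f, cokernel.condition, zero_f])
      (fun x hx => ⟨hSi.exact.desc x hx, hSi.exact.g_desc x hx⟩) (r i) (hr i) hab har htot
    exact ⟨i + 1, e, rfl, by simp [he, a']⟩
  choose q e hq he using key
  refine ⟨cokernel g, ι, φS.τ₃, ?_,
    HomologicalComplex.HomologySequence.quasiIso_τ₃ φS hS hS' hg₁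
      (quasiIso_fst W Z (DCat.Acyclic.acyclic_mappingCone_id J)),
    fun i => ?_, ⟨a, ?_⟩, fun i => ?_, fun i => ?_⟩
  · show (biprod.inl ≫ biprod.inl ≫ cokernel.π g) ≫ cokernel.desc g (biprod.fst ≫ f) _ = c
    rw [Category.assoc, Category.assoc, cokernel.π_desc, reassoc_of% biprod.inl_fst, biprod.inl_desc]
  · have h := congrArg (fun k => k.f i) φS.comm₂₃
    simp only [comp_f] at h
    haveI : Epi (((biprod.fst : W ⊞ Z ⟶ W)).f i) :=
      epi_of_epi_fac (show (biprod.inl : W ⟶ W ⊞ Z).f i ≫ _ = 𝟙 _ by rw [← comp_f, biprod.inl_fst, id_f])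
    exact epi_of_epi_fac (h.symm.trans (show (biprod.fst : W ⊞ Z ⟶ W).f i ≫ f.f i = _ from rfl))
  · rw [CochainComplex.isStrictlyLE_iff]
    intro i hi
    exact (isZero_biprod (hWz i hi)
      (J.isZero_of_isStrictlyLE a (q i) (by have := hq i; omega))).of_iso (e i)
  · exact P.prop_of_iso (e i).symm (hPsum _ _ (P.prop_of_iso (eXIso Qn E i).symm (hPsum _ _ (hQP i) (hEP i))) (hJP _))
  · refine incl_props (e i) (eXIso Qn E i) P (hPsum _ _ (hEP i) (hJP _)) _ ?_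
    simp [ι, he i, eXIso, comp_f]
    rfl

variable (K : CochainComplex A ℤ)

/-- A stage of the special direct system. -/
structure LStage (T : CochainComplex A ℤ) where
  Q : CochainComplex A ℤ
  π : Q ⟶ T
  qi : QuasiIso π
  epi : ∀ i, Epi (π.f i)
  bdd : ∃ a : ℤ, Q.IsStrictlyLE a
  mem : ∀ i, P (Q.X i)

include hP0 hPsum hP in
/-- A special direct system. -/
theorem exists_direct :
    ∃ (Q : ℕ → CochainComplex A ℤ) (ι : ∀ n, Q n ⟶ Q (n + 1)) (π : ∀ n : ℕ, Q n ⟶ K.truncLE (n : ℤ)),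
      (∀ n, QuasiIso (π n) ∧ ∀ i, Epi ((π n).f i)) ∧
      (∀ n, ∃ b : ℤ, (Q n).IsStrictlyLE b) ∧ (∀ n i, P ((Q n).X i)) ∧
      (∀ n i, (∃ r : (Q (n + 1)).X i ⟶ (Q n).X i, (ι n).f i ≫ r = 𝟙 _) ∧ P (cokernel ((ι n).f i))) ∧
      (∀ n : ℕ, π n ≫ K.ιTruncLE (n : ℤ) = ι n ≫ π (n + 1) ≫ K.ιTruncLE ((n + 1 : ℕ) : ℤ)) := by
  have base : Nonempty (LStage P (K.truncLE ((0 : ℕ) : ℤ))) := by
    obtain ⟨L, α, h1, h2, h3, h4⟩ :=
      DCat.LeftRes.exists_resolution P hP0 hP (K.truncLE ((0 : ℕ) : ℤ)) ((0 : ℕ) : ℤ)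
    exact ⟨⟨L, α, h4, h3, ⟨_, h1⟩, h2⟩⟩
  have step : ∀ (n : ℕ) (s : LStage P (K.truncLE (n : ℤ))),
      ∃ (s' : LStage P (K.truncLE ((n + 1 : ℕ) : ℤ))) (ι : s.Q ⟶ s'.Q),
        (∀ i, (∃ u : s'.Q.X i ⟶ s.Q.X i, ι.f i ≫ u = 𝟙 _) ∧ P (cokernel (ι.f i))) ∧
        s.π ≫ K.ιTruncLE (n : ℤ) = ι ≫ s'.π ≫ K.ιTruncLE ((n + 1 : ℕ) : ℤ) := by
    intro n s
    haveI := CochainComplex.isStrictlyLE_of_le (K.truncLE (n : ℤ)) (n : ℤ) ((n + 1 : ℕ) : ℤ) (by omega)
    haveI : IsIso ((K.truncLE (n : ℤ)).ιTruncLE ((n + 1 : ℕ) : ℤ)) :=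
      (CochainComplex.isIso_ιTruncLE_iff _ _).2 inferInstance
    let t := inv ((K.truncLE (n : ℤ)).ιTruncLE ((n + 1 : ℕ) : ℤ)) ≫
      CochainComplex.truncLEMap (K.ιTruncLE (n : ℤ)) ((n + 1 : ℕ) : ℤ)
    have ht : t ≫ K.ιTruncLE ((n + 1 : ℕ) : ℤ) = K.ιTruncLE (n : ℤ) := by
      simp [t, CochainComplex.ιTruncLE_naturality]
    obtain ⟨Q', ι, π, h1, h2, h3, h4, h5, h6⟩ :=
      factorL P hP0 hPsum hP (s.π ≫ t) ((n + 1 : ℕ) : ℤ) s.bdd s.mem
    exact ⟨⟨Q', π, h2, h3, h4, h5⟩, ι, h6, by rw [← Category.assoc ι, h1, Category.assoc, ht]⟩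
  choose nxt ι hι hcomm using step
  let seq : ∀ n : ℕ, LStage P (K.truncLE (n : ℤ)) := fun n => Nat.rec base.some (fun n s => nxt n s) n
  exact ⟨fun n => (seq n).Q, fun n => ι n (seq n), fun n => (seq n).π,
    fun n => ⟨(seq n).qi, (seq n).epi⟩, fun n => (seq n).bdd, fun n => (seq n).mem,
    fun n => hι n (seq n), fun n => hcomm n (seq n)⟩

end Left

end Groth.Agent.CommAlg4.SpecialSystems
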