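import Mathlib
import Groth.Agent.CommAlg4.SpecialSystems
import Groth.Agent.DCat.ChainCx
import Groth.Agent.DQCoh.Coproduct

/-! Killing maps from acyclic complexes functorially. -/

set_option autoImplicit false
set_option backward.isDefEq.respectTransparency false
set_option linter.style.haveILetI false

universe v u

open CategoryTheory CategoryTheory.Limits HomologicalComplex

namespace Groth.Agent.CommAlg4.KillAcyclic

variable {A : Type u} [Category.{v} A] [Abelian A] [IsGrothendieckAbelian.{v} A]
  {ι : Type v} (K : ι → CochainComplex A ℤ)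

attribute [local instance] Abelian.hasFiniteBiproducts

theorem acyclic_sigma {J : Type v} (L : J → CochainComplex A ℤ) (h : ∀ j, (L j).Acyclic) : (∐ L).Acyclic := by
  intro n
  rw [exactAt_iff_isZero_homology]
  haveI := DQCoh.preservesCoproducts_homology (A := A) (J := J) n
  let e := PreservesCoproduct.iso (homologyFunctor A (ComplexShape.up ℤ) n) L
  refine IsZero.of_iso ?_ e
  rw [IsZero.iff_id_eq_zero]
  exact Sigma.hom_ext _ _ fun j => ((exactAt_iff_isZero_homology _ _).1 (h j n)).eq_of_src _ _

/-- The index of the maps. -/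
abbrev Idx (M : CochainComplex A ℤ) : Type v := Σ i, (K i ⟶ M)

/-- The sum of the sources. -/
noncomputable abbrev src (M : CochainComplex A ℤ) : CochainComplex A ℤ := ∐ fun x : Idx K M => K x.1

/-- The sum of the cones. -/
noncomputable abbrev tgt (M : CochainComplex A ℤ) : CochainComplex A ℤ :=
  ∐ fun x : Idx K M => CochainComplex.mappingCone (𝟙 (K x.1))

/-- The sum of the inclusions. -/
noncomputable def incl (M : CochainComplex A ℤ) : src K M ⟶ tgt K M :=
  Limits.Sigma.map fun x : Idx K M => CochainComplex.mappingCone.inr (𝟙 (K x.1))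

/-- The evaluation. -/
noncomputable def ev (M : CochainComplex A ℤ) : src K M ⟶ M := Sigma.desc fun x => x.2

instance mono_incl (M : CochainComplex A ℤ) : Mono (incl K M) := by
  haveI : ∀ x : Idx K M, Mono (CochainComplex.mappingCone.inr (𝟙 (K x.1))) := fun x =>
    mono_of_mono_f _ fun n =>
      mono_of_mono_fac (CochainComplex.mappingCone.inr_f_snd_v (𝟙 (K x.1)) n)
  unfold incl
  infer_instance

theorem ι_congr {M : CochainComplex A ℤ} {i : ι} {w w' : K i ⟶ M} (h : w = w') :
    Sigma.ι (fun y : Idx K M => CochainComplex.mappingCone (𝟙 (K y.1))) ⟨i, w⟩ =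
      Sigma.ι (fun y : Idx K M => CochainComplex.mappingCone (𝟙 (K y.1))) ⟨i, w'⟩ := by
  subst h; rfl

/-- Reindexing of sources. -/
noncomputable def srcMap {M N : CochainComplex A ℤ} (φ : M ⟶ N) : src K M ⟶ src K N :=
  Sigma.desc fun x => Sigma.ι (fun y : Idx K N => K y.1) ⟨x.1, x.2 ≫ φ⟩

/-- Reindexing of cones. -/
noncomputable def tgtMap {M N : CochainComplex A ℤ} (φ : M ⟶ N) : tgt K M ⟶ tgt K N :=
  Sigma.desc fun x => Sigma.ι (fun y : Idx K N => CochainComplex.mappingCone (𝟙 (K y.1))) ⟨x.1, x.2 ≫ φ⟩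

theorem incl_nat {M N : CochainComplex A ℤ} (φ : M ⟶ N) : incl K M ≫ tgtMap K φ = srcMap K φ ≫ incl K N :=
  Sigma.hom_ext _ _ fun x => by simp [incl, tgtMap, srcMap]

theorem ev_nat {M N : CochainComplex A ℤ} (φ : M ⟶ N) : ev K M ≫ φ = srcMap K φ ≫ ev K N :=
  Sigma.hom_ext _ _ fun x => by simp [ev, srcMap]

/-- The functor. -/
noncomputable def killFunctor : CochainComplex A ℤ ⥤ CochainComplex A ℤ where
  obj M := pushout (incl K M) (ev K M)
  map {M N} φ := pushout.map _ _ _ _ (tgtMap K φ) φ (srcMap K φ) (incl_nat K φ) (ev_nat K φ)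
  map_id M := by
    apply pushout.hom_ext
    · simp only [pushout.inl_desc, Category.comp_id]
      rw [show tgtMap K (𝟙 M) = 𝟙 _ from Sigma.hom_ext _ _ fun x => by
        simp [tgtMap]
        exact ι_congr K (Category.comp_id x.2)]
      simp
    · simp
  map_comp {M N P} φ ψ := by
    apply pushout.hom_ext
    · simp only [pushout.inl_desc, pushout.inl_desc_assoc, Category.assoc]
      rw [show tgtMap K (φ ≫ ψ) = tgtMap K φ ≫ tgtMap K ψ from Sigma.hom_ext _ _ fun x => by
        simp [tgtMap]
        exact ι_congr K (Category.assoc x.2 φ ψ).symm]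
      simp
    · simp

/-- The natural embedding. -/
noncomputable def killι : 𝟭 _ ⟶ killFunctor K where
  app M := pushout.inr _ _
  naturality M N φ := by simp [killFunctor]

theorem mono_app (M : CochainComplex A ℤ) : Mono ((killι K).app M) :=
  inferInstanceAs (Mono (pushout.inr (incl K M) (ev K M)))

theorem quasiIso_app (hK : ∀ i, (K i).Acyclic) (M : CochainComplex A ℤ) : QuasiIso ((killι K).app M) := by
  have hP := (IsPushout.of_hasPushout (incl K M) (ev K M)).flip
  have : Mono hP.shortComplex.f := by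
    have : Mono (hP.shortComplex.f ≫ biprod.snd) := by
      show Mono (biprod.lift (ev K M) (-incl K M) ≫ biprod.snd)
      rw [biprod.lift_snd]
      infer_instance
    exact mono_of_mono hP.shortComplex.f biprod.snd
  have : Epi hP.shortComplex.g := hP.epi_shortComplex_g
  have hS : hP.shortComplex.ShortExact := { exact := hP.exact_shortComplex }
  haveI := DCat.InjChain.quasiIso_g_of_acyclic hS (acyclic_sigma _ fun x => hK x.1)
  haveI : QuasiIso (biprod.inl : M ⟶ M ⊞ tgt K M) :=
    SpecialSystems.quasiIso_inl M (tgt K M) (acyclic_sigma _ fun x => DCat.Acyclic.acyclic_mappingCone_id _)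
  have e : (biprod.inl : M ⟶ M ⊞ tgt K M) ≫ hP.shortComplex.g = (killι K).app M := by
    show biprod.inl ≫ biprod.desc (pushout.inr (incl K M) (ev K M)) (pushout.inl (incl K M) (ev K M)) = _
    rw [biprod.inl_desc]
    rfl
  rw [← e]
  infer_instance

theorem homotopy_app (M : CochainComplex A ℤ) (i : ι) (w : K i ⟶ M) :
    Nonempty (Homotopy (w ≫ (killι K).app M) 0) := by
  have e : w ≫ (killι K).app M = (𝟙 (K i) ≫ CochainComplex.mappingCone.inr (𝟙 (K i))) ≫
      Sigma.ι (fun x : Idx K M => CochainComplex.mappingCone (𝟙 (K x.1))) ⟨i, w⟩ ≫ pushout.inl (incl K M) (ev K M) := by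
    have h := Sigma.ι (fun x : Idx K M => K x.1) ⟨i, w⟩ ≫= pushout.condition (f := incl K M) (g := ev K M)
    simp only [incl, ev, Sigma.ι_map_assoc, Sigma.ι_desc_assoc] at h
    rw [Category.id_comp]
    exact h.symm
  exact ⟨(Homotopy.ofEq e).trans
    (((homotopyCofiber.inrCompHomotopy (𝟙 (K i)) (fun j => ⟨j - 1, by simp⟩)).compRight _).trans
      (Homotopy.ofEq zero_comp))⟩

end Groth.Agent.CommAlg4.KillAcyclic
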