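import Mathlib

/-!
# An elementary sieve in the mixed space of a number field

For `z` of large norm, an open set of the mixed space contains a point `y / z` with `y` integral,
in a prescribed congruence class modulo `M`, and divisible only by primes which divide `M` or have
prime absolute norm.
-/

set_option autoImplicit false
set_option linter.all false

universe u

open NumberField NumberField.mixedEmbedding Module

namespace Groth.Agent.CommAlg4.LatticeSieve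

section Euclid

variable {E : Type*} [NormedAddCommGroup E] [NormedSpace ℝ E] {ι : Type*} [Fintype ι] (b : Basis ι ℝ E)

theorem exists_repr_bound : ∃ A : ℝ, 1 ≤ A ∧ (∀ (x : E) (i : ι), |b.repr x i| ≤ A * ‖x‖) ∧
    ∀ (x : E) (r : ℝ), (∀ i, |b.repr x i| ≤ r) → ‖x‖ ≤ A * r ∨ r < 0 := by
  haveI : FiniteDimensional ℝ E := Module.Finite.of_basis b
  let φ : E →L[ℝ] (ι → ℝ) := LinearMap.toContinuousLinearMap b.equivFun.toLinearMap
  refine ⟨‖φ‖ + (∑ i, ‖b i‖) + 1, ?_, fun x i => ?_, fun x r hr => ?_⟩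
  · have := norm_nonneg φ
    have : 0 ≤ ∑ i, ‖b i‖ := Finset.sum_nonneg fun i _ => norm_nonneg _
    linarith
  · have h1 : |b.repr x i| ≤ ‖φ x‖ := by
      rw [← Real.norm_eq_abs]; exact norm_le_pi_norm (φ x) i
    refine h1.trans ((φ.le_opNorm x).trans ?_)
    have : 0 ≤ ∑ i, ‖b i‖ := Finset.sum_nonneg fun i _ => norm_nonneg _
    gcongr
    linarith
  · rcases lt_or_ge r 0 with h | h
    · exact Or.inr h
    left
    calc ‖x‖ = ‖∑ i, b.repr x i • b i‖ := by rw [b.sum_repr]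
      _ ≤ ∑ i, ‖b.repr x i • b i‖ := norm_sum_le _ _
      _ ≤ ∑ i, r * ‖b i‖ := Finset.sum_le_sum fun i _ => by
          rw [_root_.norm_smul, Real.norm_eq_abs]; exact mul_le_mul_of_nonneg_right (hr i) (norm_nonneg _)
      _ = (∑ i, ‖b i‖) * r := by rw [← Finset.mul_sum, mul_comm]
      _ ≤ _ := by
          refine mul_le_mul_of_nonneg_right ?_ h
          have := norm_nonneg φ
          linarith

/-- A separated subset of a ball is small. -/
theorem exists_card_le (b : Basis ι ℝ E) : ∃ C : ℝ, 0 < C ∧ ∀ (c : E) (ρ δ : ℝ), 0 ≤ ρ → 0 < δ →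
    ∀ {α : Type*} (S : Finset α) (g : α → E), (∀ s ∈ S, ‖g s - c‖ ≤ ρ) →
      (∀ s ∈ S, ∀ t ∈ S, s ≠ t → δ ≤ ‖g s - g t‖) →
        (S.card : ℝ) ≤ C * (1 + (ρ / δ) ^ Fintype.card ι) := by
  classical
  obtain ⟨A, hA, hA1, hA2⟩ := exists_repr_bound b
  set n := Fintype.card ι
  refine ⟨(4 * A * A + 3) ^ n, by positivity, fun c ρ δ hρ hδ α S g hin hsep => ?_⟩
  let fl : α → ι → ℤ := fun s i => ⌊2 * A * b.repr (g s - c) i / δ⌋
  have hinj : Set.InjOn fl S := fun s hs t ht hst => by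
    by_contra hne
    have h1 : ∀ i, |b.repr (g s - g t) i| ≤ δ / (2 * A) := fun i => by
      have h2 := (Int.abs_sub_lt_one_of_floor_eq_floor (congrFun hst i)).le
      have h3 : b.repr (g s - g t) i = b.repr (g s - c) i - b.repr (g t - c) i := by
        rw [← Finsupp.sub_apply, ← map_sub, sub_sub_sub_cancel_right]
      rw [h3, le_div_iff₀ (by positivity)]
      rw [← sub_div, ← mul_sub, abs_div, abs_of_pos hδ, div_le_one hδ, abs_mul,
        abs_of_pos (by positivity : (0:ℝ) < 2 * A)] at h2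
      linarith
    rcases hA2 _ _ h1 with h4 | h4
    · have h5 := hsep s hs t ht hne
      rw [show A * (δ / (2 * A)) = δ / 2 by field_simp] at h4
      linarith
    · exact absurd h4 (not_lt.2 (by positivity))
  let K : ℤ := ⌊2 * A * A * ρ / δ⌋ + 1
  have hK0 : 0 ≤ K := by
    have : (0 : ℤ) ≤ ⌊2 * A * A * ρ / δ⌋ := Int.floor_nonneg.2 (by positivity)
    omega
  have hmem : ∀ s ∈ S, fl s ∈ Fintype.piFinset fun _ : ι => Finset.Icc (-K) K := fun s hs => by
    rw [Fintype.mem_piFinset]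
    intro i
    rw [Finset.mem_Icc]
    have h1 : |2 * A * b.repr (g s - c) i / δ| ≤ 2 * A * A * ρ / δ := by
      rw [abs_div, abs_of_pos hδ, abs_mul, abs_of_pos (by positivity : (0:ℝ) < 2 * A)]
      refine div_le_div_of_nonneg_right ?_ hδ.le
      calc 2 * A * |b.repr (g s - c) i| ≤ 2 * A * (A * ρ) :=
            mul_le_mul_of_nonneg_left ((hA1 _ i).trans (mul_le_mul_of_nonneg_left (hin s hs) (by linarith)))
              (by positivity)
        _ = 2 * A * A * ρ := by ring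
    have hlt : 2 * A * A * ρ / δ < (K : ℝ) := by
      push_cast [K]
      exact Int.lt_floor_add_one _
    rw [abs_le] at h1
    constructor
    · refine Int.le_floor.2 ?_
      push_cast
      linarith
    · refine (Int.floor_le_floor h1.2).trans ?_
      omega
  have hcard : S.card ≤ ((2 * K + 1).toNat) ^ n := by
    refine (Finset.card_le_card_of_injOn fl hmem hinj).trans (le_of_eq ?_)
    rw [Fintype.card_piFinset, Finset.prod_const, Finset.card_univ, Int.card_Icc]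
    congr 2
    omega
  have hKR : (((2 * K + 1).toNat : ℕ) : ℝ) ≤ (4 * A * A + 3) * max 1 (ρ / δ) := by
    rw [show (((2 * K + 1).toNat : ℕ) : ℝ) = ((2 * K + 1 : ℤ) : ℝ) by
      rw [← Int.cast_natCast, Int.toNat_of_nonneg (by omega)]]
    have h1 : (⌊2 * A * A * ρ / δ⌋ : ℝ) ≤ 2 * A * A * (ρ / δ) := by
      rw [← mul_div_assoc]; exact Int.floor_le _
    push_cast [K]
    have h2 := le_max_left (1:ℝ) (ρ / δ)
    have h3 := le_max_right (1:ℝ) (ρ / δ)
    nlinarith [mul_le_mul_of_nonneg_left h3 (by positivity : (0:ℝ) ≤ 4 * A * A)]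
  calc (S.card : ℝ) ≤ (((2 * K + 1).toNat : ℕ) : ℝ) ^ n := by exact_mod_cast hcard
    _ ≤ ((4 * A * A + 3) * max 1 (ρ / δ)) ^ n := pow_le_pow_left₀ (Nat.cast_nonneg _) hKR n
    _ = (4 * A * A + 3) ^ n * (max 1 (ρ / δ)) ^ n := mul_pow _ _ _
    _ ≤ (4 * A * A + 3) ^ n * (1 + (ρ / δ) ^ n) := by
        refine mul_le_mul_of_nonneg_left ?_ (by positivity)
        have : 0 ≤ (ρ / δ) ^ n := by positivity
        rcases max_cases (1:ℝ) (ρ / δ) with ⟨h, -⟩ | ⟨h, -⟩ <;> rw [h] <;> simp <;> linarith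

/-- A set which is `r`-dense contains many points in every ball of radius much bigger than `r`. -/
theorem exists_le_card (b : Basis ι ℝ E) : ∃ C : ℝ, 0 < C ∧ ∀ (c : E) (ρ r : ℝ), 0 < r → 2 * r ≤ ρ →
    ∀ {α : Type*} (g : α → E), (∀ x, ∃ a, ‖g a - x‖ ≤ r) →
      ∃ S : Finset α, (∀ s ∈ S, ‖g s - c‖ ≤ ρ) ∧ C * (ρ / r) ^ Fintype.card ι ≤ S.card := by
  classical
  obtain ⟨A, hA, hA1, hA2⟩ := exists_repr_bound b
  set n := Fintype.card ι
  refine ⟨(1 / (6 * A * A)) ^ n, by positivity, fun c ρ r hr hρ α g hg => ?_⟩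
  let K : ℕ := ⌊ρ / 2 / (3 * r * A * A)⌋₊
  choose f hf using fun m : ι → ℕ => hg (c + ∑ i, (3 * r * A * (m i : ℝ)) • b i)
  have hρ0 : 0 ≤ ρ := by linarith
  refine ⟨(Fintype.piFinset fun _ : ι => Finset.range (K + 1)).image f, fun s hs => ?_, ?_⟩
  · obtain ⟨m, hm, rfl⟩ := Finset.mem_image.1 hs
    rw [Fintype.mem_piFinset] at hm
    have h1 : ∀ i, |b.repr (∑ j, (3 * r * A * (m j : ℝ)) • b j) i| ≤ ρ / 2 / A := fun i => by
      rw [b.repr_sum_self, abs_of_nonneg (by positivity)]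
      have h2 : (m i : ℝ) ≤ ρ / 2 / (3 * r * A * A) :=
        le_trans (Nat.cast_le.2 (Nat.lt_succ_iff.1 (Finset.mem_range.1 (hm i)))) (Nat.floor_le (by positivity))
      calc 3 * r * A * (m i : ℝ) ≤ 3 * r * A * (ρ / 2 / (3 * r * A * A)) :=
            mul_le_mul_of_nonneg_left h2 (by positivity)
        _ = ρ / 2 / A := by field_simp
    rcases hA2 _ _ h1 with h3 | h3
    · rw [show A * (ρ / 2 / A) = ρ / 2 by field_simp] at h3
      calc ‖g (f m) - c‖ = ‖(g (f m) - (c + ∑ j, (3 * r * A * (m j : ℝ)) • b j)) +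
            ∑ j, (3 * r * A * (m j : ℝ)) • b j‖ := by congr 1; abel
        _ ≤ r + ρ / 2 := (norm_add_le _ _).trans (add_le_add (hf m) h3)
        _ ≤ ρ := by linarith
    · exact absurd h3 (not_lt.2 (by positivity))
  · have hinj : Function.Injective f := fun m m' h => by
      funext i
      by_contra hne
      have h1 : ‖(∑ j, (3 * r * A * (m j : ℝ)) • b j) - ∑ j, (3 * r * A * (m' j : ℝ)) • b j‖ ≤ 2 * r := by
        have h2 := norm_sub_le (g (f m) - (c + ∑ j, (3 * r * A * (m' j : ℝ)) • b j))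
          (g (f m) - (c + ∑ j, (3 * r * A * (m j : ℝ)) • b j))
        rw [sub_sub_sub_cancel_left, add_sub_add_left_eq_sub] at h2
        refine h2.trans ?_
        have := hf m
        have := hf m'
        rw [← h] at this
        linarith
      have h3 := hA1 ((∑ j, (3 * r * A * (m j : ℝ)) • b j) - ∑ j, (3 * r * A * (m' j : ℝ)) • b j) i
      rw [map_sub, Finsupp.sub_apply, b.repr_sum_self, b.repr_sum_self, ← mul_sub, abs_mul,
        abs_of_pos (by positivity : 0 < 3 * r * A)] at h3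
      have h4 : (1 : ℝ) ≤ |(m i : ℝ) - m' i| := by
        have : (1 : ℤ) ≤ |(m i : ℤ) - m' i| := Int.one_le_abs (by omega)
        exact_mod_cast this
      have h5 := h3.trans (mul_le_mul_of_nonneg_left h1 (by linarith : (0:ℝ) ≤ A))
      nlinarith [mul_le_mul_of_nonneg_left h4 (by positivity : (0:ℝ) ≤ 3 * r * A)]
    rw [Finset.card_image_of_injective _ hinj, Fintype.card_piFinset, Finset.prod_const, Finset.card_range,
      Finset.card_univ, ← mul_pow, Nat.cast_pow]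
    refine pow_le_pow_left₀ (by positivity) ?_ n
    have h6 := (Nat.lt_floor_add_one (ρ / 2 / (3 * r * A * A))).le
    push_cast
    refine le_trans (le_of_eq ?_) h6
    field_simp
    ring

end Euclid

section Field

open scoped Classical

variable (L : Type u) [Field L] [NumberField L]

theorem card_index : Fintype.card (Free.ChooseBasisIndex ℤ (𝓞 L)) = finrank ℚ L := by
  rw [← finrank_eq_card_basis (latticeBasis L), mixedEmbedding.finrank]

theorem norm_le_pow (X : mixedSpace L) : mixedEmbedding.norm X ≤ ‖X‖ ^ finrank ℚ L := by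
  rw [mixedEmbedding.norm_apply, ← InfinitePlace.sum_mult_eq, ← Finset.prod_pow_eq_pow_sum]
  refine Finset.prod_le_prod (fun w _ => pow_nonneg (normAtPlace_nonneg _ _) _) fun w _ => ?_
  refine pow_le_pow_left₀ (normAtPlace_nonneg _ _) ?_ _
  rw [norm_eq_sup'_normAtPlace]
  exact Finset.le_sup' (fun w => normAtPlace w X) (Finset.mem_univ w)

theorem abs_norm_eq (y : 𝓞 L) : |(Algebra.norm ℚ (y : L) : ℝ)| = (((Algebra.norm ℤ y).natAbs : ℕ) : ℝ) := by
  rw [← Algebra.coe_norm_int, Nat.cast_natAbs]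
  simp

theorem abs_norm_div (a z : L) (hz : z ≠ 0) :
    |(Algebra.norm ℚ (a / z) : ℝ)| = |(Algebra.norm ℚ a : ℝ)| / |(Algebra.norm ℚ z : ℝ)| := by
  have h := congrArg (Algebra.norm ℚ) (div_mul_cancel₀ a hz)
  rw [map_mul] at h
  rw [eq_div_iff (by simpa using hz), ← abs_mul, ← Rat.cast_mul, h]

/-- Integral points are dense at the expected scale. -/
theorem exists_cover : ∃ C : ℝ, 0 < C ∧ ∀ (z : L) (R : ℝ), 0 < R → R ^ finrank ℚ L = |(Algebra.norm ℚ z : ℝ)| →
    ∀ (Q : ℕ), 0 < Q → ∀ (y₁ : 𝓞 L) (X : mixedSpace L), ∃ y : 𝓞 L, (Q : 𝓞 L) ∣ y - y₁ ∧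
      ‖mixedEmbedding L ((y : L) / z) - X‖ ≤ C * Q / R := by
  classical
  let b := latticeBasis L
  obtain ⟨A, hA, -, hA2⟩ := exists_repr_bound b
  let C₀ : NNReal := (minkowskiBound L ↑1).toNNReal + 1
  have hlt : minkowskiBound L ↑1 < (C₀ : ENNReal) := by
    rw [ENNReal.coe_add, ENNReal.coe_toNNReal (minkowskiBound_lt_top L ↑1).ne]
    exact ENNReal.lt_add_right (minkowskiBound_lt_top L ↑1).ne one_ne_zero
  have hC₀ : 1 ≤ C₀ := le_add_self
  have hn : 0 < finrank ℚ L := finrank_pos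
  refine ⟨C₀ * A, by
    have : (1:ℝ) ≤ C₀ := by exact_mod_cast hC₀
    positivity, fun z R hR hRz Q hQ y₁ X => ?_⟩
  have hz : z ≠ 0 := by
    rintro rfl
    simp [hn.ne', hR.ne'] at hRz
  let f : InfinitePlace L → NNReal := fun w => C₀ * NNReal.mk (w z / R) (div_nonneg (apply_nonneg w z) hR.le)
  have hprod : ∏ w, f w ^ InfinitePlace.mult w = C₀ ^ finrank ℚ L := by
    rw [← NNReal.coe_inj]
    push_cast [f]
    simp_rw [mul_pow, div_pow]
    rw [Finset.prod_mul_distrib, Finset.prod_div_distrib, InfinitePlace.prod_eq_abs_norm,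
      Finset.prod_pow_eq_pow_sum, Finset.prod_pow_eq_pow_sum, InfinitePlace.sum_mult_eq, Rat.cast_abs, ← hRz,
      div_self (by positivity), mul_one]
  obtain ⟨w₀, hw₀, hw₀lt⟩ := exists_ne_zero_mem_ringOfIntegers_lt L (f := f) (by
    rw [convexBodyLT_volume, hprod]
    refine hlt.trans_le ((le_mul_of_one_le_left' ?_).trans' ?_)
    · exact_mod_cast one_le_convexBodyLTFactor L
    · exact_mod_cast le_self_pow₀ hC₀ hn.ne')
  let a : L := (w₀ : L) / z
  have ha : a ≠ 0 := div_ne_zero (by simpa using hw₀) hz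
  have hnorma : ‖mixedEmbedding L a‖ ≤ C₀ / R := by
    rw [norm_eq_sup'_normAtPlace]
    refine Finset.sup'_le _ _ fun w _ => ?_
    rw [normAtPlace_apply, map_div₀, div_le_iff₀ (by simpa [InfinitePlace.pos_iff] using hz)]
    refine (hw₀lt w).le.trans (le_of_eq ?_)
    show (C₀ : ℝ) * (w z / R) = _
    ring
  let Y := ((Q : ℝ)⁻¹) • (mixedEmbedding L a⁻¹ * (X - mixedEmbedding L ((y₁ : L) / z)))
  let k : 𝓞 L := ∑ i, round (b.repr Y i) • (RingOfIntegers.basis L i)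
  refine ⟨y₁ + (Q : 𝓞 L) * (w₀ * k), ⟨w₀ * k, by ring⟩, ?_⟩
  have hk : mixedEmbedding L (k : L) = ∑ i, (round (b.repr Y i) : ℝ) • b i := by
    simp only [k, map_sum, map_zsmul, Int.cast_smul_eq_zsmul]
    refine Finset.sum_congr rfl fun i _ => ?_
    rw [show b i = mixedEmbedding L (integralBasis L i) from latticeBasis_apply L i, integralBasis_apply]
  have hX : X = mixedEmbedding L ((y₁ : L) / z) + (Q : ℝ) • (mixedEmbedding L a * Y) := by
    simp only [Y, mul_smul_comm, smul_smul]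
    rw [mul_inv_cancel₀ (by positivity), one_smul, ← mul_assoc, ← map_mul, mul_inv_cancel₀ ha, map_one, one_mul,
      add_sub_cancel]
  have hy : mixedEmbedding L (((y₁ + (Q : 𝓞 L) * (w₀ * k) : 𝓞 L) : L) / z) - X =
      (Q : ℝ) • (mixedEmbedding L a * (mixedEmbedding L (k : L) - Y)) := by
    rw [hX, show ((y₁ + (Q : 𝓞 L) * (w₀ * k) : 𝓞 L) : L) / z = (y₁ : L) / z + (Q : L) * (a * k) by
      push_cast [a]; ring, map_add, map_mul, map_mul, map_natCast, add_sub_add_left_eq_sub, mul_sub, smul_sub]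
    simp only [Nat.cast_smul_eq_nsmul, nsmul_eq_mul, mul_sub]
  rw [hy, _root_.norm_smul, Real.norm_natCast]
  have h1 : ‖mixedEmbedding L (k : L) - Y‖ ≤ A := by
    rcases hA2 (mixedEmbedding L (k : L) - Y) 1 (fun i => by
      rw [hk, map_sub, Finsupp.sub_apply, b.repr_sum_self, abs_sub_comm]
      exact (abs_sub_round _).trans (by norm_num)) with h | h
    · simpa using h
    · exact absurd h (by norm_num)
  calc (Q : ℝ) * ‖mixedEmbedding L a * (mixedEmbedding L (k : L) - Y)‖ ≤ Q * (C₀ / R * A) :=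
        mul_le_mul_of_nonneg_left ((norm_mul_le _ _).trans
          (mul_le_mul hnorma h1 (norm_nonneg _) (by positivity))) (Nat.cast_nonneg _)
    _ = _ := by ring

variable {L}

theorem exists_prime_pow (P : Ideal (𝓞 L)) [P.IsPrime] (hP : P ≠ ⊥) :
    ∃ p f : ℕ, p.Prime ∧ (p : 𝓞 L) ∈ P ∧ Ideal.absNorm P = p ^ f ∧ 0 < f := by
  haveI : Finite (𝓞 L ⧸ P) := (Ideal.absNorm_ne_zero_iff P).1 (mt Ideal.absNorm_eq_zero_iff.1 hP)
  haveI : P.IsMaximal := Ideal.IsPrime.isMaximal inferInstance hP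
  letI := Fintype.ofFinite (𝓞 L ⧸ P)
  letI := Ideal.Quotient.field P
  let p := ringChar (𝓞 L ⧸ P)
  obtain ⟨f, hp, hcard⟩ := FiniteField.card (𝓞 L ⧸ P) p
  refine ⟨p, f, hp, ?_, ?_, f.pos⟩
  · rw [← Ideal.Quotient.eq_zero_iff_mem, map_natCast, CharP.cast_eq_zero]
  · rw [Ideal.absNorm_apply, Submodule.cardQuot_apply, ← hcard, Nat.card_eq_fintype_card]

/-- At most `n` primes lie over a rational prime. -/
theorem card_over_le (p : ℕ) (hp : p.Prime) (S : Finset (Ideal (𝓞 L)))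
    (hS : ∀ P ∈ S, P.IsPrime ∧ P ≠ ⊥ ∧ (p : 𝓞 L) ∈ P) : S.card ≤ finrank ℚ L := by
  classical
  have hdvd : ∏ P ∈ S, P ∣ Ideal.span {(p : 𝓞 L)} := by
    refine Finset.prod_primes_dvd _ (fun P hP => Ideal.prime_of_isPrime (hS P hP).2.1 (hS P hP).1) fun P hP => ?_
    rw [Ideal.dvd_span_singleton]
    exact (hS P hP).2.2
  have h1 : ∀ P ∈ S, p ∣ Ideal.absNorm P := fun P hP => by
    haveI := (hS P hP).1
    obtain ⟨q, f, hq, hqP, hN, hf⟩ := exists_prime_pow P (hS P hP).2.1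
    rcases eq_or_ne p q with rfl | hne
    · rw [hN]; exact dvd_pow_self _ hf.ne'
    · exfalso
      refine (hS P hP).1.ne_top ((Ideal.eq_top_iff_one _).2 ?_)
      have h2 := ((Nat.coprime_primes hp hq).2 hne)
      have h3 : (1 : 𝓞 L) = (p : 𝓞 L) * (Nat.gcdA p q : 𝓞 L) + (q : 𝓞 L) * (Nat.gcdB p q : 𝓞 L) := by
        have := congrArg (Int.cast : ℤ → 𝓞 L) (Nat.gcd_eq_gcd_ab p q)
        rw [h2.gcd_eq_one] at this
        push_cast at this
        exact this
      rw [h3]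
      exact add_mem (P.mul_mem_right _ (hS P hP).2.2) (P.mul_mem_right _ hqP)
  have h2 := (Finset.prod_dvd_prod_of_dvd _ _ h1).trans (show (∏ P ∈ S, Ideal.absNorm P) ∣ Ideal.absNorm (Ideal.span {(p : 𝓞 L)}) from (map_prod (Ideal.absNorm (S := 𝓞 L)) _ _) ▸ Ideal.absNorm_dvd_absNorm_of_le (Ideal.dvd_iff_le.1 hdvd))
  rw [Finset.prod_const, Ideal.absNorm_span_singleton, ← map_natCast (algebraMap ℤ (𝓞 L)), Algebra.norm_algebraMap,
    Int.natAbs_pow, Int.natAbs_natCast, Nat.pow_dvd_pow_iff_le_right hp.one_lt, RingOfIntegers.rank] at h2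
  exact h2

set_option maxHeartbeats 1000000 in
/-- The sieve. -/
theorem exists_good (M : 𝓞 L) (hM : M ≠ 0) (y₀ : 𝓞 L) (B : Set (mixedSpace L)) (hB : IsOpen B) (hne : B.Nonempty) :
    ∃ T₀ : ℝ, ∀ z : L, T₀ ≤ |(Algebra.norm ℚ z : ℝ)| → ∃ y : 𝓞 L, y ≠ 0 ∧ M ∣ y - y₀ ∧
      mixedEmbedding L ((y : L) / z) ∈ B ∧ ∀ P : Ideal (𝓞 L), P.IsPrime → y ∈ P → M ∉ P → (Ideal.absNorm P).Prime := by
  classical
  obtain ⟨Cup, hCup, hup⟩ := exists_card_le (latticeBasis L)
  obtain ⟨Clo, hClo, hlo⟩ := exists_le_card (latticeBasis L)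
  obtain ⟨Ccv, hCcv, hcv⟩ := exists_cover L
  set n := finrank ℚ L with hn'
  have hn : 0 < n := finrank_pos
  rw [card_index] at hup hlo
  -- a ball away from zero
  obtain ⟨c, ρ, hρ, hball, hc0⟩ : ∃ (c : mixedSpace L) (ρ : ℝ), 0 < ρ ∧ Metric.closedBall c ρ ⊆ B ∧ ρ < ‖c‖ := by
    obtain ⟨c, hc, hc0⟩ : ∃ c ∈ B, c ≠ 0 := by
      by_contra h
      push Not at h
      obtain ⟨b, hb⟩ := hne
      have hB0 : B = {0} := Set.eq_singleton_iff_unique_mem.2 ⟨h b hb ▸ hb, h⟩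
      exact not_isOpen_singleton (0 : mixedSpace L) (hB0 ▸ hB)
    obtain ⟨ε, hε, hεB⟩ := Metric.isOpen_iff.1 hB c hc
    have hc' := norm_pos_iff.2 hc0
    exact ⟨c, min (ε / 2) (‖c‖ / 2), lt_min (by linarith) (by linarith),
      (Metric.closedBall_subset_ball (by linarith [min_le_left (ε / 2) (‖c‖ / 2)])).trans hεB,
      by linarith [min_le_right (ε / 2) (‖c‖ / 2)]⟩
  let NM := Ideal.absNorm (Ideal.span {M})
  have hNM : 0 < NM := Nat.pos_of_ne_zero (mt Ideal.absNorm_eq_zero_iff.1 (by simpa using hM))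
  -- the threshold for small primes
  obtain ⟨Z₀, hZ₀⟩ := exists_nat_gt (4 * Cup * n * Ccv ^ n / Clo)
  let Z := max (max Z₀ NM) 1
  have hZ : 4 * Cup * n * Ccv ^ n / Clo < Z :=
    hZ₀.trans_le (by exact_mod_cast (le_max_left _ _).trans (le_max_left _ _))
  have hZpos : 0 < Z := lt_of_lt_of_le one_pos (le_max_right _ _)
  let Q := NM * Z.factorial
  have hQ : 0 < Q := Nat.mul_pos hNM Z.factorial_pos
  have hQpos : (0 : ℝ) < Q := by exact_mod_cast hQ
  have hpQ : ∀ p : ℕ, p.Prime → (p ∣ Q ↔ p ≤ Z) := fun p hp => by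
    constructor
    · intro h
      rcases hp.dvd_mul.1 h with h | h
      · exact (Nat.le_of_dvd hNM h).trans ((le_max_right _ _).trans (le_max_left _ _))
      · exact hp.dvd_factorial.1 h
    · exact fun h => dvd_mul_of_dvd_right (Nat.dvd_factorial hp.pos h) _
  have hMQ : M ∣ (Q : 𝓞 L) := by
    push_cast [Q]
    exact dvd_mul_of_dvd_left (Ideal.mem_span_singleton.1 (Ideal.absNorm_mem _)) _
  -- avoid the small primes
  have hsmall : {P : Ideal (𝓞 L) | P.IsPrime ∧ M ∉ P ∧ ∃ p : ℕ, p.Prime ∧ p ≤ Z ∧ (p : 𝓞 L) ∈ P}.Finite := by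
    refine (Ideal.finite_setOfPred_absNorm_le (S := 𝓞 L) (Z.factorial ^ n)).subset ?_
    rintro P ⟨hP, -, p, hp, hpZ, hpP⟩
    refine Nat.le_of_dvd (pow_pos Z.factorial_pos _) ?_
    have h1 : (Z.factorial : 𝓞 L) ∈ P :=
      P.mem_of_dvd (Nat.cast_dvd_cast (Nat.dvd_factorial hp.pos hpZ)) hpP
    have h2 := Ideal.absNorm_dvd_norm_of_mem h1
    rw [← map_natCast (algebraMap ℤ (𝓞 L)), Algebra.norm_algebraMap, RingOfIntegers.rank] at h2
    exact_mod_cast h2
  have hP0 : ∀ P : Ideal (𝓞 L), ∀ p : ℕ, p.Prime → (p : 𝓞 L) ∈ P → P ≠ ⊥ := fun P p hp hpP h => by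
    rw [h, Ideal.mem_bot, Nat.cast_eq_zero] at hpP
    exact hp.ne_zero hpP
  obtain ⟨y₁, hy₁, hy₁P⟩ : ∃ y₁ : 𝓞 L, M ∣ y₁ - y₀ ∧ ∀ P ∈ hsmall.toFinset, y₁ ∉ P := by
    have hex : ∀ P : hsmall.toFinset, ∃ s : 𝓞 L, y₀ + M * s ∉ P.1 := fun P => by
      obtain ⟨hP, hMP, -⟩ := hsmall.mem_toFinset.1 P.2
      by_contra h
      push Not at h
      have h0 := h 0
      rw [mul_zero, add_zero] at h0
      exact hMP (by simpa using sub_mem (h 1) h0)
    choose s hs using hex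
    obtain ⟨t, ht⟩ := IsDedekindDomain.exists_forall_sub_mem_ideal (s := hsmall.toFinset) id (fun _ => 1)
      (fun P hP => by
        obtain ⟨hP, -, p, hp, -, hpP⟩ := hsmall.mem_toFinset.1 hP
        exact Ideal.prime_of_isPrime (hP0 P p hp hpP) hP)
      (fun P _ P' _ h => h) s
    refine ⟨y₀ + M * t, ⟨t, by ring⟩, fun P hP h => hs ⟨P, hP⟩ ?_⟩
    have h1 := ht P hP
    rw [pow_one] at h1
    rw [show y₀ + M * s ⟨P, hP⟩ = (y₀ + M * t) - M * (t - s ⟨P, hP⟩) by ring]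
    exact sub_mem h (Ideal.mul_mem_left _ _ h1)
  let K := (‖c‖ + ρ) ^ n
  let G := Clo * ρ ^ n / (Ccv ^ n * (Q : ℝ) ^ n)
  have hG : 0 < G := by positivity
  let H := 2 * Cup * n * Real.sqrt K / G
  refine ⟨max ((2 * Ccv * Q / ρ) ^ n) (H ^ 2) + 1, fun z hz => ?_⟩
  set T := |(Algebra.norm ℚ z : ℝ)| with hT
  have hTpos : 0 < T := lt_of_lt_of_le (by
    have : 0 ≤ H ^ 2 := sq_nonneg _
    linarith [le_max_right ((2 * Ccv * Q / ρ) ^ n) (H ^ 2)]) hz
  have hz0 : z ≠ 0 := by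
    rintro rfl
    simp [T, hn.ne'] at hTpos
  let R := T ^ ((n : ℝ)⁻¹)
  have hR : 0 < R := Real.rpow_pos_of_pos hTpos _
  have hRn : R ^ n = T := Real.rpow_inv_natCast_pow hTpos.le hn.ne'
  have hrρ : 2 * (Ccv * Q / R) ≤ ρ := by
    have h1 : (2 * Ccv * Q / ρ) ^ n ≤ R ^ n := by
      rw [hRn]; linarith [le_max_left ((2 * Ccv * Q / ρ) ^ n) (H ^ 2)]
    have h2 := le_of_pow_le_pow_left₀ hn.ne' hR.le h1
    rw [div_le_iff₀ hρ] at h2
    rw [mul_div_assoc', div_le_iff₀ hR]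
    linarith
  -- the good points
  let g : {y : 𝓞 L // (Q : 𝓞 L) ∣ y - y₁} → mixedSpace L := fun y => mixedEmbedding L ((y.1 : L) / z)
  obtain ⟨S, hSball, hScard⟩ := hlo c ρ (Ccv * Q / R) (by positivity) hrρ g (fun X => by
    obtain ⟨y, hy, hy'⟩ := hcv z R hR hRn Q hQ y₁ X
    exact ⟨⟨y, hy⟩, hy'⟩)
  have hS0 : ∀ y ∈ S, y.1 ≠ 0 := fun y hy h => by
    have h1 := hSball y hy
    rw [show g y = 0 by simp [g, h], zero_sub, norm_neg] at h1
    linarith
  have hSN : ∀ y ∈ S, (((Algebra.norm ℤ y.1).natAbs : ℕ) : ℝ) ≤ K * T := fun y hy => by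
    rw [← abs_norm_eq]
    have h1 := (norm_le_pow L (g y)).trans (pow_le_pow_left₀ (norm_nonneg _)
      (show ‖g y‖ ≤ ‖c‖ + ρ by linarith [norm_le_insert' (g y) c, hSball y hy]) n)
    rw [norm_eq_norm, Rat.cast_abs, abs_norm_div L _ _ hz0, div_le_iff₀ hTpos] at h1
    exact h1
  let M₀ := ⌊K * T⌋₊
  let Bad := (Ideal.finite_setOfPred_absNorm_le (S := 𝓞 L) M₀).toFinset.filter
    fun P => P.IsPrime ∧ P ≠ ⊥ ∧ ¬ (Ideal.absNorm P).Prime ∧ ∀ p : ℕ, p.Prime → (p : 𝓞 L) ∈ P → Z < p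
  suffices hex : ∃ y ∈ S, ∀ P ∈ Bad, y.1 ∉ P by
    obtain ⟨y, hy, hgood⟩ := hex
    refine ⟨y.1, hS0 y hy, ?_, hball (mem_closedBall_iff_norm.2 (hSball y hy)), fun P hP hyP hMP => ?_⟩
    · simpa using dvd_add (hMQ.trans y.2) hy₁
    · by_contra hnp
      have hPbot : P ≠ ⊥ := fun h => hS0 y hy (by rwa [h, Ideal.mem_bot] at hyP)
      by_cases hsm : ∃ p : ℕ, p.Prime ∧ p ≤ Z ∧ (p : 𝓞 L) ∈ P
      · obtain ⟨p, hp, hpZ, hpP⟩ := hsm
        refine hy₁P P (hsmall.mem_toFinset.2 ⟨hP, hMP, p, hp, hpZ, hpP⟩) ?_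
        have h1 : y.1 - y₁ ∈ P := P.mem_of_dvd y.2 (P.mem_of_dvd (Nat.cast_dvd_cast ((hpQ p hp).2 hpZ)) hpP)
        simpa using sub_mem hyP h1
      · push Not at hsm
        refine hgood P (Finset.mem_filter.2 ⟨(Ideal.finite_setOfPred_absNorm_le M₀).mem_toFinset.2 ?_, hP, hPbot, hnp,
          fun p hp hpP => not_le.1 fun h => hsm p hp h hpP⟩) hyP
        refine Nat.le_floor ?_
        refine le_trans ?_ (hSN y hy)
        have h2 : Ideal.absNorm P ∣ (Algebra.norm ℤ y.1).natAbs := by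
          rw [← Ideal.absNorm_span_singleton]
          exact Ideal.absNorm_dvd_absNorm_of_le ((Ideal.span_singleton_le_iff_mem _).2 hyP)
        exact_mod_cast Nat.le_of_dvd (Int.natAbs_pos.2 (Algebra.norm_ne_zero_iff.2 (hS0 y hy))) h2
  by_contra hcon
  push Not at hcon
  have hcnt : ∀ P ∈ Bad, ((S.filter fun y => y.1 ∈ P).card : ℝ) ≤
      Cup * (1 + ρ ^ n * T / ((Q : ℝ) ^ n) * ((Ideal.absNorm P : ℕ) : ℝ)⁻¹) := by
    intro P hP
    obtain ⟨-, hPp, hPbot, -, hPZ⟩ := Finset.mem_filter.1 hP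
    have hNP : 0 < Ideal.absNorm P := Nat.pos_of_ne_zero (mt Ideal.absNorm_eq_zero_iff.1 hPbot)
    let q := ((Ideal.absNorm P : ℕ) : ℝ) ^ ((n : ℝ)⁻¹)
    have hq : 0 < q := Real.rpow_pos_of_pos (by exact_mod_cast hNP) _
    have hqn : q ^ n = Ideal.absNorm P := Real.rpow_inv_natCast_pow (Nat.cast_nonneg _) hn.ne'
    refine (hup c ρ (Q * q / R) hρ.le (by positivity) (S.filter fun y => y.1 ∈ P) g
      (fun y hy => hSball y (Finset.mem_filter.1 hy).1) (fun y hy y' hy' hne => ?_)).trans (le_of_eq ?_)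
    · obtain ⟨e, he⟩ := dvd_sub y.2 y'.2
      rw [sub_sub_sub_cancel_right] at he
      have he0 : e ≠ 0 := by
        rintro rfl
        exact hne (Subtype.ext (sub_eq_zero.1 (by rw [he, mul_zero])))
      have heP : e ∈ P := by
        refine (hPp.mem_or_mem (he ▸ sub_mem (Finset.mem_filter.1 hy).2 (Finset.mem_filter.1 hy').2)).resolve_left
          fun hQP => ?_
        obtain ⟨p, f, hp, hpP, -⟩ := exists_prime_pow P hPbot
        obtain ⟨r, hr, hrQ, hrP⟩ : ∃ r : ℕ, r.Prime ∧ r ∣ Q ∧ (r : 𝓞 L) ∈ P := by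
          have h1 : ∀ m : ℕ, 0 < m → (m : 𝓞 L) ∈ P → ∃ r : ℕ, r.Prime ∧ r ∣ m ∧ (r : 𝓞 L) ∈ P := by
            intro m
            induction m using Nat.recOnMul with
            | zero => intro h; exact absurd h (lt_irrefl 0)
            | one => intro _ h; exact absurd ((Ideal.eq_top_iff_one _).2 (by simpa using h)) hPp.ne_top
            | prime r hr => intro _ h; exact ⟨r, hr, dvd_rfl, h⟩
            | mul a b iha ihb =>
              intro hab h
              push_cast at h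
              rcases hPp.mem_or_mem h with h | h
              · obtain ⟨r, h1, h2, h3⟩ := iha (Nat.pos_of_mul_pos_right hab) h
                exact ⟨r, h1, h2.trans (dvd_mul_right _ _), h3⟩
              · obtain ⟨r, h1, h2, h3⟩ := ihb (Nat.pos_of_mul_pos_left hab) h
                exact ⟨r, h1, h2.trans (dvd_mul_left _ _), h3⟩
          exact h1 Q hQ hQP
        exact absurd ((hpQ r hr).1 hrQ) (not_le.2 (hPZ r hr hrP))
      have h1 : (Ideal.absNorm P : ℝ) ≤ |(Algebra.norm ℚ (e : L) : ℝ)| := by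
        rw [abs_norm_eq]
        have h2 : Ideal.absNorm P ∣ (Algebra.norm ℤ e).natAbs := by
          rw [← Ideal.absNorm_span_singleton]
          exact Ideal.absNorm_dvd_absNorm_of_le ((Ideal.span_singleton_le_iff_mem _).2 heP)
        exact_mod_cast Nat.le_of_dvd (Int.natAbs_pos.2 (Algebra.norm_ne_zero_iff.2 he0)) h2
      refine le_of_pow_le_pow_left₀ hn.ne' (norm_nonneg _) ?_
      refine le_trans ?_ (norm_le_pow L _)
      rw [show g y - g y' = mixedEmbedding L (((Q : L) * (e : L)) / z) by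
        simp only [g]
        rw [← map_sub, ← sub_div]
        congr 2
        have := congrArg (fun a : 𝓞 L => (a : L)) he
        push_cast at this
        exact this, norm_eq_norm, Rat.cast_abs, abs_norm_div L _ _ hz0, map_mul, ← map_natCast (algebraMap ℚ L),
        Algebra.norm_algebraMap, Rat.cast_mul, abs_mul, Rat.cast_pow, Rat.cast_natCast, abs_pow, Nat.abs_cast,
        div_pow, mul_pow, hqn, hRn]
      gcongr
    · rw [div_pow ρ, div_pow, mul_pow, hqn, hRn]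
      simp only [n]
      field_simp
  let fp : Ideal (𝓞 L) → ℕ := fun P => (Ideal.absNorm P).minFac
  have hfp : ∀ P ∈ Bad, (fp P).Prime ∧ (fp P : 𝓞 L) ∈ P ∧ fp P ^ 2 ≤ Ideal.absNorm P ∧
      fp P ∈ Finset.Ioc Z (max Z (Nat.sqrt M₀)) := by
    intro P hP
    obtain ⟨hle, hPp, hPbot, hnp, hPZ⟩ := Finset.mem_filter.1 hP
    obtain ⟨p, f, hp, hpP, hN, hf⟩ := exists_prime_pow P hPbot
    have hfp' : fp P = p := by
      show (Ideal.absNorm P).minFac = p
      rw [hN, Nat.pow_minFac hf.ne', hp.minFac_eq]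
    rw [hfp']
    have hf2 : 2 ≤ f := by
      by_contra h
      have : f = 1 := by omega
      rw [this, pow_one] at hN
      exact hnp (hN ▸ hp)
    have h2 : p ^ 2 ≤ Ideal.absNorm P := hN ▸ Nat.pow_le_pow_right hp.pos hf2
    refine ⟨hp, hpP, h2, Finset.mem_Ioc.2 ⟨hPZ p hp hpP, le_max_of_le_right (Nat.le_sqrt'.2 (h2.trans ?_))⟩⟩
    exact (Ideal.finite_setOfPred_absNorm_le M₀).mem_toFinset.1 hle
  have hfib : ∀ p, (Bad.filter fun P => fp P = p).card ≤ n := by
    intro p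
    rcases (Bad.filter fun P => fp P = p).eq_empty_or_nonempty with h | ⟨P, hP⟩
    · rw [h]; simp
    · rcases Finset.mem_filter.1 hP with ⟨hPB, rfl⟩
      exact card_over_le _ (hfp P hPB).1 _ fun P' hP' =>
        ⟨(Finset.mem_filter.1 (Finset.mem_filter.1 hP').1).2.1, (Finset.mem_filter.1 (Finset.mem_filter.1 hP').1).2.2.1,
          (Finset.mem_filter.1 hP').2 ▸ (hfp P' (Finset.mem_filter.1 hP').1).2.1⟩
  have hsum : ∑ P ∈ Bad, ((Ideal.absNorm P : ℕ) : ℝ)⁻¹ ≤ n / Z := by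
    calc ∑ P ∈ Bad, ((Ideal.absNorm P : ℕ) : ℝ)⁻¹ ≤ ∑ P ∈ Bad, ((fp P : ℝ) ^ 2)⁻¹ :=
          Finset.sum_le_sum fun P hP => inv_anti₀ (by
            have := (hfp P hP).1.pos
            positivity) (by exact_mod_cast (hfp P hP).2.2.1)
      _ = ∑ p ∈ Finset.Ioc Z (max Z (Nat.sqrt M₀)), ∑ P ∈ Bad.filter (fun P => fp P = p), ((fp P : ℝ) ^ 2)⁻¹ :=
          (Finset.sum_fiberwise_of_maps_to (fun P hP => (hfp P hP).2.2.2) _).symm
      _ ≤ ∑ p ∈ Finset.Ioc Z (max Z (Nat.sqrt M₀)), n * ((p : ℝ) ^ 2)⁻¹ := Finset.sum_le_sum fun p _ => by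
          rw [Finset.sum_congr rfl (g := fun _ => ((p : ℝ) ^ 2)⁻¹) (fun P hP => by rw [(Finset.mem_filter.1 hP).2]),
            Finset.sum_const, nsmul_eq_mul]
          exact mul_le_mul_of_nonneg_right (by exact_mod_cast hfib p) (by positivity)
      _ ≤ _ := by
          rw [← Finset.mul_sum, div_eq_mul_inv]
          refine mul_le_mul_of_nonneg_left ((sum_Ioc_inv_sq_le_sub hZpos.ne' (le_max_left _ _)).trans ?_) (Nat.cast_nonneg _)
          simp
  have hBadCard : (Bad.card : ℝ) ≤ n * Real.sqrt (K * T) := by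
    have hmaps : ∀ P ∈ Bad, fp P ∈ Finset.Icc 1 (Nat.sqrt M₀) := fun P hP => Finset.mem_Icc.2
      ⟨(hfp P hP).1.one_lt.le, Nat.le_sqrt'.2 ((hfp P hP).2.2.1.trans
        ((Ideal.finite_setOfPred_absNorm_le M₀).mem_toFinset.1 (Finset.mem_filter.1 hP).1))⟩
    have h1 : Bad.card ≤ Nat.sqrt M₀ * n := by
      rw [Finset.card_eq_sum_card_fiberwise hmaps]
      refine (Finset.sum_le_card_nsmul _ _ n fun p _ => hfib p).trans (le_of_eq ?_)
      rw [Nat.card_Icc, smul_eq_mul, Nat.add_sub_cancel]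
    calc (Bad.card : ℝ) ≤ (Nat.sqrt M₀ : ℝ) * n := by exact_mod_cast h1
      _ ≤ Real.sqrt (M₀ : ℝ) * n := mul_le_mul_of_nonneg_right Real.nat_sqrt_le_real_sqrt (Nat.cast_nonneg _)
      _ ≤ _ := by
          rw [mul_comm]
          exact mul_le_mul_of_nonneg_left (Real.sqrt_le_sqrt (Nat.floor_le (by positivity))) (Nat.cast_nonneg _)
  have htot : (S.card : ℝ) ≤ Cup * (n * Real.sqrt (K * T) + ρ ^ n * T / (Q : ℝ) ^ n * (n / Z)) := by
    have h1 : S ⊆ Bad.biUnion fun P => S.filter fun y => y.1 ∈ P := fun y hy => by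
      obtain ⟨P, hP, hyP⟩ := hcon y hy
      exact Finset.mem_biUnion.2 ⟨P, hP, Finset.mem_filter.2 ⟨hy, hyP⟩⟩
    calc (S.card : ℝ) ≤ ∑ P ∈ Bad, ((S.filter fun y => y.1 ∈ P).card : ℝ) := by
          exact_mod_cast (Finset.card_le_card h1).trans Finset.card_biUnion_le
      _ ≤ ∑ P ∈ Bad, Cup * (1 + ρ ^ n * T / ((Q : ℝ) ^ n) * ((Ideal.absNorm P : ℕ) : ℝ)⁻¹) :=
          Finset.sum_le_sum hcnt
      _ = Cup * ((Bad.card : ℝ) + ρ ^ n * T / (Q : ℝ) ^ n * ∑ P ∈ Bad, ((Ideal.absNorm P : ℕ) : ℝ)⁻¹) := by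
          rw [← Finset.mul_sum, Finset.sum_add_distrib, Finset.sum_const, nsmul_eq_mul, mul_one, ← Finset.mul_sum]
      _ ≤ _ := by gcongr
  have hlow : G * T ≤ S.card := by
    refine le_trans (le_of_eq ?_) hScard
    rw [div_pow, div_pow, hRn, mul_pow]
    simp only [G, n]
    field_simp
  have hmain : Cup * (ρ ^ n * T / (Q : ℝ) ^ n * (n / Z)) ≤ G * T / 4 := by
    have h1 : 4 * Cup * n * Ccv ^ n ≤ Clo * Z := by
      rw [div_lt_iff₀ hClo] at hZ
      linarith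
    simp only [G]
    field_simp
    nlinarith [mul_le_mul_of_nonneg_left h1 (by positivity : (0:ℝ) ≤ ρ ^ n * T)]
  have herr : Cup * (n * Real.sqrt (K * T)) ≤ G * T / 2 := by
    have hK : 0 ≤ K := by positivity
    have h1 : H ≤ Real.sqrt T := by
      refine Real.le_sqrt_of_sq_le ?_
      linarith [le_max_right ((2 * Ccv * Q / ρ) ^ n) (H ^ 2)]
    rw [div_le_iff₀ hG] at h1
    rw [Real.sqrt_mul hK]
    nlinarith [Real.mul_self_sqrt hTpos.le, Real.sqrt_nonneg T, mul_le_mul_of_nonneg_left h1 (Real.sqrt_nonneg T)]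
  nlinarith [htot, hlow, hmain, herr, mul_pos hG hTpos]

end Field

end Groth.Agent.CommAlg4.LatticeSieve
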