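import Groth.Prelude.Def_W4c1bouilletffgsL3
import Groth.Agent.DimLib.Algebra
import Mathlib

/-! A smooth rational point of the component `J` of the scheme of three-dimensional Lie brackets. -/

set_option autoImplicit false

universe u

open MvPolynomial Lie3Mod

namespace Groth.Agent.CommAlg4.Lie3Point

variable {k : Type u} [Field k] (t : k)

/-- The coordinates of the point on the free variables `a, b, c, e, f, h`. -/
def pt : Fin 6 → k := ![0, 1, 0, 0, t, 0]

/-- The point in `k⁹`. -/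
def pt9 : Fin 9 → k := ![0, 1, 0, 0, 0, t, 0, 0, 0]

/-- The maximal ideal of the point on the free variables. -/
noncomputable def m6 : Ideal (MvPolynomial (Fin 6) k) := RingHom.ker (eval (pt t))

instance : (m6 t).IsMaximal := RingHom.ker_isMaximal_of_surjective _ fun c => ⟨C c, by simp⟩

/-- The parameter ring. -/
abbrev R6 : Type u := Localization.AtPrime (m6 t)

theorem exists_solution : ∃ d i g : R6 t,
    let v : Fin 6 → R6 t := fun j => algebraMap (MvPolynomial (Fin 6) k) (R6 t) (X j)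
    v 0 * v 5 + d * i - v 4 * g - v 1 * g = 0 ∧ i * v 3 + v 1 * d - v 4 * v 5 - v 0 * v 3 = 0 ∧
      v 5 * v 2 + d * v 2 - v 0 * v 4 - v 1 * i = 0 ∧
      -(v 2 * v 5 ^ 2) + g * v 1 * v 4 + v 3 * i ^ 2 - g * v 3 * v 2 + v 5 * v 1 * i - i * v 5 * v 4 = 0 ∧
      d ∈ IsLocalRing.maximalIdeal (R6 t) ∧ i ∈ IsLocalRing.maximalIdeal (R6 t) ∧ g ∈ IsLocalRing.maximalIdeal (R6 t) := by
  set α := algebraMap (MvPolynomial (Fin 6) k) (R6 t)
  have hm : ∀ G, eval (pt t) G = 0 → α G ∈ IsLocalRing.maximalIdeal (R6 t) := fun G h =>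
    (IsLocalization.AtPrime.to_map_mem_maximal_iff (R6 t) (m6 t) G).mpr h
  have hu : ∀ G, eval (pt t) G ≠ 0 → IsUnit (α G) := fun G h =>
    IsLocalization.map_units (R6 t) (⟨G, h⟩ : (m6 t).primeCompl)
  set a := α (X 0); set b := α (X 1); set c := α (X 2); set e := α (X 3); set f := α (X 4); set h := α (X 5)
  obtain ⟨w, hw⟩ := hu (X 1 * X 1 + X 3 * X 2) (by simp [pt])
  have hw' : (w : R6 t) = b * b + e * c := by rw [hw, map_add, map_mul, map_mul]
  have hwi : (b * b + e * c) * ↑w⁻¹ = 1 := by rw [← hw', Units.mul_inv]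
  set d := ((f * h + a * e) * b - e * (c * h - a * f)) * ↑w⁻¹ with hd
  set i := (b * (c * h - a * f) + c * (f * h + a * e)) * ↑w⁻¹ with hi
  have ha : a ∈ IsLocalRing.maximalIdeal (R6 t) := hm _ (by simp [pt])
  have hc : c ∈ IsLocalRing.maximalIdeal (R6 t) := hm _ (by simp [pt])
  have he : e ∈ IsLocalRing.maximalIdeal (R6 t) := hm _ (by simp [pt])
  have hh : h ∈ IsLocalRing.maximalIdeal (R6 t) := hm _ (by simp [pt])
  have hdm : d ∈ IsLocalRing.maximalIdeal (R6 t) := Ideal.mul_mem_right _ _ (sub_mem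
    (Ideal.mul_mem_right _ _ (add_mem (Ideal.mul_mem_left _ _ hh) (Ideal.mul_mem_left _ _ he))) (Ideal.mul_mem_right _ _ he))
  have him : i ∈ IsLocalRing.maximalIdeal (R6 t) := Ideal.mul_mem_right _ _ (add_mem
    (Ideal.mul_mem_left _ _ (sub_mem (Ideal.mul_mem_left _ _ hh) (Ideal.mul_mem_right _ _ ha))) (Ideal.mul_mem_right _ _ hc))
  have hQ2 : i * e + b * d - f * h - a * e = 0 := by
    rw [hd, hi]; linear_combination (f * h + a * e) * hwi
  have hQ3 : h * c + d * c - a * f - b * i = 0 := by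
    rw [hd, hi]; linear_combination -(c * h - a * f) * hwi
  by_cases ht : 1 + t = 0
  · have ht0 : t ≠ 0 := fun h0 => by rw [h0, add_zero] at ht; exact one_ne_zero ht
    obtain ⟨z, hz⟩ := hu (X 1 * X 4 - X 3 * X 2) (by simp [pt, ht0])
    have hz' : (z : R6 t) = b * f - e * c := by rw [hz, map_sub, map_mul, map_mul]
    have hzi : (b * f - e * c) * ↑z⁻¹ = 1 := by rw [← hz', Units.mul_inv]
    set g := (c * h ^ 2 - e * i ^ 2 - h * b * i + i * h * f) * ↑z⁻¹ with hg
    have hdet : -(c * h ^ 2) + g * b * f + e * i ^ 2 - g * e * c + h * b * i - i * h * f = 0 := by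
      rw [hg]; linear_combination (c * h ^ 2 - e * i ^ 2 - h * b * i + i * h * f) * hzi
    refine ⟨d, i, g, ?_, hQ2, hQ3, hdet, hdm, him, Ideal.mul_mem_right _ _ (add_mem (sub_mem (sub_mem
      (Ideal.mul_mem_right _ _ hc) (Ideal.mul_mem_right _ _ he)) (Ideal.mul_mem_left _ _ him)) (Ideal.mul_mem_right _ _ (Ideal.mul_mem_right _ _ him)))⟩
    refine (IsUnit.mul_right_eq_zero (a := e * c - b * f) ?_).mp ?_
    · rw [show e * c - b * f = -(z : R6 t) by rw [hz']; ring]; exact z.isUnit.neg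
    · linear_combination (b + f) * hdet - (h * c + i * f) * hQ2 + (h * b + i * e) * hQ3
  · obtain ⟨z, hz⟩ := hu (X 1 + X 4) (by simpa [pt] using ht)
    have hz' : (z : R6 t) = b + f := by rw [hz, map_add]
    have hzi : (b + f) * ↑z⁻¹ = 1 := by rw [← hz', Units.mul_inv]
    set g := (a * h + d * i) * ↑z⁻¹ with hg
    have hQ1 : a * h + d * i - f * g - b * g = 0 := by rw [hg]; linear_combination -(a * h + d * i) * hzi
    refine ⟨d, i, g, hQ1, hQ2, hQ3, ?_, hdm, him, Ideal.mul_mem_right _ _ (add_mem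
      (Ideal.mul_mem_right _ _ ha) (Ideal.mul_mem_right _ _ hdm))⟩
    refine (IsUnit.mul_right_eq_zero (a := b + f) ?_).mp ?_
    · rw [← hz']; exact z.isUnit
    · linear_combination (e * c - b * f) * hQ1 + (h * c + i * f) * hQ2 - (h * b + i * e) * hQ3

theorem nakayama_le {A : Type*} [CommRing A] [IsLocalRing A] [IsNoetherianRing A] {N : Ideal A}
    (hle : IsLocalRing.maximalIdeal A ≤ N ⊔ IsLocalRing.maximalIdeal A • IsLocalRing.maximalIdeal A) :
    IsLocalRing.maximalIdeal A ≤ N :=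
  Submodule.le_of_le_smul_of_le_jacobson_bot (IsNoetherian.noetherian _) (IsLocalRing.maximalIdeal_le_jacobson ⊥) hle

theorem isRegular_and_dim (P : Ideal (Lie3Mod.D k ⧸ Lie3Mod.idJ k)) [P.IsPrime]
    (hP : P = Ideal.map (Ideal.Quotient.mk (Lie3Mod.idJ k))
      (Ideal.span ({X 0, X 1 - 1, X 2, X 3, X 4, X 5 - C t, X 6, X 7, X 8} : Set (Lie3Mod.D k)))) :
    IsRegularLocalRing (Localization.AtPrime P) ∧ ringKrullDim (Localization.AtPrime P) = 6 := by
  set S := Localization.AtPrime P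
  set M : Ideal (Lie3Mod.D k) := Ideal.span {X 0, X 1 - 1, X 2, X 3, X 4, X 5 - C t, X 6, X 7, X 8} with hM
  set N : Ideal (Lie3Mod.D k) := Ideal.span {X 0, X 1 - 1, X 2, X 4, X 5 - C t, X 7} with hN
  set π := Ideal.Quotient.mk (Lie3Mod.idJ k)
  haveI : IsNoetherianRing S := IsLocalization.isNoetherianRing P.primeCompl S inferInstance
  let αS : Lie3Mod.D k →+* S := (algebraMap _ S).comp π
  have hmax : IsLocalRing.maximalIdeal S = M.map αS := by
    rw [← IsLocalization.AtPrime.map_eq_maximalIdeal P S]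
    exact (congrArg (Ideal.map _) hP).trans (Ideal.map_map _ _)
  -- the tangent space
  have hJ : ∀ q ∈ Lie3Mod.idJ k, αS q = 0 := fun q hq => by
    show algebraMap _ S (π q) = 0
    rw [Ideal.Quotient.eq_zero_iff_mem.mpr hq, map_zero]
  have hMle : M ≤ N ⊔ M ^ 2 ⊔ Lie3Mod.idJ k := by
    have m0 : ∀ x ∈ ({X 0, X 1 - 1, X 2, X 3, X 4, X 5 - C t, X 6, X 7, X 8} : Set (Lie3Mod.D k)), x ∈ M :=
      fun x hx => Ideal.subset_span hx
    have n0 : ∀ x ∈ ({X 0, X 1 - 1, X 2, X 4, X 5 - C t, X 7} : Set (Lie3Mod.D k)), x ∈ N ⊔ M ^ 2 ⊔ Lie3Mod.idJ k :=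
      fun x hx => Ideal.mem_sup_left (Ideal.mem_sup_left (Ideal.subset_span hx))
    have nl : ∀ x ∈ N, ∀ r, r * x ∈ N ⊔ M ^ 2 ⊔ Lie3Mod.idJ k := fun x hx r =>
      Ideal.mem_sup_left (Ideal.mem_sup_left (N.mul_mem_left r hx))
    have m2 : ∀ x y, x ∈ M → y ∈ M → x * y ∈ N ⊔ M ^ 2 ⊔ Lie3Mod.idJ k := fun x y hx hy =>
      Ideal.mem_sup_left (Ideal.mem_sup_right (by rw [sq]; exact Ideal.mul_mem_mul hx hy))
    have jm : ∀ q ∈ Lie3Mod.idJ k, q ∈ N ⊔ M ^ 2 ⊔ Lie3Mod.idJ k := fun q hq => Ideal.mem_sup_right hq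
    have b1 : (1 : Lie3Mod.D k) - X 1 ∈ M := by
      rw [← neg_sub]; exact M.neg_mem (m0 _ (by simp))
    refine Ideal.span_le.mpr fun x hx => ?_
    simp only [Set.mem_insert_iff, Set.mem_singleton_iff] at hx
    rcases hx with rfl | rfl | rfl | rfl | rfl | rfl | rfl | rfl | rfl
    · exact n0 _ (by simp)
    · exact n0 _ (by simp)
    · exact n0 _ (by simp)
    · have e : (X 3 : Lie3Mod.D k) = Q2 k + (X 3 * (1 - X 1) - X 8 * X 4 + X 5 * X 7 + X 0 * X 4) := by
        simp only [Q2, va, vb, vd, ve, vf, vh, vi]; ring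
      rw [e]
      refine add_mem (jm _ (Ideal.subset_span (by simp))) (add_mem (add_mem (sub_mem (m2 _ _ (m0 _ (by simp)) b1) ?_) ?_) ?_)
      · exact nl _ (Ideal.subset_span (by simp)) _
      · exact nl _ (Ideal.subset_span (by simp)) _
      · exact nl _ (Ideal.subset_span (by simp)) _
    · exact n0 _ (by simp)
    · exact n0 _ (by simp)
    · have e : (X 6 : Lie3Mod.D k) = -(Q1 k + detM k) + (X 6 * (1 - X 1) * (1 - X 5) + X 0 * X 7 + X 3 * X 8 - X 7 * X 7 * X 2 +
          X 8 * X 8 * X 4 - X 6 * X 2 * X 4 + X 8 * X 1 * X 7 - X 8 * X 5 * X 7) := by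
        simp only [Q1, detM, va, vb, vc, vd, ve, vf, vg, vh, vi]; ring
      rw [e]
      refine add_mem (neg_mem (add_mem (jm _ (Ideal.subset_span (by simp))) (jm _ (Ideal.subset_span (by simp)))))
        (sub_mem (add_mem (sub_mem (add_mem (sub_mem (add_mem (add_mem ?_ ?_) ?_) ?_) ?_) ?_) ?_) ?_)
      · exact Ideal.mul_mem_right _ _ (m2 _ _ (m0 _ (by simp)) b1)
      · exact nl _ (Ideal.subset_span (by simp)) _
      · exact m2 _ _ (m0 _ (by simp)) (m0 _ (by simp))
      · exact nl _ (Ideal.subset_span (by simp)) _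
      · exact nl _ (Ideal.subset_span (by simp)) _
      · exact nl _ (Ideal.subset_span (by simp)) _
      · exact nl _ (Ideal.subset_span (by simp)) _
      · exact nl _ (Ideal.subset_span (by simp)) _
    · exact n0 _ (by simp)
    · have e : (X 8 : Lie3Mod.D k) = -Q3 k + (X 8 * (1 - X 1) + X 7 * X 2 + X 3 * X 2 - X 5 * X 0) := by
        simp only [Q3, va, vb, vc, vd, vf, vh, vi]; ring
      rw [e]
      refine add_mem (neg_mem (jm _ (Ideal.subset_span (by simp)))) (sub_mem (add_mem (add_mem (m2 _ _ (m0 _ (by simp)) b1) ?_) ?_) ?_)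
      · exact nl _ (Ideal.subset_span (by simp)) _
      · exact nl _ (Ideal.subset_span (by simp)) _
      · exact nl _ (Ideal.subset_span (by simp)) _
  have hgen : IsLocalRing.maximalIdeal S = N.map αS := by
    refine le_antisymm ?_ ?_
    · suffices h : IsLocalRing.maximalIdeal S ≤ N.map αS ⊔ IsLocalRing.maximalIdeal S • IsLocalRing.maximalIdeal S by
        with_reducible_and_instances exact nakayama_le (A := S) h
      have h1 := Ideal.map_mono (f := αS) hMle
      have h0 : (Lie3Mod.idJ k).map αS = ⊥ := by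
        rw [Ideal.map_eq_bot_iff_le_ker]; exact hJ
      rw [Ideal.map_sup, Ideal.map_sup, Ideal.map_pow, h0, sup_bot_eq, ← hmax, sq] at h1
      exact h1
    · rw [hmax]; refine Ideal.map_mono (Ideal.span_mono ?_)
      intro x hx
      simp only [Set.mem_insert_iff, Set.mem_singleton_iff] at hx ⊢
      tauto
  have hup : (IsLocalRing.maximalIdeal S).spanFinrank ≤ 6 := by
    rw [hgen, hN, Ideal.map_span]
    refine (Submodule.spanFinrank_span_le_ncard_of_finite (Set.toFinite _)).trans ((Set.ncard_image_le (Set.toFinite _)).trans ?_)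
    refine (Set.ncard_insert_le _ _).trans (Nat.succ_le_succ ?_)
    refine (Set.ncard_insert_le _ _).trans (Nat.succ_le_succ ?_)
    refine (Set.ncard_insert_le _ _).trans (Nat.succ_le_succ ?_)
    refine (Set.ncard_insert_le _ _).trans (Nat.succ_le_succ ?_)
    refine (Set.ncard_insert_le _ _).trans (Nat.succ_le_succ ?_)
    rw [Set.ncard_singleton]
  -- the parametrisation
  obtain ⟨d, i, g, hQ1, hQ2, hQ3, hdet, hdm, him, hgm⟩ := exists_solution t
  set v : Fin 6 → R6 t := fun j => algebraMap (MvPolynomial (Fin 6) k) (R6 t) (X j) with hv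
  let ψ : Lie3Mod.D k →ₐ[k] R6 t := aeval ![v 0, v 1, v 2, d, v 3, v 4, g, v 5, i]
  have hψJ : Lie3Mod.idJ k ≤ RingHom.ker ψ := Ideal.span_le.mpr (by
    rintro q (rfl | rfl | rfl | rfl)
    · simp only [SetLike.mem_coe, RingHom.mem_ker, ψ, Q1, va, vb, vd, vf, vg, vh, vi, map_add, map_sub, map_mul, aeval_X]
      simpa using hQ1
    · simp only [SetLike.mem_coe, RingHom.mem_ker, ψ, Q2, va, vb, vd, ve, vf, vh, vi, map_add, map_sub, map_mul, aeval_X]
      simpa using hQ2
    · simp only [SetLike.mem_coe, RingHom.mem_ker, ψ, Q3, va, vb, vc, vd, vf, vh, vi, map_add, map_sub, map_mul, aeval_X]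
      simpa using hQ3
    · simp only [SetLike.mem_coe, RingHom.mem_ker, ψ, detM, vb, vc, ve, vf, vg, vh, vi, map_neg, map_add, map_sub, map_mul, map_pow, aeval_X]
      simpa using hdet)
  let ψ' : (Lie3Mod.D k ⧸ Lie3Mod.idJ k) →+* R6 t := Ideal.Quotient.lift _ ψ.toRingHom hψJ
  have hm6 : ∀ G, eval (pt t) G = 0 → algebraMap _ (R6 t) G ∈ IsLocalRing.maximalIdeal (R6 t) := fun G h =>
    (IsLocalization.AtPrime.to_map_mem_maximal_iff (R6 t) (m6 t) G).mpr h
  have hψev : ∀ G, ψ G - algebraMap k (R6 t) (eval (pt9 t) G) ∈ IsLocalRing.maximalIdeal (R6 t) := fun G => by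
    induction G using MvPolynomial.induction_on with
    | C c => simp [ψ]
    | add p q hp hq =>
      simp only [map_add]
      rw [add_sub_add_comm]; exact add_mem hp hq
    | mul_X p j hp =>
      have hj : ψ (X j) - algebraMap k (R6 t) (pt9 t j) ∈ IsLocalRing.maximalIdeal (R6 t) := by
        have hbase : ∀ l : Fin 6, v l - algebraMap k (R6 t) (pt t l) ∈ IsLocalRing.maximalIdeal (R6 t) := fun l => by
          rw [IsScalarTower.algebraMap_apply k (MvPolynomial (Fin 6) k) (R6 t), hv, ← map_sub]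
          exact hm6 _ (by simp)
        simp only [ψ, aeval_X]
        fin_cases j <;> simp [pt9]
        · simpa [pt] using hbase 0
        · simpa [pt] using hbase 1
        · simpa [pt] using hbase 2
        · exact hdm
        · simpa [pt] using hbase 3
        · simpa [pt] using hbase 4
        · exact hgm
        · simpa [pt] using hbase 5
        · exact him
      rw [map_mul, map_mul, eval_X, map_mul,
        show ψ p * ψ (X j) - algebraMap k (R6 t) (eval (pt9 t) p) * algebraMap k (R6 t) (pt9 t j) =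
          ψ p * (ψ (X j) - algebraMap k (R6 t) (pt9 t j)) +
            algebraMap k (R6 t) (pt9 t j) * (ψ p - algebraMap k (R6 t) (eval (pt9 t) p)) by ring]
      exact add_mem (Ideal.mul_mem_left _ _ hj) (Ideal.mul_mem_left _ _ hp)
  have hker9 : ∀ G, eval (pt9 t) G = 0 → π G ∈ P := fun G hG => by
    rw [hP]
    refine Ideal.mem_map_of_mem π ?_
    have : ∀ G, G - C (eval (pt9 t) G) ∈ M := fun G => by
      induction G using MvPolynomial.induction_on with
      | C c => simp
      | add p q hp hq => simp only [map_add]; rw [add_sub_add_comm]; exact add_mem hp hq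
      | mul_X p j hp =>
        rw [map_mul, eval_X, map_mul, show p * X j - C (eval (pt9 t) p) * C (pt9 t j) =
          X j * (p - C (eval (pt9 t) p)) + C (eval (pt9 t) p) * (X j - C (pt9 t j)) by ring]
        refine add_mem (M.mul_mem_left _ hp) (M.mul_mem_left _ (Ideal.subset_span ?_))
        fin_cases j <;> simp [pt9]
    simpa [hG] using this G
  have hunit : ∀ y : P.primeCompl, IsUnit (ψ' y) := fun y => by
    obtain ⟨G, hG⟩ := Ideal.Quotient.mk_surjective (y : Lie3Mod.D k ⧸ Lie3Mod.idJ k)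
    rw [← hG]
    show IsUnit (ψ G)
    by_contra hn
    have h0 : eval (pt9 t) G ≠ 0 := fun h => y.2 (hG ▸ hker9 G h)
    have := sub_mem ((IsLocalRing.mem_maximalIdeal _).mpr hn : ψ G ∈ IsLocalRing.maximalIdeal (R6 t)) (hψev G)
    rw [sub_sub_cancel] at this
    exact (IsLocalRing.mem_maximalIdeal _).mp this ((isUnit_iff_ne_zero.mpr h0).map _)
  let Ψ : S →+* R6 t := IsLocalization.lift hunit
  have hΨ : ∀ G, Ψ (algebraMap _ S (π G)) = ψ G := fun G => IsLocalization.lift_eq hunit _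
  have hsurj : Function.Surjective Ψ := fun r => by
    obtain ⟨G, ⟨H, hH⟩, rfl⟩ := IsLocalization.exists_mk'_eq (m6 t).primeCompl r
    let ρ : Fin 6 → Fin 9 := ![0, 1, 2, 4, 5, 7]
    have hρ : ∀ G, ψ (rename ρ G) = algebraMap (MvPolynomial (Fin 6) k) (R6 t) G := fun G => by
      have e : ψ.comp (rename ρ) = IsScalarTower.toAlgHom k (MvPolynomial (Fin 6) k) (R6 t) :=
        MvPolynomial.algHom_ext fun l => by
          fin_cases l <;> simp [ψ, ρ, hv]
      exact AlgHom.congr_fun e G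
    have hρe : ∀ G, eval (pt9 t) (rename ρ G) = eval (pt t) G := fun G => by
      rw [eval_rename]
      congr 2
      funext l; fin_cases l <;> rfl
    have hy : π (rename ρ H) ∈ P.primeCompl := fun hmem => hH (by
      show eval (pt t) H = 0
      rw [← hρe]
      by_contra h0
      have hu := hunit
      obtain ⟨s, hs, hs'⟩ := (Ideal.mem_map_iff_of_surjective π Ideal.Quotient.mk_surjective).mp (hP ▸ hmem)
      have h9 : ∀ q ∈ M, eval (pt9 t) q = 0 := fun q hq => by
        have : M ≤ RingHom.ker (eval (pt9 t)) := Ideal.span_le.mpr (by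
          intro x hx
          simp only [Set.mem_insert_iff, Set.mem_singleton_iff] at hx
          rcases hx with rfl | rfl | rfl | rfl | rfl | rfl | rfl | rfl | rfl <;> simp [pt9])
        exact this hq
      have hJ9 : ∀ q ∈ Lie3Mod.idJ k, eval (pt9 t) q = 0 := fun q hq => by
        have : Lie3Mod.idJ k ≤ RingHom.ker (eval (pt9 t)) := Ideal.span_le.mpr (by
          rintro x (rfl | rfl | rfl | rfl) <;>
            simp [pt9, Q1, Q2, Q3, detM, va, vb, vc, vd, ve, vf, vg, vh, vi])
        exact this hq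
      have := hJ9 _ (Ideal.Quotient.eq.mp hs')
      rw [map_sub, h9 s hs, zero_sub, neg_eq_zero] at this
      exact h0 this)
    refine ⟨IsLocalization.mk' S (π (rename ρ G)) ⟨_, hy⟩, ?_⟩
    rw [IsLocalization.eq_mk'_iff_mul_eq]
    have h := congrArg Ψ (IsLocalization.mk'_spec S (π (rename ρ G)) (⟨_, hy⟩ : P.primeCompl))
    rw [map_mul, hΨ, hΨ, hρ, hρ] at h
    exact h
  have hlow : (6 : WithBot ℕ∞) ≤ ringKrullDim S := by
    refine le_trans (le_of_eq ?_) (ringKrullDim_le_of_surjective Ψ hsurj)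
    rw [IsLocalization.AtPrime.ringKrullDim_eq_height (m6 t) (R6 t),
      Groth.Agent.DimLib.height_eq_of_isMaximal_mvPolynomial 6 (m6 t)]
    rfl
  have hcast : ((IsLocalRing.maximalIdeal S).spanFinrank : WithBot ℕ∞) ≤ 6 := by exact_mod_cast hup
  haveI hreg : IsRegularLocalRing S := IsRegularLocalRing.of_spanFinrank_maximalIdeal_le S (hcast.trans hlow)
  exact ⟨hreg, le_antisymm ((ringKrullDim_le_spanFinrank_maximalIdeal S).trans hcast) hlow⟩

end Groth.Agent.CommAlg4.Lie3Point
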