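import Mathlib

/-! Localization of an abelian category with left and right calculus of fractions is abelian. -/
set_option autoImplicit false
set_option backward.isDefEq.respectTransparency false
set_option linter.style.haveILetI false
universe v' v u' u
open CategoryTheory CategoryTheory.Limits

namespace Groth.Agent.CommAlg4.LocAbelian

variable {C : Type u} [Category.{v} C] [Abelian C]
  (W : MorphismProperty C) [W.HasLeftCalculusOfFractions] [W.HasRightCalculusOfFractions]
  {D : Type u'} [Category.{v'} D] (L : C ⥤ D) [L.IsLocalization W]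
  [Preadditive D] [L.Additive]

include W L

theorem map_eq_zero_precomp {X Y : C} (f : X ⟶ Y) :
    L.map f = 0 ↔ ∃ (Z : C) (t : Z ⟶ X) (_ : W t), t ≫ f = 0 := by
  rw [← L.map_zero, MorphismProperty.map_eq_iff_precomp L W]
  simp

theorem map_eq_zero_postcomp {X Y : C} (f : X ⟶ Y) :
    L.map f = 0 ↔ ∃ (Z : C) (t : Y ⟶ Z) (_ : W t), f ≫ t = 0 := by
  rw [← L.map_zero, MorphismProperty.map_eq_iff_postcomp L W]
  simp

theorem preservesMonomorphisms : L.PreservesMonomorphisms where
  preserves {X Y} f _ := by
    have := Localization.essSurj L W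
    rw [Preadditive.mono_iff_cancel_zero]
    intro T w hw
    obtain ⟨φ, hφ⟩ := Localization.exists_rightFraction L W ((L.objObjPreimageIso T).hom ≫ w)
    rw [← cancel_epi (L.map φ.s), MorphismProperty.RightFraction.map_s_comp_map] at hφ
    have h0 : L.map (φ.f ≫ f) = 0 := by
      rw [L.map_comp, ← hφ, Category.assoc, Category.assoc, hw, comp_zero, comp_zero]
    obtain ⟨Z, t, ht, fac⟩ := (map_eq_zero_precomp W L _).1 h0
    have : t ≫ φ.f = 0 := by rw [← cancel_mono f, Category.assoc, fac, zero_comp]
    have := Localization.inverts L W t ht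
    have := Localization.inverts L W φ.s φ.hs
    have h1 : L.map φ.f = 0 := (map_eq_zero_precomp W L _).2 ⟨Z, t, ht, ‹t ≫ φ.f = 0›⟩
    rw [h1] at hφ
    simpa using hφ

theorem preservesEpimorphisms : L.PreservesEpimorphisms where
  preserves {X Y} f _ := by
    have := Localization.essSurj L W
    rw [Preadditive.epi_iff_cancel_zero]
    intro T w hw
    obtain ⟨φ, hφ⟩ := Localization.exists_leftFraction L W (w ≫ (L.objObjPreimageIso T).inv)
    rw [← cancel_mono (L.map φ.s), Category.assoc,
      MorphismProperty.LeftFraction.map_comp_map_s] at hφ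
    have h0 : L.map (f ≫ φ.f) = 0 := by
      rw [L.map_comp, ← hφ, reassoc_of% hw, zero_comp]
    obtain ⟨Z, t, ht, fac⟩ := (map_eq_zero_postcomp W L _).1 h0
    have h2 : φ.f ≫ t = 0 := by rw [← cancel_epi f, ← Category.assoc, fac, comp_zero]
    have := Localization.inverts L W φ.s φ.hs
    have h1 : L.map φ.f = 0 := (map_eq_zero_postcomp W L _).2 ⟨Z, t, ht, h2⟩
    rw [h1] at hφ
    simpa using hφ

theorem preservesKernel {X Y : C} (f : X ⟶ Y) : PreservesLimit (parallelPair f 0) L := by
  have := preservesMonomorphisms W L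
  have := Localization.essSurj L W
  suffices ∀ (T : D) (z : T ⟶ L.obj X) (_ : z ≫ L.map f = 0),
      ∃ (l : T ⟶ L.obj (kernel f)), l ≫ L.map (kernel.ι f) = z from
    preservesLimit_of_preserves_limit_cone (kernelIsKernel f)
      ((KernelFork.isLimitMapConeEquiv _ L).2
        (Fork.IsLimit.ofExistsUnique
          (fun s ↦ existsUnique_of_exists_of_unique
            (this _ _ (KernelFork.condition s))
            (fun _ _ h₁ h₂ ↦ by simpa [cancel_mono] using h₁.trans h₂.symm))))
  intro T w hw
  obtain ⟨φ, hφ⟩ := Localization.exists_rightFraction L W ((L.objObjPreimageIso T).hom ≫ w)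
  rw [← cancel_epi (L.map φ.s), MorphismProperty.RightFraction.map_s_comp_map] at hφ
  have h0 : L.map (φ.f ≫ f) = 0 := by
    rw [L.map_comp, ← hφ, Category.assoc, Category.assoc, hw, comp_zero, comp_zero]
  obtain ⟨Z, t, ht, fac⟩ := (map_eq_zero_precomp W L _).1 h0
  have := Localization.inverts L W t ht
  have := Localization.inverts L W φ.s φ.hs
  rw [← Category.assoc] at fac
  refine ⟨(L.objObjPreimageIso T).inv ≫ inv (L.map φ.s) ≫ inv (L.map t) ≫
    L.map (kernel.lift _ _ fac), ?_⟩
  simp only [Category.assoc, ← Functor.map_comp, kernel.lift_ι]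
  rw [Functor.map_comp, IsIso.inv_hom_id_assoc, ← hφ]
  simp

theorem preservesCokernel {X Y : C} (f : X ⟶ Y) : PreservesColimit (parallelPair f 0) L := by
  have := preservesEpimorphisms W L
  have := Localization.essSurj L W
  suffices ∀ (T : D) (z : L.obj Y ⟶ T) (_ : L.map f ≫ z = 0),
      ∃ (l : L.obj (cokernel f) ⟶ T), L.map (cokernel.π f) ≫ l = z from
    preservesColimit_of_preserves_colimit_cocone (cokernelIsCokernel f)
      ((CokernelCofork.isColimitMapCoconeEquiv _ L).2
        (Cofork.IsColimit.ofExistsUnique
          (fun s ↦ existsUnique_of_exists_of_unique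
            (this _ _ (CokernelCofork.condition s))
            (fun _ _ h₁ h₂ ↦ by simpa [cancel_epi] using h₁.trans h₂.symm))))
  intro T w hw
  obtain ⟨φ, hφ⟩ := Localization.exists_leftFraction L W (w ≫ (L.objObjPreimageIso T).inv)
  rw [← cancel_mono (L.map φ.s), Category.assoc,
    MorphismProperty.LeftFraction.map_comp_map_s] at hφ
  have h0 : L.map (f ≫ φ.f) = 0 := by rw [L.map_comp, ← hφ, reassoc_of% hw, zero_comp]
  obtain ⟨Z, t, ht, fac⟩ := (map_eq_zero_postcomp W L _).1 h0
  rw [Category.assoc] at fac
  have := Localization.inverts L W t ht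
  have := Localization.inverts L W φ.s φ.hs
  refine ⟨L.map (cokernel.desc _ _ fac) ≫ inv (L.map t) ≫ inv (L.map φ.s) ≫
    (L.objObjPreimageIso T).hom, ?_⟩
  simp only [← Functor.map_comp_assoc, cokernel.π_desc]
  rw [Functor.map_comp_assoc, IsIso.hom_inv_id_assoc, ← reassoc_of% hφ]
  simp

theorem hasKernels : HasKernels D where
  has_limit f := by
    obtain ⟨g, ⟨e⟩⟩ := (Localization.essSurj_mapArrow L W).mem_essImage (Arrow.mk f)
    have := preservesKernel W L g.hom
    have : HasLimit (parallelPair (L.map g.hom) 0) :=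
      ⟨_, (KernelFork.isLimitMapConeEquiv _ L).1
        (isLimitOfPreserves L (kernelIsKernel g.hom))⟩
    exact hasLimit_of_iso (show parallelPair (L.map g.hom) 0 ≅ _ from
      parallelPair.ext (Arrow.leftFunc.mapIso e) (Arrow.rightFunc.mapIso e))

theorem hasCokernels : HasCokernels D where
  has_colimit f := by
    obtain ⟨g, ⟨e⟩⟩ := (Localization.essSurj_mapArrow L W).mem_essImage (Arrow.mk f)
    have := preservesCokernel W L g.hom
    have : HasColimit (parallelPair (L.map g.hom) 0) :=
      ⟨_, (CokernelCofork.isColimitMapCoconeEquiv _ L).1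
        (isColimitOfPreserves L (cokernelIsCokernel g.hom))⟩
    exact hasColimit_of_iso (show _ ≅ parallelPair (L.map g.hom) 0 from
      parallelPair.ext (Arrow.leftFunc.mapIso e.symm) (Arrow.rightFunc.mapIso e.symm))

/-- An epimorphism whose image is mono becomes an iso. -/
theorem isIso_map_of_epi {X Y : C} (e : X ⟶ Y) [Epi e] [Mono (L.map e)] : IsIso (L.map e) := by
  have := preservesCokernel W L (KernelFork.ofι (kernel.ι e) (kernel.condition e)).ι
  have hk : L.map (kernel.ι e) = 0 := by
    rw [← cancel_mono (L.map e), ← L.map_comp, kernel.condition, L.map_zero, zero_comp]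
  have hl := (CokernelCofork.isColimitMapCoconeEquiv _ L).1
    (isColimitOfPreserves L (Abelian.epiIsCokernelOfKernel _ (kernelIsKernel e)))
  exact CokernelCofork.IsColimit.isIso_π _ hl hk

theorem isIso_map_of_mono {X Y : C} (m : X ⟶ Y) [Mono m] [Epi (L.map m)] : IsIso (L.map m) := by
  have := preservesKernel W L (CokernelCofork.ofπ (cokernel.π m) (cokernel.condition m)).π
  have hk : L.map (cokernel.π m) = 0 := by
    rw [← cancel_epi (L.map m), ← L.map_comp, cokernel.condition, L.map_zero, comp_zero]
  have hl := (KernelFork.isLimitMapConeEquiv _ L).1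
    (isLimitOfPreserves L (Abelian.monoIsKernelOfCokernel _ (cokernelIsCokernel m)))
  exact KernelFork.IsLimit.isIso_ι _ hl hk

theorem isNormalMonoCategory : IsNormalMonoCategory D where
  normalMonoOfMono f hf := by
    have := Localization.essSurj_mapArrow L W
    let g := L.mapArrow.objPreimage (Arrow.mk f)
    let e : Arrow.mk (L.map g.hom) ≅ Arrow.mk f := L.mapArrow.objObjPreimageIso (Arrow.mk f)
    have hg : Mono (L.map g.hom) :=
      ((MorphismProperty.monomorphisms D).arrow_mk_iso_iff e).2 (.infer_property f)
    have hm : Mono (L.map (Abelian.factorThruImage g.hom)) := by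
      rw [← Abelian.image.fac g.hom, Functor.map_comp] at hg
      exact mono_of_mono _ (L.map (Abelian.image.ι g.hom))
    have := isIso_map_of_epi W L (Abelian.factorThruImage g.hom)
    let e' : Arrow.mk (L.map (Abelian.image.ι g.hom)) ≅ Arrow.mk f :=
      (Arrow.isoMk (asIso (L.map (Abelian.factorThruImage g.hom))) (Iso.refl _)
        (by simp [← L.map_comp]) : Arrow.mk (L.map g.hom) ≅
          Arrow.mk (L.map (Abelian.image.ι g.hom))).symm ≪≫ e
    let hf' := normalMonoOfMono (Abelian.image.ι g.hom)
    have := preservesKernel W L hf'.g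
    refine ⟨NormalMono.ofArrowIso ?_ e'⟩
    exact {
      Z := L.obj hf'.Z
      g := L.map hf'.g
      w := by rw [← L.map_comp]; simp [hf'.w]
      isLimit := (KernelFork.isLimitMapConeEquiv _ L).1 (isLimitOfPreserves L hf'.isLimit) }

theorem isNormalEpiCategory : IsNormalEpiCategory D where
  normalEpiOfEpi f hf := by
    have := Localization.essSurj_mapArrow L W
    let g := L.mapArrow.objPreimage (Arrow.mk f)
    let e : Arrow.mk (L.map g.hom) ≅ Arrow.mk f := L.mapArrow.objObjPreimageIso (Arrow.mk f)
    have hg : Epi (L.map g.hom) :=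
      ((MorphismProperty.epimorphisms D).arrow_mk_iso_iff e).2 (.infer_property f)
    have hm : Epi (L.map (Abelian.image.ι g.hom)) := by
      rw [← Abelian.image.fac g.hom, Functor.map_comp] at hg
      exact epi_of_epi (L.map (Abelian.factorThruImage g.hom)) _
    have := isIso_map_of_mono W L (Abelian.image.ι g.hom)
    let e' : Arrow.mk (L.map (Abelian.factorThruImage g.hom)) ≅ Arrow.mk f :=
      (Arrow.isoMk (Iso.refl _) (asIso (L.map (Abelian.image.ι g.hom)))
        (by simp [← L.map_comp]) : Arrow.mk (L.map (Abelian.factorThruImage g.hom)) ≅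
          Arrow.mk (L.map g.hom)) ≪≫ e
    let hf' := normalEpiOfEpi (Abelian.factorThruImage g.hom)
    have := preservesCokernel W L hf'.g
    refine ⟨NormalEpi.ofArrowIso ?_ e'⟩
    exact {
      W := L.obj hf'.W
      g := L.map hf'.g
      w := by rw [← L.map_comp]; simp [hf'.w]
      isColimit := (CokernelCofork.isColimitMapCoconeEquiv _ L).1 (isColimitOfPreserves L hf'.isColimit) }

theorem main : Nonempty (Abelian D) ∧ PreservesFiniteLimits L ∧ PreservesFiniteColimits L := by
  have := Localization.essSurj L W
  have : HasFiniteProducts D := L.hasFiniteProducts_of_additive_of_essSurj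
  have := hasKernels W L
  have := hasCokernels W L
  have := isNormalMonoCategory W L
  have := isNormalEpiCategory W L
  let A : Abelian D := by constructor
  refine ⟨⟨A⟩, ?_, ?_⟩
  · rw [((Functor.preservesFiniteLimits_tfae L).out 3 2 :)]
    intro _ _ f
    exact preservesKernel W L f
  · rw [((Functor.preservesFiniteColimits_tfae L).out 3 2 :)]
    intro _ _ f
    exact preservesCokernel W L f

end Groth.Agent.CommAlg4.LocAbelian
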