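import Mathlib
import Groth.Agent.CommAlg4.LatticeSieve
import Groth.Agent.CommAlg4.SplitCompletion

/-!
# Norm values near prescribed local norms, with split support

For number fields `k ⊆ L` and finitely many places, local norms can be approximated by a global norm
which is integral away from these places and one auxiliary place, and which is a unit at every other
place where `L` has no place of degree one.
-/

set_option autoImplicit false
set_option linter.all false

universe u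

open NumberField NumberField.mixedEmbedding IsDedekindDomain WithZero Module Topology Filter

open scoped TensorProduct Classical

namespace Groth.Agent.CommAlg4.NormApprox

open Groth.Agent.CommAlg4

section Support

variable {k : Type u} [Field k] [NumberField k]

theorem exists_generator (v : HeightOneSpectrum (𝓞 k)) :
    ∃ π : 𝓞 k, π ≠ 0 ∧ v.intValuation π < 1 ∧ ∀ w : HeightOneSpectrum (𝓞 k), w ≠ v → w.intValuation π = 1 := by
  set h := Fintype.card (ClassGroup (𝓞 k)) with hh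
  let I : (nonZeroDivisors (Ideal (𝓞 k))) := ⟨v.asIdeal, mem_nonZeroDivisors_of_ne_zero v.ne_bot⟩
  have h1 : ClassGroup.mk0 (I ^ h) = 1 := by rw [map_pow]; exact pow_card_eq_one
  obtain ⟨π, hπ⟩ := ((ClassGroup.mk0_eq_one_iff (I ^ h).2).1 h1).principal
  have hπ' : v.asIdeal ^ h = Ideal.span {π} := hπ
  have hh0 : 0 < h := Fintype.card_pos
  have hne : π ≠ 0 := by
    rintro rfl
    rw [Ideal.span_singleton_zero] at hπ'
    exact pow_ne_zero h v.ne_bot hπ'
  refine ⟨π, hne, (v.intValuation_lt_one_iff_mem π).2 ?_, fun w hw => ?_⟩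
  · exact Ideal.pow_le_self hh0.ne' (hπ' ▸ Ideal.mem_span_singleton_self π)
  · refine le_antisymm (w.intValuation_le_one π) (not_lt.1 fun hlt => hw ?_)
    have h2 : v.asIdeal ^ h ≤ w.asIdeal := by
      rw [hπ', Ideal.span_singleton_le_iff_mem]
      exact (w.intValuation_lt_one_iff_mem π).1 hlt
    exact HeightOneSpectrum.ext (v.isMaximal.eq_of_le w.isPrime.ne_top (Ideal.IsPrime.le_of_pow_le h2)).symm

theorem exists_support (T : Finset (HeightOneSpectrum (𝓞 k))) :
    ∃ m : 𝓞 k, m ≠ 0 ∧ (∀ v ∈ T, v.intValuation m < 1) ∧ ∀ v ∉ T, v.intValuation m = 1 := by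
  choose π hπ0 hπ hπ' using exists_generator (k := k)
  refine ⟨∏ v ∈ T, π v, Finset.prod_ne_zero_iff.2 fun v _ => hπ0 v, fun v hv => ?_, fun v hv => ?_⟩
  · rw [map_prod, Finset.prod_eq_single_of_mem v hv fun w _ hw => hπ' w v (Ne.symm hw)]
    exact hπ v
  · rw [map_prod]
    exact Finset.prod_eq_one fun w hw => hπ' w v fun h => hv (h ▸ hw)

theorem le_exp_neg (v : HeightOneSpectrum (𝓞 k)) {m : 𝓞 k} (hm : m ≠ 0) (h : v.intValuation m < 1) (K : ℕ) :
    v.intValuation (m ^ K) ≤ exp (-(K : ℤ)) := by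
  rw [map_pow]
  have h0 : v.intValuation m ≠ 0 := v.intValuation_ne_zero m hm
  have h1 : v.intValuation m ≤ exp (-1 : ℤ) := by
    rw [← exp_log h0, exp_le_exp]
    have h2 : log (v.intValuation m) < 0 := by
      rw [← exp_log h0, ← exp_zero, exp_lt_exp] at h
      exact h
    omega
  refine (pow_le_pow_left' h1 K).trans (le_of_eq ?_)
  rw [← exp_nsmul, smul_neg, nsmul_one]

end Support

section Matrix

variable {k L : Type u} [Field k] [Field L] [Algebra k L] {s : Type*} [Fintype s] [DecidableEq s] (b : Basis s k L)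

/-- The norm form attached to a basis, with coefficients mapped by `f`. -/
noncomputable def normForm {F : Type*} [CommRing F] (f : k →+* F) (c : s → F) : F :=
  (∑ i, c i • (Algebra.leftMulMatrix b (b i)).map f).det

theorem normForm_repr {F : Type*} [CommRing F] (f : k →+* F) (x : L) :
    normForm b f (fun i => f (b.repr x i)) = f (Algebra.norm k x) := by
  rw [normForm, Algebra.norm_eq_matrix_det b, RingHom.map_det]
  congr 1
  conv_rhs => rw [← b.sum_repr x, map_sum]
  ext a c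
  simp [Matrix.sum_apply, mul_comm]

theorem normForm_tensor (F : Type*) [Field F] [Algebra k F] (ξ : F ⊗[k] L) :
    normForm b (algebraMap k F) (fun i => (Algebra.TensorProduct.basis F b).repr ξ i) = Algebra.norm F ξ := by
  set bT := Algebra.TensorProduct.basis F b
  rw [normForm, Algebra.norm_eq_matrix_det bT]
  congr 1
  conv_rhs => rw [← bT.sum_repr ξ, map_sum]
  refine Finset.sum_congr rfl fun i _ => ?_
  rw [map_smul]
  congr 1
  ext a c
  rw [Matrix.map_apply, Algebra.leftMulMatrix_eq_repr_mul, Algebra.leftMulMatrix_eq_repr_mul,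
    Algebra.TensorProduct.basis_apply, Algebra.TensorProduct.basis_apply, Algebra.TensorProduct.tmul_mul_tmul, mul_one,
    Algebra.TensorProduct.basis_repr_tmul, one_smul, Finsupp.mapRange_apply]

theorem map_normForm {F G : Type*} [CommRing F] [CommRing G] (f : k →+* F) (g : F →+* G) (c : s → F) :
    g (normForm b f c) = normForm b (g.comp f) (fun i => g (c i)) := by
  rw [normForm, normForm, RingHom.map_det]
  congr 1
  ext a d
  simp [Matrix.sum_apply]

theorem continuous_normForm {F : Type*} [CommRing F] [TopologicalSpace F] [IsTopologicalRing F] (f : k →+* F) :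
    Continuous (normForm b f) := by
  unfold normForm
  fun_prop

end Matrix

variable {k L : Type u} [Field k] [NumberField k] [Field L] [NumberField L] [Algebra k L]

theorem exists_prime_over {v : HeightOneSpectrum (𝓞 k)} {y : 𝓞 L}
    (hN : Algebra.intNorm (𝓞 k) (𝓞 L) y ∈ v.asIdeal) :
    ∃ P : Ideal (𝓞 L), P.IsPrime ∧ P.LiesOver v.asIdeal ∧ y ∈ P := by
  rcases eq_or_ne y 0 with rfl | hy
  · obtain ⟨Q, hQ₁, hQ₂⟩ := Ideal.exists_maximal_ideal_liesOver_of_isIntegral (S := 𝓞 L) v.asIdeal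
    exact ⟨Q, hQ₁.isPrime, hQ₂, Q.zero_mem⟩
  have hI : Ideal.span {y} ≠ ⊥ := by simpa using hy
  have h1 : Ideal.relNorm (𝓞 k) (Ideal.span {y}) ≤ v.asIdeal := by
    rw [Ideal.relNorm_singleton, Ideal.span_singleton_le_iff_mem]
    exact hN
  rw [← associated_iff_eq.1 (UniqueFactorizationMonoid.prod_normalizedFactors hI), map_multiset_prod] at h1
  obtain ⟨J, hJ, hJv⟩ := (v.isPrime.multiset_prod_le).1 h1
  obtain ⟨P, hP, rfl⟩ := Multiset.mem_map.1 hJ
  have hPp : Prime P := UniqueFactorizationMonoid.prime_of_normalized_factor P hP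
  haveI : P.IsPrime := Ideal.isPrime_of_prime hPp
  haveI : P.IsMaximal := Ideal.IsPrime.isMaximal inferInstance hPp.ne_zero
  haveI : (P.under (𝓞 k)).IsMaximal := Ideal.IsMaximal.under _ P
  rw [Ideal.relNorm_eq_pow_of_isMaximal P (P.under (𝓞 k))] at hJv
  refine ⟨P, inferInstance, ⟨?_⟩, ?_⟩
  · exact ((‹(P.under (𝓞 k)).IsMaximal›).eq_of_le v.isPrime.ne_top (Ideal.IsPrime.le_of_pow_le hJv)).symm
  · exact Ideal.dvd_iff_le.1 (UniqueFactorizationMonoid.dvd_of_mem_normalizedFactors hP) (Ideal.mem_span_singleton_self y)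

theorem mem_of_mem_algebraMap {v : HeightOneSpectrum (𝓞 k)} {P : Ideal (𝓞 L)} [P.LiesOver v.asIdeal] {a : 𝓞 k} :
    algebraMap (𝓞 k) (𝓞 L) a ∈ P ↔ a ∈ v.asIdeal := by
  rw [Ideal.over_def P v.asIdeal]
  exact Iff.rfl

variable (k L)

/-- There are places outside any finite set at which `L` has a place of degree one. -/
theorem exists_split_place (S : Finset (HeightOneSpectrum (𝓞 k))) :
    ∃ v : HeightOneSpectrum (𝓞 k), v ∉ S ∧ Nonempty (L →ₐ[k] v.adicCompletion k) := by
  obtain ⟨δ, hδ, hδ0⟩ := Submodule.ne_bot_iff _ |>.1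
    (mt Ideal.eq_bot_of_comap_eq_bot (differentIdeal_ne_bot (A := 𝓞 k) (B := 𝓞 L)) :
      (differentIdeal (𝓞 k) (𝓞 L)).comap (algebraMap (𝓞 k) (𝓞 L)) ≠ ⊥)
  obtain ⟨m, hm0, hmS, -⟩ := exists_support S
  have hM : algebraMap (𝓞 k) (𝓞 L) (δ * m) ≠ 0 := by
    rw [Ne, FaithfulSMul.algebraMap_eq_zero_iff]
    exact mul_ne_zero hδ0 hm0
  obtain ⟨T₀, hT₀⟩ := LatticeSieve.exists_good (algebraMap (𝓞 k) (𝓞 L) (δ * m)) hM 1
    {X | 1 < mixedEmbedding.norm X} (isOpen_lt continuous_const (mixedEmbedding.continuous_norm L))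
    ⟨(2 : ℝ) • 1, by
      show (1:ℝ) < _
      rw [mixedEmbedding.norm_smul, map_one, mul_one, abs_two]
      exact one_lt_pow₀ one_lt_two (finrank_pos.ne')⟩
  obtain ⟨N, hN⟩ := exists_nat_gt (max T₀ 1)
  have hN1 : (1:ℝ) < N := lt_of_le_of_lt (le_max_right _ _) hN
  have hNT : T₀ ≤ |(Algebra.norm ℚ (N : L) : ℝ)| := by
    rw [← map_natCast (algebraMap ℚ L), Algebra.norm_algebraMap]
    push_cast
    rw [abs_pow, Nat.abs_cast]
    exact ((le_max_left _ _).trans hN.le).trans (le_self_pow₀ hN1.le finrank_pos.ne')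
  obtain ⟨y, hy0, ⟨u, hu⟩, hyB, hgood⟩ := hT₀ (N : L) hNT
  have hy : ¬ IsUnit y := fun hunit => by
    have h1 : |(Algebra.norm ℚ (y : L) : ℝ)| = 1 := by
      rw [LatticeSieve.abs_norm_eq, Int.isUnit_iff_natAbs_eq.1 (hunit.map (Algebra.norm ℤ)), Nat.cast_one]
    have h2 : (1:ℝ) < |(Algebra.norm ℚ ((y : L) / N) : ℝ)| := by
      have := hyB
      simp only [Set.mem_ofPred_eq, norm_eq_norm, Rat.cast_abs] at this
      exact this
    rw [LatticeSieve.abs_norm_div L _ _ (by exact_mod_cast (by positivity : (0:ℝ) < N).ne'), h1,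
      ← map_natCast (algebraMap ℚ L), Algebra.norm_algebraMap] at h2
    push_cast at h2
    rw [abs_pow, Nat.abs_cast, one_lt_div (by positivity)] at h2
    exact absurd h2 (not_lt.2 (one_le_pow₀ hN1.le))
  obtain ⟨P, hPmax, hyP⟩ := exists_max_ideal_of_mem_nonunits hy
  haveI := hPmax.isPrime
  have hMP : algebraMap (𝓞 k) (𝓞 L) (δ * m) ∉ P := fun h => hPmax.ne_top ((Ideal.eq_top_iff_one _).2 (by
    rw [show (1 : 𝓞 L) = y - algebraMap (𝓞 k) (𝓞 L) (δ * m) * u by rw [← hu, sub_sub_cancel]]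
    exact sub_mem hyP (P.mul_mem_right _ h)))
  have hPbot : P ≠ ⊥ := fun h => hy0 (by rwa [h, Ideal.mem_bot] at hyP)
  haveI := hPmax
  haveI : (P.under (𝓞 k)).IsMaximal := Ideal.IsMaximal.under _ P
  have hvbot : P.under (𝓞 k) ≠ ⊥ := fun h => hPbot (Ideal.eq_bot_of_comap_eq_bot h)
  let v : HeightOneSpectrum (𝓞 k) := ⟨P.under (𝓞 k), inferInstance, hvbot⟩
  haveI : P.LiesOver v.asIdeal := ⟨rfl⟩
  refine ⟨v, fun hvS => hMP ?_, SplitCompletion.exists_algHom v P (fun hdvd => hMP ?_) (hgood P inferInstance hyP hMP)⟩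
  · rw [map_mul]
    exact P.mul_mem_left _ (mem_of_mem_algebraMap.2 ((v.intValuation_lt_one_iff_mem m).1 (hmS v hvS)))
  · rw [map_mul]
    exact P.mul_mem_right _ (Ideal.dvd_iff_le.1 hdvd hδ)

set_option maxHeartbeats 1000000 in
theorem exists_near
    (Sf : Finset (HeightOneSpectrum (𝓞 k))) (Si : Finset (InfinitePlace k))
    (tf : (v : HeightOneSpectrum (𝓞 k)) → v.adicCompletion k) (ti : (w : InfinitePlace k) → w.Completion)
    (htf : ∀ v ∈ Sf, ∃ x : (v.adicCompletion k) ⊗[k] L, Algebra.norm (v.adicCompletion k) x = tf v)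
    (hti : ∀ w ∈ Si, ∃ x : w.Completion ⊗[k] L, Algebra.norm w.Completion x = ti w)
    (Uf : (v : HeightOneSpectrum (𝓞 k)) → Set (v.adicCompletion k)) (hUf : ∀ v ∈ Sf, IsOpen (Uf v) ∧ tf v ∈ Uf v)
    (Ui : (w : InfinitePlace k) → Set w.Completion) (hUi : ∀ w ∈ Si, IsOpen (Ui w) ∧ ti w ∈ Ui w)
    (v₀ : HeightOneSpectrum (𝓞 k)) (hv₀ : v₀ ∉ Sf) :
    ∃ t : k, t ≠ 0 ∧ (∀ v ∈ Sf, algebraMap k (v.adicCompletion k) t ∈ Uf v) ∧
      (∀ w ∈ Si, algebraMap k w.Completion t ∈ Ui w) ∧
      (∀ v : HeightOneSpectrum (𝓞 k), v ∉ Sf → v ≠ v₀ → v.valuation k t ≤ 1) ∧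
      ∀ v : HeightOneSpectrum (𝓞 k), v ∉ Sf → v ≠ v₀ → v.valuation k t < 1 →
        Nonempty (L →ₐ[k] v.adicCompletion k) := by
  obtain ⟨δ, hδ, hδ0⟩ := Submodule.ne_bot_iff _ |>.1
    (mt Ideal.eq_bot_of_comap_eq_bot (differentIdeal_ne_bot (A := 𝓞 k) (B := 𝓞 L)) :
      (differentIdeal (𝓞 k) (𝓞 L)).comap (algebraMap (𝓞 k) (𝓞 L)) ≠ ⊥)
  have hfin : {v : HeightOneSpectrum (𝓞 k) | v.asIdeal ∣ Ideal.span {δ}}.Finite :=
    Ideal.finite_factors (by simpa using hδ0)
  let T := (Sf ∪ hfin.toFinset).erase v₀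
  have hv₀T : v₀ ∉ T := Finset.notMem_erase _ _
  have hST : ∀ v ∈ Sf, v ∈ T := fun v hv => Finset.mem_erase.2 ⟨fun h => hv₀ (h ▸ hv), Finset.mem_union_left _ hv⟩
  obtain ⟨m, hm0, hmT, hmT'⟩ := exists_support T
  obtain ⟨π₀, hπ0, hπv₀, hπ'⟩ := exists_generator v₀
  -- an integral basis
  obtain ⟨s, b, hb⟩ := FiniteDimensional.exists_is_basis_integral (𝓞 k) k L
  have hbint : ∀ i, ∃ w : 𝓞 L, (w : L) = b i :=
    fun i => ⟨⟨b i, isIntegral_trans (R := ℤ) (A := 𝓞 k) _ (hb i)⟩, rfl⟩
  choose b' hb' using hbint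
  -- denominators of coordinates
  obtain ⟨d, hd0, hd⟩ : ∃ d : 𝓞 k, d ≠ 0 ∧ ∀ (w : 𝓞 L) (i : s), IsLocalization.IsInteger (𝓞 k) (d • b.repr (w : L) i) := by
    obtain ⟨⟨d, hd⟩, hd'⟩ := IsLocalization.exist_integer_multiples_of_finset (nonZeroDivisors (𝓞 k))
      ((Finset.univ : Finset (Free.ChooseBasisIndex ℤ (𝓞 L) × s)).image fun p =>
        b.repr ((RingOfIntegers.basis L p.1 : 𝓞 L) : L) p.2)
    refine ⟨d, nonZeroDivisors.ne_zero hd, fun w i => ?_⟩
    have hwv : b.repr (w : L) i = ∑ j, (RingOfIntegers.basis L).repr w j • b.repr ((RingOfIntegers.basis L j : 𝓞 L) : L) i := by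
      let cr : 𝓞 L →+ k := AddMonoidHom.mk' (fun w => b.repr (w : L) i) (fun x y => by simp)
      show cr w = ∑ j, _ • cr _
      conv_lhs => rw [← (RingOfIntegers.basis L).sum_repr w]
      rw [map_sum]
      exact Finset.sum_congr rfl fun j _ => map_zsmul cr _ _
    rw [hwv, Finset.smul_sum]
    refine Submodule.sum_mem (LinearMap.range (Algebra.linearMap (𝓞 k) k)) fun j _ => ?_
    rw [smul_comm]
    obtain ⟨c, hc⟩ := hd' _ (Finset.mem_image.2 ⟨(j, i), Finset.mem_univ _, rfl⟩)
    exact ⟨(RingOfIntegers.basis L).repr w j • c, by rw [map_zsmul]; exact congrArg _ hc⟩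
  -- the finite targets, moved into the field
  have hfinite : ∀ v : HeightOneSpectrum (𝓞 k), ∃ (a : s → k) (N : ℕ), v ∈ T → ∀ y : s → v.adicCompletion k,
      (∀ i, Valued.v (y i - algebraMap k _ (a i)) ≤ exp (-(N : ℤ))) →
        if v ∈ Sf then normForm b (algebraMap k _) y ∈ Uf v else Valued.v (normForm b (algebraMap k _) y) = 1 := by
    intro v
    obtain ⟨O, hO, hOne, hOU⟩ : ∃ O : Set (s → v.adicCompletion k), IsOpen O ∧ O.Nonempty ∧
        ∀ y ∈ O, if v ∈ Sf then normForm b (algebraMap k _) y ∈ Uf v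
          else Valued.v (normForm b (algebraMap k _) y) = 1 := by
      by_cases hv : v ∈ Sf
      · obtain ⟨ξ, hξ⟩ := htf v hv
        refine ⟨normForm b (algebraMap k _) ⁻¹' Uf v, (hUf v hv).1.preimage (continuous_normForm b _),
          ⟨fun i => (Algebra.TensorProduct.basis _ b).repr ξ i, ?_⟩, fun y hy => by rw [if_pos hv]; exact hy⟩
        show normForm b _ _ ∈ Uf v
        rw [normForm_tensor b _ ξ, hξ]
        exact (hUf v hv).2
      · have hopen : IsOpen {z : v.adicCompletion k | Valued.v z = 1} := by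
          rw [isOpen_iff_mem_nhds]
          intro z hz
          have h1 := Valued.locally_const (R := v.adicCompletion k) (x := z) (by rw [show Valued.v z = 1 from hz]; exact one_ne_zero)
          exact Filter.mem_of_superset h1 fun y hy => Eq.trans (show Valued.v y = Valued.v z from hy) hz
        refine ⟨normForm b (algebraMap k _) ⁻¹' {z | Valued.v z = 1}, hopen.preimage (continuous_normForm b _),
          ⟨fun i => algebraMap k _ (b.repr 1 i), ?_⟩, fun y hy => by rw [if_neg hv]; exact hy⟩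
        show Valued.v (normForm b _ _) = 1
        rw [normForm_repr, map_one, map_one, map_one]
    obtain ⟨a, ha⟩ := (DenseRange.piMap fun _ : s => HeightOneSpectrum.denseRange_algebraMap k v).exists_mem_open hO hOne
    obtain ⟨I, u, hu, huO⟩ := isOpen_pi_iff.1 hO _ ha
    have hball : ∀ i : s, ∃ N : ℕ, i ∈ I → ∀ z, Valued.v (z - algebraMap k _ (a i)) ≤ exp (-(N : ℤ)) → z ∈ u i := by
      intro i
      by_cases hi : i ∈ I
      · obtain ⟨N, hN⟩ := SplitCompletion.exists_ball_subset v ((hu i hi).1.mem_nhds (hu i hi).2)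
        exact ⟨N, fun _ => hN⟩
      · exact ⟨0, fun h => absurd h hi⟩
    choose N hN using hball
    refine ⟨a, Finset.univ.sup N, fun _ y hy => hOU y (huO fun i hi => hN i hi _ ((hy i).trans ?_))⟩
    rw [exp_le_exp, neg_le_neg_iff, Nat.cast_le]
    exact Finset.le_sup (Finset.mem_univ i)
  choose a Nb ha using hfinite
  -- clear denominators
  let J : ℕ := T.sup fun v => Finset.univ.sup fun i => (log (v.valuation k (a v i))).natAbs
  have hJ : ∀ v ∈ T, ∀ i, v.valuation k (algebraMap (𝓞 k) k (m ^ J) * a v i) ≤ 1 := fun v hv i => by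
    rcases eq_or_ne (a v i) 0 with h | h
    · simp [h]
    rw [map_mul, HeightOneSpectrum.valuation_of_algebraMap]
    have hlog : (log (v.valuation k (a v i))).natAbs ≤ J := (Finset.le_sup (f := fun i => (log (v.valuation k (a v i))).natAbs)
      (Finset.mem_univ i)).trans (Finset.le_sup (f := fun v => Finset.univ.sup fun i => (log (v.valuation k (a v i))).natAbs) hv)
    refine (mul_le_mul' (le_exp_neg v hm0 (hmT v hv) J) le_rfl).trans ?_
    rw [← exp_log ((map_ne_zero (v.valuation k)).2 h), ← exp_add, ← exp_zero, exp_le_exp]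
    omega
  set D : 𝓞 k := m ^ J with hD
  have hD0 : D ≠ 0 := pow_ne_zero _ hm0
  let lam : HeightOneSpectrum (𝓞 k) → 𝓞 k → ℕ := fun v x => (log (v.intValuation x)).natAbs
  let E : ℕ := T.sup fun v => Nb v + lam v D + lam v d
  have hlam : ∀ (v : HeightOneSpectrum (𝓞 k)) (x : 𝓞 k), x ≠ 0 → exp (-(lam v x : ℤ)) ≤ v.intValuation x := fun v x hx => by
    rw [← exp_log (v.intValuation_ne_zero x hx), exp_le_exp]
    simp only [lam]
    omega
  have happrox : ∀ i : s, ∃ α : 𝓞 k, ∀ v ∈ T, v.valuation k (algebraMap (𝓞 k) k α - algebraMap (𝓞 k) k D * a v i) ≤ exp (-(E : ℤ)) := by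
    intro i
    have h1 : ∀ v : T, ∃ r : 𝓞 k, v.1.valuation k (algebraMap (𝓞 k) k r - algebraMap (𝓞 k) k D * a v.1 i) < exp (-(E : ℤ)) :=
      fun v => v.1.exists_valuation_sub_lt_of_integer (hJ v.1 v.2 i) (Units.mk0 (exp (-(E : ℤ))) exp_ne_zero)
    choose r hr using h1
    obtain ⟨α, hα⟩ := IsDedekindDomain.exists_forall_sub_mem_ideal (s := T) (fun v => v.asIdeal) (fun _ => E)
      (fun v _ => v.prime) (fun v _ w _ h h' => h (HeightOneSpectrum.ext h')) r
    refine ⟨α, fun v hv => ?_⟩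
    rw [show algebraMap (𝓞 k) k α - algebraMap (𝓞 k) k D * a v i = algebraMap (𝓞 k) k (α - r ⟨v, hv⟩) +
      (algebraMap (𝓞 k) k (r ⟨v, hv⟩) - algebraMap (𝓞 k) k D * a v i) by rw [map_sub]; ring]
    refine Valuation.map_add_le _ ?_ (hr ⟨v, hv⟩).le
    rw [HeightOneSpectrum.valuation_of_algebraMap]
    exact (v.intValuation_le_pow_iff_mem _ _).2 (hα v hv)
  choose α hα using happrox
  let y₀ : 𝓞 L := ∑ i, algebraMap (𝓞 k) (𝓞 L) (α i) * b' i
  have hy₀ : ∀ i, b.repr (y₀ : L) i = algebraMap (𝓞 k) k (α i) := fun i => by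
    have h1 : (y₀ : L) = ∑ j, algebraMap (𝓞 k) k (α j) • b j := by
      simp only [y₀, map_sum, map_mul, hb', Algebra.smul_def, ← IsScalarTower.algebraMap_apply]
    rw [h1, b.repr_sum_self]
  let K : ℕ := E
  set M : 𝓞 k := m ^ K with hMdef
  have hM0 : M ≠ 0 := pow_ne_zero _ hm0
  -- the scaling element
  have hunit : IsUnit (Ideal.Quotient.mk (Ideal.span {M}) π₀) := by
    have htop : Ideal.span {M} ⊔ Ideal.span {π₀} = ⊤ := by
      by_contra hne
      obtain ⟨Q, hQ, hle⟩ := Ideal.exists_le_maximal _ hne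
      have hπQ : π₀ ∈ Q := hle (Ideal.mem_sup_right (Ideal.mem_span_singleton_self _))
      have hQbot : Q ≠ ⊥ := fun h => hπ0 (by rwa [h, Ideal.mem_bot] at hπQ)
      let w : HeightOneSpectrum (𝓞 k) := ⟨Q, hQ.isPrime, hQbot⟩
      have h1 : w.intValuation π₀ < 1 := (w.intValuation_lt_one_iff_mem _).2 hπQ
      have h2 : w.intValuation M < 1 :=
        (w.intValuation_lt_one_iff_mem _).2 (hle (Ideal.mem_sup_left (Ideal.mem_span_singleton_self _)))
      have h3 : w = v₀ := by
        by_contra h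
        exact h1.ne (hπ' w h)
      rw [hMdef, map_pow, hmT' w (h3 ▸ hv₀T), one_pow] at h2
      exact lt_irrefl _ h2
    obtain ⟨x, hx, y, hy, hxy⟩ := Submodule.mem_sup.1 (htop ▸ Submodule.mem_top (x := (1 : 𝓞 k)))
    obtain ⟨c, rfl⟩ := Ideal.mem_span_singleton'.1 hy
    refine IsUnit.of_mul_eq_one_right (Ideal.Quotient.mk _ c) ?_
    rw [← map_mul, ← map_one (Ideal.Quotient.mk (Ideal.span {M}))]
    exact (Ideal.Quotient.eq.2 (by rw [← hxy, show c * π₀ - (x + c * π₀) = -x by ring]; exact neg_mem hx))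
  haveI : Finite (𝓞 k ⧸ Ideal.span {M}) := Ideal.finiteQuotientOfFreeOfNeBot _ (by simpa using hM0)
  letI := Fintype.ofFinite (𝓞 k ⧸ Ideal.span {M})
  let e := Fintype.card (𝓞 k ⧸ Ideal.span {M})ˣ
  have he : 0 < e := Fintype.card_pos
  have hz0 : M ∣ π₀ ^ e - 1 := by
    rw [← Ideal.mem_span_singleton, ← Ideal.Quotient.eq, map_pow, map_one, ← hunit.unit_spec, ← Units.val_pow_eq_pow_val,
      pow_card_eq_one, Units.val_one]
  -- the infinite targets
  have hWex : ∀ w : InfinitePlace k, ∃ W : Set ℂ, IsOpen W ∧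
      (w ∈ Si → InfinitePlace.Completion.extensionEmbedding w ⁻¹' W = Ui w) := fun w => by
    by_cases hw : w ∈ Si
    · obtain ⟨W, hW, hWU⟩ := (InfinitePlace.Completion.isometry_extensionEmbedding (v := w)).isEmbedding.isInducing.isOpen_iff.1
        (hUi w hw).1
      exact ⟨W, hW, fun _ => hWU⟩
    · exact ⟨Set.univ, isOpen_univ, fun h => absurd h hw⟩
  choose W hWo hWU using hWex
  let Ψ : InfinitePlace k → mixedSpace L →ₗ[ℝ] (s → ℂ) := fun w =>
    (mixedEmbedding.latticeBasis L).constr ℝ fun j i => w.embedding (b.repr (integralBasis L j) i)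
  have hΨ : ∀ (w : InfinitePlace k) (x : L), Ψ w (mixedEmbedding L x) = fun i => w.embedding (b.repr x i) := by
    intro w x
    let g : L →+ (s → ℂ) := AddMonoidHom.mk' (fun x i => w.embedding (b.repr x i))
      (fun x y => by funext i; simp)
    show Ψ w (mixedEmbedding L x) = g x
    conv_lhs => rw [← (integralBasis L).sum_repr x]
    conv_rhs => rw [← (integralBasis L).sum_repr x]
    rw [map_sum, map_sum, map_sum]
    refine Finset.sum_congr rfl fun j _ => ?_
    rw [map_rat_smul (mixedEmbedding L), map_rat_smul (Ψ w), map_rat_smul g, ← mixedEmbedding.latticeBasis_apply,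
      Basis.constr_basis]
    rfl
  let Dl : L := algebraMap k L (algebraMap (𝓞 k) k D)
  have hDk : algebraMap (𝓞 k) k D ≠ 0 := by simpa using hD0
  have hDl : Dl ≠ 0 := by simpa [Dl] using hDk
  let B : Set (mixedSpace L) := ⋂ w ∈ Si,
    (fun X => normForm b w.embedding (Ψ w (mixedEmbedding L Dl⁻¹ * X))) ⁻¹' W w
  have hBo : IsOpen B := isOpen_biInter_finset fun w _ => (hWo w).preimage
    ((continuous_normForm b _).comp ((Ψ w).continuous_of_finiteDimensional.comp (continuous_const.mul continuous_id)))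
  have hσ : ∀ (w : InfinitePlace k), (InfinitePlace.Completion.extensionEmbedding w).comp (algebraMap k w.Completion) =
      w.embedding := fun w => RingHom.ext fun x => InfinitePlace.Completion.extensionEmbedding_coe w _
  have hWnorm : ∀ (w : InfinitePlace k), w ∈ Si → ∀ c : s → w.Completion,
      normForm b w.embedding (fun i => InfinitePlace.Completion.extensionEmbedding w (c i)) ∈ W w ↔
        normForm b (algebraMap k w.Completion) c ∈ Ui w := fun w hw c => by
    rw [← hWU w hw, Set.mem_preimage, map_normForm, hσ]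
  have hBne : B.Nonempty := by
    let O : Set (s → InfiniteAdeleRing k) := ⋂ w ∈ Si, (fun f => normForm b (algebraMap k w.Completion) fun i => f i w) ⁻¹' Ui w
    have hO : IsOpen O := isOpen_biInter_finset fun w hw => (hUi w hw).1.preimage
      ((continuous_normForm b _).comp (continuous_pi fun i => (continuous_apply w).comp (continuous_apply i)))
    have hc : ∀ w : InfinitePlace k, ∃ c : s → w.Completion, w ∈ Si → normForm b (algebraMap k w.Completion) c ∈ Ui w := fun w => by
      by_cases hw : w ∈ Si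
      · obtain ⟨ξ, hξ⟩ := hti w hw
        refine ⟨fun i => (Algebra.TensorProduct.basis _ b).repr ξ i, fun _ => ?_⟩
        rw [normForm_tensor b _ ξ, hξ]
        exact (hUi w hw).2
      · exact ⟨0, fun h => absurd h hw⟩
    choose c hc using hc
    obtain ⟨a', ha'⟩ := (DenseRange.piMap fun _ : s => InfiniteAdeleRing.denseRange_algebraMap k).exists_mem_open hO
      ⟨fun i w => c w i, Set.mem_iInter₂.2 fun w hw => hc w hw⟩
    refine ⟨mixedEmbedding L (Dl * ∑ i, a' i • b i), Set.mem_iInter₂.2 fun w hw => ?_⟩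
    rw [Set.mem_preimage, ← map_mul, ← mul_assoc, inv_mul_cancel₀ hDl, one_mul, hΨ]
    have h1 := (hWnorm w hw (fun i => algebraMap k _ (a' i))).2 (Set.mem_iInter₂.1 ha' w hw)
    simp only [b.repr_sum_self]
    convert h1 using 3 with i
    exact (RingHom.congr_fun (hσ w) (a' i)).symm
  have hMl : algebraMap (𝓞 k) (𝓞 L) M ≠ 0 := by simpa using hM0
  obtain ⟨T₀, hT₀⟩ := LatticeSieve.exists_good (algebraMap (𝓞 k) (𝓞 L) M) hMl y₀ B hBo hBne
  -- choose a large power
  let Pk : 𝓞 L := algebraMap (𝓞 k) (𝓞 L) (π₀ ^ e)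
  have hPk0 : Pk ≠ 0 := by simpa [Pk, he.ne'] using hπ0
  have hPk : 2 ≤ (Algebra.norm ℤ Pk).natAbs := by
    have h1 : (Algebra.norm ℤ Pk).natAbs ≠ 1 := fun h => by
      rw [← Ideal.absNorm_span_singleton, Ideal.absNorm_eq_one_iff, Ideal.span_singleton_eq_top] at h
      obtain ⟨Q, hQ₁, hQ₂⟩ := Ideal.exists_maximal_ideal_liesOver_of_isIntegral (S := 𝓞 L) v₀.asIdeal
      exact hQ₁.ne_top (Ideal.eq_top_of_isUnit_mem _ ((mem_of_mem_algebraMap (v := v₀)).2
        (v₀.asIdeal.pow_mem_of_mem ((v₀.intValuation_lt_one_iff_mem _).1 hπv₀) _ he)) h)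
    have h2 : (Algebra.norm ℤ Pk).natAbs ≠ 0 := by simpa using hPk0
    omega
  obtain ⟨j, hj⟩ := pow_unbounded_of_one_lt T₀ (one_lt_two : (1:ℝ) < 2)
  let zk : 𝓞 k := (π₀ ^ e) ^ j
  have hzk : M ∣ zk - 1 := hz0.trans (sub_one_dvd_pow_sub_one _ j)
  have hz : T₀ ≤ |(Algebra.norm ℚ ((algebraMap (𝓞 k) (𝓞 L) zk : 𝓞 L) : L) : ℝ)| := by
    rw [LatticeSieve.abs_norm_eq]
    refine hj.le.trans ?_
    have h1 : 2 ^ j ≤ (Algebra.norm ℤ (algebraMap (𝓞 k) (𝓞 L) zk)).natAbs := by
      rw [show algebraMap (𝓞 k) (𝓞 L) zk = Pk ^ j from map_pow _ _ _, map_pow, Int.natAbs_pow]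
      exact Nat.pow_le_pow_left hPk j
    exact_mod_cast h1
  obtain ⟨y, hy0, ⟨q, hq⟩, hyB, hgood⟩ := hT₀ _ hz
  let zd : k := algebraMap (𝓞 k) k zk * algebraMap (𝓞 k) k D
  have hzk0 : zk ≠ 0 := pow_ne_zero _ (pow_ne_zero _ hπ0)
  have hzd0 : zd ≠ 0 := mul_ne_zero (by simpa using hzk0) hDk
  let x : L := zd⁻¹ • (y : L)
  have hxdiv : x = Dl⁻¹ * ((y : L) / ((algebraMap (𝓞 k) (𝓞 L) zk : 𝓞 L) : L)) := by
    simp only [x, zd, Dl, Algebra.smul_def, map_inv₀, map_mul, mul_inv,
      ← IsScalarTower.algebraMap_apply (𝓞 k) k L, ← IsScalarTower.algebraMap_apply (𝓞 k) (𝓞 L) L]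
    ring
  have hvz : ∀ v : HeightOneSpectrum (𝓞 k), v ≠ v₀ → v.intValuation zk = 1 := fun v hv => by
    rw [map_pow, map_pow, hπ' v hv, one_pow, one_pow]
  have hTv : ∀ v ∈ T, ∀ i, Valued.v (algebraMap k (v.adicCompletion k) (b.repr x i) - algebraMap k _ (a v i)) ≤ exp (-(Nb v : ℤ)) := by
    intro v hv i
    rw [← map_sub, SplitCompletion.valued_algebraMap]
    have hvv : v ≠ v₀ := fun h => hv₀T (h ▸ hv)
    have hE : Nb v + lam v D + lam v d ≤ E := Finset.le_sup (f := fun v => Nb v + lam v D + lam v d) hv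
    obtain ⟨c, hc⟩ := hd (q - ((algebraMap (𝓞 k) (𝓞 L)) (Classical.choose hzk)) * y₀) i
    have hu : zk - 1 = M * Classical.choose hzk := Classical.choose_spec hzk
    set u := Classical.choose hzk
    have hrepr : algebraMap (𝓞 k) k d * (b.repr (y : L) i - algebraMap (𝓞 k) k zk * algebraMap (𝓞 k) k (α i)) =
        algebraMap (𝓞 k) k M * algebraMap (𝓞 k) k c := by
      have h1 : (y : L) - algebraMap (𝓞 k) k zk • (y₀ : L) =
          algebraMap (𝓞 k) k M • ((q - (algebraMap (𝓞 k) (𝓞 L) u) * y₀ : 𝓞 L) : L) := by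
        have h2 : y - algebraMap (𝓞 k) (𝓞 L) zk * y₀ =
            algebraMap (𝓞 k) (𝓞 L) M * (q - algebraMap (𝓞 k) (𝓞 L) u * y₀) := by
          have h3 := congrArg (algebraMap (𝓞 k) (𝓞 L)) hu
          rw [map_sub, map_one, map_mul] at h3
          linear_combination hq - y₀ * h3
        have h4 := congrArg (algebraMap (𝓞 L) L) h2
        simp only [map_sub, map_mul, ← IsScalarTower.algebraMap_apply (𝓞 k) (𝓞 L) L] at h4
        simp only [Algebra.smul_def, map_sub, map_mul, ← IsScalarTower.algebraMap_apply (𝓞 k) k L,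
          ← IsScalarTower.algebraMap_apply (𝓞 k) (𝓞 L) L]
        exact h4
      have h5 := congrArg (fun z => b.repr z i) h1
      simp only [map_sub, map_smul, Finsupp.sub_apply, Finsupp.smul_apply, smul_eq_mul, hy₀] at h5
      rw [h5, hc]
      simp only [map_sub, Finsupp.sub_apply, Algebra.smul_def]
      ring
    have hz1 : v.valuation k (algebraMap (𝓞 k) k zk) = 1 := by
      rw [HeightOneSpectrum.valuation_of_algebraMap, hvz v hvv]
    have hdk : algebraMap (𝓞 k) k d ≠ 0 := by simpa using hd0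
    rw [show b.repr x i - a v i = (b.repr (y : L) i - algebraMap (𝓞 k) k zk * algebraMap (𝓞 k) k (α i)) / zd +
        (algebraMap (𝓞 k) k (α i) - algebraMap (𝓞 k) k D * a v i) / algebraMap (𝓞 k) k D by
      have hzk' : algebraMap (𝓞 k) k zk ≠ 0 := by simpa using hzk0
      simp only [x, zd, map_smul, Finsupp.smul_apply, smul_eq_mul]
      field_simp
      ring]
    refine Valuation.map_add_le _ ?_ ?_
    · rw [show (b.repr (y : L) i - algebraMap (𝓞 k) k zk * algebraMap (𝓞 k) k (α i)) / zd =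
        (algebraMap (𝓞 k) k M * algebraMap (𝓞 k) k c) / (algebraMap (𝓞 k) k d * zd) by
          rw [← hrepr, mul_div_mul_left _ _ hdk]]
      rw [map_div₀, map_mul, map_mul, map_mul, hz1, one_mul, HeightOneSpectrum.valuation_of_algebraMap,
        HeightOneSpectrum.valuation_of_algebraMap, HeightOneSpectrum.valuation_of_algebraMap,
        HeightOneSpectrum.valuation_of_algebraMap]
      refine (div_le_iff₀ (zero_lt_iff.2 (mul_ne_zero (v.intValuation_ne_zero d hd0) (v.intValuation_ne_zero D hD0)))).2 ?_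
      refine ((mul_le_mul' (le_exp_neg v hm0 (hmT v hv) K) (v.intValuation_le_one c)).trans ?_).trans
        (mul_le_mul' le_rfl (mul_le_mul' (hlam v d hd0) (hlam v D hD0)))
      rw [mul_one, ← exp_add, ← exp_add, exp_le_exp]
      simp only [K]
      omega
    · rw [map_div₀, HeightOneSpectrum.valuation_of_algebraMap v D]
      refine (div_le_iff₀ (zero_lt_iff.2 (v.intValuation_ne_zero D hD0))).2 ?_
      refine ((hα i v hv).trans ?_).trans (mul_le_mul' le_rfl (hlam v D hD0))
      rw [← exp_add, exp_le_exp]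
      omega
  have hnear : ∀ v ∈ T, if v ∈ Sf then algebraMap k (v.adicCompletion k) (Algebra.norm k x) ∈ Uf v
      else Valued.v (algebraMap k (v.adicCompletion k) (Algebra.norm k x)) = 1 := fun v hv => by
    have h1 := ha v hv (fun i => algebraMap k _ (b.repr x i)) (hTv v hv)
    rwa [normForm_repr] at h1
  have hint : ∀ v : HeightOneSpectrum (𝓞 k), v ∉ T → v ≠ v₀ →
      v.valuation k (Algebra.norm k x) = v.intValuation (Algebra.intNorm (𝓞 k) (𝓞 L) y) := fun v hv hvv => by
    have hzd1 : v.valuation k zd = 1 := by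
      rw [map_mul, HeightOneSpectrum.valuation_of_algebraMap, HeightOneSpectrum.valuation_of_algebraMap, hvz v hvv, hD,
        map_pow, hmT' v hv, one_pow, one_mul]
    rw [show x = algebraMap k L zd⁻¹ * (y : L) from Algebra.smul_def _ _, map_mul, Algebra.norm_algebraMap, map_mul,
      map_pow, map_inv₀, hzd1, inv_one, one_pow, one_mul, ← HeightOneSpectrum.valuation_of_algebraMap (K := k)]
    exact congrArg _ (Algebra.algebraMap_intNorm (A := 𝓞 k) (K := k) (L := L) (B := 𝓞 L) y).symm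
  refine ⟨Algebra.norm k x, ?_, fun v hv => ?_, fun w hw => ?_, fun v hvS hvv => ?_, fun v hvS hvv hlt => ?_⟩
  · rw [Algebra.norm_ne_zero_iff]
    exact smul_ne_zero (inv_ne_zero hzd0) (by simpa using hy0)
  · simpa [hv] using hnear v (hST v hv)
  · have h1 : normForm b w.embedding (Ψ w (mixedEmbedding L Dl⁻¹ * mixedEmbedding L ((y : L) / _))) ∈ W w :=
      Set.mem_iInter₂.1 hyB w hw
    rw [← map_mul, ← hxdiv, hΨ, normForm_repr] at h1
    rw [← hWU w hw, Set.mem_preimage]
    exact (RingHom.congr_fun (hσ w) _).symm ▸ h1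
  · by_cases hv : v ∈ T
    · have h1 := hnear v hv
      rw [if_neg hvS, SplitCompletion.valued_algebraMap] at h1
      exact h1.le
    · rw [hint v hv hvv]
      exact v.intValuation_le_one _
  · by_cases hv : v ∈ T
    · have h1 := hnear v hv
      rw [if_neg hvS, SplitCompletion.valued_algebraMap] at h1
      exact absurd h1 hlt.ne
    · rw [hint v hv hvv, v.intValuation_lt_one_iff_mem] at hlt
      obtain ⟨P, hP, hPv, hyP⟩ := exists_prime_over hlt
      haveI := hP
      haveI := hPv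
      refine SplitCompletion.exists_algHom v P (fun hdvd => hv ?_) (hgood P hP hyP fun h => hv ?_)
      · have hδv : δ ∈ v.asIdeal := (mem_of_mem_algebraMap (P := P)).1 (Ideal.dvd_iff_le.1 hdvd hδ)
        exact Finset.mem_erase.2 ⟨hvv, Finset.mem_union_right _ (hfin.mem_toFinset.2 (Ideal.dvd_span_singleton.2 hδv))⟩
      · by_contra hvT
        have h2 := (v.intValuation_lt_one_iff_mem _).2 ((mem_of_mem_algebraMap (P := P)).1 h)
        rw [hMdef, map_pow, hmT' v hvT, one_pow] at h2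
        exact lt_irrefl _ h2

end Groth.Agent.CommAlg4.NormApprox
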