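import Mathlib
import Groth.Agent.CommAlg4.NormApprox

/-!
# Completions along an extension of number fields
-/

set_option autoImplicit false
set_option linter.all false

universe u v w

open NumberField IsDedekindDomain WithZero Module

open scoped TensorProduct Classical

namespace Groth.Agent.CommAlg4.PlaceMaps

open Groth.Agent.CommAlg4

section Finite

variable {k K : Type u} [Field k] [NumberField k] [Field K] [NumberField K] [Algebra k K]

/-- The place below. -/
noncomputable def below (W : HeightOneSpectrum (𝓞 K)) : HeightOneSpectrum (𝓞 k) :=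
  haveI := W.isMaximal
  { asIdeal := W.asIdeal.under (𝓞 k)
    isPrime := inferInstance
    ne_bot := fun h => W.ne_bot (Ideal.eq_bot_of_comap_eq_bot h) }

instance liesOver_below (W : HeightOneSpectrum (𝓞 K)) : W.asIdeal.LiesOver (below (k := k) W).asIdeal := ⟨rfl⟩

theorem eq_below (v : HeightOneSpectrum (𝓞 k)) (W : HeightOneSpectrum (𝓞 K)) [h : W.asIdeal.LiesOver v.asIdeal] :
    v = below W :=
  HeightOneSpectrum.ext h.over

theorem exists_above (v : HeightOneSpectrum (𝓞 k)) : ∃ W : HeightOneSpectrum (𝓞 K), below W = v := by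
  obtain ⟨P, hP, hPv⟩ := Ideal.exists_maximal_ideal_liesOver_of_isIntegral (S := 𝓞 K) v.asIdeal
  have hne : P ≠ ⊥ := fun h => v.ne_bot (by
    rw [hPv.over, h]
    exact Ideal.comap_bot_of_injective _ (FaithfulSMul.algebraMap_injective (𝓞 k) (𝓞 K)))
  exact ⟨⟨P, hP.isPrime, hne⟩, HeightOneSpectrum.ext hPv.over.symm⟩

theorem finite_above (v : HeightOneSpectrum (𝓞 k)) : {W : HeightOneSpectrum (𝓞 K) | below W = v}.Finite := by
  have hne : v.asIdeal.map (algebraMap (𝓞 k) (𝓞 K)) ≠ ⊥ := Ideal.map_ne_bot_of_ne_bot v.ne_bot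
  refine (Ideal.finite_factors hne).subset fun W hW => Ideal.dvd_iff_le.2 ?_
  rw [Ideal.map_le_iff_le_comap, ← hW]
  exact le_rfl

theorem exists_completion_map (v : HeightOneSpectrum (𝓞 k)) (W : HeightOneSpectrum (𝓞 K))
    [W.asIdeal.LiesOver v.asIdeal] :
    ∃ ι : v.adicCompletion k →+* W.adicCompletion K, Continuous ι ∧
      ∀ x : k, ι (algebraMap k _ x) = algebraMap K _ (algebraMap k K x) := by
  have hu := HeightOneSpectrum.uniformContinuous_algebraMap_liesOver k K v W
  let f := UniformSpace.Completion.mapRingHom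
    (algebraMap (WithVal (v.valuation k)) (WithVal (W.valuation K))) hu.continuous
  refine ⟨((HeightOneSpectrum.adicCompletion.equiv K W).symm.toRingHom.comp f).comp
    (HeightOneSpectrum.adicCompletion.equiv k v).toRingHom, ?_, fun x => ?_⟩
  · exact (HeightOneSpectrum.adicCompletion.continuous_ofCompletion K W).comp
      (UniformSpace.Completion.continuous_map.comp (HeightOneSpectrum.adicCompletion.continuous_toCompletion k v))
  · apply HeightOneSpectrum.adicCompletion.ext
    show f _ = _
    rw [show (HeightOneSpectrum.adicCompletion.equiv k v).toRingHom (algebraMap k (v.adicCompletion k) x) =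
      ((WithVal.equiv (v.valuation k)).symm x : (v.valuation k).Completion) from rfl,
      UniformSpace.Completion.mapRingHom_coe]
    rfl

theorem valuation_algebraMap (v : HeightOneSpectrum (𝓞 k)) (W : HeightOneSpectrum (𝓞 K))
    [W.asIdeal.LiesOver v.asIdeal] (c : k) :
    v.valuation k c ^ v.asIdeal.ramificationIdx' W.asIdeal = W.valuation K (algebraMap k K c) :=
  HeightOneSpectrum.valuation_liesOver K v W c

theorem algebraMap_le_one (v : HeightOneSpectrum (𝓞 k)) (W : HeightOneSpectrum (𝓞 K))
    [W.asIdeal.LiesOver v.asIdeal] {c : k} (hc : v.valuation k c ≤ 1) : W.valuation K (algebraMap k K c) ≤ 1 := by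
  rw [← valuation_algebraMap v W]
  exact pow_le_one' hc _

/-- Traces of elements integral above `v` are integral at `v`. -/
theorem trace_le_one (v : HeightOneSpectrum (𝓞 k)) {x : K}
    (hx : ∀ W : HeightOneSpectrum (𝓞 K), below W = v → W.valuation K x ≤ 1) :
    v.valuation k (Algebra.trace k K x) ≤ 1 := by
  rcases eq_or_ne x 0 with rfl | hx0
  · simp
  obtain ⟨a, b, hb, rfl⟩ := IsFractionRing.div_surjective (A := 𝓞 K) x
  have hb0 : b ≠ 0 := nonZeroDivisors.ne_zero hb
  let Bad := (Ideal.finite_factors (I := Ideal.span {b}) (by simpa using hb0)).toFinset.filter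
    fun W => ¬ W.valuation K (algebraMap (𝓞 K) K a / algebraMap (𝓞 K) K b) ≤ 1
  obtain ⟨m, hm0, hm, hm'⟩ := NormApprox.exists_support (Bad.image (below (k := k)))
  have hv : v ∉ Bad.image (below (k := k)) := fun h => by
    obtain ⟨W, hW, hWv⟩ := Finset.mem_image.1 h
    exact (Finset.mem_filter.1 hW).2 (hx W hWv)
  let E : ℕ := Bad.sup fun W => (log (W.valuation K (algebraMap (𝓞 K) K a / algebraMap (𝓞 K) K b))).natAbs
  set x := algebraMap (𝓞 K) K a / algebraMap (𝓞 K) K b with hxdef
  let s : 𝓞 K := algebraMap (𝓞 k) (𝓞 K) (m ^ E)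
  have hint : ∀ W : HeightOneSpectrum (𝓞 K), W.valuation K (algebraMap (𝓞 K) K s * x) ≤ 1 := fun W => by
    rw [map_mul, HeightOneSpectrum.valuation_of_algebraMap]
    by_cases hW : W ∈ Bad
    · have h1 : W.intValuation (algebraMap (𝓞 k) (𝓞 K) m) < 1 :=
        (W.intValuation_lt_one_iff_mem _).2 ((NormApprox.mem_of_mem_algebraMap (v := below (k := k) W) (P := W.asIdeal)).2
          (((below (k := k) W).intValuation_lt_one_iff_mem m).1 (hm _ (Finset.mem_image_of_mem _ hW))))
      have h2 := NormApprox.le_exp_neg W (by simpa using hm0) h1 E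
      rw [show s = algebraMap (𝓞 k) (𝓞 K) m ^ E from map_pow _ _ _]
      refine (mul_le_mul' h2 le_rfl).trans ?_
      have h3 : (log (W.valuation K x)).natAbs ≤ E := Finset.le_sup (f := fun W => (log (W.valuation K x)).natAbs) hW
      rw [← exp_log ((map_ne_zero (W.valuation K)).2 hx0), ← exp_add, ← exp_zero, exp_le_exp]
      omega
    · refine mul_le_one' (W.intValuation_le_one _) ?_
      by_contra hgt
      refine hW (Finset.mem_filter.2 ⟨(Ideal.finite_factors (I := Ideal.span {b}) (by simpa using hb0)).mem_toFinset.2 (Ideal.dvd_span_singleton.2 ?_), hgt⟩)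
      by_contra hbW
      refine hgt ?_
      rw [hxdef, map_div₀, HeightOneSpectrum.valuation_of_algebraMap, HeightOneSpectrum.valuation_of_algebraMap,
        (W.intValuation_eq_one_iff_mem_primeCompl b).2 hbW, div_one]
      exact W.intValuation_le_one a
  obtain ⟨y, hy⟩ := HeightOneSpectrum.mem_integers_of_valuation_le_one K _ hint
  have h4 : algebraMap (𝓞 k) k (Algebra.intTrace (𝓞 k) (𝓞 K) y) = algebraMap (𝓞 k) k (m ^ E) * Algebra.trace k K x := by
    rw [Algebra.algebraMap_intTrace (A := 𝓞 k) (K := k) (L := K), hy, ← IsScalarTower.algebraMap_apply (𝓞 k) (𝓞 K) K,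
      IsScalarTower.algebraMap_apply (𝓞 k) k K, ← Algebra.smul_def, map_smul, smul_eq_mul]
  have h5 := congrArg (v.valuation k) h4
  rw [map_mul, HeightOneSpectrum.valuation_of_algebraMap, HeightOneSpectrum.valuation_of_algebraMap, map_pow,
    hm' v hv, one_pow, one_mul] at h5
  rw [← h5]
  exact v.intValuation_le_one _

theorem trace_le (v : HeightOneSpectrum (𝓞 k)) {x : K} {c : k} (hc : c ≠ 0)
    (hx : ∀ W : HeightOneSpectrum (𝓞 K), below W = v → W.valuation K x ≤ W.valuation K (algebraMap k K c)) :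
    v.valuation k (Algebra.trace k K x) ≤ v.valuation k c := by
  have h1 := trace_le_one v (x := c⁻¹ • x) fun W hW => by
    rw [Algebra.smul_def, map_mul, map_inv₀, map_inv₀]
    exact inv_mul_le_one_of_le₀ (hx W hW) zero_le
  rw [map_smul, smul_eq_mul, map_mul, map_inv₀] at h1
  exact (inv_mul_le_one₀ (zero_lt_iff.2 ((map_ne_zero (v.valuation k)).2 hc))).1 h1

end Finite

section Transfer

variable {k K L F₀ F : Type u} [Field k] [Field K] [Field L] [Algebra k K] [Algebra K L] [Algebra k L]
  [IsScalarTower k K L] [FiniteDimensional K L] [Field F₀] [Algebra k F₀] [Field F] [Algebra K F]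

theorem normForm_of_basis {A' B' : Type u} [CommRing A'] [CommRing B'] [Algebra A' B'] {s : Type*} [Fintype s] [DecidableEq s]
    (b : Basis s K L) (f : K →+* A') (g : L →+* B') (bT : Basis s A' B') (hbT : ∀ i, bT i = g (b i))
    (hfg : ∀ x, algebraMap A' B' (f x) = g (algebraMap K L x)) (ξ : B') :
    NormApprox.normForm b f (fun i => bT.repr ξ i) = Algebra.norm A' ξ := by
  have hkey : ∀ (y : L) (a : s), bT.repr (g y) a = f (b.repr y a) := fun y a => by
    have h1 : g y = ∑ j, f (b.repr y j) • bT j := by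
      conv_lhs => rw [← b.sum_repr y, map_sum]
      refine Finset.sum_congr rfl fun j _ => ?_
      rw [Algebra.smul_def, map_mul, Algebra.smul_def, hfg, hbT]
    rw [h1, bT.repr_sum_self]
  rw [NormApprox.normForm, Algebra.norm_eq_matrix_det bT]
  congr 1
  conv_rhs => rw [← bT.sum_repr ξ, map_sum]
  refine Finset.sum_congr rfl fun i _ => ?_
  rw [map_smul]
  congr 1
  ext a c
  rw [Matrix.map_apply, Algebra.leftMulMatrix_eq_repr_mul, Algebra.leftMulMatrix_eq_repr_mul, hbT, hbT, ← map_mul g,
    hkey]

/-- Transfer of a norm from `F₀ ⊗ L` over `F₀ ⊗ K` along a point of `F₀ ⊗ K`. -/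
theorem exists_norm_transfer (π : F₀ ⊗[k] K →+* F) (hπ : ∀ e : K, π ((1 : F₀) ⊗ₜ[k] e) = algebraMap K F e) :
    letI := (Algebra.TensorProduct.map (AlgHom.id k F₀) (IsScalarTower.toAlgHom k K L)).toRingHom.toAlgebra
    ∀ x : F₀ ⊗[k] L, ∃ ξ : F ⊗[K] L, Algebra.norm F ξ = π (Algebra.norm (F₀ ⊗[k] K) x) := by
  letI := (Algebra.TensorProduct.map (AlgHom.id k F₀) (IsScalarTower.toAlgHom k K L)).toRingHom.toAlgebra
  intro x
  let b := Module.finBasis K L
  let incl : K →+* F₀ ⊗[k] K := (Algebra.TensorProduct.includeRight : K →ₐ[k] F₀ ⊗[k] K).toRingHom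
  let g : L →+* F₀ ⊗[k] L := (Algebra.TensorProduct.includeRight : L →ₐ[k] F₀ ⊗[k] L).toRingHom
  let v : Fin (finrank K L) → F₀ ⊗[k] L := fun i => g (b i)
  have hsmul : ∀ (c : F₀) (e : K) (l : L), (c ⊗ₜ[k] e : F₀ ⊗[k] K) • ((1 : F₀) ⊗ₜ[k] l) = c ⊗ₜ[k] (e • l) := fun c e l => by
    rw [Algebra.smul_def, RingHom.algebraMap_toAlgebra]
    show (Algebra.TensorProduct.map (AlgHom.id k F₀) (IsScalarTower.toAlgHom k K L)) (c ⊗ₜ e) * _ = _
    rw [Algebra.TensorProduct.map_tmul, Algebra.TensorProduct.tmul_mul_tmul, mul_one, Algebra.smul_def]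
    rfl
  let crd : Fin (finrank K L) → F₀ ⊗[k] L →ₗ[k] F₀ ⊗[k] K := fun i =>
    LinearMap.lTensor F₀ (((b.coord i).restrictScalars k))
  have hcrd : ∀ (z : F₀ ⊗[k] K) (i j : Fin (finrank K L)), crd i (z • v j) = if i = j then z else 0 := fun z i j => by
    induction z using TensorProduct.induction_on with
    | zero => simp
    | tmul c e =>
      show crd i ((c ⊗ₜ[k] e : F₀ ⊗[k] K) • ((1 : F₀) ⊗ₜ[k] b j)) = _
      rw [hsmul]
      show c ⊗ₜ[k] b.coord i (e • b j) = _
      rw [Basis.coord_apply, map_smul, b.repr_self, Finsupp.smul_apply, Finsupp.single_apply, smul_eq_mul]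
      by_cases h : j = i
      · subst h; simp
      · simp [h, Ne.symm h]
    | add z z' hz hz' =>
      rw [add_smul, map_add, hz, hz']
      by_cases h : i = j <;> simp [h]
  have hli : LinearIndependent (F₀ ⊗[k] K) v := Fintype.linearIndependent_iff.2 fun z hz i => by
    have h1 := congrArg (crd i) hz
    rw [map_sum, map_zero] at h1
    simpa [hcrd] using h1
  have hsp : ⊤ ≤ Submodule.span (F₀ ⊗[k] K) (Set.range v) := fun y _ => by
    induction y using TensorProduct.induction_on with
    | zero => exact zero_mem _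
    | tmul c l =>
      rw [← b.sum_repr l, TensorProduct.tmul_sum]
      refine Submodule.sum_mem _ fun i _ => ?_
      rw [← hsmul]
      exact Submodule.smul_mem _ _ (Submodule.subset_span ⟨i, rfl⟩)
    | add y y' hy hy' => exact add_mem (hy trivial) (hy' trivial)
  let bT := Basis.mk hli hsp
  have hbT : ∀ i, bT i = g (b i) := fun i => Basis.mk_apply hli hsp i
  have h := normForm_of_basis b incl g bT hbT (fun e => by
    show (Algebra.TensorProduct.map (AlgHom.id k F₀) (IsScalarTower.toAlgHom k K L)) ((1 : F₀) ⊗ₜ e) = _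
    rw [Algebra.TensorProduct.map_tmul]
    rfl) x
  refine ⟨∑ i, π (bT.repr x i) • Algebra.TensorProduct.basis F b i, ?_⟩
  refine (NormApprox.normForm_tensor b F _).symm.trans ?_
  rw [← h, NormApprox.map_normForm]
  simp only [Basis.repr_sum_self]
  congr 1
  exact RingHom.ext fun e => (hπ e).symm

end Transfer

section Split

variable {k K L M F : Type*} [Field k] [Field K] [Field L] [Field M] [Field F] [Algebra k K] [Algebra K L] [Algebra k L]
  [IsScalarTower k K L] [Algebra k M] [Normal k M] [FiniteDimensional k M] [FiniteDimensional K L] [Algebra K F] [Algebra k F] [IsScalarTower k K F]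

theorem nonempty_algHom_of_normal (φ : M →ₐ[k] F) (j : L →ₐ[k] M) : Nonempty (L →ₐ[K] F) := by
  let e : L →ₐ[K] AlgebraicClosure F := IsAlgClosed.lift
  let ι : F →ₐ[K] AlgebraicClosure F := IsScalarTower.toAlgHom K F _
  have hrange : ∀ x, e x ∈ ι.fieldRange := fun x => by
    have hx : IsIntegral k x := IsIntegral.of_mem_of_fg ⊤ (by
      haveI : FiniteDimensional k L := by
        exact FiniteDimensional.of_injective j.toLinearMap j.injective
      exact Module.Finite.fg_top) x trivial
    have hspl : ((minpoly k x).map (algebraMap k M)).Splits := by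
      rw [← minpoly.algHom_eq j j.injective x]
      exact Normal.splits inferInstance (j x)
    have hroot : Polynomial.aeval (e x) (minpoly k x) = 0 := by
      rw [show e x = (e.restrictScalars k) x from rfl, Polynomial.aeval_algHom_apply, minpoly.aeval, map_zero]
    let ψ : M →+* AlgebraicClosure F := (algebraMap F (AlgebraicClosure F)).comp φ.toRingHom
    have hψ : ψ.comp (algebraMap k M) = algebraMap k (AlgebraicClosure F) := RingHom.ext fun c => by
      simp only [ψ, RingHom.comp_apply, AlgHom.toRingHom_eq_coe, RingHom.coe_coe, AlgHom.commutes,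
        ← IsScalarTower.algebraMap_apply]
    have h2 := hspl.roots_map ψ
    have h3 : e x ∈ ((minpoly k x).map (algebraMap k (AlgebraicClosure F))).roots :=
      (Polynomial.mem_roots_map (minpoly.ne_zero hx)).2 (by rwa [← Polynomial.aeval_def])
    rw [← hψ, ← Polynomial.map_map, h2, Multiset.mem_map] at h3
    obtain ⟨r, -, hr⟩ := h3
    exact ⟨φ r, hr⟩
  exact ⟨(AlgEquiv.ofInjectiveField ι).symm.toAlgHom.comp (e.codRestrict ι.range hrange)⟩

end Split

end Groth.Agent.CommAlg4.PlaceMaps
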