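import Mathlib

/-!
# Norms from extensions unramified at a prime are congruent to every unit
-/

set_option autoImplicit false
set_option linter.all false

universe u

open NumberField IsDedekindDomain IsLocalRing WithZero Module

namespace Groth.Agent.CommAlg4.UnramifiedNorm

attribute [local instance] Ideal.Quotient.field

section Local

variable {R S : Type*} [CommRing R] [IsLocalRing R] [CommRing S] [Algebra R S] [Module.Free R S] [Module.Finite R S]

theorem norm_quotient_mk (x : S) :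
    Algebra.norm (R ⧸ maximalIdeal R) (Ideal.Quotient.mk ((maximalIdeal R).map (algebraMap R S)) x) =
      Ideal.Quotient.mk (maximalIdeal R) (Algebra.norm R x) := by
  classical
  let ι := Module.Free.ChooseBasisIndex R S
  let b : Module.Basis ι R S := Module.Free.chooseBasis R S
  rw [Algebra.norm_eq_matrix_det b, Algebra.norm_eq_matrix_det (IsLocalRing.basisQuotient b), RingHom.map_det]
  congr 1
  ext i j
  simp only [Algebra.leftMulMatrix_apply, Algebra.coe_lmul_eq_mul, LinearMap.toMatrix_apply,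
    IsLocalRing.basisQuotient_apply, LinearMap.mul_apply', Matrix.map_apply, RingHom.mapMatrix_apply, ← map_mul,
    IsLocalRing.basisQuotient_repr]

/-- Units are congruent to norms as soon as this is so modulo the maximal ideal and the trace is onto there. -/
theorem exists_norm_congr_of_residue {π : R} (hπ : maximalIdeal R = Ideal.span {π})
    (hnorm : ∀ b : R, IsUnit b → ∃ z : S, b - Algebra.norm R z ∈ maximalIdeal R)
    (htr : ∀ c : R, ∃ y : S, c - Algebra.trace R S y ∈ maximalIdeal R)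
    (b : R) (hb : IsUnit b) : ∀ N : ℕ, ∃ z : S, b - Algebra.norm R z ∈ maximalIdeal R ^ (N + 1) := by
  intro N
  induction N with
  | zero => simpa using hnorm b hb
  | succ N ih =>
    obtain ⟨z, hz⟩ := ih
    have hu : IsUnit (Algebra.norm R z) := by
      by_contra h
      refine (mem_maximalIdeal _).1 ?_ hb
      rw [show b = (b - Algebra.norm R z) + Algebra.norm R z by ring]
      exact add_mem (Ideal.pow_le_self (Nat.succ_ne_zero N) hz) ((mem_maximalIdeal _).2 h)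
    rw [hπ, Ideal.span_singleton_pow, Ideal.mem_span_singleton'] at hz
    obtain ⟨c, hc⟩ := hz
    obtain ⟨y, hy⟩ := htr (c * (hu.unit⁻¹ : Rˣ))
    rw [hπ, Ideal.mem_span_singleton'] at hy
    obtain ⟨d, hd⟩ := hy
    obtain ⟨r, hr⟩ := Algebra.norm_one_add_smul (π ^ (N + 1)) y
    refine ⟨z * (1 + π ^ (N + 1) • y), ?_⟩
    rw [hπ, Ideal.span_singleton_pow, Ideal.mem_span_singleton']
    refine ⟨Algebra.norm R z * d - Algebra.norm R z * r * π ^ N, ?_⟩
    have hnu : Algebra.norm R z * (c * ((hu.unit⁻¹ : Rˣ) : R)) = c := by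
      rw [mul_left_comm, IsUnit.mul_val_inv, mul_one]
    rw [map_mul, hr]
    linear_combination π ^ (N + 1) * Algebra.norm R z * hd + hc + π ^ (N + 1) * hnu

end Local

section Compat

variable {R S : Type*} [CommRing R] [CommRing S] [Algebra R S] (p : Ideal R) [p.IsMaximal]
variable (Rₚ Sₚ : Type*) [CommRing Rₚ] [CommRing Sₚ] [Algebra R Rₚ] [IsLocalization.AtPrime Rₚ p]
variable [IsLocalRing Rₚ] [Algebra S Sₚ] [Algebra R Sₚ] [Algebra Rₚ Sₚ]
variable [IsLocalization (Algebra.algebraMapSubmonoid S p.primeCompl) Sₚ]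
variable [IsScalarTower R S Sₚ] [IsScalarTower R Rₚ Sₚ]

theorem compat :
    RingHom.comp (algebraMap (Rₚ ⧸ maximalIdeal Rₚ) (Sₚ ⧸ (maximalIdeal Rₚ).map (algebraMap Rₚ Sₚ)))
        ↑(IsLocalization.AtPrime.equivQuotMaximalIdeal p Rₚ) =
      RingHom.comp ↑(IsLocalization.AtPrime.equivQuotientMapMaximalIdeal S p Rₚ Sₚ)
        (algebraMap (R ⧸ p) (S ⧸ p.map (algebraMap R S))) := by
  have : IsScalarTower R (Rₚ ⧸ maximalIdeal Rₚ) (Sₚ ⧸ (maximalIdeal Rₚ).map (algebraMap Rₚ Sₚ)) := by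
    apply IsScalarTower.of_algebraMap_eq'
    rw [IsScalarTower.algebraMap_eq R Rₚ (Rₚ ⧸ _), IsScalarTower.algebraMap_eq R Rₚ (Sₚ ⧸ _),
      ← RingHom.comp_assoc, ← IsScalarTower.algebraMap_eq Rₚ]
  ext x
  simp only [IsLocalization.AtPrime.equivQuotMaximalIdeal, RingHom.quotientKerEquivOfSurjective,
    RingEquiv.coe_ringHom_trans, RingHom.coe_comp, RingHom.coe_coe, Function.comp_apply,
    Ideal.quotEquivOfEq_mk, RingHom.quotientKerEquivOfRightInverse.apply, RingHom.kerLift_mk,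
    IsLocalization.AtPrime.equivQuotientMapMaximalIdeal, Ideal.Quotient.algebraMap_quotient_map_quotient]
  rw [← IsScalarTower.algebraMap_apply, ← IsScalarTower.algebraMap_apply]

end Compat

section Residue

variable {K L : Type u} [Field K] [NumberField K] [Field L] [NumberField L] [Algebra K L]

set_option maxHeartbeats 1000000 in
set_option synthInstance.maxHeartbeats 100000 in
/-- The residue algebra has surjective trace, and surjective norm on units. -/
theorem residue_surjective (W : HeightOneSpectrum (𝓞 K))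
    (hunr : ∀ P : Ideal (𝓞 L), P.IsPrime → P.LiesOver W.asIdeal → ¬ P ∣ differentIdeal (𝓞 K) (𝓞 L))
    (c : 𝓞 K ⧸ W.asIdeal) :
    (c ≠ 0 → ∃ z, Algebra.norm (𝓞 K ⧸ W.asIdeal) (S := 𝓞 L ⧸ W.asIdeal.map (algebraMap (𝓞 K) (𝓞 L))) z = c) ∧
      ∃ z, Algebra.trace (𝓞 K ⧸ W.asIdeal) (𝓞 L ⧸ W.asIdeal.map (algebraMap (𝓞 K) (𝓞 L))) z = c := by
  classical
  haveI := W.isMaximal
  revert c
  set p := W.asIdeal with hpdef
  intro c
  obtain ⟨P, hPmax, hPp⟩ := Ideal.exists_maximal_ideal_liesOver_of_isIntegral (S := 𝓞 L) p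
  haveI := hPmax
  haveI := hPp
  obtain ⟨Q, hQ⟩ : P ∣ p.map (algebraMap (𝓞 K) (𝓞 L)) :=
    Ideal.dvd_iff_le.2 (Ideal.map_le_iff_le_comap.2 Ideal.LiesOver.over.le)
  have hpne : p.map (algebraMap (𝓞 K) (𝓞 L)) ≠ ⊥ := Ideal.map_ne_bot_of_ne_bot W.ne_bot
  have hPbot : P ≠ ⊥ := fun h => hpne (by rw [hQ, h, Ideal.bot_mul])
  have hQne : ¬ P ∣ Q := fun h => hunr P inferInstance inferInstance (by
    simpa using pow_sub_one_dvd_differentIdeal (𝓞 K) P 2 W.ne_bot (by rw [pow_two, hQ]; exact mul_dvd_mul_left _ h))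
  have hcop : IsCoprime P Q := by
    rw [Ideal.isCoprime_iff_gcd, ((Ideal.prime_iff_isPrime hPbot).2 inferInstance).irreducible.gcd_eq_one_iff]
    exact hQne
  letI : Algebra (𝓞 K ⧸ p) (𝓞 L ⧸ Q) := Ideal.Quotient.algebraQuotientOfLEComap (by
    rw [← Ideal.map_le_iff_le_comap, hQ]
    exact (Ideal.mul_le_right : P * Q ≤ Q))
  haveI : IsScalarTower (𝓞 K) (𝓞 K ⧸ p) (𝓞 L ⧸ Q) := .of_algebraMap_eq' rfl
  haveI : Module.Finite (𝓞 K ⧸ p) (𝓞 L ⧸ Q) := Module.Finite.of_restrictScalars_finite (𝓞 K) (𝓞 K ⧸ p) _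
  let e : (𝓞 L ⧸ p.map (algebraMap (𝓞 K) (𝓞 L))) ≃ₐ[𝓞 K ⧸ p] ((𝓞 L ⧸ P) × 𝓞 L ⧸ Q) :=
    { __ := (Ideal.quotEquivOfEq hQ).trans (Ideal.quotientMulEquivQuotientProd P Q hcop),
      commutes' := Quotient.ind fun _ ↦ rfl }
  haveI : Finite (𝓞 K ⧸ p) := Ideal.finiteQuotientOfFreeOfNeBot _ W.ne_bot
  haveI : Finite (𝓞 L ⧸ P) := Ideal.finiteQuotientOfFreeOfNeBot _ hPbot
  haveI : Module.Finite (𝓞 K ⧸ p) (𝓞 L ⧸ P) := Module.Finite.of_finite
  refine ⟨fun hc => ?_, ?_⟩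
  · obtain ⟨x, hx⟩ := FiniteField.norm_surjective (𝓞 K ⧸ p) (𝓞 L ⧸ P) c
    refine ⟨e.symm (x, 1), ?_⟩
    rw [← Algebra.norm_eq_of_algEquiv e, AlgEquiv.apply_symm_apply, Algebra.norm_apply,
      show Algebra.lmul (𝓞 K ⧸ p) ((𝓞 L ⧸ P) × 𝓞 L ⧸ Q) (x, 1) =
        (Algebra.lmul (𝓞 K ⧸ p) (𝓞 L ⧸ P) x).prodMap (Algebra.lmul (𝓞 K ⧸ p) (𝓞 L ⧸ Q) 1) from by
          ext <;> simp,
      LinearMap.det_prodMap, ← Algebra.norm_apply, ← Algebra.norm_apply, map_one, mul_one, hx]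
  · obtain ⟨x, hx⟩ := LinearMap.surjective_of_ne_zero (Algebra.trace_ne_zero (𝓞 K ⧸ p) (𝓞 L ⧸ P)) c
    refine ⟨e.symm (x, 0), ?_⟩
    rw [← Algebra.trace_eq_of_algEquiv e, AlgEquiv.apply_symm_apply, Algebra.trace_prod_apply, map_zero, add_zero]
    exact hx

set_option maxHeartbeats 1000000 in
set_option synthInstance.maxHeartbeats 100000 in
set_option backward.isDefEq.respectTransparency false in
theorem exists_norm_congr_div (W : HeightOneSpectrum (𝓞 K))
    (hunr : ∀ P : Ideal (𝓞 L), P.IsPrime → P.LiesOver W.asIdeal → ¬ P ∣ differentIdeal (𝓞 K) (𝓞 L))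
    (β : K) (hβ : W.valuation K β = 1) (N : ℕ) :
    ∃ (y : 𝓞 L) (s : 𝓞 K), s ∉ W.asIdeal ∧
      W.valuation K (Algebra.norm K ((y : L) / ((algebraMap (𝓞 K) (𝓞 L) s : 𝓞 L) : L)) - β) ≤ exp (-(N : ℤ)) := by
  classical
  haveI := W.isMaximal
  set p := W.asIdeal with hp
  let Rₚ := Localization.AtPrime p
  let Sₚ := Localization (Algebra.algebraMapSubmonoid (𝓞 L) p.primeCompl)
  let : Algebra Rₚ Sₚ := localizationAlgebra p.primeCompl (𝓞 L)
  have : IsScalarTower (𝓞 K) Rₚ Sₚ := IsScalarTower.of_algebraMap_eq'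
    (by rw [RingHom.algebraMap_toAlgebra, IsLocalization.map_comp, ← IsScalarTower.algebraMap_eq])
  have : IsLocalization (Submonoid.map (algebraMap (𝓞 K) (𝓞 L)) (Ideal.primeCompl p)) Sₚ :=
    inferInstanceAs (IsLocalization (Algebra.algebraMapSubmonoid (𝓞 L) p.primeCompl) Sₚ)
  have he : Algebra.algebraMapSubmonoid (𝓞 L) p.primeCompl ≤ nonZeroDivisors (𝓞 L) :=
    Submonoid.map_le_of_le_comap _ <| p.primeCompl_le_nonZeroDivisors.trans
      (nonZeroDivisors_le_comap_nonZeroDivisors_of_injective _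
        (FaithfulSMul.algebraMap_injective _ _))
  have : IsDomain Sₚ := IsLocalization.isDomain_of_le_nonZeroDivisors _ he
  have : IsTorsionFree Rₚ Sₚ := by
    rw [isTorsionFree_iff_algebraMap_injective, RingHom.injective_iff_ker_eq_bot, RingHom.ker_eq_bot_iff_eq_zero]
    simp
  have : Module.Finite Rₚ Sₚ := .of_isLocalization (𝓞 K) (𝓞 L) p.primeCompl
  have : IsIntegrallyClosed Sₚ := isIntegrallyClosed_of_isLocalization _ _ he
  haveI hdvr : IsDiscreteValuationRing Rₚ :=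
    IsLocalization.AtPrime.isDiscreteValuationRing_of_dedekind_domain (𝓞 K) W.ne_bot Rₚ
  have : Module.Free Rₚ Sₚ := Module.free_of_finite_type_torsion_free'
  obtain ⟨π, hπ⟩ := IsDiscreteValuationRing.exists_irreducible Rₚ
  have hmax : maximalIdeal Rₚ = Ideal.span {π} := hπ.maximalIdeal_eq
  let e₁ := IsLocalization.AtPrime.equivQuotMaximalIdeal p Rₚ
  let e₂ := IsLocalization.AtPrime.equivQuotientMapMaximalIdeal (𝓞 L) p Rₚ Sₚ
  have hcompat := compat (S := 𝓞 L) p Rₚ Sₚ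
  -- the input modulo the maximal ideal
  have hnorm : ∀ b : Rₚ, IsUnit b → ∃ z : Sₚ, b - Algebra.norm Rₚ z ∈ maximalIdeal Rₚ := by
    intro b hb
    obtain ⟨x, hx⟩ := (residue_surjective (L := L) W hunr (e₁.symm (Ideal.Quotient.mk _ b))).1 (by
      rw [Ne, EmbeddingLike.map_eq_zero_iff, Ideal.Quotient.eq_zero_iff_mem, mem_maximalIdeal]
      exact fun h => h hb)
    obtain ⟨z, hz⟩ := Ideal.Quotient.mk_surjective (e₂ x)
    refine ⟨z, Ideal.Quotient.eq.1 ?_⟩
    rw [← norm_quotient_mk, hz]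
    have h1 := Algebra.norm_eq_of_equiv_equiv e₁ e₂ hcompat x
    rw [hx] at h1
    exact (e₁.symm.injective h1)
  have htr : ∀ c : Rₚ, ∃ y : Sₚ, c - Algebra.trace Rₚ Sₚ y ∈ maximalIdeal Rₚ := by
    intro c
    obtain ⟨x, hx⟩ := (residue_surjective (L := L) W hunr (e₁.symm (Ideal.Quotient.mk _ c))).2
    obtain ⟨z, hz⟩ := Ideal.Quotient.mk_surjective (e₂ x)
    refine ⟨z, Ideal.Quotient.eq.1 ?_⟩
    rw [← Algebra.trace_quotient_mk, hz]
    have h1 := Algebra.trace_eq_of_equiv_equiv e₁ e₂ hcompat x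
    rw [hx] at h1
    exact (e₁.symm.injective h1)
  -- the unit
  obtain ⟨n, ⟨d, hd⟩, hnd⟩ := W.exists_primeCompl_mul_eq_of_integer β hβ.le
  have hn : n ∈ p.primeCompl := by
    rw [← W.intValuation_eq_one_iff_mem_primeCompl, ← HeightOneSpectrum.valuation_of_algebraMap (K := K)]
    show W.valuation K (algebraMap (𝓞 K) K n) = 1
    rw [← hnd,
      map_mul, hβ, one_mul, HeightOneSpectrum.valuation_of_algebraMap, W.intValuation_eq_one_iff_mem_primeCompl]
    exact hd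
  let b : Rₚ := IsLocalization.mk' Rₚ n ⟨d, hd⟩
  have hb : IsUnit b := (IsLocalization.AtPrime.isUnit_mk'_iff Rₚ p n ⟨d, hd⟩).2 hn
  obtain ⟨z, hz⟩ := exists_norm_congr_of_residue hmax hnorm htr b hb N
  obtain ⟨y, ⟨_, s, hs, rfl⟩, rfl⟩ := IsLocalization.exists_mk'_eq (Algebra.algebraMapSubmonoid (𝓞 L) p.primeCompl) z
  set a₁ := Algebra.intNorm (𝓞 K) (𝓞 L) y with ha₁
  set a₂ := Algebra.intNorm (𝓞 K) (𝓞 L) (algebraMap (𝓞 K) (𝓞 L) s) with ha₂
  have hNz : Algebra.norm Rₚ (IsLocalization.mk' Sₚ y ⟨algebraMap (𝓞 K) (𝓞 L) s, Algebra.mem_algebraMapSubmonoid_of_mem (⟨s, hs⟩ : p.primeCompl)⟩ : Sₚ) *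
      algebraMap (𝓞 K) Rₚ a₂ = algebraMap (𝓞 K) Rₚ a₁ := by
    simp only [ha₁, ha₂, Algebra.intNorm_eq_of_isLocalization (A := 𝓞 K) (B := 𝓞 L) p.primeCompl (Aₘ := Rₚ) (Bₘ := Sₚ),
      Algebra.intNorm_eq_norm, ← map_mul]
    congr 1
    exact IsLocalization.mk'_spec Sₚ y _
  have ha₂p : a₂ ∈ p.primeCompl := by
    intro hmem
    have h1 : IsUnit (algebraMap (𝓞 K) Rₚ a₂) := by
      rw [ha₂, Algebra.intNorm_eq_of_isLocalization (A := 𝓞 K) (B := 𝓞 L) p.primeCompl (Aₘ := Rₚ) (Bₘ := Sₚ),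
        Algebra.intNorm_eq_norm]
      exact (IsLocalization.map_units Sₚ (⟨_, Algebra.mem_algebraMapSubmonoid_of_mem (⟨s, hs⟩ : p.primeCompl)⟩ : Algebra.algebraMapSubmonoid (𝓞 L) p.primeCompl)).map _
    exact ((IsLocalization.AtPrime.isUnit_to_map_iff Rₚ p a₂).1 h1) hmem
  have hnum : algebraMap (𝓞 K) Rₚ (n * a₂ - a₁ * d) ∈ (p ^ (N + 1)).map (algebraMap (𝓞 K) Rₚ) := by
    rw [Ideal.map_pow, Localization.AtPrime.map_eq_maximalIdeal]
    rw [map_sub, map_mul, map_mul, ← hNz, ← IsLocalization.mk'_spec Rₚ n ⟨d, hd⟩]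
    have h1 := Ideal.mul_mem_right (algebraMap (𝓞 K) Rₚ a₂ * algebraMap (𝓞 K) Rₚ d) _ hz
    convert h1 using 1
    ring
  obtain ⟨t, ht, htmem⟩ := (IsLocalization.algebraMap_mem_map_algebraMap_iff p.primeCompl Rₚ _ _).1 hnum
  refine ⟨y, s, hs, ?_⟩
  have hs0 : s ≠ 0 := fun h => hs (h ▸ p.zero_mem)
  have hd0 : algebraMap (𝓞 K) K d ≠ 0 := by
    simpa using fun h : d = 0 => hd (h ▸ p.zero_mem)
  have ha₂0 : algebraMap (𝓞 K) K a₂ ≠ 0 := by
    simpa using fun h : a₂ = 0 => ha₂p (h ▸ p.zero_mem)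
  have hNu : Algebra.norm K ((y : L) / ((algebraMap (𝓞 K) (𝓞 L) s : 𝓞 L) : L)) = algebraMap (𝓞 K) K a₁ / algebraMap (𝓞 K) K a₂ := by
    rw [eq_div_iff ha₂0, ha₁, ha₂, Algebra.algebraMap_intNorm (A := 𝓞 K) (K := K) (L := L),
      Algebra.algebraMap_intNorm (A := 𝓞 K) (K := K) (L := L), ← map_mul,
      div_mul_cancel₀ _ (by simpa using hs0)]
  have hβ' : β = algebraMap (𝓞 K) K n / algebraMap (𝓞 K) K d := by rw [eq_div_iff hd0]; exact hnd
  have hval : ∀ x : 𝓞 K, x ∈ p.primeCompl → W.valuation K (algebraMap (𝓞 K) K x) = 1 := fun x hx => by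
    rw [HeightOneSpectrum.valuation_of_algebraMap, W.intValuation_eq_one_iff_mem_primeCompl]
    exact hx
  rw [hNu, hβ', div_sub_div _ _ ha₂0 hd0, map_div₀, map_mul, hval _ ha₂p, hval _ hd, one_mul, div_one]
  have hmem : W.intValuation (t * (n * a₂ - a₁ * d)) ≤ exp (-((N + 1 : ℕ) : ℤ)) :=
    (W.intValuation_le_pow_iff_mem _ _).2 htmem
  rw [map_mul, (W.intValuation_eq_one_iff_mem_primeCompl _).2 ht, one_mul] at hmem
  rw [← map_mul, ← map_mul, ← map_sub, HeightOneSpectrum.valuation_of_algebraMap, Valuation.map_sub_swap,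
    mul_comm a₂ n]
  exact hmem.trans (exp_le_exp.2 (by omega))

theorem exists_norm_congr (W : HeightOneSpectrum (𝓞 K))
    (hunr : ∀ P : Ideal (𝓞 L), P.IsPrime → P.LiesOver W.asIdeal → ¬ P ∣ differentIdeal (𝓞 K) (𝓞 L))
    (β : K) (hβ : W.valuation K β = 1) (N : ℕ) :
    ∃ u : L, W.valuation K (Algebra.norm K u - β) ≤ exp (-(N : ℤ)) := by
  obtain ⟨y, s, -, h⟩ := exists_norm_congr_div W hunr β hβ N
  exact ⟨_, h⟩

set_option maxHeartbeats 800000 in
/-- The approximate norm can be taken of an integral element. -/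
theorem exists_norm_congr_integral (W : HeightOneSpectrum (𝓞 K))
    (hunr : ∀ P : Ideal (𝓞 L), P.IsPrime → P.LiesOver W.asIdeal → ¬ P ∣ differentIdeal (𝓞 K) (𝓞 L))
    (β : K) (hβ : W.valuation K β = 1) (N : ℕ) :
    ∃ y : 𝓞 L, W.valuation K (Algebra.norm K (y : L) - β) ≤ exp (-(N : ℤ)) := by
  obtain ⟨y, s, hs, h⟩ := exists_norm_congr_div W hunr β hβ N
  haveI := W.isMaximal
  obtain ⟨s', hs'⟩ : ∃ s' : 𝓞 K, s * s' - 1 ∈ W.asIdeal ^ N := by
    obtain ⟨a, b, hb, hab⟩ : ∃ a b, b ∈ W.asIdeal ^ N ∧ a * s + b = 1 := by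
      have htop : Ideal.span {s} ⊔ W.asIdeal ^ N = ⊤ := Ideal.sup_pow_eq_top
        (W.isMaximal.out.2 _ (lt_of_le_of_ne le_sup_right fun h => hs (h ▸ Ideal.mem_sup_left (Ideal.mem_span_singleton_self s))))
      obtain ⟨t, ht, b, hb, htb⟩ := Submodule.mem_sup.1 ((Ideal.eq_top_iff_one _).1 htop)
      obtain ⟨a, rfl⟩ := Ideal.mem_span_singleton'.1 ht
      exact ⟨a, b, hb, htb⟩
    exact ⟨a, by
      rw [show s * a - 1 = -b by linear_combination hab]
      exact neg_mem hb⟩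
  refine ⟨y * algebraMap (𝓞 K) (𝓞 L) s', ?_⟩
  set u := (y : L) / ((algebraMap (𝓞 K) (𝓞 L) s : 𝓞 L) : L)
  set c : K := algebraMap (𝓞 K) K (s * s') with hc
  have hs0 : ((algebraMap (𝓞 K) (𝓞 L) s : 𝓞 L) : L) ≠ 0 := by
    simpa using fun h : s = 0 => hs (h ▸ Ideal.zero_mem _)
  have hy : ((y * algebraMap (𝓞 K) (𝓞 L) s' : 𝓞 L) : L) = u * algebraMap K L c := by
    rw [hc, ← IsScalarTower.algebraMap_apply, IsScalarTower.algebraMap_apply (𝓞 K) (𝓞 L) L]
    simp only [u, map_mul]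
    field_simp
  have hc1 : W.valuation K (c - 1) ≤ exp (-(N : ℤ)) := by
    rw [hc, ← map_one (algebraMap (𝓞 K) K), ← map_sub, HeightOneSpectrum.valuation_of_algebraMap]
    exact (W.intValuation_le_pow_iff_mem _ _).2 hs'
  have hu : W.valuation K (Algebra.norm K u) ≤ 1 := by
    rw [show Algebra.norm K u = (Algebra.norm K u - β) + β by ring]
    exact Valuation.map_add_le _ (h.trans (by rw [← exp_zero, exp_le_exp]; omega)) hβ.le
  have hcle : W.valuation K c ≤ 1 := by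
    rw [hc, HeightOneSpectrum.valuation_of_algebraMap]; exact W.intValuation_le_one _
  obtain ⟨q, hq, hq'⟩ : ∃ q, c ^ finrank K L - 1 = (c - 1) * q ∧ W.valuation K q ≤ 1 := by
    refine ⟨∑ i ∈ Finset.range (finrank K L), c ^ i, (mul_geom_sum c _).symm, ?_⟩
    exact Valuation.map_sum_le _ fun i _ => by rw [map_pow]; exact pow_le_one' hcle i
  rw [hy, map_mul, Algebra.norm_algebraMap,
    show Algebra.norm K u * c ^ finrank K L - β = Algebra.norm K u * (c ^ finrank K L - 1) + (Algebra.norm K u - β) by ring]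
  refine Valuation.map_add_le _ ?_ h
  rw [hq, map_mul, map_mul]
  exact mul_le_of_le_one_of_le hu (mul_le_of_le_of_le_one hc1 hq')

set_option maxHeartbeats 1000000 in
set_option backward.isDefEq.respectTransparency false in
/-- Congruent integral elements have congruent norms. -/
theorem norm_congr (W : HeightOneSpectrum (𝓞 K)) (x y : 𝓞 L) (N : ℕ)
    (h : x - y ∈ (W.asIdeal ^ N).map (algebraMap (𝓞 K) (𝓞 L))) :
    W.valuation K (Algebra.norm K (x : L) - Algebra.norm K (y : L)) ≤ exp (-(N : ℤ)) := by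
  classical
  haveI := W.isMaximal
  set p := W.asIdeal with hp
  let Rₚ := Localization.AtPrime p
  let Sₚ := Localization (Algebra.algebraMapSubmonoid (𝓞 L) p.primeCompl)
  let : Algebra Rₚ Sₚ := localizationAlgebra p.primeCompl (𝓞 L)
  have : IsScalarTower (𝓞 K) Rₚ Sₚ := IsScalarTower.of_algebraMap_eq'
    (by rw [RingHom.algebraMap_toAlgebra, IsLocalization.map_comp, ← IsScalarTower.algebraMap_eq])
  have : IsLocalization (Submonoid.map (algebraMap (𝓞 K) (𝓞 L)) (Ideal.primeCompl p)) Sₚ :=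
    inferInstanceAs (IsLocalization (Algebra.algebraMapSubmonoid (𝓞 L) p.primeCompl) Sₚ)
  have he : Algebra.algebraMapSubmonoid (𝓞 L) p.primeCompl ≤ nonZeroDivisors (𝓞 L) :=
    Submonoid.map_le_of_le_comap _ <| p.primeCompl_le_nonZeroDivisors.trans
      (nonZeroDivisors_le_comap_nonZeroDivisors_of_injective _
        (FaithfulSMul.algebraMap_injective _ _))
  have : IsDomain Sₚ := IsLocalization.isDomain_of_le_nonZeroDivisors _ he
  have : IsTorsionFree Rₚ Sₚ := by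
    rw [isTorsionFree_iff_algebraMap_injective, RingHom.injective_iff_ker_eq_bot, RingHom.ker_eq_bot_iff_eq_zero]
    simp
  have : Module.Finite Rₚ Sₚ := .of_isLocalization (𝓞 K) (𝓞 L) p.primeCompl
  have : IsIntegrallyClosed Sₚ := isIntegrallyClosed_of_isLocalization _ _ he
  haveI hdvr : IsDiscreteValuationRing Rₚ :=
    IsLocalization.AtPrime.isDiscreteValuationRing_of_dedekind_domain (𝓞 K) W.ne_bot Rₚ
  have : Module.Free Rₚ Sₚ := Module.free_of_finite_type_torsion_free'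
  let ι := Module.Free.ChooseBasisIndex Rₚ Sₚ
  let b : Module.Basis ι Rₚ Sₚ := Module.Free.chooseBasis Rₚ Sₚ
  let I : Ideal Rₚ := (p ^ N).map (algebraMap (𝓞 K) Rₚ)
  have hxy : algebraMap (𝓞 L) Sₚ x - algebraMap (𝓞 L) Sₚ y ∈ I • (⊤ : Submodule Rₚ Sₚ) := by
    rw [Ideal.smul_top_eq_map, Submodule.restrictScalars_mem, Ideal.map_map, ← IsScalarTower.algebraMap_eq,
      IsScalarTower.algebraMap_eq (𝓞 K) (𝓞 L) Sₚ, ← Ideal.map_map, ← map_sub]
    exact Ideal.mem_map_of_mem _ h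
  have hcoord : ∀ z ∈ I • (⊤ : Submodule Rₚ Sₚ), ∀ i, b.repr z i ∈ I := fun z hz i => by
    refine Submodule.smul_induction_on hz (fun r hr m _ => ?_) (fun z z' h1 h2 => ?_)
    · rw [map_smul, Finsupp.smul_apply, smul_eq_mul]
      exact Ideal.mul_mem_right _ _ hr
    · rw [map_add, Finsupp.add_apply]
      exact I.add_mem h1 h2
  have hdet : Algebra.norm Rₚ (algebraMap (𝓞 L) Sₚ x) - Algebra.norm Rₚ (algebraMap (𝓞 L) Sₚ y) ∈ I := by
    rw [← Ideal.Quotient.eq, Algebra.norm_eq_matrix_det b, Algebra.norm_eq_matrix_det b, RingHom.map_det, RingHom.map_det]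
    congr 1
    ext i j
    simp only [RingHom.mapMatrix_apply, Matrix.map_apply, Algebra.leftMulMatrix_eq_repr_mul]
    rw [Ideal.Quotient.eq, ← Finsupp.sub_apply, ← map_sub, ← sub_mul]
    refine hcoord _ ?_ i
    rw [mul_comm, ← smul_eq_mul]
    exact Submodule.smul_induction_on hxy (fun r hr m _ => by
      rw [smul_eq_mul, Algebra.mul_smul_comm]; exact Submodule.smul_mem_smul hr trivial)
      (fun z z' h1 h2 => by rw [smul_add]; exact add_mem h1 h2)
  rw [← Algebra.intNorm_eq_norm (A := Rₚ) (B := Sₚ), ← Algebra.intNorm_eq_of_isLocalization (A := 𝓞 K) (B := 𝓞 L) p.primeCompl (Aₘ := Rₚ) (Bₘ := Sₚ),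
    ← Algebra.intNorm_eq_of_isLocalization (A := 𝓞 K) (B := 𝓞 L) p.primeCompl (Aₘ := Rₚ) (Bₘ := Sₚ), ← map_sub] at hdet
  obtain ⟨t, ht, htmem⟩ := (IsLocalization.algebraMap_mem_map_algebraMap_iff p.primeCompl Rₚ _ _).1 hdet
  have h1 := (W.intValuation_le_pow_iff_mem _ _).2 htmem
  rw [map_mul, (W.intValuation_eq_one_iff_mem_primeCompl _).2 ht, one_mul] at h1
  rw [show (x : L) = algebraMap (𝓞 L) L x from rfl, show (y : L) = algebraMap (𝓞 L) L y from rfl,
    ← Algebra.algebraMap_intNorm (A := 𝓞 K) (K := K) (L := L), ← Algebra.algebraMap_intNorm (A := 𝓞 K) (K := K) (L := L),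
    ← map_sub, HeightOneSpectrum.valuation_of_algebraMap]
  exact h1

end Residue

end Groth.Agent.CommAlg4.UnramifiedNorm
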