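import Mathlib
import Groth.Agent.CommAlg4.PlaceMaps
import Groth.Agent.CommAlg4.UnramifiedNorm

/-!
# Units are norms from algebras unramified at a place
-/

set_option autoImplicit false
set_option linter.all false

universe u

open NumberField IsDedekindDomain WithZero Module Filter Topology

open scoped TensorProduct Classical

namespace Groth.Agent.CommAlg4.LocalNorm

open Groth.Agent.CommAlg4

variable {k K L : Type u} [Field k] [NumberField k] [Field K] [NumberField K] [Algebra k K]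
  [Field L] [NumberField L] [Algebra K L] [Algebra k L] [IsScalarTower k K L]

theorem exists_tensor_basis (F₀ : Type u) [Field F₀] [Algebra k F₀] (b : Basis (Fin (finrank K L)) K L) :
    letI := (Algebra.TensorProduct.map (AlgHom.id k F₀) (IsScalarTower.toAlgHom k K L)).toRingHom.toAlgebra
    ∃ bT : Basis (Fin (finrank K L)) (F₀ ⊗[k] K) (F₀ ⊗[k] L), ∀ i, bT i = (1 : F₀) ⊗ₜ[k] b i := by
  letI := (Algebra.TensorProduct.map (AlgHom.id k F₀) (IsScalarTower.toAlgHom k K L)).toRingHom.toAlgebra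
  let v : Fin (finrank K L) → F₀ ⊗[k] L := fun i => (1 : F₀) ⊗ₜ[k] b i
  have hsmul : ∀ (c : F₀) (e : K) (l : L), (c ⊗ₜ[k] e : F₀ ⊗[k] K) • ((1 : F₀) ⊗ₜ[k] l) = c ⊗ₜ[k] (e • l) := fun c e l => by
    rw [Algebra.smul_def, RingHom.algebraMap_toAlgebra]
    show (Algebra.TensorProduct.map (AlgHom.id k F₀) (IsScalarTower.toAlgHom k K L)) (c ⊗ₜ e) * _ = _
    rw [Algebra.TensorProduct.map_tmul, Algebra.TensorProduct.tmul_mul_tmul, mul_one, Algebra.smul_def]
    rfl
  let crd : Fin (finrank K L) → F₀ ⊗[k] L →ₗ[k] F₀ ⊗[k] K := fun i =>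
    LinearMap.lTensor F₀ (((b.coord i).restrictScalars k))
  have hcrd : ∀ (z : F₀ ⊗[k] K) (i j : Fin (finrank K L)), crd i (z • v j) = if i = j then z else 0 := fun z i j => by
    induction z using TensorProduct.induction_on with
    | zero => simp
    | tmul c e =>
      show crd i ((c ⊗ₜ[k] e : F₀ ⊗[k] K) • ((1 : F₀) ⊗ₜ[k] b j)) = _
      rw [hsmul]
      show c ⊗ₜ[k] b.coord i (e • b j) = _
      rw [Basis.coord_apply, map_smul, b.repr_self, Finsupp.smul_apply, Finsupp.single_apply, smul_eq_mul]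
      by_cases h : j = i
      · subst h; simp
      · simp [h, Ne.symm h]
    | add z z' hz hz' =>
      rw [add_smul, map_add, hz, hz']
      by_cases h : i = j <;> simp [h]
  have hli : LinearIndependent (F₀ ⊗[k] K) v := Fintype.linearIndependent_iff.2 fun z hz i => by
    have h1 := congrArg (crd i) hz
    rw [map_sum, map_zero] at h1
    simpa [hcrd] using h1
  have hsp : ⊤ ≤ Submodule.span (F₀ ⊗[k] K) (Set.range v) := fun y _ => by
    induction y using TensorProduct.induction_on with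
    | zero => exact zero_mem _
    | tmul c l =>
      rw [← b.sum_repr l, TensorProduct.tmul_sum]
      refine Submodule.sum_mem _ fun i _ => ?_
      rw [← hsmul]
      exact Submodule.smul_mem _ _ (Submodule.subset_span ⟨i, rfl⟩)
    | add y y' hy hy' => exact add_mem (hy trivial) (hy' trivial)
  exact ⟨Basis.mk hli hsp, fun i => Basis.mk_apply hli hsp i⟩

theorem isCompact_closure_integers (v : HeightOneSpectrum (𝓞 k)) :
    IsCompact (closure (Set.range fun n : 𝓞 k => algebraMap k (v.adicCompletion k) n)) := by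
  refine isCompact_iff_totallyBounded_isComplete.2 ⟨TotallyBounded.closure ?_, isClosed_closure.isComplete⟩
  intro d hd
  rw [uniformity_eq_comap_nhds_zero, Filter.mem_comap] at hd
  obtain ⟨s, hs, hsd⟩ := hd
  obtain ⟨N, hN⟩ := SplitCompletion.exists_ball_subset v hs
  haveI : Finite (𝓞 k ⧸ v.asIdeal ^ N) := Ring.HasFiniteQuotients.finiteQuotient (pow_ne_zero N v.ne_bot)
  refine ⟨Set.range fun q : 𝓞 k ⧸ v.asIdeal ^ N => algebraMap k (v.adicCompletion k) (Quotient.out q : 𝓞 k),
    Set.finite_range _, ?_⟩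
  rintro _ ⟨n, rfl⟩
  refine Set.mem_iUnion₂.2 ⟨_, ⟨Ideal.Quotient.mk _ n, rfl⟩, hsd (hN _ ?_)⟩
  rw [sub_zero]
  show Valued.v (algebraMap k (v.adicCompletion k) _ - algebraMap k (v.adicCompletion k) _) ≤ _
  rw [← map_sub, SplitCompletion.valued_algebraMap,
    show ((Quotient.out (Ideal.Quotient.mk (v.asIdeal ^ N) n) : 𝓞 k) : k) - (n : k) =
      algebraMap (𝓞 k) k (Quotient.out (Ideal.Quotient.mk (v.asIdeal ^ N) n) - n) from (map_sub (algebraMap (𝓞 k) k) _ _).symm,
    HeightOneSpectrum.valuation_of_algebraMap, v.intValuation_le_pow_iff_mem]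
  exact Ideal.Quotient.eq.1 (Ideal.Quotient.mk_out _)

set_option maxHeartbeats 1000000 in
/-- A global integral element with norm congruent to a given unit at all places above `v`. -/
theorem exists_integral_approx (v : HeightOneSpectrum (𝓞 k))
    (hunr : ∀ W : HeightOneSpectrum (𝓞 K), PlaceMaps.below W = v →
      ∀ P : Ideal (𝓞 L), P.IsPrime → P.LiesOver W.asIdeal → ¬ P ∣ differentIdeal (𝓞 K) (𝓞 L))
    (c : K) (hc : ∀ W : HeightOneSpectrum (𝓞 K), PlaceMaps.below W = v → W.valuation K c = 1) (N : ℕ) :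
    ∃ y : 𝓞 L, ∀ W : HeightOneSpectrum (𝓞 K), PlaceMaps.below W = v →
      W.valuation K (Algebra.norm K (y : L) - c) ≤ exp (-(N : ℤ)) := by
  let S := (PlaceMaps.finite_above (K := K) v).toFinset
  have hS : ∀ W, W ∈ S ↔ PlaceMaps.below W = v := fun W => Set.Finite.mem_toFinset _
  have hloc : ∀ W : HeightOneSpectrum (𝓞 K), ∃ y : 𝓞 L, W ∈ S →
      W.valuation K (Algebra.norm K (y : L) - c) ≤ exp (-(N : ℤ)) := fun W => by
    by_cases h : W ∈ S
    · obtain ⟨y, hy⟩ := UnramifiedNorm.exists_norm_congr_integral (L := L) W (hunr W ((hS W).1 h)) c (hc W ((hS W).1 h)) N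
      exact ⟨y, fun _ => hy⟩
    · exact ⟨0, fun h' => absurd h' h⟩
  choose yW hyW using hloc
  have hidem : ∀ W' : HeightOneSpectrum (𝓞 K), ∃ e : 𝓞 K, ∀ W ∈ S, e - (if W = W' then 1 else 0) ∈ W.asIdeal ^ N := fun W' =>
    IsDedekindDomain.exists_forall_sub_mem_ideal (fun W : HeightOneSpectrum (𝓞 K) => W.asIdeal) (fun _ => N)
      (fun W _ => Ideal.prime_of_isPrime W.ne_bot W.isPrime) (fun W _ W'' _ h h' => h (HeightOneSpectrum.ext h'))
      (fun W => if W.1 = W' then 1 else 0) |>.imp fun e he W hW => he W hW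
  choose e he using hidem
  refine ⟨∑ W' ∈ S, algebraMap (𝓞 K) (𝓞 L) (e W') * yW W', fun W hW => ?_⟩
  have hWS := (hS W).2 hW
  have hmem : ∑ W' ∈ S, algebraMap (𝓞 K) (𝓞 L) (e W') * yW W' - yW W ∈ (W.asIdeal ^ N).map (algebraMap (𝓞 K) (𝓞 L)) := by
    rw [show yW W = ∑ W' ∈ S, algebraMap (𝓞 K) (𝓞 L) (if W = W' then 1 else 0) * yW W' by
      simp [apply_ite (algebraMap (𝓞 K) (𝓞 L)), hWS], ← Finset.sum_sub_distrib]
    refine Ideal.sum_mem _ fun W' _ => ?_
    rw [← sub_mul, ← map_sub]
    exact Ideal.mul_mem_right _ _ (Ideal.mem_map_of_mem _ (he W' W hWS))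
  rw [← sub_add_sub_cancel _ (Algebra.norm K (yW W : L)) c]
  exact Valuation.map_add_le _ (UnramifiedNorm.norm_congr W _ _ N hmem) (hyW W hWS)

theorem exists_exp_mul_le {g : ℤᵐ⁰} (hg : g ≠ 0) (h : ℤᵐ⁰) : ∃ N : ℕ, exp (-(N : ℤ)) * h ≤ g := by
  rcases eq_or_ne h 0 with rfl | hh
  · exact ⟨0, by simp⟩
  refine ⟨(log h - log g).toNat, ?_⟩
  rw [← exp_log hg, ← exp_log hh, ← exp_add, exp_le_exp, log_exp, log_exp]
  omega

set_option maxHeartbeats 2000000 in
/-- A unit above `v` is a norm from the unramified algebra `k_v ⊗ L`. -/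
theorem exists_norm_eq (v : HeightOneSpectrum (𝓞 k))
    (hunr : ∀ W : HeightOneSpectrum (𝓞 K), PlaceMaps.below W = v →
      ∀ P : Ideal (𝓞 L), P.IsPrime → P.LiesOver W.asIdeal → ¬ P ∣ differentIdeal (𝓞 K) (𝓞 L))
    (c : K) (hc : ∀ W : HeightOneSpectrum (𝓞 K), PlaceMaps.below W = v → W.valuation K c = 1) :
    letI := (Algebra.TensorProduct.map (AlgHom.id k (v.adicCompletion k))
        (IsScalarTower.toAlgHom k K L)).toRingHom.toAlgebra
    ∃ x : (v.adicCompletion k) ⊗[k] L, IsUnit x ∧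
      Algebra.norm ((v.adicCompletion k) ⊗[k] K) x = (1 : v.adicCompletion k) ⊗ₜ[k] c := by
  letI := (Algebra.TensorProduct.map (AlgHom.id k (v.adicCompletion k))
        (IsScalarTower.toAlgHom k K L)).toRingHom.toAlgebra
  let F := v.adicCompletion k
  let bK : Basis (Fin (finrank k K)) k K := Module.finBasis k K
  let bA : Basis (Fin (finrank k K)) F (F ⊗[k] K) := Algebra.TensorProduct.basis F bK
  let bL : Basis (Fin (finrank K L)) K L := Module.finBasis K L
  obtain ⟨bT, hbT⟩ := exists_tensor_basis (k := k) F bL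
  let ω := RingOfIntegers.basis L
  let incl : K →+* F ⊗[k] K := (Algebra.TensorProduct.includeRight : K →ₐ[k] F ⊗[k] K).toRingHom
  let g : L →+* F ⊗[k] L := (Algebra.TensorProduct.includeRight : L →ₐ[k] F ⊗[k] L).toRingHom
  have hfg : ∀ x, algebraMap (F ⊗[k] K) (F ⊗[k] L) (incl x) = g (algebraMap K L x) := fun x => by
    show (Algebra.TensorProduct.map (AlgHom.id k F) (IsScalarTower.toAlgHom k K L)) ((1 : F) ⊗ₜ x) = _
    rw [Algebra.TensorProduct.map_tmul]
    rfl
  let xf : (Free.ChooseBasisIndex ℤ (𝓞 L) → F) → F ⊗[k] L := fun f =>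
    ∑ j, algebraMap F (F ⊗[k] K) (f j) • g (ω j : L)
  -- the coordinates of the norm are polynomial
  let P : MvPolynomial (Free.ChooseBasisIndex ℤ (𝓞 L)) (F ⊗[k] K) :=
    NormApprox.normForm bL (MvPolynomial.C.comp incl) fun i =>
      ∑ j, MvPolynomial.X j * MvPolynomial.C (incl (bL.repr (ω j : L) i))
  have hP : ∀ f, MvPolynomial.eval (fun j => algebraMap F (F ⊗[k] K) (f j)) P = Algebra.norm (F ⊗[k] K) (xf f) := fun f => by
    rw [NormApprox.map_normForm, ← PlaceMaps.normForm_of_basis bL incl g bT hbT hfg (xf f)]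
    congr 1
    · exact RingHom.ext fun x => MvPolynomial.eval_C _
    funext i
    have hrepr : ∀ y : L, bT.repr (g y) i = incl (bL.repr y i) := fun y => by
      have h1 : g y = ∑ l, incl (bL.repr y l) • bT l := by
        conv_lhs => rw [← bL.sum_repr y, map_sum]
        refine Finset.sum_congr rfl fun l _ => ?_
        rw [Algebra.smul_def, map_mul, Algebra.smul_def, hfg, hbT]
        rfl
      rw [h1, bT.repr_sum_self]
    simp only [xf, map_sum, map_smul, Finsupp.coe_finsetSum, Finset.sum_apply, Finsupp.smul_apply, smul_eq_mul,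
      Function.comp_apply, map_mul, MvPolynomial.eval_X, MvPolynomial.eval_C, hrepr]
  let Φ : (Free.ChooseBasisIndex ℤ (𝓞 L) → F) → Fin (finrank k K) → F := fun f a =>
    bA.repr (Algebra.norm (F ⊗[k] K) (xf f)) a
  have hΦ : Continuous Φ := by
    refine continuous_pi fun a => ?_
    have h : (fun f => Φ f a) = fun f => ∑ d ∈ P.support, (∏ j, f j ^ d j) * bA.repr (P.coeff d) a := by
      funext f
      show bA.repr (Algebra.norm (F ⊗[k] K) (xf f)) a = _
      rw [← hP, MvPolynomial.eval_eq', map_sum, Finsupp.coe_finsetSum, Finset.sum_apply]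
      refine Finset.sum_congr rfl fun d _ => ?_
      simp only [← map_pow, ← map_prod]
      rw [mul_comm, ← Algebra.smul_def, map_smul, Finsupp.smul_apply, smul_eq_mul]
    rw [h]
    fun_prop
  let B : Set (Free.ChooseBasisIndex ℤ (𝓞 L) → F) :=
    Set.univ.pi fun _ => closure (Set.range fun n : 𝓞 k => algebraMap k F n)
  have hB : IsClosed (Φ '' B) := ((isCompact_univ_pi fun _ => isCompact_closure_integers v).image hΦ).isClosed
  have hmem : (fun a => bA.repr ((1 : F) ⊗ₜ[k] c) a) ∈ Φ '' B := by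
    rw [← hB.closure_eq, mem_closure_iff_nhds]
    intro t ht
    rw [nhds_pi, Filter.mem_pi'] at ht
    obtain ⟨I, s, hs, hst⟩ := ht
    choose Ns hNs using fun a => SplitCompletion.exists_ball_subset v (hs a)
    let N' := Finset.univ.sup Ns
    obtain ⟨π, hπ⟩ := v.valuation_exists_uniformizer k
    have hπ0 : π ^ N' ≠ 0 := pow_ne_zero _ fun h => by simp [h] at hπ; exact exp_ne_zero hπ.symm
    let d : Fin (finrank k K) → K := fun a =>
      ((Algebra.traceForm k K).toDual (traceForm_nondegenerate k K)).symm (bK.coord a)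
    have hd : ∀ a x, bK.repr x a = Algebra.trace k K (d a * x) := fun a x => by
      have h1 := LinearMap.BilinForm.apply_toDual_symm_apply (B := Algebra.traceForm k K)
        (hB := traceForm_nondegenerate k K) (bK.coord a) x
      rw [Algebra.traceForm_apply] at h1
      exact h1.symm
    choose M hM using fun (W : HeightOneSpectrum (𝓞 K)) (a : Fin (finrank k K)) =>
      exists_exp_mul_le (g := W.valuation K (algebraMap k K (π ^ N'))) (by simpa using hπ0) (W.valuation K (d a))
    let N := (PlaceMaps.finite_above (K := K) v).toFinset.sup fun W => Finset.univ.sup (M W)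
    obtain ⟨y, hy⟩ := exists_integral_approx v hunr c hc N
    let f : Free.ChooseBasisIndex ℤ (𝓞 L) → F := fun j => algebraMap k F (((ω.repr y j : ℤ) : 𝓞 k) : k)
    have hf : f ∈ B := fun j _ => subset_closure ⟨_, rfl⟩
    have hxf : xf f = g (y : L) := by
      have h2 : (y : L) = ∑ j, ((ω.repr y j : ℤ) : L) * (ω j : L) := by
        conv_lhs => rw [← ω.sum_repr y]
        simp [zsmul_eq_mul]
      rw [h2, map_sum]
      refine Finset.sum_congr rfl fun j _ => ?_
      rw [Algebra.smul_def, map_mul, map_intCast]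
      simp [f]
    refine ⟨Φ f, hst fun a _ => hNs a _ ?_, Set.mem_image_of_mem Φ hf⟩
    show Valued.v (bA.repr (Algebra.norm (F ⊗[k] K) (xf f)) a - bA.repr ((1 : F) ⊗ₜ[k] c) a) ≤ _
    have hn : Algebra.norm (F ⊗[k] K) (g (y : L)) = incl (Algebra.norm K (y : L)) := by
      rw [← PlaceMaps.normForm_of_basis bL incl g bT hbT hfg, ← NormApprox.normForm_repr bL incl (y : L)]
      congr 1
      funext i
      have h1 : g (y : L) = ∑ l, incl (bL.repr (y : L) l) • bT l := by
        conv_lhs => rw [← bL.sum_repr (y : L), map_sum]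
        refine Finset.sum_congr rfl fun l _ => ?_
        rw [Algebra.smul_def, map_mul, Algebra.smul_def, hfg, hbT]
        rfl
      rw [h1, bT.repr_sum_self]
    rw [hxf, hn]
    show Valued.v (bA.repr ((1 : F) ⊗ₜ[k] Algebra.norm K (y : L)) a - bA.repr ((1 : F) ⊗ₜ[k] c) a) ≤ _
    rw [← Finsupp.sub_apply, ← map_sub, ← TensorProduct.tmul_sub, Algebra.TensorProduct.basis_repr_tmul,
      Finsupp.smul_apply, Finsupp.mapRange_apply, one_smul, SplitCompletion.valued_algebraMap, hd]
    refine (PlaceMaps.trace_le v hπ0 fun W hW => ?_).trans ?_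
    · rw [map_mul, mul_comm]
      refine (mul_le_mul' ((hy W hW).trans (exp_le_exp.2 (neg_le_neg ?_))) le_rfl).trans (hM W a)
      exact_mod_cast (Finset.le_sup (f := M W) (Finset.mem_univ a)).trans
        (Finset.le_sup (f := fun W => Finset.univ.sup (M W)) ((Set.Finite.mem_toFinset _).2 hW))
    · rw [map_pow, hπ, ← exp_nsmul, exp_le_exp, smul_neg, nsmul_one, neg_le_neg_iff]
      exact_mod_cast Finset.le_sup (f := Ns) (Finset.mem_univ a)
  obtain ⟨f, -, hf⟩ := hmem
  have hnorm : Algebra.norm (F ⊗[k] K) (xf f) = (1 : F) ⊗ₜ[k] c :=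
    bA.repr.injective (Finsupp.ext fun a => congrFun hf a)
  refine ⟨xf f, ?_, hnorm⟩
  have hc0 : c ≠ 0 := by
    obtain ⟨W, hW⟩ := PlaceMaps.exists_above (K := K) v
    intro h
    simpa [h] using hc W hW
  have hu : IsUnit (Algebra.norm (F ⊗[k] K) (xf f)) := hnorm ▸ (isUnit_iff_ne_zero.2 hc0).map incl
  rw [Algebra.norm_eq_matrix_det bT] at hu
  haveI := Module.Free.of_basis bT
  haveI := Module.Finite.of_basis bT
  obtain ⟨z, hz⟩ : ∃ z, xf f * z = 1 := by
    have hdet : IsUnit (LinearMap.det (Algebra.lmul (F ⊗[k] K) (F ⊗[k] L) (xf f))) := by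
      rw [← Algebra.norm_apply, Algebra.norm_eq_matrix_det bT]; exact hu
    obtain ⟨z, hz⟩ := ((Module.End.isUnit_iff _).1 ((LinearMap.isUnit_iff_isUnit_det _).2 hdet)).2 1
    exact ⟨z, hz⟩
  exact IsUnit.of_mul_eq_one _ hz

end Groth.Agent.CommAlg4.LocalNorm
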