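import Mathlib

/-! Lubin–Tate's lemma: series intertwining `π T + T ^ q` with itself, or with `π T`. -/

set_option autoImplicit false
set_option linter.all false

universe u v w

namespace Groth.Agent.CommAlg4.LT

open MvPowerSeries

variable {σ : Type v} {τ : Type w} {R : Type u} [CommRing R]

theorem exists_single_of_degree_eq_one {d : σ →₀ ℕ} (hd : d.degree = 1) : ∃ i, d = Finsupp.single i 1 := by
  classical
  obtain ⟨i, hi⟩ : ∃ i, d i ≠ 0 := by
    by_contra h
    push Not at h
    have : d = 0 := Finsupp.ext h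
    rw [this, map_zero] at hd
    exact zero_ne_one hd
  refine ⟨i, ?_⟩
  have hle : Finsupp.single i 1 ≤ d := Finsupp.single_le_iff.mpr (Nat.one_le_iff_ne_zero.mpr hi)
  have h2 : Finsupp.single i 1 + (d - Finsupp.single i 1) = d := add_tsub_cancel_of_le hle
  have h3 : (d - Finsupp.single i 1).degree = 0 := by
    have := congrArg Finsupp.degree h2
    rw [map_add, Finsupp.degree_single, hd] at this
    omega
  rw [Finsupp.degree_eq_zero_iff] at h3
  rw [← h2, h3, add_zero]

/-- The inner substitution `X i ↦ π X i + X i ^ q`. -/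
noncomputable def inner (π : R) (q : ℕ) (i : σ) : MvPowerSeries σ R :=
  π • MvPowerSeries.X i + MvPowerSeries.X i ^ q

/-- `π φ + ε φ ^ q - φ (π X + X ^ q)`. -/
noncomputable def defect (π ε : R) (q : ℕ) (φ : MvPowerSeries σ R) : MvPowerSeries σ R :=
  π • φ + ε • φ ^ q - MvPowerSeries.subst (inner π q) φ

/-- `φ` intertwines `π X + X ^ q` with `π X + ε X ^ q`. -/
structure Sol (π ε : R) (q : ℕ) (φ : MvPowerSeries σ R) : Prop where
  constant : φ.constantCoeff = 0
  eq : π • φ + ε • φ ^ q = MvPowerSeries.subst (inner π q) φ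

variable {π ε : R} {q : ℕ}

theorem constantCoeff_inner (hq : q ≠ 0) (i : σ) : (inner π q i).constantCoeff = 0 := by
  simp [inner, hq]

theorem hasSubst_inner [Finite σ] (hq : q ≠ 0) : HasSubst (inner (σ := σ) π q) :=
  hasSubst_of_constantCoeff_zero (constantCoeff_inner hq)

theorem order_geom {q : ℕ} (hq : 2 ≤ q) {a b : MvPowerSeries σ R} (ha : a.constantCoeff = 0)
    (hb : b.constantCoeff = 0) :
    1 ≤ (∑ i ∈ Finset.range q, a ^ i * b ^ (q - 1 - i)).order := by
  rw [one_le_order_iff_constCoeff_eq_zero, map_sum]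
  refine Finset.sum_eq_zero fun i _ => ?_
  rw [map_mul, map_pow, map_pow, ha, hb]
  rcases Nat.eq_zero_or_pos i with rfl | hi
  · rw [zero_pow (show q - 1 - 0 ≠ 0 by omega), mul_zero]
  · rw [zero_pow hi.ne', zero_mul]

theorem coeff_pow_congr (hq : 2 ≤ q) {φ ψ : MvPowerSeries σ R} (hφ : φ.constantCoeff = 0)
    (hψ : ψ.constantCoeff = 0) {m : ℕ} (h : ∀ e : σ →₀ ℕ, e.degree < m → coeff e φ = coeff e ψ)
    {d : σ →₀ ℕ} (hd : d.degree = m) : coeff d (φ ^ q) = coeff d (ψ ^ q) := by
  rw [← sub_eq_zero, ← map_sub, ← geom_sum₂_mul φ ψ q]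
  refine coeff_of_lt_order (lt_of_lt_of_le ?_ le_order_mul)
  have h1 : (m : ℕ∞) ≤ (φ - ψ).order := le_order fun e he => by
    rw [map_sub, h e (by exact_mod_cast he), sub_self]
  refine lt_of_lt_of_le ?_ (add_le_add (order_geom hq hφ hψ) h1)
  rw [hd]
  exact_mod_cast Nat.lt_add_of_pos_left Nat.one_pos

theorem coeff_subst_inner [Finite σ] (hq : 2 ≤ q) {δ : MvPowerSeries σ R} {m : ℕ}
    (h : ∀ e : σ →₀ ℕ, e.degree < m → coeff e δ = 0) {d : σ →₀ ℕ} (hd : d.degree = m) :
    coeff d (MvPowerSeries.subst (inner π q) δ) = π ^ m * coeff d δ := by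
  classical
  have hprod : ∀ e : σ →₀ ℕ, (e.prod fun s t => inner π q s ^ t) =
      monomial e 1 * e.prod fun s t => (C π + MvPowerSeries.X s ^ (q - 1)) ^ t := by
    intro e
    rw [monomial_one_eq, ← Finsupp.prod_mul]
    refine Finsupp.prod_congr fun s _ => ?_
    rw [← mul_pow, inner, mul_add, ← pow_succ', Nat.sub_add_cancel (by omega : 1 ≤ q), smul_eq_C_mul,
      mul_comm (MvPowerSeries.X s) (C π)]
  rw [MvPowerSeries.coeff_subst (hasSubst_inner (by omega)), finsum_eq_single _ d ?_]
  · rw [hprod, coeff_monomial_mul, if_pos le_rfl, one_mul, tsub_self, coeff_zero_eq_constantCoeff_apply,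
      smul_eq_mul, mul_comm, map_finsuppProd]
    congr 1
    simp only [map_pow, map_add, constantCoeff_C, constantCoeff_X, zero_pow (show q - 1 ≠ 0 by omega), add_zero]
    rw [← hd, Finsupp.prod, Finset.prod_pow_eq_pow_sum]
    rfl
  · intro e he
    by_cases hle : e ≤ d
    · have : e.degree < m := by
        rw [← hd]
        have h2 : e + (d - e) = d := add_tsub_cancel_of_le hle
        rw [← h2, map_add]
        refine Nat.lt_add_of_pos_right (Nat.pos_of_ne_zero fun h0 => he ?_)
        rw [Finsupp.degree_eq_zero_iff] at h0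
        rw [← h2, h0, add_zero]
      rw [h e this, zero_smul]
    · rw [hprod, coeff_monomial_mul, if_neg hle, smul_zero]

theorem coeff_defect_congr [Finite σ] (hq : 2 ≤ q) {φ ψ : MvPowerSeries σ R} (hφ : φ.constantCoeff = 0)
    (hψ : ψ.constantCoeff = 0) {m : ℕ} (h : ∀ e : σ →₀ ℕ, e.degree < m → coeff e φ = coeff e ψ)
    {d : σ →₀ ℕ} (hd : d.degree = m) :
    coeff d (defect π ε q φ) = coeff d (defect π ε q ψ) + (π - π ^ m) * (coeff d φ - coeff d ψ) := by
  have h1 := coeff_subst_inner (π := π) hq (δ := φ - ψ) (fun e he => by rw [map_sub, h e he, sub_self]) hd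
  have h2 : MvPowerSeries.subst (inner π q) (φ - ψ) =
      MvPowerSeries.subst (inner π q) φ - MvPowerSeries.subst (inner π q) ψ := by
    rw [← MvPowerSeries.coe_substAlgHom (hasSubst_inner (by omega)), map_sub]
  rw [h2, map_sub, map_sub] at h1
  simp only [defect, map_sub, map_add, map_smul, smul_eq_mul, coeff_pow_congr hq hφ hψ h hd]
  linear_combination -h1

theorem ext_of_defect [Finite σ] [IsDomain R] (hq : 2 ≤ q) (hπ : ∀ m, 2 ≤ m → π - π ^ m ≠ 0)
    {φ ψ : MvPowerSeries σ R} (hφ : Sol π ε q φ) (hψ : Sol π ε q ψ)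
    (hlin : ∀ i : σ, coeff (Finsupp.single i 1) φ = coeff (Finsupp.single i 1) ψ) : φ = ψ := by
  classical
  suffices ∀ m, ∀ d : σ →₀ ℕ, d.degree = m → coeff d φ = coeff d ψ from
    MvPowerSeries.ext fun d => this _ d rfl
  intro m
  induction m using Nat.strong_induction_on with
  | _ m ih =>
    intro d hd
    rcases (show m = 0 ∨ m = 1 ∨ 2 ≤ m by omega) with rfl | rfl | hm
    · rw [Finsupp.degree_eq_zero_iff] at hd
      rw [hd, coeff_zero_eq_constantCoeff_apply, coeff_zero_eq_constantCoeff_apply, hφ.constant, hψ.constant]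
    · obtain ⟨i, rfl⟩ : ∃ i, d = Finsupp.single i 1 := exists_single_of_degree_eq_one hd
      exact hlin i
    · have h := coeff_defect_congr (π := π) (ε := ε) hq hφ.constant hψ.constant (fun e he => ih _ he e rfl) hd
      rw [defect, defect, hφ.eq, hψ.eq, sub_self, sub_self, map_zero, zero_add] at h
      exact sub_eq_zero.mp ((mul_eq_zero.mp h.symm).resolve_left (hπ m hm))

/-- Successive approximations. -/
noncomputable def approx (π ε : R) (q : ℕ) (L : σ → R) (g : R → ℕ → R) : ℕ → MvPowerSeries σ R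
  | 0 => 0
  | 1 => fun d => if d.degree = 1 then d.sum (fun i t => (t : R) * L i) else 0
  | m + 2 => fun d => if d.degree = m + 2 then -g (coeff d (defect π ε q (approx π ε q L g (m + 1)))) (m + 2)
      else coeff d (approx π ε q L g (m + 1))

theorem approx_coeff_of_lt (L : σ → R) (g : R → ℕ → R) :
    ∀ (m : ℕ) (d : σ →₀ ℕ), m < d.degree → coeff d (approx π ε q L g m) = 0
  | 0, d, _ => rfl
  | 1, d, h => by
    show (if d.degree = 1 then _ else (0 : R)) = 0
    rw [if_neg (by omega)]
  | m + 2, d, h => by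
    show (if d.degree = m + 2 then _ else _) = (0 : R)
    rw [if_neg (by omega)]
    exact approx_coeff_of_lt L g (m + 1) d (by omega)

theorem approx_stable (L : σ → R) (g : R → ℕ → R) {d : σ →₀ ℕ} :
    ∀ m, d.degree ≤ m → coeff d (approx π ε q L g m) = coeff d (approx π ε q L g d.degree) := by
  intro m hm
  induction m, hm using Nat.le_induction with
  | base => rfl
  | succ m hm ih =>
    rw [← ih]
    rcases m with _ | m
    · show (if d.degree = 1 then _ else (0 : R)) = _
      rw [if_neg (by omega)]; rfl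
    · show (if d.degree = m + 2 then _ else _) = _
      rw [if_neg (by omega)]

/-- Existence, given that the obstructions are divisible. -/
theorem exists_sol [Finite σ] (hq : 2 ≤ q)
    (hdiv : ∀ ψ : MvPowerSeries σ R, ψ.constantCoeff = 0 → ∀ d : σ →₀ ℕ, 2 ≤ d.degree →
      π - π ^ d.degree ∣ coeff d (defect π ε q ψ)) (L : σ → R) :
    ∃ φ : MvPowerSeries σ R, Sol π ε q φ ∧ ∀ i, coeff (Finsupp.single i 1) φ = L i := by
  classical
  let g : R → ℕ → R := fun a m => if h : π - π ^ m ∣ a then h.choose else 0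
  let ψ := approx π ε q L g
  let φ : MvPowerSeries σ R := fun d => coeff d (ψ d.degree)
  have hφc : ∀ d, coeff d φ = coeff d (ψ d.degree) := fun d => rfl
  have h0 : ∀ m, (ψ m).constantCoeff = 0 := by
    intro m
    rw [← coeff_zero_eq_constantCoeff_apply, approx_stable L g m (by simp)]
    simp [ψ, approx]
  have hφ0 : φ.constantCoeff = 0 := by
    rw [← coeff_zero_eq_constantCoeff_apply, hφc, coeff_zero_eq_constantCoeff_apply]; exact h0 _
  refine ⟨φ, ⟨hφ0, sub_eq_zero.mp ?_⟩, fun i => ?_⟩
  · show defect π ε q φ = 0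
    refine MvPowerSeries.ext fun d => ?_
    rw [map_zero]
    rcases (show d.degree = 0 ∨ d.degree = 1 ∨ 2 ≤ d.degree by omega) with h | h | h
    · have := coeff_defect_congr (π := π) (ε := ε) hq hφ0 (map_zero constantCoeff) (m := 0) (by omega) h
      rw [this, pow_zero]
      have hd : d = 0 := (Finsupp.degree_eq_zero_iff d).mp h
      subst hd
      simp [coeff_zero_eq_constantCoeff_apply, hφ0, defect, zero_pow (show q ≠ 0 by omega),
        show MvPowerSeries.subst (inner π q) (0 : MvPowerSeries σ R) = 0 by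
          rw [← MvPowerSeries.coe_substAlgHom (hasSubst_inner (σ := σ) (π := π) (show q ≠ 0 by omega)), map_zero]]
    · have := coeff_defect_congr (π := π) (ε := ε) hq hφ0 (map_zero constantCoeff) (m := 1)
        (fun e he => by
          rw [(Finsupp.degree_eq_zero_iff e).mp (by omega), coeff_zero_eq_constantCoeff_apply,
            coeff_zero_eq_constantCoeff_apply, hφ0, map_zero]) h
      rw [this, pow_one, sub_self, zero_mul, add_zero]
      simp [defect, zero_pow (show q ≠ 0 by omega),
        show MvPowerSeries.subst (inner π q) (0 : MvPowerSeries σ R) = 0 by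
          rw [← MvPowerSeries.coe_substAlgHom (hasSubst_inner (σ := σ) (π := π) (show q ≠ 0 by omega)), map_zero]]
    · obtain ⟨m, hm⟩ : ∃ m, d.degree = m + 2 := ⟨d.degree - 2, by omega⟩
      have hag : ∀ e : σ →₀ ℕ, e.degree < m + 2 → coeff e φ = coeff e (ψ (m + 1)) := fun e he => by
        rw [hφc]; exact (approx_stable L g (m + 1) (by omega)).symm
      rw [coeff_defect_congr hq hφ0 (h0 _) hag hm, approx_coeff_of_lt L g (m + 1) d (by omega), sub_zero, hφc, hm]
      have hdvd := hdiv (ψ (m + 1)) (h0 _) d h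
      rw [hm] at hdvd
      show _ + _ * (if d.degree = m + 2 then -g (coeff d (defect π ε q (ψ (m + 1)))) (m + 2) else _) = 0
      rw [if_pos hm]
      simp only [g, dif_pos hdvd]
      rw [mul_neg, ← hdvd.choose_spec, add_neg_cancel]
  · rw [hφc, Finsupp.degree_single]
    show (if (Finsupp.single i 1).degree = 1 then _ else (0 : R)) = L i
    rw [if_pos (Finsupp.degree_single i 1), Finsupp.sum_single_index (by simp)]
    simp

theorem hasSubst_sol [Finite σ] {b : σ → MvPowerSeries τ R} (hb : ∀ s, (b s).constantCoeff = 0) : HasSubst b :=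
  hasSubst_of_constantCoeff_zero hb

/-- Composition of solutions. -/
theorem Sol.comp [Finite σ] [Finite τ] (hq : q ≠ 0) {φ : MvPowerSeries σ R} (hφ : Sol π ε q φ)
    {b : σ → MvPowerSeries τ R} (hb : ∀ s, Sol π 1 q (b s)) :
    Sol π ε q (MvPowerSeries.subst b φ) := by
  have hsb : HasSubst b := hasSubst_of_constantCoeff_zero fun s => (hb s).constant
  refine ⟨constantCoeff_subst_eq_zero hsb (fun s => (hb s).constant) hφ.constant, ?_⟩
  have h1 : MvPowerSeries.subst b (π • φ + ε • φ ^ q) =
      π • MvPowerSeries.subst b φ + ε • (MvPowerSeries.subst b φ) ^ q := by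
    simp only [← MvPowerSeries.substAlgHom_apply hsb, map_add, map_smul, map_pow]
  have h2 : ∀ s, MvPowerSeries.subst b (inner π q s) = MvPowerSeries.subst (inner π q) (b s) := by
    intro s
    rw [← (hb s).eq, one_smul, inner]
    simp only [← MvPowerSeries.substAlgHom_apply hsb, map_add, map_smul, map_pow, MvPowerSeries.substAlgHom_X]
  rw [← h1, hφ.eq, subst_comp_subst_apply (hasSubst_inner hq) hsb, subst_comp_subst_apply hsb (hasSubst_inner hq)]
  simp only [h2]

theorem sol_X [Finite σ] (hq : q ≠ 0) (i : σ) : Sol π 1 q (MvPowerSeries.X i : MvPowerSeries σ R) := by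
  refine ⟨constantCoeff_X i, ?_⟩
  rw [one_smul, MvPowerSeries.subst_X (hasSubst_inner hq)]
  rfl

theorem Sol.add [Finite σ] (hq : q ≠ 0) {φ ψ : MvPowerSeries σ R} (hφ : Sol π 0 q φ) (hψ : Sol π 0 q ψ) :
    Sol π 0 q (φ + ψ) := by
  refine ⟨by rw [map_add, hφ.constant, hψ.constant, add_zero], ?_⟩
  have h1 := hφ.eq
  have h2 := hψ.eq
  simp only [zero_smul, add_zero] at h1 h2 ⊢
  rw [smul_add, h1, h2]
  simp only [← MvPowerSeries.substAlgHom_apply (hasSubst_inner (σ := σ) (π := π) hq), map_add]

theorem Sol.smul [Finite σ] (hq : q ≠ 0) (c : R) {φ : MvPowerSeries σ R} (hφ : Sol π 0 q φ) :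
    Sol π 0 q (c • φ) := by
  refine ⟨by simp [hφ.constant], ?_⟩
  have h1 := hφ.eq
  simp only [zero_smul, add_zero] at h1 ⊢
  rw [smul_comm, h1]
  simp only [← MvPowerSeries.substAlgHom_apply (hasSubst_inner (σ := σ) (π := π) hq), map_smul]

theorem Sol.map [Finite σ] {S : Type*} [CommRing S] (hq : q ≠ 0) (h : R →+* S) {φ : MvPowerSeries σ R}
    (hφ : Sol π ε q φ) : Sol (h π) (h ε) q (MvPowerSeries.map h φ) := by
  refine ⟨by rw [← coeff_zero_eq_constantCoeff_apply, coeff_map, coeff_zero_eq_constantCoeff_apply, hφ.constant, map_zero], ?_⟩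
  have := congrArg (MvPowerSeries.map h) hφ.eq
  rw [MvPowerSeries.map_subst (hasSubst_inner hq)] at this
  have hs : ∀ (a : R) (x : MvPowerSeries σ R), MvPowerSeries.map h (a • x) = h a • MvPowerSeries.map h x :=
    fun a x => MvPowerSeries.ext fun d => by
      rw [coeff_map, coeff_smul, coeff_smul, coeff_map, map_mul]
  have hi : (fun i : σ => MvPowerSeries.map h (inner π q i)) = inner (h π) q := by
    funext i
    rw [inner, inner, map_add, hs, map_pow, map_X]
  rw [hi, map_add, hs, hs, map_pow] at this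
  exact this

/-- Linear coefficients of a composite. -/
theorem coeff_single_subst [Fintype σ] {b : σ → MvPowerSeries τ R} (hb : ∀ s, (b s).constantCoeff = 0)
    {φ : MvPowerSeries σ R} (hφ : φ.constantCoeff = 0) (j : τ) :
    coeff (Finsupp.single j 1) (MvPowerSeries.subst b φ) =
      ∑ s, coeff (Finsupp.single s 1) φ * coeff (Finsupp.single j 1) (b s) := by
  classical
  rw [MvPowerSeries.coeff_subst (hasSubst_of_constantCoeff_zero hb),
    finsum_eq_sum_of_support_subset _ (s := Finset.univ.image fun s => Finsupp.single s 1) ?_,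
    Finset.sum_image (fun a _ c _ hac => Finsupp.single_left_injective one_ne_zero hac)]
  · simp [Finsupp.prod_single_index, smul_eq_mul]
  · intro e he
    simp only [Function.mem_support, ne_eq] at he
    rcases (show e.degree = 0 ∨ e.degree = 1 ∨ 2 ≤ e.degree by omega) with h | h | h
    · exfalso; apply he
      rw [(Finsupp.degree_eq_zero_iff e).mp h, coeff_zero_eq_constantCoeff_apply, hφ, zero_smul]
    · obtain ⟨s, rfl⟩ : ∃ s, e = Finsupp.single s 1 := exists_single_of_degree_eq_one h
      simp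
    · exfalso; apply he
      rw [coeff_of_lt_order (f := e.prod fun s t => b s ^ t), smul_zero]
      refine lt_of_lt_of_le ?_ (le_order_prod _ _)
      rw [Finsupp.degree_single]
      refine lt_of_lt_of_le ?_ (Finset.sum_le_sum fun s _ => le_order_pow_of_constantCoeff_eq_zero (e s) (hb s))
      rw [← Nat.cast_sum]
      have : e.degree = ∑ s ∈ e.support, e s := rfl
      exact_mod_cast (show 1 < ∑ s ∈ e.support, e s by omega)

section DVR

variable {O : Type u} [CommRing O] [IsDomain O] [IsDiscreteValuationRing O]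

theorem pow_ne_self {π : O} (hπ : Irreducible π) {m : ℕ} (hm : 2 ≤ m) : π - π ^ m ≠ 0 := by
  intro h
  have h1 : π ^ m = π ^ 1 := by rw [pow_one]; exact (sub_eq_zero.mp h).symm
  exact absurd ((pow_inj_of_not_isUnit hπ.not_isUnit hπ.ne_zero).mp h1) (by omega)

theorem dvd_defect [Finite (IsLocalRing.ResidueField O)] [Finite σ] {π : O} (hπ : Irreducible π)
    (ψ : MvPowerSeries σ O) (hψ : ψ.constantCoeff = 0) (d : σ →₀ ℕ) (hd : 2 ≤ d.degree) :
    π - π ^ d.degree ∣ coeff d (defect π 1 (Nat.card (IsLocalRing.ResidueField O)) ψ) := by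
  classical
  let k := IsLocalRing.ResidueField O
  haveI : Fintype k := Fintype.ofFinite k
  obtain ⟨p, hp⟩ := CharP.exists k
  haveI := hp
  obtain ⟨n, hpn, hcard⟩ := FiniteField.card k p
  haveI : Fact p.Prime := ⟨hpn⟩
  haveI : ExpChar k p := ExpChar.prime hpn
  set q := Nat.card (IsLocalRing.ResidueField O) with hqdef
  have hq : q = p ^ (n : ℕ) := by rw [hqdef, Nat.card_eq_fintype_card]; exact hcard
  have hq0 : q ≠ 0 := by rw [hq]; exact pow_ne_zero _ hpn.ne_zero
  let r := IsLocalRing.residue O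
  have hr : r π = 0 :=
    (IsLocalRing.residue_eq_zero_iff π).mpr (hπ.maximalIdeal_eq ▸ Ideal.mem_span_singleton_self π)
  have hzero : MvPowerSeries.map r (defect π 1 q ψ) = 0 := by
    rw [defect, map_sub, map_add, MvPowerSeries.map_subst (hasSubst_inner hq0)]
    simp only [inner, map_add, smul_eq_C_mul, map_mul, map_pow, map_C, map_X, hr, map_zero, zero_mul, zero_add,
      map_one, one_mul]
    have hF : iterateFrobenius k p (n : ℕ) = RingHom.id k := by
      ext x
      rw [iterateFrobenius_def, ← hcard, FiniteField.pow_card, RingHom.id_apply]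
    have h := MvPowerSeries.map_iterateFrobenius_expand p hpn.ne_zero (MvPowerSeries.map r ψ) (n : ℕ)
    rw [hF, MvPowerSeries.map_id, RingHom.id_apply, expand] at h
    rw [hq, ← h, MvPowerSeries.substAlgHom_apply, sub_self]
  have h1 : π ∣ coeff d (defect π 1 q ψ) := by
    rw [← Ideal.mem_span_singleton, ← hπ.maximalIdeal_eq, ← IsLocalRing.residue_eq_zero_iff]
    have := congrArg (coeff d) hzero
    rwa [coeff_map, map_zero] at this
  have hu : IsUnit (1 - π ^ (d.degree - 1)) := by
    refine IsLocalRing.isUnit_one_sub_self_of_mem_nonunits _ ?_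
    rw [mem_nonunits_iff, isUnit_pow_iff (by omega)]
    exact hπ.not_isUnit
  have : π - π ^ d.degree = π * (1 - π ^ (d.degree - 1)) := by
    rw [mul_sub, mul_one, ← pow_succ', Nat.sub_add_cancel (by omega : 1 ≤ d.degree)]
  rw [this]
  exact (hu.mul_right_dvd).mpr h1

theorem two_le_card [Finite (IsLocalRing.ResidueField O)] : 2 ≤ Nat.card (IsLocalRing.ResidueField O) :=
  Finite.one_lt_card

variable {f : PowerSeries O} {π : O}

theorem subst_f (hf : f = π • PowerSeries.X + PowerSeries.X ^ q) {φ : MvPowerSeries σ O} (hφ : φ.constantCoeff = 0) :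
    PowerSeries.subst φ f = π • φ + (1 : O) • φ ^ q := by
  have h := PowerSeries.HasSubst.of_constantCoeff_zero hφ
  rw [hf, PowerSeries.subst_add h, PowerSeries.subst_smul h, PowerSeries.subst_pow h, PowerSeries.subst_X h, one_smul]

theorem inner_eq (hf : f = π • PowerSeries.X + PowerSeries.X ^ q) (i : σ) :
    PowerSeries.subst (MvPowerSeries.X i : MvPowerSeries σ O) f = inner π q i := by
  rw [subst_f hf (constantCoeff_X i), one_smul, inner]

theorem sol_iff [Finite σ] (hf : f = π • PowerSeries.X + PowerSeries.X ^ q) {φ : MvPowerSeries σ O} :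
    Sol π 1 q φ ↔ φ.constantCoeff = 0 ∧ PowerSeries.subst φ f =
      MvPowerSeries.subst (fun i : σ => PowerSeries.subst (MvPowerSeries.X i : MvPowerSeries σ O) f) φ := by
  simp only [inner_eq hf]
  exact ⟨fun h => ⟨h.constant, (subst_f hf h.constant).trans h.eq⟩,
    fun h => ⟨h.1, (subst_f hf h.1).symm.trans h.2⟩⟩

theorem inner_unit {A : Type u} [CommRing A] (a : A) :
    inner a q = fun _ : Unit => (a • PowerSeries.X + PowerSeries.X ^ q : PowerSeries A) := by
  funext i; rfl

theorem sol_iff_unit (hf : f = π • PowerSeries.X + PowerSeries.X ^ q) {g : PowerSeries O} :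
    Sol π 1 q g ↔ g.constantCoeff = 0 ∧ PowerSeries.subst g f = PowerSeries.subst f g := by
  have h : PowerSeries.subst f g = MvPowerSeries.subst (inner π q) g := by
    rw [inner_unit, ← hf]; rfl
  rw [h]
  exact ⟨fun hh => ⟨hh.constant, (subst_f hf hh.constant).trans hh.eq⟩,
    fun hh => ⟨hh.1, (subst_f hf hh.1).symm.trans hh.2⟩⟩

theorem sol_zero_iff_unit {A : Type u} [CommRing A] {a : A} {g : PowerSeries A} :
    Sol a 0 q g ↔ g.constantCoeff = 0 ∧
      PowerSeries.subst (a • PowerSeries.X + PowerSeries.X ^ q : PowerSeries A) g = a • g := by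
  have h : PowerSeries.subst (a • PowerSeries.X + PowerSeries.X ^ q : PowerSeries A) g =
      MvPowerSeries.subst (inner a q) g := by
    rw [inner_unit]; rfl
  rw [h]
  refine ⟨fun hh => ⟨hh.constant, ?_⟩, fun hh => ⟨hh.1, ?_⟩⟩
  · have := hh.eq
    rw [zero_smul, add_zero] at this
    exact this.symm
  · rw [zero_smul, add_zero]
    exact hh.2.symm

end DVR

end Groth.Agent.CommAlg4.LT
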