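import Mathlib

/-!
# Clearing denominators for kernels and images of matrices
-/

set_option autoImplicit false

universe u

namespace Groth.Agent.CommAlg4

open Matrix

variable {R : Type u} [CommRing R] (S : Submonoid R) (L : Type u) [CommRing L] [Algebra R L] [IsLocalization S L]

theorem exists_smul_eq_of_map_eq {m : ℕ} (a b : Fin m → R)
    (h : ∀ i, algebraMap R L (a i) = algebraMap R L (b i)) : ∃ t ∈ S, t • a = t • b := by
  classical
  choose t ht using fun i => (IsLocalization.eq_iff_exists S L).1 (h i)
  refine ⟨∏ i, (t i : R), S.prod_mem fun i _ => (t i).2, funext fun i => ?_⟩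
  simp only [Pi.smul_apply, smul_eq_mul]
  rw [← Finset.mul_prod_erase _ _ (Finset.mem_univ i), mul_comm (t i : R), mul_assoc, mul_assoc, ht i]

theorem exists_smul_mem_range_of_map_mem_range {m n : ℕ} (B : Matrix (Fin m) (Fin n) R) (z : Fin m → R)
    (h : (fun i => algebraMap R L (z i)) ∈ LinearMap.range (B.map (algebraMap R L)).mulVecLin) :
    ∃ t ∈ S, t • z ∈ LinearMap.range B.mulVecLin := by
  classical
  obtain ⟨w, hw⟩ := h
  obtain ⟨s, hs⟩ := IsLocalization.exist_integer_multiples_of_finite S w
  choose w' hw' using hs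
  obtain ⟨t, ht, hte⟩ := exists_smul_eq_of_map_eq S L ((s : R) • z) (B *ᵥ w') fun i => by
    have hi := congrFun hw i
    simp only [Matrix.mulVecLin_apply, Matrix.mulVec, dotProduct, Matrix.map_apply] at hi
    simp only [Pi.smul_apply, smul_eq_mul, map_mul, Matrix.mulVec, dotProduct, map_sum, hw',
      Algebra.smul_def]
    rw [← hi, Finset.mul_sum]
    exact Finset.sum_congr rfl fun j _ => by ring
  exact ⟨t * s, S.mul_mem ht s.2, ⟨t • w', by rw [map_smul, Matrix.mulVecLin_apply, ← hte, smul_smul]⟩⟩

end Groth.Agent.CommAlg4
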