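import Groth.Agent.S17290
import Groth.Agent.S12672
import Groth.Agent.CycLib28.PB.Ops.Segre
import Groth.Agent.CycLib28.Intersect.Iterate
import Groth.Agent.CycLib28.FieldExt.Basic
import Groth.Agent.CycLib28.Graph
import Groth.Agent.CycLib28.ClosedZero
import Groth.Agent.CycLib28.P1Inter
import Groth.Agent.VarietyLib.Kleiman
import Groth.Agent.VarietyLib.NefDescent

set_option autoImplicit false
set_option linter.style.haveILetI false
set_option backward.isDefEq.respectTransparency.types false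
universe u
open CategoryTheory CategoryTheory.Limits AlgebraicGeometry TopologicalSpace

namespace Groth.Agent.CommAlg4.NefBundle

open Groth.Agent Groth.Agent.CycLib28 Groth.Agent.CycLib28.PB.Ops Groth.Agent.CycLib28.K0

/-- A module on a curve all of whose pullbacks to curves have quotient lines of nonnegative degree has
nonnegative degree. -/
theorem deg_nonneg_of_curveNef (k : Type u) [Field k] {C : Scheme.{u}} [C.Over (Spec (CommRingCat.of k))]
    [IsProper (C ↘ Spec (CommRingCat.of k))] (hdim : topologicalKrullDim C = 1) {r : ℕ} {G : C.Modules}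
    (hG : FlatMod.IsFinLocFreeOfRank r G)
    (hnef : ∀ (D : Scheme.{u}) [D.Over (Spec (CommRingCat.of k))] [IsProper (D ↘ (Spec (CommRingCat.of k)))] [IsIntegral D],
      topologicalKrullDim D = 1 → (∀ x : D, IsRegularLocalRing (D.presheaf.stalk x)) →
      ∀ (f : D ⟶ C), f ≫ (C ↘ (Spec (CommRingCat.of k))) = D ↘ (Spec (CommRingCat.of k)) →
      ∀ (M : D.Modules), PicF.IsInvertible M →
      ∀ (q : (Scheme.Modules.pullback f).obj G ⟶ M), Epi q → 0 ≤ Curv2.deg k D M 1) :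
    0 ≤ Curv2.deg k C G r := by
  classical
  cases r with
  | zero =>
    rw [Curv2.deg, EulerLib.euler_of_isZero k C (KModel28.isZero_of_rank_zero hG)]
    simp
  | succ m =>
  haveI := EulerLib.isNoetherian_of_proper k (X := C)
  let δ : C → ℤ := FieldExt.dfun (C ↘ Spec (CommRingCat.of k))
  have hX : Cyc.IsSetup C δ := FieldExt.isSetup_dfun _
  have hK : Cyc.DeltaCompat (C ↘ Spec (CommRingCat.of k)) δ (fun _ => 0) := deltaCompat_ptDim_base _
  obtain ⟨P, p, O1, q, δP, hP, hp, hPs, hδ⟩ := PB.exists_projBundle_setup hX hG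
  haveI := hp
  letI : P.Over (Spec (CommRingCat.of k)) := ⟨p ≫ (C ↘ Spec (CommRingCat.of k))⟩
  haveI : IsProper (P ↘ Spec (CommRingCat.of k)) :=
    inferInstanceAs (IsProper (p ≫ (C ↘ Spec (CommRingCat.of k))))
  haveI := EulerLib.isNoetherian_of_proper k (X := P)
  have hP0 : Cyc.DeltaCompat (P ↘ Spec (CommRingCat.of k)) δP (fun _ => 0) :=
    P1Inter.deltaCompat_comp p (C ↘ Spec (CommRingCat.of k)) hδ hK
  obtain ⟨α, hα, hα1⟩ := exists_fundamental_cycle hX.2.2 1 fun y =>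
    Intersect.delta_le_dim _ hX hK isClosed_univ (d := 1)
      (by rw [(Homeomorph.Set.univ C).isHomeomorph.topologicalKrullDim_eq, hdim, Nat.cast_one]) (Set.mem_univ y)
  obtain ⟨γ, hγ⟩ := PB.exists_chernCap hX hG hP hPs hδ α hα1
  have h1 := S12672.result k C hdim.le δ hX hK (m + 1) G hG P p O1 q hP δP hPs hδ α hα γ hγ
  rw [dif_pos (Nat.le_add_left 1 m)] at h1
  rw [h1]
  haveI := PB.isQCoh_of_rank hG
  haveI : Flat p := PB.flat_of_isProjBundle hG hP
  have hinv := KRRPBLib.isInvertible_of_rankOne hP.invertible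
  obtain ⟨a, ha, hak⟩ := PB.exists_pullback hG hP hPs.2.2 hδ 1 α hα1
  obtain ⟨c, hc, hck⟩ := PB.exists_pow_cycles hPs.2.2 hinv a hak (PB.flagSecs hG hP) (PB.flagSecs_ne_zero hG hP)
    (fun j => Cyc.c1PowFun δP O1 (PB.flagSecs hG hP) j ⇑a) rfl (fun _ => rfl) (m + 1)
  have hck0 : c ∈ Cyc.Zk P δP 0 := by
    convert hck using 2
    push_cast
    ring
  -- `π_*(ξ^{m+1} ∩ π^* [C]) = c₁(G) ∩ [C]`
  have hrec := reciprocity hX hG hP hPs hδ 0 (cls δ 1 α)
  rw [Finset.sum_range_succ, Finset.sum_range_one, dif_pos (by omega), dif_pos (by omega)] at hrec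
  simp only [Nat.add_zero, pow_zero, one_smul, pow_one, neg_smul, push_pow_pull hX hG hP hPs hδ] at hrec
  rw [show ((⟨0 + 1 - 1, _⟩ : Fin (m + 2))) = 0 from Fin.ext (by simp), chern_zero hX hG,
    chern_cls hX hG hP hPs hδ hα1 hγ, AddMonoid.End.one_apply,
    pull_cls p hPs.2.2 hX.2.2 (PB.delta_genInFibre hG hP hPs.2.2 hδ) hα1 ha,
    c1_pow_cls hPs.2.2 hinv hak (PB.flagSecs_ne_zero hG hP) (m + 1) c hc,
    show (1 : ℤ) + m - ((m + 1 : ℕ) : ℤ) = 0 by push_cast; ring,
    push_cls p hPs.2.2 hX.2.2 hδ hck0] at hrec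
  have hcls : cls δ 0 (AlgebraicCycle.map p δP δ c) = cls δ 0 (γ 1) := by
    rw [add_neg_eq_zero] at hrec
    refine hrec.symm.trans ?_
    rfl
  have hγ0 : γ 1 ∈ Cyc.Zk C δ 0 := by
    have := hγ.2.1 1
    simpa using this
  have hrat := (cls_eq_iff hX.2.2 (PB.map_mem_Zk p δP δ hck0) hγ0).1 hcls
  have hS : Cyc.IsDimFun (Spec (CommRingCat.of k)) (fun _ => (0 : ℤ)) := (isSetup_specField k).2.2
  have hmap := map_ratEquivZero hX.2.2 hS (C ↘ Spec (CommRingCat.of k)) hK 0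
    (AlgebraicCycle.map p δP δ c - γ 1) hrat
  obtain ⟨ι, ξ, f, hξ, -, -, hsum⟩ := hmap
  haveI : IsEmpty ι := ⟨fun i => absurd (hξ i) (by norm_num)⟩
  have h0 := hsum (IsLocalRing.closedPoint k)
  rw [finsum_of_isEmpty, PB.map_sub_apply] at h0
  have hdeg : ChowOps.deg (C ↘ Spec (CommRingCat.of k)) δ (γ 1) =
      ChowOps.deg (P ↘ Spec (CommRingCat.of k)) δP c := by
    refine (sub_eq_zero.1 h0).symm.trans ?_
    rw [map_map (hf := hδ) (hg := hK)]
    rfl
  rw [show (γ ⟨1, Nat.lt_succ_of_le (Nat.le_add_left 1 m)⟩) = γ 1 from rfl, hdeg]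
  have ha0 : ∀ x, 0 ≤ a x := fun x => by
    rw [ha, hα]
    simp only [Cyc.pullFun]
    split_ifs
    · refine mul_nonneg ?_ (Int.natCast_nonneg _)
      simp only [Cyc.subschemeFun]
      split_ifs
      · exact finsum_nonneg fun z => finsum_nonneg fun _ => Int.natCast_nonneg _
      · exact le_rfl
    · exact le_rfl
  have hak' : a ∈ Cyc.Zk P δP ((m + 1 : ℕ) : ℤ) := by
    convert hak using 2
    push_cast
    ring
  obtain ⟨hF, hFa⟩ := sheafFun_cycleSheafPos hPs.2.2 a hak' ⇑a (fun x hx => hx.ne')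
  have hz : cycleHom hPs.2.2 ((m + 1 : ℕ) : ℤ)
      (Cyc.toK0CohQuot δP ((m + 1 : ℕ) : ℤ) (((m + 1 : ℕ) : ℤ) - 1) (Cyc.cycleSheafPos ⇑a)) = ⇑a := by
    rw [cycleHom_cls hPs.2.2 _ hF, hFa]
    funext x
    split_ifs with h
    · exact max_eq_left (ha0 x)
    · exact (hak' x h).symm
  rw [← Intersect.interDeg_eq_deg k hPs.2.2 hP0 (m + 1) (fun _ => O1) (fun _ => hinv)
      (fun i => PB.flagSecs hG hP i) (fun i => PB.flagSecs_ne_zero hG hP i)
      (fun j => Cyc.c1PowFun δP O1 (PB.flagSecs hG hP) j ⇑a) (fun i h => rfl) _ hz c hc,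
    Intersect.chiHom_cls hPs.2.2 hP0 _ _ hF]
  refine VarietyLib.nef_interDeg_nonneg k
    ((VarietyLib.nefCl_iff_euler k hinv).1 ((S17290.curveNef_iff_euler k rfl hP).1 hnef)) hF.1 ?_
  have hlt : topologicalKrullDim (CohB1.support (Cyc.cycleSheafPos ⇑a)) < ((m + 2 : ℕ) : WithBot ℕ∞) :=
    Intersect.dim_lt_of_delta_lt hPs.2.2 (Intersect.delta_nonneg _ hP0)
      (Coherent.isClosed_support _ (Coherent.locallyFinGen_of_isFT _ hF.1.2))
      fun x hx => lt_of_le_of_lt (CohLe.support_le hF hx) (by push_cast; omega)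
  revert hlt
  generalize topologicalKrullDim (CohB1.support (Cyc.cycleSheafPos ⇑a)) = d
  intro hlt
  induction d using WithBot.recBotCoe with
  | bot => exact bot_le
  | coe d =>
    rw [← WithBot.coe_natCast, WithBot.coe_lt_coe] at hlt
    rw [← WithBot.coe_natCast, WithBot.coe_le_coe]
    rw [show ((m + 2 : ℕ) : ℕ∞) = ((m + 1 : ℕ) : ℕ∞) + 1 by push_cast; ring] at hlt
    exact (ENat.lt_coe_add_one_iff).1 hlt

end Groth.Agent.CommAlg4.NefBundle
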