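import Groth.Agent.VB5.DualDeg
import Groth.Agent.FlatMorAdm.LocFreeApps

set_option autoImplicit false
set_option linter.style.haveILetI false
set_option linter.unusedSectionVars false
set_option backward.isDefEq.respectTransparency.types false
universe u
open CategoryTheory CategoryTheory.Limits AlgebraicGeometry Opposite TopologicalSpace
open Groth.Agent Groth.Agent.Coherent Groth.Agent.PicLib Groth.Agent.AmpleLib
open Groth.Agent.CycLib28.PB.Ops (dual isFinLocFreeOfRank_dual)

namespace Groth.Agent.CommAlg4.NefPair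

variable {X : Scheme.{u}} [IsIntegral X] [IsLocallyNoetherian X]
  (k : Type u) [Field k] [X.Over (Spec (CommRingCat.of k))] [IsProper (X ↘ Spec (CommRingCat.of k))]
  (hdim : topologicalKrullDim X = 1) (hn : ∀ x : X, IsIntegrallyClosed (X.presheaf.stalk x))

/-- All locally free quotients have nonnegative degree. -/
def QuotNonneg (E : X.Modules) : Prop :=
  ∀ (G : X.Modules) (r : ℕ) (p : E ⟶ G), Epi p → FlatMod.IsFinLocFreeOfRank r G → 0 ≤ VB5.gdeg k G

theorem tensorHomEquiv_symm_comp (E : X.Modules) {A A' M : X.Modules} (g : A ⟶ A') (ψ : A' ⟶ internalHom E M) :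
    (tensorHomEquiv E A M).symm (g ≫ ψ) = tE E g ≫ (tensorHomEquiv E A' M).symm ψ := by
  have h := (tensorHomAdj E).homEquiv_naturality_left_symm g ψ
  simp only [tensorHomAdj, Adjunction.mkOfHomEquiv_homEquiv] at h
  exact h

theorem tensorHomEquiv_symm_zero (E A M : X.Modules) : (tensorHomEquiv E A M).symm 0 = 0 := by
  rw [show (0 : A ⟶ internalHom E M) = 0 ≫ 𝟙 _ from (Limits.zero_comp).symm, tensorHomEquiv_symm_comp]
  show (tensE E).map 0 ≫ _ = 0
  rw [(tensE E).map_zero, Limits.zero_comp]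

include hdim hn in
/-- The rank and degree of `Hom(E, M)` for a line `M`. -/
theorem internalHom_line {r : ℕ} {E M : X.Modules} (hE : FlatMod.IsFinLocFreeOfRank r E)
    (hM : PicF.IsInvertible M) : FlatMod.IsFinLocFreeOfRank r (internalHom E M) ∧
      VB5.gdeg k (internalHom E M) = - VB5.gdeg k E + (r : ℤ) * VB5.gdeg k M := by
  obtain ⟨e⟩ := SerreDual.nonempty_internalHom_eq_tensor (LocFreeLib.isFinLocFree_of_rank hE) M
  have h := CycLib28.PB.Ops.isFinLocFreeOfRank_tensor (isFinLocFreeOfRank_dual hE) (isFinLocFreeOfRank_one hM)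
  rw [mul_one] at h
  refine ⟨fun x => let ⟨U, hx, ⟨i⟩⟩ := h x; ⟨U, hx, ⟨(Scheme.Modules.restrictFunctor U.ι).mapIso e ≪≫ i⟩⟩, ?_⟩
  rw [VB5.gdeg_congr k e, VB5.gdeg_twist k hdim hn hM r (isFinLocFreeOfRank_dual hE),
    VB5.gdeg_dual k hdim hn r hE]

include hdim hn in
/-- A nonzero pairing of two modules with nonnegative quotients has target of nonnegative degree. -/
theorem pair_nonneg {E E' M : X.Modules} (hE : FlatMod.IsFinLocFree E) (hE' : FlatMod.IsFinLocFree E')
    (hM : PicF.IsInvertible M) (qE : QuotNonneg k E) (qE' : QuotNonneg k E')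
    (φ : CohB1.tensorMod E E' ⟶ M) (hφ : φ ≠ 0) : 0 ≤ VB5.gdeg k M := by
  obtain ⟨r, hr⟩ := VB5.exists_rank hE
  obtain ⟨s, hs⟩ := VB5.exists_rank hE'
  obtain ⟨hH, -⟩ := internalHom_line k hdim hn hr hM
  obtain ⟨G, p, j, hp, hj, hpj, hGc, hGpos⟩ :=
    VB5.exists_image k hdim hn hs hH (tensorHomEquiv E E' M φ)
  haveI := hp
  haveI := hj
  obtain ⟨-, hG⟩ := VB5.sub_bundle hdim.le hn hH j hGc
  have hpos : 0 < VB5.grk G := hGpos fun h0 => hφ (by
    rw [← (tensorHomEquiv E E' M).symm_apply_apply φ, h0, tensorHomEquiv_symm_zero]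
    rfl)
  set φG := (tensorHomEquiv E G M).symm j with hφG
  let χ : CohB1.tensorMod G E ⟶ M := (tensorComm G E).hom ≫ φG
  obtain ⟨hH', -⟩ := internalHom_line k hdim hn hG hM
  obtain ⟨G', p', j', hp', hj', hpj', hGc', -⟩ :=
    VB5.exists_image k hdim hn hr hH' (tensorHomEquiv G E M χ)
  haveI := hp'
  haveI := hj'
  obtain ⟨hle, hG'⟩ := VB5.sub_bundle hdim.le hn hH' j' hGc'
  have hfac : tE G p' ≫ (tensorHomEquiv G G' M).symm j' = χ := by
    rw [← (tensorHomEquiv G E M).symm_apply_apply χ, ← hpj']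
    exact (tensorHomEquiv_symm_comp G p' j').symm
  let ω : CohB1.tensorMod G' G ⟶ M := (tensorComm G' G).hom ≫ (tensorHomEquiv G G' M).symm j'
  let θ : G ⟶ internalHom G' M := tensorHomEquiv G' G M ω
  haveI : Mono θ := Preadditive.mono_of_cancel_zero θ fun {A} g hg => by
    have h0 : tE G' g ≫ ω = 0 := by
      rw [← (tensorHomEquiv G' G M).symm_apply_apply ω, ← tensorHomEquiv_symm_comp,
        show g ≫ tensorHomEquiv G' G M ω = 0 from hg, tensorHomEquiv_symm_zero]
      rfl
    rw [← cancel_mono j, Limits.zero_comp]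
    apply (tensorHomEquiv E A M).symm.injective
    rw [tensorHomEquiv_symm_zero]
    refine (tensorHomEquiv_symm_comp E g j).trans (AmpleLib.hom_ext fun U a x => ?_)
    show φG.app U ((tE E g).app U (tmul a x)) = 0
    rw [tensE_map_tmul]
    have h1 : χ.app U (tmul (g.app U x) a) = φG.app U (tmul a (g.app U x)) :=
      congrArg (φG.app U) (Bilin.desc_tmul _ U (g.app U x) a)
    rw [← h1, ← hfac]
    show ((tensorHomEquiv G G' M).symm j').app U ((tE G p').app U (tmul (g.app U x) a)) = 0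
    rw [tensE_map_tmul]
    have h2 : ω.app U (tmul (p'.app U a) (g.app U x)) =
        ((tensorHomEquiv G G' M).symm j').app U (tmul (g.app U x) (p'.app U a)) :=
      congrArg (((tensorHomEquiv G G' M).symm j').app U) (Bilin.desc_tmul _ U (p'.app U a) (g.app U x))
    rw [← h2]
    have h3 := ConcreteCategory.congr_hom (congrArg (fun α => α.app U) h0) (tmul (p'.app U a) x)
    simp only [Scheme.Modules.Hom.comp_app, ConcreteCategory.comp_apply, tensE_map_tmul] at h3
    exact h3
  obtain ⟨hH'', hdeg⟩ := internalHom_line k hdim hn hG' hM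
  have hGcc := SplitP1.isCoh_of_rank hG
  obtain ⟨hle', -⟩ := VB5.sub_bundle hdim.le hn hH'' θ hGcc
  have heq : VB5.grk G = VB5.grk G' := le_antisymm hle' hle
  obtain ⟨hfull, -⟩ := VB5.full_rank k hdim θ hGcc (SplitP1.isCoh_of_rank hH'')
    (by rw [VB5.grk_eq hH'']; exact heq)
  have d1 := qE' G _ p hp hG
  have d2 := qE G' _ p' hp' hG'
  rw [hdeg] at hfull
  have h3 : 0 ≤ ((VB5.grk G' : ℕ) : ℤ) * VB5.gdeg k M := by linarith
  exact (mul_nonneg_iff_of_pos_left (by exact_mod_cast heq ▸ hpos)).1 h3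

end Groth.Agent.CommAlg4.NefPair
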