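import Mathlib.LinearAlgebra.TensorProduct.Quotient
import Mathlib.RingTheory.Ideal.Quotient.Operations

set_option linter.all false
set_option autoImplicit false
universe u v

namespace Groth.Agent.CommAlg4

/-- Nakayama for a nilpotent ideal, with no finiteness. -/
theorem subsingleton_of_tensor_quotient {R : Type u} [CommRing R] (I : Ideal R) (hI : IsNilpotent I)
    (P : Type v) [AddCommGroup P] [Module R P] (h : Subsingleton (TensorProduct R (R ⧸ I) P)) :
    Subsingleton P := by
  have h0 : (I • ⊤ : Submodule R P) = ⊤ := by
    have : Subsingleton (P ⧸ (I • ⊤ : Submodule R P)) := (TensorProduct.quotTensorEquivQuotSMul P I).symm.injective.subsingleton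
    exact Submodule.Quotient.subsingleton_iff.mp this
  obtain ⟨k, hk⟩ := hI
  have h1 : ∀ j, (I ^ j • ⊤ : Submodule R P) = ⊤ := by
    intro j; induction j with
    | zero => simp [Ideal.one_eq_top]
    | succ j ih => rw [pow_succ, mul_smul, h0, ih]
  have := h1 k; rw [hk, Submodule.zero_eq_bot, Submodule.bot_smul] at this
  exact (Submodule.subsingleton_iff R).mp (subsingleton_of_bot_eq_top this)

end Groth.Agent.CommAlg4
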