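import Mathlib
import Groth.Agent.DVRDom.Basic

/-!
# The ring `R[[x, y]]/(x y - r)` over a complete noetherian local domain is a domain
-/

set_option autoImplicit false
set_option linter.all false

universe u

open IsLocalRing

namespace Groth.Agent.CommAlg4.NodeDomain

variable {R : Type u} [CommRing R]

/-- The exponent `(a, b)`. -/
noncomputable def ex (a b : ℕ) : Fin 2 →₀ ℕ := Finsupp.single 0 a + Finsupp.single 1 b

theorem ex_zero (a b : ℕ) : ex a b 0 = a := by simp [ex]
theorem ex_one (a b : ℕ) : ex a b 1 = b := by simp [ex]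
theorem ex_eta (e : Fin 2 →₀ ℕ) : ex (e 0) (e 1) = e := by ext i; fin_cases i <;> simp [ex]
theorem ex_add (a b c d : ℕ) : ex a b + ex c d = ex (a + c) (b + d) := by
  ext i; fin_cases i <;> simp [ex]

/-- The coefficient of `x^a y^b`. -/
noncomputable def co (f : MvPowerSeries (Fin 2) R) (a b : ℕ) : R := MvPowerSeries.coeff (ex a b) f

theorem ext_co {f g : MvPowerSeries (Fin 2) R} (h : ∀ a b, co f a b = co g a b) : f = g :=
  MvPowerSeries.ext fun e => by rw [← ex_eta e]; exact h _ _

theorem co_mul (f g : MvPowerSeries (Fin 2) R) (a b : ℕ) :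
    co (f * g) a b = ∑ p ∈ Finset.HasAntidiagonal.antidiagonal a, ∑ q ∈ Finset.HasAntidiagonal.antidiagonal b,
      co f p.1 q.1 * co g p.2 q.2 := by
  classical
  rw [co, MvPowerSeries.coeff_mul, ← Finset.sum_product']
  refine Finset.sum_bij' (fun e _ => ((e.1 0, e.2 0), (e.1 1, e.2 1))) (fun p _ => (ex p.1.1 p.2.1, ex p.1.2 p.2.2))
    (fun e he => ?_) (fun p hp => ?_) (fun e he => ?_) (fun p hp => ?_) (fun e he => ?_)
  · rw [Finset.HasAntidiagonal.mem_antidiagonal] at he
    simp only [Finset.mem_product, Finset.HasAntidiagonal.mem_antidiagonal]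
    exact ⟨by have := DFunLike.congr_fun he 0; simpa [ex] using this,
      by have := DFunLike.congr_fun he 1; simpa [ex] using this⟩
  · simp only [Finset.mem_product, Finset.HasAntidiagonal.mem_antidiagonal] at hp
    rw [Finset.HasAntidiagonal.mem_antidiagonal, ex_add, hp.1, hp.2]
  · simp [ex_eta]
  · simp [ex_zero, ex_one]
  · simp [co, ex_eta]

section Slices

variable {S : Type u} [CommRing S] (φ : R →+* S) (t : R)

/-- The image of the `b`-th slice as a Laurent series. -/
noncomputable def slice (f : MvPowerSeries (Fin 2) R) (b : ℕ) : LaurentSeries S :=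
  ((PowerSeries.mk fun a => φ (co f a b) : PowerSeries S) : LaurentSeries S)

/-- The substitution `y = t / x`. -/
noncomputable def F (K : ℕ) (f : MvPowerSeries (Fin 2) R) : LaurentSeries S :=
  ∑ b ∈ Finset.range K, HahnSeries.single (-(b : ℤ)) (φ t ^ b) * slice φ f b

theorem slice_mul (f g : MvPowerSeries (Fin 2) R) (b : ℕ) :
    slice φ (f * g) b = ∑ q ∈ Finset.HasAntidiagonal.antidiagonal b, slice φ f q.1 * slice φ g q.2 := by
  simp only [slice, ← map_mul, ← map_sum]
  congr 1
  ext a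
  rw [PowerSeries.coeff_mk, map_sum, co_mul, Finset.sum_comm, map_sum]
  refine Finset.sum_congr rfl fun q _ => ?_
  rw [PowerSeries.coeff_mul, map_sum]
  refine Finset.sum_congr rfl fun p _ => ?_
  rw [PowerSeries.coeff_mk, PowerSeries.coeff_mk, map_mul]

theorem F_mul {K : ℕ} (ht : φ t ^ K = 0) (f g : MvPowerSeries (Fin 2) R) :
    F φ t K (f * g) = F φ t K f * F φ t K g := by
  classical
  rw [F, F, F, Finset.sum_mul_sum]
  let w : ℕ × ℕ → LaurentSeries S := fun q =>
    (HahnSeries.single (-(q.1 : ℤ)) (φ t ^ q.1) * slice φ f q.1) * (HahnSeries.single (-(q.2 : ℤ)) (φ t ^ q.2) * slice φ g q.2)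
  have hl : ∀ b : ℕ, HahnSeries.single (-(b : ℤ)) (φ t ^ b) * slice φ (f * g) b =
      ∑ q ∈ Finset.HasAntidiagonal.antidiagonal b, w q := fun b => by
    rw [slice_mul, Finset.mul_sum]
    refine Finset.sum_congr rfl fun q hq => ?_
    rw [Finset.HasAntidiagonal.mem_antidiagonal] at hq
    show _ = (_ * _) * (_ * _)
    rw [mul_mul_mul_comm, HahnSeries.single_mul_single, ← pow_add, ← neg_add, ← Nat.cast_add, hq]
  rw [Finset.sum_congr rfl fun b _ => hl b, ← Finset.sum_product', ← Finset.sum_biUnion]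
  swap
  · intro x _ y _ hxy
    exact Finset.disjoint_left.2 fun q hx hy => hxy ((Finset.HasAntidiagonal.mem_antidiagonal.1 hx).symm.trans
      (Finset.HasAntidiagonal.mem_antidiagonal.1 hy))
  refine Finset.sum_subset (fun q hq => ?_) fun q hq hn => ?_
  · obtain ⟨b, hb, hqb⟩ := Finset.mem_biUnion.1 hq
    rw [Finset.HasAntidiagonal.mem_antidiagonal] at hqb
    rw [Finset.mem_range] at hb
    simp only [Finset.mem_product, Finset.mem_range]
    omega
  · have hK : K ≤ q.1 + q.2 := not_lt.1 fun h => hn (Finset.mem_biUnion.2 ⟨_, Finset.mem_range.2 h,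
      Finset.HasAntidiagonal.mem_antidiagonal.2 rfl⟩)
    show (_ * _) * (_ * _) = 0
    rw [mul_mul_mul_comm, HahnSeries.single_mul_single, ← pow_add, pow_eq_zero_of_le hK ht, map_zero, zero_mul]

theorem coeff_F (K : ℕ) (f : MvPowerSeries (Fin 2) R) (i : ℤ) :
    (F φ t K f).coeff i =
      ∑ b ∈ Finset.range K, if i + b < 0 then 0 else φ t ^ b * φ (co f (i + b).natAbs b) := by
  rw [F, HahnSeries.coeff_sum]
  refine Finset.sum_congr rfl fun b _ => ?_
  rw [HahnSeries.coeff_single_mul, sub_neg_eq_add, slice, PowerSeries.coeff_coe]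
  split_ifs with h
  · rw [mul_zero]
  · rw [PowerSeries.coeff_mk]

end Slices

section Limit

variable [IsLocalRing R] [IsAdicComplete (maximalIdeal R) R] {r : R} (hr : r ∈ maximalIdeal R)

include hr in
theorem exists_lim (h : ℕ → R) :
    ∃ L : R, ∀ N, L - ∑ n ∈ Finset.range N, r ^ n * h n ∈ maximalIdeal R ^ N := by
  let P : ℕ → R := fun N => ∑ n ∈ Finset.range N, r ^ n * h n
  have hP : ∀ {m n}, m ≤ n → P m ≡ P n [SMOD (maximalIdeal R ^ m • ⊤ : Submodule R R)] := by
    intro m n hmn
    rw [smul_eq_mul, Ideal.mul_top, SModEq.sub_mem]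
    show ∑ n ∈ Finset.range m, r ^ n * h n - ∑ n ∈ Finset.range n, r ^ n * h n ∈ _
    rw [← Finset.sum_range_add_sum_Ico _ hmn, sub_add_cancel_left]
    refine neg_mem (Ideal.sum_mem _ fun j hj => Ideal.mul_mem_right _ _ ?_)
    exact Ideal.pow_le_pow_right (Finset.mem_Ico.1 hj).1 (Ideal.pow_mem_pow hr j)
  obtain ⟨L, hL⟩ := IsPrecomplete.prec (inferInstance : IsPrecomplete (maximalIdeal R) R) hP
  refine ⟨L, fun N => ?_⟩
  have := hL N
  rw [smul_eq_mul, Ideal.mul_top, SModEq.sub_mem] at this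
  have := neg_mem this
  rwa [neg_sub] at this

/-- `∑ r^n h n`. -/
noncomputable def lim (h : ℕ → R) : R := (exists_lim hr h).choose

theorem lim_spec (h : ℕ → R) (N : ℕ) : lim hr h - ∑ n ∈ Finset.range N, r ^ n * h n ∈ maximalIdeal R ^ N :=
  (exists_lim hr h).choose_spec N

theorem lim_succ (h : ℕ → R) : lim hr h = h 0 + r * lim hr (fun n => h (n + 1)) := by
  refine sub_eq_zero.1 (IsHausdorff.haus' (I := maximalIdeal R) _ fun N => ?_)
  rw [smul_eq_mul, Ideal.mul_top, SModEq.sub_mem, sub_zero]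
  have h1 := lim_spec hr h (N + 1)
  have h2 := Ideal.mul_mem_left _ r (lim_spec hr (fun n => h (n + 1)) N)
  rw [Finset.sum_range_succ', pow_zero, one_mul] at h1
  have e : lim hr h - (h 0 + r * lim hr (fun n => h (n + 1))) =
      (lim hr h - (∑ n ∈ Finset.range N, r ^ (n + 1) * h (n + 1) + h 0)) -
        r * (lim hr (fun n => h (n + 1)) - ∑ n ∈ Finset.range N, r ^ n * h (n + 1)) := by
    rw [mul_sub, Finset.mul_sum]
    simp only [pow_succ', ← mul_assoc]
    ring
  rw [e]
  exact sub_mem (Ideal.pow_le_pow_right N.le_succ h1) h2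

/-- The normal form coefficients. -/
noncomputable def nf (f : MvPowerSeries (Fin 2) R) : ℤ → R := fun i =>
  if 0 ≤ i then lim hr fun n => co f (i.natAbs + n) n
  else r ^ i.natAbs * lim hr fun n => co f n (i.natAbs + n)

theorem coeff_F_nf {S : Type u} [CommRing S] (φ : R →+* S) {K : ℕ} (hφ : ∀ x ∈ maximalIdeal R ^ K, φ x = 0)
    (f : MvPowerSeries (Fin 2) R) (i : ℤ) : (F φ r K f).coeff i = φ (nf hr f i) := by
  have hlim : ∀ h : ℕ → R, φ (lim hr h) = ∑ n ∈ Finset.range K, φ r ^ n * φ (h n) := fun h => by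
    have h1 := hφ _ (lim_spec hr h K)
    rw [map_sub, sub_eq_zero, map_sum] at h1
    simpa using h1
  have hzero : ∀ n, K ≤ n → φ r ^ n = 0 := fun n hn => by
    rw [← map_pow]
    exact hφ _ (Ideal.pow_le_pow_right hn (Ideal.pow_mem_pow hr n))
  rw [coeff_F, nf]
  split_ifs with hi
  · rw [hlim]
    refine Finset.sum_congr rfl fun b _ => ?_
    rw [if_neg (by omega), Int.natAbs_add_of_nonneg hi (Int.natCast_nonneg b), Int.natAbs_natCast]
  · rw [map_mul, map_pow, hlim, Finset.mul_sum]
    obtain ⟨j, rfl⟩ : ∃ j : ℕ, i = -(j : ℤ) := ⟨i.natAbs, by omega⟩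
    rw [Int.natAbs_neg, Int.natAbs_natCast]
    refine Eq.trans ?_ (Finset.sum_congr rfl fun n _ => (by rw [← mul_assoc, ← pow_add] :
      φ r ^ (j + n) * φ (co f n (j + n)) = φ r ^ j * (φ r ^ n * φ (co f n (j + n)))))
    rw [Finset.sum_ite, Finset.sum_const_zero, zero_add]
    refine Eq.trans ?_ (Finset.sum_filter_of_ne (p := fun n => j + n < K) fun n _ hne => ?_)
    · refine Finset.sum_nbij' (fun b => b - j) (fun n => j + n) ?_ ?_ ?_ ?_ ?_
      · intro b hb; simp at hb ⊢; omega
      · intro n hn; simp at hn ⊢; omega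
      · intro b hb; simp at hb; omega
      · intro n _; omega
      · intro b hb
        simp only [Finset.mem_filter, Finset.mem_range] at hb
        rw [show j + (b - j) = b by omega, show (-(j : ℤ) + b).natAbs = b - j by omega]
    · by_contra h
      exact hne (by rw [hzero _ (not_lt.1 h), zero_mul])

/-- A series with vanishing normal form is a multiple of `x y - r`. -/
theorem dvd_of_nf_eq_zero [IsDomain R] (hr0 : r ≠ 0) {f : MvPowerSeries (Fin 2) R} (hf : ∀ i, nf hr f i = 0) :
    (MvPowerSeries.X 0 * MvPowerSeries.X 1 - MvPowerSeries.C r : MvPowerSeries (Fin 2) R) ∣ f := by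
  classical
  let G : MvPowerSeries (Fin 2) R := fun e => lim hr fun n => co f (e 0 + 1 + n) (e 1 + 1 + n)
  have hG : ∀ a b, co G a b = lim hr fun n => co f (a + 1 + n) (b + 1 + n) := fun a b => by
    show G (ex a b) = _
    simp only [G, ex_zero, ex_one]
  refine ⟨G, ext_co fun a b => ?_⟩
  have hXX : (MvPowerSeries.X 0 * MvPowerSeries.X 1 : MvPowerSeries (Fin 2) R) = MvPowerSeries.monomial (ex 1 1) 1 := by
    rw [MvPowerSeries.X, MvPowerSeries.X, MvPowerSeries.monomial_mul_monomial, one_mul]; rfl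
  have e : co ((MvPowerSeries.X 0 * MvPowerSeries.X 1 - MvPowerSeries.C r) * G) a b =
      (if 1 ≤ a ∧ 1 ≤ b then co G (a - 1) (b - 1) else 0) - r * co G a b := by
    rw [sub_mul, co, map_sub, MvPowerSeries.coeff_C_mul, hXX, MvPowerSeries.coeff_monomial_mul]
    congr 1
    by_cases h : 1 ≤ a ∧ 1 ≤ b
    · rw [if_pos h, if_pos, one_mul]
      · show MvPowerSeries.coeff _ G = MvPowerSeries.coeff _ G
        congr 2
        ext i; fin_cases i <;> simp [ex]
      · intro i; fin_cases i <;> simp [ex] <;> omega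
    · rw [if_neg h, if_neg]
      intro hle
      have h0 := hle 0
      have h1 := hle 1
      simp [ex] at h0 h1
      exact h ⟨h0, h1⟩
  rw [e, hG a b]
  have he : (fun n => co f (a + (n + 1)) (b + (n + 1))) = fun n => co f (a + 1 + n) (b + 1 + n) :=
    funext fun n => by rw [show a + (n + 1) = a + 1 + n by omega, show b + (n + 1) = b + 1 + n by omega]
  by_cases h : 1 ≤ a ∧ 1 ≤ b
  · rw [if_pos h, hG]
    have := lim_succ hr (fun n => co f (a + n) (b + n))
    simp only [show a - 1 + 1 = a by omega, show b - 1 + 1 = b by omega]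
    rw [this]
    simp only [add_zero, he]
    ring
  · rw [if_neg h, zero_sub]
    have hz : lim hr (fun n => co f (a + n) (b + n)) = 0 := by
      rcases Nat.eq_zero_or_pos b with rfl | hb
      · have := hf (a : ℤ)
        rw [nf, if_pos (Int.natCast_nonneg a), Int.natAbs_natCast] at this
        simpa using this
      · obtain rfl : a = 0 := by omega
        have := hf (-(b : ℤ))
        rw [nf, if_neg (by omega), Int.natAbs_neg, Int.natAbs_natCast] at this
        simpa using (mul_eq_zero.1 this).resolve_left (pow_ne_zero _ hr0)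
    rw [lim_succ hr] at hz
    simp only [add_zero, he] at hz
    linear_combination hz

end Limit

section DVR

variable {V : Type u} [CommRing V] [IsDomain V] [IsDiscreteValuationRing V]

/-- An exact leading value. -/
theorem exists_leading {ϖ : V} (hϖ : Irreducible ϖ) {M : ℤ → V} (hM : M ≠ 0)
    (hlow : ∀ (n : ℕ) (i : ℤ), i ≤ -(n : ℤ) → ϖ ^ n ∣ M i) :
    ∃ (a : ℕ) (T : ℕ) (u : ℤ → V), (∀ i, M i = ϖ ^ a * u i) ∧ ∃ i, -(T : ℤ) ≤ i ∧ ¬ ϖ ∣ u i := by
  classical
  have hex : ∃ n i, ¬ ϖ ^ (n + 1) ∣ M i := by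
    obtain ⟨i, hi⟩ := Function.ne_iff.1 hM
    obtain ⟨n, hn⟩ := IsDiscreteValuationRing.associated_pow_irreducible hi hϖ
    refine ⟨n, i, fun hd => ?_⟩
    have := (pow_dvd_pow_iff hϖ.ne_zero hϖ.not_isUnit).1 ((hn.dvd_iff_dvd_right).1 hd)
    omega
  let a := Nat.find hex
  obtain ⟨i, hi⟩ := Nat.find_spec hex
  have hdiv : ∀ j, ϖ ^ a ∣ M j := by
    intro j
    by_contra hd
    rcases Nat.eq_zero_or_pos a with h0 | h0
    · rw [h0, pow_zero] at hd; exact hd (one_dvd _)
    · exact Nat.find_min hex (show a - 1 < a by omega) ⟨j, by rwa [show a - 1 + 1 = a by omega]⟩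
  choose u hu using hdiv
  exact ⟨a, i.natAbs, u, hu, i, by omega, fun ⟨w, hw⟩ => hi ⟨w, by rw [hu i, hw, pow_succ]; ring⟩⟩

end DVR

/-- `x y - r` generates a prime ideal of `R[[x, y]]`. -/
theorem isPrime_span [IsDomain R] [IsNoetherianRing R] [IsLocalRing R] [IsAdicComplete (maximalIdeal R) R] {r : R}
    (hr : r ∈ maximalIdeal R) (hr0 : r ≠ 0) :
    (Ideal.span {(MvPowerSeries.X 0 * MvPowerSeries.X 1 - MvPowerSeries.C r : MvPowerSeries (Fin 2) R)}).IsPrime := by
  classical
  have hA : ¬ IsField R := fun h => hr0 (by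
    rw [IsLocalRing.isField_iff_maximalIdeal_eq.1 h] at hr; simpa using hr)
  obtain ⟨V, _, _, _, φ, hφ, hloc⟩ := DVRDom.exists_dvr R hA
  haveI := hloc
  obtain ⟨ϖ, hϖ⟩ := IsDiscreteValuationRing.exists_irreducible V
  have hm : ∀ (K : ℕ) (x : R), x ∈ maximalIdeal R ^ K → ϖ ^ K ∣ φ x := by
    intro K x hx
    rw [← Ideal.mem_span_singleton, ← Ideal.span_singleton_pow, ← hϖ.maximalIdeal_eq]
    have h1 : (maximalIdeal R).map φ ≤ maximalIdeal V := ((IsLocalRing.local_hom_TFAE φ).out 0 2).mp hloc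
    have h2 := Ideal.mem_map_of_mem φ hx
    rw [Ideal.map_pow] at h2
    exact Ideal.pow_right_mono h1 K h2
  let π : (n : ℕ) → R →+* V ⧸ Ideal.span {ϖ ^ n} := fun n => (Ideal.Quotient.mk _).comp φ
  have hπ : ∀ n, ∀ x ∈ maximalIdeal R ^ n, π n x = 0 := fun n x hx =>
    Ideal.Quotient.eq_zero_iff_mem.2 (Ideal.mem_span_singleton.2 (hm n x hx))
  let g : MvPowerSeries (Fin 2) R := MvPowerSeries.X 0 * MvPowerSeries.X 1 - MvPowerSeries.C r
  have hFg : ∀ n, F (π n) r n g = 0 := by
    intro n
    rcases Nat.lt_or_ge n 2 with hn | hn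
    · ext i
      rw [coeff_F_nf hr (π n) (hπ n)]
      show π n (nf hr g i) = 0
      apply hπ n
      interval_cases n
      · simp
      · rw [pow_one, nf]
        split_ifs with hi
        · have h1 := lim_spec hr (fun m => co g (i.natAbs + m) m) 1
          rw [pow_one, Finset.sum_range_one, pow_zero, one_mul, add_zero] at h1
          have h2 : co g i.natAbs 0 ∈ maximalIdeal R := by
            simp only [g, co, map_sub, MvPowerSeries.X, MvPowerSeries.monomial_mul_monomial, one_mul,
              MvPowerSeries.coeff_monomial, MvPowerSeries.coeff_C]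
            rw [if_neg (fun h => by have := DFunLike.congr_fun h 1; simp [ex] at this), zero_sub]
            split_ifs
            · exact neg_mem hr
            · exact neg_mem (zero_mem _)
          have := add_mem h1 h2
          rwa [sub_add_cancel] at this
        · exact Ideal.mul_mem_right _ _ (Ideal.pow_mem_of_mem _ hr _ (by omega))
    · ext i
      rw [coeff_F, HahnSeries.coeff_zero]
      have hco : ∀ a b, co g a b = (if a = 1 ∧ b = 1 then 1 else 0) - (if a = 0 ∧ b = 0 then r else 0) := by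
        intro a b
        simp only [g, co, map_sub, MvPowerSeries.X, MvPowerSeries.monomial_mul_monomial, one_mul,
          MvPowerSeries.coeff_monomial, MvPowerSeries.coeff_C]
        congr 1
        · exact if_congr ⟨fun h => ⟨by simpa [ex] using DFunLike.congr_fun h 0, by simpa [ex] using DFunLike.congr_fun h 1⟩,
            fun h => by rw [h.1, h.2]; rfl⟩ rfl rfl
        · exact if_congr ⟨fun h => ⟨by simpa [ex] using DFunLike.congr_fun h 0, by simpa [ex] using DFunLike.congr_fun h 1⟩,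
            fun h => by rw [h.1, h.2]; simp [ex]⟩ rfl rfl
      by_cases hi : i = 0
      · subst hi
        rw [Finset.sum_eq_add_sum_sdiff_singleton_of_mem (Finset.mem_range.2 (show 0 < n by omega)),
          Finset.sum_eq_single 1 (fun b hb hb1 => ?_) (fun h => absurd (by simp; omega) h)]
        · simp [hco]
        · simp only [Finset.mem_sdiff, Finset.mem_range, Finset.mem_singleton] at hb
          simp [hco, hb.2, hb1]
      · refine Finset.sum_eq_zero fun b _ => ?_
        split_ifs with hib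
        · rfl
        · rw [hco, if_neg (by omega), if_neg (by omega)]
          simp
  -- the leading term
  have key : ∀ f, (∀ n, F (π n) r n f = 0) → g ∣ f := by
    intro f hf
    refine dvd_of_nf_eq_zero hr hr0 fun i => hφ ?_
    rw [map_zero]
    by_contra hne
    obtain ⟨n, hn⟩ := IsDiscreteValuationRing.associated_pow_irreducible hne hϖ
    have h1 := HahnSeries.ext_iff.1 (hf (n + 1))
    have h2 := congrFun h1 i
    rw [coeff_F_nf hr _ (hπ _), HahnSeries.coeff_zero] at h2
    have h3 := (hn.dvd_iff_dvd_right).1 (Ideal.mem_span_singleton.1 (Ideal.Quotient.eq_zero_iff_mem.1 h2))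
    have := (pow_dvd_pow_iff hϖ.ne_zero hϖ.not_isUnit).1 h3
    omega
  have hlow : ∀ (f : MvPowerSeries (Fin 2) R) (n : ℕ) (i : ℤ), i ≤ -(n : ℤ) → ϖ ^ n ∣ φ (nf hr f i) := by
    intro f n i hi
    rcases Nat.eq_zero_or_pos n with rfl | hn
    · simp
    rw [nf, if_neg (by omega), map_mul, map_pow]
    refine Dvd.dvd.mul_right ?_ _
    rw [← map_pow]
    exact hm n _ (Ideal.pow_le_pow_right (by omega) (Ideal.pow_mem_pow hr i.natAbs))
  refine ⟨(Ideal.ne_top_iff_one _).2 fun h => ?_, fun {f h} hfh => ?_⟩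
  · rw [Ideal.mem_span_singleton] at h
    have hu := (isUnit_of_dvd_one h).map (MvPowerSeries.constantCoeff : MvPowerSeries (Fin 2) R →+* R)
    rw [map_sub, map_mul, MvPowerSeries.constantCoeff_X, MvPowerSeries.constantCoeff_X, mul_zero, zero_sub,
      MvPowerSeries.constantCoeff_C, IsUnit.neg_iff] at hu
    exact hr hu
  simp only [Ideal.mem_span_singleton] at hfh ⊢
  by_contra hc
  rw [not_or] at hc
  have hne : ∀ f, ¬ g ∣ f → (fun i => φ (nf hr f i)) ≠ 0 := fun f hf h0 => hf (key f fun n => by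
    ext i
    rw [coeff_F_nf hr _ (hπ n), HahnSeries.coeff_zero]
    show Ideal.Quotient.mk _ (φ (nf hr f i)) = 0
    rw [show φ (nf hr f i) = 0 from congrFun h0 i, map_zero])
  obtain ⟨a, T₁, u, hu, i₁, hi₁, hu₁⟩ := exists_leading hϖ (hne f hc.1) (hlow f)
  obtain ⟨b, T₂, w, hw, i₂, hi₂, hw₂⟩ := exists_leading hϖ (hne h hc.2) (hlow h)
  let n := a + b + 1
  let Q := V ⧸ Ideal.span {ϖ ^ n}
  have hprod : F (π n) r n f * F (π n) r n h = 0 := by
    rw [← F_mul (π n) r (hπ n _ (Ideal.pow_mem_pow hr n) |> fun e => by rw [← map_pow]; exact e) f h]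
    obtain ⟨c, hc'⟩ := hfh
    rw [hc', F_mul (π n) r (by rw [← map_pow]; exact hπ n _ (Ideal.pow_mem_pow hr n)), hFg, zero_mul]
  -- truncated unit parts
  let lift : (T : ℕ) → (ℤ → V) → LaurentSeries Q := fun T z =>
    HahnSeries.ofSuppBddBelow (fun i => if -(T : ℤ) ≤ i then Ideal.Quotient.mk _ (z i) else 0)
      ⟨-(T : ℤ), fun i hi => by
        by_contra h
        exact hi (if_neg h)⟩
  have hfact : ∀ (q : MvPowerSeries (Fin 2) R) (e : ℕ) (T : ℕ) (z : ℤ → V), (∀ i, φ (nf hr q i) = ϖ ^ e * z i) →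
      F (π n) r n q = HahnSeries.single 0 (Ideal.Quotient.mk _ (ϖ ^ e)) * lift (T + n) z := by
    intro q e T z hz
    ext i
    rw [coeff_F_nf hr _ (hπ n), HahnSeries.coeff_single_mul, sub_zero]
    show Ideal.Quotient.mk _ (φ (nf hr q i)) = Ideal.Quotient.mk _ (ϖ ^ e) * if _ then _ else _
    split_ifs with hi
    · rw [hz, map_mul]
    · rw [mul_zero, Ideal.Quotient.eq_zero_iff_mem, Ideal.mem_span_singleton]
      exact hlow q n i (by omega)
  rw [hfact f a T₁ u hu, hfact h b T₂ w hw, mul_mul_mul_comm, HahnSeries.single_mul_single, ← map_mul, ← pow_add,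
    add_zero] at hprod
  let kV := ResidueField V
  let θ : Q →+* kV := Ideal.Quotient.lift _ (residue V) fun x hx => (residue_eq_zero_iff x).2 (by
    rw [Ideal.mem_span_singleton] at hx
    rw [hϖ.maximalIdeal_eq, Ideal.mem_span_singleton]
    exact (dvd_pow_self ϖ (Nat.succ_ne_zero _)).trans hx)
  have hann : ∀ x : Q, Ideal.Quotient.mk _ (ϖ ^ (a + b)) * x = 0 → θ x = 0 := by
    intro x hx
    obtain ⟨x, rfl⟩ := Ideal.Quotient.mk_surjective x
    rw [← map_mul, Ideal.Quotient.eq_zero_iff_mem, Ideal.mem_span_singleton, pow_succ,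
      mul_dvd_mul_iff_left (pow_ne_zero _ hϖ.ne_zero)] at hx
    show residue V x = 0
    rw [residue_eq_zero_iff, hϖ.maximalIdeal_eq, Ideal.mem_span_singleton]
    exact hx
  let U : LaurentSeries kV := (lift (T₁ + n) u).map θ
  let W : LaurentSeries kV := (lift (T₂ + n) w).map θ
  have hUW : U * W = 0 := by
    show (lift (T₁ + n) u).map θ * (lift (T₂ + n) w).map θ = 0
    refine ((HahnSeries.map_mul (θ : Q →ₙ+* kV) :
      ((lift (T₁ + n) u * lift (T₂ + n) w).map (θ : Q →ₙ+* kV) : LaurentSeries kV) = _).symm.trans ?_)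
    ext i
    rw [HahnSeries.map_coeff, HahnSeries.coeff_zero]
    refine hann _ ?_
    have := congrArg (fun z : LaurentSeries Q => z.coeff i) hprod
    simpa [HahnSeries.coeff_single_mul] using this
  have hnz : ∀ (T : ℕ) (z : ℤ → V) (i : ℤ), -(T : ℤ) ≤ i → ¬ ϖ ∣ z i → (lift (T + n) z).map θ ≠ 0 := by
    intro T z i hi hz h0
    have := congrArg (fun q : LaurentSeries kV => q.coeff i) h0
    simp only [HahnSeries.map_coeff, HahnSeries.coeff_zero] at this
    change θ (if _ then _ else _) = 0 at this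
    rw [if_pos (by omega)] at this
    exact hz (by
      rw [← Ideal.mem_span_singleton, ← hϖ.maximalIdeal_eq, ← residue_eq_zero_iff]
      exact this)
  rcases mul_eq_zero.1 hUW with h0 | h0
  · exact hnz T₁ u i₁ hi₁ hu₁ h0
  · exact hnz T₂ w i₂ hi₂ hw₂ h0

end Groth.Agent.CommAlg4.NodeDomain
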