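import Mathlib
import Groth.Agent.AdicRing.Basic
import Groth.Agent.CommAlg4.NodeDomain

/-!
# Primes of `R[x, y]/(x y - r)` and of its completion above a prime element of `R`
-/

set_option autoImplicit false
set_option linter.all false

universe u

open IsLocalRing

namespace Groth.Agent.CommAlg4.NodeCompletion

open NodeDomain (ex)

variable {R : Type u} [CommRing R]

/-- The power series `x y - r`. -/
noncomputable def g (r : R) : MvPowerSeries (Fin 2) R :=
  MvPowerSeries.X 0 * MvPowerSeries.X 1 - MvPowerSeries.C r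

/-- The polynomial `x y - r`. -/
noncomputable def gp (r : R) : MvPolynomial (Fin 2) R :=
  MvPolynomial.X 0 * MvPolynomial.X 1 - MvPolynomial.C r

/-- The inclusion of polynomials into power series. -/
noncomputable abbrev co' : MvPolynomial (Fin 2) R →+* MvPowerSeries (Fin 2) R :=
  MvPolynomial.coeToMvPowerSeries.ringHom

theorem co'_C (a : R) : co' (MvPolynomial.C a) = MvPowerSeries.C a := MvPolynomial.coe_C a
theorem co'_X (i : Fin 2) : co' (MvPolynomial.X i : MvPolynomial (Fin 2) R) = MvPowerSeries.X i := MvPolynomial.coe_X i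
theorem co'_gp (r : R) : co' (gp r) = g r := by
  rw [gp, map_sub, map_mul, co'_X, co'_X, co'_C]; rfl

theorem map_g {S : Type u} [CommRing S] (ψ : R →+* S) (r : R) : MvPowerSeries.map ψ (g r) = g (ψ r) := by
  simp only [g, map_sub, map_mul, MvPowerSeries.map_X, MvPowerSeries.map_C]

theorem map_gp {S : Type u} [CommRing S] (ψ : R →+* S) (r : R) : MvPolynomial.map ψ (gp r) = gp (ψ r) := by
  simp only [gp, map_sub, map_mul, MvPolynomial.map_X, MvPolynomial.map_C]

/-- A polynomial divisible by `x y - r` as a power series is divisible by it as a polynomial. -/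
theorem gp_dvd_of_g_dvd [IsLocalRing R] [IsNoetherianRing R] {r : R} (hr : r ∈ maximalIdeal R)
    {f : MvPolynomial (Fin 2) R} (h : g r ∣ co' f) : gp r ∣ f := by
  classical
  obtain ⟨G, hG⟩ := h
  let N := f.support.sup (fun e => e 0 + e 1) + 1
  have hco : ∀ a b, MvPolynomial.coeff (ex (a + 1) (b + 1)) f =
      NodeDomain.co G a b - r * NodeDomain.co G (a + 1) (b + 1) := by
    intro a b
    have h1 : MvPowerSeries.coeff (ex (a + 1) (b + 1)) (co' f) = MvPolynomial.coeff (ex (a + 1) (b + 1)) f := rfl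
    rw [← h1, hG, g, sub_mul, map_sub, MvPowerSeries.coeff_C_mul,
      show (MvPowerSeries.X 0 * MvPowerSeries.X 1 : MvPowerSeries (Fin 2) R) = MvPowerSeries.monomial (ex 1 1) 1 by
        rw [MvPowerSeries.X, MvPowerSeries.X, MvPowerSeries.monomial_mul_monomial, one_mul]; rfl,
      MvPowerSeries.coeff_monomial_mul, if_pos, one_mul]
    · congr 1
      rw [NodeDomain.co]
      congr 2
      ext i; fin_cases i <;> simp [ex]
    · intro i; fin_cases i <;> simp [ex]
  have hrec : ∀ (n a b : ℕ), N ≤ a + b + 2 → NodeDomain.co G a b = r ^ n * NodeDomain.co G (a + n) (b + n) := by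
    intro n
    induction n with
    | zero => simp
    | succ n ih =>
      intro a b hab
      have h0 : MvPolynomial.coeff (ex (a + n + 1) (b + n + 1)) f = 0 := by
        rw [← MvPolynomial.notMem_support_iff]
        intro hm
        have := Finset.le_sup (f := fun e : Fin 2 →₀ ℕ => e 0 + e 1) hm
        simp only [NodeDomain.ex_zero, NodeDomain.ex_one] at this
        omega
      rw [hco, sub_eq_zero] at h0
      rw [ih a b hab, h0, pow_succ, mul_assoc, add_assoc, add_assoc]
  have hz : ∀ a b, N ≤ a + b → NodeDomain.co G a b = 0 := fun a b hab => by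
    rw [← Ideal.mem_bot, ← Ideal.iInf_pow_eq_bot_of_isLocalRing (maximalIdeal R) (IsLocalRing.maximalIdeal.isMaximal R).ne_top,
      Submodule.mem_iInf]
    intro n
    rw [hrec n a b (by omega)]
    exact Ideal.mul_mem_right _ _ (Ideal.pow_mem_pow hr n)
  refine ⟨MvPowerSeries.trunc' R (ex N N) G, MvPolynomial.coe_injective _ _ ?_⟩
  have hT : co' (MvPowerSeries.trunc' R (ex N N) G) = G := NodeDomain.ext_co fun a b => by
    show MvPolynomial.coeff (ex a b) (MvPowerSeries.trunc' R (ex N N) G) = _
    rw [MvPowerSeries.coeff_trunc']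
    split_ifs with hle
    · rfl
    · refine (hz a b ?_).symm
      by_contra hlt
      exact hle fun i => by fin_cases i <;> simp [ex] <;> omega
  change co' f = co' (gp r * _)
  rw [map_mul, co'_gp, hT, hG]

/-- Membership in `(π, x_i)` for power series. -/
theorem mem_span_C_X_iff {π : R} (i : Fin 2) (f : MvPowerSeries (Fin 2) R) :
    f ∈ Ideal.span {MvPowerSeries.C π, MvPowerSeries.X i} ↔ ∀ e : Fin 2 →₀ ℕ, e i = 0 → π ∣ MvPowerSeries.coeff e f := by
  classical
  constructor
  · intro h e he
    obtain ⟨a, b, hab⟩ := Ideal.mem_span_pair.1 h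
    rw [← hab, map_add, MvPowerSeries.coeff_mul_C, MvPowerSeries.X, MvPowerSeries.coeff_mul_monomial, if_neg, add_zero]
    · exact dvd_mul_left _ _
    · intro hle
      have := hle i
      simp [he] at this
  · intro h
    choose q hq using fun e he => h e he
    let k : MvPowerSeries (Fin 2) R := fun e => MvPowerSeries.coeff (e + Finsupp.single i 1) f
    let c : MvPowerSeries (Fin 2) R := fun e => if he : e i = 0 then q e he else 0
    refine Ideal.mem_span_pair.2 ⟨c, k, MvPowerSeries.ext fun e => ?_⟩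
    rw [map_add, MvPowerSeries.coeff_mul_C, MvPowerSeries.X, MvPowerSeries.coeff_mul_monomial, mul_one]
    have hc : MvPowerSeries.coeff e c = if he : e i = 0 then q e he else 0 := rfl
    rw [hc]
    by_cases he : e i = 0
    · rw [dif_pos he, if_neg, add_zero, mul_comm, ← hq]
      intro hle
      have := hle i
      simp [he] at this
    · rw [dif_neg he, zero_mul, zero_add, if_pos]
      · show MvPowerSeries.coeff (e - Finsupp.single i 1 + Finsupp.single i 1) f = _
        rw [tsub_add_cancel_of_le]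
        exact Finsupp.single_le_iff.2 (Nat.one_le_iff_ne_zero.2 he)
      · exact Finsupp.single_le_iff.2 (Nat.one_le_iff_ne_zero.2 he)

theorem coeff_single_mul {S : Type u} [CommRing S] (j : Fin 2) (n : ℕ) (f h : MvPowerSeries (Fin 2) S) :
    MvPowerSeries.coeff (Finsupp.single j n) (f * h) = ∑ p ∈ Finset.HasAntidiagonal.antidiagonal n,
      MvPowerSeries.coeff (Finsupp.single j p.1) f * MvPowerSeries.coeff (Finsupp.single j p.2) h := by
  classical
  rw [MvPowerSeries.coeff_mul, Finsupp.antidiagonal_single, Finset.sum_map]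
  rfl

/-- `(π, x_i)` is a prime ideal of the power series ring for a prime element `π`. -/
theorem isPrime_span_C_X {π : R} (hπ : Prime π) (i j : Fin 2) (hij : i ≠ j) :
    (Ideal.span {MvPowerSeries.C π, MvPowerSeries.X i} : Ideal (MvPowerSeries (Fin 2) R)).IsPrime := by
  classical
  haveI : (Ideal.span {π}).IsPrime := (Ideal.span_singleton_prime hπ.ne_zero).2 hπ
  let m := Ideal.Quotient.mk (Ideal.span {π})
  let ev : MvPowerSeries (Fin 2) R →+* PowerSeries (R ⧸ Ideal.span {π}) :=
    RingHom.mk' ⟨⟨fun f => PowerSeries.mk fun n => m (MvPowerSeries.coeff (Finsupp.single j n) f), by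
      ext n
      simp only [PowerSeries.coeff_mk, MvPowerSeries.coeff_one, Finsupp.single_eq_zero, PowerSeries.coeff_one]
      split_ifs <;> simp⟩, fun f h => by
      ext n
      rw [PowerSeries.coeff_mk, coeff_single_mul, map_sum, PowerSeries.coeff_mul]
      refine Finset.sum_congr rfl fun p _ => ?_
      rw [PowerSeries.coeff_mk, PowerSeries.coeff_mk, map_mul]⟩ fun f h => by
      ext n; simp
  have hev : ∀ (f : MvPowerSeries (Fin 2) R) (n : ℕ),
      PowerSeries.coeff n (ev f) = m (MvPowerSeries.coeff (Finsupp.single j n) f) := fun f n =>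
        (PowerSeries.coeff_mk n (fun n => m (MvPowerSeries.coeff (Finsupp.single j n) f)) :)
  have : (Ideal.span {MvPowerSeries.C π, MvPowerSeries.X i} : Ideal (MvPowerSeries (Fin 2) R)) = RingHom.ker ev := by
    ext f
    rw [mem_span_C_X_iff, RingHom.mem_ker]
    constructor
    · intro h
      ext n
      rw [hev, map_zero, Ideal.Quotient.eq_zero_iff_mem, Ideal.mem_span_singleton]
      exact h _ (Finsupp.single_eq_of_ne hij)
    · intro h e he
      have h1 : PowerSeries.coeff (e j) (ev f) = 0 := by rw [h, map_zero]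
      rw [hev, Ideal.Quotient.eq_zero_iff_mem, Ideal.mem_span_singleton] at h1
      rwa [show Finsupp.single j (e j) = e from by
        ext k
        by_cases hk : k = j
        · subst hk; simp
        · rw [Finsupp.single_eq_of_ne hk, show k = i by omega, he]] at h1
  rw [this]
  exact RingHom.ker_isPrime _

/-- Polynomials in `(π, x_i)` as power series are there as polynomials. -/
theorem mem_span_C_X_of_co' {π : R} (i : Fin 2) {f : MvPolynomial (Fin 2) R}
    (h : co' f ∈ Ideal.span {MvPowerSeries.C π, MvPowerSeries.X i}) :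
    f ∈ Ideal.span {MvPolynomial.C π, MvPolynomial.X i} := by
  rw [f.as_sum]
  refine Ideal.sum_mem _ fun e _ => ?_
  by_cases he : e i = 0
  · obtain ⟨c, hc⟩ : π ∣ MvPolynomial.coeff e f := (mem_span_C_X_iff i (co' f)).1 h e he
    rw [hc, ← MvPolynomial.C_mul_monomial]
    exact Ideal.mul_mem_right _ _ (Ideal.subset_span (Set.mem_insert _ _))
  · obtain ⟨c, hc⟩ := (MvPolynomial.X_dvd_monomial (R := R) (r := MvPolynomial.coeff e f)).2 (Or.inr he)
    rw [hc]
    exact Ideal.mul_mem_right _ _ (Ideal.subset_span (Set.mem_insert_of_mem _ rfl))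

/-- The quotient of a complete noetherian local ring is complete. -/
theorem isAdicComplete_quotient [IsLocalRing R] [IsNoetherianRing R] [IsAdicComplete (maximalIdeal R) R]
    (I : Ideal R) [IsLocalRing (R ⧸ I)] : IsAdicComplete (maximalIdeal (R ⧸ I)) (R ⧸ I) := by
  have h := AdicRing.isAdicComplete_of_finite (maximalIdeal R) (R ⧸ I)
  have e : (maximalIdeal R).map (algebraMap R (R ⧸ I)) = maximalIdeal (R ⧸ I) := by
    refine IsLocalRing.eq_maximalIdeal ((Ideal.map_eq_top_or_isMaximal_of_surjective _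
      Ideal.Quotient.mk_surjective (IsLocalRing.maximalIdeal.isMaximal R)).resolve_left ?_)
    intro htop
    have := congrArg (Ideal.comap (algebraMap R (R ⧸ I))) htop
    rw [Ideal.comap_top, Ideal.Quotient.algebraMap_eq, Ideal.comap_map_of_surjective _ Ideal.Quotient.mk_surjective,
      ← RingHom.ker_eq_comap_bot, Ideal.mk_ker, sup_eq_left.2
        (IsLocalRing.le_maximalIdeal (fun hI => not_subsingleton (R ⧸ I) (Ideal.Quotient.subsingleton_iff.2 hI)))] at this
    exact (IsLocalRing.maximalIdeal.isMaximal R).ne_top this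
  rw [← e]
  exact (IsAdicComplete.map_algebraMap_iff (I := maximalIdeal R) (S := R ⧸ I) (M := R ⧸ I)).2 h

variable [IsDomain R] [IsLocalRing R] [IsNoetherianRing R] [IsAdicComplete (maximalIdeal R) R] {r π : R}

/-- The prime `(π, x y - r)` when `π` does not divide `r`. -/
theorem exists_prime_of_not_dvd (hr : r ∈ maximalIdeal R) (hπ : Prime π) (h : ¬ π ∣ r) :
    ∃ J : Ideal (MvPowerSeries (Fin 2) R), J.IsPrime ∧ g r ∈ J ∧ MvPowerSeries.C π ∈ J ∧
      J ≤ Ideal.span {MvPowerSeries.C π, g r} ∧
      ∀ f, co' f ∈ J → f ∈ Ideal.span {MvPolynomial.C π, gp r} := by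
  classical
  haveI : (Ideal.span {π}).IsPrime := (Ideal.span_singleton_prime hπ.ne_zero).2 hπ
  let S := R ⧸ Ideal.span {π}
  haveI : IsLocalRing S := IsLocalRing.of_surjective' (Ideal.Quotient.mk (Ideal.span {π})) Ideal.Quotient.mk_surjective
  haveI := isAdicComplete_quotient (Ideal.span {π})
  let m := Ideal.Quotient.mk (Ideal.span {π})
  have hm : ∀ a, m a = 0 ↔ π ∣ a := fun a => by rw [Ideal.Quotient.eq_zero_iff_mem, Ideal.mem_span_singleton]
  have hr' : m r ∈ maximalIdeal S := by
    intro hu
    obtain ⟨b, hb⟩ := hu.exists_right_inv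
    obtain ⟨b, rfl⟩ := Ideal.Quotient.mk_surjective b
    have hb' : π ∣ r * b - 1 := (hm _).1 (by rw [map_sub, map_mul, map_one, hb, sub_self])
    have h1 : r * b - 1 ∈ maximalIdeal R :=
      Ideal.mem_of_dvd _ hb' ((IsLocalRing.mem_maximalIdeal π).2 hπ.not_unit)
    exact (IsLocalRing.maximalIdeal.isMaximal R).ne_top ((Ideal.eq_top_iff_one _).2
      (by have := sub_mem (Ideal.mul_mem_right b _ hr) h1; rwa [sub_sub_cancel] at this))
  have hr0 : m r ≠ 0 := fun h0 => h ((hm r).1 h0)
  have hpr : (Ideal.span {g (m r)}).IsPrime := NodeDomain.isPrime_span hr' hr0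
  refine ⟨(Ideal.span {g (m r)}).comap (MvPowerSeries.map m), Ideal.IsPrime.comap _, ?_, ?_, ?_, ?_⟩
  · rw [Ideal.mem_comap, map_g]; exact Ideal.mem_span_singleton_self _
  · rw [Ideal.mem_comap, MvPowerSeries.map_C, (hm π).2 dvd_rfl, map_zero]; exact zero_mem _
  · intro f hf
    rw [Ideal.mem_comap, Ideal.mem_span_singleton] at hf
    obtain ⟨c, hc⟩ := hf
    choose k hk using fun e => Ideal.Quotient.mk_surjective (MvPowerSeries.coeff e c)
    let k' : MvPowerSeries (Fin 2) R := k
    have hk' : MvPowerSeries.map m k' = c := MvPowerSeries.ext fun e => by rw [MvPowerSeries.coeff_map]; exact hk e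
    have hz : ∀ e, π ∣ MvPowerSeries.coeff e (f - g r * k') := fun e => by
      rw [← hm, ← MvPowerSeries.coeff_map, map_sub, map_mul, map_g, hk', hc, sub_self, map_zero]
    choose q hq using hz
    let q' : MvPowerSeries (Fin 2) R := q
    have e1 : f - g r * k' = MvPowerSeries.C π * q' := MvPowerSeries.ext fun e => by
      rw [hq, MvPowerSeries.coeff_C_mul]; rfl
    rw [show f = MvPowerSeries.C π * q' + g r * k' by rw [← e1, sub_add_cancel]]
    exact add_mem (Ideal.mul_mem_right _ _ (Ideal.subset_span (Set.mem_insert _ _)))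
      (Ideal.mul_mem_right _ _ (Ideal.subset_span (Set.mem_insert_of_mem _ rfl)))
  · intro f hf
    rw [Ideal.mem_comap, Ideal.mem_span_singleton] at hf
    have hd : gp (m r) ∣ MvPolynomial.map m f := gp_dvd_of_g_dvd hr' (by
      rw [show co' (MvPolynomial.map m f) = MvPowerSeries.map m (co' f) from
        MvPowerSeries.ext fun e => by
          rw [MvPowerSeries.coeff_map]; exact MvPolynomial.coeff_map m f e]
      exact hf)
    obtain ⟨c, hc⟩ := hd
    obtain ⟨k, rfl⟩ := MvPolynomial.map_surjective m Ideal.Quotient.mk_surjective c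
    have : f - gp r * k ∈ RingHom.ker (MvPolynomial.map m) := by
      rw [RingHom.mem_ker, map_sub, map_mul, map_gp, hc, sub_self]
    rw [MvPolynomial.ker_map, Ideal.mk_ker, Ideal.map_span, Set.image_singleton] at this
    rw [show f = (f - gp r * k) + gp r * k by ring]
    exact add_mem (Ideal.span_mono (by simp) this)
      (Ideal.mul_mem_right _ _ (Ideal.subset_span (Set.mem_insert_of_mem _ rfl)))

/-- The admissible additional generators. -/
def Valid (r π : R) (T : Set (MvPolynomial (Fin 2) R)) : Prop :=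
  (¬ π ∣ r ∧ T = ∅) ∨ (π ∣ r ∧ ∃ i, T = {MvPolynomial.X i})

/-- The prime of the power series ring attached to admissible generators. -/
theorem exists_prime_of_valid (hr : r ∈ maximalIdeal R) (hπ : Prime π) {T : Set (MvPolynomial (Fin 2) R)}
    (hT : Valid r π T) :
    ∃ J : Ideal (MvPowerSeries (Fin 2) R), J.IsPrime ∧ g r ∈ J ∧ MvPowerSeries.C π ∈ J ∧ (∀ t ∈ T, co' t ∈ J) ∧
      J ≤ Ideal.span (insert (MvPowerSeries.C π) (insert (g r) (co' '' T))) ∧
      (∀ f, co' f ∈ J → f ∈ Ideal.span (insert (MvPolynomial.C π) (insert (gp r) T))) ∧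
      ∀ t ∈ T, ∃ t', t * t' ∈ Ideal.span {MvPolynomial.C π, gp r} ∧ co' t' ∉ J := by
  classical
  rcases hT with ⟨h, rfl⟩ | ⟨⟨c, hc⟩, i, rfl⟩
  · obtain ⟨J, hJ, h1, h2, h3, h4⟩ := exists_prime_of_not_dvd hr hπ h
    refine ⟨J, hJ, h1, h2, by simp, h3.trans (Ideal.span_mono (by simp)),
      fun f hf => Ideal.span_mono (by simp) (h4 f hf), by simp⟩
  · obtain ⟨j, hij, hX, hXp⟩ : ∃ j, i ≠ j ∧
        (MvPowerSeries.X i * MvPowerSeries.X j : MvPowerSeries (Fin 2) R) = MvPowerSeries.X 0 * MvPowerSeries.X 1 ∧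
        (MvPolynomial.X i * MvPolynomial.X j : MvPolynomial (Fin 2) R) = MvPolynomial.X 0 * MvPolynomial.X 1 := by
      fin_cases i
      · exact ⟨1, by simp, rfl, rfl⟩
      · exact ⟨0, by simp, mul_comm _ _, mul_comm _ _⟩
    refine ⟨Ideal.span {MvPowerSeries.C π, MvPowerSeries.X i}, isPrime_span_C_X hπ i j hij, ?_,
      Ideal.subset_span (Set.mem_insert _ _), ?_, ?_, ?_, ?_⟩
    · rw [g, ← hX, hc, map_mul]
      exact sub_mem (Ideal.mul_mem_right _ _ (Ideal.subset_span (Set.mem_insert_of_mem _ rfl)))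
        (Ideal.mul_mem_right _ _ (Ideal.subset_span (Set.mem_insert _ _)))
    · rintro t rfl
      rw [co'_X]
      exact Ideal.subset_span (Set.mem_insert_of_mem _ rfl)
    · refine Ideal.span_mono ?_
      rw [Set.image_singleton, co'_X]
      exact Set.insert_subset_insert (Set.subset_insert _ _)
    · exact fun f hf => Ideal.span_mono (Set.insert_subset_insert (Set.subset_insert _ _)) (mem_span_C_X_of_co' i hf)
    · rintro t rfl
      refine ⟨MvPolynomial.X j, ?_, fun hj => hπ.not_unit (isUnit_of_dvd_one ?_)⟩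
      · refine Ideal.mem_span_pair.2 ⟨MvPolynomial.C c, 1, ?_⟩
        rw [hXp, gp, hc, map_mul]; ring
      · have := (mem_span_C_X_iff i _).1 hj (Finsupp.single j 1) (Finsupp.single_eq_of_ne hij)
        rwa [co'_X, MvPowerSeries.coeff_X, if_pos rfl] at this

/-- Admissible generators inside a given prime. -/
theorem exists_valid {S : Type u} [CommRing S] (ψ : MvPolynomial (Fin 2) R →+* S) (hg : ψ (gp r) = 0)
    (Q : Ideal S) [Q.IsPrime] (hQ : ψ (MvPolynomial.C π) ∈ Q) : ∃ T, Valid r π T ∧ ∀ t ∈ T, ψ t ∈ Q := by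
  by_cases h : π ∣ r
  · obtain ⟨c, hc⟩ := h
    have hxy : ψ (MvPolynomial.X 0) * ψ (MvPolynomial.X 1) ∈ Q := by
      rw [← map_mul, show (MvPolynomial.X 0 * MvPolynomial.X 1 : MvPolynomial (Fin 2) R) =
        gp r + MvPolynomial.C π * MvPolynomial.C c by rw [← map_mul, ← hc, gp, sub_add_cancel],
        map_add, hg, zero_add, map_mul]
      exact Q.mul_mem_right _ hQ
    rcases Ideal.IsPrime.mem_or_mem ‹_› hxy with h0 | h1
    · exact ⟨{MvPolynomial.X 0}, Or.inr ⟨⟨c, hc⟩, 0, rfl⟩, by rintro t rfl; exact h0⟩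
    · exact ⟨{MvPolynomial.X 1}, Or.inr ⟨⟨c, hc⟩, 1, rfl⟩, by rintro t rfl; exact h1⟩
  · exact ⟨∅, Or.inl ⟨h, rfl⟩, by simp⟩

end Groth.Agent.CommAlg4.NodeCompletion
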