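import Groth.Agent.S7924
import Groth.Agent.CommAlg6.CompletionQuot
import Mathlib.RingTheory.Flat.EquationalCriterion
import Mathlib.RingTheory.MvPowerSeries.Equiv

/-! Flat deformations of a node are hyperbolas. -/

set_option autoImplicit false
set_option linter.all false
universe u

open IsLocalRing

namespace Groth.Agent.CommAlg4.NodeFlat

theorem ker_map_le {σ : Type*} {Λ K : Type u} [CommRing Λ] [CommRing K] (h : Λ →+* K) (I : Ideal Λ)
    (hI : I.FG) (hker : RingHom.ker h ≤ I) :
    RingHom.ker (MvPowerSeries.map (σ := σ) h) ≤ I.map MvPowerSeries.C := by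
  classical
  obtain ⟨s, hs⟩ := hI
  intro f hf
  have hmem : ∀ e, ∃ c : s → Λ, ∑ j, c j * (j : Λ) = MvPowerSeries.coeff e f := fun e => by
    have h1 : MvPowerSeries.coeff e f ∈ Ideal.span (Set.range ((↑) : s → Λ)) := by
      rw [Subtype.range_coe_subtype, show {x | x ∈ s} = (s : Set Λ) from rfl]
      exact hs.ge (hker (by rw [RingHom.mem_ker, ← MvPowerSeries.coeff_map, RingHom.mem_ker.mp hf, map_zero]))
    obtain ⟨c, hc⟩ := (Ideal.mem_span_range_iff_exists_fun).1 h1
    exact ⟨c, hc⟩
  choose c hc using hmem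
  let g : s → MvPowerSeries σ Λ := fun j => fun e => c e j
  have hf' : f = ∑ j : s, g j * MvPowerSeries.C (j : Λ) := by
    refine MvPowerSeries.ext fun e => ?_
    rw [map_sum, ← hc e]
    exact Finset.sum_congr rfl fun j _ => by rw [MvPowerSeries.coeff_mul_C]; rfl
  rw [hf']
  exact Ideal.sum_mem _ fun j _ => Ideal.mul_mem_left _ _ (Ideal.mem_map_of_mem _ (hs ▸ Ideal.subset_span j.2))

/-- Elements of the kernel of a surjection to a flat algebra lying in `I S` lie in `I` times the kernel. -/
theorem mem_map_mul_ker {A S T : Type u} [CommRing A] [CommRing S] [CommRing T] [Algebra A S] [Algebra A T]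
    [Module.Flat A T] (ψ : S →ₐ[A] T) (hψ : Function.Surjective ψ) (I : Ideal A) {x : S}
    (hx : ψ x = 0) (hxI : x ∈ I.map (algebraMap A S)) :
    x ∈ I.map (algebraMap A S) * RingHom.ker ψ := by
  classical
  obtain ⟨l, a, c, ha, rfl⟩ : ∃ (l : ℕ) (a : Fin l → A) (c : Fin l → S), (∀ i, a i ∈ I) ∧
      x = ∑ i, algebraMap A S (a i) * c i := by
    clear hx
    induction hxI using Submodule.span_induction with
    | mem x hx =>
      obtain ⟨a, ha, rfl⟩ := hx
      exact ⟨1, fun _ => a, fun _ => 1, fun _ => ha, by simp⟩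
    | zero => exact ⟨0, Fin.elim0, Fin.elim0, fun i => i.elim0, by simp⟩
    | add x y _ _ hx hy =>
      obtain ⟨l, a, c, ha, rfl⟩ := hx
      obtain ⟨l', a', c', ha', rfl⟩ := hy
      refine ⟨l + l', Fin.append a a', Fin.append c c', fun i => ?_, ?_⟩
      · refine Fin.addCases (fun i => ?_) (fun i => ?_) i <;> simp [ha, ha']
      · simp [Fin.sum_univ_add]
    | smul s x _ hx =>
      obtain ⟨l, a, c, ha, rfl⟩ := hx
      exact ⟨l, a, fun i => s * c i, ha, by simp [Finset.mul_sum, mul_left_comm]⟩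
  have h0 : ∑ i, a i • ψ (c i) = 0 := by
    simpa [map_sum, Algebra.smul_def] using hx
  obtain ⟨m, r, y, hy, hr⟩ := Module.Flat.isTrivialRelation_of_sum_smul_eq_zero (R := A) (M := T) h0
  choose d hd using fun j => hψ (y j)
  have hd0 : ∀ i, c i - ∑ j, algebraMap A S (r i j) * d j ∈ RingHom.ker ψ := fun i => by
    rw [RingHom.mem_ker, map_sub, map_sum, show ψ (c i) = _ from hy i, sub_eq_zero]
    simp [Algebra.smul_def, hd]
  have e : ∑ i, algebraMap A S (a i) * c i =
      ∑ i, algebraMap A S (a i) * (c i - ∑ j, algebraMap A S (r i j) * d j) := by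
    simp only [mul_sub, Finset.sum_sub_distrib, Finset.mul_sum, ← mul_assoc, ← map_mul]
    rw [Finset.sum_comm]
    simp only [← Finset.sum_mul, ← map_sum, hr, map_zero, zero_mul, Finset.sum_const_zero, sub_zero]
  rw [e]
  exact Ideal.sum_mem _ fun i _ => Ideal.mul_mem_mul (Ideal.mem_map_of_mem _ (ha i)) (hd0 i)

theorem exists_equiv (A B : Type u) [CommRing A] [IsLocalRing A] [IsNoetherianRing A]
    [CommRing B] [IsLocalRing B] [IsNoetherianRing B] [Algebra A B] [IsLocalHom (algebraMap A B)]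
    (hres : Function.Bijective (IsLocalRing.ResidueField.map (algebraMap A B)))
    (u v : B) (hu : u ∈ IsLocalRing.maximalIdeal B) (hv : v ∈ IsLocalRing.maximalIdeal B)
    (huv : u * v ∈ (IsLocalRing.maximalIdeal A).map (algebraMap A B))
    (hgen : IsLocalRing.maximalIdeal B = Ideal.span {u, v} ⊔ (IsLocalRing.maximalIdeal A).map (algebraMap A B))
    [Module.Flat A B]
    (efib : AdicCompletion ((IsLocalRing.maximalIdeal B).map (Ideal.Quotient.mk
          ((IsLocalRing.maximalIdeal A).map (algebraMap A B))))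
          (B ⧸ (IsLocalRing.maximalIdeal A).map (algebraMap A B)) ≃+*
        (MvPowerSeries (Fin 2) (IsLocalRing.ResidueField A) ⧸
          Ideal.span {(MvPowerSeries.X 0 * MvPowerSeries.X 1 : MvPowerSeries (Fin 2) (IsLocalRing.ResidueField A))})) :
    ∃ (α : AdicCompletion (IsLocalRing.maximalIdeal A) A)
      (_ : α ∈ (IsLocalRing.maximalIdeal A).map (algebraMap A (AdicCompletion (IsLocalRing.maximalIdeal A) A)))
      (ψ : (MvPowerSeries (Fin 2) (AdicCompletion (IsLocalRing.maximalIdeal A) A) ⧸ Ideal.span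
          {(MvPowerSeries.X 0 * MvPowerSeries.X 1 -
            MvPowerSeries.C α :
              MvPowerSeries (Fin 2) (AdicCompletion (IsLocalRing.maximalIdeal A) A))}) ≃ₐ[A]
        AdicCompletion (IsLocalRing.maximalIdeal B) B),
      ψ (Ideal.Quotient.mk _ (MvPowerSeries.X 0)) -
            algebraMap B (AdicCompletion (IsLocalRing.maximalIdeal B) B) u ∈
          (IsLocalRing.maximalIdeal A).map (algebraMap A (AdicCompletion (IsLocalRing.maximalIdeal B) B)) ∧
        ψ (Ideal.Quotient.mk _ (MvPowerSeries.X 1)) -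
            algebraMap B (AdicCompletion (IsLocalRing.maximalIdeal B) B) v ∈
          (IsLocalRing.maximalIdeal A).map (algebraMap A (AdicCompletion (IsLocalRing.maximalIdeal B) B)) := by
  classical
  obtain ⟨α, hα, ψ, hψ, h0, h1⟩ := Groth.Agent.S7924.result A B hres u v hu hv huv hgen
  suffices hinj : Function.Injective ψ from ⟨α, hα, AlgEquiv.ofBijective ψ ⟨hinj, hψ⟩, h0, h1⟩
  let mA := maximalIdeal A
  let Ah := AdicCompletion mA A
  let Bh := AdicCompletion (maximalIdeal B) B
  let P := MvPowerSeries (Fin 2) Ah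
  let e : P := MvPowerSeries.X 0 * MvPowerSeries.X 1 - MvPowerSeries.C α
  let C := P ⧸ Ideal.span {e}
  haveI : IsNoetherianRing Ah := Matlis6.isNoetherianRing_adicCompletion mA
  haveI : IsNoetherianRing Bh := Matlis6.isNoetherianRing_adicCompletion _
  haveI : Module.Flat A Bh := Module.Flat.trans A B Bh
  let J : Ideal Bh := mA.map (algebraMap A Bh)
  -- the fibre of the completion
  let I₀ := mA.map (algebraMap A B)
  let π := Ideal.Quotient.mk I₀
  haveI : Nontrivial (B ⧸ I₀) := Ideal.Quotient.nontrivial_iff.2 fun h =>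
    (maximalIdeal.isMaximal B).ne_top (top_le_iff.1 (h ▸ map_maximalIdeal_le _))
  haveI : IsLocalRing (B ⧸ I₀) := .of_surjective' π Ideal.Quotient.mk_surjective
  haveI : IsLocalHom π := IsLocalHom.of_surjective _ Ideal.Quotient.mk_surjective
  have hmB : (maximalIdeal B).map π = maximalIdeal (B ⧸ I₀) := by
    have hc : (maximalIdeal (B ⧸ I₀)).comap π = maximalIdeal B :=
      ((IsLocalRing.local_hom_TFAE π).out 0 4).mp ‹IsLocalHom π›
    rw [← hc, Ideal.map_comap_of_surjective _ Ideal.Quotient.mk_surjective]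
  obtain ⟨eBh, -⟩ := CommAlg6.completion_quotient_algEquiv π Ideal.Quotient.mk_surjective
  obtain ⟨eD⟩ : Nonempty (AdicCompletion (maximalIdeal (B ⧸ I₀)) (B ⧸ I₀) ≃+*
      (MvPowerSeries (Fin 2) (ResidueField A) ⧸
        Ideal.span {(MvPowerSeries.X 0 * MvPowerSeries.X 1 : MvPowerSeries (Fin 2) (ResidueField A))})) := by
    rw [← hmB]; exact ⟨efib⟩
  have hJ : J = (RingHom.ker π).map (algebraMap B Bh) := by
    show mA.map (algebraMap A Bh) = _
    rw [Ideal.mk_ker, IsScalarTower.algebraMap_eq A B Bh, ← Ideal.map_map]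
  let eF : (Bh ⧸ J) ≃+* _ := ((Ideal.quotEquivOfEq hJ).trans eBh).trans eD
  -- the fibre of `C`
  let r : Ah →+* ResidueField A := (AdicCompletion.evalOneₐ mA).toRingHom
  have hr : Function.Surjective r := AdicCompletion.evalOneₐ_surjective mA
  have hrker : RingHom.ker r = mA.map (algebraMap A Ah) :=
    AdicCompletion.ker_evalOneₐ_eq_map mA (IsNoetherian.noetherian _)
  let D := MvPowerSeries (Fin 2) (ResidueField A) ⧸
    Ideal.span {(MvPowerSeries.X 0 * MvPowerSeries.X 1 : MvPowerSeries (Fin 2) (ResidueField A))}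
  let q : P →+* D := (Ideal.Quotient.mk _).comp (MvPowerSeries.map r)
  have hmap : Function.Surjective (MvPowerSeries.map (σ := Fin 2) r) := fun f => by
    choose g hg using fun e => hr (MvPowerSeries.coeff e f)
    let gg : MvPowerSeries (Fin 2) Ah := fun e => g e
    exact ⟨gg, MvPowerSeries.ext fun e => (MvPowerSeries.coeff_map r e gg).trans (hg e)⟩
  have hq : Function.Surjective q := Ideal.Quotient.mk_surjective.comp hmap
  let JC : Ideal C := mA.map (algebraMap A C)
  let p : P →+* C ⧸ JC := (Ideal.Quotient.mk JC).comp (Ideal.Quotient.mk (Ideal.span {e}))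
  have halg : ∀ a : A, algebraMap A C a =
      Ideal.Quotient.mk (Ideal.span {e}) (MvPowerSeries.C (algebraMap A Ah a)) := fun a =>
    congrArg (Ideal.Quotient.mk (Ideal.span {e})) (IsScalarTower.algebraMap_apply A Ah P a)
  have hCle : mA.map (algebraMap A Ah) ≤ RingHom.ker (p.comp MvPowerSeries.C) :=
    Ideal.map_le_iff_le_comap.2 fun a ha => RingHom.mem_ker.2
      (Ideal.Quotient.eq_zero_iff_mem.2 (halg a ▸ Ideal.mem_map_of_mem (algebraMap A C) ha))
  have hCm : ∀ z ∈ mA.map (algebraMap A Ah), p (MvPowerSeries.C z) = 0 := fun z hz =>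
    RingHom.mem_ker.1 (hCle hz)
  have hqp : RingHom.ker q ≤ RingHom.ker p := fun f hf => by
    have hf' : MvPowerSeries.map r f ∈
        Ideal.span {(MvPowerSeries.X 0 * MvPowerSeries.X 1 : MvPowerSeries (Fin 2) (ResidueField A))} :=
      Ideal.Quotient.eq_zero_iff_mem.1 hf
    obtain ⟨w, hw⟩ := Ideal.mem_span_singleton'.1 hf'
    obtain ⟨w', rfl⟩ := hmap w
    have h2 : f - w' * (MvPowerSeries.X 0 * MvPowerSeries.X 1) ∈ RingHom.ker (MvPowerSeries.map (σ := Fin 2) r) := by
      rw [RingHom.mem_ker, map_sub, map_mul, map_mul, MvPowerSeries.map_X, MvPowerSeries.map_X, hw, sub_self]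
    have hker : RingHom.ker (MvPowerSeries.map (σ := Fin 2) r) ≤ RingHom.ker p := by
      refine (ker_map_le r (mA.map (algebraMap A Ah)) (IsNoetherian.noetherian _) hrker.le).trans ?_
      rw [Ideal.map_le_iff_le_comap]
      exact fun z hz => hCm z hz
    have h3 := hker h2
    have h4 : p e = 0 := by
      show Ideal.Quotient.mk JC _ = 0
      rw [Ideal.Quotient.eq_zero_iff_mem.2 (Ideal.mem_span_singleton_self e), map_zero]
    rw [RingHom.mem_ker] at h3 ⊢
    rw [show f = (f - w' * (MvPowerSeries.X 0 * MvPowerSeries.X 1)) + w' * (e + MvPowerSeries.C α) by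
      simp [e], map_add, h3, map_mul, map_add, h4, hCm α hα]
    simp only [add_zero, zero_add]
    exact mul_zero (p w')
  let θ : D →+* C ⧸ JC := RingHom.liftOfSurjective q hq ⟨p, hqp⟩
  have hθ : Function.Surjective θ := fun y => by
    obtain ⟨y, rfl⟩ := Ideal.Quotient.mk_surjective y
    obtain ⟨y, rfl⟩ := Ideal.Quotient.mk_surjective y
    exact ⟨q y, RingHom.liftOfRightInverse_comp_apply q _ (Function.rightInverse_surjInv hq) ⟨p, hqp⟩ y⟩
  let ψ' : C ⧸ JC →+* Bh ⧸ J := Ideal.quotientMap J ψ.toRingHom (by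
    rw [← Ideal.map_le_iff_le_comap, Ideal.map_map]
    show mA.map _ ≤ mA.map _
    rw [AlgHom.toRingHom_eq_coe, AlgHom.comp_algebraMap])
  have hψ' : Function.Surjective ψ' := Ideal.quotientMap_surjective hψ
  haveI : IsNoetherianRing D := inferInstance
  have hend := CAlgH.AdicSmooth.injective_of_surjective_ringEndo (eF.toRingHom.comp (ψ'.comp θ))
    (eF.surjective.comp (hψ'.comp hθ))
  have hψi : Function.Injective ψ' := fun a b h => by
    obtain ⟨a, rfl⟩ := hθ a
    obtain ⟨b, rfl⟩ := hθ b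
    exact congrArg θ (hend (congrArg eF h))
  -- Nakayama
  let K : Ideal C := RingHom.ker ψ
  haveI : IsNoetherianRing C := inferInstance
  have hKJ : K ≤ JC • K := fun x hx => by
    rw [smul_eq_mul]
    refine mem_map_mul_ker ψ hψ mA hx (Ideal.Quotient.eq_zero_iff_mem.1 (hψi ?_))
    rw [map_zero]
    show Ideal.Quotient.mk J (ψ x) = 0
    rw [RingHom.mem_ker.1 hx, map_zero]
  have hJC : JC ≤ Ideal.jacobson ⊥ := by
    intro x hx
    rw [Ideal.mem_jacobson_bot]
    intro y
    obtain ⟨y, rfl⟩ := Ideal.Quotient.mk_surjective y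
    have hle : JC ≤ ((mA.map (algebraMap A Ah)).map (MvPowerSeries.C (σ := Fin 2))).map
        (Ideal.Quotient.mk (Ideal.span {e})) :=
      Ideal.map_le_iff_le_comap.2 fun a ha => by
        rw [Ideal.mem_comap, halg]
        exact Ideal.mem_map_of_mem _ (Ideal.mem_map_of_mem _ (Ideal.mem_map_of_mem (algebraMap A Ah) ha))
    replace hx := hle hx
    obtain ⟨x', hx', hxx⟩ := (Ideal.mem_map_iff_of_surjective _ Ideal.Quotient.mk_surjective).1 hx
    rw [← hxx, ← map_mul, ← map_one (Ideal.Quotient.mk (Ideal.span {e})), ← map_add]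
    refine IsUnit.map _ (MvPowerSeries.isUnit_iff_constantCoeff.2 ?_)
    have hx0 : MvPowerSeries.constantCoeff x' ∈ maximalIdeal Ah := by
      have := Ideal.mem_map_of_mem MvPowerSeries.constantCoeff hx'
      rwa [Ideal.map_map, show (MvPowerSeries.constantCoeff (σ := Fin 2) (R := Ah)).comp MvPowerSeries.C = RingHom.id Ah from
        RingHom.ext fun a => (RingHom.comp_apply _ _ a).trans (MvPowerSeries.constantCoeff_C a), Ideal.map_id, ← AdicCompletion.maximalIdeal_eq_map] at this
    rw [map_add, map_mul, map_one]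
    exact isUnit_of_map_unit (IsLocalRing.residue Ah) _ (by
      rw [map_add, map_mul, map_one, (IsLocalRing.residue_eq_zero_iff _).2 hx0, zero_mul, zero_add]
      exact isUnit_one)
  have hK : K = ⊥ := Submodule.eq_bot_of_le_smul_of_le_jacobson_bot JC K (IsNoetherian.noetherian _) hKJ hJC
  exact (RingHom.injective_iff_ker_eq_bot ψ).2 hK

end Groth.Agent.CommAlg4.NodeFlat
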