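import Groth.Agent.CommAlg4.NodeFlat
import Groth.Agent.CommAlg4.ASInvolution
import Groth.Agent.KumLib.InvFun
import Mathlib.RingTheory.MvPowerSeries.Rename
import Mathlib.RingTheory.Flat.FaithfullyFlat.Algebra

/-! Involutions of flat deformations of a node which do not exchange the branches. -/

set_option autoImplicit false
universe u

open IsLocalRing

namespace Groth.Agent.CommAlg4.NodeInvolution

section PS

variable {A : Type u} [CommRing A] [IsLocalRing A] [IsNoetherianRing A]

/-- `X * B + N` is a non-zero-divisor when `B` is a unit and `N` has coefficients in the maximal ideal. -/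
theorem eq_zero_of_mul_eq_zero (z B N : PowerSeries A) (hB : IsUnit B)
    (hN : PowerSeries.map (residue A) N = 0) (h : z * (PowerSeries.X * B + N) = 0) : z = 0 := by
  obtain ⟨c, hc⟩ := hB.exists_right_inv
  have hN' : ∀ n, PowerSeries.coeff n (N * c) ∈ maximalIdeal A := fun n => by
    rw [← residue_eq_zero_iff, ← PowerSeries.coeff_map, map_mul, hN, zero_mul, map_zero]
  have hz : z * PowerSeries.X = -(z * (N * c)) := by
    linear_combination c * h - (z * PowerSeries.X) * hc
  have key : ∀ j n, PowerSeries.coeff n z ∈ maximalIdeal A ^ j := by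
    intro j
    induction j with
    | zero => intro n; simp
    | succ j ih =>
      intro n
      have h1 := congrArg (PowerSeries.coeff (n + 1)) hz
      rw [PowerSeries.coeff_succ_mul_X, map_neg, PowerSeries.coeff_mul] at h1
      rw [h1, pow_succ]
      exact neg_mem (sum_mem fun p _ => Ideal.mul_mem_mul (ih _) (hN' _))
  refine PowerSeries.ext fun n => ?_
  rw [map_zero, ← Ideal.mem_bot, ← Ideal.iInf_pow_eq_bot_of_isLocalRing (maximalIdeal A) (maximalIdeal.isMaximal A).ne_top]
  exact Submodule.mem_iInf _ |>.2 fun j => key j n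

end PS

section Branch

variable {R S A : Type u} [CommRing R] [IsLocalRing R] [CommRing S] [IsLocalRing S] [Algebra R S]
  [CommRing A] [IsLocalRing A] [IsNoetherianRing A] [Algebra R A]

variable (hA : Function.Surjective (algebraMap R A)) (χ : S →ₐ[R] PowerSeries A)

include hA in
theorem map_residue_zero_of_mem {s : S} (hs : s ∈ (maximalIdeal R).map (algebraMap R S)) :
    PowerSeries.map (residue A) (χ s) = 0 := by
  have : (maximalIdeal R).map (algebraMap R S) ≤
      RingHom.ker ((PowerSeries.map (residue A)).comp χ.toRingHom) := by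
    rw [Ideal.map_le_iff_le_comap]
    intro r hr
    have hrA : residue A (algebraMap R A r) = 0 := by
      rw [residue_eq_zero_iff, mem_maximalIdeal]
      intro hu
      haveI : IsLocalHom (algebraMap R A) := IsLocalHom.of_surjective _ hA
      exact (mem_maximalIdeal _).1 hr ((isUnit_map_iff (algebraMap R A) r).1 hu)
    rw [Ideal.mem_comap, RingHom.mem_ker]
    show PowerSeries.map (residue A) (χ (algebraMap R S r)) = 0
    rw [χ.commutes]
    refine PowerSeries.ext fun n => ?_
    rw [PowerSeries.coeff_map, PowerSeries.algebraMap_apply, map_zero, PowerSeries.coeff_C]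
    split_ifs <;> simp [hrA]
  exact this hs

variable (x y : S) (hχ : Function.Surjective χ) (hker : ∀ s, χ s = 0 → x ∣ s) (hx : χ x = 0)
  (hy : χ y = PowerSeries.X)

include hA hχ hker hx hy in
theorem span_sup_mem_minimalPrimes (hxy : x * y ∈ (maximalIdeal R).map (algebraMap R S)) :
    Ideal.span {x} ⊔ (maximalIdeal R).map (algebraMap R S) ∈
      ((maximalIdeal R).map (algebraMap R S)).minimalPrimes := by
  let I := (maximalIdeal R).map (algebraMap R S)
  let q : S →+* PowerSeries (ResidueField A) := (PowerSeries.map (residue A)).comp χ.toRingHom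
  have hq : ∀ s, q s = PowerSeries.map (residue A) (χ s) := fun _ => rfl
  have hkq : RingHom.ker q = Ideal.span {x} ⊔ I := by
    refine le_antisymm (fun s hs => ?_) (sup_le ?_ fun s hs => map_residue_zero_of_mem hA χ hs)
    · have h1 : χ s ∈ (maximalIdeal A).map (MvPowerSeries.C : A →+* PowerSeries A) :=
        NodeFlat.ker_map_le (σ := Unit) (residue A) _ (IsNoetherian.noetherian _) (by rw [ker_residue])
          (RingHom.mem_ker.2 hs)
      have h2 : (maximalIdeal A).map (MvPowerSeries.C : A →+* PowerSeries A) ≤ I.map χ := by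
        rw [Ideal.map_le_iff_le_comap]
        intro a ha
        obtain ⟨r, rfl⟩ := hA a
        have hr : r ∈ maximalIdeal R := fun hu => (mem_maximalIdeal _).1 ha (hu.map _)
        rw [Ideal.mem_comap]
        show MvPowerSeries.C (algebraMap R A r) ∈ _
        rw [← MvPowerSeries.algebraMap_apply, ← χ.commutes r]
        exact Ideal.mem_map_of_mem _ (Ideal.mem_map_of_mem _ hr)
      obtain ⟨w, hw, hws⟩ := (Ideal.mem_map_iff_of_surjective _ hχ).1 (h2 h1)
      obtain ⟨c, hc⟩ := hker (s - w) (by rw [map_sub, hws, sub_self])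
      rw [show s = w + x * c by rw [← hc]; ring]
      exact add_mem (Ideal.mem_sup_right hw)
        (Ideal.mem_sup_left (Ideal.mem_span_singleton'.2 ⟨c, mul_comm _ _⟩))
    · rw [Ideal.span_singleton_le_iff_mem, RingHom.mem_ker, hq, hx, map_zero]
  show Ideal.span {x} ⊔ I ∈ _
  refine ⟨⟨hkq ▸ RingHom.ker_isPrime q, le_sup_right⟩, fun Q hQ hle => ?_⟩
  refine sup_le ((Ideal.span_singleton_le_iff_mem _).2 ?_) hQ.2
  rcases hQ.1.mem_or_mem (hQ.2 hxy) with h | h
  · exact h
  · have : q y = 0 := RingHom.mem_ker.1 (hkq.ge (hle h))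
    rw [hq, hy, PowerSeries.map_X] at this
    exact absurd this PowerSeries.X_ne_zero

include hA hker hx hy in
theorem dvd_apply_of_branch (σ : S ≃ₐ[R] S) (hσ : ∀ s, σ (σ s) = s)
    (hxy : σ (x * y) = x * y)
    (hσy : σ y ∈ Ideal.span {y} ⊔ (maximalIdeal R).map (algebraMap R S)) : x ∣ σ x := by
  let I := (maximalIdeal R).map (algebraMap R S)
  have hσI : ∀ s ∈ I, σ s ∈ I := by
    have : I ≤ I.comap (σ : S →+* S) := by
      rw [Ideal.map_le_iff_le_comap]
      intro r hr
      rw [Ideal.mem_comap, Ideal.mem_comap]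
      show σ (algebraMap R S r) ∈ I
      rw [σ.commutes]
      exact Ideal.mem_map_of_mem _ hr
    exact fun s hs => this hs
  obtain ⟨p, hp, n, hn, hpn⟩ := Submodule.mem_sup.1 hσy
  obtain ⟨b, rfl⟩ := Ideal.mem_span_singleton'.1 hp
  have hb : IsUnit b := by
    by_contra hb
    have hu : IsUnit (1 - σ b * b) := isUnit_one_sub_self_of_mem_nonunits _ fun h =>
      hb (isUnit_of_mul_isUnit_right h)
    obtain ⟨c, hc⟩ := hu.exists_left_inv
    have e0 := congrArg σ hpn.symm
    rw [hσ, map_add, map_mul] at e0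
    have e : y = c * (σ b * n + σ n) := by linear_combination c * e0 - (c * σ b) * hpn - y * hc
    have hy0 := map_residue_zero_of_mem hA χ (s := y)
      (e ▸ Ideal.mul_mem_left _ _ (add_mem (Ideal.mul_mem_left _ _ hn) (hσI n hn)))
    rw [hy, PowerSeries.map_X] at hy0
    exact PowerSeries.X_ne_zero hy0
  refine hker _ (eq_zero_of_mul_eq_zero _ (χ b) (χ n) (hb.map χ) (map_residue_zero_of_mem hA χ hn) ?_)
  rw [← hy, mul_comm (χ y), ← map_mul, ← map_add, hpn, ← map_mul, ← map_mul, hxy, map_mul, hx, zero_mul]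

end Branch

section Node

open MvPowerSeries

variable {R : Type u} [CommRing R]

/-- the node ring `R[[X, Y]]/(XY - t)` -/
abbrev Node (t : R) : Type u :=
  MvPowerSeries (Fin 2) R ⧸ Ideal.span {(X 0 * X 1 - C t : MvPowerSeries (Fin 2) R)}

theorem exists_axis (t : R) (i j : Fin 2) (hij : i ≠ j) :
    ∃ χ : Node t →ₐ[R] PowerSeries (R ⧸ Ideal.span {t}), Function.Surjective χ ∧
      χ (Ideal.Quotient.mk _ (X i)) = 0 ∧ χ (Ideal.Quotient.mk _ (X j)) = PowerSeries.X ∧
      ∀ z, χ z = 0 → Ideal.Quotient.mk _ (X i) ∣ z := by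
  classical
  let e : Unit ↪ Fin 2 := ⟨fun _ => j, fun _ _ _ => rfl⟩
  let q := Ideal.Quotient.mkₐ R (Ideal.span {t})
  let χ0 : MvPowerSeries (Fin 2) R →ₐ[R] PowerSeries (R ⧸ Ideal.span {t}) :=
    (mapAlgHom (σ := Unit) q).comp (killCompl e)
  have hcoeff : ∀ (f : MvPowerSeries (Fin 2) R) (m : Unit →₀ ℕ),
      coeff m (χ0 f) = Ideal.Quotient.mk _ (coeff (m.embDomain e) f) := fun f m => by
    show coeff m (MvPowerSeries.map q.toRingHom (killCompl e f)) = _
    rw [coeff_map, coeff_killCompl]; rfl
  have hXi : χ0 (X i) = 0 := by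
    refine MvPowerSeries.ext fun m => ?_
    rw [hcoeff, coeff_X, if_neg, map_zero, map_zero]
    intro h
    have h' := congrArg (fun v => v i) h
    rw [Finsupp.embDomain_notin_range _ _ _ (by rintro ⟨_, rfl⟩; exact hij rfl)] at h'
    simp at h'
  have hXj : χ0 (X j) = PowerSeries.X := by
    refine MvPowerSeries.ext fun m => ?_
    rw [hcoeff, coeff_X, PowerSeries.X, coeff_X, show Finsupp.single j 1 = (Finsupp.single () 1).embDomain e by
      rw [Finsupp.embDomain_single]; rfl]
    simp only [(Finsupp.embDomain_injective e).eq_iff]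
    split_ifs <;> simp
  have hX01 : ∀ i j : Fin 2, i ≠ j → (X i * X j : MvPowerSeries (Fin 2) R) = X 0 * X 1 := by
    intro i j h
    fin_cases i <;> fin_cases j <;> first | exact absurd rfl h | simp [mul_comm]
  have hG : χ0 (X 0 * X 1 - C t) = 0 := by
    rw [map_sub, ← hX01 i j hij, map_mul, hXi, zero_mul, c_eq_algebraMap, AlgHom.commutes,
      IsScalarTower.algebraMap_apply R (R ⧸ Ideal.span {t}) (PowerSeries (R ⧸ Ideal.span {t}))]
    simp [Ideal.Quotient.algebraMap_eq, Ideal.Quotient.eq_zero_iff_mem.2 (Ideal.mem_span_singleton_self t)]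
  refine ⟨Ideal.Quotient.liftₐ _ χ0 fun a ha => ?_, ?_, hXi, hXj, fun z hz => ?_⟩
  · obtain ⟨c, rfl⟩ := Ideal.mem_span_singleton'.1 ha
    rw [map_mul, hG, mul_zero]
  · intro g
    choose c hc using fun m : Unit →₀ ℕ => Ideal.Quotient.mk_surjective (coeff m g)
    let f : MvPowerSeries (Fin 2) R := fun m => c (Finsupp.single () (m j))
    refine ⟨Ideal.Quotient.mk _ f, MvPowerSeries.ext fun m => ?_⟩
    refine (hcoeff f m).trans (Eq.trans ?_ (hc m))
    congr 1
    show c (Finsupp.single () (m.embDomain e j)) = c m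
    congr 1
    ext
    show Finsupp.single () (m.embDomain e j) () = m ()
    rw [Finsupp.single_eq_same]
    exact Finsupp.embDomain_apply_self e m ()
  · obtain ⟨f, rfl⟩ := Ideal.Quotient.mk_surjective z
    have hax : ∀ m : Fin 2 →₀ ℕ, m i = 0 → ∃ c, coeff m f = c * t := by
      intro m hm
      have hme : m = (Finsupp.single () (m j)).embDomain e := by
        rw [Finsupp.embDomain_single]
        show m = Finsupp.single j (m j)
        ext l
        by_cases hl : l = j
        · subst hl; simp
        · have : l = i := by fin_cases i <;> fin_cases j <;> fin_cases l <;> simp_all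
          subst this
          simp [hm, hl]
      have h := hcoeff f (Finsupp.single () (m j))
      rw [← hme, show χ0 f = 0 from hz, map_zero, eq_comm, Ideal.Quotient.eq_zero_iff_mem,
        Ideal.mem_span_singleton'] at h
      exact h.imp fun _ => Eq.symm
    choose c hc using hax
    let g : MvPowerSeries (Fin 2) R := fun m => if h : m i = 0 then c m h else 0
    obtain ⟨a, ha⟩ : (X i : MvPowerSeries (Fin 2) R) ∣ f - C t * g := by
      rw [X_dvd_iff]
      intro m hm
      rw [map_sub, coeff_C_mul, show coeff m g = c m hm from dif_pos hm, hc m hm]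
      ring
    have hCt : Ideal.Quotient.mk (Ideal.span {(X 0 * X 1 - C t : MvPowerSeries (Fin 2) R)}) (C t) =
        Ideal.Quotient.mk _ (X i) * Ideal.Quotient.mk _ (X j) := by
      rw [← map_mul, hX01 i j hij, eq_comm, Ideal.Quotient.eq]
      exact Ideal.mem_span_singleton_self _
    refine ⟨Ideal.Quotient.mk _ a + Ideal.Quotient.mk _ (X j) * Ideal.Quotient.mk _ g, ?_⟩
    rw [mul_add, ← mul_assoc, ← hCt, ← map_mul, ← map_mul, ← map_add, ← ha, sub_add_cancel]

/-- rescaling the two coordinates of the node ring by units -/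
theorem exists_rescale [IsNoetherianRing R] (t : R) (P Q : MvPowerSeries (Fin 2) R)
    (hP : IsUnit P) (hQ : IsUnit Q)
    (h : Ideal.Quotient.mk (Ideal.span {(X 0 * X 1 - C t : MvPowerSeries (Fin 2) R)}) (X 0 * P * (X 1 * Q)) =
      Ideal.Quotient.mk _ (C t)) :
    ∃ Θ : Node t ≃ₐ[R] Node t, Θ (Ideal.Quotient.mk _ (X 0)) = Ideal.Quotient.mk _ (X 0 * P) ∧
      Θ (Ideal.Quotient.mk _ (X 1)) = Ideal.Quotient.mk _ (X 1 * Q) := by
  let w : Fin 2 → MvPowerSeries (Fin 2) R := ![P, Q]
  have hw : ∀ i, IsUnit (constantCoeff (w i)) := fun i => by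
    fin_cases i
    exacts [hP.map constantCoeff, hQ.map constantCoeff]
  have hs : HasSubst (fun i => X i * w i) := hasSubst_of_constantCoeff_zero fun i => by simp
  let F : MvPowerSeries (Fin 2) R →ₐ[R] MvPowerSeries (Fin 2) R := substAlgHom hs
  have hF : Function.Surjective F := by
    rw [coe_substAlgHom]
    exact (KumLib.subst_bijective_of_X_mul w hw).2
  have hFX : ∀ i, F (X i) = X i * w i := fun i => substAlgHom_X hs i
  let π := Ideal.Quotient.mkₐ R (Ideal.span {(X 0 * X 1 - C t : MvPowerSeries (Fin 2) R)})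
  let Θ : Node t →ₐ[R] Node t := Ideal.Quotient.liftₐ _ (π.comp F) fun a ha => by
    obtain ⟨c, rfl⟩ := Ideal.mem_span_singleton'.1 ha
    rw [map_mul]
    refine mul_eq_zero_of_right _ ?_
    show π (F (X 0 * X 1 - C t)) = 0
    rw [map_sub, map_mul, hFX, hFX, show F (C t) = C t from F.commutes t, map_sub, sub_eq_zero]
    exact h
  have hΘ : Function.Surjective Θ := fun z => by
    obtain ⟨f, rfl⟩ := Ideal.Quotient.mk_surjective z
    obtain ⟨g, rfl⟩ := hF f
    exact ⟨π g, rfl⟩
  haveI : IsNoetherianRing (Node t) := inferInstance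
  exact ⟨AlgEquiv.ofBijective Θ ⟨CAlgH.AdicSmooth.injective_of_surjective_ringEndo Θ.toRingHom hΘ, hΘ⟩,
    congrArg π (hFX 0), congrArg π (hFX 1)⟩

end Node

end Groth.Agent.CommAlg4.NodeInvolution
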