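import Mathlib

/-!
The logarithmic derivation `x∂_x - y∂_y` of the node `xy = ϖ` over a DVR and functions etale on the generic fibre.
-/

set_option autoImplicit false
set_option backward.isDefEq.respectTransparency.types false
universe u

open MvPolynomial

namespace Groth.Agent.CommAlg4.NodeLogDeriv

variable (V : Type u) [CommRing V] (ϖ : V)

/-- The coordinate ring of the node. -/
abbrev A : Type u := MvPolynomial (Fin 2) V ⧸ Ideal.span {(X 0 * X 1 - C ϖ : MvPolynomial (Fin 2) V)}

/-- The coordinates. -/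
noncomputable def co (i : Fin 2) : A V ϖ := Ideal.Quotient.mk _ (X i)

theorem co_mul (i : Fin 2) : co V ϖ i * co V ϖ (1 - i) = algebraMap V (A V ϖ) ϖ := by
  have h : co V ϖ 0 * co V ϖ 1 = algebraMap V (A V ϖ) ϖ := by
    rw [co, co, ← map_mul, ← Ideal.Quotient.mk_algebraMap, Ideal.Quotient.eq]
    exact Ideal.subset_span rfl
  fin_cases i
  · exact h
  · rw [mul_comm]; exact h

theorem two (i : Fin 2) (j : Fin 2) : j = i ∨ j = 1 - i := by
  fin_cases i <;> fin_cases j <;> simp

/-- `P ↦ (P, D P)` for the derivation `D = x∂_x - y∂_y`. -/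
noncomputable def dual (i : Fin 2) : A V ϖ →ₐ[V] TrivSqZeroExt (A V ϖ) (A V ϖ) :=
  Ideal.Quotient.liftₐ _ (aeval fun j => TrivSqZeroExt.inl (co V ϖ j) +
      TrivSqZeroExt.inr (if j = i then co V ϖ j else -co V ϖ j)) (by
    intro a ha
    obtain ⟨b, rfl⟩ := Ideal.mem_span_singleton'.1 ha
    rw [map_mul]
    refine mul_eq_zero_of_right _ ?_
    rw [map_sub, map_mul, aeval_X, aeval_X, aeval_C]
    have h := co_mul V ϖ 0
    change co V ϖ 0 * co V ϖ 1 = _ at h
    refine TrivSqZeroExt.ext ?_ ?_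
    · simp [-DualNumber.inr_eq_smul_eps, TrivSqZeroExt.algebraMap_eq_inl', h]
    · fin_cases i <;> simp [-DualNumber.inr_eq_smul_eps, TrivSqZeroExt.algebraMap_eq_inl'] <;> ring)

theorem dual_co (i j : Fin 2) : dual V ϖ i (co V ϖ j) = TrivSqZeroExt.inl (co V ϖ j) +
      TrivSqZeroExt.inr (if j = i then co V ϖ j else -co V ϖ j) := by
  show aeval _ (X j) = _
  rw [aeval_X]

theorem fst_dual (i : Fin 2) (a : A V ϖ) : (dual V ϖ i a).fst = a := by
  refine DFunLike.congr_fun (?_ : (TrivSqZeroExt.fstHom V (A V ϖ) (A V ϖ)).comp (dual V ϖ i) = AlgHom.id V _) a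
  refine Ideal.Quotient.algHom_ext _ (MvPolynomial.algHom_ext fun j => ?_)
  show (dual V ϖ i (co V ϖ j)).fst = co V ϖ j
  simp [-DualNumber.inr_eq_smul_eps, dual_co]

/-- The derivation. -/
noncomputable def D (i : Fin 2) (a : A V ϖ) : A V ϖ := (dual V ϖ i a).snd

theorem D_mul (i : Fin 2) (a b : A V ϖ) : D V ϖ i (a * b) = a * D V ϖ i b + b * D V ϖ i a := by
  simp only [D, map_mul, TrivSqZeroExt.snd_mul, fst_dual, smul_eq_mul, MulOpposite.smul_eq_mul_unop,
    MulOpposite.unop_op]
  ring

section branch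

variable (k : Type u) [CommRing k] [Algebra V k] (hϖ : algebraMap V k ϖ = 0)

/-- Restriction to the branch `x_i = 0`. -/
noncomputable def psi (i : Fin 2) : A V ϖ →ₐ[V] Polynomial k :=
  Ideal.Quotient.liftₐ _ (aeval fun j => if j = i then 0 else Polynomial.X) (by
    intro a ha
    obtain ⟨b, rfl⟩ := Ideal.mem_span_singleton'.1 ha
    rw [map_mul]
    refine mul_eq_zero_of_right _ ?_
    rw [map_sub, map_mul, aeval_X, aeval_X, aeval_C, IsScalarTower.algebraMap_apply V k (Polynomial k), hϖ,
      map_zero]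
    fin_cases i <;> simp)

theorem psi_co (i j : Fin 2) : psi V ϖ k hϖ i (co V ϖ j) = if j = i then 0 else Polynomial.X := by
  show aeval _ (X j) = _
  rw [aeval_X]

theorem one_sub_ne (i : Fin 2) : (1 - i) ≠ i := by fin_cases i <;> simp

theorem psi_D (i : Fin 2) (a : A V ϖ) :
    psi V ϖ k hϖ i (D V ϖ i a) = -(Polynomial.X * Polynomial.derivative (psi V ϖ k hϖ i a)) := by
  obtain ⟨P, rfl⟩ := Ideal.Quotient.mk_surjective a
  induction P using MvPolynomial.induction_on with
  | C r =>
    rw [show (Ideal.Quotient.mk _ (C r) : A V ϖ) = algebraMap V _ r from rfl, D, AlgHom.commutes,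
      AlgHom.commutes, TrivSqZeroExt.algebraMap_eq_inl', TrivSqZeroExt.snd_inl,
      IsScalarTower.algebraMap_apply V k (Polynomial k), Polynomial.algebraMap_eq, Polynomial.derivative_C]
    simp
  | add p q hp hq =>
    simp only [D] at hp hq
    simp only [map_add, D, TrivSqZeroExt.snd_add, hp, hq]
    ring
  | mul_X p j hp =>
    have hj : psi V ϖ k hϖ i (D V ϖ i (co V ϖ j)) =
        -(Polynomial.X * Polynomial.derivative (psi V ϖ k hϖ i (co V ϖ j))) := by
      simp only [D, dual_co, TrivSqZeroExt.snd_add, TrivSqZeroExt.snd_inl, TrivSqZeroExt.snd_inr, zero_add]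
      rcases two i j with rfl | rfl
      · simp [psi_co]
      · simp [psi_co, one_sub_ne i]
    rw [map_mul, D_mul, map_add, map_mul, map_mul, map_mul, Polynomial.derivative_mul,
      show (Ideal.Quotient.mk _ (X j) : A V ϖ) = co V ϖ j from rfl, hj, hp]
    ring

theorem exists_sec (i : Fin 2) (hk : Function.Surjective (algebraMap V k))
    (hker : ∀ r, algebraMap V k r = 0 → ϖ ∣ r) :
    Function.Surjective (psi V ϖ k hϖ i) ∧
      ∀ a, psi V ϖ k hϖ i a = 0 → a ∈ Ideal.span {co V ϖ i} := by
  let σ : Polynomial V →ₐ[V] A V ϖ := Polynomial.aeval (co V ϖ (1 - i))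
  have hσ : ∀ Q : Polynomial V, psi V ϖ k hϖ i (σ Q) = Q.map (algebraMap V k) := by
    intro Q
    refine DFunLike.congr_fun (?_ : (psi V ϖ k hϖ i).comp σ = Polynomial.mapAlgHom (Algebra.ofId V k)) Q
    refine Polynomial.algHom_ext ?_
    simp [σ, psi_co, one_sub_ne i]
  refine ⟨fun P => ?_, fun a ha => ?_⟩
  · obtain ⟨Q, rfl⟩ := Polynomial.map_surjective _ hk P
    exact ⟨σ Q, hσ Q⟩
  · have key : ∀ a, ∃ Q, a - σ Q ∈ Ideal.span {co V ϖ i} := by
      intro a
      obtain ⟨P, rfl⟩ := Ideal.Quotient.mk_surjective a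
      induction P using MvPolynomial.induction_on with
      | C r => exact ⟨Polynomial.C r, by simp [σ, show (Ideal.Quotient.mk _ (C r) : A V ϖ) = algebraMap V _ r from rfl]⟩
      | add p q hp hq =>
        obtain ⟨Q₁, h₁⟩ := hp
        obtain ⟨Q₂, h₂⟩ := hq
        exact ⟨Q₁ + Q₂, by rw [map_add, map_add, add_sub_add_comm]; exact add_mem h₁ h₂⟩
      | mul_X p j hp =>
        obtain ⟨Q₁, h₁⟩ := hp
        rw [map_mul]
        rcases two i j with rfl | rfl
        · exact ⟨0, by rw [map_zero, sub_zero]; exact Ideal.mul_mem_left _ _ (Ideal.subset_span rfl)⟩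
        · refine ⟨Q₁ * Polynomial.X, ?_⟩
          rw [map_mul, show σ Polynomial.X = co V ϖ (1 - i) from Polynomial.aeval_X _,
            show (Ideal.Quotient.mk _ (X (1 - i)) : A V ϖ) = co V ϖ (1 - i) from rfl, ← sub_mul]
          exact Ideal.mul_mem_right _ _ h₁
    obtain ⟨Q, hQ⟩ := key a
    have hx : psi V ϖ k hϖ i (a - σ Q) = 0 := by
      obtain ⟨b, hb⟩ := Ideal.mem_span_singleton'.1 hQ
      rw [← hb, map_mul, psi_co, if_pos rfl, mul_zero]
    rw [map_sub, ha, hσ, zero_sub, neg_eq_zero] at hx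
    have hσQ : σ Q ∈ Ideal.span {co V ϖ i} := by
      rw [Polynomial.aeval_eq_sum_range]
      refine sum_mem fun n _ => ?_
      have h0 : algebraMap V k (Q.coeff n) = 0 := by
        rw [← Polynomial.coeff_map, hx, Polynomial.coeff_zero]
      obtain ⟨c, hc⟩ := hker _ h0
      rw [Algebra.smul_def, hc, map_mul, ← co_mul V ϖ i, mul_assoc, mul_assoc]
      exact Ideal.mul_mem_right _ _ (Ideal.subset_span rfl)
    simpa using add_mem hQ hσQ

end branch

theorem exists_eq_C_mul {k : Type u} [Field k] [CharZero k] {P Q : Polynomial k} (hQ : Q ≠ 0)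
    (h : Polynomial.derivative P * Q = P * Polynomial.derivative Q) : ∃ c : k, P = Polynomial.C c * Q := by
  refine ⟨P.coeff Q.natDegree / Q.leadingCoeff, ?_⟩
  by_contra hne
  let R := P - Polynomial.C (P.coeff Q.natDegree / Q.leadingCoeff) * Q
  have hR : R ≠ 0 := sub_ne_zero.2 hne
  have hRn : R.coeff Q.natDegree = 0 := by
    simp [R, Polynomial.coeff_natDegree, div_mul_cancel₀ _ (Polynomial.leadingCoeff_ne_zero.2 hQ)]
  have hdeg : R.natDegree ≠ Q.natDegree := fun e =>
    Polynomial.leadingCoeff_ne_zero.2 hR (by rw [← Polynomial.coeff_natDegree, e]; exact hRn)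
  have hW : Polynomial.derivative R * Q = R * Polynomial.derivative Q := by
    simp only [R, map_sub, Polynomial.derivative_C_mul]
    linear_combination h
  -- compare the coefficient in degree `deg R + deg Q - 1`
  have key : ∀ S T : Polynomial k, (Polynomial.X * Polynomial.derivative S * T).coeff (S.natDegree + T.natDegree) =
      (S.natDegree : k) * (S.leadingCoeff * T.leadingCoeff) := by
    intro S T
    rcases Nat.eq_zero_or_pos S.natDegree with h0 | h0
    · simp [Polynomial.derivative_of_natDegree_zero h0, h0]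
    · rw [Polynomial.coeff_mul_add_eq_of_natDegree_le (by
        refine (Polynomial.natDegree_mul_le).trans ?_
        have := Polynomial.natDegree_derivative_le S
        have := Polynomial.natDegree_X (R := k)
        omega) le_rfl]
      rw [show S.natDegree = S.natDegree - 1 + 1 from by omega, Polynomial.coeff_X_mul, Polynomial.coeff_derivative,
        show S.natDegree - 1 + 1 = S.natDegree from by omega, Polynomial.coeff_natDegree, Polynomial.coeff_natDegree]
      have : ((S.natDegree - 1 : ℕ) : k) + 1 = (S.natDegree : k) := by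
        rw [Nat.cast_sub (Nat.one_le_iff_ne_zero.2 h0.ne')]; simp
      rw [this]; ring
  have e1 := key R Q
  have e2 := key Q R
  rw [add_comm Q.natDegree, show Polynomial.X * Polynomial.derivative Q * R =
    Polynomial.X * Polynomial.derivative R * Q by rw [mul_assoc, mul_assoc, hW]; ring] at e2
  have hlc : R.leadingCoeff * Q.leadingCoeff ≠ 0 :=
    mul_ne_zero (Polynomial.leadingCoeff_ne_zero.2 hR) (Polynomial.leadingCoeff_ne_zero.2 hQ)
  rw [e1, mul_comm Q.leadingCoeff] at e2
  exact hdeg (Nat.cast_injective (mul_right_cancel₀ hlc e2))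

theorem D_mem (i : Fin 2) (b : A V ϖ) : D V ϖ i b ∈ Ideal.span {co V ϖ 0, co V ϖ 1} := by
  obtain ⟨P, rfl⟩ := Ideal.Quotient.mk_surjective b
  induction P using MvPolynomial.induction_on with
  | C r =>
    rw [show (Ideal.Quotient.mk _ (C r) : A V ϖ) = algebraMap V _ r from rfl,
      D, AlgHom.commutes, TrivSqZeroExt.algebraMap_eq_inl', TrivSqZeroExt.snd_inl]
    exact zero_mem _
  | add p q hp hq =>
    simp only [D, map_add, TrivSqZeroExt.snd_add] at hp hq ⊢
    exact add_mem hp hq
  | mul_X p j hp =>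
    rw [map_mul, D_mul]
    refine add_mem (Ideal.mul_mem_left _ _ ?_) (Ideal.mul_mem_left _ _ hp)
    simp only [D, show (Ideal.Quotient.mk _ (X j) : A V ϖ) = co V ϖ j from rfl, dual_co,
      TrivSqZeroExt.snd_add, TrivSqZeroExt.snd_inl, TrivSqZeroExt.snd_inr, zero_add]
    have hm : co V ϖ j ∈ Ideal.span {co V ϖ 0, co V ϖ 1} := Ideal.subset_span (by fin_cases j <;> simp)
    split
    · exact hm
    · exact neg_mem hm

theorem D_one_eq_neg (b : A V ϖ) : D V ϖ 1 b = -D V ϖ 0 b := by
  obtain ⟨P, rfl⟩ := Ideal.Quotient.mk_surjective b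
  induction P using MvPolynomial.induction_on with
  | C r =>
    simp [show (Ideal.Quotient.mk _ (C r) : A V ϖ) = algebraMap V _ r from rfl, D,
      TrivSqZeroExt.algebraMap_eq_inl']
  | add p q hp hq =>
    simp only [D, map_add, TrivSqZeroExt.snd_add] at hp hq ⊢
    rw [hp, hq]; ring
  | mul_X p j hp =>
    rw [map_mul, D_mul, D_mul, hp]
    have : D V ϖ 1 (co V ϖ j) = -D V ϖ 0 (co V ϖ j) := by
      simp only [D, dual_co, TrivSqZeroExt.snd_add, TrivSqZeroExt.snd_inl, TrivSqZeroExt.snd_inr, zero_add]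
      fin_cases j <;> simp
    rw [show (Ideal.Quotient.mk _ (X j) : A V ϖ) = co V ϖ j from rfl, this]
    ring

theorem co_regular [IsDomain V] (hϖ : ϖ ≠ 0) (i : Fin 2) (a : A V ϖ) (ha : co V ϖ i * a = 0) : a = 0 := by
  obtain ⟨P, rfl⟩ := Ideal.Quotient.mk_surjective a
  rw [co, ← map_mul, Ideal.Quotient.eq_zero_iff_mem, Ideal.mem_span_singleton'] at ha
  obtain ⟨Q, hQ⟩ := ha
  let θ : MvPolynomial (Fin 2) V →ₐ[V] MvPolynomial (Fin 2) V := aeval fun j => if j = i then 0 else X j
  have hθ : ∀ R : MvPolynomial (Fin 2) V, R - θ R ∈ Ideal.span {(X i : MvPolynomial (Fin 2) V)} := by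
    intro R
    induction R using MvPolynomial.induction_on with
    | C r => simp [θ]
    | add p q hp hq => rw [map_add, add_sub_add_comm]; exact add_mem hp hq
    | mul_X p j hp =>
      rcases eq_or_ne j i with rfl | hne
      · simp [θ, Ideal.mem_span_singleton']
      · rw [map_mul, show θ (X j) = X j by simp [θ, hne], ← sub_mul]
        exact Ideal.mul_mem_right _ _ hp
  have h0 := congrArg θ hQ
  simp only [map_mul, map_sub, θ, aeval_X, aeval_C] at h0
  have h1 : θ Q = 0 := by
    have hz : (if (0 : Fin 2) = i then (0 : MvPolynomial (Fin 2) V) else X 0) *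
        (if (1 : Fin 2) = i then 0 else X 1) = 0 := by fin_cases i <;> simp
    rw [hz, zero_sub, if_true, zero_mul, mul_neg, neg_eq_zero, mul_eq_zero] at h0
    refine h0.resolve_right ?_
    rw [MvPolynomial.algebraMap_eq]
    exact fun e => hϖ (C_eq_zero.1 e)
  obtain ⟨Q', hQ'⟩ := Ideal.mem_span_singleton'.1 (by simpa [h1] using hθ Q : Q ∈ Ideal.span {(X i : MvPolynomial (Fin 2) V)})
  rw [Ideal.Quotient.eq_zero_iff_mem, Ideal.mem_span_singleton']
  refine ⟨Q', mul_left_cancel₀ (X_ne_zero i) ?_⟩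
  rw [← hQ, ← hQ']
  ring

/-- A Leibniz map extends to a localization. -/
theorem exists_lift {B R : Type u} [CommRing B] [CommRing R] [Algebra B R] (h : B) [IsLocalization.Away h R]
    (d : B → B) (hd₀ : ∀ a b, d (a + b) = d a + d b) (hd : ∀ a b, d (a * b) = a * d b + b * d a) :
    ∃ φ : R →+* TrivSqZeroExt R R, (∀ z, (φ z).fst = z) ∧
      ∀ a, (φ (algebraMap B R a)).snd = algebraMap B R (d a) := by
  have h1 : d 1 = 0 := by simpa using hd 1 1
  have h0 : d 0 = 0 := by simpa using hd₀ 0 0
  let m : B →+* TrivSqZeroExt R R :=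
    { toFun := fun a => (algebraMap B R a, algebraMap B R (d a))
      map_one' := TrivSqZeroExt.ext (map_one _) (by show algebraMap B R (d 1) = 0; rw [h1, map_zero])
      map_zero' := TrivSqZeroExt.ext (map_zero _) (by show algebraMap B R (d 0) = 0; rw [h0, map_zero])
      map_mul' := fun a b => TrivSqZeroExt.ext (map_mul _ a b) (by
        show algebraMap B R (d (a * b)) = algebraMap B R a * algebraMap B R (d b) + algebraMap B R (d a) * algebraMap B R b
        rw [hd, map_add, map_mul, map_mul]; ring)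
      map_add' := fun a b => TrivSqZeroExt.ext (map_add _ a b) (by
        show algebraMap B R (d (a + b)) = algebraMap B R (d a) + algebraMap B R (d b)
        rw [hd₀, map_add]) }
  have hm : IsUnit (m h) := TrivSqZeroExt.isUnit_iff_isUnit_fst.2 (IsLocalization.Away.algebraMap_isUnit h)
  refine ⟨IsLocalization.Away.lift h hm, fun z => ?_, fun a => ?_⟩
  · refine DFunLike.congr_fun (?_ : ((TrivSqZeroExt.fstHom R R R).toRingHom).comp (IsLocalization.Away.lift h hm) = RingHom.id R) z
    refine IsLocalization.ringHom_ext (Submonoid.powers h) (RingHom.ext fun a => ?_)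
    show (IsLocalization.Away.lift h hm (algebraMap B R a)).fst = algebraMap B R a
    rw [IsLocalization.Away.lift_eq]
    rfl
  · rw [IsLocalization.Away.lift_eq]
    rfl

theorem eq_inl {R : Type u} [CommRing R] {z : TrivSqZeroExt R R} (h : z.snd = 0) :
    z = TrivSqZeroExt.inl z.fst := TrivSqZeroExt.ext rfl h

/-- A derivation of `R` killing the base and étale coordinate has no zero on the étale locus. -/
theorem one_mem_of_etale {V R S : Type u} [CommRing V] [CommRing R] [CommRing S] [Algebra V R] [Algebra R S]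
    (s : R) [IsLocalization.Away s S] (f : R) (φ : R →+* TrivSqZeroExt R R) (hfst : ∀ z, (φ z).fst = z)
    (hV : ∀ v : V, (φ (algebraMap V R v)).snd = 0)
    (hf : ((algebraMap R S).comp (Polynomial.aeval f : Polynomial V →ₐ[V] R).toRingHom).Etale)
    (x y : R) (hx : (φ x).snd = x) (hxy : x * y = s) :
    (1 : S) ∈ Ideal.span {algebraMap R S (φ f).snd} := by
  let J : Ideal S := Ideal.span {algebraMap R S (φ f).snd}
  letI : Algebra (Polynomial V) S :=
    ((algebraMap R S).comp (Polynomial.aeval f : Polynomial V →ₐ[V] R).toRingHom).toAlgebra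
  haveI : Algebra.Etale (Polynomial V) S := hf
  let q : R →+* S ⧸ J := (Ideal.Quotient.mk J).comp (algebraMap R S)
  let m : R →+* TrivSqZeroExt (S ⧸ J) (S ⧸ J) :=
    { toFun := fun z => (q z, q (φ z).snd)
      map_one' := TrivSqZeroExt.ext (map_one q) (by show q (φ 1).snd = 0; rw [map_one φ, TrivSqZeroExt.snd_one, map_zero])
      map_zero' := TrivSqZeroExt.ext (map_zero q) (by show q (φ 0).snd = 0; rw [map_zero φ, TrivSqZeroExt.snd_zero, map_zero])
      map_mul' := fun a b => TrivSqZeroExt.ext (map_mul q a b) (by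
        show q (φ (a * b)).snd = q a * q (φ b).snd + q (φ a).snd * q b
        rw [map_mul φ, TrivSqZeroExt.snd_mul, hfst, hfst, smul_eq_mul, MulOpposite.smul_eq_mul_unop,
          MulOpposite.unop_op, map_add, map_mul, map_mul])
      map_add' := fun a b => TrivSqZeroExt.ext (map_add q a b) (by
        show q (φ (a + b)).snd = q (φ a).snd + q (φ b).snd
        rw [map_add φ, TrivSqZeroExt.snd_add, map_add]) }
  have hm : IsUnit (m s) := TrivSqZeroExt.isUnit_iff_isUnit_fst.2
    ((IsLocalization.Away.algebraMap_isUnit (S := S) s).map (Ideal.Quotient.mk J))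
  let g₁ : S →+* TrivSqZeroExt (S ⧸ J) (S ⧸ J) := IsLocalization.Away.lift s hm
  let g₂ : S →+* TrivSqZeroExt (S ⧸ J) (S ⧸ J) := (TrivSqZeroExt.inlHom _ _).comp (Ideal.Quotient.mk J)
  letI : Algebra (Polynomial V) (TrivSqZeroExt (S ⧸ J) (S ⧸ J)) :=
    (g₂.comp (algebraMap (Polynomial V) S)).toAlgebra
  let a₂ : S →ₐ[Polynomial V] TrivSqZeroExt (S ⧸ J) (S ⧸ J) := { g₂ with commutes' := fun _ => rfl }
  have key : g₁.comp (algebraMap (Polynomial V) S) = g₂.comp (algebraMap (Polynomial V) S) := by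
    refine Polynomial.ringHom_ext (fun v => ?_) ?_
    · show g₁ (algebraMap R S (Polynomial.aeval f (Polynomial.C v))) = g₂ (algebraMap R S (Polynomial.aeval f (Polynomial.C v)))
      rw [Polynomial.aeval_C, IsLocalization.Away.lift_eq]
      exact TrivSqZeroExt.ext rfl (show q (φ (algebraMap V R v)).snd = 0 by rw [hV, map_zero])
    · show g₁ (algebraMap R S (Polynomial.aeval f Polynomial.X)) = g₂ (algebraMap R S (Polynomial.aeval f Polynomial.X))
      rw [Polynomial.aeval_X, IsLocalization.Away.lift_eq]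
      exact TrivSqZeroExt.ext rfl (Ideal.Quotient.eq_zero_iff_mem.2 (Ideal.subset_span rfl))
  let a₁ : S →ₐ[Polynomial V] TrivSqZeroExt (S ⧸ J) (S ⧸ J) :=
    { g₁ with commutes' := fun P => RingHom.congr_fun key P }
  have hfe : ∀ z, (g₁ z).fst = Ideal.Quotient.mk J z := by
    intro z
    refine DFunLike.congr_fun (?_ : (TrivSqZeroExt.fstHom (S ⧸ J) (S ⧸ J) (S ⧸ J)).toRingHom.comp g₁ = Ideal.Quotient.mk J) z
    refine IsLocalization.ringHom_ext (Submonoid.powers s) (RingHom.ext fun b => ?_)
    show (g₁ (algebraMap R S b)).fst = _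
    rw [IsLocalization.Away.lift_eq]
    rfl
  have heq : a₁ = a₂ := Algebra.FormallyUnramified.ext'
    (TrivSqZeroExt.fstHom (S ⧸ J) (S ⧸ J) (S ⧸ J)).toRingHom
    ⟨2, by
      rw [pow_two, Submodule.zero_eq_bot, eq_bot_iff, Ideal.mul_le]
      intro a ha b hb
      rw [RingHom.mem_ker] at ha hb
      change a.fst = 0 at ha
      change b.fst = 0 at hb
      rw [Ideal.mem_bot]
      refine TrivSqZeroExt.ext ?_ ?_ <;> simp [ha, hb]⟩
    a₁ a₂ (fun z => (hfe z).trans rfl)
  have h0 : Ideal.Quotient.mk J (algebraMap R S x) = 0 := by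
    have := congrArg TrivSqZeroExt.snd (DFunLike.congr_fun heq (algebraMap R S x))
    change (g₁ (algebraMap R S x)).snd = (g₂ (algebraMap R S x)).snd at this
    rw [IsLocalization.Away.lift_eq] at this
    change q (φ x).snd = 0 at this
    rwa [hx] at this
  have h1 : algebraMap R S s ∈ J := by
    rw [← hxy, map_mul]
    exact Ideal.mul_mem_right _ _ (Ideal.Quotient.eq_zero_iff_mem.1 h0)
  obtain ⟨w, hw⟩ := IsLocalization.Away.algebraMap_isUnit (S := S) s
  rw [← w.inv_mul, hw]
  exact Ideal.mul_mem_left _ _ h1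

end Groth.Agent.CommAlg4.NodeLogDeriv
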