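import Mathlib
import Groth.Agent.DR15.ExtBaseChange

/-! Top exterior powers of finite projective modules are invertible (any ring). -/

set_option autoImplicit false
universe u

open TensorProduct

namespace Groth.Agent.CommAlg4.TopPowInvertible

/-- A finite projective module which is, near every maximal ideal, free on one element is invertible. -/
theorem invertible_of_locally {R M : Type u} [CommRing R] [AddCommGroup M] [Module R M]
    [Module.Finite R M] [Module.Projective R M]
    (h : ∀ q : Ideal R, q.IsMaximal → ∃ x : M, (∀ m : M, ∃ v ∉ q, v • m ∈ R ∙ x) ∧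
      ∀ b : R, b • x = 0 → ∃ v ∉ q, v * b = 0) :
    Module.Invertible R M := by
  classical
  obtain ⟨n, f, g, -, -, hfg⟩ := Module.Finite.exists_comp_eq_id_of_projective R M
  let χ : Fin n → Module.Dual R M := fun i => (LinearMap.proj i).comp g
  let nv : Fin n → M := fun i => f (Pi.single i 1)
  have hdual : ∀ x, ∑ i, χ i x • nv i = x := by
    intro x
    conv_rhs => rw [show x = f (g x) from (LinearMap.congr_fun hfg x).symm, pi_eq_sum_univ' (g x), map_sum]
    exact Finset.sum_congr rfl fun i _ => by rw [map_smul]; rfl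
  have hswap : ∀ (ψ : Module.Dual R M) (a b : M), ψ a • b = ψ b • a := by
    intro ψ a b
    by_contra hne
    have hlt : (⊥ : Submodule R M).colon {ψ a • b - ψ b • a} ≠ ⊤ := by
      intro htop
      have h1 : (1 : R) ∈ (⊥ : Submodule R M).colon {ψ a • b - ψ b • a} := htop ▸ Submodule.mem_top
      rw [Submodule.mem_colon_singleton, Submodule.mem_bot, one_smul, sub_eq_zero] at h1
      exact hne h1
    obtain ⟨q, hq, hle⟩ := Ideal.exists_le_maximal _ hlt
    obtain ⟨x, hgen, -⟩ := h q hq
    obtain ⟨va, hva, ha⟩ := hgen a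
    obtain ⟨vb, hvb, hb⟩ := hgen b
    obtain ⟨ca, hca⟩ := Submodule.mem_span_singleton.mp ha
    obtain ⟨cb, hcb⟩ := Submodule.mem_span_singleton.mp hb
    have hkill : va * vb ∈ (⊥ : Submodule R M).colon {ψ a • b - ψ b • a} := by
      rw [Submodule.mem_colon_singleton, Submodule.mem_bot, smul_sub, sub_eq_zero]
      calc (va * vb) • ψ a • b = ψ (va • a) • (vb • b) := by
            rw [map_smul, smul_eq_mul, smul_smul, smul_smul]; congr 1; ring
        _ = (ca * ψ x * cb) • x := by rw [← hca, ← hcb, map_smul, smul_eq_mul, smul_smul]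
        _ = ψ (vb • b) • (va • a) := by rw [← hca, ← hcb, map_smul, smul_eq_mul, smul_smul]; congr 1; ring
        _ = (va * vb) • ψ b • a := by
            rw [map_smul, smul_eq_mul, smul_smul, smul_smul]; congr 1; ring
    exact (hq.isPrime.mem_or_mem (hle hkill)).elim hva hvb
  have htop : (1 : R) ∈ LinearMap.range (contractLeft R M) := by
    by_contra hne
    obtain ⟨q, hq, hle⟩ := Ideal.exists_le_maximal (LinearMap.range (contractLeft R M))
      (fun h' => hne (h'.symm ▸ Submodule.mem_top))
    obtain ⟨x, hgen, hann⟩ := h q hq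
    choose v hv hvm using fun i => hgen (nv i)
    choose c hc using fun i => Submodule.mem_span_singleton.mp (hvm i)
    have h1 : ((∏ i, v i) - ∑ i, χ i x * ((∏ j ∈ Finset.univ.erase i, v j) * c i)) • x = 0 := by
      rw [sub_smul, sub_eq_zero, Finset.sum_smul]
      conv_lhs => rw [← hdual x, Finset.smul_sum]
      refine Finset.sum_congr rfl fun i _ => ?_
      rw [smul_comm, ← Finset.mul_prod_erase _ v (Finset.mem_univ i), mul_comm (v i), mul_smul, ← hc, smul_smul, smul_smul]
      congr 1
      ring
    obtain ⟨w, hw, hw0⟩ := hann _ h1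
    have h2 : ((∏ i, v i) - ∑ i, χ i x * ((∏ j ∈ Finset.univ.erase i, v j) * c i)) ∈ q :=
      (hq.isPrime.mem_or_mem (hw0 ▸ q.zero_mem)).resolve_left hw
    have h3 : ∑ i, χ i x * ((∏ j ∈ Finset.univ.erase i, v j) * c i) ∈ q :=
      q.sum_mem fun i _ => q.mul_mem_right _ (hle ⟨χ i ⊗ₜ x, rfl⟩)
    have h4 := q.add_mem h2 h3
    rw [sub_add_cancel] at h4
    obtain ⟨i, -, hi⟩ := hq.isPrime.prod_mem_iff.mp h4
    exact hv i hi
  obtain ⟨z, hz⟩ := htop
  refine ⟨⟨(injective_iff_map_eq_zero _).mpr fun t ht => ?_, fun r => ⟨r • z, by rw [map_smul, hz, smul_eq_mul, mul_one]⟩⟩⟩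
  have key : ∀ (t z : Module.Dual R M ⊗[R] M), contractLeft R M z • t = contractLeft R M t • z := by
    intro t z
    induction t using TensorProduct.induction_on with
    | zero => simp
    | add t t' ht ht' => rw [smul_add, ht, ht', map_add, add_smul]
    | tmul ψ m =>
      induction z using TensorProduct.induction_on with
      | zero => simp
      | add z z' hz hz' => rw [map_add, add_smul, hz, hz', smul_add]
      | tmul ξ p =>
        rw [contractLeft_apply, contractLeft_apply, ← TensorProduct.tmul_smul, hswap ξ p m, TensorProduct.tmul_smul,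
          TensorProduct.smul_tmul', TensorProduct.smul_tmul']
        congr 1
        refine LinearMap.ext fun y => ?_
        rw [LinearMap.smul_apply, LinearMap.smul_apply, ← map_smul, hswap ξ m y, map_smul, smul_eq_mul, smul_eq_mul, mul_comm]
  have := key t z
  rwa [hz, one_smul, ht, zero_smul] at this

open exteriorPower in
theorem exists_local_generator (R M : Type u) [CommRing R] [AddCommGroup M] [Module R M]
    [Module.Finite R M] [Module.Projective R M] (n : ℕ)
    (hn : ∀ q : PrimeSpectrum R, Module.rankAtStalk M q = n) (q : Ideal R) (hq : q.IsMaximal) :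
    ∃ x : ↥(⋀[R]^n M), (∀ m : ↥(⋀[R]^n M), ∃ v ∉ q, v • m ∈ R ∙ x) ∧
      ∀ b : R, b • x = 0 → ∃ v ∉ q, v * b = 0 := by
  haveI : q.IsPrime := hq.isPrime
  let Rq := Localization.AtPrime q
  let Mq := LocalizedModule q.primeCompl M
  let f := LocalizedModule.mkLinearMap q.primeCompl M
  have hf : IsBaseChange Rq f := (isLocalizedModule_iff_isBaseChange q.primeCompl Rq f).1 inferInstance
  let g : ↥(⋀[R]^n M) →ₗ[R] ↥(⋀[Rq]^n Mq) :=
    alternatingMapLinearEquiv
      { toFun := fun v => ιMulti Rq n (f ∘ v)
        map_update_add' := fun v i x y => by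
          simp only [Function.comp_update, map_add, AlternatingMap.map_update_add]
        map_update_smul' := fun v i r x => by
          simp only [Function.comp_update, map_smul]
          rw [← algebraMap_smul Rq r, AlternatingMap.map_update_smul, algebraMap_smul]
        map_eq_zero_of_eq' := fun v i j h hij =>
          (ιMulti Rq n).map_eq_zero_of_eq _ (congrArg f h) hij }
  have hg := DR15.exteriorPower_isBaseChange hf n g (fun v => by
    rw [alternatingMapLinearEquiv_apply_ιMulti]; rfl)
  haveI : IsLocalizedModule q.primeCompl g := (isLocalizedModule_iff_isBaseChange q.primeCompl Rq g).2 hg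
  haveI : Module.Free Rq Mq := Module.free_of_flat_of_isLocalRing
  have hr : Module.finrank Rq Mq = n := hn ⟨q, inferInstance⟩
  haveI : Nontrivial Rq := inferInstance
  have h1 : Module.finrank Rq ↥(⋀[Rq]^n Mq) = 1 := by
    rw [exteriorPower.finrank_eq, hr, Nat.choose_self]
  let b := Module.basisUnique (R := Rq) (Unit) h1
  obtain ⟨⟨x, s⟩, hs⟩ := IsLocalizedModule.surj q.primeCompl g (b ())
  have hs' : g x = algebraMap R Rq s • b () := by rw [algebraMap_smul]; exact hs.symm
  have hu : IsUnit (algebraMap R Rq s) := IsLocalization.map_units Rq s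
  refine ⟨x, fun m => ?_, fun c hc => ?_⟩
  · have hm : g m = (b.repr (g m) () * hu.unit⁻¹.1) • g x := by
      conv_lhs => rw [← b.sum_repr (g m)]
      rw [Fintype.sum_unique, hs', smul_smul, mul_assoc, hu.val_inv_mul, mul_one]
    obtain ⟨⟨a, t⟩, hat⟩ := IsLocalization.surj q.primeCompl (b.repr (g m) () * hu.unit⁻¹.1)
    have : g ((t : R) • m) = g (a • x) := by
      rw [map_smul, map_smul, hm, ← algebraMap_smul Rq (t : R), ← algebraMap_smul Rq a, smul_smul, mul_comm, hat]
    obtain ⟨v, hv⟩ := (IsLocalizedModule.eq_iff_exists q.primeCompl g).1 this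
    refine ⟨(v : R) * t, fun h => (hq.isPrime.mem_or_mem h).elim v.2 t.2, Submodule.mem_span_singleton.2 ⟨v * a, ?_⟩⟩
    rw [Submonoid.smul_def, Submonoid.smul_def, smul_smul, smul_smul] at hv
    exact hv.symm
  · have h0 : algebraMap R Rq c * algebraMap R Rq s = 0 := by
      have := congrArg g hc
      rw [map_smul, map_zero, hs', ← algebraMap_smul Rq c, smul_smul] at this
      have := congrArg (fun z => b.repr z ()) this
      simpa using this
    rw [mul_comm, hu.mul_right_eq_zero] at h0
    obtain ⟨v, hv⟩ := (IsLocalization.map_eq_zero_iff q.primeCompl Rq c).1 h0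
    exact ⟨v, v.2, hv⟩


theorem projective_exteriorPower (R M : Type u) [CommRing R] [AddCommGroup M] [Module R M]
    [Module.Finite R M] [Module.Projective R M] (n : ℕ) : Module.Projective R ↥(⋀[R]^n M) := by
  obtain ⟨N, f, g, -, -, hfg⟩ := Module.Finite.exists_comp_eq_id_of_projective R M
  exact Module.Projective.of_split (exteriorPower.map n g) (exteriorPower.map n f)
    (by rw [← exteriorPower.map_comp, hfg, exteriorPower.map_id])

open exteriorPower in
theorem invertible_exteriorPower (R M : Type u) [CommRing R] [AddCommGroup M] [Module R M]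
    [Module.Finite R M] [Module.Projective R M] (n : ℕ)
    (hn : ∀ q : PrimeSpectrum R, Module.rankAtStalk M q = n) : Module.Invertible R ↥(⋀[R]^n M) := by
  haveI := projective_exteriorPower R M n
  exact invertible_of_locally fun q hq => exists_local_generator R M n hn q hq

end Groth.Agent.CommAlg4.TopPowInvertible
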