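import Mathlib
import Groth.Agent.CommAlg4.TopPowInvertible

/-! Isomorphisms of invertible modules given by a graph; local generators of invertible modules
over a finite algebra and their top exterior powers. -/

set_option autoImplicit false
universe u

open TensorProduct

namespace Groth.Agent.CommAlg4.NormGraph

variable {A : Type u} [CommRing A]

/-- Every element is, after multiplication by an element outside `P`, a multiple of `x`. -/
def Gen {V : Type u} [AddCommGroup V] [Module A V] (P : Ideal A) (x : V) : Prop :=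
  ∀ m : V, ∃ v ∉ P, v • m ∈ A ∙ x

theorem eq_top_of_forall {V : Type u} [AddCommGroup V] [Module A V] (S : Submodule A V)
    (h : ∀ (P : Ideal A), P.IsMaximal → ∀ m : V, ∃ v ∉ P, v • m ∈ S) : S = ⊤ := by
  refine eq_top_iff.2 fun m _ => by_contra fun hm => ?_
  obtain ⟨P, hP, hle⟩ := Ideal.exists_le_maximal (S.colon {m}) (fun he => hm (by
    simpa using (Submodule.mem_colon_singleton.1 (he ▸ Submodule.mem_top : (1 : A) ∈ S.colon {m}))))
  obtain ⟨v, hv, hvm⟩ := h P hP m
  exact hv (hle (Submodule.mem_colon_singleton.2 hvm))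

theorem ann_of_gen {V : Type u} [AddCommGroup V] [Module A V] [Module.Finite A V] [FaithfulSMul A V]
    {P : Ideal A} [P.IsPrime] {x : V} (hx : Gen P x) {c : A} (hc : c • x = 0) : ∃ v ∉ P, v * c = 0 := by
  classical
  obtain ⟨n, s, hs⟩ := Module.Finite.exists_fin (R := A) (M := V)
  choose v hv hvm using fun i => hx (s i)
  refine ⟨∏ i, v i, fun h => ?_, ?_⟩
  · obtain ⟨i, -, hi⟩ := (Ideal.IsPrime.prod_mem_iff (p := P)).1 h
    exact hv i hi
  refine FaithfulSMul.eq_of_smul_eq_smul fun m : V => ?_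
  rw [zero_smul]
  have hm : m ∈ Submodule.span A (Set.range s) := hs ▸ Submodule.mem_top
  induction hm using Submodule.span_induction with
  | mem y hy =>
    obtain ⟨i, rfl⟩ := hy
    obtain ⟨a, ha⟩ := Submodule.mem_span_singleton.1 (hvm i)
    rw [← Finset.mul_prod_erase _ v (Finset.mem_univ i), mul_comm (v i), mul_assoc, mul_comm (v i), mul_smul,
      mul_smul, ← ha, smul_comm c a x, hc, smul_zero, smul_zero]
  | zero => rw [smul_zero]
  | add y z _ _ hy hz => rw [smul_add, hy, hz, add_zero]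
  | smul r y _ hy => rw [smul_comm, hy, smul_zero]

theorem gen_tmul {V W : Type u} [AddCommGroup V] [Module A V] [AddCommGroup W] [Module A W]
    {P : Ideal A} [hP : P.IsPrime] {x : V} {y : W} (hx : Gen P x) (hy : Gen P y) : Gen P (x ⊗ₜ[A] y) := by
  intro m
  induction m using TensorProduct.induction_on with
  | zero => exact ⟨1, hP.one_notMem, by simp⟩
  | add a b ha hb =>
    obtain ⟨v, hv, hva⟩ := ha
    obtain ⟨w, hw, hwb⟩ := hb
    refine ⟨v * w, fun h => (hP.mem_or_mem h).elim hv hw, ?_⟩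
    rw [smul_add]
    refine Submodule.add_mem _ ?_ ?_
    · rw [mul_comm, mul_smul]; exact Submodule.smul_mem _ _ hva
    · rw [mul_smul]; exact Submodule.smul_mem _ _ hwb
  | tmul a b =>
    obtain ⟨v, hv, hva⟩ := hx a
    obtain ⟨w, hw, hwb⟩ := hy b
    obtain ⟨c, hc⟩ := Submodule.mem_span_singleton.1 hva
    obtain ⟨d, hd⟩ := Submodule.mem_span_singleton.1 hwb
    refine ⟨v * w, fun h => (hP.mem_or_mem h).elim hv hw, Submodule.mem_span_singleton.2 ⟨c * d, ?_⟩⟩
    rw [← TensorProduct.smul_tmul_smul, hc, hd, TensorProduct.smul_tmul_smul]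

/-- Two invertible modules are isomorphic as soon as a set of pairs is locally the graph of an isomorphism. -/
theorem equiv_of_graph {V W : Type u} [AddCommGroup V] [Module A V] [AddCommGroup W] [Module A W]
    [Module.Invertible A V] [Module.Invertible A W] (G : Set (V × W))
    (h : ∀ P : Ideal A, P.IsMaximal → ∃ p₀ ∈ G, (∀ p ∈ G, ∃ v ∉ P, v • p ∈ A ∙ p₀) ∧ Gen P p₀.1 ∧ Gen P p₀.2) :
    Nonempty (V ≃ₗ[A] W) := by
  let Γ := Submodule.span A G
  have hΓ : ∀ P : Ideal A, P.IsMaximal → ∀ p₀ ∈ G, (∀ p ∈ G, ∃ v ∉ P, v • p ∈ A ∙ p₀) →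
      ∀ z ∈ Γ, ∃ v ∉ P, v • z ∈ A ∙ p₀ := by
    intro P hP p₀ _ hp z hz
    induction hz using Submodule.span_induction with
    | mem y hy => exact hp y hy
    | zero => exact ⟨1, hP.isPrime.one_notMem, by simp⟩
    | add a b _ _ ha hb =>
      obtain ⟨v, hv, hva⟩ := ha
      obtain ⟨w, hw, hwb⟩ := hb
      refine ⟨v * w, fun h => (hP.isPrime.mem_or_mem h).elim hv hw, ?_⟩
      rw [smul_add]
      refine Submodule.add_mem _ ?_ ?_
      · rw [mul_comm, mul_smul]; exact Submodule.smul_mem _ _ hva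
      · rw [mul_smul]; exact Submodule.smul_mem _ _ hwb
    | smul r a _ ha =>
      obtain ⟨v, hv, hva⟩ := ha
      exact ⟨v, hv, by rw [smul_comm]; exact Submodule.smul_mem _ _ hva⟩
  have key : ∀ (X : Type u) [AddCommGroup X] [Module A X] [Module.Invertible A X] (π : V × W →ₗ[A] X),
      (∀ P : Ideal A, P.IsMaximal → ∀ p₀ : V × W, Gen P p₀.1 → Gen P p₀.2 → Gen P (π p₀)) →
      Function.Bijective (π ∘ₗ Γ.subtype) := by
    intro X _ _ _ π hgen
    refine ⟨(injective_iff_map_eq_zero _).2 fun z hz => ?_, LinearMap.range_eq_top.1 (eq_top_of_forall _ fun P hP m => ?_)⟩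
    · refine Subtype.ext (show (z : V × W) = 0 from by_contra fun hne => ?_)
      obtain ⟨P, hP, hle⟩ := Ideal.exists_le_maximal ((⊥ : Submodule A (V × W)).colon {(z : V × W)}) (fun he => hne (by
        simpa using (Submodule.mem_colon_singleton.1 (he ▸ Submodule.mem_top : (1 : A) ∈ (⊥ : Submodule A (V × W)).colon {(z : V × W)}))))
      haveI := hP.isPrime
      obtain ⟨p₀, hp₀, hp, h1, h2⟩ := h P hP
      obtain ⟨v, hv, hvz⟩ := hΓ P hP p₀ hp₀ hp z z.2
      obtain ⟨c, hc⟩ := Submodule.mem_span_singleton.1 hvz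
      have h0 : c • π p₀ = 0 := by
        rw [← map_smul, hc, map_smul, show π (z : V × W) = 0 from hz, smul_zero]
      obtain ⟨w, hw, hwc⟩ := ann_of_gen (hgen P hP p₀ h1 h2) h0
      refine (hP.isPrime.mem_or_mem (hle (Submodule.mem_colon_singleton.2 ?_ : w * v ∈ _))).elim hw hv
      rw [Submodule.mem_bot, mul_smul, ← hc, smul_smul, hwc, zero_smul]
    · obtain ⟨p₀, hp₀, -, h1, h2⟩ := h P hP
      obtain ⟨v, hv, hvm⟩ := hgen P hP p₀ h1 h2 m
      obtain ⟨c, hc⟩ := Submodule.mem_span_singleton.1 hvm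
      exact ⟨v, hv, ⟨c • ⟨p₀, Submodule.subset_span hp₀⟩, by rw [map_smul]; exact hc⟩⟩
  exact ⟨(LinearEquiv.ofBijective _ (key V (LinearMap.fst A V W) fun _ _ _ h1 _ => h1)).symm.trans
    (LinearEquiv.ofBijective _ (key W (LinearMap.snd A V W) fun _ _ _ _ h2 => h2))⟩

section algebra

variable {B : Type u} [CommRing B] [Algebra A B] [Module.Finite A B]
  (M : Type u) [AddCommGroup M] [Module B M] [Module A M] [IsScalarTower A B M] [Module.Invertible B M]

/-- An invertible module over a finite algebra is, near a maximal ideal of the base, free on one element. -/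
theorem exists_gen (P : Ideal A) [P.IsMaximal] : ∃ (s : M) (t : A), t ∉ P ∧ ∀ m : M, ∃ b : B, t • m = b • s := by
  let I := P.map (algebraMap A B)
  letI := Ideal.Quotient.field P
  letI : Algebra (A ⧸ P) (B ⧸ I) := Ideal.Quotient.algebraQuotientOfLEComap Ideal.le_comap_map
  haveI : IsScalarTower A (A ⧸ P) (B ⧸ I) := .of_algebraMap_eq fun _ => rfl
  haveI : Module.Finite (A ⧸ P) (B ⧸ I) := Module.Finite.of_restrictScalars_finite A _ _
  haveI : IsArtinianRing (B ⧸ I) := IsArtinianRing.of_finite (A ⧸ P) (B ⧸ I)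
  haveI : Module.Free (B ⧸ I) ((B ⧸ I) ⊗[B] M) := inferInstance
  obtain ⟨e⟩ := Module.Invertible.free_iff_linearEquiv.1 (inferInstance : Module.Free (B ⧸ I) ((B ⧸ I) ⊗[B] M))
  obtain ⟨s, hs⟩ := TensorProduct.mk_surjective B M (B ⧸ I) Ideal.Quotient.mk_surjective (e.symm 1)
  have hs' : (1 : B ⧸ I) ⊗ₜ[B] s = e.symm 1 := hs
  let N : Submodule A M := (B ∙ s).restrictScalars A
  have hsup : ∀ m : M, m ∈ N ⊔ P • (⊤ : Submodule A M) := by
    intro m
    obtain ⟨b, hb⟩ := Ideal.Quotient.mk_surjective (e (1 ⊗ₜ[B] m))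
    have h1 : (1 : B ⧸ I) ⊗ₜ[B] (m - b • s) = 0 := by
      rw [TensorProduct.tmul_sub, TensorProduct.tmul_smul, sub_eq_zero]
      apply e.injective
      rw [← algebraMap_smul (B ⧸ I) b, map_smul, hs', e.apply_symm_apply, smul_eq_mul, mul_one]
      exact hb.symm
    have h2 : m - b • s ∈ I • (⊤ : Submodule B M) := by
      rw [← Submodule.Quotient.mk_eq_zero]
      have := congrArg (TensorProduct.quotTensorEquivQuotSMul M I) h1
      rwa [map_zero, ← map_one (Ideal.Quotient.mk I), TensorProduct.quotTensorEquivQuotSMul_mk_tmul, one_smul] at this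
    have h3 : m - b • s ∈ P • (⊤ : Submodule A M) := by
      have h4 := Ideal.smul_top_eq_map (R := A) (S := B) P
      refine Submodule.smul_induction_on (p := fun x => x ∈ P • (⊤ : Submodule A M)) h2 (fun r hr x _ => ?_)
        fun x y hx hy => add_mem hx hy
      induction hr using Submodule.span_induction generalizing x with
      | mem r hr =>
        obtain ⟨a, ha, rfl⟩ := hr
        rw [algebraMap_smul]
        exact Submodule.smul_mem_smul ha Submodule.mem_top
      | zero => rw [zero_smul]; exact zero_mem _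
      | add r r' _ _ hr hr' => rw [add_smul]; exact add_mem (hr x Submodule.mem_top) (hr' x Submodule.mem_top)
      | smul c r _ hr => rw [smul_eq_mul, mul_comm, mul_smul]; exact hr _ Submodule.mem_top
    rw [show m = b • s + (m - b • s) by abel]
    exact Submodule.add_mem_sup (Submodule.mem_span_singleton.2 ⟨b, rfl⟩) h3
  haveI : Module.Finite A M := Module.Finite.trans B M
  have htop : (⊤ : Submodule A (M ⧸ N)) ≤ P • ⊤ := by
    rintro x -
    obtain ⟨m, rfl⟩ := N.mkQ_surjective x
    obtain ⟨y, hy, z, hz, rfl⟩ := Submodule.mem_sup.1 (hsup m)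
    rw [map_add, Submodule.mkQ_apply, (Submodule.Quotient.mk_eq_zero N).2 hy, zero_add]
    have := Submodule.mem_map_of_mem (f := N.mkQ) hz
    rw [Submodule.map_smul''] at this
    exact Submodule.smul_mono le_rfl le_top this
  obtain ⟨t, ht, ht0⟩ := Submodule.exists_sub_one_mem_and_smul_eq_zero_of_fg_of_le_smul P ⊤ Module.Finite.fg_top htop
  refine ⟨s, t, fun h => (Ideal.IsMaximal.ne_top (I := P) inferInstance) ((Ideal.eq_top_iff_one _).2 (by
    simpa using P.sub_mem h ht)), fun m => ?_⟩
  have := ht0 (N.mkQ m) Submodule.mem_top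
  rw [← map_smul, Submodule.mkQ_apply, Submodule.Quotient.mk_eq_zero] at this
  obtain ⟨b, hb⟩ := Submodule.mem_span_singleton.1 this
  exact ⟨b, hb.symm⟩

/-- Multiplication of `s`. -/
def mu {M : Type u} [AddCommGroup M] [Module B M] [Module A M] [IsScalarTower A B M] (s : M) : B →ₗ[A] M :=
  (LinearMap.toSpanSingleton B M s).restrictScalars A

omit [Module.Finite A B] [Module.Invertible B M] in
theorem mu_apply (s : M) (b : B) : mu (A := A) s b = b • s := rfl

/-- An inverse of `mu s` up to `t²`. -/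
theorem exists_inverse {t : A} {s : M} (h : ∀ m : M, ∃ b : B, t • m = b • s) :
    ∃ g : M →ₗ[A] B, g ∘ₗ mu s = t ^ 2 • LinearMap.id ∧ mu s ∘ₗ g = t ^ 2 • LinearMap.id := by
  choose β hβ using h
  have hu : ∀ c : B, c • s = 0 → t • c = 0 := fun c hc => FaithfulSMul.eq_of_smul_eq_smul fun m : M => by
    rw [zero_smul, smul_assoc, smul_comm t c m, hβ, smul_comm, hc, smul_zero]
  have hu' : ∀ c c' : B, c • s = c' • s → t • c = t • c' := fun c c' h => by
    rw [← sub_eq_zero, ← smul_sub]
    exact hu _ (by rw [sub_smul, h, sub_self])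
  let g : M →ₗ[A] B :=
    { toFun := fun m => t • β m
      map_add' := fun m m' => by
        rw [← smul_add]
        exact hu' _ _ (by rw [add_smul, ← hβ, ← hβ, ← hβ, smul_add])
      map_smul' := fun a m => by
        rw [RingHom.id_apply, smul_comm a t]
        exact hu' _ _ (by rw [smul_assoc a (β m) s, ← hβ, ← hβ, smul_comm]) }
  refine ⟨g, LinearMap.ext fun b => ?_, LinearMap.ext fun m => ?_⟩
  · show t • β (b • s) = t ^ 2 • b
    rw [pow_two, mul_smul]
    exact hu' _ _ (by rw [smul_assoc t b s, ← hβ])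
  · show (t • β m) • s = t ^ 2 • m
    rw [smul_assoc, ← hβ, smul_smul, pow_two]

end algebra

theorem map_smul_hom {M N : Type u} [AddCommGroup M] [Module A M] [AddCommGroup N] [Module A N] (n : ℕ) (t : A)
    (f : M →ₗ[A] N) : exteriorPower.map n (t • f) = t ^ n • exteriorPower.map n f := by
  refine exteriorPower.linearMap_ext (AlternatingMap.ext fun v => ?_)
  show exteriorPower.map n (t • f) (exteriorPower.ιMulti A n v) = t ^ n • exteriorPower.map n f (exteriorPower.ιMulti A n v)
  rw [exteriorPower.map_apply_ιMulti, exteriorPower.map_apply_ιMulti]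
  show exteriorPower.ιMulti A n (fun i => t • f (v i)) = _
  rw [AlternatingMap.map_smul_univ, Finset.prod_const, Finset.card_univ, Fintype.card_fin]
  rfl

section top

variable {B : Type u} [CommRing B] [Algebra A B] [Module.Finite A B]
  (M : Type u) [AddCommGroup M] [Module B M] [Module A M] [IsScalarTower A B M] [Module.Invertible B M]

theorem gen_map {P : Ideal A} [hP : P.IsPrime] {t : A} (ht : t ∉ P) {s : M} (h : ∀ m : M, ∃ b : B, t • m = b • s)
    {n : ℕ} {w : ↥(⋀[A]^n B)} (hw : Gen P w) :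
    Gen P (exteriorPower.map n (mu (B := B) s) w) ∧
      ∀ c : A, c • exteriorPower.map n (mu (B := B) s) w = 0 → ∃ v ∉ P, (v * c) • w = 0 := by
  obtain ⟨g, hg1, hg2⟩ := exists_inverse M h
  refine ⟨fun m => ?_, fun c hc => ?_⟩
  · obtain ⟨v, hv, hvm⟩ := hw (exteriorPower.map n g m)
    obtain ⟨a, ha⟩ := Submodule.mem_span_singleton.1 hvm
    refine ⟨v * (t ^ 2) ^ n, fun h => (hP.mem_or_mem h).elim hv fun h => ht (hP.mem_of_pow_mem 2 (hP.mem_of_pow_mem n h)),
      Submodule.mem_span_singleton.2 ⟨a, ?_⟩⟩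
    rw [← map_smul, ha, map_smul, ← LinearMap.comp_apply, ← exteriorPower.map_comp, hg2, map_smul_hom,
      exteriorPower.map_id, LinearMap.smul_apply, LinearMap.id_apply, smul_smul]
  · refine ⟨(t ^ 2) ^ n, fun h => ht (hP.mem_of_pow_mem 2 (hP.mem_of_pow_mem n h)), ?_⟩
    have := congrArg (exteriorPower.map n g) hc
    rwa [map_smul, map_zero, ← LinearMap.comp_apply, ← exteriorPower.map_comp, hg1, map_smul_hom,
      exteriorPower.map_id, LinearMap.smul_apply, LinearMap.id_apply, smul_smul, mul_comm c] at this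

variable [Module.Projective A B]

theorem invertible_top {n : ℕ} (hn : ∀ q : PrimeSpectrum A, Module.rankAtStalk B q = n) :
    Module.Invertible A ↥(⋀[A]^n M) := by
  haveI : Module.Finite A M := Module.Finite.trans B M
  haveI : Module.Projective A M := by
    obtain ⟨N, f, g, -, -, hfg⟩ := Module.Finite.exists_comp_eq_id_of_projective B M
    obtain ⟨r, f', g', -, -, hfg'⟩ := Module.Finite.exists_comp_eq_id_of_projective A B
    haveI : Module.Projective A (Fin N → B) := Module.Projective.of_split (g'.compLeft (Fin N)) (f'.compLeft (Fin N))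
      (LinearMap.ext fun v => funext fun i => LinearMap.congr_fun hfg' (v i))
    exact Module.Projective.of_split (g.restrictScalars A) (f.restrictScalars A)
      (LinearMap.ext fun m => LinearMap.congr_fun hfg m)
  haveI := TopPowInvertible.projective_exteriorPower A M n
  refine TopPowInvertible.invertible_of_locally fun P hP => ?_
  haveI := hP.isPrime
  obtain ⟨w, hw, hann⟩ := TopPowInvertible.exists_local_generator A B n hn P hP
  obtain ⟨s, t, ht, hs⟩ := exists_gen (B := B) M P
  obtain ⟨h1, h2⟩ := gen_map M ht hs hw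
  refine ⟨_, h1, fun c hc => ?_⟩
  obtain ⟨v, hv, hvc⟩ := h2 c hc
  obtain ⟨v', hv', hv'0⟩ := hann _ hvc
  exact ⟨v' * v, fun h => (hP.isPrime.mem_or_mem h).elim hv' hv, by rw [mul_assoc]; exact hv'0⟩

end top

end Groth.Agent.CommAlg4.NormGraph
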