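import Mathlib
import Groth.Agent.CommAlg4.NormGraph

/-! Local bases of projective modules over a finite algebra, and the scalars by which top exterior
powers transform. -/

set_option autoImplicit false
universe u

open TensorProduct

namespace Groth.Agent.CommAlg4.NormGraphRank

open NormGraph

variable {A B : Type u} [CommRing A] [CommRing B] [Algebra A B] [Module.Finite A B]
  (M : Type u) [AddCommGroup M] [Module B M] [Module A M] [IsScalarTower A B M]
  [Module.Finite B M] [Module.Projective B M]

theorem exists_gens {k : ℕ} (hM : ∀ q : PrimeSpectrum B, Module.rankAtStalk M q = k) (P : Ideal A) [P.IsMaximal] :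
    ∃ (s : Fin k → M) (t : A), t ∉ P ∧ ∀ m : M, ∃ g : Fin k → B, t • m = ∑ i, g i • s i := by
  let I := P.map (algebraMap A B)
  letI := Ideal.Quotient.field P
  letI : Algebra (A ⧸ P) (B ⧸ I) := Ideal.Quotient.algebraQuotientOfLEComap Ideal.le_comap_map
  haveI : IsScalarTower A (A ⧸ P) (B ⧸ I) := .of_algebraMap_eq fun _ => rfl
  haveI : Module.Finite (A ⧸ P) (B ⧸ I) := Module.Finite.of_restrictScalars_finite A _ _
  haveI : IsArtinianRing (B ⧸ I) := IsArtinianRing.of_finite (A ⧸ P) (B ⧸ I)
  obtain ⟨e⟩ := Module.nonempty_basis_of_flat_of_finrank_eq (B ⧸ I) ((B ⧸ I) ⊗[B] M) k fun Q => by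
    haveI := Q.isMaximal
    letI := Ideal.Quotient.field Q.1
    let pt : PrimeSpectrum ((B ⧸ I) ⧸ Q.1) := ⟨⊥, Ideal.isPrime_bot⟩
    have h := congrFun (Module.rankAtStalk_eq_finrank_of_free (R := (B ⧸ I) ⧸ Q.1)
      (M := ((B ⧸ I) ⧸ Q.1) ⊗[B ⧸ I] ((B ⧸ I) ⊗[B] M))) pt
    rw [Module.rankAtStalk_baseChange, Module.rankAtStalk_baseChange, hM] at h
    simpa using h.symm
  choose s hs using fun i => TensorProduct.mk_surjective B M (B ⧸ I) Ideal.Quotient.mk_surjective (e i)
  have hs' : ∀ i, (1 : B ⧸ I) ⊗ₜ[B] s i = e i := hs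
  let N : Submodule A M := (Submodule.span B (Set.range s)).restrictScalars A
  have hsup : ∀ m : M, m ∈ N ⊔ P • (⊤ : Submodule A M) := by
    intro m
    choose b hb using fun i => Ideal.Quotient.mk_surjective (e.repr (1 ⊗ₜ[B] m) i)
    have h1 : (1 : B ⧸ I) ⊗ₜ[B] (m - ∑ i, b i • s i) = 0 := by
      rw [TensorProduct.tmul_sub, TensorProduct.tmul_sum, sub_eq_zero]
      conv_lhs => rw [← e.sum_repr ((1 : B ⧸ I) ⊗ₜ[B] m)]
      refine Finset.sum_congr rfl fun i _ => ?_
      rw [TensorProduct.tmul_smul, hs', ← hb i]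
      exact algebraMap_smul (B ⧸ I) (b i) (e i)
    have h2 : m - ∑ i, b i • s i ∈ I • (⊤ : Submodule B M) := by
      rw [← Submodule.Quotient.mk_eq_zero]
      have := congrArg (TensorProduct.quotTensorEquivQuotSMul M I) h1
      rwa [map_zero, ← map_one (Ideal.Quotient.mk I), TensorProduct.quotTensorEquivQuotSMul_mk_tmul, one_smul] at this
    have h3 : m - ∑ i, b i • s i ∈ P • (⊤ : Submodule A M) := by
      refine Submodule.smul_induction_on (p := fun x => x ∈ P • (⊤ : Submodule A M)) h2 (fun r hr x _ => ?_)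
        fun x y hx hy => add_mem hx hy
      induction hr using Submodule.span_induction generalizing x with
      | mem r hr =>
        obtain ⟨a, ha, rfl⟩ := hr
        rw [algebraMap_smul]
        exact Submodule.smul_mem_smul ha Submodule.mem_top
      | zero => rw [zero_smul]; exact zero_mem _
      | add r r' _ _ hr hr' => rw [add_smul]; exact add_mem (hr x Submodule.mem_top) (hr' x Submodule.mem_top)
      | smul c r _ hr => rw [smul_eq_mul, mul_comm, mul_smul]; exact hr _ Submodule.mem_top
    rw [show m = ∑ i, b i • s i + (m - ∑ i, b i • s i) by abel]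
    exact Submodule.add_mem_sup
      ((Submodule.mem_span_range_iff_exists_fun B).2 ⟨b, rfl⟩) h3
  haveI : Module.Finite A M := Module.Finite.trans B M
  have htop : (⊤ : Submodule A (M ⧸ N)) ≤ P • ⊤ := by
    rintro x -
    obtain ⟨m, rfl⟩ := N.mkQ_surjective x
    obtain ⟨y, hy, z, hz, rfl⟩ := Submodule.mem_sup.1 (hsup m)
    rw [map_add, Submodule.mkQ_apply, (Submodule.Quotient.mk_eq_zero N).2 hy, zero_add]
    have := Submodule.mem_map_of_mem (f := N.mkQ) hz
    rw [Submodule.map_smul''] at this
    exact Submodule.smul_mono le_rfl le_top this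
  obtain ⟨t, ht, ht0⟩ := Submodule.exists_sub_one_mem_and_smul_eq_zero_of_fg_of_le_smul P ⊤ Module.Finite.fg_top htop
  refine ⟨s, t, fun h => (Ideal.IsMaximal.ne_top (I := P) inferInstance) ((Ideal.eq_top_iff_one _).2 (by
    simpa using P.sub_mem h ht)), fun m => ?_⟩
  have := ht0 (N.mkQ m) Submodule.mem_top
  rw [← map_smul, Submodule.mkQ_apply, Submodule.Quotient.mk_eq_zero] at this
  obtain ⟨g, hg⟩ := (Submodule.mem_span_range_iff_exists_fun B).1 this
  exact ⟨g, hg.symm⟩

theorem alternating_det {R V W ι : Type*} [CommRing R] [AddCommGroup V] [Module R V] [AddCommGroup W] [Module R W]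
    [Fintype ι] [DecidableEq ι] (g : V [⋀^ι]→ₗ[R] W) (ω : ι → V) (X : Matrix ι ι R) :
    g (fun i => ∑ j, X i j • ω j) = X.det • g ω := by
  let e := Pi.basisFun R ι
  let L : (ι → R) →ₗ[R] V := Fintype.linearCombination R ω
  have hLe : ∀ i, L (e i) = ω i := fun i => by simp [L, e]
  have h : g.compLinearMap L = (LinearMap.toSpanSingleton R W (g ω)).compAlternatingMap e.det := by
    refine e.ext_alternating fun v hv => ?_
    let σ : Equiv.Perm ι := Equiv.ofBijective v (Finite.injective_iff_bijective.1 hv)
    have e1 : (fun i => e (v i)) = e ∘ σ := rfl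
    rw [e1, AlternatingMap.map_perm, AlternatingMap.map_perm]
    congr 1
    simp only [AlternatingMap.compLinearMap_apply, hLe, LinearMap.compAlternatingMap_apply,
      LinearMap.toSpanSingleton_apply, e.det_self, one_smul]
  have h2 := congrArg (fun G : (ι → R) [⋀^ι]→ₗ[R] W => G fun i => X i) h
  simp only [AlternatingMap.compLinearMap_apply, LinearMap.compAlternatingMap_apply,
    LinearMap.toSpanSingleton_apply] at h2
  rw [show e.det (fun i => X i) = X.det by
    rw [Module.Basis.det_apply, ← Matrix.det_transpose]; congr 1] at h2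
  simpa [L, Fintype.linearCombination_apply] using h2

/-- The determinant identity behind the norm of a determinant. -/
theorem det_block {R S : Type*} [CommRing R] [CommRing S] [Algebra R S] {n k : ℕ} (b : Module.Basis (Fin n) R S)
    (g : Matrix (Fin k) (Fin k) S) (v : Fin k → Fin n → S) :
    Matrix.det (Matrix.of fun x y : Fin k × Fin n => b.repr (g x.1 y.1 * v x.1 x.2) y.2) =
      (∏ i, Matrix.det (Matrix.of fun j j' : Fin n => b.repr (v i j) j')) * (Algebra.leftMulMatrix b g.det).det := by
  let D : Matrix (Fin k × Fin n) (Fin k × Fin n) R :=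
    (Matrix.blockDiagonal fun i => Matrix.of fun j j' : Fin n => b.repr (v i j) j').submatrix (Equiv.prodComm _ _) (Equiv.prodComm _ _)
  let E := Matrix.comp (Fin k) (Fin k) (Fin n) (Fin n) R (g.transpose.map (Algebra.leftMulMatrix b).toRingHom)
  have : (Matrix.of fun x y : Fin k × Fin n => b.repr (g x.1 y.1 * v x.1 x.2) y.2) = D * E.transpose := by
    ext ⟨i, j⟩ ⟨i', j'⟩
    rw [Matrix.mul_apply, Fintype.sum_prod_type, Finset.sum_eq_single i]
    · show b.repr (g i i' * v i j) j' = _
      rw [← Algebra.leftMulMatrix_mulVec_repr b (g i i') (v i j)]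
      simp only [Matrix.mulVec, dotProduct]
      refine Finset.sum_congr rfl fun p _ => ?_
      simp [D, E, Matrix.blockDiagonal_apply, Matrix.comp]
      exact mul_comm _ _
    · intro i'' _ hne
      exact Finset.sum_eq_zero fun p _ => by simp [D, Matrix.blockDiagonal_apply, (Ne.symm hne)]
    · simp
  rw [this, Matrix.det_mul, Matrix.det_transpose, Matrix.det_submatrix_equiv_self, Matrix.det_blockDiagonal,
    ← Matrix.det_det, Matrix.det_transpose]
  rfl

/-- Changing vectors and a frame scales the two determinant constructions by the same factor. -/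
theorem det_rel {R S : Type*} [CommRing R] [CommRing S] [Algebra R S] {n k : ℕ} (b : Module.Basis (Fin n) R S)
    (t : R) (g : Matrix (Fin (k + 1)) (Fin (k + 1)) S) (v : Fin (k + 1) → Fin n → S) :
    Matrix.det (Matrix.of fun x y : Fin (k + 1) × Fin n => t * b.repr (g x.1 y.1 * v x.1 x.2) y.2) =
      (∏ i : Fin k, Matrix.det (Matrix.of fun j j' : Fin n => t * b.repr (v i.castSucc j) j')) *
        Matrix.det (Matrix.of fun j j' : Fin n => t * b.repr (g.det * v (Fin.last k) j) j') := by
  have h1 : ∀ (f : Fin n → Fin n → R), Matrix.det (Matrix.of fun j j' => t * f j j') = t ^ n * (Matrix.of f).det := fun f => by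
    rw [show (Matrix.of fun j j' => t * f j j') = t • Matrix.of f from rfl, Matrix.det_smul, Fintype.card_fin]
  have h2 : Matrix.det (Matrix.of fun j j' : Fin n => b.repr (g.det * v (Fin.last k) j) j') =
      Matrix.det (Matrix.of fun j j' : Fin n => b.repr (v (Fin.last k) j) j') * (Algebra.leftMulMatrix b g.det).det := by
    rw [← Matrix.det_transpose (Algebra.leftMulMatrix b g.det), ← Matrix.det_mul]
    congr 1
    ext j j'
    show b.repr _ j' = _
    rw [← Algebra.leftMulMatrix_mulVec_repr b g.det, Matrix.mul_apply]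
    simp only [Matrix.mulVec, dotProduct, Matrix.transpose_apply]
    exact Finset.sum_congr rfl fun p _ => mul_comm _ _
  rw [show (Matrix.of fun x y : Fin (k + 1) × Fin n => t * b.repr (g x.1 y.1 * v x.1 x.2) y.2) =
    t • (Matrix.of fun x y : Fin (k + 1) × Fin n => b.repr (g x.1 y.1 * v x.1 x.2) y.2) from rfl,
    Matrix.det_smul, det_block, h1 (fun j j' => b.repr (g.det * v (Fin.last k) j) j'), h2, Fintype.card_prod, Fintype.card_fin, Fintype.card_fin, Fin.prod_univ_castSucc]
  rw [Finset.prod_congr rfl fun (i : Fin k) _ => h1 (fun j j' => b.repr (v i.castSucc j) j')]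
  simp only [Finset.prod_mul_distrib, Finset.prod_const, Finset.card_univ, Fintype.card_fin]
  ring

end Groth.Agent.CommAlg4.NormGraphRank
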