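import Mathlib
import Groth.Agent.CommAlg4.NormGraphRank
import Groth.Agent.CSA.AzumayaAut

/-! Local invertibility and generators for the determinant of a projective module over a finite algebra. -/

set_option autoImplicit false
universe u

open TensorProduct

namespace Groth.Agent.CommAlg4.NormGraphDet

open NormGraph

variable {A : Type u} [CommRing A]

theorem gen_alt {V : Type u} [AddCommGroup V] [Module A V] {P : Ideal A} [hP : P.IsPrime] {c : A} (hc : c ∉ P)
    {N : ℕ} (ω : Fin N → V) (h : ∀ x : V, c • x ∈ Submodule.span A (Set.range ω)) :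
    Gen P (exteriorPower.ιMulti A N ω) := by
  intro m
  refine ⟨c ^ N, fun h => hc (hP.mem_of_pow_mem N h), ?_⟩
  have hm : m ∈ Submodule.span A (Set.range (exteriorPower.ιMulti A N (M := V))) := by
    rw [exteriorPower.ιMulti_span]; exact Submodule.mem_top
  induction hm using Submodule.span_induction with
  | mem y hy =>
    obtain ⟨x, rfl⟩ := hy
    choose X hX using fun l => (Submodule.mem_span_range_iff_exists_fun A).1 (h (x l))
    refine Submodule.mem_span_singleton.2 ⟨(Matrix.of X).det, ?_⟩
    rw [← NormGraphRank.alternating_det (exteriorPower.ιMulti A N) ω (Matrix.of X)]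
    simp only [Matrix.of_apply, hX]
    rw [AlternatingMap.map_smul_univ, Finset.prod_const, Finset.card_univ, Fintype.card_fin]
  | zero => simp
  | add a b _ _ ha hb => rw [smul_add]; exact Submodule.add_mem _ ha hb
  | smul r a _ ha => rw [smul_comm]; exact Submodule.smul_mem _ _ ha

theorem gen_tprod {V : Type u} [AddCommGroup V] [Module A V] {P : Ideal A} [hP : P.IsPrime] {x : V} (hx : Gen P x)
    (k : ℕ) : Gen P (PiTensorProduct.tprod A (fun _ : Fin k => x)) := by
  classical
  intro m
  induction m using PiTensorProduct.induction_on with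
  | smul_tprod r f =>
    choose v hv hvm using fun i => hx (f i)
    choose a ha using fun i => Submodule.mem_span_singleton.1 (hvm i)
    refine ⟨∏ i, v i, fun h => ?_, Submodule.mem_span_singleton.2 ⟨r * ∏ i, a i, ?_⟩⟩
    · obtain ⟨i, -, hi⟩ := (Ideal.IsPrime.prod_mem_iff (p := P)).1 h
      exact hv i hi
    · rw [mul_smul, ← (PiTensorProduct.tprod A).map_smul_univ, smul_comm (∏ i, v i) r,
        ← (PiTensorProduct.tprod A).map_smul_univ]
      congr 2
      exact funext ha
  | add a b ha hb =>
    obtain ⟨v, hv, hva⟩ := ha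
    obtain ⟨w, hw, hwb⟩ := hb
    refine ⟨v * w, fun h => (hP.mem_or_mem h).elim hv hw, ?_⟩
    rw [smul_add]
    refine Submodule.add_mem _ ?_ ?_
    · rw [mul_comm, mul_smul]; exact Submodule.smul_mem _ _ hva
    · rw [mul_smul]; exact Submodule.smul_mem _ _ hwb

theorem span_pow {B : Type u} [CommRing B] [Algebra A B] {M : Type u} [AddCommGroup M] [Module B M] [Module A M]
    [IsScalarTower A B M] {u : A} {k : ℕ} (s : Fin k → M) (hs : ∀ m : M, ∃ g : Fin k → B, u • m = ∑ i, g i • s i)
    (y : ↥(⋀[B]^k M)) : ∃ g : B, u ^ k • y = g • exteriorPower.ιMulti B k s := by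
  have hy : y ∈ Submodule.span B (Set.range (exteriorPower.ιMulti B k (M := M))) := by
    rw [exteriorPower.ιMulti_span]; exact Submodule.mem_top
  induction hy using Submodule.span_induction with
  | mem y hy =>
    obtain ⟨x, rfl⟩ := hy
    choose g hg using fun i => hs (x i)
    refine ⟨(Matrix.of g).det, ?_⟩
    rw [← NormGraphRank.alternating_det (exteriorPower.ιMulti B k) s (Matrix.of g)]
    simp only [Matrix.of_apply, ← hg, ← algebraMap_smul B u]
    rw [AlternatingMap.map_smul_univ, Finset.prod_const, Finset.card_univ, Fintype.card_fin, ← map_pow, algebraMap_smul]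
  | zero => exact ⟨0, by simp⟩
  | add a b _ _ ha hb =>
    obtain ⟨g, hg⟩ := ha
    obtain ⟨g', hg'⟩ := hb
    exact ⟨g + g', by rw [smul_add, hg, hg', add_smul]⟩
  | smul r a _ ha =>
    obtain ⟨g, hg⟩ := ha
    exact ⟨r * g, by rw [smul_comm, hg, mul_smul]⟩

/-- Near a maximal ideal `B` has a basis over `A`. -/
theorem exists_basis_near (B : Type u) [CommRing B] [Algebra A B] [Module.Finite A B] [Module.Projective A B] {n : ℕ}
    (hn : ∀ q : PrimeSpectrum A, Module.rankAtStalk B q = n) (P : Ideal A) [P.IsPrime] :
    ∃ (b : Fin n → B) (b' : Module.Basis (Fin n) (Localization.AtPrime P) (Localization.AtPrime P ⊗[A] B)) (t : A),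
      t ∉ P ∧ (∀ x : B, ∃ c : Fin n → A, t • x = ∑ i, c i • b i) ∧ ∀ i, b' i = 1 ⊗ₜ b i := by
  classical
  let R := Localization.AtPrime P
  haveI : Module.Free R (R ⊗[A] B) := Module.free_of_flat_of_isLocalRing
  have hr : Module.finrank R (R ⊗[A] B) = n := by
    rw [← Module.rankAtStalk_eq_finrank_tensorProduct ⟨P, inferInstance⟩, hn]
  let β := Module.finBasisOfFinrankEq R (R ⊗[A] B) hr
  haveI : IsLocalizedModule P.primeCompl (TensorProduct.mk A R B 1) :=
    (isLocalizedModule_iff_isBaseChange P.primeCompl R _).2 (TensorProduct.isBaseChange A B R)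
  choose x hx using fun i => IsLocalizedModule.surj P.primeCompl (TensorProduct.mk A R B 1) (β i)
  let b' := β.unitsSMul fun i => (IsLocalization.map_units R (x i).2).unit
  have hb' : ∀ i, b' i = 1 ⊗ₜ (x i).1 := fun i => by
    rw [Module.Basis.unitsSMul_apply, Units.smul_def, IsUnit.unit_spec, algebraMap_smul]
    exact hx i
  have key : ∀ y : B, ∃ v ∉ P, v • y ∈ Submodule.span A (Set.range fun i => (x i).1) := by
    intro y
    let p := fun i => IsLocalization.surj P.primeCompl (b'.repr ((1 : R) ⊗ₜ[A] y) i)
    choose q hq using p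
    have h1 : TensorProduct.mk A R B 1 ((∏ i, ((q i).2 : A)) • y) =
        TensorProduct.mk A R B 1 (∑ i, ((∏ j ∈ Finset.univ.erase i, ((q j).2 : A)) * (q i).1) • (x i).1) := by
      rw [map_smul, map_sum]
      conv_lhs => rw [TensorProduct.mk_apply, ← b'.sum_repr ((1 : R) ⊗ₜ[A] y), Finset.smul_sum]
      refine Finset.sum_congr rfl fun i _ => ?_
      rw [map_smul, TensorProduct.mk_apply, ← hb',
        ← algebraMap_smul R (∏ l, ((q l).2 : A)) (b'.repr ((1 : R) ⊗ₜ[A] y) i • b' i), smul_smul,
        ← algebraMap_smul R ((∏ j ∈ Finset.univ.erase i, ((q j).2 : A)) * (q i).1) (b' i),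
        ← Finset.mul_prod_erase _ (fun j => ((q j).2 : A)) (Finset.mem_univ i), map_mul, map_mul, ← hq i]
      congr 1
      ring
    obtain ⟨c, hc⟩ := (IsLocalizedModule.eq_iff_exists P.primeCompl (TensorProduct.mk A R B 1)).1 h1
    refine ⟨(c : A) * ∏ i, ((q i).2 : A), fun h => ?_, ?_⟩
    · rcases (Ideal.IsPrime.mem_or_mem inferInstance h) with h | h
      · exact c.2 h
      · obtain ⟨i, -, hi⟩ := (Ideal.IsPrime.prod_mem_iff (p := P)).1 h
        exact (q i).2.2 hi
    · rw [mul_smul, ← Submonoid.smul_def, hc, Submonoid.smul_def]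
      exact Submodule.smul_mem _ _ (Submodule.sum_mem _ fun i _ => Submodule.smul_mem _ _ (Submodule.subset_span ⟨i, rfl⟩))
  obtain ⟨N, z, hz⟩ := Module.Finite.exists_fin (R := A) (M := B)
  choose v hv hvz using fun l => key (z l)
  refine ⟨fun i => (x i).1, b', ∏ l, v l, fun h => ?_, fun y => ?_, hb'⟩
  · obtain ⟨l, -, hl⟩ := (Ideal.IsPrime.prod_mem_iff (p := P)).1 h
    exact hv l hl
  have hy : y ∈ Submodule.span A (Set.range z) := hz ▸ Submodule.mem_top
  suffices (∏ l, v l) • y ∈ Submodule.span A (Set.range fun i => (x i).1) by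
    obtain ⟨c, hc⟩ := (Submodule.mem_span_range_iff_exists_fun A).1 this
    exact ⟨c, hc.symm⟩
  induction hy using Submodule.span_induction with
  | mem w hw =>
    obtain ⟨l, rfl⟩ := hw
    rw [← Finset.mul_prod_erase _ v (Finset.mem_univ l), mul_comm, mul_smul]
    exact Submodule.smul_mem _ _ (hvz l)
  | zero => simp
  | add a b _ _ ha hb => rw [smul_add]; exact Submodule.add_mem _ ha hb
  | smul r a _ ha => rw [smul_comm]; exact Submodule.smul_mem _ _ ha

variable {B : Type u} [CommRing B] [Algebra A B]
  (M : Type u) [AddCommGroup M] [Module B M] [Module A M] [IsScalarTower A B M]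
  [Module.Finite B M] [Module.Projective B M]

/-- Local frames give two-sided inverses up to a power. -/
theorem exists_frame_inverse {k : ℕ} (hM : ∀ q : PrimeSpectrum B, Module.rankAtStalk M q = k) {t : A}
    (s : Fin k → M) (hs : ∀ m : M, ∃ g : Fin k → B, t • m = ∑ i, g i • s i) :
    ∃ (N : ℕ) (h : M →ₗ[B] (Fin k → B)), h ∘ₗ Fintype.linearCombination B s = algebraMap A B t ^ N • LinearMap.id ∧
      Fintype.linearCombination B s ∘ₗ h = algebraMap A B t ^ N • LinearMap.id := by
  classical
  let π := Fintype.linearCombination B s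
  obtain ⟨σ, hσ⟩ := Module.projective_lifting_property π.rangeRestrict
    (LinearMap.codRestrict (LinearMap.range π) (algebraMap A B t • LinearMap.id) fun m => by
      obtain ⟨g, hg⟩ := hs m
      exact ⟨g, by simp [π, Fintype.linearCombination_apply, hg]⟩) π.surjective_rangeRestrict
  have hσ' : ∀ m, π (σ m) = algebraMap A B t • m := fun m => congrArg Subtype.val (LinearMap.congr_fun hσ m)
  have hker : ∀ c : Fin k → B, π c = 0 → ∀ i, ∃ N : ℕ, algebraMap A B t ^ N * c i = 0 := by
    intro c hc i
    let J : Ideal B := (⊥ : Ideal B).colon {c i}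
    suffices algebraMap A B t ∈ J.radical by
      obtain ⟨N, hN⟩ := this
      exact ⟨N, by simpa [J, Submodule.mem_colon_singleton] using hN⟩
    rw [Ideal.radical_eq_sInf]
    refine Submodule.mem_sInf.2 ?_
    rintro (Q : Ideal B) ⟨hle, hQ⟩
    haveI : Q.IsPrime := hQ
    by_contra htQ
    let R := Localization.AtPrime Q
    let f := LocalizedModule.mkLinearMap Q.primeCompl M
    haveI : Module.Free R (LocalizedModule Q.primeCompl M) := Module.free_of_flat_of_isLocalRing
    let e := Module.finBasisOfFinrankEq R (LocalizedModule Q.primeCompl M) (hM ⟨Q, hQ⟩)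
    let L : (Fin k → R) →ₗ[R] LocalizedModule Q.primeCompl M := Fintype.linearCombination R (f ∘ s)
    have hLs : Function.Surjective L := fun y => by
      obtain ⟨⟨m, w⟩, hw⟩ := IsLocalizedModule.surj Q.primeCompl f y
      obtain ⟨g, hg⟩ := hs m
      have hu : IsUnit (algebraMap B R ((w : B) * algebraMap A B t)) :=
        IsLocalization.map_units R (⟨(w : B) * algebraMap A B t, fun h => (hQ.mem_or_mem h).elim w.2 htQ⟩ : Q.primeCompl)
      refine ⟨fun j => hu.unit⁻¹.1 * algebraMap B R (g j), ?_⟩
      have : algebraMap B R ((w : B) * algebraMap A B t) • y = ∑ j, algebraMap B R (g j) • f (s j) := by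
        rw [algebraMap_smul, mul_comm, mul_smul, ← Submonoid.smul_def, hw, ← map_smul, algebraMap_smul, hg, map_sum]
        simp only [map_smul, algebraMap_smul]
      rw [Fintype.linearCombination_apply]
      simp only [mul_smul, Function.comp_apply, ← Finset.smul_sum, ← this]
      rw [smul_smul, hu.val_inv_mul, one_smul]
    have hinj : Function.Injective L := by
      have hbij := OrzechProperty.injective_of_surjective_endomorphism (e.equivFun.toLinearMap ∘ₗ L)
        (e.equivFun.surjective.comp hLs)
      exact Function.Injective.of_comp (f := e.equivFun) hbij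
    have h0 : L (fun j => algebraMap B R (c j)) = 0 := by
      rw [Fintype.linearCombination_apply]
      simp only [algebraMap_smul, Function.comp_apply, ← map_smul, ← map_sum]
      rw [← Fintype.linearCombination_apply B s c, show Fintype.linearCombination B s c = π c from rfl, hc, map_zero]
    have h1 : algebraMap B R (c i) = 0 := congrFun (hinj (h0.trans (map_zero L).symm)) i
    obtain ⟨v, hv⟩ := (IsLocalization.map_eq_zero_iff Q.primeCompl R _).1 h1
    exact v.2 (hle (Submodule.mem_colon_singleton.2 (by simpa using hv)))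
  choose N hN using fun (p : Fin k × Fin k) => hker (σ (π (Pi.single p.1 1)) - algebraMap A B t • Pi.single p.1 1)
    (by rw [map_sub, map_smul, hσ', sub_self]) p.2
  refine ⟨(Finset.univ.sup N) + 1, algebraMap A B t ^ (Finset.univ.sup N) • σ, ?_, ?_⟩
  · refine (Pi.basisFun B (Fin k)).ext fun i => funext fun j => ?_
    simp only [Pi.basisFun_apply, LinearMap.comp_apply, LinearMap.smul_apply, LinearMap.id_apply]
    rw [pow_succ, mul_smul, ← sub_eq_zero, Pi.smul_apply, Pi.smul_apply, ← smul_sub, ← Pi.sub_apply, smul_eq_mul,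
      ← Nat.sub_add_cancel (Finset.le_sup (f := N) (Finset.mem_univ (i, j))), pow_add, mul_assoc, hN (i, j), mul_zero]
  · refine LinearMap.ext fun m => ?_
    simp only [LinearMap.comp_apply, LinearMap.smul_apply, LinearMap.id_apply, map_smul]
    rw [hσ', pow_succ, mul_smul]

theorem projective_restrict [Module.Finite A B] [Module.Projective A B] : Module.Projective A M := by
  obtain ⟨N, f, g, -, -, hfg⟩ := Module.Finite.exists_comp_eq_id_of_projective B M
  obtain ⟨r, f', g', -, -, hfg'⟩ := Module.Finite.exists_comp_eq_id_of_projective A B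
  haveI : Module.Projective A (Fin N → B) := Module.Projective.of_split (g'.compLeft (Fin N)) (f'.compLeft (Fin N))
    (LinearMap.ext fun v => funext fun i => LinearMap.congr_fun hfg' (v i))
  exact Module.Projective.of_split (g.restrictScalars A) (f.restrictScalars A)
    (LinearMap.ext fun m => LinearMap.congr_fun hfg m)

theorem rankAtStalk_restrict [Module.Finite A B] [Module.Projective A B] {n k : ℕ}
    (hn : ∀ q : PrimeSpectrum A, Module.rankAtStalk B q = n)
    (hM : ∀ q : PrimeSpectrum B, Module.rankAtStalk M q = k) (q : PrimeSpectrum A) :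
    Module.rankAtStalk M q = n * k := by
  obtain ⟨P, hP, hle⟩ := Ideal.exists_le_maximal q.asIdeal q.2.ne_top
  obtain ⟨s, t, ht, hs⟩ := NormGraphRank.exists_gens (A := A) M hM P
  obtain ⟨N, h, h1, h2⟩ := exists_frame_inverse M hM s hs
  let π := (Fintype.linearCombination B s).restrictScalars A
  let g := h.restrictScalars A
  have hu : IsUnit (algebraMap A (Localization.AtPrime q.asIdeal) t ^ N) :=
    (IsLocalization.map_units (Localization.AtPrime q.asIdeal) (⟨t, fun h => ht (hle h)⟩ : q.asIdeal.primeCompl)).pow N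
  have e1 : g ∘ₗ π = (t ^ N) • LinearMap.id := LinearMap.ext fun c => by
    have := LinearMap.congr_fun h1 c
    simp only [LinearMap.comp_apply, LinearMap.smul_apply, LinearMap.id_apply] at this
    show h (Fintype.linearCombination B s c) = t ^ N • c
    rw [this, ← map_pow, algebraMap_smul]
  have e2 : π ∘ₗ g = (t ^ N) • LinearMap.id := LinearMap.ext fun m => by
    have := LinearMap.congr_fun h2 m
    simp only [LinearMap.comp_apply, LinearMap.smul_apply, LinearMap.id_apply] at this
    show Fintype.linearCombination B s (h m) = t ^ N • m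
    rw [this, ← map_pow, algebraMap_smul]
  let R := Localization.AtPrime q.asIdeal
  have hbij : Function.Bijective (π.baseChange R) := by
    refine ⟨fun x y hxy => ?_, fun y => ⟨hu.unit⁻¹.1 • g.baseChange R y, ?_⟩⟩
    · have := congrArg (g.baseChange R) hxy
      rw [← LinearMap.comp_apply, ← LinearMap.comp_apply, ← LinearMap.baseChange_comp, e1,
        LinearMap.baseChange_smul, LinearMap.baseChange_id] at this
      simp only [LinearMap.smul_apply, LinearMap.id_apply] at this
      rw [← algebraMap_smul R (t ^ N) x, ← algebraMap_smul R (t ^ N) y, map_pow] at this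
      exact hu.smul_left_cancel.1 this
    · rw [map_smul, ← LinearMap.comp_apply, ← LinearMap.baseChange_comp, e2, LinearMap.baseChange_smul,
        LinearMap.baseChange_id, LinearMap.smul_apply, LinearMap.id_apply, ← algebraMap_smul R (t ^ N) y, map_pow,
        smul_smul, hu.val_inv_mul, one_smul]
  rw [Module.rankAtStalk_eq_finrank_tensorProduct, ← (LinearEquiv.ofBijective _ hbij).finrank_eq,
    ← Module.rankAtStalk_eq_finrank_tensorProduct, Module.rankAtStalk_pi, finsum_eq_sum_of_fintype]
  simp [hn, mul_comm]

end Groth.Agent.CommAlg4.NormGraphDet
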