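import Mathlib
import Groth.Agent.CommAlg4.ASPurity

/-! Automorphisms of the invariant ring of a `ℤ/p`-action ramified only at the origin on a complete
regular local ring lift to the ring. -/

set_option autoImplicit false
set_option linter.all false
set_option maxHeartbeats 1000000
universe u v w

namespace Groth.Agent.CommAlg4.WildLift

open Polynomial

theorem exists_natCast {L : Type v} [Field L] {p : ℕ} [hp : Fact p.Prime] [CharP L p] (x : L)
    (hx : x ^ p = x) : ∃ n : ℕ, x = n := by
  classical
  by_contra h
  push Not at h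
  have hinj := (ZMod.castHom (dvd_refl p) L).injective
  let S : Finset L := insert x (Finset.univ.image (ZMod.castHom (dvd_refl p) L))
  have hS : S.card = p + 1 := by
    rw [Finset.card_insert_of_notMem, Finset.card_image_of_injective _ hinj, Finset.card_univ, ZMod.card]
    simp only [Finset.mem_image, not_exists, not_and]
    intro i _ hi
    exact h i.val (by rw [← hi, ← map_natCast (ZMod.castHom (dvd_refl p) L), ZMod.natCast_zmod_val])
  have hP0 : (X ^ p - X : L[X]) ≠ 0 := FiniteField.X_pow_card_sub_X_ne_zero _ hp.out.one_lt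
  have hle : S.val ≤ (X ^ p - X : L[X]).roots := by
    refine (Multiset.le_iff_subset S.nodup).mpr fun y hy => ?_
    rw [mem_roots hP0]
    rcases Finset.mem_insert.mp hy with rfl | hy
    · simp [hx]
    · obtain ⟨i, -, rfl⟩ := Finset.mem_image.mp hy
      rw [IsRoot.def, eval_sub, eval_pow, eval_X, ← map_pow, ZMod.pow_card, sub_self]
  have := (Multiset.card_le_card hle).trans (card_roots' _)
  rw [FiniteField.X_pow_card_sub_X_natDegree_eq _ hp.out.one_lt] at this
  rw [Finset.card_val] at this
  omega

theorem exists_root {k : Type v} [Field k] (p : ℕ) [hp : Fact p.Prime] [CharP k p]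
    (hkp : ∀ (L : Type v) [Field L] [Algebra k L], IsGalois k L → Module.finrank k L ≠ p) (c : k) :
    ∃ r : k, r ^ p - r = c := by
  by_contra hno
  let P : k[X] := X ^ p - X - C c
  let L := P.SplittingField
  haveI : CharP L p := charP_of_injective_algebraMap (algebraMap k L).injective p
  have hsep : P.Separable := by
    rw [separable_def']
    refine ⟨0, -1, ?_⟩
    simp [P, derivative_X_pow, CharP.cast_eq_zero]
  haveI : IsGalois k L := IsGalois.of_separable_splitting_field (p := P) hsep
  have hPdeg : P.natDegree = p := by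
    have := hp.out.two_le
    simp only [P]
    compute_degree
    · simp [show ¬ 1 = p by omega, show ¬ p = 0 by omega]
    all_goals omega
  obtain ⟨θ, hθ⟩ := (SplittingField.splits P).exists_eval_eq_zero (f := P.map (algebraMap k L)) (by
    rw [degree_map]; intro h; rw [natDegree_eq_zero_iff_degree_le_zero.mpr h.le] at hPdeg
    exact hp.out.ne_zero hPdeg.symm)
  have hθ' : θ ^ p - θ = algebraMap k L c := by simpa [P, sub_eq_zero] using hθ
  have hroots : ∀ g : L ≃ₐ[k] L, (g θ - θ) ^ p = g θ - θ := fun g => by
    have := congrArg g hθ'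
    simp only [map_sub, map_pow, AlgEquiv.commutes] at this
    rw [sub_pow_char]
    linear_combination this - hθ'
  have hP0 : P ≠ 0 := fun h => hp.out.ne_zero (by rw [← hPdeg, h, natDegree_zero])
  have hfix : ∀ g : L ≃ₐ[k] L, g θ = θ → g = 1 := by
    intro g hg
    refine AlgEquiv.ext fun x => ?_
    have hx : x ∈ Algebra.adjoin k (P.rootSet L) := by rw [SplittingField.adjoin_rootSet]; trivial
    induction hx using Algebra.adjoin_induction with
    | mem y hy =>
      rw [mem_rootSet_of_ne hP0] at hy
      have hy' : y ^ p - y = algebraMap k L c := by simpa [P, sub_eq_zero] using hy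
      obtain ⟨n, hn⟩ := exists_natCast (p := p) (y - θ) (by rw [sub_pow_char]; linear_combination hy' - hθ')
      have hy2 : y = θ + n := by rw [← hn]; ring
      simp only [hy2, map_add, hg, AlgEquiv.one_apply]
      exact congrArg _ (map_natCast g n)
    | algebraMap r => simp
    | add a b _ _ ha hb => simp_all
    | mul a b _ _ ha hb => simp_all
  choose n hn using fun g => exists_natCast (p := p) (g θ - θ) (hroots g)
  let j : (L ≃ₐ[k] L) →* Multiplicative (ZMod p) := MonoidHom.mk' (fun g => Multiplicative.ofAdd (n g : ZMod p)) (by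
    intro g h
    rw [← ofAdd_add]
    refine congrArg Multiplicative.ofAdd ((ZMod.castHom (dvd_refl p) L).injective ?_)
    rw [map_add, map_natCast, map_natCast, map_natCast, ← hn, ← hn, ← hn, AlgEquiv.mul_apply]
    have : h θ = θ + n h := by rw [← hn]; ring
    rw [this, map_add, map_natCast]; ring)
  have hj : Function.Injective j := by
    rw [injective_iff_map_eq_one]
    intro g hg
    have h0 : (n g : ZMod p) = 0 := congrArg Multiplicative.toAdd hg
    refine hfix g (sub_eq_zero.mp ?_)
    rw [hn, ← map_natCast (ZMod.castHom (dvd_refl p) L), h0, map_zero]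
  haveI : Finite (Multiplicative (ZMod p)) := inferInstanceAs (Finite (ZMod p))
  have hdvd : Module.finrank k L ∣ p := by
    have := Subgroup.card_dvd_of_injective j hj
    rwa [IsGalois.card_aut_eq_finrank, Nat.card_congr Multiplicative.toAdd, Nat.card_zmod] at this
  rcases (Nat.dvd_prime hp.out).mp hdvd with h | h
  · have hmem : θ ∈ (⊥ : Subalgebra k L) := by
      rw [Subalgebra.bot_eq_top_of_finrank_eq_one h]; trivial
    obtain ⟨r, hr⟩ := Algebra.mem_bot.mp hmem
    exact hno ⟨r, (algebraMap k L).injective (by rw [map_sub, map_pow, hr]; exact hθ')⟩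
  · exact hkp L inferInstance h

theorem field_lift {K : Type u} [Field K] (L : Subfield K) (p : ℕ) [hp : Fact p.Prime] [CharP K p]
    (hrank : Module.finrank L K = p) (θ θ' : K) (hθL : θ ∉ L) (hθ'L : θ' ∉ L)
    (f : L) (hf : θ ^ p - θ = f) (φ : L ≃+* L) (hθ' : θ' ^ p - θ' = φ f) :
    ∃ ψ : K ≃+* K, (∀ x : L, ψ x = φ x) := by
  haveI : FiniteDimensional L K := Module.finite_of_finrank_pos (by rw [hrank]; exact hp.out.pos)
  have hint : IsIntegral L θ := IsIntegral.of_finite L θ
  have htop : ∀ t : K, t ∉ L → IntermediateField.adjoin L {t} = ⊤ := by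
    intro t ht
    have hd := IntermediateField.finrank_dvd_of_le_right (le_top : IntermediateField.adjoin L {t} ≤ ⊤)
    rw [IntermediateField.finrank_top', hrank] at hd
    rcases (Nat.dvd_prime hp.out).mp hd with h | h
    · rw [IntermediateField.finrank_eq_one_iff, IntermediateField.adjoin_simple_eq_bot_iff,
        IntermediateField.mem_bot] at h
      obtain ⟨y, rfl⟩ := h
      exact absurd y.2 ht
    · exact IntermediateField.eq_of_le_of_finrank_eq le_top (by rw [h, IntermediateField.finrank_top', hrank])
  let P : L[X] := X ^ p - X - C f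
  have hPdeg : P.natDegree = p := by
    have := hp.out.two_le
    simp only [P]
    compute_degree
    · simp [show ¬ 1 = p by omega, show ¬ p = 0 by omega]
    all_goals omega
  have hPm : P.Monic := by
    unfold Polynomial.Monic Polynomial.leadingCoeff
    rw [hPdeg]
    have := hp.out.two_le
    simp [P, coeff_X, coeff_C, show ¬ 1 = p by omega, show ¬ p = 0 by omega]
  have hmin : minpoly L θ = P := by
    refine (Polynomial.eq_of_monic_of_dvd_of_natDegree_le (minpoly.monic hint) hPm (minpoly.dvd L θ ?_) ?_).symm
    · simp [P, hf, Subfield.coe_subtype, show algebraMap L K f = (f : K) from rfl]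
    · rw [hPdeg, ← IntermediateField.adjoin.finrank hint, htop θ hθL, IntermediateField.finrank_top', hrank]
  let e0 : AdjoinRoot (minpoly L θ) →ₐ[L] K := AdjoinRoot.liftAlgHom _ (Algebra.ofId L K) θ (by
    simpa [Polynomial.aeval_def] using minpoly.aeval L θ)
  have he0 : Function.Bijective e0 := by
    haveI : Fact (Irreducible (minpoly L θ)) := ⟨minpoly.irreducible hint⟩
    refine ⟨e0.toRingHom.injective, fun x => ?_⟩
    have hx : x ∈ (IntermediateField.adjoin L {θ}).toSubalgebra := by rw [htop θ hθL]; trivial
    rw [IntermediateField.adjoin_simple_toSubalgebra_of_isAlgebraic hint.isAlgebraic] at hx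
    have hle : Algebra.adjoin L {θ} ≤ e0.range := by
      rw [Algebra.adjoin_le_iff, Set.singleton_subset_iff]
      exact ⟨AdjoinRoot.root _, AdjoinRoot.liftAlgHom_root _ _ _ _⟩
    exact hle hx
  let e := AlgEquiv.ofBijective e0 he0
  let χ : AdjoinRoot (minpoly L θ) →+* K := AdjoinRoot.lift (L.subtype.comp φ.toRingHom) θ' (by
    rw [hmin]; simp [P, hθ'])
  let ψ0 : K →+* K := χ.comp e.symm.toAlgHom.toRingHom
  have hψL : ∀ x : L, ψ0 x = φ x := fun x => by
    have h1 : e.symm (algebraMap L K x) = algebraMap L _ x := e.symm.commutes x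
    change χ (e.symm (algebraMap L K x)) = _
    rw [h1, AdjoinRoot.algebraMap_eq, AdjoinRoot.lift_of]
    rfl
  have hsurj : Function.Surjective ψ0 := by
    intro y
    let M : IntermediateField L K := (ψ0.fieldRange).toIntermediateField fun x =>
      ⟨(φ.symm x : L), by rw [hψL]; simp; rfl⟩
    have hM : θ' ∈ M := by
      refine ⟨θ, ?_⟩
      change χ (e.symm θ) = θ'
      rw [show e.symm θ = AdjoinRoot.root (minpoly L θ) from by
        rw [AlgEquiv.symm_apply_eq]
        change θ = e0 (AdjoinRoot.root _)
        simp only [e0, AdjoinRoot.liftAlgHom_root]]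
      exact AdjoinRoot.lift_root _
    have hle : IntermediateField.adjoin L {θ'} ≤ M :=
      IntermediateField.adjoin_le_iff.mpr (Set.singleton_subset_iff.mpr hM)
    rw [htop θ' hθ'L] at hle
    exact hle (IntermediateField.mem_top (x := y))
  exact ⟨RingEquiv.ofBijective ψ0 ⟨ψ0.injective, hsurj⟩, hψL⟩

theorem ne_maximalIdeal (A : Type u) [CommRing A] [IsLocalRing A] [IsNoetherianRing A] (hdim : 2 ≤ ringKrullDim A) [IsDomain A] {q : A} :
    Ideal.span {q} ≠ IsLocalRing.maximalIdeal A := by
  intro h
  have h1 : (IsLocalRing.maximalIdeal A).height ≤ 1 := by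
    haveI : (Ideal.span {q}).IsPrincipal := ⟨q, rfl⟩
    refine Ideal.height_le_one_of_isPrincipal_of_mem_minimalPrimes (Ideal.span {q}) _ ?_
    rw [h, Ideal.minimalPrimes_eq_subsingleton_self]; rfl
  have h2 := hdim
  rw [← IsLocalRing.maximalIdeal_height_eq_ringKrullDim] at h2
  have h3 : (2 : ℕ∞) ≤ (IsLocalRing.maximalIdeal A).height := WithBot.coe_le_coe.mp h2
  exact absurd (h3.trans h1) (by decide)

section Main
variable (p : ℕ) [hp : Fact p.Prime] (A : Type u) [CommRing A] [IsRegularLocalRing A] [CharP A p]
    [IsAdicComplete (IsLocalRing.maximalIdeal A) A]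
    (k : Type v) [Field k] [Algebra k A]
    (G : Type w) [Group G] [Finite G] [MulSemiringAction G A] [SMulCommClass G k A]

theorem exists_trace_notMem [Fintype G]
    (hram : ∀ P : Ideal A, P.IsPrime → P ≠ IsLocalRing.maximalIdeal A → P.inertia G = ⊥)
    (P : Ideal A) [P.IsPrime] (hP : P ≠ IsLocalRing.maximalIdeal A) : ∃ a : A, ∑ g : G, g • a ∉ P := by
  classical
  by_contra hno
  push Not at hno
  let F := FractionRing (A ⧸ P)
  let χ : G → (A →* F) := fun g =>
    (((algebraMap (A ⧸ P) F).comp (Ideal.Quotient.mk P)).comp (MulSemiringAction.toRingHom G A g)).toMonoidHom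
  have hinj : Function.Injective χ := by
    intro g h hgh
    have hmem : g * h⁻¹ ∈ P.inertia G := by
      intro b
      have := DFunLike.congr_fun hgh (h⁻¹ • b)
      have h' : Ideal.Quotient.mk P (g • h⁻¹ • b) = Ideal.Quotient.mk P (h • h⁻¹ • b) :=
        IsFractionRing.injective (A ⧸ P) F this
      rw [Ideal.Quotient.mk_eq_mk_iff_sub_mem, smul_smul, smul_inv_smul] at h'
      exact h'
    rw [hram P inferInstance hP, Subgroup.mem_bot, mul_inv_eq_one] at hmem
    exact hmem
  have hli := (linearIndependent_monoidHom A F).comp χ hinj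
  have h0 := Fintype.linearIndependent_iff.mp hli (fun _ => 1) (by
    funext a
    have := hno a
    rw [← Ideal.Quotient.eq_zero_iff_mem, map_sum] at this
    simpa [χ, map_sum] using congrArg (algebraMap (A ⧸ P) F) this) 1
  exact one_ne_zero h0

theorem exists_algEquiv_extends (hdim : 2 ≤ ringKrullDim A)
    (hk : Function.Surjective (IsLocalRing.residue A ∘ algebraMap k A))
    (hkp : ∀ (L : Type v) [Field L] [Algebra k L], IsGalois k L → Module.finrank k L ≠ p)
    (hcard : Nat.card G = p)
    (hram : ∀ P : Ideal A, P.IsPrime → P ≠ IsLocalRing.maximalIdeal A → P.inertia G = ⊥)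
    (φ : FixedPoints.subalgebra k A G ≃ₐ[k] FixedPoints.subalgebra k A G) :
    ∃ ψ : A ≃ₐ[k] A, ∀ x : FixedPoints.subalgebra k A G, ψ x = φ x := by
  classical
  haveI : IsDomain A := Groth.Agent.CAlgH3.isDomain_of_isRegularLocalRing A
  haveI := Groth.Agent.CAlgH3.ufm_of_regular A
  haveI : CharP k p := by
    refine (RingHom.charP_iff _ (algebraMap k A).injective p).mpr inferInstance
  let B := FixedPoints.subalgebra k A G
  haveI : Fintype G := Fintype.ofFinite G
  let K := FractionRing A
  haveI : CharP K p := charP_of_injective_algebraMap (IsFractionRing.injective A K) p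
  letI : MulSemiringAction G K := IsFractionRing.mulSemiringAction G A K
  have hsmul : ∀ (g : G) (a : A), g • algebraMap A K a = algebraMap A K (g • a) := fun g a =>
    IsFractionRing.ringEquivOfRingEquiv_algebraMap _ _
  have hinjK := IsFractionRing.injective A K
  have hbotne : (⊥ : Ideal A) ≠ IsLocalRing.maximalIdeal A := fun h =>
    ne_maximalIdeal A hdim (q := (0 : A)) (by rw [← h]; simp)
  haveI : FaithfulSMul G K := ⟨fun {g h} e => by
    have hmem : g * h⁻¹ ∈ (⊥ : Ideal A).inertia G := by
      intro b
      have := e (algebraMap A K (h⁻¹ • b))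
      rw [hsmul, hsmul] at this
      have h' := hinjK this
      rw [smul_smul, smul_inv_smul] at h'
      simp [h']
    rw [hram ⊥ Ideal.isPrime_bot hbotne, Subgroup.mem_bot, mul_inv_eq_one] at hmem
    exact hmem⟩
  let L := FixedPoints.subfield G K
  have hrank : Module.finrank L K = p := by
    rw [FixedPoints.finrank_eq_card, ← Nat.card_eq_fintype_card, hcard]
  have hιmem : ∀ b : B, algebraMap A K (b : A) ∈ L := fun b g => by rw [hsmul, b.2 g]
  let ι : B →+* L := ((algebraMap A K).comp B.val.toRingHom).codRestrict L hιmem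
  letI : Algebra B L := ι.toAlgebra
  have hι : Function.Injective ι := fun x y h => Subtype.ext (hinjK (congrArg Subtype.val h))
  haveI : IsFractionRing B L := by
    refine ⟨fun y => ?_, fun x => ?_, fun {x y} h => ⟨1, by rw [hι h]⟩⟩
    · exact isUnit_iff_ne_zero.mpr ((map_ne_zero_iff _ hι).mpr (nonZeroDivisors.ne_zero y.2))
    · obtain ⟨a, s, hs, hx⟩ := IsFractionRing.div_surjective A (x : K)
      have hs0 : s ≠ 0 := nonZeroDivisors.ne_zero hs
      let N : A := ∏ g : G, g • s
      have hN : ∀ g : G, g • N = N := fun g => by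
        simp only [N, Finset.smul_prod', smul_smul]
        exact Fintype.prod_equiv (Equiv.mulLeft g) _ _ fun _ => rfl
      have hN0 : N ≠ 0 := Finset.prod_ne_zero_iff.mpr fun g _ => smul_ne_zero_iff_ne g |>.mpr hs0
      let r := ∏ g ∈ Finset.univ.erase (1 : G), g • s
      have hNr : N = s * r := by
        simp only [N, r]; rw [← Finset.mul_prod_erase _ _ (Finset.mem_univ (1 : G)), one_smul]
      have hx' : (x : K) * algebraMap A K N = algebraMap A K (a * r) := by
        rw [← hx, hNr, map_mul, map_mul]
        have : algebraMap A K s ≠ 0 := (map_ne_zero_iff _ hinjK).mpr hs0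
        rw [← mul_assoc, div_mul_cancel₀ _ this]
      have har : ∀ g : G, g • (a * r) = a * r := fun g => hinjK (by
        rw [← hsmul, ← hx', smul_mul', hsmul, hN g, x.2 g])
      refine ⟨⟨⟨a * r, har⟩, ⟨⟨N, hN⟩, mem_nonZeroDivisors_of_ne_zero fun h => hN0 (congrArg Subtype.val h)⟩⟩,
        Subtype.ext ?_⟩
      exact hx'
  let φL : L ≃+* L := IsFractionRing.ringEquivOfRingEquiv (φ.toRingEquiv)
  have hφL : ∀ b : B, φL (ι b) = ι (φ b) := fun b => IsFractionRing.ringEquivOfRingEquiv_algebraMap _ b
  -- the generator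
  obtain ⟨σ, hσ⟩ : ∃ σ : G, σ ≠ 1 := by
    haveI : Nontrivial G := Finite.one_lt_card_iff_nontrivial.mp (by rw [hcard]; exact hp.out.one_lt)
    exact exists_ne 1
  have hgen : ∀ g : G, g ∈ Subgroup.zpowers σ := fun g => mem_zpowers_of_prime_card hcard hσ
  have hσp : σ ^ p = 1 := by rw [← hcard]; exact pow_card_eq_one'
  have hord : orderOf σ = p := orderOf_eq_prime hσp hσ
  have hfixall : ∀ x : A, σ • x = x → ∀ g : G, g • x = x := by
    intro x hx g
    exact (Subgroup.zpowers_le.mpr (show σ ∈ MulAction.stabilizer G x from hx)) (hgen g)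
  have hfixallK : ∀ x : K, σ • x = x → ∀ g : G, g • x = x := by
    intro x hx g
    exact (Subgroup.zpowers_le.mpr (show σ ∈ MulAction.stabilizer G x from hx)) (hgen g)
  have htr : ∀ a : A, ∃ a' : A, σ • a' = a' + ∑ g : G, g • a := by
    intro a
    let T : ℕ → A := fun i => (i : A) * σ ^ i • a
    refine ⟨- ∑ i ∈ Finset.range p, T i, ?_⟩
    have hcast : ∀ (i : ℕ) (x : A), σ • ((i : A) * x) = (i : A) * σ • x := fun i x => by
      rw [smul_mul']; congr 1; exact map_natCast (MulSemiringAction.toRingHom G A σ) i
    have hsum : ∑ g : G, g • a = ∑ i ∈ Finset.range p, σ ^ (i + 1) • a := by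
      have hbij : Function.Bijective fun i : Fin p => σ ^ (i.1 + 1) := by
        refine (Fintype.bijective_iff_injective_and_card _).mpr ⟨fun i j h => ?_, by
          rw [Fintype.card_fin, ← Nat.card_eq_fintype_card, hcard]⟩
        simp only [pow_succ] at h
        exact Fin.ext (pow_injOn_Iio_orderOf (by rw [hord]; exact i.2) (by rw [hord]; exact j.2) (mul_right_cancel h))
      rw [← Fintype.sum_bijective _ hbij (fun i => σ ^ (i.1 + 1) • a) _ (fun _ => rfl)]
      exact (Finset.sum_range (fun i => σ ^ (i + 1) • a)).symm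
    have h1 : ∑ i ∈ Finset.range p, T (i + 1) = ∑ i ∈ Finset.range p, T i := by
      have := (Finset.sum_range_succ' T p).symm.trans (Finset.sum_range_succ T p)
      simpa [T] using this
    rw [smul_neg, Finset.smul_sum, hsum]
    simp only [T, hcast, smul_smul, ← pow_succ']
    rw [← h1]
    simp only [T, Nat.cast_add, Nat.cast_one, add_mul, one_mul, Finset.sum_add_distrib]
    ring
  obtain ⟨a0, ha0⟩ := exists_trace_notMem A G hram ⊥ hbotne
  have hu0 : algebraMap A K (∑ g : G, g • a0) ≠ 0 := (map_ne_zero_iff _ hinjK).mpr (by simpa using ha0)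
  have htrB : ∀ a : A, ∀ g : G, g • (∑ h : G, h • a) = ∑ h : G, h • a := fun a g => by
    rw [Finset.smul_sum]; simp only [smul_smul]
    exact Fintype.sum_equiv (Equiv.mulLeft g) _ _ fun _ => rfl
  obtain ⟨a', ha'⟩ := htr a0
  let θ : K := algebraMap A K a' / algebraMap A K (∑ g : G, g • a0)
  have hθσ : σ • θ = θ + 1 := by
    simp only [θ, smul_div₀', hsmul, htrB a0 σ, ha', map_add, add_div, div_self hu0]
  have hθL : θ ∉ L := fun h => by
    have := h σ; rw [hθσ] at this; exact one_ne_zero (add_eq_left.mp this)
  let f : L := ⟨θ ^ p - θ, hfixallK _ (by rw [smul_sub, smul_pow', hθσ, add_pow_char, one_pow]; ring)⟩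
  have hAint : Algebra.IsIntegral B A := by
    haveI : Algebra.IsInvariant B A G := ⟨fun a h => ⟨⟨a, h⟩, rfl⟩⟩
    exact Algebra.IsInvariant.isIntegral B A G
  -- local regularity of the transported class
  obtain ⟨h0, c0, hh0⟩ := ASPurity.exists_sub_mem_range p (A := A) ((φL f : L) : K) (fun q hq => by
    haveI : (Ideal.span {q}).IsPrime := (Ideal.span_singleton_prime hq.ne_zero).mpr hq
    let P : Ideal A := Ideal.span {q}
    have hPne : P ≠ IsLocalRing.maximalIdeal A := ne_maximalIdeal A hdim
    let Q : Ideal B := (P.comap (algebraMap B A)).comap φ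
    haveI : (P.comap (algebraMap B A)).IsPrime := Ideal.IsPrime.comap _
    haveI : Q.IsPrime := Ideal.IsPrime.comap _
    obtain ⟨P', -, hP'p, hP'Q⟩ := Ideal.exists_ideal_over_prime_of_isIntegral Q (⊥ : Ideal A) (by
      intro x hx
      have : (x : A) = 0 := by simpa using hx
      rw [show x = 0 from Subtype.ext this]; exact Q.zero_mem)
    have hP'ne : P' ≠ IsLocalRing.maximalIdeal A := by
      intro h
      have hQmax : Q.IsMaximal := by
        rw [← hP'Q, h]; exact Ideal.isMaximal_comap_of_isIntegral_of_isMaximal _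
      have hQ' : (P.comap (algebraMap B A)).IsMaximal := by
        have := hQmax.map_bijective φ.toRingEquiv.toRingHom φ.bijective
        rwa [show Ideal.map φ.toRingEquiv.toRingHom Q = P.comap (algebraMap B A) from
          Ideal.map_comap_of_surjective φ.toRingEquiv.toRingHom φ.surjective _] at this
      have hPmax : P.IsMaximal := Ideal.isMaximal_of_isIntegral_of_isMaximal_comap (R := B) P hQ'
      exact hPne (IsLocalRing.eq_maximalIdeal hPmax)
    obtain ⟨a1, ha1⟩ := exists_trace_notMem A G hram P' hP'ne
    obtain ⟨a2, ha2⟩ := htr a1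
    let u : B := ⟨∑ g : G, g • a1, htrB a1⟩
    have hu : algebraMap A K (u : A) ≠ 0 := (map_ne_zero_iff _ hinjK).mpr fun h => ha1 (by
      rw [show (∑ g : G, g • a1) = (u : A) from rfl, h]; exact P'.zero_mem)
    have hl : θ - algebraMap A K a2 / algebraMap A K (u : A) ∈ L := by
      refine hfixallK _ ?_
      rw [smul_sub, hθσ, smul_div₀', hsmul, hsmul, u.2 σ, ha2, map_add, add_div]
      rw [show algebraMap A K (∑ g : G, g • a1) = algebraMap A K (u : A) from rfl, div_self hu]
      ring
    let N : B := ⟨a2 ^ p - (u : A) ^ (p - 1) * a2, hfixall _ (by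
      rw [smul_sub, smul_pow', smul_mul', smul_pow', u.2 σ, ha2, add_pow_char]
      rw [show (∑ g : G, g • a1) = (u : A) from rfl]
      have h2 : (u : A) ^ p = (u : A) ^ (p - 1) * (u : A) := by
        rw [← pow_succ, Nat.sub_add_cancel hp.out.one_le]
      rw [h2]; ring)⟩
    let l : L := ⟨_, hl⟩
    have hfN : (f - (l ^ p - l)) * ι u ^ p = ι N := by
      apply Subtype.ext
      change (θ ^ p - θ - ((θ - algebraMap A K a2 / algebraMap A K (u : A)) ^ p -
        (θ - algebraMap A K a2 / algebraMap A K (u : A)))) * algebraMap A K (u : A) ^ p =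
          algebraMap A K (a2 ^ p - (u : A) ^ (p - 1) * a2)
      rw [sub_pow_char, map_sub, map_mul, map_pow, map_pow, div_pow]
      have h2 : algebraMap A K (u : A) ^ p = algebraMap A K (u : A) ^ (p - 1) * algebraMap A K (u : A) := by
        rw [← pow_succ, Nat.sub_add_cancel hp.out.one_le]
      rw [show ∀ x y z w : K, x - w - (x - y - (w - z)) = y - z from fun x y z w => by ring, sub_mul,
        div_pow, div_mul_cancel₀ _ (pow_ne_zero _ hu), h2]
      rw [mul_comm (algebraMap A K (u : A) ^ (p - 1)) (algebraMap A K (u : A)), ← mul_assoc (_ / _), div_mul_cancel₀ _ hu]; ring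
    refine ⟨((φL l : L) : K), (φ u : A) ^ p, (φ N : A), ?_, ?_⟩
    · intro hdvd
      have h1 : (φ u : A) ∈ P := Ideal.mem_span_singleton.mpr (hq.dvd_of_dvd_pow hdvd)
      have h2 : u ∈ Q := h1
      rw [← hP'Q] at h2
      exact ha1 h2
    · have := congrArg φL hfN
      simp only [map_mul, map_sub, map_pow, hφL] at this
      have h3 := congrArg Subtype.val this
      rw [map_pow]
      exact h3)
  obtain ⟨c, hc⟩ := hk (IsLocalRing.residue A c0)
  obtain ⟨r, hr⟩ := exists_root p hkp c
  obtain ⟨z, hz, -⟩ := HenselianRing.is_henselian (R := A) (I := IsLocalRing.maximalIdeal A)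
    (X ^ p - X - C c0) (by
      unfold Polynomial.Monic Polynomial.leadingCoeff
      have := hp.out.two_le
      have hdeg : (X ^ p - X - C c0).natDegree = p := by
        compute_degree
        · simp [show ¬ 1 = p by omega, show ¬ p = 0 by omega]
        all_goals omega
      rw [hdeg]
      simp [coeff_X, coeff_C, show ¬ 1 = p by omega, show ¬ p = 0 by omega]) (algebraMap k A r) (by
      simp only [eval_sub, eval_pow, eval_X, eval_C]
      rw [← map_pow, ← map_sub, hr]
      exact (Ideal.Quotient.eq (I := IsLocalRing.maximalIdeal A)).mp hc) (by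
      have : (derivative (X ^ p - X - C c0)).eval (algebraMap k A r) = -1 := by
        simp [derivative_X_pow, CharP.cast_eq_zero]
      rw [this, map_neg, map_one]
      exact isUnit_one.neg)
  let θ' : K := h0 + algebraMap A K z
  have hθ'eq : θ' ^ p - θ' = ((φL f : L) : K) := by
    have hz' : z ^ p - z = c0 := by simpa [sub_eq_zero] using hz
    have h1 := congrArg (algebraMap A K) hz'
    rw [map_sub, map_pow] at h1
    simp only [θ']
    rw [add_pow_char]
    linear_combination h1 - hh0
  have hθ'L : θ' ∉ L := fun h => by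
    let l' : L := φL.symm ⟨θ', h⟩
    have h1 : l' ^ p - l' = f := by
      simp only [l', ← map_pow, ← map_sub]
      rw [show (⟨θ', h⟩ : L) ^ p - ⟨θ', h⟩ = φL f from Subtype.ext hθ'eq, RingEquiv.symm_apply_apply]
    have h2 : (θ - l' : K) ^ p = θ - l' := by
      have h3 : (l' : K) ^ p - l' = θ ^ p - θ := congrArg Subtype.val h1
      rw [sub_pow_char]; linear_combination -h3
    obtain ⟨n, hn⟩ := exists_natCast (p := p) (θ - (l' : K)) h2
    exact hθL (by rw [show θ = (l' : K) + n by rw [← hn]; ring]; exact add_mem l'.2 (natCast_mem L n))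
  obtain ⟨ψK, hψK⟩ := field_lift L p hrank θ θ' hθL hθ'L f rfl φL hθ'eq
  have hmaps : ∀ (e : K ≃+* K) (φ0 : B →+* B), (∀ b : B, e (algebraMap A K (b : A)) = algebraMap A K (φ0 b : A)) →
      ∀ a : A, ∃ a₁ : A, algebraMap A K a₁ = e (algebraMap A K a) := by
    intro e φ0 he a
    obtain ⟨P, hPm, hP⟩ := hAint.isIntegral a
    apply IsIntegrallyClosed.isIntegral_iff.mp
    refine ⟨P.map ((B.val.toRingHom).comp φ0), hPm.map _, ?_⟩
    rw [eval₂_map, show (algebraMap A K).comp ((B.val.toRingHom).comp φ0) =
      (e.toRingHom.comp (algebraMap A K)).comp (algebraMap B A) from RingHom.ext fun b => (he b).symm,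
      show e (algebraMap A K a) = (e.toRingHom.comp (algebraMap A K)) a from rfl, ← hom_eval₂, hP, map_zero]
  have hB : ∀ b : B, ψK (algebraMap A K (b : A)) = algebraMap A K (φ b : A) := fun b => by
    have := hψK (ι b); rw [hφL] at this; exact this
  have hBs : ∀ b : B, ψK.symm (algebraMap A K (b : A)) = algebraMap A K (φ.symm b : A) := fun b => by
    rw [RingEquiv.symm_apply_eq, hB, AlgEquiv.apply_symm_apply]
  choose ψ0 hψ0 using hmaps ψK φ.toRingEquiv.toRingHom hB
  choose ψ1 hψ1 using hmaps ψK.symm φ.symm.toRingEquiv.toRingHom hBs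
  refine ⟨{ toFun := ψ0
            invFun := ψ1
            left_inv := fun a => hinjK (by rw [hψ1, hψ0, RingEquiv.symm_apply_apply])
            right_inv := fun a => hinjK (by rw [hψ0, hψ1, RingEquiv.apply_symm_apply])
            map_mul' := fun a b => hinjK (by simp [hψ0])
            map_add' := fun a b => hinjK (by simp [hψ0])
            commutes' := fun r => hinjK (by
              rw [hψ0]
              exact (hB (algebraMap k B r)).trans (by rw [φ.commutes]; rfl)) },
    fun x => hinjK ((hψ0 x).trans (hB x))⟩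

theorem card_algEquiv_eq (hdim : 2 ≤ ringKrullDim A)
    (hk : Function.Surjective (IsLocalRing.residue A ∘ algebraMap k A))
    (hkp : ∀ (L : Type v) [Field L] [Algebra k L], IsGalois k L → Module.finrank k L ≠ p)
    (hcard : Nat.card G = p)
    (hram : ∀ P : Ideal A, P.IsPrime → P ≠ IsLocalRing.maximalIdeal A → P.inertia G = ⊥)
    (R : Type v) [CommRing R] [Algebra k R] [Algebra R A] [IsScalarTower k R A] [Module.Finite R A]
    (hRinj : Function.Injective (algebraMap R A))
    (hRG : ∀ (σ : G) (r : R), σ • algebraMap R A r = algebraMap R A r)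
    (hgal : p * Nat.card {φ : FixedPoints.subalgebra k A G ≃ₐ[k] FixedPoints.subalgebra k A G //
        ∀ b : FixedPoints.subalgebra k A G, (b : A) ∈ Set.range (algebraMap R A) → (φ b : A) = b} =
      Module.finrank R A) :
    Nat.card (A ≃ₐ[R] A) = Module.finrank R A := by
  classical
  haveI : IsDomain A := Groth.Agent.CAlgH3.isDomain_of_isRegularLocalRing A
  haveI : IsDomain R := hRinj.isDomain _
  haveI : Module.IsTorsionFree R A := .of_smul_eq_zero (fun r a h => by
    rw [Algebra.smul_def, mul_eq_zero] at h
    exact h.imp_left fun h => hRinj (by rw [h, map_zero]))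
  let B := FixedPoints.subalgebra k A G
  let F := FractionRing A
  haveI : FaithfulSMul R F := (faithfulSMul_iff_algebraMap_injective R F).mpr (by
    rw [IsScalarTower.algebraMap_eq R A F]; exact (IsFractionRing.injective A F).comp hRinj)
  letI : Algebra (FractionRing R) F := FractionRing.liftAlgebra R F
  haveI : FaithfulSMul R A := (faithfulSMul_iff_algebraMap_injective R A).mpr hRinj
  haveI : Algebra.IsAlgebraic R A := Algebra.IsIntegral.isAlgebraic
  haveI : Module.Finite (FractionRing R) F :=
    Module.Finite.of_isLocalizedModule (nonZeroDivisors R) (IsScalarTower.toAlgHom R A F).toLinearMap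
  have hrk : Module.finrank (FractionRing R) F = Module.finrank R A :=
    IsFractionRing.finrank_eq R (FractionRing R) A F
  have hext : ∀ e : A ≃ₐ[R] A, ∃ E : F →ₐ[FractionRing R] F, ∀ a, E (algebraMap A F a) = algebraMap A F (e a) := by
    intro e
    let E : F →+* F := (IsFractionRing.ringEquivOfRingEquiv e.toRingEquiv : F ≃+* F)
    have hE : ∀ a, E (algebraMap A F a) = algebraMap A F (e a) := fun a =>
      IsFractionRing.ringEquivOfRingEquiv_algebraMap _ a
    have hcomm : E.comp (algebraMap (FractionRing R) F) = algebraMap (FractionRing R) F :=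
      IsLocalization.ringHom_ext (nonZeroDivisors R) (RingHom.ext fun r => by
        simp only [RingHom.comp_apply]
        rw [← IsScalarTower.algebraMap_apply R (FractionRing R) F, IsScalarTower.algebraMap_apply R A F,
          hE, e.commutes])
    exact ⟨{ E with commutes' := fun x => RingHom.congr_fun hcomm x }, hE⟩
  choose Ext hExt using hext
  have hExtinj : Function.Injective Ext := fun e e' h => AlgEquiv.ext fun a =>
    IsFractionRing.injective A F (by rw [← hExt, ← hExt, h])
  haveI : Finite (A ≃ₐ[R] A) := Finite.of_injective Ext hExtinj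
  refine le_antisymm ?_ ?_
  · exact (Nat.card_le_card_of_injective Ext hExtinj).trans
      ((card_algHom_le_finrank (FractionRing R) F F).trans hrk.le)
  · rw [← hgal]
    let S := {φ : B ≃ₐ[k] B // ∀ b : B, (b : A) ∈ Set.range (algebraMap R A) → (φ b : A) = b}
    have hψ : ∀ φ : S, ∃ ψ : A ≃ₐ[k] A, ∀ x : B, ψ x = φ.1 x := fun φ =>
      exists_algEquiv_extends p A k G hdim hk hkp hcard hram φ.1
    choose Ψ hΨ using hψ
    let m : G × S → (A ≃ₐ[R] A) := fun x =>
      { (MulSemiringAction.toRingEquiv G A x.1).trans (Ψ x.2).toRingEquiv with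
        commutes' := fun r => by
          change Ψ x.2 (x.1 • algebraMap R A r) = algebraMap R A r
          rw [hRG]
          have := hΨ x.2 ⟨algebraMap R A r, fun g => hRG g r⟩
          rw [this]
          exact x.2.2 _ ⟨r, rfl⟩ }
    have hm : Function.Injective m := by
      rintro ⟨g, φ⟩ ⟨g', φ'⟩ h
      have h' : ∀ a, Ψ φ (g • a) = Ψ φ' (g' • a) := fun a => DFunLike.congr_fun h a
      have hφ : φ = φ' := Subtype.ext (AlgEquiv.ext fun b => Subtype.ext (by
        have := h' b; rw [b.2 g, b.2 g', hΨ, hΨ] at this; exact this))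
      subst hφ
      have hg : g = g' := by
        have hmem : g * g'⁻¹ ∈ (⊥ : Ideal A).inertia G := fun b => by
          have := (Ψ φ).injective (h' (g'⁻¹ • b))
          rw [smul_smul, smul_inv_smul] at this
          simp [this]
        rw [hram ⊥ Ideal.isPrime_bot (fun h => ne_maximalIdeal A hdim (q := (0 : A)) (by rw [← h]; simp)),
          Subgroup.mem_bot, mul_inv_eq_one] at hmem
        exact hmem
      rw [hg]
    have := Nat.card_le_card_of_injective m hm
    rwa [Nat.card_prod, hcard] at this

end Main

end Groth.Agent.CommAlg4.WildLift
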