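import Mathlib
import Groth.Agent.CommAlg4.WildLift
import Groth.Agent.CommAlg4.InvRing
import Groth.Agent.DimLib.Algebra
import Groth.Agent.S15801

/-! The invariant field of a `ℤ/p`-action ramified only at the origin is not purely inseparable over the
field of fractions of a norm subring. -/

set_option autoImplicit false
set_option linter.all false
set_option maxHeartbeats 1000000
universe u v w

namespace Groth.Agent.CommAlg4.NormSubring

open Groth.Agent.CommAlg4 IsLocalRing

theorem wp_pow {K : Type u} [CommRing K] (p : ℕ) [Fact p.Prime] [CharP K p] (x : K) :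
    ∀ d : ℕ, (∑ j ∈ Finset.range d, x ^ p ^ j) ^ p - (∑ j ∈ Finset.range d, x ^ p ^ j) = x ^ p ^ d - x := by
  intro d
  induction d with
  | zero => simp [zero_pow (Fact.out : p.Prime).ne_zero]
  | succ d ih =>
    rw [Finset.sum_range_succ, add_pow_char, ← pow_mul, ← pow_succ]
    linear_combination ih

theorem exists_not_pow_mem
    (p : ℕ) [hp : Fact p.Prime] (A : Type u) [CommRing A] [IsRegularLocalRing A] [CharP A p]
    [IsAdicComplete (IsLocalRing.maximalIdeal A) A] (n : ℕ) (hn : ringKrullDim A = n) (h2 : 2 ≤ n)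
    (k : Type v) [Field k] [Algebra k A]
    (hk : Function.Surjective (IsLocalRing.residue A ∘ algebraMap k A))
    (G : Type w) [Group G] [Fintype G] [MulSemiringAction G A] (hcard : Fintype.card G = p)
    [SMulCommClass G k A]
    (hram : ∀ P : Ideal A, P.IsPrime → P ≠ IsLocalRing.maximalIdeal A → P.inertia G = ⊥)
    (u : Fin n → A)
    (hu : ∀ τ : Fin n → G,
      Ideal.span (Set.range fun i => τ i • u i) = IsLocalRing.maximalIdeal A)
    (φ : MvPowerSeries (Fin n) k →ₐ[k] A) (hφ : ∀ i, φ (MvPowerSeries.X i) = ∏ σ : G, σ • u i) :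
    ∃ y : A, (∀ σ : G, σ • y = y) ∧ ∀ e : ℕ, y ^ p ^ e ∉ Set.range φ := by
  classical
  by_contra hcon
  push Not at hcon
  haveI : IsDomain A := Groth.Agent.CAlgH3.isDomain_of_isRegularLocalRing A
  haveI := Groth.Agent.CAlgH3.ufm_of_regular A
  haveI : CharP k p := (RingHom.charP_iff _ (algebraMap k A).injective p).mpr inferInstance
  have hdimA : 2 ≤ ringKrullDim A := by rw [hn]; exact_mod_cast h2
  have hum : ∀ i, u i ∈ maximalIdeal A := fun i => by
    have h := hu fun _ => 1
    simp only [one_smul] at h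
    rw [← h]; exact Ideal.subset_span ⟨i, rfl⟩
  let x : Fin n → A := fun i => ∏ σ : G, σ • u i
  have hxm : ∀ i, x i ∈ maximalIdeal A := fun i =>
    Ideal.mem_of_dvd _ (Finset.dvd_prod_of_mem _ (Finset.mem_univ (1 : G))) (by rw [one_smul]; exact hum i)
  have hrad : (Ideal.span (Set.range x)).radical = maximalIdeal A := by
    refine le_antisymm ?_ ?_
    · refine ((maximalIdeal.isMaximal A).isPrime.radical_le_iff).mpr ?_
      rw [Ideal.span_le]; rintro _ ⟨i, rfl⟩; exact hxm i
    · rw [Ideal.radical_eq_sInf]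
      refine le_sInf fun P hP => ?_
      haveI : P.IsPrime := hP.2
      have : ∀ i, ∃ τ : G, τ • u i ∈ P := fun i => by
        obtain ⟨τ, -, hτ⟩ := (Ideal.IsPrime.prod_mem_iff (s := Finset.univ) (x := fun σ : G => σ • u i)).mp
          (hP.1 (Ideal.subset_span ⟨i, rfl⟩))
        exact ⟨τ, hτ⟩
      choose τ hτ using this
      rw [← hu τ, Ideal.span_le]
      rintro _ ⟨i, rfl⟩; exact hτ i
  obtain ⟨d, b, hd, hb⟩ := Groth.Agent.S15801.result A n hn k hk x hrad φ hφ
  let R := MvPowerSeries (Fin n) k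
  have hφinj : Function.Injective φ := by
    intro r s h
    rcases Nat.eq_zero_or_pos d with hd0 | hd0
    · subst hd0
      obtain ⟨z, hz⟩ := hb.2 1
      simp at hz
    have := hb.1 (a₁ := fun i => if i = ⟨0, hd0⟩ then r else 0) (a₂ := fun i => if i = ⟨0, hd0⟩ then s else 0) (by
      simp [apply_ite φ, h])
    simpa using congrFun this ⟨0, hd0⟩
  letI : Algebra R A := φ.toRingHom.toAlgebra
  haveI : Module.Finite R A := ⟨⟨Finset.univ.image b, eq_top_iff.mpr fun a _ => by
    obtain ⟨r, rfl⟩ := hb.2 a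
    refine Submodule.sum_mem _ fun i _ => ?_
    exact Submodule.smul_mem _ (r i) (Submodule.subset_span (by simp))⟩⟩
  haveI : IsRegularLocalRing R := (Groth.Agent.CAlgH.isRegularLocalRing_mvPowerSeries k n).1
  haveI : IsDomain R := hφinj.isDomain φ.toRingHom
  haveI : CharP R p := (RingHom.charP_iff φ.toRingHom hφinj p).mpr inferInstance
  have hdimR : 2 ≤ ringKrullDim R := by
    rw [Groth.Agent.DimLib.ringKrullDim_eq_of_isIntegral (R := R) (S := A) hφinj]; exact hdimA
  -- `φ` lands in the invariants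
  have hφfix : ∀ (r : R) (σ : G), σ • φ r = φ r := fun g σ => by
    have key : ∀ (N : ℕ) g, σ • φ g - φ g ∈ maximalIdeal A ^ N := by
      intro N
      induction N with
      | zero => intro g; rw [pow_zero, Ideal.one_eq_top]; trivial
      | succ N ih =>
        intro g
        obtain ⟨q, hq⟩ := Groth.Agent.Exal29.exists_expansion g
        have hC : ∀ c : k, σ • φ (MvPowerSeries.C c) = φ (MvPowerSeries.C c) := fun c => by
          rw [show (MvPowerSeries.C c : R) = algebraMap k R c from rfl, φ.commutes]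
          exact smul_algebraMap σ c
        rw [hq, map_add, map_sum, smul_add, Finset.smul_sum, hC, add_sub_add_left_eq_sub, ← Finset.sum_sub_distrib,
          pow_succ']
        refine Ideal.sum_mem _ fun i _ => ?_
        rw [map_mul, hφ, smul_mul', show σ • ∏ τ : G, τ • u i = ∏ τ : G, τ • u i by
          rw [Finset.smul_prod']; simp only [smul_smul]
          exact Fintype.prod_equiv (Equiv.mulLeft σ) _ _ fun _ => rfl, ← mul_sub]
        exact Ideal.mul_mem_mul (hxm i) (ih _)
    rw [← sub_eq_zero]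
    refine IsHausdorff.haus (I := maximalIdeal A) inferInstance _ fun N => ?_
    rw [SModEq.zero, smul_eq_mul, Ideal.mul_top]
    exact key N g
  -- the fields
  let K := FractionRing A
  haveI : CharP K p := charP_of_injective_algebraMap (IsFractionRing.injective A K) p
  have hinjK := IsFractionRing.injective A K
  let ρ : FractionRing R →+* K := IsFractionRing.lift (g := (algebraMap A K).comp φ.toRingHom) (hinjK.comp (show Function.Injective φ.toRingHom from hφinj))
  have hρ : ∀ r : R, ρ (algebraMap R _ r) = algebraMap A K (φ r) := fun r => IsFractionRing.lift_algebraMap _ r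
  have hpow : ∀ (y : A) (e E : ℕ), e ≤ E → y ^ p ^ e ∈ Set.range φ → y ^ p ^ E ∈ Set.range φ := by
    rintro y e E hle ⟨r, hr⟩
    obtain ⟨d, rfl⟩ := Nat.exists_eq_add_of_le hle
    exact ⟨r ^ p ^ d, by rw [map_pow, hr, ← pow_mul, ← pow_add]⟩
  -- the Artin–Schreier generator
  obtain ⟨σ, hσ⟩ : ∃ σ : G, σ ≠ 1 := by
    haveI : Nontrivial G := Fintype.one_lt_card_iff_nontrivial.mp (by rw [hcard]; exact hp.out.one_lt)
    exact exists_ne 1
  have hncard : Nat.card G = p := by rw [Nat.card_eq_fintype_card, hcard]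
  have hgen : ∀ g : G, g ∈ Subgroup.zpowers σ := fun g => mem_zpowers_of_prime_card hncard hσ
  have hord : orderOf σ = p := orderOf_eq_prime (by rw [← hncard]; exact pow_card_eq_one') hσ
  have hfixall : ∀ x : A, σ • x = x → ∀ g : G, g • x = x := by
    intro x hx g
    exact (Subgroup.zpowers_le.mpr (show σ ∈ MulAction.stabilizer G x from hx)) (hgen g)
  have htrB : ∀ a : A, ∀ g : G, g • (∑ h : G, h • a) = ∑ h : G, h • a := fun a g => by
    rw [Finset.smul_sum]; simp only [smul_smul]
    exact Fintype.sum_equiv (Equiv.mulLeft g) _ _ fun _ => rfl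
  have htr : ∀ a : A, ∃ a' : A, σ • a' = a' + ∑ g : G, g • a := by
    intro a
    let T : ℕ → A := fun i => (i : A) * σ ^ i • a
    refine ⟨- ∑ i ∈ Finset.range p, T i, ?_⟩
    have hcast : ∀ (i : ℕ) (x : A), σ • ((i : A) * x) = (i : A) * σ • x := fun i x => by
      rw [smul_mul']; congr 1; exact map_natCast (MulSemiringAction.toRingHom G A σ) i
    have hsum : ∑ g : G, g • a = ∑ i ∈ Finset.range p, σ ^ (i + 1) • a := by
      have hbij : Function.Bijective fun i : Fin p => σ ^ (i.1 + 1) := by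
        refine (Fintype.bijective_iff_injective_and_card _).mpr ⟨fun i j h => ?_, by rw [Fintype.card_fin, hcard]⟩
        simp only [pow_succ] at h
        exact Fin.ext (pow_injOn_Iio_orderOf (by rw [hord]; exact i.2) (by rw [hord]; exact j.2) (mul_right_cancel h))
      rw [← Fintype.sum_bijective _ hbij (fun i => σ ^ (i.1 + 1) • a) _ (fun _ => rfl)]
      exact (Finset.sum_range (fun i => σ ^ (i + 1) • a)).symm
    have h1 : ∑ i ∈ Finset.range p, T (i + 1) = ∑ i ∈ Finset.range p, T i := by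
      have := (Finset.sum_range_succ' T p).symm.trans (Finset.sum_range_succ T p)
      simpa [T] using this
    rw [smul_neg, Finset.smul_sum, hsum]
    simp only [T, hcast, smul_smul, ← pow_succ']
    rw [← h1]
    simp only [T, Nat.cast_add, Nat.cast_one, add_mul, one_mul, Finset.sum_add_distrib]
    ring
  have hbotne : (⊥ : Ideal A) ≠ maximalIdeal A := fun h =>
    WildLift.ne_maximalIdeal A hdimA (q := (0 : A)) (by rw [← h]; simp)
  obtain ⟨a0, ha0⟩ := WildLift.exists_trace_notMem A G hram ⊥ hbotne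
  obtain ⟨a', ha'⟩ := htr a0
  set u0 := ∑ g : G, g • a0 with hu0def
  have hu0fix : ∀ g : G, g • u0 = u0 := htrB a0
  have hu0 : algebraMap A K u0 ≠ 0 := (map_ne_zero_iff _ hinjK).mpr (by simpa using ha0)
  let θ : K := algebraMap A K a' / algebraMap A K u0
  have hN : ∀ (a v : A), σ • a = a + v → σ • v = v → ∀ g : G, g • (a ^ p - v ^ (p - 1) * a) = a ^ p - v ^ (p - 1) * a := by
    intro a v hav hv
    refine hfixall _ ?_
    rw [smul_sub, smul_pow', smul_mul', smul_pow', hv, hav, add_pow_char]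
    have h2 : v ^ p = v ^ (p - 1) * v := by rw [← pow_succ, Nat.sub_add_cancel hp.out.one_le]
    rw [h2]; ring
  have hwp : ∀ (a v : A), algebraMap A K v ≠ 0 →
      (algebraMap A K a / algebraMap A K v) ^ p - algebraMap A K a / algebraMap A K v =
        algebraMap A K (a ^ p - v ^ (p - 1) * a) / algebraMap A K (v ^ p) := by
    intro a v hv
    rw [map_sub, map_mul, map_pow, map_pow, map_pow, div_pow]
    have h2 : algebraMap A K v ^ p = algebraMap A K v ^ (p - 1) * algebraMap A K v := by
      rw [← pow_succ, Nat.sub_add_cancel hp.out.one_le]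
    rw [h2, sub_div, mul_div_mul_left _ _ (pow_ne_zero _ hv)]
  let f : K := θ ^ p - θ
  obtain ⟨e₁, he₁⟩ := hcon _ (hN a' u0 ha' (hu0fix σ))
  obtain ⟨e₂, he₂⟩ := hcon (u0 ^ p) (fun g => by rw [smul_pow', hu0fix])
  have hfrac : ∀ (a v : A) (E : ℕ), a ^ p ^ E ∈ Set.range φ → v ^ p ^ E ∈ Set.range φ →
      ∃ x, ρ x = (algebraMap A K a / algebraMap A K v) ^ p ^ E := by
    rintro a v E ⟨r, hr⟩ ⟨s, hs⟩
    exact ⟨algebraMap R _ r / algebraMap R _ s, by
      rw [map_div₀, hρ, hρ, hr, hs, div_pow, map_pow, map_pow]⟩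
  let e := max e₁ e₂
  obtain ⟨F, hF⟩ : ∃ F, ρ F = f ^ p ^ e := by
    simp only [f, θ, hwp _ _ hu0]
    exact hfrac _ _ e (hpow _ _ _ (le_max_left _ _) he₁) (hpow _ _ _ (le_max_right _ _) he₂)
  obtain ⟨h0, c0, hh0⟩ := ASPurity.exists_sub_mem_range p (A := R) F (fun q hq => by
    haveI : (Ideal.span {q}).IsPrime := (Ideal.span_singleton_prime hq.ne_zero).mpr hq
    obtain ⟨P', -, hP'p, hP'Q⟩ := Ideal.exists_ideal_over_prime_of_isIntegral (Ideal.span {q} : Ideal R) (⊥ : Ideal A) (by
      intro x hx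
      have hx' : φ x = 0 := Ideal.mem_bot.mp (Ideal.mem_comap.mp hx)
      rw [show x = 0 from hφinj (by rw [hx', map_zero])]; exact Submodule.zero_mem _)
    have hP'ne : P' ≠ maximalIdeal A := by
      intro h
      have hqmax : (Ideal.span {q} : Ideal R).IsMaximal := by
        rw [← hP'Q, h]; exact Ideal.isMaximal_comap_of_isIntegral_of_isMaximal _
      exact WildLift.ne_maximalIdeal R hdimR (IsLocalRing.eq_maximalIdeal hqmax)
    obtain ⟨a1, ha1⟩ := WildLift.exists_trace_notMem A G hram P' hP'ne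
    obtain ⟨a2, ha2⟩ := htr a1
    set u1 := ∑ g : G, g • a1 with hu1def
    have hu1fix : ∀ g : G, g • u1 = u1 := htrB a1
    have hu1 : algebraMap A K u1 ≠ 0 := (map_ne_zero_iff _ hinjK).mpr fun h => ha1 (by rw [h]; exact P'.zero_mem)
    have hlfix : ∀ g : G, g • (a' * u1 - u0 * a2) = a' * u1 - u0 * a2 := hfixall _ (by
      rw [smul_sub, smul_mul', smul_mul', hu0fix, hu1fix, ha', ha2]; ring)
    obtain ⟨e₃, he₃⟩ := hcon _ hlfix
    obtain ⟨e₄, he₄⟩ := hcon (u0 * u1) (fun g => by rw [smul_mul', hu0fix, hu1fix])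
    obtain ⟨e₅, he₅⟩ := hcon u1 hu1fix
    obtain ⟨e₆, he₆⟩ := hcon _ (hN a2 u1 ha2 (hu1fix σ))
    let E := e + e₃ + e₄ + e₅ + e₆
    obtain ⟨Lx, hLx⟩ := hfrac _ _ E (hpow _ _ _ (by omega) he₃) (hpow _ _ _ (by omega) he₄)
    obtain ⟨U, hU⟩ := hpow _ _ E (by omega) he₅
    obtain ⟨M, hM⟩ := hpow _ _ E (by omega) he₆
    let S : FractionRing R := ∑ j ∈ Finset.range (E - e), F ^ p ^ j
    refine ⟨Lx - S, U ^ p, M, ?_, ?_⟩
    · intro hdvd
      have hUmem : U ∈ Ideal.span {q} := Ideal.mem_span_singleton.mpr (hq.dvd_of_dvd_pow hdvd)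
      rw [← hP'Q] at hUmem
      have : φ U ∈ P' := hUmem
      rw [hU] at this
      exact ha1 (hP'p.mem_of_pow_mem _ this)
    · apply ρ.injective
      have hl : ρ Lx = (θ - algebraMap A K a2 / algebraMap A K u1) ^ p ^ E := by
        rw [hLx]; congr 1
        simp only [θ, map_sub, map_mul]
        rw [div_sub_div _ _ hu0 hu1]
      have hS : ρ (S ^ p - S) = f ^ p ^ E - f ^ p ^ e := by
        rw [map_sub, map_pow]
        simp only [S, map_sum, map_pow, hF]
        rw [wp_pow, ← pow_mul, ← pow_add, Nat.add_sub_cancel' (by omega)]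
      have key : ρ (F - ((Lx - S) ^ p - (Lx - S))) =
          ((algebraMap A K a2 / algebraMap A K u1) ^ p - algebraMap A K a2 / algebraMap A K u1) ^ p ^ E := by
        have hpE : ∀ x : K, (x ^ p - x) ^ p ^ E = (x ^ p ^ E) ^ p - x ^ p ^ E := fun x => by
          rw [sub_pow_char_pow, ← pow_mul, mul_comm, pow_mul]
        rw [hpE, map_sub, map_sub, map_pow, map_sub, hF, sub_pow_char (p := p) (ρ Lx)]
        rw [map_sub, map_pow] at hS
        rw [hl, sub_pow_char_pow (p := p) θ, sub_pow_char (p := p) (θ ^ p ^ E)]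
        have : f ^ p ^ E = (θ ^ p ^ E) ^ p - θ ^ p ^ E := hpE θ
        linear_combination hS + this
      rw [map_mul, key, map_pow, map_pow, hρ, hρ, hU, hM, hwp _ _ hu1, div_pow, map_pow, map_pow, map_pow,
        ← pow_mul, ← pow_mul, mul_comm p (p ^ E)]
      exact div_mul_cancel₀ _ (pow_ne_zero _ hu1))
  have hh := congrArg ρ hh0
  rw [map_sub, map_sub, map_pow, hF, hρ] at hh
  let z : K := θ ^ p ^ e - ρ h0
  have hz : z ^ p - z = algebraMap A K (φ c0) := by
    simp only [z, f] at hh ⊢
    rw [sub_pow_char_pow] at hh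
    rw [sub_pow_char, ← pow_mul, mul_comm, pow_mul]
    linear_combination hh
  obtain ⟨z0, hz0⟩ : ∃ z0, algebraMap A K z0 = z := by
    apply IsIntegrallyClosed.isIntegral_iff.mp
    refine ⟨Polynomial.X ^ p - (Polynomial.X + Polynomial.C (φ c0)), ?_, ?_⟩
    · refine Polynomial.monic_X_pow_sub (lt_of_le_of_lt (Polynomial.degree_add_le _ _) ?_)
      refine lt_of_le_of_lt (max_le Polynomial.degree_X_le ((Polynomial.degree_C_le).trans zero_le_one)) ?_
      exact_mod_cast hp.out.one_lt
    · simp only [Polynomial.eval₂_sub, Polynomial.eval₂_add, Polynomial.eval₂_pow, Polynomial.eval₂_X,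
        Polynomial.eval₂_C]
      linear_combination hz
  -- apply `σ`
  have hσz : σ • z0 = z0 + 1 := by
    apply hinjK
    have hστ : algebraMap A K (σ • a') = algebraMap A K a' + algebraMap A K u0 := by rw [ha', map_add]
    obtain ⟨r, s, hs, hrs⟩ := IsFractionRing.div_surjective R h0
    have hs0 : φ s ≠ 0 := (map_ne_zero_iff _ hφinj).mpr (nonZeroDivisors.ne_zero hs)
    -- clear denominators
    have hcl : z0 * (u0 ^ p ^ e * φ s) = a' ^ p ^ e * φ s - u0 ^ p ^ e * φ r := by
      apply hinjK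
      simp only [map_mul, map_sub, map_pow, hz0, z, θ, ← hrs, map_div₀, hρ, div_pow]
      have : algebraMap A K (φ s) ≠ 0 := (map_ne_zero_iff _ hinjK).mpr hs0
      rw [div_sub_div _ _ (pow_ne_zero _ hu0) this, div_mul_cancel₀ _ (mul_ne_zero (pow_ne_zero _ hu0) this)]
    have h1 := congrArg (fun x => σ • x) hcl
    simp only [smul_mul', smul_sub, smul_pow', hu0fix, hφfix, ha', add_pow_char_pow] at h1
    have h2 : (σ • z0 - (z0 + 1)) * (u0 ^ p ^ e * φ s) = 0 := by linear_combination h1 - hcl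
    have hne : u0 ^ p ^ e * φ s ≠ 0 := mul_ne_zero (pow_ne_zero _ fun h => hu0 (by rw [h, map_zero])) hs0
    rw [sub_eq_zero.mp ((mul_eq_zero.mp h2).resolve_right hne)]
  obtain ⟨c, hc⟩ := hk (residue A z0)
  have hm : z0 - algebraMap k A c ∈ maximalIdeal A :=
    (Ideal.Quotient.eq (I := maximalIdeal A)).mp hc.symm
  have h1 := InvRing.smul_mem_maximalIdeal σ hm
  rw [smul_sub, smul_algebraMap, hσz] at h1
  have : (1 : A) ∈ maximalIdeal A := by
    have := sub_mem h1 hm
    simpa using this
  exact (maximalIdeal.isMaximal A).ne_top ((Ideal.eq_top_iff_one _).mpr this)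

end Groth.Agent.CommAlg4.NormSubring
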