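import Mathlib
import Groth.Agent.CommAlg4.Horrocks

/-!
Finite projective modules over `A[X]` extending to the projective line are extended from `A`.
-/

set_option autoImplicit false

noncomputable section

universe u

namespace Groth.Agent.CommAlg4.P1Bundle

open scoped TensorProduct Polynomial
open Groth.Agent.CommAlg4.IdemSim Groth.Agent.CommAlg4.Horrocks

theorem exists_extended {A : Type u} [CommRing A] (M : Type u) [AddCommGroup M] [Module A[X] M]
    [Module.Finite A[X] M] [Module.Projective A[X] M] (N : Type u) [AddCommGroup N]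
    [Module A[X] N] [Module.Finite A[X] N] [Module.Projective A[X] N]
    (e : (LaurentPolynomial A ⊗[A[X]] M) ≃+ (LaurentPolynomial A ⊗[A[X]] N))
    (he : ∀ (a : LaurentPolynomial A) (z : LaurentPolynomial A ⊗[A[X]] M),
      e (a • z) = LaurentPolynomial.invert a • e z) :
    ∃ (P : Type u) (_ : AddCommGroup P) (_ : Module A P), Module.Finite A P ∧
      Module.Projective A P ∧ Nonempty (M ≃ₗ[A[X]] (A[X] ⊗[A] P)) := by
  classical
  obtain ⟨k, i, p, hpi⟩ := exists_retract A[X] M
  obtain ⟨l, i', p', hpi'⟩ := exists_retract A[X] N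
  set E := LinearMap.toMatrix' (i ∘ₗ p) with hE
  set F := LinearMap.toMatrix' (i' ∘ₗ p') with hF
  obtain ⟨iL, pL, hL, hLE⟩ := exists_retract_baseChange (S := LaurentPolynomial A) i p hpi
  obtain ⟨iL', pL', hL', hLF⟩ := exists_retract_baseChange (S := LaurentPolynomial A) i' p' hpi'
  rw [← hE] at hLE
  rw [← hF] at hLF
  let inv := LaurentPolynomial.invert (R := A)
  have hinv : ∀ x, inv (inv x) = x := fun x => LaurentPolynomial.involutive_invert x
  have he' : ∀ (a : LaurentPolynomial A) z, e.symm (a • z) = inv a • e.symm z := fun a z => by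
    apply e.injective
    rw [e.apply_symm_apply, he, e.apply_symm_apply]
    show a • z = inv (inv a) • z
    rw [hinv]
  let conj : ∀ {r : ℕ}, (Fin r → LaurentPolynomial A) → (Fin r → LaurentPolynomial A) :=
    fun v j => inv (v j)
  have conj_smul : ∀ {r : ℕ} (a : LaurentPolynomial A) (v : Fin r → LaurentPolynomial A),
      conj (a • v) = inv a • conj v := fun a v => funext fun j => map_mul inv a (v j)
  have conj_add : ∀ {r : ℕ} (v w : Fin r → LaurentPolynomial A),
      conj (v + w) = conj v + conj w := fun v w => funext fun j => map_add inv (v j) (w j)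
  have conj_conj : ∀ {r : ℕ} (v : Fin r → LaurentPolynomial A), conj (conj v) = v :=
    fun v => funext fun j => hinv (v j)
  let Ul : (Fin l → LaurentPolynomial A) →ₗ[LaurentPolynomial A] (Fin k → LaurentPolynomial A) :=
    { toFun := fun v => iL (e.symm (pL' (conj v)))
      map_add' := fun v w => by rw [conj_add, map_add, map_add, map_add]
      map_smul' := fun a v => by
        rw [conj_smul, map_smul, he', hinv, map_smul, RingHom.id_apply] }
  let Vl : (Fin k → LaurentPolynomial A) →ₗ[LaurentPolynomial A] (Fin l → LaurentPolynomial A) :=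
    { toFun := fun w => conj (iL' (e (pL w)))
      map_add' := fun v w => by rw [map_add, map_add, map_add, conj_add]
      map_smul' := fun a v => by
        rw [map_smul, he, map_smul, conj_smul, RingHom.id_apply]
        show inv (inv a) • _ = _
        rw [hinv] }
  have hp : ∀ x, pL (iL x) = x := fun x => LinearMap.congr_fun hL x
  have hp' : ∀ x, pL' (iL' x) = x := fun x => LinearMap.congr_fun hL' x
  have hUV : LinearMap.toMatrix' Ul * LinearMap.toMatrix' Vl = E.map pos := by
    rw [← LinearMap.toMatrix'_comp]
    refine Eq.trans ?_ hLE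
    congr 1
    refine LinearMap.ext fun w => ?_
    show iL (e.symm (pL' (conj (conj (iL' (e (pL w))))))) = iL (pL w)
    rw [conj_conj, hp', e.symm_apply_apply]
  have hVU : LinearMap.toMatrix' Vl * LinearMap.toMatrix' Ul = F.map neg := by
    rw [← LinearMap.toMatrix'_comp]
    refine Matrix.ext fun r s => ?_
    rw [LinearMap.toMatrix'_apply]
    show conj (iL' (e (pL (iL (e.symm (pL' (conj (Pi.single s 1)))))))) r = _
    rw [hp, e.apply_symm_apply,
      show conj (Pi.single s (1 : LaurentPolynomial A)) = Pi.single s 1 from funext fun j => by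
        simp [conj, inv, Pi.single_apply, apply_ite (LaurentPolynomial.invert (R := A))]]
    show inv (iL' (pL' (Pi.single s 1)) r) = inv (Polynomial.toLaurent (F r s))
    congr 1
    have := congrFun (congrFun hLF r) s
    rwa [LinearMap.toMatrix'_apply] at this
  obtain ⟨U', V', hB⟩ := Bundle.of_mul_eq (retract_idem i p hpi) (retract_idem i' p' hpi') hUV hVU
  have hS := sim_eval_zero hB
  -- the constant module
  set E₀ := E.map (Polynomial.evalRingHom (0 : A)) with hE₀
  have hE₀i : E₀ * E₀ = E₀ := map_idem (retract_idem i p hpi) _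
  let f₀ := Matrix.toLin' E₀
  let P := LinearMap.range f₀
  have hP : f₀.rangeRestrict ∘ₗ P.subtype = .id := by
    refine LinearMap.ext ?_
    rintro ⟨_, z, rfl⟩
    refine Subtype.ext ?_
    show f₀ (f₀ z) = f₀ z
    rw [← LinearMap.comp_apply, ← Matrix.toLin'_mul, hE₀i]
  have hproj : Module.Projective A P := Module.Projective.of_split _ _ hP
  obtain ⟨iB, pB, hB', hBE⟩ := exists_retract_baseChange (S := A[X]) P.subtype f₀.rangeRestrict hP
  refine ⟨P, inferInstance, inferInstance, inferInstance, hproj, ?_⟩
  refine nonempty_linearEquiv_of_sim i p hpi iB pB hB' ?_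
  rw [hBE, show P.subtype ∘ₗ f₀.rangeRestrict = f₀ from LinearMap.ext fun _ => rfl,
    LinearMap.toMatrix'_toLin']
  exact hS

end Groth.Agent.CommAlg4.P1Bundle
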