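import Mathlib

/-! Automorphisms of finite order `p` of `k[[u]]`: ramification break. -/

set_option autoImplicit false
set_option linter.all false
universe u

open PowerSeries

namespace Groth.Agent.CommAlg4.PSAut

variable {k : Type u} [Field k] (σ : k⟦X⟧ ≃ₐ[k] k⟦X⟧)

theorem cc_apply (f : k⟦X⟧) : constantCoeff (σ f) = constantCoeff f := by
  have h : ¬ IsUnit (σ (f - C (constantCoeff f))) := fun h => by
    have := h.map σ.symm
    rw [σ.symm_apply_apply, isUnit_iff_constantCoeff] at this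
    simp at this
  rw [isUnit_iff_constantCoeff, isUnit_iff_ne_zero, not_not, map_sub, show C (constantCoeff f) = algebraMap k k⟦X⟧ (constantCoeff f) from rfl,
    σ.commutes] at h
  simpa [sub_eq_zero, ← PowerSeries.C_eq_algebraMap] using h

theorem exists_apply_X : ∃ e : k⟦X⟧, σ X = X * e :=
  X_dvd_iff.2 (by rw [cc_apply, constantCoeff_X])

theorem pow_apply_X (e : k⟦X⟧) (he : σ X = X * e) (i : ℕ) :
    ∃ w, (σ ^ i) X = X * w ∧ constantCoeff w = constantCoeff e ^ i := by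
  induction i with
  | zero => exact ⟨1, by simp, by simp⟩
  | succ i ih =>
    obtain ⟨w, hw, hw0⟩ := ih
    refine ⟨e * σ w, ?_, ?_⟩
    · rw [pow_succ', AlgEquiv.mul_apply, hw, map_mul, he, mul_assoc]
    · rw [map_mul, cc_apply, hw0, pow_succ']

variable {p : ℕ} [Fact p.Prime] [CharP k p] (hσp : σ ^ p = 1) {m : ℕ}
  (hm : (σ X - X).order = ((m + 1 : ℕ) : ℕ∞))

include hσp in
theorem cc_e (e : k⟦X⟧) (he : σ X = X * e) : constantCoeff e = 1 := by
  obtain ⟨w, hw, hw0⟩ := pow_apply_X σ e he p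
  rw [hσp, AlgEquiv.one_apply] at hw
  have h1 : w = 1 := mul_left_cancel₀ X_ne_zero (by rw [mul_one, ← hw])
  rw [h1, map_one] at hw0
  exact frobenius_inj k p (by simp [frobenius_def, ← hw0])

include hσp hm in
theorem shape : ∃ d : k⟦X⟧, σ X = X * (1 + X ^ m * d) ∧ constantCoeff d ≠ 0 ∧ 1 ≤ m := by
  obtain ⟨e, he⟩ := exists_apply_X σ
  have hne : σ X - X ≠ 0 := fun h => by rw [h, order_zero] at hm; exact ENat.top_ne_coe _ hm
  obtain ⟨d, hd⟩ := X_pow_order_dvd (φ := σ X - X)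
  have hd0 : constantCoeff d ≠ 0 := fun h => by
    have h1 := congrArg order hd
    rw [order_mul, order_X_pow, hm, ENat.toNat_coe] at h1
    have h2 : 1 ≤ d.order := (one_le_order_iff_constCoeff_eq_zero).2 h
    have h3 : ((m + 1 : ℕ) : ℕ∞) + 1 ≤ ((m + 1 : ℕ) : ℕ∞) := (add_le_add le_rfl h2).trans h1.ge
    exact (ENat.add_one_le_iff (ENat.coe_ne_top _)).1 h3 |>.false
  rw [hm, ENat.toNat_coe] at hd
  have he' : e = 1 + X ^ m * d := mul_left_cancel₀ X_ne_zero (by
    rw [← he, mul_add, mul_one, ← mul_assoc, ← pow_succ', ← hd]; ring)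
  refine ⟨d, by rw [he, he'], hd0, Nat.one_le_iff_ne_zero.2 fun h0 => hd0 ?_⟩
  have := cc_e σ hσp e he
  simpa [he', h0] using this

include hm in
theorem X_pow_dvd_delta : ∀ (n : ℕ), n ≤ m + 1 → ∀ g, X ^ n ∣ σ g - g
  | 0, _, g => by simp
  | n + 1, hn, g => by
    have hg := eq_X_mul_shift_add_const g
    generalize (PowerSeries.mk fun p => coeff (p + 1) g) = g₁ at hg
    have h1 : σ g - g = (σ X - X) * σ g₁ + X * (σ g₁ - g₁) := by
      conv_lhs => rw [hg]
      rw [map_add, map_mul, show C (constantCoeff g) = algebraMap k k⟦X⟧ (constantCoeff g) from rfl, σ.commutes]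
      ring
    rw [h1]
    refine dvd_add ((pow_dvd_pow X hn).trans ?_ |>.mul_right _) ?_
    · have := X_pow_order_dvd (φ := σ X - X)
      rwa [hm, ENat.toNat_coe] at this
    · rw [pow_succ']
      exact mul_dvd_mul_left _ (X_pow_dvd_delta n (by omega) g₁)

include hσp hm in
/-- `σ - 1` raises an order prime to `p` by `m`. -/
theorem delta_of_not_dvd (j : ℕ) (hj : ¬ p ∣ j) (f v : k⟦X⟧) (hf : f = X ^ j * v) (hv : constantCoeff v ≠ 0) :
    ∃ w, σ f - f = X ^ (j + m) * w ∧ constantCoeff w ≠ 0 := by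
  obtain ⟨d, hd, hd0, hm1⟩ := shape σ hσp hm
  obtain ⟨q, hq⟩ := X_pow_dvd_delta σ hm (m + 1) le_rfl v
  set S : k⟦X⟧ := ∑ i ∈ Finset.range j, (1 + X ^ m * d) ^ i with hS
  have hgeom : (1 + X ^ m * d) ^ j - 1 = X ^ m * d * S := by
    rw [← mul_geom_sum (1 + X ^ m * d) j, add_sub_cancel_left]
  refine ⟨d * S * σ v + X * q, ?_, ?_⟩
  · calc σ f - f = X ^ j * (((1 + X ^ m * d) ^ j - 1) * σ v + (σ v - v)) := by
          rw [hf, map_mul, map_pow, hd, mul_pow]; ring
      _ = X ^ (j + m) * (d * S * σ v + X * q) := by rw [hgeom, hq]; ring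
  · have h0 : constantCoeff S = (j : k) := by
      simp [S, map_sum, map_pow, zero_pow (by omega : m ≠ 0)]
    rw [map_add, map_mul, map_mul, map_mul, h0, cc_apply, constantCoeff_X, zero_mul, add_zero]
    exact mul_ne_zero (mul_ne_zero hd0 (by rwa [Ne, CharP.cast_eq_zero_iff k p])) hv

include hσp hm in
theorem dvd_order_of_fixed (j : ℕ) (f : k⟦X⟧) (hf : f.order = (j : ℕ∞)) (hfix : σ f = f) : p ∣ j := by
  by_contra hj
  have hne : f ≠ 0 := fun h => by rw [h, order_zero] at hf; exact ENat.top_ne_coe _ hf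
  obtain ⟨w, hw, hw0⟩ := delta_of_not_dvd σ hσp hm j hj f (divXPowOrder f)
    (by conv_lhs => rw [← X_pow_order_mul_divXPowOrder (f := f), hf, ENat.toNat_coe])
    (fun h => hne (constantCoeff_divXPowOrder_eq_zero_iff.1 h))
  rw [hfix, sub_self] at hw
  rcases mul_eq_zero.1 hw.symm with h | h
  · exact pow_ne_zero _ X_ne_zero h
  · rw [h, map_zero] at hw0; exact hw0 rfl

theorem order_X_pow_mul (j : ℕ) (v : k⟦X⟧) (hv : constantCoeff v ≠ 0) : (X ^ j * v).order = (j : ℕ∞) := by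
  rw [order_mul, order_X_pow, order_zero_of_unit (isUnit_iff_constantCoeff.2 (isUnit_iff_ne_zero.2 hv)), add_zero]

include hσp in
theorem norm_fixed : σ (∏ i ∈ Finset.range p, (σ ^ i) X) = ∏ i ∈ Finset.range p, (σ ^ i) X := by
  have hp : 0 < p := (Fact.out : p.Prime).pos
  obtain ⟨q, rfl⟩ : ∃ q, p = q + 1 := ⟨p - 1, by omega⟩
  rw [map_prod]
  conv_rhs => rw [Finset.prod_range_succ']
  rw [Finset.prod_range_succ, ← AlgEquiv.mul_apply, ← pow_succ', hσp, pow_zero]
  congr 1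
  exact Finset.prod_congr rfl fun i _ => by rw [← AlgEquiv.mul_apply, ← pow_succ']

include hσp in
theorem norm_shape : ∃ w, ∏ i ∈ Finset.range p, (σ ^ i) X = X ^ p * w ∧ constantCoeff w = 1 := by
  obtain ⟨e, he⟩ := exists_apply_X σ
  choose w hw hw0 using fun i => pow_apply_X σ e he i
  exact ⟨∏ i ∈ Finset.range p, w i, by simp [hw, Finset.prod_mul_distrib],
    by simp [map_prod, hw0, cc_e σ hσp e he]⟩

end Groth.Agent.CommAlg4.PSAut
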