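import Groth.Prelude.Def_FrobAlg
import Groth.Agent.Frob15.TensorLimit
import Mathlib

/-! The perfect closure as a universally injective union of iterated Frobenius twists. -/

set_option autoImplicit false
set_option linter.style.haveILetI false

universe u

open TensorProduct

namespace Groth.Agent.CommAlg4.PerfTensor

/-- `R` seen through the `n`-th iterate of Frobenius. -/
def It (p : ℕ) (R : Type u) (_n : ℕ) : Type u := R

variable (p : ℕ) [Fact p.Prime] (R : Type u) [CommRing R] [CharP R p]

instance (n : ℕ) : CommRing (It p R n) := inferInstanceAs (CommRing R)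

instance (n : ℕ) : Algebra R (It p R n) := (iterateFrobenius R p n).toAlgebra

instance algSucc (n : ℕ) : Algebra (It p R n) (It p R (n + 1)) := (frobenius R p).toAlgebra

/-- The underlying element. -/
def toR {p : ℕ} {R : Type u} {n : ℕ} (x : It p R n) : R := x

theorem algebraMap_it (n : ℕ) (r : R) : toR (algebraMap R (It p R n) r) = (frobenius R p)^[n] r := by
  show iterateFrobenius R p n r = _
  rw [← coe_iterateFrobenius]

instance (n : ℕ) : IsScalarTower R (It p R n) (It p R (n + 1)) :=
  IsScalarTower.of_algebraMap_eq fun r => by
    show toR (algebraMap R (It p R (n + 1)) r) = frobenius R p (toR (algebraMap R (It p R n) r))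
    rw [algebraMap_it, algebraMap_it, Function.iterate_succ_apply']

theorem projective_succ [h : Module.Projective R (FrobAlg.Twist p R)] (n : ℕ) :
    Module.Projective (It p R n) (It p R (n + 1)) := h

theorem projective_trans (A S M : Type u) [CommRing A] [CommRing S] [Algebra A S] [AddCommGroup M]
    [Module A M] [Module S M] [IsScalarTower A S M] [Module.Projective A S] [Module.Projective S M] :
    Module.Projective A M := by
  classical
  obtain ⟨s, hs⟩ := Module.projective_def'.1 (inferInstance : Module.Projective S M)
  obtain ⟨s0, hs0⟩ := Module.projective_def'.1 (inferInstance : Module.Projective A S)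
  refine Module.Projective.of_split (M := M →₀ (S →₀ A))
    ((Finsupp.mapRange.linearMap s0).comp (s.restrictScalars A))
    (((Finsupp.linearCombination S (id : M → M)).restrictScalars A).comp
      (Finsupp.mapRange.linearMap (Finsupp.linearCombination A (id : S → S))))
    (LinearMap.ext fun m => ?_)
  show Finsupp.linearCombination S id (Finsupp.mapRange.linearMap (Finsupp.linearCombination A id)
    (Finsupp.mapRange.linearMap s0 (s m))) = m
  rw [← LinearMap.comp_apply, ← Finsupp.mapRange.linearMap_comp, hs0, Finsupp.mapRange.linearMap_id]
  exact LinearMap.congr_fun hs m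

theorem projective_it [Module.Projective R (FrobAlg.Twist p R)] : ∀ n, Module.Projective R (It p R n)
  | 0 => by
    let e : R ≃ₗ[R] It p R 0 :=
      { toFun := fun x => (x : R)
        invFun := fun x => toR x
        map_add' := fun _ _ => rfl
        map_smul' := fun r x => by
          show r * x = toR (algebraMap R (It p R 0) r) * x
          rw [algebraMap_it]
          rfl }
    exact Module.Projective.of_equiv e
  | n + 1 => by
    haveI := projective_it n
    haveI := projective_succ p R n
    exact projective_trans R (It p R n) (It p R (n + 1))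

theorem faithfullyFlat_succ [Module.Projective R (FrobAlg.Twist p R)] (n : ℕ) :
    Module.FaithfullyFlat (It p R n) (It p R (n + 1)) := by
  haveI := projective_succ p R n
  refine Module.FaithfullyFlat.of_comap_surjective fun x => ⟨⟨x.asIdeal, x.2⟩, ?_⟩
  refine PrimeSpectrum.ext (SetLike.ext fun a => ?_)
  exact x.2.pow_mem_iff_mem p (Fact.out : p.Prime).pos

/-- The transition maps. -/
def trans (i j : ℕ) (h : i ≤ j) : It p R i →ₗ[R] It p R j where
  toFun x := (frobenius R p)^[j - i] (toR x)
  map_add' x y := iterate_map_add (frobenius R p) _ x y
  map_smul' r x := by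
    show (frobenius R p)^[j - i] (toR (algebraMap R (It p R i) r) * toR x) =
      toR (algebraMap R (It p R j) r) * (frobenius R p)^[j - i] (toR x)
    rw [iterate_map_mul, algebraMap_it, algebraMap_it, ← Function.iterate_add_apply, Nat.sub_add_cancel h]

instance : DirectedSystem (It p R) (fun i j h => trans p R i j h) where
  map_self i x := by show (frobenius R p)^[i - i] (toR x) = x; rw [Nat.sub_self]; rfl
  map_map k j i hij hjk x := by
    show (frobenius R p)^[k - j] ((frobenius R p)^[j - i] (toR x)) = (frobenius R p)^[k - i] (toR x)
    rw [← Function.iterate_add_apply]; congr 2; omega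

theorem injective_rTensor_trans [Module.Projective R (FrobAlg.Twist p R)] (X : Type u) [AddCommGroup X]
    [Module R X] (i : ℕ) : ∀ j (h : i ≤ j), Function.Injective ((trans p R i j h).rTensor X) := by
  intro j h
  induction j, h using Nat.le_induction with
  | base =>
    have : trans p R i i le_rfl = LinearMap.id :=
      LinearMap.ext fun x => DirectedSystem.map_self (f := fun i j h => trans p R i j h) x
    rw [this, LinearMap.rTensor_id]
    exact Function.injective_id
  | succ j hij ih =>
    haveI := faithfullyFlat_succ p R j
    have hf : trans p R i (j + 1) (hij.trans j.le_succ) =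
        ((IsScalarTower.toAlgHom R (It p R j) (It p R (j + 1))).toLinearMap).comp (trans p R i j hij) := by
      refine LinearMap.ext fun x => ?_
      show (frobenius R p)^[j + 1 - i] (toR x) = frobenius R p ((frobenius R p)^[j - i] (toR x))
      rw [← Function.iterate_succ_apply' (frobenius R p)]; congr 2; omega
    rw [hf, LinearMap.rTensor_comp]
    rw [LinearMap.coe_comp]
    refine Function.Injective.comp ?_ ih
    let κ := Algebra.TensorProduct.includeLeft (R := R) (S := R) (A := It p R j) (B := R)
    have h1 := Module.FaithfullyFlat.tensorProduct_mk_injective (A := It p R j) (B := It p R (j + 1))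
      (It p R j ⊗[R] X)
    have h2 : ∀ y, (IsScalarTower.toAlgHom R (It p R j) (It p R (j + 1))).toLinearMap.rTensor X y =
        AlgebraTensorModule.cancelBaseChange R (It p R j) (It p R (j + 1)) (It p R (j + 1)) X
          ((1 : It p R (j + 1)) ⊗ₜ[It p R j] y) := by
      intro y
      induction y with
      | zero => simp
      | tmul a x => simp [Algebra.smul_def]
      | add a b ha hb => simp only [map_add, TensorProduct.tmul_add, ha, hb]
    intro a b hab
    rw [h2, h2] at hab
    exact h1 ((AlgebraTensorModule.cancelBaseChange R (It p R j) (It p R (j + 1)) (It p R (j + 1)) X).injective hab)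

/-- The map to the perfect closure. -/
noncomputable def incl (n : ℕ) :
    letI : Algebra R (PerfectClosure R p) := (PerfectClosure.of R p).toAlgebra
    It p R n →ₗ[R] PerfectClosure R p :=
  letI : Algebra R (PerfectClosure R p) := (PerfectClosure.of R p).toAlgebra
  { toFun := fun x => PerfectClosure.mk R p (n, x)
    map_add' := fun x y => by
      rw [PerfectClosure.mk_add_mk]
      refine PerfectClosure.R.sound R p n n _ _ ?_
      exact iterate_map_add (frobenius R p) n x y
    map_smul' := fun r x => by
      show PerfectClosure.mk R p (n, toR (algebraMap R (It p R n) r) * toR x) =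
        PerfectClosure.mk R p (0, r) * PerfectClosure.mk R p (n, toR x)
      rw [PerfectClosure.mk_mul_mk, algebraMap_it]
      simp only [zero_add, Function.iterate_zero, id_eq] }

theorem incl_compat (i j : ℕ) (h : i ≤ j) (x : It p R i) :
    letI : Algebra R (PerfectClosure R p) := (PerfectClosure.of R p).toAlgebra
    incl p R j (trans p R i j h x) = incl p R i x := by
  show PerfectClosure.mk R p (j, (frobenius R p)^[j - i] (toR x)) = PerfectClosure.mk R p (i, toR x)
  symm
  conv_rhs => rw [show j = j - i + i by omega]
  exact PerfectClosure.R.sound R p (j - i) i (toR x) _ (by congr 2; omega)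

/-- The maps to the perfect closure stay injective after tensoring. -/
theorem injective_rTensor_incl [Module.Projective R (FrobAlg.Twist p R)] (X : Type u) [AddCommGroup X]
    [Module R X] (n : ℕ) :
    letI : Algebra R (PerfectClosure R p) := (PerfectClosure.of R p).toAlgebra
    Function.Injective ((incl p R n).rTensor X) := by
  letI : Algebra R (PerfectClosure R p) := (PerfectClosure.of R p).toAlgebra
  let L := Module.DirectLimit (It p R) (trans p R)
  let φ : L →ₗ[R] PerfectClosure R p :=
    Module.DirectLimit.lift R ℕ (It p R) (trans p R) (incl p R) (incl_compat p R)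
  have hinj : ∀ i, Function.Injective (incl p R i) := by
    intro i x y hxy
    obtain ⟨z, hz⟩ := (PerfectClosure.mk_eq_iff R p _ _).1 hxy
    haveI := faithfullyFlat_succ p R 0
    have hfrob : Function.Injective (frobenius R p) :=
      FaithfulSMul.algebraMap_injective (It p R 0) (It p R (0 + 1))
    exact hfrob.iterate _ hz
  have hφ : Function.Bijective φ := by
    refine ⟨Module.DirectLimit.lift_injective _ _ hinj, fun x => ?_⟩
    refine PerfectClosure.induction_on (K := R) (p := p) x fun nx => ?_
    exact ⟨Module.DirectLimit.of R ℕ _ _ nx.1 nx.2, (Module.DirectLimit.lift_of _ _ _).trans rfl⟩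
  let e := LinearEquiv.ofBijective φ hφ
  have hcomp : incl p R n = e.toLinearMap.comp (Module.DirectLimit.of R ℕ (It p R) (trans p R) n) :=
    LinearMap.ext fun x =>
      (Module.DirectLimit.lift_of (f := trans p R) (incl p R) (incl_compat p R) x).symm
  rw [hcomp, LinearMap.rTensor_comp]
  rw [LinearMap.coe_comp]
  refine Function.Injective.comp (LinearEquiv.rTensor X e).injective ?_
  rw [injective_iff_map_eq_zero]
  intro y hy
  have h := TensorProduct.directLimitLeft_rTensor_of (trans p R) X y
  rw [hy, map_zero] at h
  obtain ⟨j, hj, hy0⟩ := Module.DirectLimit.of.zero_exact h.symm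
  exact (injective_iff_map_eq_zero _).1 (injective_rTensor_trans p R X n j hj) y hy0

/-- Every tensor comes from some level. -/
theorem exists_rTensor_incl_eq (W : Type u) [AddCommGroup W] [Module R W] :
    letI : Algebra R (PerfectClosure R p) := (PerfectClosure.of R p).toAlgebra
    ∀ z : PerfectClosure R p ⊗[R] W, ∃ (n : ℕ) (y : It p R n ⊗[R] W), (incl p R n).rTensor W y = z := by
  letI : Algebra R (PerfectClosure R p) := (PerfectClosure.of R p).toAlgebra
  intro z
  induction z with
  | zero => exact ⟨0, 0, map_zero _⟩
  | tmul a w =>
    refine PerfectClosure.induction_on (K := R) (p := p) a fun nx => ?_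
    exact ⟨nx.1, nx.2 ⊗ₜ w, rfl⟩
  | add a b ha hb =>
    obtain ⟨m, y, rfl⟩ := ha
    obtain ⟨m', y', rfl⟩ := hb
    refine ⟨max m m', (trans p R m _ (le_max_left _ _)).rTensor W y + (trans p R m' _ (le_max_right _ _)).rTensor W y', ?_⟩
    rw [map_add, ← LinearMap.rTensor_comp_apply, ← LinearMap.rTensor_comp_apply,
      show (incl p R (max m m')).comp (trans p R m _ (le_max_left _ _)) = incl p R m from
        LinearMap.ext (incl_compat p R _ _ _),
      show (incl p R (max m m')).comp (trans p R m' _ (le_max_right _ _)) = incl p R m' from
        LinearMap.ext (incl_compat p R _ _ _)]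

/-- Tensoring with the perfect closure preserves joint injectivity. -/
theorem injective_pi_lTensor_perfectClosure [Module.Projective R (FrobAlg.Twist p R)]
    {W : Type u} [AddCommGroup W] [Module R W] {V : ℕ → Type u} [∀ i, AddCommGroup (V i)]
    [∀ i, Module R (V i)] (ev : ∀ i, W →ₗ[R] V i) (hev : Function.Injective (LinearMap.pi ev)) :
    letI : Algebra R (PerfectClosure R p) := (PerfectClosure.of R p).toAlgebra
    Function.Injective (LinearMap.pi fun i => (ev i).lTensor (PerfectClosure R p)) := by
  letI : Algebra R (PerfectClosure R p) := (PerfectClosure.of R p).toAlgebra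
  rw [injective_iff_map_eq_zero]
  intro z hz
  obtain ⟨n, y, rfl⟩ := exists_rTensor_incl_eq p R W z
  haveI := projective_it p R n
  have h0 : LinearMap.pi (fun i => (ev i).lTensor (It p R n)) y = 0 := by
    funext i
    refine injective_rTensor_incl p R (V i) n ?_
    have h := congrFun hz i
    rw [LinearMap.pi_apply] at h
    rw [Pi.zero_apply, map_zero, LinearMap.pi_apply, ← LinearMap.comp_apply,
      LinearMap.rTensor_comp_lTensor, ← LinearMap.lTensor_comp_rTensor, LinearMap.comp_apply]
    exact h
  rw [(injective_iff_map_eq_zero _).1 (Frob15.injective_pi_lTensor (It p R n) ev hev) y h0, map_zero]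

end Groth.Agent.CommAlg4.PerfTensor
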