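import Groth.Prelude.Def_W4c3degenlocivbPfaff
import Mathlib

open MvPolynomial W4c3degenlocivb
open scoped Classical

namespace Groth.Agent.CommAlg4.PfaffSpan

universe u v
variable {R : Type u} [CommRing R] {S : Type v} [CommRing S]

lemma pf_map (f : R →+* S) : ∀ (n : ℕ) (T : Matrix (Fin n) (Fin n) R), f (pf n T) = pf n (T.map f)
  | 0, T => by simp [pf]
  | 1, T => by simp [pf]
  | n + 2, T => by
    simp only [pf, map_sum, map_mul, map_pow, map_neg, map_one]
    exact Finset.sum_congr rfl fun j _ => by rw [pf_map f n]; rfl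

lemma pf_band : ∀ (m : ℕ) (T : Matrix (Fin (2 * m)) (Fin (2 * m)) R),
    (∀ a b : Fin (2 * m), (b : ℕ) + 1 < (a : ℕ) → T a b = 0) →
    pf (2 * m) T = ∏ t : Fin m, -T ⟨2 * (t : ℕ) + 1, by omega⟩ ⟨2 * (t : ℕ), by omega⟩
  | 0, T, _ => by simp [pf]
  | m + 1, T, h => by
    show pf (2 * m + 2) T = _
    rw [pf, Finset.sum_eq_single (Fin.last (2 * m))]
    · rw [Fin.prod_univ_castSucc, pf_band m]
      · simp only [Fin.val_last, Matrix.submatrix_apply, Function.comp_apply, Fin.succAbove_last]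
        rw [pow_succ, pow_mul, neg_one_sq, one_pow, one_mul, neg_one_mul, mul_comm]
        refine congrArg₂ (· * ·) (Finset.prod_congr rfl fun t _ => ?_) ?_
        · rfl
        · rfl
      · intro a b hab
        simp only [Matrix.submatrix_apply, Function.comp_apply, Fin.succAbove_last]
        exact h _ _ (by simpa using hab)
    · intro j _ hj
      have : (j : ℕ) < 2 * m := by
        rcases lt_or_eq_of_le (Nat.lt_succ_iff.mp j.2) with h' | h'
        · exact h'
        · exact absurd (Fin.ext h') hj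
      rw [h _ _ (by simp; omega)]
      simp
    · simp

lemma pf_homogeneous {σ : Type*} : ∀ (m : ℕ) (T : Matrix (Fin (2 * m)) (Fin (2 * m)) (MvPolynomial σ R)),
    (∀ a b, (T a b).IsHomogeneous 1) → (pf (2 * m) T).IsHomogeneous m
  | 0, T, _ => by simpa [pf] using isHomogeneous_one σ R
  | m + 1, T, h => by
    show IsHomogeneous (pf (2 * m + 2) T) (m + 1)
    rw [pf]
    refine IsHomogeneous.sum _ _ _ fun j _ => ?_
    have h1 : ((-1 : MvPolynomial σ R) ^ ((j : ℕ) + 1)).IsHomogeneous 0 := by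
      rw [show (-1 : MvPolynomial σ R) ^ ((j : ℕ) + 1) = C ((-1) ^ ((j : ℕ) + 1)) by simp]
      exact isHomogeneous_C _ _
    have := (h1.mul (h (Fin.last (2 * m + 1)) (Fin.castSucc j))).mul
      (pf_homogeneous m (T.submatrix (Fin.castSucc ∘ j.succAbove) (Fin.castSucc ∘ j.succAbove))
        fun a b => h _ _)
    convert this using 1
    omega

/-- the matrix of linear forms -/
noncomputable def N {n : ℕ} (c : Fin n → Fin n → Fin 2 → R) : Matrix (Fin n) (Fin n) (MvPolynomial (Fin 2) R) :=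
  Matrix.of fun a b => ∑ l : Fin 2, C (c a b l) * X l

lemma N_homogeneous {n : ℕ} (c : Fin n → Fin n → Fin 2 → R) (a b : Fin n) : (N c a b).IsHomogeneous 1 := by
  rw [N, Matrix.of_apply]
  exact IsHomogeneous.sum _ _ _ fun l _ => (isHomogeneous_X R l).C_mul _

/-- exponent `(t, r - t)` -/
noncomputable def ex (r t : ℕ) : Fin 2 →₀ ℕ := Finsupp.single 0 t + Finsupp.single 1 (r - t)

lemma ex_0 (r t : ℕ) : ex r t 0 = t := by simp [ex]
lemma ex_1 (r t : ℕ) : ex r t 1 = r - t := by simp [ex]

lemma eq_of_coeff {r : ℕ} {p q : MvPolynomial (Fin 2) R} (hp : p.IsHomogeneous r) (hq : q.IsHomogeneous r)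
    (h : ∀ t : Fin (r + 1), coeff (ex r t) p = coeff (ex r t) q) : p = q := by
  ext e
  by_cases he : e 0 + e 1 = r
  · have : e = ex r (⟨e 0, by omega⟩ : Fin (r + 1)) := by
      ext i; fin_cases i <;> simp [ex]; omega
    rw [this]; exact h _
  · have hd : e.degree ≠ r := by
      rw [Finsupp.degree_eq_sum, Fin.sum_univ_two]; exact he
    rw [hp.coeff_eq_zero hd, hq.coeff_eq_zero hd]

section main

variable (k : Type u) [Field k] (r : ℕ)

/-- deleted index of the `s`-th sub-Pfaffian -/
def del (s : Fin (r + 1)) : Fin (2 * r + 1) := ⟨2 * (s : ℕ), by omega⟩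

/-- the `s`-th sub-Pfaffian -/
noncomputable def sub {R : Type u} [CommRing R] (c : Fin (2 * r + 1) → Fin (2 * r + 1) → Fin 2 → R)
    (s : Fin (r + 1)) : MvPolynomial (Fin 2) R :=
  pf (2 * r) ((N c).submatrix (del r s).succAbove (del r s).succAbove)

lemma succAbove_val {n : ℕ} (i : Fin (n + 1)) (a : Fin n) :
    ((i.succAbove a : Fin (n + 1)) : ℕ) = if (a : ℕ) < (i : ℕ) then (a : ℕ) else (a : ℕ) + 1 := by
  rw [Fin.succAbove]
  split_ifs with h h' h' <;> simp_all [Fin.lt_def]

/-- the example array -/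
def c0 : Fin (2 * r + 1) → Fin (2 * r + 1) → Fin 2 → k := fun a b l =>
  if (b : ℕ) = (a : ℕ) + 1 ∧ (l : ℕ) = (a : ℕ) % 2 then 1
  else if (a : ℕ) = (b : ℕ) + 1 ∧ (l : ℕ) = (b : ℕ) % 2 then -1 else 0

lemma c0_skew (i j : Fin (2 * r + 1)) (l : Fin 2) : c0 k r j i l = -c0 k r i j l := by
  unfold c0; split_ifs <;> first | (exfalso; omega) | simp

lemma sub_c0 (s : Fin (r + 1)) : sub r (c0 k r) s = X 0 ^ (s : ℕ) * X 1 ^ (r - (s : ℕ)) := by
  rw [sub, pf_band]
  · have key : ∀ t : Fin r, -((N (c0 k r)).submatrix (del r s).succAbove (del r s).succAbove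
        ⟨2 * (t : ℕ) + 1, by omega⟩ ⟨2 * (t : ℕ), by omega⟩) =
        (if (t : ℕ) < (s : ℕ) then X 0 else X 1 : MvPolynomial (Fin 2) k) := by
      intro t
      simp only [Matrix.submatrix_apply, N, Matrix.of_apply, Fin.sum_univ_two, c0, succAbove_val, del,
        Fin.val_zero, Fin.val_one]
      split_ifs <;> first | (exfalso; omega) | simp
    rw [Finset.prod_congr rfl fun t _ => key t, Fin.prod_univ_eq_prod_range
      (fun t => if t < (s : ℕ) then (X 0 : MvPolynomial (Fin 2) k) else X 1) r]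
    rw [← Finset.prod_range_mul_prod_Ico _ (show (s : ℕ) ≤ r by omega)]
    congr 1
    · rw [Finset.prod_congr rfl fun t ht => if_pos (Finset.mem_range.mp ht), Finset.prod_const, Finset.card_range]
    · rw [Finset.prod_congr rfl fun t ht => if_neg (not_lt.mpr (Finset.mem_Ico.mp ht).1), Finset.prod_const,
        Nat.card_Ico]
  · intro a b hab
    simp only [Matrix.submatrix_apply, N, Matrix.of_apply]
    refine Finset.sum_eq_zero fun l _ => ?_
    have : c0 k r ((del r s).succAbove a) ((del r s).succAbove b) l = 0 := by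
      simp only [c0, succAbove_val, del]
      split_ifs <;> first | (exfalso; omega) | rfl
    rw [this, C_0, zero_mul]

/-- the coefficient matrix -/
noncomputable def M {R : Type u} [CommRing R] (c : Fin (2 * r + 1) → Fin (2 * r + 1) → Fin 2 → R) :
    Matrix (Fin (r + 1)) (Fin (r + 1)) R :=
  Matrix.of fun s t => coeff (ex r (t : ℕ)) (sub r c s)

lemma M_c0 : M r (c0 k r) = 1 := by
  ext s t
  rw [M, Matrix.of_apply, sub_c0, X_pow_eq_monomial, X_pow_eq_monomial, monomial_mul, one_mul, coeff_monomial,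
    Matrix.one_apply]
  by_cases h : s = t
  · subst h; rw [if_pos rfl, if_pos (show (Finsupp.single (0 : Fin 2) (s : ℕ) + Finsupp.single 1 (r - (s : ℕ))) = ex r (s : ℕ) from rfl)]
  · rw [if_neg h, if_neg]
    intro e
    have e' : ex r (s : ℕ) = ex r (t : ℕ) := e
    have := congrArg (fun g : Fin 2 →₀ ℕ => g 0) e'
    simp only [ex_0] at this
    exact h (Fin.ext this)

/-- the universal determinant -/
noncomputable def Φ : MvPolynomial (Fin (2 * r + 1) × Fin (2 * r + 1) × Fin 2) k :=
  (M r fun a b l => (X (a, b, l) : MvPolynomial (Fin (2 * r + 1) × Fin (2 * r + 1) × Fin 2) k)).det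

lemma eval_Φ (c : Fin (2 * r + 1) → Fin (2 * r + 1) → Fin 2 → k) :
    eval (fun p => c p.1 p.2.1 p.2.2) (Φ k r) = (M r c).det := by
  rw [Φ, RingHom.map_det]
  congr 1
  ext s t
  simp only [RingHom.mapMatrix_apply, Matrix.map_apply, M, Matrix.of_apply]
  rw [← coeff_map, sub, pf_map]
  congr 2
  ext a b
  simp [N, Matrix.map_apply]

theorem span_eq (c : Fin (2 * r + 1) → Fin (2 * r + 1) → Fin 2 → k)
    (h : eval (fun p => c p.1 p.2.1 p.2.2) (Φ k r) ≠ 0) :
    Submodule.span k (Set.range fun i : Fin (2 * r + 1) => pf (2 * r) ((N c).submatrix i.succAbove i.succAbove)) =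
      homogeneousSubmodule (Fin 2) k r := by
  refine le_antisymm (Submodule.span_le.mpr ?_) fun f hf => ?_
  · rintro _ ⟨i, rfl⟩
    exact pf_homogeneous r _ fun a b => N_homogeneous c _ _
  · rw [eval_Φ] at h
    have hu : IsUnit (M r c) := (Matrix.isUnit_iff_isUnit_det _).mpr (Ne.isUnit h)
    set w := Matrix.vecMul (fun t : Fin (r + 1) => coeff (ex r (t : ℕ)) f) (M r c)⁻¹
    have hw : Matrix.vecMul w (M r c) = fun t : Fin (r + 1) => coeff (ex r (t : ℕ)) f := by
      rw [Matrix.vecMul_vecMul, Matrix.nonsing_inv_mul _ (Ne.isUnit h), Matrix.vecMul_one]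
    have : f = ∑ s, w s • sub r c s := by
      refine eq_of_coeff hf (IsHomogeneous.sum _ _ _ fun s _ => ?_) fun t => ?_
      · rw [smul_eq_C_mul]; exact (pf_homogeneous r _ fun a b => N_homogeneous c _ _).C_mul _
      · have := congrFun hw t
        rw [coeff_sum]
        simpa [Matrix.vecMul, dotProduct, M, coeff_smul] using this.symm
    rw [this]
    exact Submodule.sum_mem _ fun s _ => Submodule.smul_mem _ _ (Submodule.subset_span ⟨del r s, rfl⟩)

end main

end Groth.Agent.CommAlg4.PfaffSpan
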