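import Mathlib.RingTheory.PicardGroup

/-!
# Lifting invertible modules along a quotient with a complementary ideal
-/

set_option autoImplicit false
universe u

open TensorProduct

namespace Groth.Agent.CommAlg4.PicLift

theorem smul_comm_of_invertible {S M : Type u} [CommRing S] [AddCommGroup M] [Module S M] [Module.Invertible S M]
    (φ : M →ₗ[S] S) (a b : M) : φ a • b = φ b • a := by
  have h := congrArg (TensorProduct.lid S M ∘ LinearMap.rTensor M φ) (Module.Invertible.tmul_comm (R := S) (m₁ := a) (m₂ := b))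
  simpa using h

/-- a module with a rank one dual basis is invertible -/
theorem invertible_of_rankOne {R N : Type u} [CommRing R] [AddCommGroup N] [Module R N] {ι : Type*} [Fintype ι]
    (v : ι → N) (φ : ι → N →ₗ[R] R) (hrec : ∀ n, ∑ i, φ i n • v i = n) (htr : ∑ i, φ i (v i) = 1)
    (hcomm : ∀ i j a b, φ i a * φ j b = φ i b * φ j a) : Module.Invertible R N := by
  let ev : Module.Dual R N ⊗[R] N →ₗ[R] R := TensorProduct.lift LinearMap.id
  let back : R →ₗ[R] Module.Dual R N ⊗[R] N := LinearMap.toSpanSingleton R _ (∑ i, φ i ⊗ₜ[R] v i)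
  have hψ : ∀ (ψ : N →ₗ[R] R) (n : N) (j : ι), φ j n • ψ = ψ n • φ j := by
    intro ψ n j
    refine LinearMap.ext fun b => ?_
    have hb : ψ b = ∑ i, φ i b * ψ (v i) := by
      conv_lhs => rw [← hrec b, map_sum]
      simp
    have hn : ψ n = ∑ i, φ i n * ψ (v i) := by
      conv_lhs => rw [← hrec n, map_sum]
      simp
    simp only [LinearMap.smul_apply, smul_eq_mul]
    rw [hb, hn, Finset.mul_sum, Finset.sum_mul]
    refine Finset.sum_congr rfl fun i _ => ?_
    linear_combination ψ (v i) * hcomm j i n b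
  refine Module.Invertible.right (M := Module.Dual R N) (LinearEquiv.ofLinear ev back ?_ ?_)
  · apply LinearMap.ext_ring
    simp [ev, back, htr]
  · apply TensorProduct.ext'
    intro ψ n
    show ψ n • (∑ i, φ i ⊗ₜ[R] v i) = ψ ⊗ₜ[R] n
    rw [Finset.smul_sum]
    conv_rhs => rw [← hrec n, TensorProduct.tmul_sum]
    refine Finset.sum_congr rfl fun i _ => ?_
    rw [TensorProduct.smul_tmul', TensorProduct.tmul_smul, TensorProduct.smul_tmul', hψ]

theorem surjective_mapRingHom {R S : Type u} [CommRing R] [CommRing S] (π : R →+* S)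
    (hπ : Function.Surjective π) (J : Ideal R) (hJ : RingHom.ker π ⊓ J = ⊥)
    [Finite (MaximalSpectrum (S ⧸ J.map π))] : Function.Surjective (CommRing.Pic.mapRingHom π) := by
  classical
  intro P
  letI : Algebra R S := π.toAlgebra
  have hsep : ∀ x : R, π x = 0 → x ∈ J → x = 0 := fun x h h' =>
    Ideal.mem_bot.1 (hJ ▸ ⟨RingHom.mem_ker.2 h, h'⟩)
  obtain ⟨n, f, g, -, -, hfg⟩ := Module.Finite.exists_comp_eq_id_of_projective S P
  let φ : Option (Fin n) → P →ₗ[S] S := fun i => i.elim 0 fun i => LinearMap.proj i ∘ₗ g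
  let v : Option (Fin n) → P := fun i => i.elim 0 fun i => f (Pi.single i 1)
  have hrec : ∀ x, ∑ i, φ i x • v i = x := by
    intro x
    have : f (g x) = x := LinearMap.congr_fun hfg x
    conv_rhs => rw [← this, pi_eq_sum_univ' (g x), map_sum]
    simp [Fintype.sum_option, φ, v, Pi.single_apply, map_smul]
  have hcomm : ∀ i j a b, φ i a * φ j b = φ i b * φ j a := fun i j a b => by
    have := congrArg (φ j) (smul_comm_of_invertible (φ i) a b)
    simpa using this
  have htr : ∑ i, φ i (v i) = 1 := by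
    refine eq_of_smul_eq_smul (α := P) fun x => ?_
    rw [one_smul, Finset.sum_smul]
    conv_rhs => rw [← hrec x]
    exact Finset.sum_congr rfl fun i _ => smul_comm_of_invertible (φ i) (v i) x
  let 𝔞 := J.map π
  obtain ⟨ε⟩ := (Module.Invertible.free_iff_linearEquiv (R := S ⧸ 𝔞) (M := (S ⧸ 𝔞) ⊗[S] P)).1 inferInstance
  let c : P → S ⧸ 𝔞 := fun x => ε (1 ⊗ₜ x)
  obtain ⟨a, ha⟩ : ∃ a : Option (Fin n) → S ⧸ 𝔞, ∀ i x, Ideal.Quotient.mk 𝔞 (φ i x) = a i * c x := by
    refine ⟨fun i => LinearMap.liftBaseChange (S ⧸ 𝔞) ((Algebra.linearMap S (S ⧸ 𝔞)) ∘ₗ φ i) (ε.symm 1), fun i x => ?_⟩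
    have hz : (1 : S ⧸ 𝔞) ⊗ₜ[S] x = c x • ε.symm 1 := ε.injective (by simp [c])
    have h := congrArg (LinearMap.liftBaseChange (S ⧸ 𝔞) ((Algebra.linearMap S (S ⧸ 𝔞)) ∘ₗ φ i)) hz
    simp only [LinearMap.liftBaseChange_tmul, one_smul, map_smul, smul_eq_mul] at h
    rw [one_mul] at h
    rw [mul_comm]
    exact h
  have hq : Function.Surjective ((Ideal.Quotient.mk 𝔞).comp π) := Ideal.Quotient.mk_surjective.comp hπ
  have hker : ∀ x : R, Ideal.Quotient.mk 𝔞 (π x) = 0 → ∃ z ∈ J, π z = π x := fun x hx =>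
    (Ideal.mem_map_iff_of_surjective π hπ).1 (Ideal.Quotient.eq_zero_iff_mem.1 hx)
  choose lift hlift using hq
  let W₀ : Option (Fin n) → R := fun i => lift (c (v i))
  let V₀ : Option (Fin n) → R := fun i => lift (a i)
  set t : R := ∑ i : Fin n, W₀ (some i) * V₀ (some i) with ht
  have hsome : ∑ i : Fin n, φ (some i) (v (some i)) = 1 := by
    rw [← htr, Fintype.sum_option]; simp [φ]
  have ht1 : Ideal.Quotient.mk 𝔞 (π (1 - t)) = 0 := by
    rw [map_sub, map_sub, map_one, map_one, ← map_one (Ideal.Quotient.mk 𝔞), ← hsome, ht, map_sum, map_sum, map_sum,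
      sub_eq_zero]
    refine Finset.sum_congr rfl fun i _ => ?_
    rw [ha, map_mul, map_mul]
    show _ = (Ideal.Quotient.mk 𝔞).comp π (lift (c (v (some i)))) * (Ideal.Quotient.mk 𝔞).comp π (lift (a (some i)))
    rw [hlift, hlift, mul_comm]
  let V : Option (Fin n) → R := fun i => i.elim (1 - t) fun i => V₀ (some i)
  let W : Option (Fin n) → R := fun i => i.elim (1 - t) fun i => (2 - t) * W₀ (some i)
  have hWV : ∑ i, W i * V i = 1 := by
    rw [Fintype.sum_option]
    simp only [V, W, Option.elim_none, Option.elim_some, mul_assoc, ← Finset.mul_sum, ← ht]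
    ring
  have hW1 : ∀ i, Ideal.Quotient.mk 𝔞 (π (W i)) = c (v i) := by
    rintro (_ | i)
    · show Ideal.Quotient.mk 𝔞 (π (1 - t)) = ε (1 ⊗ₜ[S] (0 : P))
      rw [ht1, TensorProduct.tmul_zero, map_zero]
    · show Ideal.Quotient.mk 𝔞 (π ((2 - t) * W₀ (some i))) = _
      rw [show (2 : R) - t = 1 + (1 - t) by ring, map_mul, map_mul, map_add, map_add, ht1, map_one, map_one, add_zero, one_mul]
      exact hlift _
  have hV1 : ∀ i, Ideal.Quotient.mk 𝔞 (π (V i)) * 1 = if i = none then 0 else a i := by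
    rintro (_ | i)
    · simpa [V] using ht1
    · simp only [mul_one]; exact hlift _
  have hentry : ∀ i j, ∃ x : R, π x = φ i (v j) ∧ x - V i * W j ∈ J := by
    intro i j
    obtain ⟨x₀, hx₀⟩ := hπ (φ i (v j))
    obtain ⟨z, hz, hzx⟩ := hker (x₀ - V i * W j) (by
      rw [map_sub, map_sub, hx₀, sub_eq_zero, map_mul, map_mul, hW1]
      cases i with
      | none => rw [show φ none (v j) = 0 from rfl, map_zero, show V none = 1 - t from rfl, ht1, zero_mul]
      | some i => rw [ha]; exact congrArg (· * c (v j)) (hlift (a (some i))).symm)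
    refine ⟨V i * W j + z, ?_, by simpa using hz⟩
    rw [map_add, hzx, map_sub, hx₀, add_sub_cancel]
  choose E hEπ hEJ using hentry
  have hmk : ∀ i j, Ideal.Quotient.mk J (E i j) = Ideal.Quotient.mk J (V i) * Ideal.Quotient.mk J (W j) :=
    fun i j => by rw [← map_mul]; exact Ideal.Quotient.eq.2 (hEJ i j)
  have hext : ∀ x y : R, π x = π y → Ideal.Quotient.mk J x = Ideal.Quotient.mk J y → x = y := fun x y h h' =>
    sub_eq_zero.1 (hsep _ (by rw [map_sub, h, sub_self]) (Ideal.Quotient.eq.1 h'))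
  have hidem : ∀ i j, ∑ l, E i l * E l j = E i j := fun i j => by
    refine hext _ _ ?_ ?_
    · rw [map_sum]
      simp only [map_mul, hEπ]
      conv_rhs => rw [← hrec (v j), map_sum]
      exact Finset.sum_congr rfl fun l _ => by rw [map_smul, smul_eq_mul, mul_comm]
    · rw [map_sum]
      simp only [map_mul, hmk]
      calc ∑ l, Ideal.Quotient.mk J (V i) * Ideal.Quotient.mk J (W l) * (Ideal.Quotient.mk J (V l) * Ideal.Quotient.mk J (W j))
          = Ideal.Quotient.mk J (V i) * Ideal.Quotient.mk J (W j) * Ideal.Quotient.mk J (∑ l, W l * V l) := by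
            rw [map_sum, Finset.mul_sum]; exact Finset.sum_congr rfl fun l _ => by rw [map_mul]; ring
        _ = _ := by rw [hWV, map_one, mul_one]
  have hE2 : ∀ i j l m, E i j * E l m = E i m * E l j := fun i j l m => by
    refine hext _ _ ?_ ?_
    · simp only [map_mul, hEπ]; exact hcomm _ _ _ _
    · simp only [map_mul, hmk]; ring
  have hEtr : ∑ i, E i i = 1 := by
    refine hext _ _ ?_ ?_
    · rw [map_sum, map_one]; simp only [hEπ]; exact htr
    · rw [map_sum]; simp only [hmk, ← map_mul, ← map_sum]; rw [← hWV]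
      exact congrArg _ (Finset.sum_congr rfl fun i _ => mul_comm _ _)
  let L : (Option (Fin n) → R) →ₗ[R] (Option (Fin n) → R) := Matrix.mulVecLin (Matrix.of E)
  let N : Submodule R (Option (Fin n) → R) := LinearMap.range L
  let col : Option (Fin n) → N := fun j => ⟨fun i => E i j, Pi.single j 1, by funext i; simp [L, Matrix.mulVec, dotProduct, Pi.single_apply]⟩
  let co : Option (Fin n) → N →ₗ[R] R := fun i => LinearMap.proj i ∘ₗ N.subtype
  have hNfix : ∀ x : N, ∀ i, ∑ l, E i l * (x : Option (Fin n) → R) l = (x : Option (Fin n) → R) i := by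
    rintro ⟨_, y, rfl⟩ i
    simp only [L, Matrix.mulVecLin_apply, Matrix.mulVec, dotProduct, Matrix.of_apply, Finset.mul_sum, ← mul_assoc]
    rw [Finset.sum_comm]
    exact Finset.sum_congr rfl fun m _ => by rw [← Finset.sum_mul, hidem]
  haveI hN : Module.Invertible R N := by
    refine invertible_of_rankOne col co (fun x => Subtype.ext (funext fun i => ?_)) hEtr (fun i j a b => ?_)
    · simp only [Submodule.coe_sum, Submodule.coe_smul, Finset.sum_apply, Pi.smul_apply, smul_eq_mul, col, co]
      rw [← hNfix x i]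
      exact Finset.sum_congr rfl fun l _ => mul_comm _ _
    · show (a : Option (Fin n) → R) i * (b : Option (Fin n) → R) j = (b : Option (Fin n) → R) i * (a : Option (Fin n) → R) j
      rw [← hNfix a i, ← hNfix b j, ← hNfix b i, ← hNfix a j, Finset.sum_mul_sum, Finset.sum_mul_sum,
        Finset.sum_comm]
      refine Finset.sum_congr rfl fun l _ => Finset.sum_congr rfl fun m _ => ?_
      linear_combination (a.1 m * b.1 l) * hE2 i m j l
  refine ⟨CommRing.Pic.mk R N, ?_⟩
  letI : Module R P := Module.compHom _ π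
  haveI : IsScalarTower R S P := ⟨fun r s x => by rw [Algebra.smul_def, mul_smul]; rfl⟩
  let θ : N →ₗ[R] P :=
    { toFun := fun x => ∑ i, π ((x : Option (Fin n) → R) i) • v i
      map_add' := fun x y => by simp [add_smul, Finset.sum_add_distrib]
      map_smul' := fun r x => by simp [Finset.smul_sum, mul_smul]; rfl }
  have hcol : ∀ j, θ (col j) = v j := fun j => by
    show ∑ i, π (E i j) • v i = v j
    simp only [hEπ]
    exact hrec (v j)
  have hsurj : Function.Surjective (θ.liftBaseChange S) := fun x =>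
    ⟨∑ j, φ j x • ((1 : S) ⊗ₜ[R] col j), by
      rw [map_sum]
      simp only [map_smul, LinearMap.liftBaseChange_tmul, one_smul, hcol]
      exact hrec x⟩
  show CommRing.Pic.mapAlgebra R S (CommRing.Pic.mk R N) = P
  rw [CommRing.Pic.mapAlgebra_apply, CommRing.Pic.mk_eq_iff]
  exact ⟨((CommRing.Pic.mk.linearEquiv R N).baseChange R S _ _).trans
    (LinearEquiv.ofBijective _ (Module.Invertible.bijective_of_surjective hsurj))⟩

end Groth.Agent.CommAlg4.PicLift
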