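import Groth.Agent.FF.Geometric
import Groth.Agent.FF.PlaneKer
import Mathlib

/-! Geometric function fields are those with an absolutely irreducible plane model. -/

set_option autoImplicit false

universe u v

open FunFld MvPolynomial Groth.Agent.FF
open scoped TensorProduct IntermediateField

namespace Groth.Agent.CommAlg4.PlaneGeometric

variable {k : Type u} {K : Type v} [Field k] [Field K] [Algebra k K]

/-- Evaluation at `(x, y)` after a base change. -/
noncomputable def Φ (k' : Type*) [CommRing k'] [Algebra k k'] (x y : K) :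
    MvPolynomial (Fin 2) k' →ₐ[k'] k' ⊗[k] K :=
  aeval fun i => (1 : k') ⊗ₜ[k] (![x, y] i)

theorem Φ_eq (k' : Type*) [CommRing k'] [Algebra k k'] (x y : K) (G : MvPolynomial (Fin 2) k') :
    Φ k' x y G = (LinearMap.lTensor k' (aeval ![x, y] : MvPolynomial (Fin 2) k →ₐ[k] K).toLinearMap)
      ((algebraTensorAlgEquiv k k').symm G) := by
  obtain ⟨H, rfl⟩ := (algebraTensorAlgEquiv k k').surjective G
  rw [AlgEquiv.symm_apply_apply]
  induction H using TensorProduct.induction_on with
  | zero => simp
  | add a b ha hb => simp only [map_add, ha, hb]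
  | tmul a p =>
    rw [algebraTensorAlgEquiv_tmul, map_smul, LinearMap.lTensor_tmul, Φ, aeval_map_algebraMap, aeval_one_tmul,
      TensorProduct.smul_tmul', smul_eq_mul, mul_one]
    rfl

theorem Φ_map (k' : Type*) [CommRing k'] [Algebra k k'] (x y : K) (p : MvPolynomial (Fin 2) k) :
    Φ k' x y (MvPolynomial.map (algebraMap k k') p) = (1 : k') ⊗ₜ[k] aeval ![x, y] p := by
  rw [Φ, aeval_map_algebraMap, aeval_one_tmul]

theorem ker_Φ (k' : Type*) [Field k'] [Algebra k k'] (x y : K) {f : MvPolynomial (Fin 2) k}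
    (hker : RingHom.ker (aeval ![x, y] : MvPolynomial (Fin 2) k →ₐ[k] K) = Ideal.span {f}) :
    RingHom.ker (Φ (k := k) k' x y) = Ideal.span {MvPolynomial.map (algebraMap k k') f} := by
  have hex : Function.Exact (LinearMap.mulLeft k f)
      (aeval ![x, y] : MvPolynomial (Fin 2) k →ₐ[k] K).toLinearMap := fun G => by
    rw [← show G ∈ RingHom.ker (aeval ![x, y] : MvPolynomial (Fin 2) k →ₐ[k] K) ↔
      (aeval ![x, y] : MvPolynomial (Fin 2) k →ₐ[k] K).toLinearMap G = 0 from RingHom.mem_ker, hker,
      Ideal.mem_span_singleton', Set.mem_range]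
    exact exists_congr fun a => by rw [LinearMap.mulLeft_apply, mul_comm]
  have hex' := Module.Flat.lTensor_exact (M := k') hex
  refine le_antisymm (fun G hG => ?_) ?_
  · rw [RingHom.mem_ker, Φ_eq] at hG
    obtain ⟨H, hH⟩ := (hex' _).mp hG
    rw [Ideal.mem_span_singleton']
    refine ⟨algebraTensorAlgEquiv k k' H, ?_⟩
    have e : ∀ H : k' ⊗[k] MvPolynomial (Fin 2) k,
        algebraTensorAlgEquiv k k' H * MvPolynomial.map (algebraMap k k') f =
          algebraTensorAlgEquiv k k' (LinearMap.lTensor k' (LinearMap.mulLeft k f) H) := fun H => by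
      induction H using TensorProduct.induction_on with
      | zero => simp
      | tmul a p =>
        rw [LinearMap.lTensor_tmul, LinearMap.mulLeft_apply, algebraTensorAlgEquiv_tmul, algebraTensorAlgEquiv_tmul,
          map_mul, smul_mul_assoc, mul_comm (MvPolynomial.map _ p)]
      | add a b ha hb => simp only [map_add, add_mul, ha, hb]
    rw [e, hH, AlgEquiv.apply_symm_apply]
  · rw [Ideal.span_le, Set.singleton_subset_iff, SetLike.mem_coe, RingHom.mem_ker, Φ_eq]
    have h0 : aeval ![x, y] f = 0 := RingHom.mem_ker.mp (hker.symm ▸ Ideal.mem_span_singleton_self f)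
    rw [show (algebraTensorAlgEquiv k k').symm (MvPolynomial.map (algebraMap k k') f) = (1 : k') ⊗ₜ[k] f from
      (AlgEquiv.symm_apply_eq _).mpr (by rw [algebraTensorAlgEquiv_tmul, one_smul])]
    simp [h0]

theorem finrank_adjoin {a b : K} (htop : IntermediateField.adjoin k ({a, b} : Set K) = ⊤)
    (hdep : ¬ AlgebraicIndependent k ![a, b]) (ha : Transcendental k a) : FiniteDimensional k⟮a⟯ K := by
  have h1 : AlgebraicIndependent k ![a] := algebraicIndependent_iff_transcendental.mpr ha
  have h2 : ¬ Transcendental (Algebra.adjoin k (Set.range ![a])) b := fun h => by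
    have h3 := (h1.option_iff_transcendental b).mpr h
    let e : Fin 2 → Option (Fin 1) := ![some 0, none]
    have he : Function.Injective e := by decide
    have := h3.comp e he
    exact hdep (by convert this using 1; funext i; fin_cases i <;> rfl)
  rw [transcendental_iff_injective, ← transcendental_iff_injective] at h2
  have hbalg : IsAlgebraic (Algebra.adjoin k (Set.range ![a])) b := not_not.mp h2
  obtain ⟨p, hp0, hp⟩ := hbalg
  have hle : ∀ z, z ∈ Algebra.adjoin k (Set.range ![a]) → z ∈ k⟮a⟯ := fun z hz => by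
    have : Algebra.adjoin k (Set.range ![a]) ≤ (k⟮a⟯).toSubalgebra := Algebra.adjoin_le (by
      rintro _ ⟨i, rfl⟩; fin_cases i; exact IntermediateField.mem_adjoin_simple_self k a)
    exact this hz
  let ι : Algebra.adjoin k (Set.range ![a]) →+* k⟮a⟯ :=
    { toFun := fun z => ⟨z, hle z z.2⟩, map_one' := rfl, map_mul' := fun _ _ => rfl, map_zero' := rfl,
      map_add' := fun _ _ => rfl }
  have hι : Function.Injective ι := fun z w h => Subtype.ext (congrArg (fun u : k⟮a⟯ => (u : K)) h)
  have hb : IsIntegral k⟮a⟯ b := IsAlgebraic.isIntegral ⟨p.map ι, (Polynomial.map_ne_zero_iff hι).mpr hp0, by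
    rw [Polynomial.aeval_def, Polynomial.eval₂_map]
    exact hp⟩
  have hfd := IntermediateField.adjoin.finiteDimensional hb
  have hbtop : IntermediateField.adjoin k⟮a⟯ ({b} : Set K) = ⊤ := by
    rw [← IntermediateField.restrictScalars_eq_top_iff (K := k), IntermediateField.restrictScalars_adjoin_eq_sup,
      eq_top_iff, ← htop, IntermediateField.adjoin_le_iff]
    rintro z (rfl | rfl)
    · exact SetLike.le_def.mp le_sup_left (IntermediateField.mem_adjoin_simple_self k z)
    · exact SetLike.le_def.mp le_sup_right (IntermediateField.mem_adjoin_simple_self k z)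
  rw [hbtop] at hfd
  exact Module.Finite.equiv (IntermediateField.topEquiv (F := k⟮a⟯) (E := K)).toLinearEquiv

theorem not_both_algebraic {x y : K} {f : MvPolynomial (Fin 2) k} (hf : Irreducible f)
    (hker : RingHom.ker (aeval ![x, y] : MvPolynomial (Fin 2) k →ₐ[k] K) = Ideal.span {f}) :
    Transcendental k x ∨ Transcendental k y := by
  classical
  by_contra h
  push Not at h
  have key : ∀ i j : Fin 2, i ≠ j → IsAlgebraic k (![x, y] i) → degreeOf j f = 0 := fun i j hij hal => by
    obtain ⟨p, hp0, hp⟩ := hal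
    have hmem : Polynomial.aeval (X i : MvPolynomial (Fin 2) k) p ∈
        RingHom.ker (aeval ![x, y] : MvPolynomial (Fin 2) k →ₐ[k] K) := by
      rw [RingHom.mem_ker, ← Polynomial.aeval_algHom_apply, aeval_X]; exact hp
    rw [hker, Ideal.mem_span_singleton] at hmem
    obtain ⟨g, hg⟩ := hmem
    have hne : Polynomial.aeval (X i : MvPolynomial (Fin 2) k) p ≠ 0 := fun h0 => hp0
      ((transcendental_iff_injective.mp (MvPolynomial.transcendental_X k i))
        (h0.trans (map_zero (Polynomial.aeval (X i : MvPolynomial (Fin 2) k))).symm))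
    have hdeg : degreeOf j (Polynomial.aeval (X i : MvPolynomial (Fin 2) k) p) = 0 := by
      by_contra hv'
      have hv := mem_vars_iff_degreeOf_ne_zero.mpr hv'
      rw [Polynomial.aeval_eq_sum_range] at hv
      obtain ⟨l, -, hl⟩ := Finset.mem_biUnion.mp (vars_sum_subset _ _ hv)
      rw [smul_eq_C_mul] at hl
      rcases Finset.mem_union.mp (vars_mul _ _ hl) with h1 | h1
      · simp [vars_C] at h1
      · have := vars_pow _ _ h1
        rw [vars_X, Finset.mem_singleton] at this
        exact hij this.symm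
    rw [hg] at hdeg hne
    rw [degreeOf_mul_eq hf.ne_zero (right_ne_zero_of_mul hne)] at hdeg
    omega
  have h0 := key 1 0 (by decide) (by simpa using not_not.mp h.2)
  have h1 := key 0 1 (by decide) (by simpa using not_not.mp h.1)
  have hv : f.vars = ∅ := by
    ext i
    simp only [Finset.notMem_empty, iff_false]
    fin_cases i
    · exact fun hi => (mem_vars_iff_degreeOf_ne_zero.mp hi) h0
    · exact fun hi => (mem_vars_iff_degreeOf_ne_zero.mp hi) h1
  obtain ⟨c, rfl⟩ : ∃ c, f = C c := ⟨_, vars_eq_empty_iff_eq_C.mp hv⟩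
  rcases eq_or_ne c 0 with rfl | hc
  · exact hf.ne_zero (map_zero _)
  · exact hf.not_isUnit ((isUnit_iff_ne_zero.mpr hc).map _)

theorem isField_tensor {x y : K} (htop : IntermediateField.adjoin k ({x, y} : Set K) = ⊤)
    {f : MvPolynomial (Fin 2) k} (hker : RingHom.ker (aeval ![x, y] : MvPolynomial (Fin 2) k →ₐ[k] K) = Ideal.span {f})
    (k' : Type u) [Field k'] [Algebra k k'] [FiniteDimensional k k']
    (hirr : Irreducible (MvPolynomial.map (algebraMap k k') f)) : IsField (k' ⊗[k] K) := by
  have hclear : ∀ z : k' ⊗[k] K, ∃ (d : MvPolynomial (Fin 2) k) (G : MvPolynomial (Fin 2) k'),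
      aeval ![x, y] d ≠ 0 ∧ ((1 : k') ⊗ₜ[k] aeval ![x, y] d) * z = Φ k' x y G := by
    intro z
    induction z using TensorProduct.induction_on with
    | zero => exact ⟨1, 0, by simp, by simp⟩
    | tmul a w =>
      have hw : w ∈ IntermediateField.adjoin k (Set.range ![x, y]) := by
        rw [Matrix.range_cons, Matrix.range_cons, Matrix.range_empty, Set.union_empty, ← Set.insert_eq, htop]
        trivial
      obtain ⟨A, B, hAB⟩ := (IntermediateField.mem_adjoin_range_iff k _ w).mp hw
      rcases eq_or_ne (aeval ![x, y] B) 0 with hB | hB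
      · exact ⟨1, 0, by simp, by simp [hAB, hB]⟩
      refine ⟨B, C a * MvPolynomial.map (algebraMap k k') A, hB, ?_⟩
      rw [Φ_eq, show (algebraTensorAlgEquiv k k').symm (C a * MvPolynomial.map (algebraMap k k') A) = a ⊗ₜ[k] A from
        (AlgEquiv.symm_apply_eq _).mpr (by rw [algebraTensorAlgEquiv_tmul, smul_eq_C_mul]),
        LinearMap.lTensor_tmul, Algebra.TensorProduct.tmul_mul_tmul, one_mul, hAB, mul_div_cancel₀ _ hB]
      rfl
    | add a b ha hb =>
      obtain ⟨d, G, hd, hG⟩ := ha
      obtain ⟨d', G', hd', hG'⟩ := hb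
      refine ⟨d * d', MvPolynomial.map (algebraMap k k') d' * G + MvPolynomial.map (algebraMap k k') d * G',
        by rw [map_mul]; exact mul_ne_zero hd hd', ?_⟩
      simp only [map_add, map_mul, Φ_map, ← hG, ← hG']
      have e2 : (1 : k') ⊗ₜ[k] (aeval ![x, y] d * aeval ![x, y] d') =
          ((1 : k') ⊗ₜ[k] aeval ![x, y] d) * ((1 : k') ⊗ₜ[k] aeval ![x, y] d') := by
        rw [Algebra.TensorProduct.tmul_mul_tmul, one_mul]
      rw [e2]
      ring
  have hunit : ∀ w : K, w ≠ 0 → IsUnit ((1 : k') ⊗ₜ[k] w) := fun w hw =>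
    (isUnit_iff_ne_zero.mpr hw).map (Algebra.TensorProduct.includeRight : K →ₐ[k] k' ⊗[k] K)
  have hp : (RingHom.ker (Φ (k := k) k' x y)).IsPrime := by
    rw [ker_Φ k' x y hker]
    exact (Ideal.span_singleton_prime hirr.ne_zero).mpr (UniqueFactorizationMonoid.irreducible_iff_prime.mp hirr)
  haveI : NoZeroDivisors (k' ⊗[k] K) := ⟨fun {a b} hab => by
    obtain ⟨d, G, hd, hG⟩ := hclear a
    obtain ⟨d', G', hd', hG'⟩ := hclear b
    have : G * G' ∈ RingHom.ker (Φ (k := k) k' x y) := by
      rw [RingHom.mem_ker, map_mul, ← hG, ← hG', mul_mul_mul_comm, hab, mul_zero]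
    rcases hp.mem_or_mem this with h | h <;> rw [RingHom.mem_ker] at h
    · rw [← hG] at h
      exact Or.inl ((hunit _ hd).mul_right_eq_zero.mp h)
    · rw [← hG'] at h
      exact Or.inr ((hunit _ hd').mul_right_eq_zero.mp h)⟩
  haveI : Nontrivial (k' ⊗[k] K) := ⟨⟨0, 1, fun h => hp.ne_top ((Ideal.eq_top_iff_one _).mpr (by
    rw [RingHom.mem_ker, map_one]; exact h.symm))⟩⟩
  haveI : IsDomain (k' ⊗[k] K) := NoZeroDivisors.to_isDomain _
  letI : Algebra K (k' ⊗[k] K) := Algebra.TensorProduct.rightAlgebra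
  haveI : Module.Finite K (k' ⊗[k] K) := Module.Finite.equiv
    (Algebra.TensorProduct.commRight k K k').toLinearEquiv
  exact isField_of_isIntegral_of_isField' (R := K) (Field.toIsField K)

theorem exists_model (hK : IsFunctionField k K) (hg : IsGeometric k K) :
    ∃ (x y : K) (f : MvPolynomial (Fin 2) k), IntermediateField.adjoin k ({x, y} : Set K) = ⊤ ∧
      RingHom.ker (aeval ![x, y] : MvPolynomial (Fin 2) k →ₐ[k] K) = Ideal.span {f} ∧ f ≠ 0 := by
  obtain ⟨x, hx, hfin, hsep⟩ := exists_separating_of_isGeometric hK hg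
  obtain ⟨y, hy⟩ := Field.exists_primitive_element k⟮x⟯ K
  have htop : IntermediateField.adjoin k ({x, y} : Set K) = ⊤ := by
    rw [← IntermediateField.restrictScalars_eq_top_iff (K := k)] at hy
    rw [← hy, IntermediateField.adjoin_adjoin_left, Set.singleton_union]
  have hne : RingHom.ker (aeval ![x, y] : MvPolynomial (Fin 2) k →ₐ[k] K) ≠ ⊥ := by
    intro hb
    have hind : AlgebraicIndependent k ![x, y] := by
      rw [algebraicIndependent_iff_injective_aeval]
      exact (injective_iff_map_eq_zero _).mpr fun G hG =>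
        (Submodule.mem_bot _).mp (hb ▸ (RingHom.mem_ker.mpr hG : G ∈ RingHom.ker _))
    have h2 := ((AlgebraicIndependent.iff_transcendental_adjoin_image (x := ![x, y]) 1).mp hind).2
    have e : ![x, y] '' {(1 : Fin 2)}ᶜ = {x} := by
      ext z
      simp only [Set.mem_image, Set.mem_compl_iff, Set.mem_singleton_iff]
      constructor
      · rintro ⟨i, hi, rfl⟩; fin_cases i <;> simp_all
      · rintro rfl; exact ⟨0, by decide, rfl⟩
    rw [e] at h2
    open scoped IntermediateField.algebraAdjoinAdjoin in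
    exact h2 ((IsFractionRing.isAlgebraic_iff (Algebra.adjoin k ({x} : Set K)) k⟮x⟯ K).mpr
      (Algebra.IsAlgebraic.isAlgebraic y))
  obtain ⟨f, hf, hfxy⟩ : ∃ f, Irreducible f ∧ (aeval ![x, y] : MvPolynomial (Fin 2) k →ₐ[k] K) f = 0 := by
    have hp : (RingHom.ker (aeval ![x, y] : MvPolynomial (Fin 2) k →ₐ[k] K)).IsPrime := RingHom.ker_isPrime _
    obtain ⟨f, hf, hfp⟩ := hp.exists_mem_prime_of_ne_bot hne
    exact ⟨f, hfp.irreducible, RingHom.mem_ker.mp hf⟩
  refine ⟨x, y, f, htop, le_antisymm ?_ ((Ideal.span_singleton_le_iff_mem _).mpr hfxy), hf.ne_zero⟩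
  by_contra hc
  haveI : (RingHom.ker (aeval ![x, y] : MvPolynomial (Fin 2) k →ₐ[k] K)).IsPrime := RingHom.ker_isPrime _
  have hm := isMaximal_of_lt hf (lt_of_le_not_ge ((Ideal.span_singleton_le_iff_mem _).mpr hfxy) hc)
  letI := Ideal.Quotient.field (RingHom.ker (aeval ![x, y] : MvPolynomial (Fin 2) k →ₐ[k] K))
  haveI : Module.Finite k (MvPolynomial (Fin 2) k ⧸ RingHom.ker (aeval ![x, y] : MvPolynomial (Fin 2) k →ₐ[k] K)) :=
    finite_of_finite_type_of_isJacobsonRing k _
  have halg : IsAlgebraic k (Ideal.Quotient.mk (RingHom.ker (aeval ![x, y] : MvPolynomial (Fin 2) k →ₐ[k] K)) (X 0)) :=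
    IsAlgebraic.of_finite k _
  have := halg.algHom (Ideal.kerLiftAlg (aeval ![x, y] : MvPolynomial (Fin 2) k →ₐ[k] K))
  rw [Ideal.kerLiftAlg_mk, aeval_X] at this
  exact hx this

end Groth.Agent.CommAlg4.PlaneGeometric
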