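import Groth.Agent.CommAlg4.JacobianCrit
import Groth.Agent.FF.PlaneModel
import Groth.Agent.FF.OrdersAt
import Mathlib

/-! The intersection number of a plane curve with another curve as a sum of orders. -/

set_option autoImplicit false
set_option backward.isDefEq.respectTransparency false

open FunFld WithZero MvPolynomial Groth.Agent.FF Groth.Agent.CommAlg4.JacobianCrit
open scoped Classical

namespace Groth.Agent.CommAlg4.PlaneIntersect

variable {k K : Type*} [Field k] [Field K] [Algebra k K]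

/-- Relative length. -/
noncomputable def relLen (N M : Submodule k K) : ℕ∞ := Module.length k (M ⧸ N.comap M.subtype)

theorem relLen_trans {N M V : Submodule k K} (h1 : N ≤ M) (h2 : M ≤ V) :
    relLen N V = relLen N M + relLen M V := by
  let f : (M ⧸ N.comap M.subtype) →ₗ[k] (V ⧸ N.comap V.subtype) :=
    Submodule.mapQ _ _ (Submodule.inclusion h2) (fun x hx => hx)
  let g : (V ⧸ N.comap V.subtype) →ₗ[k] (V ⧸ M.comap V.subtype) :=
    Submodule.factor (Submodule.comap_mono h1)
  refine Module.length_eq_add_of_exact f g ?_ (Submodule.factor_surjective _) ?_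
  · rw [injective_iff_map_eq_zero]
    intro z hz
    obtain ⟨x, rfl⟩ := Submodule.Quotient.mk_surjective _ z
    rw [Submodule.mapQ_apply, Submodule.Quotient.mk_eq_zero] at hz
    exact (Submodule.Quotient.mk_eq_zero _).mpr hz
  · intro z
    obtain ⟨x, rfl⟩ := Submodule.Quotient.mk_surjective _ z
    constructor
    · intro hz
      have hx : (x : K) ∈ M := (Submodule.Quotient.mk_eq_zero (M.comap V.subtype)).mp hz
      exact ⟨Submodule.Quotient.mk ⟨x, hx⟩, rfl⟩
    · rintro ⟨w, hw⟩
      obtain ⟨y, rfl⟩ := Submodule.Quotient.mk_surjective _ w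
      rw [← hw]
      show g (Submodule.Quotient.mk _) = 0
      exact (Submodule.Quotient.mk_eq_zero _).mpr y.2

theorem relLen_map {w : K} (hw : w ≠ 0) (N M : Submodule k K) :
    relLen (N.map (LinearMap.mulLeft k w)) (M.map (LinearMap.mulLeft k w)) = relLen N M := by
  have hinj : Function.Injective (LinearMap.mulLeft k w) := mul_right_injective₀ hw
  refine (LinearEquiv.length_eq (Submodule.Quotient.equiv _ _ (Submodule.equivMapOfInjective _ hinj M) ?_)).symm
  ext z
  constructor
  · rintro ⟨x, hx, rfl⟩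
    exact ⟨_, hx, rfl⟩
  · rintro ⟨x, hx, hxz⟩
    obtain ⟨z, hz⟩ := z
    obtain ⟨y, hy, rfl⟩ := hz
    obtain rfl : x = y := hinj hxz
    exact ⟨⟨x, hy⟩, hx, rfl⟩

variable (x y : K) (c : Fin 2 → k) (P : Place k K)

/-- The places over the point. -/
def fibre : Set (Place k K) := {Q | ∀ i, Q.1 (![x, y] i - algebraMap k K (c i)) < 1}

/-- The local ring of the curve at the point. -/
noncomputable def locA : Submodule k K where
  carrier := {z | ∃ G H : MvPolynomial (Fin 2) k, eval c H ≠ 0 ∧ z * aeval ![x, y] H = aeval ![x, y] G}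
  add_mem' := by
    rintro a b ⟨G, H, hH, hG⟩ ⟨G', H', hH', hG'⟩
    exact ⟨G * H' + G' * H, H * H', by rw [map_mul]; exact mul_ne_zero hH hH', by
      simp only [map_mul, map_add, ← hG, ← hG']; ring⟩
  zero_mem' := ⟨0, 1, by simp, by simp⟩
  smul_mem' := by
    rintro a b ⟨G, H, hH, hG⟩
    exact ⟨C a * G, H, hH, by rw [map_mul, aeval_C, ← hG, Algebra.smul_def]; ring⟩

/-- Functions integral at the places over the point with prescribed vanishing. -/
def bdd (m : Place k K → ℕ) : Submodule k K where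
  carrier := {z | ∀ Q ∈ fibre x y c, Q.1 z ≤ exp (-(m Q : ℤ))}
  add_mem' ha hb Q hQ := (Q.1.map_add _ _).trans (max_le (ha Q hQ) (hb Q hQ))
  zero_mem' Q _ := by simp
  smul_mem' a z hz Q hQ := by
    rw [Algebra.smul_def, map_mul]
    exact (mul_le_of_le_one_left' (Q.2.1 a)).trans (hz Q hQ)

variable {x y c P}

theorem val_eq_one_iff {Q : Place k K} (hQ : Q ∈ fibre x y c) (G : MvPolynomial (Fin 2) k) :
    Q.1 (aeval ![x, y] G) ≤ 1 ∧ (eval c G ≠ 0 → Q.1 (aeval ![x, y] G) = 1) := by
  have hle : Q.1 (aeval ![x, y] G) ≤ 1 := by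
    induction G using MvPolynomial.induction_on with
    | C a => rw [aeval_C]; exact Q.2.1 a
    | add p q hp hq => rw [map_add]; exact (Q.1.map_add _ _).trans (max_le hp hq)
    | mul_X p i hp =>
      rw [map_mul, map_mul, aeval_X]
      refine mul_le_one' hp ?_
      rw [← sub_add_cancel (![x, y] i) (algebraMap k K (c i))]
      exact (Q.1.map_add _ _).trans (max_le (hQ i).le (Q.2.1 _))
  exact ⟨hle, fun h => le_antisymm hle (not_lt.mp fun hlt => h ((eval_eq_zero_iff hQ G).mp hlt))⟩

theorem locA_le : locA x y c ≤ bdd x y c 0 := by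
  rintro z ⟨G, H, hH, hG⟩ Q hQ
  have h1 := (val_eq_one_iff hQ G).1
  rw [← hG, map_mul, (val_eq_one_iff hQ H).2 hH, mul_one] at h1
  simpa using h1

theorem finite_fibre [IsAlgClosed k] (hK : IsFunctionField k K)
    (hxy : IntermediateField.adjoin k ({x, y} : Set K) = ⊤) : (fibre (k := k) x y c).Finite := by
  obtain ⟨i, hi⟩ : ∃ i, ![x, y] i ∉ Set.range (algebraMap k K) := by
    rcases exists_not_range_of_adjoin hK hxy with h | h
    · exact ⟨0, h⟩
    · exact ⟨1, h⟩
  refine (finite_support_ord hK (![x, y] i - algebraMap k K (c i))).subset fun Q hQ => ?_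
  have hne : ![x, y] i - algebraMap k K (c i) ≠ 0 := fun h => hi ⟨c i, (sub_eq_zero.mp h).symm⟩
  intro h0
  have h1 := hQ i
  rw [val_eq_exp_neg_ord Q hne, show Q.ord (![x, y] i - algebraMap k K (c i)) = 0 from h0, neg_zero, exp_zero] at h1
  exact lt_irrefl _ h1

theorem aeval_of_mem_planeV_pow {n : ℕ} {G : K} (hG : G ∈ planeV k x y ^ n) :
    ∃ p : MvPolynomial (Fin 2) k, aeval ![x, y] p = G := by
  rw [planeV_pow] at hG
  obtain ⟨p, -, hp⟩ := hG
  exact ⟨p, hp⟩

/-- `G` is a multiplier clearing the poles of `z`. -/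
def Clears (x y : K) (c : Fin 2 → k) (z : K) (T : Set (Place k K)) : Prop :=
  ∃ (n : ℕ) (p : MvPolynomial (Fin 2) k), aeval ![x, y] p ∈ planeV k x y ^ n ∧ eval c p ≠ 0 ∧
    ∀ R ∈ T, R.1 (z * aeval ![x, y] p) ≤ exp ((n : ℤ) * mapDiv k ![(1 : K), x, y] R)

theorem exists_separating [IsAlgClosed k] (hK : IsFunctionField k K) {R : Place k K} (hR : R ∉ fibre x y c) :
    ∃ p : MvPolynomial (Fin 2) k, aeval ![x, y] p ∈ planeV k x y ∧ eval c p ≠ 0 ∧
      R.1 (aeval ![x, y] p) ≤ exp (mapDiv k ![(1 : K), x, y] R - 1) := by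
  rcases (mapDiv_plane_nonneg hK x y R).eq_or_lt with h0 | h0
  · have hint : ∀ i, R.1 (![x, y] i) ≤ 1 := fun i => by
      have hv : ![x, y] i ∈ planeV k x y := by fin_cases i <;> [exact fst_mem_planeV x y; exact snd_mem_planeV x y]
      have := (isBpf_plane hK x y).le hv R
      rwa [show mapDiv k ![(1 : K), x, y] R = 0 from h0.symm, exp_zero] at this
    obtain ⟨i, hi⟩ := not_forall.mp hR
    obtain ⟨d, hd⟩ := exists_const_near hK R (hint i)
    refine ⟨X i - C d, ?_, ?_, ?_⟩
    · rw [map_sub, aeval_X, aeval_C, Algebra.algebraMap_eq_smul_one]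
      refine sub_mem ?_ (Submodule.smul_mem _ d (one_mem_planeV x y))
      fin_cases i <;> [exact fst_mem_planeV x y; exact snd_mem_planeV x y]
    · rw [map_sub, eval_X, eval_C]
      exact sub_ne_zero.mpr fun e => hi (e ▸ hd)
    · rw [map_sub, aeval_X, aeval_C, show mapDiv k ![(1 : K), x, y] R = 0 from h0.symm]
      simpa using pow_le_exp_neg hd 1
  · refine ⟨1, by rw [map_one]; exact one_mem_planeV x y, by simp, ?_⟩
    rw [map_one, map_one, ← exp_zero, exp_le_exp]
    exact Int.le_sub_one_of_lt h0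

theorem exists_clears [IsAlgClosed k] (hK : IsFunctionField k K) {z : K} (hz0 : z ≠ 0) (T : Finset (Place k K))
    (hT : ∀ R ∈ T, R ∉ fibre x y c) : Clears x y c z (↑T ∪ {R | R.1 z ≤ 1}) := by
  induction T using Finset.induction with
  | empty =>
    refine ⟨0, 1, by rw [map_one, pow_zero]; exact Submodule.one_le.mp le_rfl, by simp, fun R hR => ?_⟩
    simpa using hR
  | insert R T hRT ih =>
    obtain ⟨n, p, hp, hpc, hpT⟩ := ih fun R hR => hT R (Finset.mem_insert_of_mem hR)
    obtain ⟨s, hs, hsc, hsR⟩ := exists_separating hK (hT R (Finset.mem_insert_self R T))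
    set m := (-(R.ord z)).toNat with hm
    refine ⟨n + m, p * s ^ m, by rw [map_mul, map_pow, pow_add]; exact Submodule.mul_mem_mul hp (Submodule.pow_mem_pow _ hs m),
      by rw [map_mul, map_pow]; exact mul_ne_zero hpc (pow_ne_zero m hsc), fun R' hR' => ?_⟩
    simp only [map_mul, map_pow]
    rw [← mul_assoc]
    push_cast
    rw [add_mul]
    by_cases hR'T : R' ∈ (↑T ∪ {R | R.1 z ≤ 1} : Set (Place k K))
    · refine (mul_le_mul' ((map_mul R'.1 _ _).symm.trans_le (hpT R' hR'T)) (pow_le_pow_left₀ zero_le ((isBpf_plane hK x y).le hs R') m)).trans_eq ?_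
      rw [← exp_nsmul, ← exp_add, nsmul_eq_mul]
    · have e : R' = R := by
        simp only [Finset.coe_insert, Set.mem_union, Set.mem_insert_iff] at hR' hR'T
        tauto
      subst e
      have hp1 : R'.1 (aeval ![x, y] p) ≤ exp ((n : ℤ) * mapDiv k ![(1 : K), x, y] R') := by
        have := pow_le_L (isBpf_plane hK x y).le n hp R'
        simpa using this
      refine (mul_le_mul' (mul_le_mul' (val_eq_exp_neg_ord R' hz0).le hp1)
        (pow_le_pow_left₀ zero_le hsR m)).trans ?_
      rw [← exp_nsmul, ← exp_add, ← exp_add, exp_le_exp, nsmul_eq_mul, mul_sub, mul_one]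
      have := Int.self_le_toNat (-(R'.ord z))
      omega

theorem exists_clears_finset [IsAlgClosed k] (hK : IsFunctionField k K) (s : Finset K)
    (hs : ∀ z ∈ s, z ∈ bdd (k := k) x y c 0) :
    ∃ (n : ℕ) (p : MvPolynomial (Fin 2) k), aeval ![x, y] p ∈ planeV k x y ^ n ∧ eval c p ≠ 0 ∧
      ∀ z ∈ s, z * aeval ![x, y] p ∈ L ((n : ℕ) • mapDiv k ![(1 : K), x, y]) := by
  induction s using Finset.induction with
  | empty => exact ⟨0, 1, by rw [map_one, pow_zero]; exact Submodule.one_le.mp le_rfl, by simp, by simp⟩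
  | insert z s hzs ih =>
    obtain ⟨n, p, hp, hpc, hps⟩ := ih fun w hw => hs w (Finset.mem_insert_of_mem hw)
    obtain ⟨n', p', hp', hpc', hp'z⟩ : ∃ (n' : ℕ) (p' : MvPolynomial (Fin 2) k),
        aeval ![x, y] p' ∈ planeV k x y ^ n' ∧ eval c p' ≠ 0 ∧
          z * aeval ![x, y] p' ∈ L ((n' : ℕ) • mapDiv k ![(1 : K), x, y]) := by
      rcases eq_or_ne z 0 with rfl | hz0
      · exact ⟨0, 1, by rw [map_one, pow_zero]; exact Submodule.one_le.mp le_rfl, by simp, by simp⟩
      · have hfin : {R : Place k K | ¬ R.1 z ≤ 1}.Finite := (finite_support_ord hK z).subset fun R hR h0 => hR (by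
          rw [val_eq_exp_neg_ord R hz0, show R.ord z = 0 from h0, neg_zero, exp_zero])
        obtain ⟨n', p', h1, h2, h3⟩ := exists_clears (c := c) hK hz0 hfin.toFinset fun R hR hmem => by
          have := hs z (Finset.mem_insert_self z s) R hmem
          rw [Set.Finite.mem_toFinset] at hR
          exact hR (by simpa using this)
        refine ⟨n', p', h1, h2, fun R => ?_⟩
        have := h3 R (by
          simp only [Set.Finite.coe_toFinset, Set.mem_union, Set.mem_setOf_eq]
          exact (em _).symm)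
        simpa using this
    refine ⟨n + n', p * p', by rw [map_mul, pow_add]; exact Submodule.mul_mem_mul hp hp',
      by rw [map_mul]; exact mul_ne_zero hpc hpc', fun w hw => ?_⟩
    rw [map_mul, add_nsmul]
    rcases Finset.mem_insert.mp hw with rfl | hw
    · rw [show w * (aeval ![x, y] p * aeval ![x, y] p') = aeval ![x, y] p * (w * aeval ![x, y] p') by ring]
      exact mul_mem_L (pow_le_L (isBpf_plane hK x y).le n hp) hp'z
    · rw [← mul_assoc]
      exact mul_mem_L (hps w hw) (pow_le_L (isBpf_plane hK x y).le n' hp')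

theorem relLen_locA_lt_top [IsAlgClosed k] (hK : IsFunctionField k K)
    (hxy : IntermediateField.adjoin k ({x, y} : Set K) = ⊤) : relLen (locA x y c) (bdd x y c 0) < ⊤ := by
  obtain ⟨c0, hc0⟩ := planeV_pow_lower hK hxy
  set D := mapDiv k ![(1 : K), x, y] with hD
  set B := bdd (k := k) x y c 0
  set N := ((c0 : ℤ) * D.deg + 1).toNat with hN
  have hrk : Module.rank k (B ⧸ (locA x y c).comap B.subtype) ≤ (N : Cardinal) := rank_le fun s hs => by
    choose r hr using fun q : B ⧸ (locA x y c).comap B.subtype => Submodule.Quotient.mk_surjective _ q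
    obtain ⟨n, p, hp, hpc, hpz⟩ := exists_clears_finset (c := c) hK (s.image fun q => (r q : K)) (fun z hz => by
      obtain ⟨q, -, rfl⟩ := Finset.mem_image.mp hz
      exact (r q).2)
    set n' := n + c0 with hn'
    have hmono : ∀ {G : K}, G ∈ planeV k x y ^ n → G ∈ planeV k x y ^ n' := fun {G} hG => by
      have := Submodule.mul_mem_mul hG (Submodule.pow_mem_pow _ (one_mem_planeV (k := k) x y) c0)
      rwa [one_pow, mul_one, ← pow_add] at this
    have hLm : L ((n : ℕ) • D) ≤ L ((n' : ℕ) • D) := L_mono (nsmul_le_nsmul_left (mapDiv_plane_nonneg hK x y) (by omega))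
    have := finiteDimensional_L hK ((n' : ℕ) • D)
    let U := (L ((n' : ℕ) • D)) ⧸ (planeV k x y ^ n').comap (L ((n' : ℕ) • D)).subtype
    let v : s → U := fun q => Submodule.Quotient.mk
      ⟨(r q.1 : K) * aeval ![x, y] p, hLm (hpz _ (Finset.mem_image_of_mem _ q.2))⟩
    have hv : LinearIndependent k v := by
      rw [Fintype.linearIndependent_iff]
      intro a ha
      rw [Fintype.linearIndependent_iff] at hs
      refine hs a ?_
      have h1 : (∑ q : s, a q • (⟨(r q.1 : K) * aeval ![x, y] p, hLm (hpz _ (Finset.mem_image_of_mem _ q.2))⟩ :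
          L ((n' : ℕ) • D))) ∈ (planeV k x y ^ n').comap (L ((n' : ℕ) • D)).subtype := by
        rw [← Submodule.Quotient.mk_eq_zero, ← ha, ← Submodule.mkQ_apply, map_sum]
        exact Finset.sum_congr rfl fun q _ => rfl
      obtain ⟨G, hG⟩ := aeval_of_mem_planeV_pow (Submodule.mem_comap.mp h1)
      have h2 : ∑ q : s, a q • r q.1 ∈ (locA x y c).comap B.subtype := by
        refine ⟨G, p, hpc, ?_⟩
        rw [hG]
        simp [Submodule.coe_sum, Finset.sum_mul, smul_mul_assoc]
      rw [← Submodule.Quotient.mk_eq_zero, ← Submodule.mkQ_apply, map_sum] at h2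
      simpa [hr] using h2
    have hcard := hv.fintype_card_le_finrank
    rw [Fintype.card_coe] at hcard
    have hq := Submodule.finrank_quotient_add_finrank ((planeV k x y ^ n').comap (L ((n' : ℕ) • D)).subtype)
    rw [LinearEquiv.finrank_eq (Submodule.comapSubtypeEquivOfLe (pow_le_L (isBpf_plane hK x y).le n'))] at hq
    have hlow := hc0 n
    rw [← hn'] at hlow
    have hup : (ell ((n' : ℕ) • D) : ℤ) ≤ (n' : ℤ) * D.deg + 1 := by
      have := ell_le_deg_add_one hK (D := (n' : ℕ) • D) (nsmul_nonneg (mapDiv_plane_nonneg hK x y) n')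
      rwa [← natCast_zsmul, deg_zsmul, natCast_zsmul] at this
    have hd := (deg_mapDiv_plane_pos hK hxy).le
    rw [ell] at hup
    have : (s.card : ℤ) ≤ (c0 : ℤ) * D.deg + 1 := by
      have e : (Module.finrank k U : ℤ) + Module.finrank k ↥(planeV k x y ^ n') = Module.finrank k ↥(L ((n' : ℕ) • D)) := by
        exact_mod_cast hq
      have e2 : (s.card : ℤ) ≤ Module.finrank k U := by exact_mod_cast hcard
      rw [hn'] at hup
      push_cast at hup hlow
      nlinarith
    omega
  have : Module.Finite k (B ⧸ (locA x y c).comap B.subtype) :=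
    Module.rank_lt_aleph0_iff.mp (hrk.trans_lt (Cardinal.nat_lt_aleph0 N))
  exact lt_top_iff_ne_top.mpr Module.length_ne_top

theorem relLen_bdd [IsAlgClosed k] (hK : IsFunctionField k K) (S : Finset (Place k K))
    (hS : ∀ Q, Q ∈ S ↔ Q ∈ fibre x y c) (m : Place k K → ℕ) :
    relLen (bdd x y c m) (bdd x y c 0) = ((∑ Q ∈ S, m Q : ℕ) : ℕ∞) := by
  induction hm : ∑ Q ∈ S, m Q generalizing m with
  | zero =>
    have e : bdd x y c m = bdd (k := k) x y c 0 := by
      ext z
      refine forall₂_congr fun Q hQ => ?_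
      rw [Finset.sum_eq_zero_iff.mp hm Q ((hS Q).mpr hQ)]
      rfl
    rw [e, relLen, Submodule.comap_subtype_self, Nat.cast_zero]
    haveI : Subsingleton ((bdd (k := k) x y c 0) ⧸ (⊤ : Submodule k (bdd (k := k) x y c 0))) :=
      Submodule.Quotient.subsingleton_iff.mpr rfl
    exact Module.length_eq_zero
  | succ N ih =>
    obtain ⟨Q, hQS, hQ⟩ : ∃ Q ∈ S, m Q ≠ 0 := by
      by_contra h
      push Not at h
      rw [Finset.sum_eq_zero h] at hm
      omega
    set m' := Function.update m Q (m Q - 1) with hm'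
    have hsum : ∑ R ∈ S, m' R = N := by
      rw [hm', Finset.sum_update_of_mem hQS, Finset.sdiff_singleton_eq_erase]
      have := Finset.add_sum_erase S m hQS
      omega
    have hle : bdd x y c m ≤ bdd (k := k) x y c m' := fun z hz R hR => (hz R hR).trans (exp_le_exp.mpr (by
      rw [hm']
      rcases eq_or_ne R Q with rfl | hne
      · rw [Function.update_self]; omega
      · rw [Function.update_of_ne hne]))
    rw [relLen_trans hle (show bdd x y c m' ≤ bdd (k := k) x y c 0 from fun z hz R hR => (hz R hR).trans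
      (exp_le_exp.mpr (by simp only [Pi.zero_apply]; omega))), ih m' hsum]
    suffices h : relLen (bdd x y c m) (bdd (k := k) x y c m') = 1 by
      rw [h, Nat.cast_succ, add_comm]
    obtain ⟨π, hπ0, hπ⟩ := exists_uniformizer Q
    obtain ⟨t, ht⟩ := exists_approx S (fun R => if R = Q then π ^ (m Q - 1) else 0) (fun R => -(m R : ℤ))
    have hQF : Q ∈ fibre x y c := (hS Q).mp hQS
    have hπv : Q.1 (π ^ (m Q - 1)) = exp (-((m Q - 1 : ℕ) : ℤ)) := by
      rw [map_pow, hπ, ← exp_nsmul]; simp
    have htQ : Q.1 t = exp (-((m Q - 1 : ℕ) : ℤ)) := by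
      have h := ht Q hQS
      rw [if_pos rfl] at h
      rw [← sub_add_cancel t (π ^ (m Q - 1)), Valuation.map_add_eq_of_lt_right _ ?_, hπv]
      rw [hπv]
      exact h.trans_lt (exp_lt_exp.mpr (by omega))
    have htm : t ∈ bdd (k := k) x y c m' := fun R hR => by
      rcases eq_or_ne R Q with rfl | hne
      · rw [htQ, hm', Function.update_self]
      · have h := ht R ((hS R).mpr hR)
        rw [if_neg hne, sub_zero] at h
        rwa [hm', Function.update_of_ne hne]
    have ht0 : Q.1 t ≠ 0 := htQ ▸ exp_ne_zero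
    have key : ∀ z ∈ bdd (k := k) x y c m', ∃ a : k, z - a • t ∈ bdd (k := k) x y c m := fun z hz => by
      have h1 : Q.1 (z / t) ≤ 1 := by
        rw [map_div₀, div_le_one₀ (zero_lt_iff.mpr ht0), htQ]
        have := hz Q hQF
        rwa [hm', Function.update_self] at this
      obtain ⟨a, ha⟩ := exists_const_near hK Q h1
      refine ⟨a, fun R hR => ?_⟩
      rcases eq_or_ne R Q with rfl | hne
      · rw [show z - a • t = (z / t - algebraMap k K a) * t by
          rw [Algebra.smul_def, sub_mul, div_mul_cancel₀ _ (fun e => ht0 (by rw [e, map_zero]))], map_mul, htQ]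
        refine (mul_le_mul' (show R.1 (z / t - algebraMap k K a) ≤ exp (-1 : ℤ) by simpa using pow_le_exp_neg ha 1) le_rfl).trans_eq ?_
        rw [← exp_add]; congr 1; omega
      · have h2 : ∀ w ∈ bdd (k := k) x y c m', R.1 w ≤ exp (-(m R : ℤ)) := fun w hw => by
          have := hw R hR
          rwa [hm', Function.update_of_ne hne] at this
        exact h2 _ (sub_mem hz (Submodule.smul_mem _ a htm))
    haveI : Module.Finite k (↥(bdd (k := k) x y c m') ⧸ (bdd x y c m).comap (bdd (k := k) x y c m').subtype) := by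
      refine ⟨⟨{Submodule.Quotient.mk ⟨t, htm⟩}, ?_⟩⟩
      rw [eq_top_iff]
      intro q _
      obtain ⟨⟨z, hz⟩, rfl⟩ := Submodule.Quotient.mk_surjective _ q
      obtain ⟨a, ha⟩ := key z hz
      rw [Finset.coe_singleton]
      exact Submodule.mem_span_singleton.mpr ⟨a, by
          rw [← Submodule.Quotient.mk_smul, eq_comm, Submodule.Quotient.eq]
          exact ha⟩
    rw [relLen, Module.length_eq_finrank, show (1 : ℕ∞) = ((1 : ℕ) : ℕ∞) from rfl, Nat.cast_inj]
    refine finrank_eq_one (Submodule.Quotient.mk ⟨t, htm⟩) (fun h => ?_) fun q => ?_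
    · rw [Submodule.Quotient.mk_eq_zero] at h
      have := h Q hQF
      change Q.1 t ≤ _ at this
      rw [htQ, exp_le_exp] at this
      omega
    · obtain ⟨⟨z, hz⟩, rfl⟩ := Submodule.Quotient.mk_surjective _ q
      obtain ⟨a, ha⟩ := key z hz
      exact ⟨a, by
          rw [← Submodule.Quotient.mk_smul, eq_comm, Submodule.Quotient.eq]
          exact ha⟩

theorem relLen_locA_eq [IsAlgClosed k] (hK : IsFunctionField k K)
    (hxy : IntermediateField.adjoin k ({x, y} : Set K) = ⊤) (S : Finset (Place k K))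
    (hS : ∀ Q, Q ∈ S ↔ Q ∈ fibre x y c) {g : MvPolynomial (Fin 2) k} (hg : aeval ![x, y] g ≠ 0) :
    relLen ((locA x y c).map (LinearMap.mulLeft k (aeval ![x, y] g))) (locA x y c) =
      ((∑ Q ∈ S, (Q.ord (aeval ![x, y] g)).toNat : ℕ) : ℕ∞) := by
  set w := aeval ![x, y] g with hw
  set A := locA (k := k) x y c
  set B := bdd (k := k) x y c 0
  have hnn : ∀ Q ∈ fibre x y c, 0 ≤ Q.ord w := fun Q hQ => by
    have := (val_eq_one_iff hQ g).1
    rw [val_eq_exp_neg_ord Q hg, ← exp_zero, exp_le_exp] at this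
    omega
  have hBm : B.map (LinearMap.mulLeft k w) = bdd (k := k) x y c fun Q => (Q.ord w).toNat := by
    ext z
    constructor
    · rintro ⟨b, hb, rfl⟩ Q hQ
      rw [LinearMap.mulLeft_apply, map_mul, val_eq_exp_neg_ord Q hg]
      refine (mul_le_of_le_one_right' (by simpa using hb Q hQ)).trans (exp_le_exp.mpr ?_)
      have := hnn Q hQ
      dsimp only
      omega
    · intro hz
      refine ⟨z / w, fun Q hQ => ?_, mul_div_cancel₀ _ hg⟩
      have := hz Q hQ
      have h0 := hnn Q hQ
      rw [map_div₀, val_eq_exp_neg_ord Q hg]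
      simp only [Pi.zero_apply, Nat.cast_zero, neg_zero, exp_zero]
      rw [div_le_one₀ (zero_lt_iff.mpr exp_ne_zero)]
      refine this.trans_eq ?_
      rw [Int.toNat_of_nonneg h0]
  have hA : A ≤ B := locA_le
  have hAA : A.map (LinearMap.mulLeft k w) ≤ A := by
    rintro _ ⟨a, ⟨G, H, hH, hG⟩, rfl⟩
    exact ⟨g * G, H, hH, by rw [LinearMap.mulLeft_apply, map_mul, ← hG, ← hw]; ring⟩
  have hBB : B.map (LinearMap.mulLeft k w) ≤ B := by
    rw [hBm]; exact fun z hz Q hQ => (hz Q hQ).trans (exp_le_exp.mpr (by simp))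
  have e1 := relLen_trans hAA hA
  have e2 := relLen_trans (Submodule.map_mono (f := LinearMap.mulLeft k w) hA) hBB
  rw [relLen_map hg, e1] at e2
  rw [hBm, relLen_bdd hK S hS] at e2
  have hfin := (relLen_locA_lt_top (c := c) hK hxy).ne
  rw [add_comm] at e2
  exact WithTop.add_left_cancel hfin e2

theorem sameImage_iff [IsAlgClosed k] (hK : IsFunctionField k K) (hP : P ∈ fibre x y c) (Q : Place k K) :
    SameImage ![(1 : K), x, y] P Q ↔ Q ∈ fibre x y c := by
  have hle : ∀ R ∈ fibre x y c, ∀ i, R.1 (![(1 : K), x, y] i) ≤ R.1 (![(1 : K), x, y] 0) := fun R hR i => by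
    rw [show R.1 (![(1 : K), x, y] 0) = 1 by simp]
    fin_cases i
    · simp
    · simpa using val_le_one_of_const (hR 0)
    · simpa using val_le_one_of_const (hR 1)
  have hmax : IsMax ![(1 : K), x, y] P 0 := ⟨one_ne_zero, hle P hP⟩
  constructor
  · intro h i
    refine ((sameImage_locRing h (z := ![x, y] i - algebraMap k K (c i)) ?_).2).mpr (hP i)
    refine inLocRing_of_mem hmax (sub_mem ?_ (Subalgebra.algebraMap_mem _ _))
    fin_cases i
    · exact Algebra.subset_adjoin ⟨1, by simp⟩
    · exact Algebra.subset_adjoin ⟨2, by simp⟩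
  · intro hQ
    refine ⟨0, one_ne_zero, hle P hP, hle Q hQ, fun i => ?_⟩
    fin_cases i
    · exact ⟨1, by simp, by simp⟩
    · exact ⟨c 0, by simpa using hP 0, by simpa using hQ 0⟩
    · exact ⟨c 1, by simpa using hP 1, by simpa using hQ 1⟩

theorem nonempty_quotient_equiv (hP : P ∈ fibre x y c) {f g : MvPolynomial (Fin 2) k}
    (hker : RingHom.ker (aeval ![x, y] : MvPolynomial (Fin 2) k →ₐ[k] K) = Ideal.span {f})
    (M : Ideal (MvPolynomial (Fin 2) k)) [M.IsMaximal] (hM : ∀ G, eval c G ≠ 0 ↔ G ∉ M) :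
    Nonempty ((Localization.AtPrime M ⧸
        Ideal.map (algebraMap (MvPolynomial (Fin 2) k) (Localization.AtPrime M)) (Ideal.span {f, g})) ≃ₗ[k]
      (↥(locA x y c) ⧸ ((locA x y c).map (LinearMap.mulLeft k (aeval ![x, y] g))).comap (locA x y c).subtype)) := by
  set S := Localization.AtPrime M
  set α := (aeval ![x, y] : MvPolynomial (Fin 2) k →ₐ[k] K)
  have hne : ∀ H, eval c H ≠ 0 → α H ≠ 0 := fun H hH h0 => by
    have := (val_eq_one_iff hP H).2 hH
    rw [h0, map_zero] at this
    exact zero_ne_one this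
  have hu : ∀ a : M.primeCompl, IsUnit (α a) := fun a => (hne a ((hM _).mpr a.2)).isUnit
  let ψ : S →ₐ[k] K := IsLocalization.liftAlgHom (M := M.primeCompl) (f := α) hu
  have hψ : ∀ G, ψ (algebraMap _ S G) = α G := fun G => by
    simp [ψ, IsLocalization.liftAlgHom_apply, IsLocalization.lift_eq]
  have hrange : ∀ z : S, ψ z ∈ locA x y c := fun z => by
    obtain ⟨⟨G, H⟩, hGH⟩ := IsLocalization.surj M.primeCompl z
    exact ⟨G, H, (hM _).mpr H.2, by rw [← hψ, ← hψ, ← map_mul, hGH]⟩
  have hsurj : ∀ a ∈ locA x y c, ∃ z : S, ψ z = a := by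
    rintro a ⟨G, H, hH, hG⟩
    refine ⟨IsLocalization.mk' S G (⟨H, (hM H).mp hH⟩ : M.primeCompl), mul_right_cancel₀ (hne H hH) ?_⟩
    rw [hG, ← hψ H, ← map_mul, IsLocalization.mk'_spec, hψ]
  let Λ := (((locA x y c).map (LinearMap.mulLeft k (α g))).comap (locA x y c).subtype).mkQ ∘ₗ
    ψ.toLinearMap.codRestrict (locA x y c) hrange
  have hΛs : Function.Surjective Λ := fun q => by
    obtain ⟨⟨a, ha⟩, rfl⟩ := Submodule.Quotient.mk_surjective _ q
    obtain ⟨z, hz⟩ := hsurj a ha
    exact ⟨z, congrArg Submodule.Quotient.mk (Subtype.ext hz)⟩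
  set I := Ideal.map (algebraMap (MvPolynomial (Fin 2) k) S) (Ideal.span {f, g}) with hI
  have hf0 : α f = 0 := RingHom.mem_ker.mp (hker.symm ▸ Ideal.mem_span_singleton_self f)
  have hkerΛ : ∀ z : S, Λ z = 0 ↔ z ∈ I := fun z => by
    show Submodule.Quotient.mk _ = 0 ↔ _
    rw [Submodule.Quotient.mk_eq_zero]
    constructor
    · rintro ⟨a, ha, hag⟩
      obtain ⟨w, rfl⟩ := hsurj a ha
      have h0 : ψ (z - algebraMap _ S g * w) = 0 := by
        rw [map_sub, map_mul, hψ]; exact sub_eq_zero.mpr hag.symm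
      rw [← sub_add_cancel z (algebraMap _ S g * w)]
      refine I.add_mem ?_ (I.mul_mem_right _ (Ideal.mem_map_of_mem _ (Ideal.subset_span (by simp))))
      obtain ⟨⟨G, H⟩, hGH⟩ := IsLocalization.surj M.primeCompl (z - algebraMap _ S g * w)
      have hG : G ∈ Ideal.span {f} := by
        rw [← hker, RingHom.mem_ker]
        show α G = 0
        rw [← hψ, ← hGH, map_mul, h0, zero_mul]
      have hG' : algebraMap _ S G ∈ I := Ideal.mem_map_of_mem _
        (Ideal.span_mono (Set.singleton_subset_iff.mpr (Set.mem_insert f {g})) hG)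
      rw [← hGH] at hG'
      exact (Ideal.mul_unit_mem_iff_mem _ (IsLocalization.map_units S H)).mp hG'
    · intro hz
      have key : ∀ z ∈ I, ∃ w, ψ z = α g * ψ w := fun z hz => by
        rw [hI, Ideal.map_span, Set.image_pair, Ideal.mem_span_pair] at hz
        obtain ⟨a, b, rfl⟩ := hz
        exact ⟨b, by rw [map_add, map_mul, map_mul, hψ, hψ, hf0, mul_zero, zero_add, mul_comm]⟩
      obtain ⟨w, hw⟩ := key z hz
      exact ⟨ψ w, hrange w, hw.symm⟩
  have hk : LinearMap.ker Λ = I.restrictScalars k := Submodule.ext fun z => hkerΛ z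
  exact ⟨(Submodule.Quotient.restrictScalarsEquiv k I).symm ≪≫ₗ Submodule.quotEquivOfEq _ _ hk.symm ≪≫ₗ
    Λ.quotKerEquivOfSurjective hΛs⟩

end Groth.Agent.CommAlg4.PlaneIntersect
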