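import Mathlib

/-!
# Derivatives of rational functions on the affine line with prescribed poles

For marked points `r j` with multiplicities `a j` the map `Λ M = R * M' - L * M` sends a numerator `M`
to the numerator of the derivative of `M / ∏ (X - r j) ^ a j` over `∏ (X - r j) ^ (a j + 1)`.
-/

set_option autoImplicit false

open Polynomial

namespace Groth.Agent.CommAlg4.PoleSys

variable {k : Type*} [Field k] {m : ℕ} (r : Fin m → k) (a : Fin m → ℕ)

noncomputable def Λ : k[X] →ₗ[k] k[X] :=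
  (LinearMap.mulLeft k (∏ j, (X - C (r j)))).comp derivative -
    LinearMap.mulLeft k (∑ j, (a j : k[X]) * ∏ i ∈ Finset.univ.erase j, (X - C (r i)))

noncomputable def D₀ : k[X] := ∏ j, (X - C (r j)) ^ a j

theorem Λ_apply (M : k[X]) :
    Λ r a M = (∏ j, (X - C (r j))) * derivative M -
      (∑ j, (a j : k[X]) * ∏ i ∈ Finset.univ.erase j, (X - C (r i))) * M := rfl

theorem mul_der_prod (e : Fin m → ℕ) :
    (∏ j, (X - C (r j))) * derivative (∏ j, (X - C (r j)) ^ e j) =
      (∑ j, (e j : k[X]) * ∏ i ∈ Finset.univ.erase j, (X - C (r i))) * ∏ j, (X - C (r j)) ^ e j := by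
  classical
  rw [derivative_prod_finset, Finset.mul_sum, Finset.sum_mul]
  refine Finset.sum_congr rfl fun j hj => ?_
  rw [derivative_pow, derivative_sub, derivative_X, derivative_C, sub_zero, mul_one, C_eq_natCast,
    ← Finset.mul_prod_erase _ (fun i => X - C (r i)) hj,
    ← Finset.mul_prod_erase _ (fun i => (X - C (r i)) ^ e i) hj]
  rcases h : e j with - | n
  · simp
  · rw [Nat.add_sub_cancel, pow_succ]; ring

theorem Λ_prod_mul (e : Fin m → ℕ) (P : k[X]) :
    Λ r a ((∏ j, (X - C (r j)) ^ e j) * P) =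
      (∏ j, (X - C (r j)) ^ e j) *
        ((∑ j, ((e j : k[X]) - (a j : k[X])) * ∏ i ∈ Finset.univ.erase j, (X - C (r i))) * P +
          (∏ j, (X - C (r j))) * derivative P) := by
  have h := mul_der_prod r e
  rw [Λ_apply, derivative_mul]
  simp only [sub_mul, Finset.sum_sub_distrib]
  linear_combination P * h

theorem Λ_D₀_mul (P : k[X]) : Λ r a (D₀ r a * P) = (∏ j, (X - C (r j)) ^ (a j + 1)) * derivative P := by
  rw [D₀, Λ_prod_mul]
  simp only [sub_self, zero_mul, Finset.sum_const_zero, zero_add, pow_succ, Finset.prod_mul_distrib]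
  ring

theorem Λ_D₀ : Λ r a (D₀ r a) = 0 := by
  rw [← mul_one (D₀ r a), Λ_D₀_mul]; simp

theorem D₀_ne_zero : D₀ r a ≠ 0 :=
  Finset.prod_ne_zero_iff.2 fun j _ => pow_ne_zero _ (X_sub_C_ne_zero _)

theorem natDegree_prod_pow (s : Finset (Fin m)) (e : Fin m → ℕ) :
    (∏ j ∈ s, (X - C (r j)) ^ e j).natDegree = ∑ j ∈ s, e j := by
  rw [natDegree_prod _ _ fun j _ => pow_ne_zero _ (X_sub_C_ne_zero _)]
  simp [natDegree_pow]

theorem natDegree_D₀ : (D₀ r a).natDegree = ∑ j, a j := natDegree_prod_pow r _ a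

/-- the member attached to the basic numerator at the `i`th marked point -/
theorem Λ_point (i : Fin m) (l : ℕ) :
    Λ r a ((∏ j ∈ Finset.univ.erase i, (X - C (r j)) ^ a j) * (X - C (r i)) ^ l) =
      ((l : k[X]) - (a i : k[X])) * ((∏ j ∈ Finset.univ.erase i, (X - C (r j)) ^ (a j + 1)) * (X - C (r i)) ^ l) := by
  classical
  have he : (∏ j, (X - C (r j)) ^ Function.update a i l j) =
      (∏ j ∈ Finset.univ.erase i, (X - C (r j)) ^ a j) * (X - C (r i)) ^ l := by
    rw [← Finset.mul_prod_erase _ _ (Finset.mem_univ i), Function.update_self, mul_comm]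
    congr 1
    exact Finset.prod_congr rfl fun j hj => by rw [Function.update_of_ne (Finset.ne_of_mem_erase hj)]
  have h := Λ_prod_mul r a (Function.update a i l) 1
  rw [mul_one, he, derivative_one, mul_zero, add_zero, mul_one] at h
  rw [h, Finset.sum_eq_single i (fun j _ hj => by rw [Function.update_of_ne hj, sub_self, zero_mul]) (by simp),
    Function.update_self]
  have hp : (∏ j ∈ Finset.univ.erase i, (X - C (r j)) ^ (a j + 1)) =
      (∏ j ∈ Finset.univ.erase i, (X - C (r j)) ^ a j) * ∏ j ∈ Finset.univ.erase i, (X - C (r j)) := by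
    rw [← Finset.prod_mul_distrib]; simp only [pow_succ]
  rw [hp]; ring

theorem mem_span_pow (c : k) (n : ℕ) (q : k[X]) (hq : q ∈ degreeLT k n) (T : Submodule k k[X])
    (h : ∀ l < n, (X - C c) ^ l ∈ T) : q ∈ T := by
  rw [← sum_taylor_eq q c, Polynomial.sum_def]
  refine Submodule.sum_mem _ fun l hl => ?_
  rw [← smul_eq_C_mul]
  refine Submodule.smul_mem _ _ (h l ?_)
  rw [mem_degreeLT, ← degree_taylor q c] at hq
  exact_mod_cast lt_of_le_of_lt (le_degree_of_mem_supp l hl) hq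

/-- `V ≤ Λ(deg ≤ N)` -/
theorem le_range [CharZero k] (b : ℕ) :
    (degreeLT k b).map (LinearMap.mulLeft k (∏ j, (X - C (r j)) ^ (a j + 1))) ⊔
      ⨆ i, (degreeLT k (a i)).map (LinearMap.mulLeft k (∏ j ∈ Finset.univ.erase i, (X - C (r j)) ^ (a j + 1))) ≤
      (degreeLT k ((∑ j, a j) + b + 1)).map (Λ r a) := by
  classical
  refine sup_le ?_ (iSup_le fun i => ?_)
  · rw [Submodule.map_le_iff_le_comap]
    intro q hq
    refine mem_span_pow 0 b q hq _ fun l hl => ?_
    rw [Submodule.mem_comap]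
    refine ⟨((l + 1 : ℕ) : k)⁻¹ • (D₀ r a * X ^ (l + 1)), ?_, ?_⟩
    · refine Submodule.smul_mem _ _ (mem_degreeLT.2 (lt_of_le_of_lt degree_le_natDegree ?_))
      have h0 := natDegree_mul_le (p := D₀ r a) (q := (X : k[X]) ^ (l + 1))
      rw [natDegree_D₀, natDegree_X_pow] at h0
      exact_mod_cast lt_of_le_of_lt h0 (by omega)
    · rw [map_smul, Λ_D₀_mul, derivative_X_pow, LinearMap.mulLeft_apply, C_0, sub_zero, Nat.add_sub_cancel,
        smul_eq_C_mul]
      have hne : ((l + 1 : ℕ) : k) ≠ 0 := Nat.cast_ne_zero.2 (by omega)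
      calc _ = (C ((l + 1 : ℕ) : k)⁻¹ * C ((l + 1 : ℕ) : k)) * ((∏ j, (X - C (r j)) ^ (a j + 1)) * X ^ l) := by ring
        _ = _ := by rw [← C_mul, inv_mul_cancel₀ hne, C_1, one_mul]
  · rw [Submodule.map_le_iff_le_comap]
    intro q hq
    refine mem_span_pow (r i) (a i) q hq _ fun l hl => ?_
    rw [Submodule.mem_comap]
    have hne : (l : k) - (a i : k) ≠ 0 := sub_ne_zero.2 (by exact_mod_cast hl.ne)
    refine ⟨((l : k) - (a i : k))⁻¹ • ((∏ j ∈ Finset.univ.erase i, (X - C (r j)) ^ a j) * (X - C (r i)) ^ l), ?_, ?_⟩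
    · refine Submodule.smul_mem _ _ (mem_degreeLT.2 (lt_of_le_of_lt degree_le_natDegree ?_))
      have h0 := natDegree_mul_le (p := ∏ j ∈ Finset.univ.erase i, (X - C (r j)) ^ a j) (q := (X - C (r i)) ^ l)
      rw [natDegree_prod_pow, natDegree_pow, natDegree_X_sub_C, mul_one] at h0
      have h1 := Finset.sum_erase_add _ a (Finset.mem_univ i)
      exact_mod_cast lt_of_le_of_lt h0 (by omega)
    · rw [map_smul, Λ_point, LinearMap.mulLeft_apply, smul_eq_C_mul, ← mul_assoc, ← C_eq_natCast, ← C_eq_natCast,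
        ← C_sub, ← C_mul, inv_mul_cancel₀ hne, C_1, one_mul]

/-- partial fractions, in numerators -/
theorem mem_iSup_of_natDegree_lt (hr : Function.Injective r) (s : Finset (Fin m)) :
    ∀ S : k[X], S.degree < ((∑ j ∈ s, a j : ℕ) : WithBot ℕ) →
      S ∈ ⨆ i ∈ s, (degreeLT k (a i)).map (LinearMap.mulLeft k (∏ j ∈ s.erase i, (X - C (r j)) ^ a j)) := by
  classical
  induction s using Finset.induction_on with
  | empty =>
    intro S hS
    simp only [Finset.sum_empty, Nat.cast_zero] at hS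
    have hS0 : S = 0 := by
      by_contra h
      rw [degree_eq_natDegree h] at hS
      exact absurd hS (not_lt.2 (by exact_mod_cast Nat.zero_le _))
    rw [hS0]; exact Submodule.zero_mem _
  | @insert i s hi ih =>
    intro S hS
    set P₁ := (X - C (r i)) ^ a i with hP₁
    set P₂ := ∏ j ∈ s, (X - C (r j)) ^ a j with hP₂
    have hmon : P₁.Monic := (monic_X_sub_C _).pow _
    have hcop : IsCoprime P₁ P₂ := IsCoprime.prod_right fun j hj =>
      (isCoprime_X_sub_C_of_isUnit_sub (sub_ne_zero.2 fun h : r i = r j => hi (hr h ▸ hj)).isUnit).pow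
    obtain ⟨u, v, huv⟩ := hcop
    set A := (S * v) %ₘ P₁ with hA
    have hdvd : P₁ ∣ S - A * P₂ := ⟨S * u + (S * v /ₘ P₁) * P₂, by
      have h := modByMonic_add_div (S * v) P₁
      rw [← hA] at h
      linear_combination (-S) * huv + (-P₂) * h⟩
    obtain ⟨B, hB⟩ := hdvd
    have hd1 : P₁.degree = ((a i : ℕ) : WithBot ℕ) := by rw [hP₁, degree_pow, degree_X_sub_C, nsmul_one]
    have hd2 : P₂.degree = ((∑ j ∈ s, a j : ℕ) : WithBot ℕ) := by
      rw [degree_eq_natDegree (Finset.prod_ne_zero_iff.2 fun j _ => pow_ne_zero _ (X_sub_C_ne_zero _)),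
        natDegree_prod_pow]
    have hAd : A.degree < ((a i : ℕ) : WithBot ℕ) := hd1 ▸ degree_modByMonic_lt _ hmon
    rw [Finset.sum_insert hi, Nat.cast_add] at hS
    have hBd : B.degree < ((∑ j ∈ s, a j : ℕ) : WithBot ℕ) := by
      have h3 : (A * P₂).degree < ((a i : ℕ) : WithBot ℕ) + ((∑ j ∈ s, a j : ℕ) : WithBot ℕ) := by
        rw [degree_mul, hd2]
        exact WithBot.add_lt_add_right (WithBot.natCast_ne_bot _) hAd
      have h4 := lt_of_le_of_lt (degree_sub_le S (A * P₂)) (max_lt hS h3)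
      rw [hB, degree_mul, hd1] at h4
      exact (WithBot.add_lt_add_iff_left (WithBot.natCast_ne_bot _)).1 h4
    rw [show S = A * P₂ + P₁ * B by rw [← hB]; ring]
    refine Submodule.add_mem _ ?_ ?_
    · refine Submodule.mem_iSup_of_mem i (Submodule.mem_iSup_of_mem (Finset.mem_insert_self i s) ?_)
      exact ⟨A, mem_degreeLT.2 hAd, by rw [Finset.erase_insert hi, LinearMap.mulLeft_apply, mul_comm]⟩
    · have hle : (⨆ j ∈ s, (degreeLT k (a j)).map (LinearMap.mulLeft k (∏ l ∈ s.erase j, (X - C (r l)) ^ a l))) ≤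
          (⨆ j ∈ insert i s, (degreeLT k (a j)).map
            (LinearMap.mulLeft k (∏ l ∈ (insert i s).erase j, (X - C (r l)) ^ a l))).comap (LinearMap.mulLeft k P₁) := by
        refine iSup₂_le fun j hj => ?_
        rintro _ ⟨q, hq, rfl⟩
        refine Submodule.mem_iSup_of_mem j (Submodule.mem_iSup_of_mem (Finset.mem_insert_of_mem hj) ⟨q, hq, ?_⟩)
        rw [Finset.erase_insert_of_ne (fun h : i = j => hi (h ▸ hj)),
          Finset.prod_insert (fun h => hi (Finset.mem_of_mem_erase h))]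
        simp only [LinearMap.mulLeft_apply]
        ring
      exact hle (ih B hBd)

/-- `Λ(deg < Σ a + c) ≤` the generators with `c - 1` at infinity -/
theorem range_le [CharZero k] (hr : Function.Injective r) (c : ℕ) :
    (degreeLT k ((∑ j, a j) + c)).map (Λ r a) ≤
      (degreeLT k (c - 1)).map (LinearMap.mulLeft k (∏ j, (X - C (r j)) ^ (a j + 1))) ⊔
      ⨆ i, (degreeLT k (a i)).map (LinearMap.mulLeft k (∏ j ∈ Finset.univ.erase i, (X - C (r j)) ^ (a j + 1))) := by
  classical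
  rintro _ ⟨M, hM, rfl⟩
  have hmon : (D₀ r a).Monic := monic_prod_of_monic _ _ fun j _ => (monic_X_sub_C _).pow _
  have hd : (D₀ r a).degree = ((∑ j, a j : ℕ) : WithBot ℕ) := by
    rw [degree_eq_natDegree (D₀_ne_zero r a), natDegree_D₀]
  rw [← modByMonic_add_div M (D₀ r a), map_add]
  refine Submodule.add_mem _ ?_ ?_
  · refine Submodule.mem_sup_right ?_
    have hle : (⨆ i ∈ (Finset.univ : Finset (Fin m)), (degreeLT k (a i)).map
        (LinearMap.mulLeft k (∏ j ∈ Finset.univ.erase i, (X - C (r j)) ^ a j))) ≤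
        (⨆ i, (degreeLT k (a i)).map
          (LinearMap.mulLeft k (∏ j ∈ Finset.univ.erase i, (X - C (r j)) ^ (a j + 1)))).comap (Λ r a) := by
      refine iSup₂_le fun i _ => ?_
      rintro _ ⟨q, hq, rfl⟩
      rw [← Submodule.mem_comap]
      refine mem_span_pow (r i) (a i) q hq _ fun l hl => ?_
      simp only [Submodule.mem_comap, LinearMap.mulLeft_apply]
      rw [Λ_point]
      refine Submodule.mem_iSup_of_mem i ⟨((l : k[X]) - (a i : k[X])) * (X - C (r i)) ^ l, ?_, ?_⟩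
      · refine mem_degreeLT.2 (lt_of_le_of_lt (degree_mul_le _ _) ?_)
        rw [← C_eq_natCast, ← C_eq_natCast, ← C_sub]
        refine lt_of_le_of_lt (add_le_add degree_C_le le_rfl) ?_
        rw [zero_add, degree_pow, degree_X_sub_C, nsmul_one]
        exact_mod_cast hl
      · simp only [LinearMap.mulLeft_apply]; ring
    exact hle (mem_iSup_of_natDegree_lt r a hr Finset.univ _ (hd ▸ degree_modByMonic_lt _ hmon))
  · rw [Λ_D₀_mul]
    refine Submodule.mem_sup_left ⟨derivative (M /ₘ D₀ r a), ?_, rfl⟩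
    by_cases h0 : derivative (M /ₘ D₀ r a) = 0
    · rw [h0]; exact Submodule.zero_mem _
    refine mem_degreeLT.2 ?_
    rw [degree_eq_natDegree h0]
    have hne : (M /ₘ D₀ r a).natDegree ≠ 0 := fun h => h0 (by rw [eq_C_of_natDegree_eq_zero h, derivative_C])
    have h1 := natDegree_derivative_lt hne
    have h2 := natDegree_divByMonic M hmon
    rw [natDegree_D₀] at h2
    have h3 : M.natDegree < (∑ j, a j) + c := by
      by_cases hM0 : M = 0
      · subst hM0; simp at hne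
      exact (natDegree_lt_iff_degree_lt hM0).2 (mem_degreeLT.1 hM)
    exact_mod_cast (by omega : (derivative (M /ₘ D₀ r a)).natDegree < c - 1)

theorem dvd_of_dvd [CharZero k] (l : ℕ) (q : k) (hq : ∀ j, q ≠ r j) (M : k[X]) (hM : (X - C q) ^ l ∣ Λ r a M) :
    ∃ c : k, (X - C q) ^ (l + 1) ∣ M - C c * D₀ r a := by
  have hD : (D₀ r a).eval q ≠ 0 := by
    simp only [D₀, eval_prod, eval_pow, eval_sub, eval_X, eval_C]
    exact Finset.prod_ne_zero_iff.2 fun j _ => pow_ne_zero _ (sub_ne_zero.2 (hq j))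
  refine ⟨M.eval q / (D₀ r a).eval q, ?_⟩
  set c := M.eval q / (D₀ r a).eval q
  set P := M - C c * D₀ r a with hP
  by_cases hP0 : P = 0
  · rw [hP0]; exact dvd_zero _
  have hroot : P.IsRoot q := by simp [hP, c, IsRoot, div_mul_cancel₀ _ hD]
  have hΛ : Λ r a P = Λ r a M := by rw [hP, ← smul_eq_C_mul, map_sub, map_smul, Λ_D₀, smul_zero, sub_zero]
  have hμ := (rootMultiplicity_pos hP0).2 hroot
  rw [← le_rootMultiplicity_iff hP0]
  by_contra hlt
  rw [not_le, Nat.lt_succ_iff] at hlt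
  have h1 : (X - C q) ^ rootMultiplicity q P ∣ (∏ j, (X - C (r j))) * derivative P := by
    have := dvd_add ((pow_dvd_pow _ hlt).trans hM)
      (Dvd.dvd.mul_left (pow_rootMultiplicity_dvd P q) (∑ j, (a j : k[X]) * ∏ i ∈ Finset.univ.erase j, (X - C (r i))))
    rwa [← hΛ, Λ_apply, sub_add_cancel] at this
  have hcop : IsCoprime ((X - C q) ^ rootMultiplicity q P) (∏ j, (X - C (r j))) :=
    IsCoprime.pow_left (IsCoprime.prod_right fun j _ =>
      isCoprime_X_sub_C_of_isUnit_sub (sub_ne_zero.2 (hq j)).isUnit)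
  have h2 := hcop.dvd_of_dvd_mul_left h1
  have hd0 : derivative P ≠ 0 := by
    intro h0
    rw [eq_C_of_derivative_eq_zero h0] at hroot hP0
    simp [IsRoot] at hroot
    simp [hroot] at hP0
  have h3 := (le_rootMultiplicity_iff hd0).2 h2
  rw [derivative_rootMultiplicity_of_root hroot] at h3
  omega

/-- members of `V` vanishing to high order at an unmarked point -/
theorem eq_of_dvd [CharZero k] (b N : ℕ) (hN : N = (∑ j, a j) + b) (q : k) (hq : ∀ j, q ≠ r j) (h : k[X])
    (hh : h ∈ (degreeLT k ((∑ j, a j) + b + 1)).map (Λ r a)) (l : ℕ) (hl : (X - C q) ^ l ∣ h) :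
    ∃ P : k[X], P.degree < ((N + 1 : ℕ) : WithBot ℕ) ∧ (X - C q) ^ (l + 1) ∣ P ∧ Λ r a P = h := by
  obtain ⟨M, hM, rfl⟩ := hh
  obtain ⟨c, hc⟩ := dvd_of_dvd r a l q hq M hl
  refine ⟨M - C c * D₀ r a, lt_of_le_of_lt (degree_sub_le _ _) (max_lt (hN ▸ mem_degreeLT.1 hM) ?_), hc, ?_⟩
  · refine lt_of_le_of_lt ((degree_mul_le _ _).trans (add_le_add degree_C_le le_rfl)) ?_
    rw [zero_add, degree_eq_natDegree (D₀_ne_zero r a), natDegree_D₀]
    exact_mod_cast (by omega : (∑ j, a j) < N + 1)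
  · rw [← smul_eq_C_mul, map_sub, map_smul, Λ_D₀, smul_zero, sub_zero]

theorem eq_zero_of_dvd [CharZero k] (b N : ℕ) (hN : N = (∑ j, a j) + b) (q : k) (hq : ∀ j, q ≠ r j) (h : k[X])
    (hh : h ∈ (degreeLT k ((∑ j, a j) + b + 1)).map (Λ r a)) (hl : (X - C q) ^ N ∣ h) : h = 0 := by
  obtain ⟨P, hPd, hP, rfl⟩ := eq_of_dvd r a b N hN q hq h hh N hl
  rw [eq_zero_of_dvd_of_degree_lt hP (by rwa [degree_pow, degree_X_sub_C, nsmul_one]), map_zero]

theorem eq_smul_of_dvd [CharZero k] (b N : ℕ) (hN : N = (∑ j, a j) + b) (hb : 1 ≤ b) (q : k) (hq : ∀ j, q ≠ r j)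
    (h : k[X]) (hh : h ∈ (degreeLT k ((∑ j, a j) + b + 1)).map (Λ r a)) (hl : (X - C q) ^ (N - 1) ∣ h) :
    ∃ e : k, h = e • Λ r a ((X - C q) ^ N) := by
  obtain ⟨P, hPd, ⟨Q, rfl⟩, rfl⟩ := eq_of_dvd r a b N hN q hq h hh (N - 1) hl
  rw [show N - 1 + 1 = N by omega] at hPd ⊢
  rw [degree_mul, degree_pow, degree_X_sub_C, nsmul_one, Nat.cast_add,
    WithBot.add_lt_add_iff_left (WithBot.natCast_ne_bot _)] at hPd
  have hQ : Q = C (Q.coeff 0) := eq_C_of_degree_le_zero (Nat.WithBot.lt_one_iff_le_zero.1 (by simpa using hPd))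
  exact ⟨Q.coeff 0, by rw [← map_smul, smul_eq_C_mul, ← hQ, mul_comm]⟩

theorem mem_span_of_dvd [CharZero k] (b N : ℕ) (hN : N = (∑ j, a j) + b) (hN2 : 2 ≤ N) (q : k) (hq : ∀ j, q ≠ r j)
    (h : k[X]) (hh : h ∈ (degreeLT k ((∑ j, a j) + b + 1)).map (Λ r a)) (hl : (X - C q) ^ (N - 2) ∣ h) :
    h ∈ Submodule.span k {Λ r a ((X - C q) ^ N), Λ r a ((X - C q) ^ (N - 1))} := by
  obtain ⟨P, hPd, ⟨Q, rfl⟩, rfl⟩ := eq_of_dvd r a b N hN q hq h hh (N - 2) hl
  rw [show N - 2 + 1 = N - 1 by omega] at hPd ⊢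
  rw [degree_mul, degree_pow, degree_X_sub_C, nsmul_one, show N + 1 = (N - 1) + 2 by omega, Nat.cast_add,
    WithBot.add_lt_add_iff_left (WithBot.natCast_ne_bot _)] at hPd
  have hQ : Q = C (Q.coeff 1) * X + C (Q.coeff 0) := eq_X_add_C_of_degree_le_one (by
    rcases eq_or_ne Q 0 with h0 | h0
    · simp [h0]
    · rw [degree_eq_natDegree h0] at hPd ⊢
      exact_mod_cast (Nat.lt_succ_iff.1 (by exact_mod_cast hPd : Q.natDegree < 2)))
  refine Submodule.mem_span_pair.2 ⟨Q.coeff 1, Q.coeff 0 + Q.coeff 1 * q, ?_⟩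
  rw [← map_smul, ← map_smul, ← map_add]
  congr 1
  conv_rhs => rw [hQ]
  rw [show N = N - 1 + 1 by omega, pow_succ]
  simp only [Nat.add_sub_cancel, smul_eq_C_mul, C_add, C_mul]
  ring

theorem finrank_degreeLT (n : ℕ) : Module.finrank k ↥(degreeLT k n) = n := by
  rw [(degreeLTEquiv k n).finrank_eq, Module.finrank_fin_fun]

theorem finrank_range [CharZero k] (b N : ℕ) (hN : N = (∑ j, a j) + b) :
    Module.finrank k ↥((degreeLT k ((∑ j, a j) + b + 1)).map (Λ r a)) = N := by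
  classical
  obtain ⟨q, hq⟩ := Infinite.exists_notMem_finset (Finset.univ.image r)
  have hq' : ∀ j, q ≠ r j := fun j h => hq (Finset.mem_image.2 ⟨j, Finset.mem_univ _, h.symm⟩)
  set S := degreeLT k ((∑ j, a j) + b + 1)
  haveI : Module.Finite k S := Module.Finite.equiv (degreeLTEquiv k _).symm
  have h := LinearMap.finrank_range_add_finrank_ker ((Λ r a).domRestrict S)
  have hmem : D₀ r a ∈ S := mem_degreeLT.2 (by
    rw [degree_eq_natDegree (D₀_ne_zero r a), natDegree_D₀]; exact_mod_cast (by omega))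
  have hker : LinearMap.ker ((Λ r a).domRestrict S) = k ∙ (⟨D₀ r a, hmem⟩ : S) := by
    refine le_antisymm ?_ ((Submodule.span_singleton_le_iff_mem _ _).2 (Λ_D₀ r a))
    rintro ⟨M, hM⟩ hMker
    have h0 : Λ r a M = 0 := hMker
    obtain ⟨c, hc⟩ := dvd_of_dvd r a N q hq' M (h0 ▸ dvd_zero _)
    have hz : M - C c * D₀ r a = 0 := eq_zero_of_dvd_of_degree_lt hc (by
      rw [degree_pow, degree_X_sub_C, nsmul_one]
      refine lt_of_le_of_lt (degree_sub_le _ _) (max_lt (hN ▸ mem_degreeLT.1 hM) ?_)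
      refine lt_of_le_of_lt ((degree_mul_le _ _).trans (add_le_add degree_C_le le_rfl)) ?_
      rw [zero_add]; exact hN ▸ mem_degreeLT.1 hmem)
    exact Submodule.mem_span_singleton.2 ⟨c, Subtype.ext (by
      show c • D₀ r a = M
      rw [smul_eq_C_mul]; exact (sub_eq_zero.1 hz).symm)⟩
  rw [hker, finrank_span_singleton (fun h => D₀_ne_zero r a (congrArg Subtype.val h)), finrank_degreeLT,
    LinearMap.range_domRestrict] at h
  omega

theorem degreeLT_succ_le (n : ℕ) (W : Submodule k k[X]) (h : degreeLT k n ≤ W) (M : k[X]) (hM : M ∈ W)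
    (hd : M.degree < ((n + 1 : ℕ) : WithBot ℕ)) (hc : M.coeff n ≠ 0) : degreeLT k (n + 1) ≤ W := by
  intro P hP
  have hP' := (degree_lt_iff_coeff_zero _ _).1 (mem_degreeLT.1 hP)
  have hM' := (degree_lt_iff_coeff_zero _ _).1 hd
  have hlow : P - (P.coeff n / M.coeff n) • M ∈ degreeLT k n := by
    refine mem_degreeLT.2 ((degree_lt_iff_coeff_zero _ _).2 fun i hi => ?_)
    rcases eq_or_lt_of_le hi with rfl | hlt
    · simp [div_mul_cancel₀ _ hc]
    · simp [hP' i hlt, hM' i hlt]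
  have := W.add_mem (h hlow) (W.smul_mem (P.coeff n / M.coeff n) hM)
  rwa [sub_add_cancel] at this

end Groth.Agent.CommAlg4.PoleSys
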