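import Mathlib

/-! Postnikov systems in a triangulated category: vanishing and lifting lemmas. -/
set_option autoImplicit false
set_option linter.style.haveILetI false
set_option linter.unusedSectionVars false
universe v u
open CategoryTheory CategoryTheory.Limits CategoryTheory.Pretriangulated

namespace Groth.Agent.CommAlg4.Postnikov

variable {D : Type u} [Category.{v} D] [Preadditive D] [HasShift D ℤ]
  [∀ n : ℤ, (shiftFunctor D n).Additive]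

/-- `Hom(A⟦p⟧, B⟦q⟧) = 0` transported along a common shift. -/
theorem vanish_shift {A B : D} (p q p' q' r : ℤ) (hp : p' + r = p) (hq : q' + r = q)
    (h : ∀ φ : A⟦p⟧ ⟶ B⟦q⟧, φ = 0) (φ : A⟦p'⟧ ⟶ B⟦q'⟧) : φ = 0 := by
  apply (shiftFunctor D r).map_injective
  have := h ((shiftFunctorAdd' D p' r p hp).hom.app A ≫ φ⟦r⟧' ≫
    (shiftFunctorAdd' D q' r q hq).inv.app B)
  rw [Preadditive.IsIso.comp_left_eq_zero] at this
  rw [Preadditive.IsIso.comp_right_eq_zero] at this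
  rw [this, Functor.map_zero]

theorem vanish_left_zero {A B : D} (p : ℤ) (hp : p = 0) (h : ∀ φ : A⟦p⟧ ⟶ B, φ = 0)
    (φ : A ⟶ B) : φ = 0 := by
  subst hp
  have := h ((shiftFunctorZero D ℤ).hom.app A ≫ φ)
  exact (cancel_epi ((shiftFunctorZero D ℤ).hom.app A)).1 (this.trans comp_zero.symm)

theorem vanish_right_zero {A B : D} (q : ℤ) (hq : q = 0) (h : ∀ φ : A ⟶ B⟦q⟧, φ = 0)
    (φ : A ⟶ B) : φ = 0 := by
  subst hq
  have := h (φ ≫ (shiftFunctorZero D ℤ).inv.app B)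
  exact (cancel_mono ((shiftFunctorZero D ℤ).inv.app B)).1 (this.trans zero_comp.symm)

theorem vanish_to_zero {A B : D} (q : ℤ) (hq : q = 0) (h : ∀ φ : A ⟶ B, φ = 0)
    (φ : A ⟶ B⟦q⟧) : φ = 0 := by
  subst hq
  have := h (φ ≫ (shiftFunctorZero D ℤ).hom.app B)
  exact (cancel_mono ((shiftFunctorZero D ℤ).hom.app B)).1 (this.trans zero_comp.symm)

theorem vanish_from_zero {A B : D} (p : ℤ) (hp : p = 0) (h : ∀ φ : A ⟶ B, φ = 0)
    (φ : A⟦p⟧ ⟶ B) : φ = 0 := by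
  subst hp
  have := h ((shiftFunctorZero D ℤ).inv.app A ≫ φ)
  exact (cancel_epi ((shiftFunctorZero D ℤ).inv.app A)).1 (this.trans comp_zero.symm)

theorem vanish_shift_shift {A B : D} (p r q : ℤ) (h : p + r = q)
    (hv : ∀ φ : A⟦q⟧ ⟶ B, φ = 0) (φ : (A⟦p⟧)⟦r⟧ ⟶ B) : φ = 0 := by
  have := hv ((shiftFunctorAdd' D p r q h).hom.app A ≫ φ)
  exact (cancel_epi ((shiftFunctorAdd' D p r q h).hom.app A)).1 (this.trans comp_zero.symm)

variable [HasZeroObject D] [Pretriangulated D]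

/-- A monomorphism in a pretriangulated category is a split inclusion. -/
theorem exists_iso_biprod_of_mono {A B : D} (f : A ⟶ B) [Mono f] :
    ∃ (Z : D) (e : B ≅ A ⊞ Z), f ≫ e.hom = biprod.inl := by
  obtain ⟨Z, g, h, hT⟩ := distinguished_cocone_triangle f
  obtain ⟨e₀, he₀, -⟩ := exists_iso_binaryBiproduct_of_distTriang _ hT
    (Triangle.mor₃_eq_zero_of_mono₁ _ hT ‹Mono f›)
  exact ⟨Z, e₀, he₀⟩

variable (X : ℕ → D) (Y : ℕ → D) (a : ∀ k, Y k ⟶ X k) (b : ∀ k, X (k + 1) ⟶ Y k)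
  (c : ∀ k, Y k ⟶ (Y (k + 1))⟦(1 : ℤ)⟧)

/-- A map to `Y k` killed by `a k` vanishes when the lower terms see no maps. -/
theorem eq_zero_of_comp_a (h0 : IsIso (a 0)) : ∀ (k : ℕ)
    (_ : ∀ l, l < k → Triangle.mk (a (l + 1)) (b l) (c l) ∈ distTriang D)
    (W : D) (_ : ∀ j, j < k → ∀ φ : W⟦((k : ℤ) - j)⟧ ⟶ X j, φ = 0)
    (δ : W ⟶ Y k), δ ≫ a k = 0 → δ = 0
  | 0, _, _, _, δ, hδ => by
      rw [← cancel_mono (a 0), hδ, zero_comp]
  | k + 1, hT, W, hW, δ, hδ => by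
      apply (shiftFunctor D (1 : ℤ)).map_injective
      rw [Functor.map_zero]
      obtain ⟨g, hg⟩ : ∃ g : W⟦(1 : ℤ)⟧ ⟶ Y k, δ⟦(1 : ℤ)⟧' = g ≫ c k :=
        Triangle.coyoneda_exact₁ _ (hT k (Nat.lt_succ_self k)) (δ⟦(1 : ℤ)⟧') (by
          change δ⟦(1 : ℤ)⟧' ≫ (a (k + 1))⟦(1 : ℤ)⟧' = 0
          rw [← Functor.map_comp, hδ, Functor.map_zero])
      have hga : g ≫ a k = 0 := by
        refine vanish_left_zero (A := W⟦(1 : ℤ)⟧) 0 rfl ?_ _
        exact vanish_shift_shift (1 : ℤ) 0 ((k + 1 : ℕ) - (k : ℕ) : ℤ) (by omega)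
          (hW k (Nat.lt_succ_self k))
      have hg0 : g = 0 := by
        refine eq_zero_of_comp_a h0 k (fun l hl => hT l (by omega)) _ (fun j hj => ?_) g hga
        exact vanish_shift_shift (1 : ℤ) ((k : ℤ) - j) (((k + 1 : ℕ) : ℤ) - j) (by omega)
          (hW j (by omega))
      rw [hg, hg0, zero_comp]

/-- `Hom(W, Y k) = 0` when `W` sees no lower term. -/
theorem hom_to_eq_zero (h0 : IsIso (a 0)) (k : ℕ)
    (hT : ∀ l, l < k → Triangle.mk (a (l + 1)) (b l) (c l) ∈ distTriang D)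
    (W : D) (hW : ∀ j, j ≤ k → ∀ φ : W⟦((k : ℤ) - j)⟧ ⟶ X j, φ = 0) (δ : W ⟶ Y k) : δ = 0 :=
  eq_zero_of_comp_a X Y a b c h0 k hT W (fun j hj => hW j hj.le) δ
    (vanish_left_zero _ (sub_self (k : ℤ)) (hW k le_rfl) _)

/-- `Hom(Y k, Z) = 0` when the lower terms see nothing in `Z`. -/
theorem hom_from_eq_zero (h0 : IsIso (a 0)) : ∀ (k : ℕ)
    (_ : ∀ l, l < k → Triangle.mk (a (l + 1)) (b l) (c l) ∈ distTriang D)
    (Z : D) (_ : ∀ j, j ≤ k → ∀ φ : (X j)⟦((j : ℤ) - k)⟧ ⟶ Z, φ = 0)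
    (φ : Y k ⟶ Z), φ = 0
  | 0, _, Z, hZ, φ => by
      have : inv (a 0) ≫ φ = 0 := vanish_left_zero _ (by simp) (hZ 0 le_rfl) _
      simpa using this
  | k + 1, hT, Z, hZ, φ => by
      have hc : c k ≫ φ⟦(1 : ℤ)⟧' = 0 := by
        refine hom_from_eq_zero h0 k (fun l hl => hT l (by omega)) _ (fun j hj ψ => ?_) _
        refine vanish_shift ((j : ℤ) - (k + 1 : ℕ)) 0 ((j : ℤ) - k) (1 : ℤ) (-1) (by omega)
          (by omega) (vanish_to_zero 0 rfl (hZ j (by omega))) ψ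
      obtain ⟨g, hg⟩ : ∃ g : (X (k + 1))⟦(1 : ℤ)⟧ ⟶ Z⟦(1 : ℤ)⟧,
          φ⟦(1 : ℤ)⟧' = (-(a (k + 1))⟦(1 : ℤ)⟧') ≫ g :=
        Triangle.yoneda_exact₃ _ (rot_of_distTriang _ (hT k (Nat.lt_succ_self k)))
          (φ⟦(1 : ℤ)⟧') hc
      have : (shiftFunctor D (1 : ℤ)).preimage g = 0 := by
        refine vanish_left_zero _ (sub_self ((k + 1 : ℕ) : ℤ)) (hZ (k + 1) le_rfl) _
      rw [← (shiftFunctor D (1 : ℤ)).map_preimage g, this, Functor.map_zero, comp_zero] at hg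
      exact (shiftFunctor D (1 : ℤ)).map_injective (hg.trans (Functor.map_zero _ _ _).symm)

end Groth.Agent.CommAlg4.Postnikov
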