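import Mathlib

/-!
Evaluation of two-variable power series at nilpotent elements.
-/

namespace Groth.Agent.CommAlg4

/-- Power series in two variables may be evaluated at any pair of nilpotent elements. -/
theorem exists_algHom_mvPowerSeries_two {R B : Type*} [CommRing R] [CommRing B] [Algebra R B]
    {a b : B} (ha : IsNilpotent a) (hb : IsNilpotent b) :
    ∃ φ : MvPowerSeries (Fin 2) R →ₐ[R] B,
      φ (MvPowerSeries.X 0) = a ∧ φ (MvPowerSeries.X 1) = b := by
  letI : UniformSpace R := ⊥
  haveI : DiscreteUniformity R := ⟨rfl⟩
  letI : UniformSpace B := ⊥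
  haveI : DiscreteUniformity B := ⟨rfl⟩
  haveI : IsTopologicalRing R := DiscreteTopology.topologicalRing
  haveI : IsTopologicalRing B := DiscreteTopology.topologicalRing
  have hev : MvPowerSeries.HasEval (![a, b] : Fin 2 → B) :=
    { hpow := by
        intro s
        fin_cases s
        · exact ha.isTopologicallyNilpotent
        · exact hb.isTopologicallyNilpotent
      tendsto_zero := by simp }
  haveI : ContinuousSMul R B := ⟨continuous_of_discreteTopology⟩
  refine ⟨MvPowerSeries.aeval hev, ?_, ?_⟩
  · have h := MvPowerSeries.aeval_coe hev (MvPolynomial.X (0 : Fin 2) : MvPolynomial (Fin 2) R)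
    rw [MvPolynomial.coe_X, MvPolynomial.aeval_X] at h
    simpa using h
  · have h := MvPowerSeries.aeval_coe hev (MvPolynomial.X (1 : Fin 2) : MvPolynomial (Fin 2) R)
    rw [MvPolynomial.coe_X, MvPolynomial.aeval_X] at h
    simpa using h

end Groth.Agent.CommAlg4
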