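import Groth.Prelude.Def_DerCA
import Groth.Agent.DCat.Trunc
import Mathlib.Data.Int.Interval

/-! Pro-isomorphisms in a derived category via cohomology. -/
set_option autoImplicit false
set_option backward.isDefEq.respectTransparency false
set_option backward.defeqAttrib.useBackward true
set_option linter.style.haveILetI false
universe w v u
open CategoryTheory CategoryTheory.Limits CategoryTheory.Pretriangulated Opposite DerivedCategory

namespace Groth.Agent.CommAlg4.ProIsoDer

variable {A : Type u} [Category.{v} A] [Abelian A] [HasDerivedCategory.{w} A]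

theorem tr_tr {C : Type u} [Category.{v} C] (X : ARSys.PS C) {a b c : ℕ} (h : a ≤ b) (h' : b ≤ c) :
    ARSys.tr X h' ≫ ARSys.tr X h = ARSys.tr X (h.trans h') := by
  rw [← X.map_comp]; rfl

/-- Compatible cones of a levelwise map of inverse systems. -/
theorem exists_cone_system {D : Type u} [Category.{v} D] [Preadditive D] [HasZeroObject D]
    [HasShift D ℤ] [∀ n : ℤ, (shiftFunctor D n).Additive] [Pretriangulated D]
    (X Y : ARSys.PS D) (f : X ⟶ Y) :
    ∃ (Z : ARSys.PS D) (g : Y ⟶ Z) (h : Z ⟶ X ⋙ shiftFunctor D (1 : ℤ)),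
      ∀ n : ℕ, Triangle.mk (f.app (op n)) (g.app (op n)) (h.app (op n)) ∈ distTriang D := by
  choose C g h hT using fun n : ℕ => distinguished_cocone_triangle (f.app (op n))
  have key : ∀ n : ℕ, ∃ t : C (n + 1) ⟶ C n,
      g (n + 1) ≫ t = Y.map (homOfLE n.le_succ).op ≫ g n ∧
      h (n + 1) ≫ (X.map (homOfLE n.le_succ).op)⟦(1 : ℤ)⟧' = t ≫ h n := fun n =>
    complete_distinguished_triangle_morphism _ _ (hT (n + 1)) (hT n)
      (X.map (homOfLE n.le_succ).op) (Y.map (homOfLE n.le_succ).op)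
      (f.naturality (homOfLE n.le_succ).op).symm
  choose t ht1 ht2 using key
  refine ⟨Functor.ofOpSequence t,
    NatTrans.ofOpSequence (F := Y) (G := Functor.ofOpSequence t) g (fun n => ?_),
    NatTrans.ofOpSequence (F := Functor.ofOpSequence t) (G := X ⋙ shiftFunctor D (1 : ℤ)) h
      (fun n => ?_), fun n => by simpa using hT n⟩
  · rw [Functor.ofOpSequence_map_homOfLE_succ]; exact (ht1 n).symm
  · rw [Functor.ofOpSequence_map_homOfLE_succ]; exact (ht2 n).symm

theorem proIso_of_cohomology (X Y : ARSys.PS (DerivedCategory A)) (f : X ⟶ Y) (a b : ℤ)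
    (hX : ∀ (n : ℕ) (i : ℤ), i < a ∨ b < i → IsZero ((homologyFunctor A i).obj (X.obj (op n))))
    (hY : ∀ (n : ℕ) (i : ℤ), i < a ∨ b < i → IsZero ((homologyFunctor A i).obj (Y.obj (op n))))
    (hH : ∀ i : ℤ, DerCA.IsProIso (Functor.whiskerRight f (homologyFunctor A i))) :
    DerCA.IsProIso f := by
  obtain ⟨Z, g, h, hT⟩ := exists_cone_system X Y f
  -- cohomology of the cone is pro-zero
  have hZ : ∀ (i : ℤ) (n : ℕ), ∃ (k : ℕ) (hk : n ≤ k),
      (homologyFunctor A i).map (ARSys.tr Z hk) = 0 := by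
    intro i n
    obtain ⟨m, hnm, β, -, hβ⟩ := hH i n
    obtain ⟨k, hmk, γ, hγ, -⟩ := hH (i + 1) m
    refine ⟨k, hnm.trans hmk, ?_⟩
    let H := homologyFunctor A i
    have gnat : ∀ {p q : ℕ} (hpq : p ≤ q),
        H.map (g.app (op q)) ≫ H.map (ARSys.tr Z hpq) =
          H.map (ARSys.tr Y hpq) ≫ H.map (g.app (op p)) := fun hpq => by
      rw [← H.map_comp, ← H.map_comp]
      exact congrArg H.map (g.naturality _).symm
    have hfg : ∀ p : ℕ, H.map (f.app (op p)) ≫ H.map (g.app (op p)) = 0 := fun p => by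
      rw [← H.map_comp]
      exact (congrArg H.map (comp_distTriang_mor_zero₁₂ _ (hT p))).trans (H.map_zero _ _)
    have hgn : H.map (ARSys.tr Y hnm) ≫ H.map (g.app (op n)) = 0 := by
      have e : β ≫ H.map (f.app (op n)) = H.map (ARSys.tr Y hnm) := hβ
      rw [← e, Category.assoc, hfg n, comp_zero]
    have hδm : H.map (ARSys.tr Z hmk) ≫
        HomologySequence.δ (Triangle.mk (f.app (op m)) (g.app (op m)) (h.app (op m))) i (i + 1) rfl
          = 0 := by
      let φ : Triangle.mk (f.app (op k)) (g.app (op k)) (h.app (op k)) ⟶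
          Triangle.mk (f.app (op m)) (g.app (op m)) (h.app (op m)) :=
        Triangle.homMk _ _ (ARSys.tr X hmk) (ARSys.tr Y hmk) (ARSys.tr Z hmk)
          (f.naturality _).symm (g.naturality _).symm (h.naturality _).symm
      have nat := (homologyFunctor A 0).homologySequenceδ_naturality _ _ φ i (i + 1) rfl
      have hk0 := HomologySequence.δ_comp _ (hT k) i (i + 1) rfl
      have e : (homologyFunctor A (i + 1)).map (f.app (op k)) ≫ γ =
          (homologyFunctor A (i + 1)).map (ARSys.tr X hmk) := hγ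
      refine Eq.trans ?_ (show HomologySequence.δ
          (Triangle.mk (f.app (op k)) (g.app (op k)) (h.app (op k))) i (i + 1) rfl ≫
          (homologyFunctor A (i + 1)).map (ARSys.tr X hmk) = 0 by
        rw [← e, ← Category.assoc]
        exact (congrArg (· ≫ γ) hk0).trans zero_comp)
      exact nat
    obtain ⟨T, π, _, x, hx⟩ := (HomologySequence.exact₃ _ (hT m) i (i + 1) rfl).exact_up_to_refinements
      (H.map (ARSys.tr Z hmk)) hδm
    have hx' : π ≫ H.map (ARSys.tr Z hmk) = x ≫ H.map (g.app (op m)) := hx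
    rw [← cancel_epi π, comp_zero, ← tr_tr Z hnm hmk, Functor.map_comp, ← Category.assoc, hx',
      Category.assoc, gnat hnm, hgn, comp_zero]
  -- the cone system is pro-zero
  have hZamp : ∀ (n : ℕ), (Z.obj (op n)).IsGE (a - 1) ∧ (Z.obj (op n)).IsLE b := fun n => by
    have hex := fun i => HomologySequence.exact₃ _ (hT n) i (i + 1) rfl
    refine ⟨(isGE_iff _ _).2 fun i hi => ?_, (isLE_iff _ _).2 fun i hi => ?_⟩ <;>
      exact (hex i).isZero_of_both_zeros ((hY n i (by omega)).eq_of_src _ _)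
        ((hX n (i + 1) (by omega)).eq_of_tgt _ _)
  have hproZ : ∀ n : ℕ, ∃ (k : ℕ) (hk : n ≤ k), ARSys.tr Z hk = 0 := by
    have step : ∀ (n : ℕ), ∃ (k : ℕ) (hk : n ≤ k), ∀ q : ℤ,
        (homologyFunctor A q).map (ARSys.tr Z hk) = 0 := by
      intro n
      choose k hk hk0 using fun q => hZ q n
      obtain ⟨K, hKn, hK⟩ : ∃ K, n ≤ K ∧ ∀ q ∈ Finset.Icc (a - 1) b, k q ≤ K :=
        ⟨max n ((Finset.Icc (a - 1) b).sup k), le_max_left _ _,
          fun q hq => (Finset.le_sup hq).trans (le_max_right _ _)⟩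
      refine ⟨K, hKn, fun q => ?_⟩
      by_cases hq : q ∈ Finset.Icc (a - 1) b
      · rw [← tr_tr Z (hk q) (hK q hq), Functor.map_comp, hk0, comp_zero]
      · rw [Finset.mem_Icc] at hq
        have := (hZamp K).1
        have := (hZamp K).2
        by_cases hq' : q < a - 1
        · exact (isZero_of_isGE (Z.obj (op K)) (a - 1) q hq').eq_of_src _ _
        · exact (isZero_of_isLE (Z.obj (op K)) b q (by omega)).eq_of_src _ _
    intro n
    choose s hs hs0 using step
    obtain ⟨N, hN⟩ : ∃ N : ℕ, b ≤ a - 1 + N := ⟨(b - (a - 1)).toNat, by omega⟩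
    -- descending chain `n = p 0 ≤ p 1 ≤ …`
    let p : ℕ → ℕ := fun j => s^[N + 1 - j] n
    have hp : ∀ j, j ≤ N → p j = s (p (j + 1)) := fun j hj => by
      show s^[N + 1 - j] n = s (s^[N + 1 - (j + 1)] n)
      rw [show N + 1 - j = N + 1 - (j + 1) + 1 by omega, Function.iterate_succ_apply']
    have hmono : Antitone p := antitone_nat_of_succ_le fun j => by
      rcases le_or_gt j N with hj | hj
      · rw [hp j hj]; exact hs _
      · show s^[N + 1 - (j + 1)] n ≤ s^[N + 1 - j] n
        rw [show N + 1 - (j + 1) = 0 by omega, show N + 1 - j = 0 by omega]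
    let K : ℕ ⥤ DerivedCategory A :=
      { obj := fun j => Z.obj (op (p j))
        map := fun {i j} u => Z.map (homOfLE (hmono (leOfHom u))).op
        map_id := fun j => (congrArg Z.map (Subsingleton.elim _ _)).trans (Z.map_id _)
        map_comp := fun u v => by rw [← Z.map_comp]; exact congrArg Z.map (Subsingleton.elim _ _) }
    have hK := DCat.comp_chain_eq_zero N (a - 1) K (fun i _ => (hZamp _).1)
      (fun i _ => by
        have := (hZamp (p i)).2
        exact (DerivedCategory.TStructure.t (C := A)).isLE_of_le (Z.obj (op (p i))) b _ hN)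
      (fun i hi q => by
        show (homologyFunctor A q).map (ARSys.tr Z (hmono (Nat.le_succ i))) = 0
        have key : ∀ (m : ℕ) (hm : p (i + 1) ≤ m), m = s (p (i + 1)) →
            (homologyFunctor A q).map (ARSys.tr Z hm) = 0 := by
          rintro m hm rfl
          exact hs0 _ q
        exact key _ _ (hp i hi))
    have hlast : p (N + 1) = n := by simp [p]
    have key : ∀ (m k : ℕ) (hm : m ≤ k), ARSys.tr Z hm = 0 → m = n →
        ∃ (k : ℕ) (hk : n ≤ k), ARSys.tr Z hk = 0 := by
      rintro m k hm h0 rfl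
      exact ⟨k, hm, h0⟩
    exact key (p (N + 1)) (p 0) (hmono (Nat.zero_le _)) hK hlast
  -- conclusion
  intro n
  obtain ⟨m, hnm, hm⟩ := hproZ n
  obtain ⟨k, hmk, hk⟩ := hproZ m
  obtain ⟨e, he⟩ : ∃ e : Y.obj (op k) ⟶ X.obj (op m), ARSys.tr Y hmk = e ≫ f.app (op m) := by
    have h0 : ARSys.tr Y hmk ≫ g.app (op m) = 0 := by
      have := g.naturality (homOfLE hmk).op
      exact this.trans ((congrArg (g.app (op k) ≫ ·) hk).trans comp_zero)
    exact Triangle.coyoneda_exact₂ _ (hT m) (ARSys.tr Y hmk) h0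
  have fnat : ∀ {p q : ℕ} (hpq : p ≤ q),
      ARSys.tr X hpq ≫ f.app (op p) = f.app (op q) ≫ ARSys.tr Y hpq := fun hpq => f.naturality _
  refine ⟨k, hnm.trans hmk, e ≫ ARSys.tr X hnm, ?_, ?_⟩
  · obtain ⟨d, hd⟩ : ∃ d : X.obj (op k) ⟶ X.obj (op m), d = f.app (op k) ≫ e - ARSys.tr X hmk :=
      ⟨_, rfl⟩
    have hdf : d ≫ f.app (op m) = 0 := by
      rw [hd, Preadditive.sub_comp, Category.assoc, ← he, fnat hmk, sub_self]
    obtain ⟨φ, hφ⟩ : ∃ φ : (X.obj (op k))⟦(1 : ℤ)⟧ ⟶ Z.obj (op m),
        d⟦(1 : ℤ)⟧' = φ ≫ h.app (op m) :=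
      Triangle.coyoneda_exact₁ _ (hT m) (d⟦(1 : ℤ)⟧') (by
        change d⟦(1 : ℤ)⟧' ≫ (f.app (op m))⟦(1 : ℤ)⟧' = 0
        rw [← Functor.map_comp, hdf, Functor.map_zero])
    have hdn : d ≫ ARSys.tr X hnm = 0 := by
      apply (shiftFunctor (DerivedCategory A) (1 : ℤ)).map_injective
      rw [Functor.map_comp, Functor.map_zero, hφ, Category.assoc]
      have := h.naturality (homOfLE hnm).op
      refine (congrArg (φ ≫ ·) this.symm).trans ?_
      refine (congrArg (φ ≫ ·) (congrArg (· ≫ h.app (op n)) hm)).trans ?_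
      rw [zero_comp, comp_zero]
    rw [hd, Preadditive.sub_comp, sub_eq_zero, Category.assoc, tr_tr X hnm hmk] at hdn
    exact hdn
  · rw [Category.assoc, fnat hnm, ← Category.assoc, ← he, tr_tr Y hnm hmk]

end Groth.Agent.CommAlg4.ProIsoDer
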