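import Groth.Agent.BrSev29.LinearAut
import Groth.Agent.ProjLib.ProjSpace
import Mathlib.AlgebraicGeometry.ProjectiveSpectrum.Functor
import Mathlib.AlgebraicGeometry.ProjectiveSpectrum.Proper

/-!
# Automorphisms of projective space

The point system of `CohB1.ProjSpace n k` and the action of invertible matrices by linear substitutions.
-/

set_option autoImplicit false
set_option backward.isDefEq.respectTransparency.types false

universe u

open CategoryTheory CategoryTheory.Limits AlgebraicGeometry MvPolynomial HomogeneousLocalization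

namespace Groth.Agent.CommAlg4.ProjAut

variable {n : ℕ} {k : Type u} [CommRing k] {S T : Type u} [CommRing S] [CommRing T]

local notation "A" => MvPolynomial (Fin (n + 1)) k
local notation "𝓖" => CohB1.polyGrading n k

/-- Evaluation of degree zero fractions in `s` at a vector where `s` is invertible. -/
noncomputable def evalS (q : k →+* S) (v : Fin (n + 1) → S) (s : MvPolynomial (Fin (n + 1)) k)
    (hu : IsUnit (eval₂Hom q v s)) : Away (CohB1.polyGrading n k) s →+* S :=
  (IsLocalization.Away.lift (S := Localization.Away s) s (g := eval₂Hom q v) hu).comp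
    (algebraMap (Away (CohB1.polyGrading n k) s) (Localization.Away s))

theorem evalS_toAway (q : k →+* S) (v : Fin (n + 1) → S) (s : A) (hu : IsUnit (eval₂Hom q v s)) (c : k) :
    evalS q v s hu (ProjLib.toAway n k s c) = q c := by
  rw [evalS, RingHom.comp_apply, HomogeneousLocalization.algebraMap_apply, ProjLib.val_toAway,
    IsLocalization.Away.lift_eq, eval₂Hom_C]

theorem evalS_mk (q : k →+* S) (v : Fin (n + 1) → S) (s : A) (hu : IsUnit (eval₂Hom q v s)) {d : ℕ}
    (hs : s ∈ 𝓖 d) (N : ℕ) (p : A) (hp : p ∈ 𝓖 (N • d)) :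
    evalS q v s hu (Away.mk 𝓖 hs N p hp) * (eval₂Hom q v s) ^ N = eval₂Hom q v p := by
  have h : (Away.mk 𝓖 hs N p hp).val * algebraMap A (Localization.Away s) (s ^ N) =
      algebraMap A (Localization.Away s) p := by
    rw [Away.val_mk, Localization.mk_eq_mk']
    exact IsLocalization.mk'_spec (Localization.Away s) p (⟨s ^ N, N, rfl⟩ : Submonoid.powers s)
  have h' := congrArg (IsLocalization.Away.lift (S := Localization.Away s) s (g := eval₂Hom q v) hu) h
  rw [map_mul, IsLocalization.Away.lift_eq, IsLocalization.Away.lift_eq, map_pow] at h'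
  rw [evalS, RingHom.comp_apply, HomogeneousLocalization.algebraMap_apply]
  exact h'

theorem evalS_ext {s : A} {d : ℕ} (hs : s ∈ 𝓖 d) (φ : Away 𝓖 s →+* S) (q : k →+* S) (v : Fin (n + 1) → S)
    (hu : IsUnit (eval₂Hom q v s))
    (h : ∀ (N : ℕ) (p : A) (hp : p ∈ 𝓖 (N • d)), φ (Away.mk 𝓖 hs N p hp) * (eval₂Hom q v s) ^ N = eval₂Hom q v p) :
    φ = evalS q v s hu := by
  refine RingHom.ext fun x => ?_
  obtain ⟨N, p, hp, rfl⟩ := Away.mk_surjective 𝓖 hs x
  exact (hu.pow N).mul_right_cancel ((h N p hp).trans (evalS_mk q v s hu hs N p hp).symm)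

theorem comp_evalS (φ : S →+* T) (q : k →+* S) (v : Fin (n + 1) → S) {s : A} {d : ℕ} (hs : s ∈ 𝓖 d)
    (hu : IsUnit (eval₂Hom q v s)) (hu' : IsUnit (eval₂Hom (φ.comp q) (fun l => φ (v l)) s)) :
    φ.comp (evalS q v s hu) = evalS (φ.comp q) (fun l => φ (v l)) s hu' := by
  refine evalS_ext hs _ _ _ _ fun N p hp => ?_
  have e : ∀ r, eval₂Hom (φ.comp q) (fun l => φ (v l)) r = φ (eval₂Hom q v r) := fun r => by
    simp only [coe_eval₂Hom]
    exact (eval₂_comp_left φ q v r).symm
  rw [e, e, ← map_pow, RingHom.comp_apply, ← map_mul, evalS_mk]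

/-- The point with coordinates `v`, seen in the chart of `s`. -/
noncomputable def ptS (q : k →+* S) (v : Fin (n + 1) → S) (s : MvPolynomial (Fin (n + 1)) k) {d : ℕ}
    (hs : s ∈ CohB1.polyGrading n k d) (hd : 0 < d) (hu : IsUnit (eval₂Hom q v s)) :
    Spec (CommRingCat.of S) ⟶ CohB1.ProjSpace n k :=
  Spec.map (CommRingCat.ofHom (evalS q v s hu)) ≫ Proj.awayι (CohB1.polyGrading n k) s hs hd

theorem ptS_toSpec (q : k →+* S) (v : Fin (n + 1) → S) (s : A) {d : ℕ} (hs : s ∈ 𝓖 d) (hd : 0 < d)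
    (hu : IsUnit (eval₂Hom q v s)) : ptS q v s hs hd hu ≫ CohB1.ProjSpace.toSpec n k = Spec.map (CommRingCat.ofHom q) := by
  refine (Category.assoc _ _ _).trans ?_
  refine (congrArg (fun g => Spec.map (CommRingCat.ofHom (evalS q v s hu)) ≫ g)
    (ProjLib.awayι_toSpec n k hs hd)).trans ?_
  rw [← Spec.map_comp]
  exact congrArg (fun r => Spec.map (CommRingCat.ofHom r)) (RingHom.ext fun c => evalS_toAway q v s hu c)

theorem ptS_mul (q : k →+* S) (v : Fin (n + 1) → S) (s t : A) {d e : ℕ} (hs : s ∈ 𝓖 d) (ht : t ∈ 𝓖 e) (hd : 0 < d)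
    (hu : IsUnit (eval₂Hom q v s)) (hu' : IsUnit (eval₂Hom q v (s * t))) :
    ptS q v (s * t) (SetLike.mul_mem_graded hs ht) (hd.trans_le (d.le_add_right e)) hu' = ptS q v s hs hd hu := by
  have h : (evalS q v (s * t) hu').comp (awayMap 𝓖 ht (rfl : s * t = s * t)) = evalS q v s hu := by
    refine evalS_ext hs _ _ _ _ fun N p hp => ?_
    have h1 := evalS_mk q v (s * t) hu' (SetLike.mul_mem_graded hs ht) N (p * t ^ N)
      (by rw [smul_add]; exact SetLike.mul_mem_graded hp (SetLike.pow_mem_graded N ht))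
    rw [RingHom.comp_apply, awayMap_mk 𝓖 ht rfl N hs p hp]
    rw [map_mul, map_mul, mul_pow, map_pow, ← mul_assoc] at h1
    have htu : IsUnit (eval₂Hom q v t) := by
      rw [map_mul] at hu'
      exact (IsUnit.mul_iff.1 hu').2
    exact (htu.pow N).mul_right_cancel h1
  rw [ptS, ptS, ← h, CommRingCat.ofHom_comp, Spec.map_comp]
  refine Eq.trans ?_ (Category.assoc _ _ _).symm
  exact congrArg (fun g => Spec.map (CommRingCat.ofHom (evalS q v (s * t) hu')) ≫ g)
    (Proj.SpecMap_awayMap_awayι (𝒜 := 𝓖) hs hd ht rfl).symm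

theorem ptS_deg (q : k →+* S) (v : Fin (n + 1) → S) (s : A) {d d' : ℕ} (hs : s ∈ 𝓖 d) (hs' : s ∈ 𝓖 d')
    (hd : 0 < d) (hd' : 0 < d') (hu : IsUnit (eval₂Hom q v s)) :
    ptS q v s hs hd hu = ptS q v s hs' hd' hu := rfl

theorem ptS_congr (q : k →+* S) (v : Fin (n + 1) → S) {s s' : A} (e : s = s') {d d' : ℕ} (hs : s ∈ 𝓖 d) (hs' : s' ∈ 𝓖 d')
    (hd : 0 < d) (hd' : 0 < d') (hu : IsUnit (eval₂Hom q v s)) (hu' : IsUnit (eval₂Hom q v s')) :
    ptS q v s hs hd hu = ptS q v s' hs' hd' hu' := by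
  subst e; exact ptS_deg q v s hs hs' hd hd' hu

/-- The point does not depend on the chart. -/
theorem ptS_eq (q : k →+* S) (v : Fin (n + 1) → S) (s t : A) {d e : ℕ} (hs : s ∈ 𝓖 d) (ht : t ∈ 𝓖 e) (hd : 0 < d)
    (he : 0 < e) (hu : IsUnit (eval₂Hom q v s)) (hu' : IsUnit (eval₂Hom q v t)) :
    ptS q v s hs hd hu = ptS q v t ht he hu' := by
  have h : IsUnit (eval₂Hom q v (s * t)) := by rw [map_mul]; exact hu.mul hu'
  have h' : IsUnit (eval₂Hom q v (t * s)) := by rwa [mul_comm]
  rw [← ptS_mul q v s t hs ht hd hu h, ← ptS_mul q v t s ht hs he hu' h']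
  exact ptS_congr q v (mul_comm s t) _ _ _ _ _ _

theorem map_ptS (φ : S →+* T) (q : k →+* S) (v : Fin (n + 1) → S) (s : A) {d : ℕ} (hs : s ∈ 𝓖 d) (hd : 0 < d)
    (hu : IsUnit (eval₂Hom q v s)) (hu' : IsUnit (eval₂Hom (φ.comp q) (fun l => φ (v l)) s)) :
    Spec.map (CommRingCat.ofHom φ) ≫ ptS q v s hs hd hu = ptS (φ.comp q) (fun l => φ (v l)) s hs hd hu' := by
  rw [ptS, ptS, ← Category.assoc, ← Spec.map_comp, ← CommRingCat.ofHom_comp, comp_evalS φ q v hs hu hu']

theorem eval_smul (q : k →+* S) (v : Fin (n + 1) → S) (c : S) {p : A} {d : ℕ} (hp : p ∈ 𝓖 d) :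
    eval₂Hom q (fun l => c * v l) p = c ^ d * eval₂Hom q v p := by
  have h1 := (mem_homogeneousSubmodule d p).1 hp
  simp only [coe_eval₂Hom, eval₂_eq', Finset.mul_sum]
  refine Finset.sum_congr rfl fun m hm => ?_
  have hdeg : ∑ j, m j = d := by
    rw [← h1 (mem_support_iff.1 hm)]
    simp [Finsupp.weight, Finsupp.linearCombination_apply, Finsupp.sum_fintype]
  simp only [mul_pow, Finset.prod_mul_distrib, ← hdeg, ← Finset.prod_pow_eq_pow_sum]
  ring

theorem ptS_smul (q : k →+* S) (v : Fin (n + 1) → S) (c : S) (s : A) {d : ℕ} (hs : s ∈ 𝓖 d) (hd : 0 < d)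
    (hu : IsUnit (eval₂Hom q v s)) (hu' : IsUnit (eval₂Hom q (fun l => c * v l) s)) :
    ptS q (fun l => c * v l) s hs hd hu' = ptS q v s hs hd hu := by
  have h : evalS q (fun l => c * v l) s hu' = evalS q v s hu := by
    refine evalS_ext hs _ _ _ _ fun N p hp => ?_
    have h1 := evalS_mk q (fun l => c * v l) s hu' hs N p hp
    rw [eval_smul q v c hs, eval_smul q v c hp] at h1
    have hc : IsUnit (c ^ (N • d)) := by
      rw [eval_smul q v c hs] at hu'
      rw [smul_eq_mul, mul_comm, pow_mul]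
      exact (IsUnit.mul_iff.1 hu').1.pow N
    refine hc.mul_left_cancel ?_
    rw [smul_eq_mul, mul_comm N d, pow_mul] at hc ⊢
    rw [mul_pow] at h1
    rw [smul_eq_mul, mul_comm N d, pow_mul] at h1
    linear_combination h1
  rw [ptS, ptS, h]

variable (n k) in
/-- `x_j / x_i`. -/
noncomputable def frac (i j : Fin (n + 1)) : Away (CohB1.polyGrading n k) (X i) :=
  Away.isLocalizationElem (ProjLib.X_mem_polyGrading n k i) (ProjLib.X_mem_polyGrading n k j)

/-- The point with normalised coordinates `v`. -/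
noncomputable def pt (q : k →+* S) (v : Fin (n + 1) → S) (i : Fin (n + 1)) (hv : IsUnit (v i)) :
    Spec (CommRingCat.of S) ⟶ CohB1.ProjSpace n k :=
  ptS q v (X i) (ProjLib.X_mem_polyGrading n k i) one_pos (by simpa using hv)

theorem evalS_frac (q : k →+* S) (v : Fin (n + 1) → S) (i j : Fin (n + 1)) (hu : IsUnit (eval₂Hom q v (X i : A))) :
    evalS q v (X i) hu (frac n k i j) * v i = v j := by
  have h := evalS_mk q v (X i : A) hu (ProjLib.X_mem_polyGrading n k i) 1 (X j ^ 1)
    (by simpa using ProjLib.X_mem_polyGrading n k j)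
  simp only [eval₂Hom_X', pow_one] at h
  simpa only [frac, Away.isLocalizationElem, pow_one] using h

theorem away_hom_ext (i : Fin (n + 1)) {φ ψ : Away 𝓖 (X i) →+* S}
    (hc : ∀ c, φ (ProjLib.toAway n k (X i) c) = ψ (ProjLib.toAway n k (X i) c))
    (hj : ∀ j, φ (frac n k i j) = ψ (frac n k i j)) : φ = ψ := by
  refine RingHom.ext fun x => ?_
  obtain ⟨N, p, hp, rfl⟩ := Away.mk_surjective 𝓖 (ProjLib.X_mem_polyGrading n k i) x
  let Φ : A →+* Away 𝓖 (X i) := eval₂Hom (ProjLib.toAway n k (X i)) (frac n k i)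
  have hfr : ∀ j, (frac n k i j).val * algebraMap A (Localization.Away (X i : A)) (X i) =
      algebraMap A (Localization.Away (X i : A)) (X j) := fun j => by
    rw [frac, Away.val_mk, Localization.mk_eq_mk']
    have h := IsLocalization.mk'_spec (Localization.Away (X i : A)) ((X j : A) ^ 1)
      (⟨(X i : A) ^ 1, 1, rfl⟩ : Submonoid.powers (X i : A))
    simpa only [pow_one] using h
  have key : Away.mk 𝓖 (ProjLib.X_mem_polyGrading n k i) N p hp = Φ p := by
    refine HomogeneousLocalization.val_injective _ ?_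
    rw [Away.val_mk, Localization.mk_eq_mk', ← HomogeneousLocalization.algebraMap_apply,
      IsLocalization.mk'_eq_iff_eq_mul]
    conv_lhs => rw [p.as_sum]
    conv_rhs => rw [p.as_sum]
    rw [map_sum, map_sum, map_sum, Finset.sum_mul]
    refine Finset.sum_congr rfl fun m hm => ?_
    have hdeg : ∑ j, m j = N := by
      have h1 := (mem_homogeneousSubmodule _ p).1 hp (mem_support_iff.1 hm)
      rw [smul_eq_mul, mul_one] at h1
      rw [← h1]
      simp [Finsupp.weight, Finsupp.linearCombination_apply, Finsupp.sum_fintype]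
    rw [monomial_eq, Finsupp.prod_fintype _ _ (fun _ => pow_zero _)]
    simp only [map_mul, map_prod, map_pow, Φ, eval₂Hom_C, eval₂Hom_X',
      HomogeneousLocalization.algebraMap_apply, ProjLib.val_toAway, ← hdeg, ← Finset.prod_pow_eq_pow_sum]
    rw [mul_assoc, ← Finset.prod_mul_distrib]
    congr 1
    exact Finset.prod_congr rfl fun j _ => by rw [← mul_pow, hfr]
  rw [key]
  exact RingHom.congr_fun (ringHom_ext (f := φ.comp Φ) (g := ψ.comp Φ) (fun c => by simp [Φ, hc])
    fun j => by simp [Φ, hj]) p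

theorem pt_inj (q : k →+* S) (v w : Fin (n + 1) → S) (i j : Fin (n + 1)) (hv : IsUnit (v i)) (hw : IsUnit (w j))
    (h : pt q v i hv = pt q w j hw) : ∃ c : S, ∀ l, w l = c * v l := by
  have hwi : IsUnit (w i) := by
    set e : S := evalS q w (X j) (by simpa using hw) (frac n k j i) with he
    have hwe : w i = e * w j := (evalS_frac q w j i _).symm
    suffices IsUnit e by rw [hwe]; exact this.mul hw
    by_contra hne
    obtain ⟨P, hP, hPe⟩ := exists_max_ideal_of_mem_nonunits hne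
    let x : Spec (CommRingCat.of S) := (⟨P, hP.isPrime⟩ : PrimeSpectrum S)
    have h1 : (pt q v i hv) x ∈ Proj.basicOpen 𝓖 (X i : A) := by
      rw [← Proj.opensRange_awayι 𝓖 (X i : A) (ProjLib.X_mem_polyGrading n k i) one_pos]
      exact ⟨_, rfl⟩
    rw [h] at h1
    have h2 : (Spec.map (CommRingCat.ofHom (evalS q w (X j) (by simpa using hw)))) x ∈
        (Proj.awayι 𝓖 (X j) (ProjLib.X_mem_polyGrading n k j) one_pos) ⁻¹ᵁ Proj.basicOpen 𝓖 (X i : A) := h1
    rw [Proj.awayι_preimage_basicOpen (𝒜 := 𝓖) (ProjLib.X_mem_polyGrading n k j) one_pos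
      (ProjLib.X_mem_polyGrading n k i) one_pos] at h2
    exact h2 hPe
  obtain ⟨b, hb⟩ := hv.exists_left_inv
  refine ⟨w i * b, fun l => ?_⟩
  have h3 : pt q v i hv = pt q w i hwi := h.trans (ptS_eq _ _ _ _ _ _ _ _ _ _)
  have h4 := congrArg CommRingCat.Hom.hom (Spec.map_injective
    ((cancel_mono (Proj.awayι 𝓖 (X i : A) (ProjLib.X_mem_polyGrading n k i) one_pos)).1 h3))
  have h5 : evalS q v (X i) (by simpa using hv) (frac n k i l) = evalS q w (X i) (by simpa using hwi) (frac n k i l) :=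
    RingHom.congr_fun h4 _
  have h6 := evalS_frac q v i l (by simpa using hv)
  have h7 := evalS_frac q w i l (by simpa using hwi)
  rw [h5] at h6
  linear_combination (w i * b) * h6 - h7 - (evalS q w (X i) (by simpa using hwi) (frac n k i l) * w i) * hb

theorem exists_pt (q : k →+* S) (g : Spec (CommRingCat.of S) ⟶ CohB1.ProjSpace n k)
    (hg : g ≫ CohB1.ProjSpace.toSpec n k = Spec.map (CommRingCat.ofHom q)) (i : Fin (n + 1))
    (hi : ∀ z, g z ∈ Proj.basicOpen 𝓖 (X i : A)) :
    ∃ (v : Fin (n + 1) → S) (hv : v i = 1), g = pt q v i (hv ▸ isUnit_one) := by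
  let ι' := Proj.awayι 𝓖 (X i : A) (ProjLib.X_mem_polyGrading n k i) one_pos
  have hrange : Set.range g ⊆ Set.range ι' := by
    rintro _ ⟨z, rfl⟩
    show g z ∈ ι'.opensRange
    rw [Proj.opensRange_awayι]
    exact hi z
  obtain ⟨φ, hφ⟩ : ∃ φ, Spec.map φ ≫ ι' = g :=
    ⟨Spec.preimage (IsOpenImmersion.lift ι' g hrange), by rw [Spec.map_preimage, IsOpenImmersion.lift_fac]⟩
  have hone : φ.hom (frac n k i i) = 1 := by
    have : frac n k i i = 1 := HomogeneousLocalization.val_injective _ (by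
      rw [frac, Away.val_mk, HomogeneousLocalization.val_one, Localization.mk_eq_mk']
      exact IsLocalization.mk'_self _ _)
    rw [this, map_one]
  refine ⟨fun l => φ.hom (frac n k i l), hone, hφ.symm.trans ?_⟩
  refine congrArg (fun r => Spec.map (CommRingCat.ofHom r) ≫ ι') (away_hom_ext i (fun c => ?_) fun j => ?_)
  · rw [evalS_toAway]
    have h1 : Spec.map φ ≫ ι' ≫ CohB1.ProjSpace.toSpec n k = Spec.map (CommRingCat.ofHom q) := by
      rw [← Category.assoc]
      exact (congrArg (· ≫ CohB1.ProjSpace.toSpec n k) hφ).trans hg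
    rw [ProjLib.awayι_toSpec n k (ProjLib.X_mem_polyGrading n k i) one_pos, ← Spec.map_comp] at h1
    exact RingHom.congr_fun (congrArg CommRingCat.Hom.hom (Spec.map_injective h1)) c
  · have h := evalS_frac q (fun l => φ.hom (frac n k i l)) i j (by rw [eval₂Hom_X']; exact hone ▸ isUnit_one)
    refine h.symm.trans ?_
    exact (congrArg (_ * ·) hone).trans (mul_one _)

variable (n k) in
/-- The point system of projective space. -/
noncomputable def ptSys : BrSev29.PtSys n k (CohB1.ProjSpace.toSpec n k) where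
  y S _ q i v hv := pt q v i (hv ▸ isUnit_one)
  lies _ _ _ _ _ _ := ptS_toSpec _ _ _ _ _ _
  nat S T _ _ φ q i v hv := map_ptS φ q v _ _ _ _ _
  change S _ q i j v hv c hc := by
    have hj : IsUnit (v j) := IsUnit.of_mul_eq_one_right c hc
    refine (ptS_eq q v _ (X j) _ (ProjLib.X_mem_polyGrading n k j) _ one_pos _ (by simpa using hj)).trans ?_
    exact (ptS_smul q v c _ _ _ _ _).symm
  inj S _ q i j v w hv hw h := pt_inj q v w i j _ _ h
  loc S _ q g hg x := by
    obtain ⟨i, hi⟩ : ∃ i, g x ∈ Proj.basicOpen (CohB1.polyGrading n k) (X i) :=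
      TopologicalSpace.Opens.mem_iSup.1 ((ProjLib.iSup_basicOpen_X n k).symm ▸ trivial)
    let U' : TopologicalSpace.Opens (PrimeSpectrum S) := g ⁻¹ᵁ Proj.basicOpen (CohB1.polyGrading n k) (X i)
    obtain ⟨U, ⟨f, rfl⟩, hxU, hU⟩ := PrimeSpectrum.isTopologicalBasis_basic_opens.exists_subset_of_mem_open
      (show x ∈ (U' : Set (PrimeSpectrum S)) from hi) U'.2
    refine ⟨f, hxU, ?_⟩
    obtain ⟨v, hv, e⟩ := exists_pt ((algebraMap S (Localization.Away f)).comp q)
      (Spec.map (CommRingCat.ofHom (algebraMap S (Localization.Away f))) ≫ g)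
      (by rw [Category.assoc, hg, ← Spec.map_comp, ← CommRingCat.ofHom_comp]) i (fun z => by
        exact hU ((PrimeSpectrum.localization_away_comap_range (Localization.Away f) f).le ⟨z, rfl⟩))
    exact ⟨i, v, hv, e⟩


section Lin

open Matrix

/-- Substitution of linear forms for the coordinates. -/
noncomputable def linSubst (M : Matrix (Fin (n + 1)) (Fin (n + 1)) k) :
    MvPolynomial (Fin (n + 1)) k →+* MvPolynomial (Fin (n + 1)) k :=
  (aeval fun l => ∑ r, C (M r l) * X r).toRingHom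

theorem linSubst_X (M : Matrix (Fin (n + 1)) (Fin (n + 1)) k) (l : Fin (n + 1)) :
    linSubst M (X l) = ∑ r, C (M r l) * X r :=
  aeval_X _ _

theorem eval_linSubst (q : k →+* S) (v : Fin (n + 1) → S) (M : Matrix (Fin (n + 1)) (Fin (n + 1)) k) (p : A) :
    eval₂Hom q v (linSubst M p) = eval₂Hom q (v ᵥ* M.map q) p := by
  refine RingHom.congr_fun (ringHom_ext (f := (eval₂Hom q v).comp (linSubst M)) (g := eval₂Hom q (v ᵥ* M.map q))
    (fun c => ?_) fun l => ?_) p
  · simp [linSubst]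
  · rw [RingHom.comp_apply, linSubst_X, map_sum, eval₂Hom_X', Matrix.vecMul, dotProduct]
    exact Finset.sum_congr rfl fun r _ => by rw [map_mul, eval₂Hom_C, eval₂Hom_X', Matrix.map_apply, mul_comm]

/-- The substitution as a graded homomorphism. -/
noncomputable def linGraded (M : Matrix (Fin (n + 1)) (Fin (n + 1)) k) :
    CohB1.polyGrading n k →+*ᵍ CohB1.polyGrading n k where
  toRingHom := linSubst M
  map_mem := fun {i} {x} hx => by
    have h := ((mem_homogeneousSubmodule i x).1 hx).aeval (fun l => ∑ r, C (M r l) * X r)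
      (n := 1) fun l => IsHomogeneous.sum _ _ _ fun r _ => (isHomogeneous_X k r).C_mul _
    rw [one_mul] at h
    exact (mem_homogeneousSubmodule i _).2 h

theorem linGraded_apply (M : Matrix (Fin (n + 1)) (Fin (n + 1)) k) (p : A) : linGraded M p = linSubst M p := rfl

theorem linGraded_irrelevant (M : (Matrix (Fin (n + 1)) (Fin (n + 1)) k)ˣ) :
    HomogeneousIdeal.irrelevant (CohB1.polyGrading n k) ≤
      (HomogeneousIdeal.irrelevant (CohB1.polyGrading n k)).map (linGraded M.1) := by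
  show (HomogeneousIdeal.irrelevant 𝓖).toIdeal ≤ _
  refine (ProjLib.irrelevant_le_span_X n k).trans (Ideal.span_le.2 ?_)
  rintro _ ⟨i, rfl⟩
  show X i ∈ Ideal.map (linGraded M.1) (HomogeneousIdeal.irrelevant 𝓖).toIdeal
  have h1 : linGraded M.1 (∑ r, C ((M⁻¹).1 r i) * X r) = X i := by
    rw [map_sum]
    have : ∀ r, linGraded M.1 (C ((M⁻¹).1 r i) * X r) = ∑ s, C (M.1 s r * (M⁻¹).1 r i) * X s := fun r => by
      rw [linGraded_apply, map_mul, linSubst_X, Finset.mul_sum]
      refine Finset.sum_congr rfl fun s _ => ?_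
      simp only [linSubst, AlgHom.toRingHom_eq_coe, RingHom.coe_coe, aeval_C, algebraMap_eq, map_mul]
      ring
    simp only [this]
    rw [Finset.sum_comm]
    simp only [← Finset.sum_mul, ← map_sum, ← Matrix.mul_apply, M.mul_inv]
    rw [Finset.sum_eq_single i (fun s _ hs => by rw [Matrix.one_apply_ne hs, map_zero, zero_mul]) (by simp),
      Matrix.one_apply_eq, map_one, one_mul]
  rw [← h1]
  refine Ideal.mem_map_of_mem _ (Ideal.sum_mem _ fun r _ => Ideal.mul_mem_left _ _ ?_)
  exact HomogeneousIdeal.mem_irrelevant_of_mem _ one_pos (ProjLib.X_mem_polyGrading n k r)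

/-- Linear substitution of the coordinates of projective space. -/
noncomputable def linMap (M : (Matrix (Fin (n + 1)) (Fin (n + 1)) k)ˣ) :
    CohB1.ProjSpace n k ⟶ CohB1.ProjSpace n k :=
  Proj.map (linGraded M.1) (linGraded_irrelevant M)

theorem pt_linMap (M : (Matrix (Fin (n + 1)) (Fin (n + 1)) k)ˣ) (q : k →+* S) (v : Fin (n + 1) → S)
    (i j : Fin (n + 1)) (hv : IsUnit (v i)) (hj : IsUnit ((v ᵥ* M.1.map q) j)) :
    pt q v i hv ≫ linMap M = pt q (v ᵥ* M.1.map q) j hj := by
  have hs : IsUnit (eval₂Hom q v (linGraded M.1 (X j))) := by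
    rw [linGraded_apply, eval_linSubst, eval₂Hom_X']; exact hj
  have hmem := (linGraded M.1).2 (ProjLib.X_mem_polyGrading n k j)
  refine (congrArg (· ≫ linMap M) (ptS_eq q v _ (linGraded M.1 (X j)) _ hmem _ one_pos _ hs)).trans ?_
  refine (Category.assoc _ _ _).trans ?_
  refine (congrArg (fun g => Spec.map (CommRingCat.ofHom (evalS q v (linGraded M.1 (X j)) hs)) ≫ g)
    (Proj.awayι_comp_map (linGraded M.1) (linGraded_irrelevant M) one_pos (X j : A)
      (ProjLib.X_mem_polyGrading n k j))).trans ?_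
  refine (Category.assoc _ _ _).symm.trans ?_
  rw [← Spec.map_comp, ← CommRingCat.ofHom_comp]
  refine congrArg (fun r => Spec.map (CommRingCat.ofHom r) ≫ Proj.awayι 𝓖 (X j : A) _ _)
    (evalS_ext (ProjLib.X_mem_polyGrading n k j) _ _ _ _ fun N p hp => ?_)
  rw [RingHom.comp_apply, Away.map_mk, ← eval_linSubst, ← eval_linSubst, ← linGraded_apply, ← linGraded_apply]
  exact evalS_mk q v _ hs _ N _ _

theorem exists_notMem {v : Fin (n + 1) → S} {i : Fin (n + 1)} (hv : v i = 1) (x : PrimeSpectrum S)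
    {M : Matrix (Fin (n + 1)) (Fin (n + 1)) S} (hM : IsUnit M) :
    ∃ j, (v ᵥ* M) j ∉ x.asIdeal := by
  by_contra! h
  obtain ⟨N, hN⟩ := hM.exists_right_inv
  have hv' : v i = ∑ t, (v ᵥ* M) t * N t i := by
    show v i = ((v ᵥ* M) ᵥ* N) i
    rw [Matrix.vecMul_vecMul, hN, Matrix.vecMul_one]
  exact x.2.ne_top ((Ideal.eq_top_iff_one _).2 (hv ▸ hv' ▸ Ideal.sum_mem _ fun t _ => Ideal.mul_mem_right _ _ (h t)))

theorem isUnit_map (M : (Matrix (Fin (n + 1)) (Fin (n + 1)) k)ˣ) (q : k →+* S) : IsUnit (M.1.map q) :=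
  M.isUnit.map q.mapMatrix

theorem map_vecMul (φ : S →+* T) (q : k →+* S) (v : Fin (n + 1) → S) (M : Matrix (Fin (n + 1)) (Fin (n + 1)) k) :
    (fun l => φ ((v ᵥ* M.map q) l)) = (fun l => φ (v l)) ᵥ* M.map (φ.comp q) := by
  funext l
  rw [RingHom.map_vecMul, Matrix.map_map]
  rfl

/-- A morphism agreeing with the linear substitution on coordinates is the linear substitution. -/
theorem eq_linMap (M : (Matrix (Fin (n + 1)) (Fin (n + 1)) k)ˣ) {Z : Scheme.{u}}
    (a : CohB1.ProjSpace n k ⟶ Z) (b : CohB1.ProjSpace n k ⟶ Z)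
    (h : ∀ (S : Type u) [CommRing S] (q : k →+* S) (v : Fin (n + 1) → S) (i j : Fin (n + 1)) (hv : IsUnit (v i))
      (hj : IsUnit ((v ᵥ* M.1.map q) j)), pt q v i hv ≫ a = pt q (v ᵥ* M.1.map q) j hj ≫ b) :
    a = linMap M ≫ b := by
  refine (ptSys n k).hom_ext _ _ fun S _ q i v hv => ?_
  refine BrSev28.eq_of_local _ _ fun x => ?_
  obtain ⟨j, hj⟩ := exists_notMem hv x (isUnit_map M q)
  refine ⟨_, hj, ?_⟩
  set φ := algebraMap S (Localization.Away ((v ᵥ* M.1.map q) j)) with hφ
  have hju : IsUnit (((fun l => φ (v l)) ᵥ* M.1.map (φ.comp q)) j) := by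
    rw [← map_vecMul φ q v M.1]; exact IsLocalization.Away.algebraMap_isUnit _
  have hiu : IsUnit ((fun l => φ (v l)) i) := by simp [hv]
  have e : Spec.map (CommRingCat.ofHom φ) ≫ (ptSys n k).y S q i v hv = pt (φ.comp q) (fun l => φ (v l)) i hiu :=
    map_ptS φ q v _ _ _ _ _
  rw [← Category.assoc, ← Category.assoc]
  refine (congrArg (· ≫ a) e).trans ?_
  refine (h _ _ _ i j hiu hju).trans ?_
  refine Eq.trans ?_ (congrArg (· ≫ linMap M ≫ b) e).symm
  exact (congrArg (· ≫ b) (pt_linMap M _ _ i j hiu hju).symm).trans (Category.assoc _ _ _)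

theorem linMap_toSpec (M : (Matrix (Fin (n + 1)) (Fin (n + 1)) k)ˣ) :
    linMap M ≫ CohB1.ProjSpace.toSpec n k = CohB1.ProjSpace.toSpec n k :=
  (eq_linMap M _ _ fun _ _ _ _ _ _ _ _ => (ptS_toSpec _ _ _ _ _ _).trans (ptS_toSpec _ _ _ _ _ _).symm).symm

theorem linMap_eq_id (M : (Matrix (Fin (n + 1)) (Fin (n + 1)) k)ˣ) (c : k) (hM : M.1 = Matrix.scalar _ c) :
    linMap M = 𝟙 (CohB1.ProjSpace n k) := by
  refine (Category.comp_id _).symm.trans (eq_linMap M (𝟙 _) (𝟙 _) fun S _ q v i j hv hj => ?_).symm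
  have hw : v ᵥ* M.1.map q = fun l => q c * v l := by
    funext l
    rw [hM, Matrix.scalar_apply, Matrix.diagonal_map (map_zero q), Matrix.vecMul_diagonal, mul_comm]
  simp only [Category.comp_id, hw]
  have hj' : IsUnit (v j) := by
    have h := hj
    rw [congrFun hw j] at h
    exact (IsUnit.mul_iff.1 h).2
  exact (ptS_eq q v _ (X j) _ (ProjLib.X_mem_polyGrading n k j) _ one_pos _ (by simpa using hj')).trans
    (ptS_smul q v (q c) _ _ _ _ _).symm

theorem linMap_comp (M N : (Matrix (Fin (n + 1)) (Fin (n + 1)) k)ˣ) : linMap M ≫ linMap N = linMap (M * N) := by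
  refine (eq_linMap M (linMap (M * N)) (linMap N) fun S _ q v i j hv hj => ?_).symm
  refine BrSev28.eq_of_local _ _ fun x => ?_
  set w := v ᵥ* M.1.map q with hw
  obtain ⟨b, hb⟩ := hj.exists_left_inv
  obtain ⟨l, hl⟩ := exists_notMem (v := fun t => b * w t) hb x (isUnit_map N q)
  refine ⟨_, hl, ?_⟩
  set φ := algebraMap S (Localization.Away (((fun t => b * w t) ᵥ* N.1.map q) l)) with hφ
  have hlu : IsUnit (((fun t => φ (w t)) ᵥ* N.1.map (φ.comp q)) l) := by
    have hu : IsUnit (φ (((fun t => b * w t) ᵥ* N.1.map q) l)) := IsLocalization.Away.algebraMap_isUnit _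
    have e1 : ((fun t => b * w t) ᵥ* N.1.map q) l = b * (w ᵥ* N.1.map q) l := by
      rw [show (fun t => b * w t) = b • w from rfl, Matrix.smul_vecMul]; rfl
    replace hu : IsUnit (φ b * φ ((w ᵥ* N.1.map q) l)) := (map_mul φ _ _) ▸ (congrArg φ e1) ▸ hu
    rw [← map_vecMul φ q w N.1]
    exact (IsUnit.mul_iff.1 hu).2
  have e2 : (fun t => φ (w t)) = (fun t => φ (v t)) ᵥ* M.1.map (φ.comp q) := map_vecMul φ q v M.1
  have hlu' : IsUnit (((fun t => φ (v t)) ᵥ* (M * N).1.map (φ.comp q)) l) := by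
    rw [Units.val_mul, Matrix.map_mul, ← Matrix.vecMul_vecMul, ← e2]; exact hlu
  rw [← Category.assoc, ← Category.assoc]
  refine (congrArg (· ≫ linMap (M * N)) (map_ptS φ q v _ _ _ _ (by simpa using hv.map φ))).trans ?_
  refine (pt_linMap (M * N) _ _ i l (hv.map φ) hlu').trans ?_
  refine Eq.trans ?_ (congrArg (· ≫ linMap N) (map_ptS φ q w _ _ _ _ (by simpa using hj.map φ))).symm
  refine Eq.trans ?_ (pt_linMap N _ _ j l (hj.map φ) hlu).symm
  congr 1
  rw [Units.val_mul, Matrix.map_mul, ← Matrix.vecMul_vecMul, ← e2]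

/-- The automorphism given by a matrix, acting on columns. -/
noncomputable def linAut (M : (Matrix (Fin (n + 1)) (Fin (n + 1)) k)ˣ) :
    Aut (Over.mk (CohB1.ProjSpace.toSpec n k)) :=
  Over.isoMk
    { hom := linMap M
      inv := linMap M⁻¹
      hom_inv_id := by rw [linMap_comp, mul_inv_cancel]; exact linMap_eq_id 1 1 (map_one _).symm
      inv_hom_id := by rw [linMap_comp, inv_mul_cancel]; exact linMap_eq_id 1 1 (map_one _).symm }
    (linMap_toSpec M)

/-- Transpose on units. -/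
noncomputable def tr (M : (Matrix (Fin (n + 1)) (Fin (n + 1)) k)ˣ) : (Matrix (Fin (n + 1)) (Fin (n + 1)) k)ˣ :=
  ⟨M.1ᵀ, (M⁻¹).1ᵀ, by rw [← Matrix.transpose_mul, M.inv_mul, Matrix.transpose_one],
    by rw [← Matrix.transpose_mul, M.mul_inv, Matrix.transpose_one]⟩

variable (n k) in
/-- The action of the general linear group on projective space. -/
noncomputable def glHom :
    Matrix.GeneralLinearGroup (Fin (n + 1)) k →* Aut (Over.mk (CohB1.ProjSpace.toSpec n k)) where
  toFun M := linAut (tr M)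
  map_one' := Iso.ext (Over.OverMorphism.ext (linMap_eq_id _ 1 (by simp [tr])))
  map_mul' M N := Iso.ext (Over.OverMorphism.ext (by
    show linMap (tr (M * N)) = linMap (tr N) ≫ linMap (tr M)
    rw [linMap_comp]
    congr 1
    exact Units.ext (Matrix.transpose_mul _ _)))

end Lin

end Groth.Agent.CommAlg4.ProjAut

namespace Groth.Agent.CommAlg4.ProjAut

open Matrix

variable {n : ℕ} {k : Type u} [Field k]

theorem exists_scalar_of_linMap_eq_id (M : (Matrix (Fin (n + 1)) (Fin (n + 1)) k)ˣ)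
    (h : linMap M = 𝟙 (CohB1.ProjSpace n k)) : ∃ c : k, M.1 = Matrix.scalar _ c := by
  have key : ∀ (i : Fin (n + 1)) (v : Fin (n + 1) → k), v i = 1 → ∀ l, (v ᵥ* M.1) l = (v ᵥ* M.1) i * v l := by
    intro i v hv
    have hid : M.1.map (RingHom.id k) = M.1 := Matrix.ext fun _ _ => rfl
    obtain ⟨j, hj⟩ := exists_notMem hv (⊥ : PrimeSpectrum k) (M.isUnit)
    have hju : IsUnit ((v ᵥ* M.1.map (RingHom.id k)) j) := by
      rw [hid]; exact isUnit_iff_ne_zero.2 fun h0 => hj (h0 ▸ zero_mem _)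
    have hvu : IsUnit (v i) := hv ▸ isUnit_one
    have e := pt_linMap M (RingHom.id k) v i j hvu hju
    rw [h, Category.comp_id] at e
    obtain ⟨c, hc⟩ := pt_inj _ _ _ _ _ _ _ e
    rw [hid] at hc
    intro l
    rw [hc l, hc i, hv, mul_one]
  have hdiag : ∀ a b, a ≠ b → M.1 a b = 0 := fun a b hab => by
    have := key a (Pi.single a 1) (Pi.single_eq_same a 1) b
    rwa [Matrix.single_one_vecMul, Matrix.row_apply, Pi.single_eq_of_ne hab.symm, mul_zero] at this
  have hconst : ∀ a, M.1 a a = M.1 0 0 := fun a => by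
    by_cases ha : a = 0
    · rw [ha]
    have := key 0 (Pi.single 0 1 + Pi.single a 1) (by simp [Ne.symm ha]) a
    simpa [Matrix.add_vecMul, hdiag 0 a (Ne.symm ha), hdiag a 0 ha, ha] using this
  refine ⟨M.1 0 0, Matrix.ext fun a b => ?_⟩
  by_cases hab : a = b
  · subst hab; simp [hconst a]
  · simp [hdiag a b hab, hab]

theorem glHom_surjective [IsSeparated (CohB1.ProjSpace.toSpec n k)] : Function.Surjective (glHom n k) := by
  intro a
  obtain ⟨M, hM⟩ := BrSev29.PtSys.exists_matrix (P := ptSys n k) ((Over.forget _).mapIso a) (Over.w a.hom)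
  refine ⟨tr M, Iso.ext (Over.OverMorphism.ext ?_)⟩
  show linMap (tr (tr M)) = a.hom.left
  rw [show tr (tr M) = M from Units.ext (Matrix.transpose_transpose _)]
  refine ((eq_linMap M a.hom.left (𝟙 _) fun S _ q v i j hv hj => ?_).trans (Category.comp_id _)).symm
  rw [Category.comp_id]
  have hrep : ∀ (w : Fin (n + 1) → S) (l : Fin (n + 1)) (hl : IsUnit (w l)), (ptSys n k).Rep q (pt q w l hl) w := by
    intro w l hl
    obtain ⟨b, hb⟩ := hl.exists_left_inv
    exact ⟨l, b, hb, (ptS_smul q w b _ _ _ _ _).symm⟩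
  exact (hM S q _ v (hrep v i hv) j hj).eq (hrep _ j hj)

theorem glHom_ker : (glHom n k).ker =
    (Units.map (Matrix.scalar (Fin (n + 1)) : k →+* Matrix (Fin (n + 1)) (Fin (n + 1)) k).toMonoidHom).range := by
  ext g
  constructor
  · intro hg
    have h1 : linMap (tr g) = 𝟙 (CohB1.ProjSpace n k) :=
      congrArg (fun t : Aut (Over.mk (CohB1.ProjSpace.toSpec n k)) => t.hom.left) (MonoidHom.mem_ker.1 hg)
    obtain ⟨c, hc⟩ := exists_scalar_of_linMap_eq_id _ h1
    have hgc : g.1 = Matrix.scalar _ c := by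
      have := congrArg Matrix.transpose hc
      simpa [tr] using this
    have hc0 : c ≠ 0 := fun h0 => g.ne_zero (by rw [hgc, h0, map_zero])
    exact ⟨Units.mk0 c hc0, Units.ext hgc.symm⟩
  · rintro ⟨c, rfl⟩
    exact MonoidHom.mem_ker.2 (Iso.ext (Over.OverMorphism.ext (linMap_eq_id _ c.1 (by simp [tr]))))

end Groth.Agent.CommAlg4.ProjAut
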