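import Mathlib.RingTheory.Spectrum.Prime.FreeLocus
import Mathlib.RingTheory.Spectrum.Prime.Noetherian
import Mathlib.RingTheory.LocalRing.ResidueField.Fiber
import Mathlib.RingTheory.KrullDimension.Basic
import Mathlib.RingTheory.Finiteness.Projective
import Mathlib.LinearAlgebra.Dimension.Finite
import Mathlib.LinearAlgebra.Matrix.NonsingularInverse
import Mathlib.LinearAlgebra.Matrix.ToLin
import Mathlib.Tactic

/-!
# Serre's splitting theorem and Bass's cancellation theorem

Via the Eisenbud–Evans reduction of a family of vectors, one vector at a time.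
-/

universe u v

noncomputable section

namespace Groth.Agent.CommAlg4.SerreBass

open PrimeSpectrum

variable {R : Type u} [CommRing R]

/-- reduction of a vector modulo a prime, into the residue field -/
abbrev red (p : PrimeSpectrum R) {N : ℕ} (v : Fin N → R) : Fin N → p.asIdeal.ResidueField :=
  fun i => algebraMap R _ (v i)

/-- the dimension of the span at `p` of a family of vectors -/
abbrev rk (p : PrimeSpectrum R) {N t : ℕ} (v : Fin t → Fin N → R) : ℕ :=
  Module.finrank p.asIdeal.ResidueField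
    (Submodule.span p.asIdeal.ResidueField (Set.range fun i => red p (v i)))

theorem red_add (p : PrimeSpectrum R) {N : ℕ} (v w : Fin N → R) :
    red p (v + w) = red p v + red p w := by
  ext i; simp [red]

theorem red_smul (p : PrimeSpectrum R) {N : ℕ} (a : R) (v : Fin N → R) :
    red p (a • v) = algebraMap R p.asIdeal.ResidueField a • red p v := by
  ext i; simp [red]

theorem rk_le_card (p : PrimeSpectrum R) {N t : ℕ} (v : Fin t → Fin N → R) : rk p v ≤ t := by
  have := finrank_range_le_card (R := p.asIdeal.ResidueField) (fun i => red p (v i))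
  rw [Fintype.card_fin] at this
  exact this

/-- the set where the span has dimension at least `r` is open -/
theorem isOpen_le_rk {N t : ℕ} (v : Fin t → Fin N → R) (r : ℕ) :
    IsOpen {p : PrimeSpectrum R | r ≤ rk p v} := by
  classical
  refine isOpen_iff_forall_mem_open.mpr ?_
  intro p hp
  let K := p.asIdeal.ResidueField
  -- independent subfamily
  obtain ⟨b, hb1, hb2, hb3⟩ := exists_linearIndependent K (Set.range fun i => red p (v i))
  have hfin : b.Finite := (Set.finite_range _).subset hb1
  have : Fintype b := hfin.fintype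
  have hcard : r ≤ Fintype.card b := by
    have h2 : Module.finrank K (Submodule.span K b) = Fintype.card b := by
      rw [finrank_span_set_eq_card hb3, Set.toFinset_card]
    rw [← h2, hb2]; exact hp
  obtain ⟨ι, -, hι⟩ : ∃ g : Fin r ↪ b, True ∧ Function.Injective g := by
    refine ⟨(Fin.castLEEmb hcard).trans (Fintype.equivFin b).symm.toEmbedding, trivial, ?_⟩
    exact Function.Embedding.injective _
  have hsel : ∀ j : Fin r, ∃ i, red p (v i) = (ι j : Fin N → K) := fun j => hb1 (ι j).2
  choose g hg using hsel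
  let M : Matrix (Fin N) (Fin r) R := fun k j => v (g j) k
  let φ := algebraMap R K
  have hind : LinearIndependent K (fun j => red p (v (g j))) := by
    have h' := hb3.comp ι hι
    have : (fun j => red p (v (g j))) = (Subtype.val ∘ ι) := funext hg
    rw [this]; exact h'
  obtain ⟨L, hL⟩ : ∃ L : Matrix (Fin r) (Fin N) K, L * M.map φ = 1 := by
    have hker : LinearMap.ker (M.map φ).mulVecLin = ⊥ := by
      rw [LinearMap.ker_eq_bot]
      exact Matrix.mulVec_injective_iff.mpr hind
    obtain ⟨G, hG⟩ := (M.map φ).mulVecLin.exists_leftInverse_of_injective hker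
    refine ⟨LinearMap.toMatrix' G, ?_⟩
    have h4 := congrArg LinearMap.toMatrix' hG
    rw [LinearMap.toMatrix'_comp, LinearMap.toMatrix'_id] at h4
    rw [← Matrix.toLin'_apply', LinearMap.toMatrix'_toLin'] at h4
    exact h4
  -- clear denominators
  obtain ⟨d, hd⟩ := IsLocalization.exist_integer_multiples_of_finite
    (nonZeroDivisors (R ⧸ p.asIdeal)) (fun ij : Fin r × Fin N => L ij.1 ij.2)
  choose z hz using fun ij => hd ij
  choose y hy using fun ij => Ideal.Quotient.mk_surjective (z ij)
  let L' : Matrix (Fin r) (Fin N) R := fun i j => y (i, j)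
  have hd0 : algebraMap (R ⧸ p.asIdeal) K (d : R ⧸ p.asIdeal) ≠ 0 :=
    (IsLocalization.map_units K d).ne_zero
  have hL' : L'.map φ = algebraMap (R ⧸ p.asIdeal) K (d : R ⧸ p.asIdeal) • L := by
    ext i j
    show φ (y (i, j)) = _
    have h5 : φ (y (i, j)) = algebraMap (R ⧸ p.asIdeal) K (Ideal.Quotient.mk _ (y (i, j))) := rfl
    rw [h5, hy, hz]
    simp [Algebra.smul_def]
  let f := (L' * M).det
  have hf : f ∉ p.asIdeal := by
    intro hmem
    have h6 : φ f = 0 := Ideal.algebraMap_residueField_eq_zero.mpr hmem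
    have h7 : φ f = (L'.map φ * M.map φ).det := by
      rw [← Matrix.map_mul]; exact φ.map_det _
    rw [h7, hL', Matrix.smul_mul, hL, Matrix.det_smul, Matrix.det_one, mul_one] at h6
    exact hd0 (pow_eq_zero_iff'.mp h6).1
  refine ⟨PrimeSpectrum.basicOpen f, ?_, (PrimeSpectrum.basicOpen f).isOpen, hf⟩
  intro q hq
  let ψ := algebraMap R q.asIdeal.ResidueField
  have hu : IsUnit (L'.map ψ * M.map ψ).det := by
    rw [← Matrix.map_mul]
    refine IsUnit.mk0 _ ?_
    have : ψ f = ((L' * M).map ψ).det := ψ.map_det _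
    rw [← this]
    exact fun h => hq (Ideal.algebraMap_residueField_eq_zero.mp h)
  have hinj : LinearIndependent q.asIdeal.ResidueField (fun j => red q (v (g j))) := by
    refine (Matrix.mulVec_injective_iff (M := M.map ψ)).mp ?_
    intro x y hxy
    apply Matrix.mulVec_injective_of_isUnit ((Matrix.isUnit_iff_isUnit_det _).mpr hu)
    show (L'.map ψ * M.map ψ).mulVec x = (L'.map ψ * M.map ψ).mulVec y
    rw [← Matrix.mulVec_mulVec, ← Matrix.mulVec_mulVec, hxy]
  have h8 : r = Module.finrank q.asIdeal.ResidueField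
      (Submodule.span q.asIdeal.ResidueField (Set.range fun j => red q (v (g j)))) := by
    rw [finrank_span_eq_card hinj]; simp
  show r ≤ rk q v
  conv_lhs => rw [h8]
  apply Submodule.finrank_mono
  apply Submodule.span_mono
  rintro _ ⟨j, rfl⟩; exact ⟨g j, rfl⟩

/-- the bad primes form a finite set -/
theorem finite_bad [IsNoetherianRing R] {N t : ℕ} (v : Fin t → Fin N → R)
    (S : Set (PrimeSpectrum R)) (hS : ∀ p ∈ S, ∀ q ≤ p, q ∈ S)
    (δ : PrimeSpectrum R → ℕ) (hδ : ∀ p q, q < p → δ p < δ q)
    (hyp : ∀ p ∈ S, min t (δ p + 1) ≤ rk p v) :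
    {p ∈ S | rk p v < t ∧ rk p v = δ p + 1}.Finite := by
  classical
  have hcl : ∀ r : ℕ, IsClosed {p : PrimeSpectrum R | rk p v ≤ r} := by
    intro r
    have : {p : PrimeSpectrum R | rk p v ≤ r} = {p | r + 1 ≤ rk p v}ᶜ := by
      ext p; simp
    rw [this]; exact (isOpen_le_rk v (r + 1)).isClosed_compl
  choose I hI using fun r => (PrimeSpectrum.isClosed_iff_zeroLocus_ideal _).mp (hcl r)
  have hfin : (⋃ r ∈ Finset.range t,
      {p : PrimeSpectrum R | p.asIdeal ∈ (I r).minimalPrimes}).Finite := by
    refine Set.Finite.biUnion (Finset.finite_toSet _) fun r _ => ?_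
    refine ((I r).finite_minimalPrimes_of_isNoetherianRing).preimage ?_
    intro a _ b _ h; exact PrimeSpectrum.ext h
  refine hfin.subset ?_
  rintro p ⟨hpS, hlt, heq⟩
  rw [Set.mem_iUnion₂]
  refine ⟨rk p v, Finset.mem_range.mpr hlt, ?_⟩
  have hmem : ∀ q : PrimeSpectrum R, rk q v ≤ rk p v ↔ I (rk p v) ≤ q.asIdeal := by
    intro q
    have := congrArg (fun s => q ∈ s) (hI (rk p v))
    simpa using this
  refine ⟨⟨p.2, (hmem p).mp le_rfl⟩, ?_⟩
  rintro J ⟨hJp, hIJ⟩ hJle
  by_contra hne
  let q : PrimeSpectrum R := ⟨J, hJp⟩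
  have hlt' : q < p := lt_of_le_not_ge hJle hne
  have h1 := hyp q (hS p hpS q hlt'.le)
  have h2 := (hmem q).mpr hIJ
  have h3 := hδ p q hlt'
  omega

/-- choose coefficients avoiding finitely many affine conditions at distinct primes -/
theorem exists_coeff {t : ℕ} (B : Finset (PrimeSpectrum R))
    (g : ∀ p : PrimeSpectrum R, Fin (t + 1) → p.asIdeal.ResidueField) (hg : ∀ p ∈ B, g p ≠ 0) :
    ∃ a : Fin t → R, ∀ p ∈ B,
      (∑ i, algebraMap R p.asIdeal.ResidueField (a i) * g p i.castSucc) ≠ g p (Fin.last t) := by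
  classical
  induction B using Finset.strongInduction with
  | H B ih =>
    rcases B.eq_empty_or_nonempty with rfl | hne
    · exact ⟨0, by simp⟩
    -- a minimal prime of B
    obtain ⟨p, hp, hmin⟩ := B.exists_minimal hne
    obtain ⟨a, ha⟩ := ih (B.erase p) (Finset.erase_ssubset hp)
      (fun q hq => hg q (Finset.mem_of_mem_erase hq))
    by_cases hgood : (∑ i, algebraMap R p.asIdeal.ResidueField (a i) * g p i.castSucc) ≠
        g p (Fin.last t)
    · refine ⟨a, fun q hq => ?_⟩
      rcases eq_or_ne q p with rfl | hqp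
      · exact hgood
      · exact ha q (Finset.mem_erase.mpr ⟨hqp, hq⟩)
    push Not at hgood
    obtain ⟨i₀, hi₀⟩ : ∃ i : Fin t, g p i.castSucc ≠ 0 := by
      by_contra hc
      push Not at hc
      refine hg p hp ?_
      funext i
      refine Fin.lastCases ?_ hc i
      rw [← hgood]; simp [hc]
    have hnot : ∀ q ∈ B.erase p, ¬ q.asIdeal ≤ p.asIdeal := by
      intro q hq hle
      have := hmin (Finset.mem_of_mem_erase hq) hle
      exact (Finset.ne_of_mem_erase hq) (le_antisymm hle this)
    obtain ⟨z, hz1, hz2⟩ : ∃ z, (∀ q ∈ B.erase p, z ∈ q.asIdeal) ∧ z ∉ p.asIdeal := by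
      have : ∀ q : B.erase p, ∃ z ∈ q.1.asIdeal, z ∉ p.asIdeal :=
        fun q => SetLike.not_le_iff_exists.mp (hnot q.1 q.2)
      choose z hz1 hz2 using this
      refine ⟨∏ q, z q, fun q hq => ?_, ?_⟩
      · exact Ideal.mem_of_dvd _ (Finset.dvd_prod_of_mem z (Finset.mem_univ ⟨q, hq⟩)) (hz1 ⟨q, hq⟩)
      · intro h
        have := p.2
        obtain ⟨q, -, hq⟩ := (Ideal.IsPrime.prod_mem_iff (p := p.asIdeal)).mp h
        exact hz2 q hq
    refine ⟨a + Pi.single i₀ z, fun q hq => ?_⟩
    simp only [Pi.add_apply, map_add, add_mul, Finset.sum_add_distrib]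
    have hsum : ∑ i, algebraMap R q.asIdeal.ResidueField (Pi.single (M := fun _ => R) i₀ z i) *
        g q i.castSucc = algebraMap R q.asIdeal.ResidueField z * g q i₀.castSucc := by
      rw [Finset.sum_eq_single i₀ (fun i _ hi => by simp [hi]) (by simp)]
      simp
    rw [hsum]
    rcases eq_or_ne q p with rfl | hqp
    · rw [hgood]
      simp only [ne_eq, add_eq_left, mul_eq_zero, not_or]
      exact ⟨fun h => hz2 (Ideal.algebraMap_residueField_eq_zero.mp h), hi₀⟩
    · have hq' : q ∈ B.erase p := Finset.mem_erase.mpr ⟨hqp, hq⟩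
      rw [Ideal.algebraMap_residueField_eq_zero.mpr (hz1 q hq')]
      simpa using ha q hq'

/-- one step: drop the last vector -/
theorem exists_step [IsNoetherianRing R] {N t : ℕ} (v : Fin (t + 1) → Fin N → R)
    (S : Set (PrimeSpectrum R)) (hS : ∀ p ∈ S, ∀ q ≤ p, q ∈ S)
    (δ : PrimeSpectrum R → ℕ) (hδ : ∀ p q, q < p → δ p < δ q)
    (hyp : ∀ p ∈ S, min (t + 1) (δ p + 1) ≤ rk p v) :
    ∃ a : Fin t → R, ∀ p ∈ S,
      min t (δ p + 1) ≤ rk p (fun i => v i.castSucc + a i • v (Fin.last t)) := by
  classical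
  have hfin := finite_bad v S hS δ hδ hyp
  have hdep : ∀ p ∈ hfin.toFinset, ∃ c : Fin (t + 1) → p.asIdeal.ResidueField,
      c ≠ 0 ∧ ∑ i, c i • red p (v i) = 0 := by
    intro p hp
    have hlt := ((Set.Finite.mem_toFinset hfin).mp hp).2.1
    have : ¬ LinearIndependent p.asIdeal.ResidueField (fun i => red p (v i)) := by
      intro h
      have := finrank_span_eq_card h
      simp only [Fintype.card_fin] at this
      exact absurd this (ne_of_lt hlt)
    obtain ⟨c, hc, i, hi⟩ := Fintype.not_linearIndependent_iff.mp this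
    exact ⟨c, fun h => hi (congrFun h i), hc⟩
  choose c hc0 hc1 using hdep
  let g : ∀ p : PrimeSpectrum R, Fin (t + 1) → p.asIdeal.ResidueField :=
    fun p => if h : p ∈ hfin.toFinset then c p h else 0
  obtain ⟨a, ha⟩ := exists_coeff hfin.toFinset g (fun p hp => by simp only [g, dif_pos hp]; exact hc0 p hp)
  refine ⟨a, fun p hp => ?_⟩
  let K := p.asIdeal.ResidueField
  let w := fun i => red p (v i)
  let w' := fun i : Fin t => red p (v i.castSucc + a i • v (Fin.last t))
  let old := Submodule.span K (Set.range w)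
  let new := Submodule.span K (Set.range w')
  have hw' : ∀ i, w' i = w i.castSucc + algebraMap R K (a i) • w (Fin.last t) := by
    intro i; simp [w, w', red_add, red_smul]
  have hle : old ≤ new ⊔ (K ∙ w (Fin.last t)) := by
    rw [Submodule.span_le]
    rintro _ ⟨i, rfl⟩
    refine Fin.lastCases ?_ (fun i => ?_) i
    · exact Submodule.mem_sup_right (Submodule.mem_span_singleton_self _)
    · have : w i.castSucc = w' i + (-(algebraMap R K (a i))) • w (Fin.last t) := by
        rw [hw']; simp [add_assoc]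
      rw [SetLike.mem_coe, this]
      exact Submodule.add_mem_sup (Submodule.subset_span ⟨i, rfl⟩)
        (Submodule.smul_mem _ _ (Submodule.mem_span_singleton_self _))
  show min t (δ p + 1) ≤ Module.finrank K new
  have h0 := hyp p hp
  have hdrop : Module.finrank K old ≤ Module.finrank K new + 1 := by
    refine (Submodule.finrank_mono hle).trans ?_
    refine (Submodule.finrank_add_le_finrank_add_finrank _ _).trans ?_
    exact Nat.add_le_add_left ((finrank_span_le_card ({w (Fin.last t)} : Set (Fin N → K))).trans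
      (by simp)) _
  by_cases hbad : p ∈ hfin.toFinset
  · have h9 := ha p hbad
    simp only [g, dif_pos hbad] at h9
    have hrel := hc1 p hbad
    rw [Fin.sum_univ_castSucc] at hrel
    have key : ∑ i, c p hbad i.castSucc • w' i =
        ((∑ i, algebraMap R K (a i) * c p hbad i.castSucc) - c p hbad (Fin.last t)) •
          w (Fin.last t) := by
      simp only [hw', smul_add, smul_smul, Finset.sum_add_distrib, sub_smul, Finset.sum_smul]
      rw [eq_neg_of_add_eq_zero_left hrel]
      rw [sub_eq_add_neg, add_comm]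
      congr 1
      exact Finset.sum_congr rfl fun i _ => by rw [mul_comm]
    have hlast : w (Fin.last t) ∈ new := by
      have : ∑ i, c p hbad i.castSucc • w' i ∈ new :=
        Submodule.sum_mem _ fun i _ => Submodule.smul_mem _ _ (Submodule.subset_span ⟨i, rfl⟩)
      rw [key] at this
      exact (Submodule.smul_mem_iff _ (sub_ne_zero.mpr h9)).mp this
    have : old ≤ new := hle.trans (sup_le le_rfl ((Submodule.span_singleton_le_iff_mem _ _).mpr hlast))
    have := Submodule.finrank_mono this
    change min (t + 1) (δ p + 1) ≤ Module.finrank K old at h0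
    omega
  · rw [Set.Finite.mem_toFinset] at hbad
    change min (t + 1) (δ p + 1) ≤ Module.finrank K old at h0
    have hb : ¬ (Module.finrank K old < t + 1 ∧ Module.finrank K old = δ p + 1) :=
      fun h => hbad ⟨hp, h⟩
    omega

/-- Eisenbud–Evans: a combination `v 0 + ∑ b i • v (i+1)` which is nonzero at every prime of `S`. -/
theorem exists_basic [IsNoetherianRing R] {N : ℕ} :
    ∀ {t : ℕ} (v : Fin (t + 1) → Fin N → R) (S : Set (PrimeSpectrum R))
      (_ : ∀ p ∈ S, ∀ q ≤ p, q ∈ S) (δ : PrimeSpectrum R → ℕ) (_ : ∀ p q, q < p → δ p < δ q)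
      (_ : ∀ p ∈ S, min (t + 1) (δ p + 1) ≤ rk p v),
      ∃ b : Fin t → R, ∀ p ∈ S, red p (v 0 + ∑ i, b i • v i.succ) ≠ 0 := by
  intro t
  induction t with
  | zero =>
    intro v S hS δ hδ hyp
    refine ⟨Fin.elim0, fun p hp h => ?_⟩
    have h0 := hyp p hp
    simp only [Finset.univ_eq_empty, Finset.sum_empty, add_zero] at h
    have : (Set.range fun i => red p (v i)) ⊆ {0} := by
      rintro _ ⟨i, rfl⟩
      rw [show i = 0 from Fin.ext (by omega)]; exact h
    have h1 : rk p v = 0 := by
      rw [rk, Submodule.span_eq_bot.mpr (fun x hx => this hx), finrank_bot]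
    omega
  | succ t ih =>
    intro v S hS δ hδ hyp
    obtain ⟨a, ha⟩ := exists_step v S hS δ hδ hyp
    obtain ⟨b, hb⟩ := ih _ S hS δ hδ ha
    refine ⟨Fin.snoc b (a 0 + ∑ i, b i * a i.succ), fun p hp h => hb p hp ?_⟩
    rw [← h]
    congr 1
    rw [Fin.sum_univ_castSucc]
    simp only [Fin.snoc_castSucc, Fin.snoc_last, Fin.succ_last, smul_add, smul_smul,
      Finset.sum_add_distrib, add_smul, Finset.sum_smul]
    rw [show ((0 : Fin (t+1)).castSucc) = (0 : Fin (t+2)) from rfl]
    simp only [Fin.succ_castSucc]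
    abel

variable (R) in
/-- the dimension of `R/p` as a natural number -/
def dimAt (p : PrimeSpectrum R) : ℕ := (Order.coheight p).toNat

theorem coheight_le_dim {d : ℕ} (hdim : ringKrullDim R ≤ d) (p : PrimeSpectrum R) :
    Order.coheight p ≤ d := by
  have := (Order.coheight_le_krullDim p).trans hdim
  exact_mod_cast this

theorem dimAt_le {d : ℕ} (hdim : ringKrullDim R ≤ d) (p : PrimeSpectrum R) : dimAt R p ≤ d :=
  ENat.toNat_le_of_le_natCast (coheight_le_dim hdim p)

theorem dimAt_lt {d : ℕ} (hdim : ringKrullDim R ≤ d) {p q : PrimeSpectrum R} (h : q < p) :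
    dimAt R p < dimAt R q := by
  have hp := coheight_le_dim hdim p
  have hq := coheight_le_dim hdim q
  have hlt := Order.coheight_strictAnti h (lt_of_le_of_lt hp (ENat.natCast_lt_top d))
  have hp' := ENat.natCast_toNat (ne_top_of_le_ne_top (ENat.natCast_ne_top d) hp)
  have hq' := ENat.natCast_toNat (ne_top_of_le_ne_top (ENat.natCast_ne_top d) hq)
  rw [← hp', ← hq'] at hlt
  exact_mod_cast hlt

open TensorProduct in
/-- the generators of a projective module span a space of dimension `rankAtStalk` at each prime -/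
theorem rankAtStalk_le_rk {P : Type v} [AddCommGroup P] [Module R P] [Module.Finite R P]
    [Module.Projective R P] {N : ℕ} (f : (Fin N → R) →ₗ[R] P) (g : P →ₗ[R] (Fin N → R))
    (hfg : f ∘ₗ g = LinearMap.id) (p : PrimeSpectrum R) :
    Module.rankAtStalk P p ≤ rk p (fun i => g (f (Pi.single i 1))) := by
  classical
  rw [Module.rankAtStalk_eq]
  let K := p.asIdeal.ResidueField
  let e : (K ⊗[R] (Fin N → R)) ≃ₗ[K] (Fin N → K) := TensorProduct.piScalarRight R K K (Fin N)
  let G : (K ⊗[R] P) →ₗ[K] (Fin N → K) := e.toLinearMap ∘ₗ g.baseChange K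
  have hG : Function.Injective G := by
    apply e.injective.comp
    intro x y h
    have h' := congrArg (f.baseChange K) h
    rwa [← LinearMap.comp_apply, ← LinearMap.comp_apply, ← LinearMap.baseChange_comp, hfg,
      LinearMap.baseChange_id, LinearMap.id_apply, LinearMap.id_apply] at h'
  show Module.finrank K (K ⊗[R] P) ≤ _
  rw [← LinearMap.finrank_range_of_inj hG]
  apply Submodule.finrank_mono
  rintro _ ⟨x, rfl⟩
  induction x using TensorProduct.induction_on with
  | zero => simp
  | add a b ha hb => simpa using add_mem ha hb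
  | tmul k x =>
    have hG' : ∀ y : P, G (k ⊗ₜ[R] y) = k • red p (g y) := by
      intro y; ext i
      simp [G, e, red, Algebra.smul_def, mul_comm]
      left; rfl
    rw [hG']
    refine Submodule.smul_mem _ _ ?_
    have hx : x = ∑ i, (g x i) • f (Pi.single i 1) := by
      conv_lhs => rw [← LinearMap.id_apply (R := R) x, ← hfg, LinearMap.comp_apply,
        pi_eq_sum_univ' (g x), map_sum]
      simp
    rw [hx, map_sum]
    have : red p (∑ i, g ((g x i) • f (Pi.single i 1))) =
        ∑ i, algebraMap R K (g x i) • red p (g (f (Pi.single i 1))) := by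
      funext j
      simp [red, Finset.sum_apply, map_sum, Algebra.smul_def]
      exact Finset.sum_congr rfl fun _ _ => rfl
    rw [this]
    exact Submodule.sum_mem _ fun i _ => Submodule.smul_mem _ _ (Submodule.subset_span ⟨i, rfl⟩)

/-- vectors nonzero modulo every prime admit a functional with value one -/
theorem exists_functional {N : ℕ} (s : Fin N → R) (h : ∀ p : PrimeSpectrum R, red p s ≠ 0) :
    ∃ ψ : (Fin N → R) →ₗ[R] R, ψ s = 1 := by
  have htop : Ideal.span (Set.range s) = ⊤ := by
    by_contra hne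
    obtain ⟨m, hm, hle⟩ := Ideal.exists_le_maximal _ hne
    refine h ⟨m, hm.isPrime⟩ ?_
    funext i
    exact Ideal.algebraMap_residueField_eq_zero.mpr (hle (Ideal.subset_span ⟨i, rfl⟩))
  have h1 : (1 : R) ∈ Ideal.span (Set.range s) := htop ▸ Submodule.mem_top
  obtain ⟨c, hc⟩ := Ideal.mem_span_range_iff_exists_fun.mp h1
  refine ⟨∑ i, c i • LinearMap.proj i, ?_⟩
  simpa using hc

variable [IsNoetherianRing R]

/-- **Serre**: a projective module of rank `> d` has a unimodular element. -/
theorem exists_unimodular {d n : ℕ} (hdim : ringKrullDim R ≤ d) (P : Type v) [AddCommGroup P]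
    [Module R P] [Module.Finite R P] [Module.Projective R P]
    (hrk : ∀ p : PrimeSpectrum R, Module.rankAtStalk (R := R) P p = n) (hnd : d < n) :
    ∃ (s : P) (ψ : P →ₗ[R] R), ψ s = 1 := by
  classical
  obtain ⟨N, f, g, -, -, hfg⟩ := Module.Finite.exists_comp_eq_id_of_projective R P
  let v : Fin (N + 1) → Fin N → R := Fin.cons 0 (fun i => g (f (Pi.single i 1)))
  obtain ⟨b, hb⟩ := exists_basic v Set.univ (fun _ _ _ _ => trivial) (dimAt R)
    (fun p q h => dimAt_lt hdim h) (fun p _ => by
      refine (min_le_right _ _).trans ?_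
      have h1 := rankAtStalk_le_rk f g hfg p
      rw [hrk] at h1
      have h2 := dimAt_le hdim p
      refine (show dimAt R p + 1 ≤ _ by omega : _ ≤ rk p (fun i => g (f (Pi.single i 1)))).trans ?_
      apply Submodule.finrank_mono
      apply Submodule.span_mono
      rintro _ ⟨i, rfl⟩; exact ⟨i.succ, by simp [v]⟩)
  let s : P := ∑ i, b i • f (Pi.single i 1)
  have hs : v 0 + ∑ i, b i • v i.succ = g s := by simp [v, s]
  obtain ⟨ψ, hψ⟩ := exists_functional (g s) (fun p => hs ▸ hb p trivial)
  exact ⟨s, ψ ∘ₗ g, hψ⟩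

/-- if `(x, a)` is unimodular in `P × R` and the rank of `P` exceeds `d`, then some `x + a • q`
is unimodular in `P`. -/
theorem exists_transvection {d n : ℕ} (hdim : ringKrullDim R ≤ d) (P : Type v) [AddCommGroup P]
    [Module R P] [Module.Finite R P] [Module.Projective R P]
    (hrk : ∀ p : PrimeSpectrum R, Module.rankAtStalk (R := R) P p = n) (hnd : d < n)
    (x : P) (a : R) (φ : P × R →ₗ[R] R) (hφ : φ (x, a) = 1) :
    ∃ (q : P) (ψ : P →ₗ[R] R), ψ (x + a • q) = 1 := by
  classical
  obtain ⟨N, f, g, -, -, hfg⟩ := Module.Finite.exists_comp_eq_id_of_projective R P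
  let v : Fin (N + 1) → Fin N → R := Fin.cons (g x) (fun i => a • g (f (Pi.single i 1)))
  let S : Set (PrimeSpectrum R) := {p | a ∉ p.asIdeal}
  obtain ⟨b, hb⟩ := exists_basic v S (fun p hp q hq h => hp (hq h)) (dimAt R)
    (fun p q h => dimAt_lt hdim h) (fun p hp => by
      refine (min_le_right _ _).trans ?_
      have h1 := rankAtStalk_le_rk f g hfg p
      rw [hrk] at h1
      have h2 := dimAt_le hdim p
      refine (show dimAt R p + 1 ≤ _ by omega : _ ≤ rk p (fun i => g (f (Pi.single i 1)))).trans ?_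
      apply Submodule.finrank_mono
      rw [Submodule.span_le]
      rintro _ ⟨i, rfl⟩
      have ha : algebraMap R p.asIdeal.ResidueField a ≠ 0 :=
        fun h => hp (Ideal.algebraMap_residueField_eq_zero.mp h)
      refine (Submodule.smul_mem_iff _ ha).mp ?_
      rw [← red_smul]
      exact Submodule.subset_span ⟨i.succ, by simp [v]⟩)
  let q : P := ∑ i, b i • f (Pi.single i 1)
  have hs : v 0 + ∑ i, b i • v i.succ = g (x + a • q) := by
    simp [v, q, Finset.smul_sum, smul_smul, mul_comm a]
  have hall : ∀ p : PrimeSpectrum R, red p (g (x + a • q)) ≠ 0 := by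
    intro p
    by_cases hp : a ∈ p.asIdeal
    · intro h0
      have h1 : ∀ i, g x i ∈ p.asIdeal := by
        intro i
        have hi : algebraMap R p.asIdeal.ResidueField (g (x + a • q) i) = 0 := congrFun h0 i
        rw [Ideal.algebraMap_residueField_eq_zero, map_add, map_smul] at hi
        exact (Ideal.add_mem_iff_left _ (p.asIdeal.mul_mem_right _ hp)).mp hi
      have hx : x = ∑ i, g x i • f (Pi.single i 1) := by
        conv_lhs => rw [← LinearMap.id_apply (R := R) x, ← hfg, LinearMap.comp_apply,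
          pi_eq_sum_univ' (g x), map_sum]
        simp
      refine p.2.ne_top ((Ideal.eq_top_iff_one _).mpr ?_)
      rw [← hφ]
      have : (x, a) = (∑ i, g x i • ((f (Pi.single i 1), 0) : P × R)) + a • ((0, 1) : P × R) := by
        ext <;> simp [Prod.fst_sum, Prod.snd_sum, ← hx]
      rw [this, map_add, map_sum, map_smul]
      exact add_mem (Ideal.sum_mem _ fun i _ => by
        rw [map_smul]; exact p.asIdeal.mul_mem_right _ (h1 i)) (p.asIdeal.mul_mem_right _ hp)
    · exact hs ▸ hb p hp
  obtain ⟨ψ, hψ⟩ := exists_functional _ hall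
  exact ⟨q, ψ ∘ₗ g, hψ⟩

/-- **Bass cancellation**, one copy of `R`. -/
theorem nonempty_equiv_of_prod_self {d n : ℕ} (hdim : ringKrullDim R ≤ d) (P : Type v)
    [AddCommGroup P] [Module R P] [Module.Finite R P] [Module.Projective R P]
    (hrk : ∀ p : PrimeSpectrum R, Module.rankAtStalk (R := R) P p = n) (hnd : d < n)
    (P' : Type*) [AddCommGroup P'] [Module R P'] (e : (P' × R) ≃ₗ[R] (P × R)) :
    Nonempty (P' ≃ₗ[R] P) := by
  obtain ⟨q, ψ, hψ⟩ := exists_transvection hdim P hrk hnd (e (0, 1)).1 (e (0, 1)).2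
    (LinearMap.snd R P' R ∘ₗ e.symm.toLinearMap) (by simp)
  set x := (e (0, 1)).1
  set a := (e (0, 1)).2
  set s := x + a • q
  -- three transvections
  let T (h : R →ₗ[R] P) : (P × R) ≃ₗ[R] (P × R) :=
    LinearEquiv.ofLinearMap
      (LinearMap.prod (LinearMap.fst R P R + h ∘ₗ LinearMap.snd R P R) (LinearMap.snd R P R))
      (LinearMap.prod (LinearMap.fst R P R - h ∘ₗ LinearMap.snd R P R) (LinearMap.snd R P R))
      (by ext z <;> simp) (by ext z <;> simp)
  let U (k : P →ₗ[R] R) : (P × R) ≃ₗ[R] (P × R) :=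
    LinearEquiv.ofLinearMap
      (LinearMap.prod (LinearMap.fst R P R) (LinearMap.snd R P R + k ∘ₗ LinearMap.fst R P R))
      (LinearMap.prod (LinearMap.fst R P R) (LinearMap.snd R P R - k ∘ₗ LinearMap.fst R P R))
      (by ext z <;> simp) (by ext z <;> simp)
  let E := ((e.trans (T (LinearMap.toSpanSingleton R P q))).trans (U ((1 - a) • ψ))).trans
    (T (-LinearMap.toSpanSingleton R P s))
  have hE : E (0, 1) = (0, 1) := by
    show T _ (U _ (T _ (e (0, 1)))) = _
    have h1 : T (LinearMap.toSpanSingleton R P q) (e (0, 1)) = (s, a) := by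
      ext <;> simp [T, s, x, a]
    rw [h1]
    have h2 : U ((1 - a) • ψ) (s, a) = (s, (1 : R)) := by ext <;> simp [U, hψ]
    rw [h2]
    ext <;> simp [T]
  have key : ∀ (z : P') (r : R), E (z, r) = ((E (z, 0)).1, (E (z, 0)).2 + r) := by
    intro z r
    have : (z, r) = (z, (0 : R)) + r • ((0 : P'), (1 : R)) := by ext <;> simp
    rw [this, map_add, map_smul, hE]; ext <;> simp
  refine ⟨LinearEquiv.ofBijective (LinearMap.fst R P R ∘ₗ E.toLinearMap ∘ₗ LinearMap.inl R P' R)
    ⟨?_, ?_⟩⟩
  · rw [← LinearMap.ker_eq_bot, LinearMap.ker_eq_bot']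
    intro z hz
    have hz' : (E (z, 0)).1 = 0 := hz
    have h4 : E (z, - (E (z, 0)).2) = E 0 := by
      rw [key, map_zero]; ext <;> simp [hz']
    exact congrArg Prod.fst (E.injective h4)
  · intro y
    refine ⟨(E.symm (y, 0)).1, ?_⟩
    have h5 := key (E.symm (y, 0)).1 (E.symm (y, 0)).2
    rw [Prod.mk.eta, E.apply_symm_apply] at h5
    exact (congrArg Prod.fst h5).symm

/-- **Bass cancellation**. -/
theorem cancel {d n : ℕ} (hdim : ringKrullDim R ≤ d) (hnd : d < n)
    (P P' : Type u) [AddCommGroup P] [Module R P] [Module.Finite R P] [Module.Projective R P]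
    [AddCommGroup P'] [Module R P']
    (hrk : ∀ p : PrimeSpectrum R, Module.rankAtStalk (R := R) P p = n)
    (m : ℕ) (e : (P' × (Fin m → R)) ≃ₗ[R] (P × (Fin m → R))) :
    Nonempty (P' ≃ₗ[R] P) := by
  induction m with
  | zero => exact ⟨(LinearEquiv.prodUnique (R := R)).symm ≪≫ₗ e ≪≫ₗ LinearEquiv.prodUnique⟩
  | succ m ih =>
    let sp (Q : Type u) [AddCommGroup Q] [Module R Q] :
        (Q × (Fin (m + 1) → R)) ≃ₗ[R] (Q × (Fin m → R)) × R :=
      (LinearEquiv.refl R Q).prodCongr
          ((Fin.consLinearEquiv R (fun _ => R)).symm ≪≫ₗ LinearEquiv.prodComm R R (Fin m → R))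
        ≪≫ₗ (LinearEquiv.prodAssoc R Q (Fin m → R) R).symm
    rcases subsingleton_or_nontrivial R with hR | hR
    · have := Module.subsingleton R P
      have := Module.subsingleton R P'
      exact ⟨LinearEquiv.ofSubsingleton _ _⟩
    obtain ⟨e'⟩ := nonempty_equiv_of_prod_self (n := n + m) hdim (P × (Fin m → R)) (fun p => by
      rw [Module.rankAtStalk_prod]; simp [hrk]) (by omega) (P' × (Fin m → R))
      ((sp P').symm ≪≫ₗ e ≪≫ₗ sp P)
    exact ih e'

/-- split off `k` free summands -/
theorem exists_split {d : ℕ} (hdim : ringKrullDim R ≤ d) :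
    ∀ (k n : ℕ) (P : Type u) [AddCommGroup P] [Module R P] [Module.Finite R P]
      [Module.Projective R P] (_ : ∀ p : PrimeSpectrum R, Module.rankAtStalk (R := R) P p = n)
      (_ : d + k ≤ n),
      ∃ (P₀ Q : Submodule R P), IsCompl P₀ Q ∧ Nonempty (Q ≃ₗ[R] (Fin k → R)) := by
  intro k
  induction k with
  | zero =>
    intro n P _ _ _ _ _ _
    exact ⟨⊤, ⊥, isCompl_top_bot, ⟨LinearEquiv.ofSubsingleton _ _⟩⟩
  | succ k ih =>
    intro n P _ _ _ _ hrk hle
    obtain ⟨s, ψ, hψ⟩ := exists_unimodular hdim P hrk (by omega)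
    rcases subsingleton_or_nontrivial R with hR | hR
    · have := Module.subsingleton R P
      exact ⟨⊤, ⊥, isCompl_top_bot, ⟨LinearEquiv.ofSubsingleton _ _⟩⟩
    let e : P ≃ₗ[R] (LinearMap.ker ψ × R) :=
      LinearEquiv.ofLinearMap
        (LinearMap.prod (LinearMap.codRestrict (LinearMap.ker ψ)
          (LinearMap.id - (LinearMap.toSpanSingleton R P s) ∘ₗ ψ) (fun z => by simp [hψ])) ψ)
        (LinearMap.coprod (LinearMap.ker ψ).subtype (LinearMap.toSpanSingleton R P s))
        (by
          apply LinearMap.prod_ext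
          · refine LinearMap.ext fun z => Prod.ext (Subtype.ext ?_) ?_ <;>
              simp [LinearMap.mem_ker.mp z.2]
          · refine LinearMap.ext_ring (Prod.ext (Subtype.ext ?_) ?_) <;> simp [hψ])
        (by ext z; simp)
    have : Module.Finite R (LinearMap.ker ψ) :=
      Module.Finite.of_surjective (LinearMap.fst R (LinearMap.ker ψ) R ∘ₗ e.toLinearMap)
        ((LinearMap.fst_surjective (R := R) (M := LinearMap.ker ψ) (M₂ := R)).comp e.surjective)
    have : Module.Projective R (LinearMap.ker ψ) :=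
      Module.Projective.of_split (e.symm.toLinearMap ∘ₗ LinearMap.inl R (LinearMap.ker ψ) R)
        (LinearMap.fst R (LinearMap.ker ψ) R ∘ₗ e.toLinearMap) (by ext z; simp)
    have hrk' : ∀ p : PrimeSpectrum R,
        Module.rankAtStalk (R := R) (LinearMap.ker ψ) p = n - 1 := by
      intro p
      have h1 := hrk p
      rw [Module.rankAtStalk_eq_of_equiv e, Module.rankAtStalk_prod] at h1
      simp at h1
      omega
    obtain ⟨P₀, Q, hc, ⟨eQ⟩⟩ := ih (n - 1) (LinearMap.ker ψ) hrk' (by omega)
    let e₂ : P ≃ₗ[R] P₀ × (Fin (k + 1) → R) :=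
      e ≪≫ₗ ((Submodule.prodEquivOfIsCompl P₀ Q hc).symm ≪≫ₗ
          (LinearEquiv.refl R P₀).prodCongr eQ).prodCongr (LinearEquiv.refl R R) ≪≫ₗ
        LinearEquiv.prodAssoc R P₀ (Fin k → R) R ≪≫ₗ
        (LinearEquiv.refl R P₀).prodCongr
          (LinearEquiv.prodComm R (Fin k → R) R ≪≫ₗ Fin.consLinearEquiv R (fun _ => R))
    refine ⟨(LinearMap.range (LinearMap.inl R P₀ (Fin (k + 1) → R))).map e₂.symm.toLinearMap,
      (LinearMap.range (LinearMap.inr R P₀ (Fin (k + 1) → R))).map e₂.symm.toLinearMap,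
      ?_, ⟨?_⟩⟩
    · exact (Submodule.orderIsoMapComap e₂.symm).isCompl LinearMap.isCompl_range_inl_inr
    · exact (e₂.symm.submoduleMap _).symm ≪≫ₗ
        (LinearEquiv.ofInjective _ LinearMap.inr_injective).symm

end Groth.Agent.CommAlg4.SerreBass
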