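import Mathlib
import Groth.Agent.CommAlg4.SerreBass

/-! The semiring of finite projective modules up to isomorphism; if a tensor power of a projective
module is free, then so is a multiple of it. -/

set_option autoImplicit false
set_option linter.all false
universe u v

namespace Groth.Agent.CommAlg4.ProjTensorPower

open TensorProduct
open scoped Polynomial

variable (R : Type u) [CommRing R]

structure Obj where
  M : Type u
  [acg : AddCommGroup M]
  [mod : Module R M]
  [fin : Module.Finite R M]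
  [proj : Module.Projective R M]

attribute [instance] Obj.acg Obj.mod Obj.fin Obj.proj

variable {R}

instance setoid : Setoid (Obj R) :=
  ⟨fun A B => Nonempty (A.M ≃ₗ[R] B.M),
    fun _ => ⟨LinearEquiv.refl _ _⟩, fun ⟨e⟩ => ⟨e.symm⟩, fun ⟨e⟩ ⟨f⟩ => ⟨e.trans f⟩⟩

variable (R) in
/-- Isomorphism classes of finite projective modules. -/
def S : Type (u + 1) := Quotient (setoid (R := R))

def cls (M : Type u) [AddCommGroup M] [Module R M] [Module.Finite R M] [Module.Projective R M] : S R :=
  Quotient.mk setoid ⟨M⟩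

theorem cls_congr {M N : Type u} [AddCommGroup M] [Module R M] [Module.Finite R M] [Module.Projective R M]
    [AddCommGroup N] [Module R N] [Module.Finite R N] [Module.Projective R N] (e : M ≃ₗ[R] N) :
    cls (R := R) M = cls N :=
  Quotient.sound ⟨e⟩

theorem equiv_of_cls_eq {M N : Type u} [AddCommGroup M] [Module R M] [Module.Finite R M]
    [Module.Projective R M] [AddCommGroup N] [Module R N] [Module.Finite R N] [Module.Projective R N]
    (h : cls (R := R) M = cls N) : Nonempty (M ≃ₗ[R] N) :=
  Quotient.exact h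

instance : Zero (S R) := ⟨cls PUnit.{u + 1}⟩
instance : One (S R) := ⟨cls R⟩
instance : Add (S R) := ⟨Quotient.map₂ (fun A B => ⟨A.M × B.M⟩)
  fun _ _ ⟨e⟩ _ _ ⟨f⟩ => ⟨e.prodCongr f⟩⟩
instance : Mul (S R) := ⟨Quotient.map₂ (fun A B => ⟨A.M ⊗[R] B.M⟩)
  fun _ _ ⟨e⟩ _ _ ⟨f⟩ => ⟨TensorProduct.congr e f⟩⟩

section laws
variable (A B C : Obj R)

theorem zero_tensor : Subsingleton (PUnit.{u + 1} ⊗[R] A.M) := inferInstance

end laws

instance commSemiring : CommSemiring (S R) where
  add_assoc := by
    rintro ⟨A⟩ ⟨B⟩ ⟨C⟩; exact cls_congr (LinearEquiv.prodAssoc R A.M B.M C.M)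
  zero_add := by
    rintro ⟨A⟩; exact cls_congr (LinearEquiv.uniqueProd)
  add_zero := by
    rintro ⟨A⟩; exact cls_congr (LinearEquiv.prodUnique)
  add_comm := by
    rintro ⟨A⟩ ⟨B⟩; exact cls_congr (LinearEquiv.prodComm R A.M B.M)
  mul_assoc := by
    rintro ⟨A⟩ ⟨B⟩ ⟨C⟩; exact cls_congr (TensorProduct.assoc R A.M B.M C.M)
  one_mul := by
    rintro ⟨A⟩; exact cls_congr (TensorProduct.lid R A.M)
  mul_one := by
    rintro ⟨A⟩; exact cls_congr (TensorProduct.rid R A.M)
  mul_comm := by
    rintro ⟨A⟩ ⟨B⟩; exact cls_congr (TensorProduct.comm R A.M B.M)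
  zero_mul := by
    rintro ⟨A⟩; exact cls_congr (LinearEquiv.ofSubsingleton _ _)
  mul_zero := by
    rintro ⟨A⟩; exact cls_congr (LinearEquiv.ofSubsingleton _ _)
  left_distrib := by
    rintro ⟨A⟩ ⟨B⟩ ⟨C⟩; exact cls_congr (TensorProduct.prodRight R R A.M B.M C.M)
  right_distrib := by
    rintro ⟨A⟩ ⟨B⟩ ⟨C⟩; exact cls_congr (TensorProduct.prodLeft R R A.M B.M C.M)
  nsmul := nsmulRec

theorem cls_prod (M N : Type u) [AddCommGroup M] [Module R M] [Module.Finite R M] [Module.Projective R M]
    [AddCommGroup N] [Module R N] [Module.Finite R N] [Module.Projective R N] :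
    cls (R := R) (M × N) = cls M + cls N := rfl

theorem cls_tensor (M N : Type u) [AddCommGroup M] [Module R M] [Module.Finite R M] [Module.Projective R M]
    [AddCommGroup N] [Module R N] [Module.Finite R N] [Module.Projective R N] :
    cls (R := R) (M ⊗[R] N) = cls M * cls N := rfl

instance projective_pi (M : Type u) [AddCommGroup M] [Module R M] [Module.Projective R M] (k : ℕ) :
    Module.Projective R (Fin k → M) :=
  Module.Projective.of_equiv (DirectSum.linearEquivFunOnFintype R (Fin k) (fun _ => M))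

theorem cls_pi (M : Type u) [AddCommGroup M] [Module R M] [Module.Finite R M] [Module.Projective R M] (k : ℕ) :
    cls (R := R) (Fin k → M) = (k : S R) * cls M := by
  induction k with
  | zero =>
    rw [Nat.cast_zero, zero_mul]
    exact cls_congr (LinearEquiv.ofSubsingleton _ _)
  | succ k ih =>
    rw [Nat.cast_succ, add_mul, one_mul, ← ih, ← cls_prod]
    exact cls_congr ((Fin.consLinearEquiv R (fun _ => M)).symm.trans (LinearEquiv.prodComm R M (Fin k → M)))

theorem cls_free (k : ℕ) : cls (R := R) (Fin k → R) = (k : S R) := by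
  rw [cls_pi]; exact mul_one _

/-- The rank at a prime, as a ring homomorphism. -/
noncomputable def rk [Nontrivial R] (q : PrimeSpectrum R) : S R →+* ℕ where
  toFun := Quotient.lift (fun A => Module.rankAtStalk (R := R) A.M q)
    fun _ _ ⟨e⟩ => congrFun (Module.rankAtStalk_eq_of_equiv e) q
  map_one' := by
    show Module.rankAtStalk (R := R) R q = 1
    rw [Module.rankAtStalk_self]; rfl
  map_zero' := by
    show Module.rankAtStalk (R := R) PUnit.{u + 1} q = 0
    rw [Module.rankAtStalk_eq_zero_of_subsingleton]; rfl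
  map_add' := by
    rintro ⟨A⟩ ⟨B⟩
    show Module.rankAtStalk (R := R) (A.M × B.M) q = _
    rw [Module.rankAtStalk_prod]; rfl
  map_mul' := by
    rintro ⟨A⟩ ⟨B⟩
    show Module.rankAtStalk (R := R) (A.M ⊗[R] B.M) q = _
    rw [Module.rankAtStalk_tensorProduct]; rfl

theorem rk_cls [Nontrivial R] (q : PrimeSpectrum R) (M : Type u) [AddCommGroup M] [Module R M]
    [Module.Finite R M] [Module.Projective R M] : rk q (cls M) = Module.rankAtStalk (R := R) M q := rfl

theorem cls_tensorPower (P : Type u) [AddCommGroup P] [Module R P] [Module.Finite R P] [Module.Projective R P] :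
    ∀ (n : ℕ), ∃ (_ : Module.Finite R (TensorPower R n P)) (_ : Module.Projective R (TensorPower R n P)),
      cls (R := R) (TensorPower R n P) = cls P ^ n := by
  intro n
  induction n with
  | zero =>
    let e : TensorPower R 0 P ≃ₗ[R] R := PiTensorProduct.isEmptyEquiv (Fin 0)
    haveI := Module.Finite.equiv e.symm
    haveI := Module.Projective.of_equiv e.symm
    exact ⟨inferInstance, inferInstance, by rw [pow_zero]; exact cls_congr e⟩
  | succ n ih =>
    obtain ⟨_, _, h⟩ := ih
    let e : TensorPower R (n + 1) P ≃ₗ[R] TensorPower R n P ⊗[R] P :=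
      TensorPower.mulEquiv.symm.trans
        (TensorProduct.congr (LinearEquiv.refl R _) (PiTensorProduct.subsingletonEquiv (0 : Fin 1)))
    haveI := Module.Finite.equiv e.symm
    haveI := Module.Projective.of_equiv e.symm
    exact ⟨inferInstance, inferInstance, by rw [pow_succ, ← h, ← cls_tensor]; exact cls_congr e⟩

/-- `c` has a factorisation through the pair `(x, y)`. -/
def MF (c : R) (x y : S R) : Prop :=
  ∃ (A B : Obj R), Quotient.mk setoid A = x ∧ Quotient.mk setoid B = y ∧
    ∃ (u : A.M →ₗ[R] B.M) (v : B.M →ₗ[R] A.M), (∀ a, v (u a) = c • a) ∧ ∀ b, u (v b) = c • b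

theorem MF.smul {c : R} {x y : S R} (t : R) (h : MF c x y) : MF (t * c) x y := by
  obtain ⟨A, B, hA, hB, u, v, h1, h2⟩ := h
  exact ⟨A, B, hA, hB, u, t • v, fun a => by simp [h1, smul_smul], fun b => by simp [h2, smul_smul]⟩

theorem MF.eq_of_one {x y : S R} (h : MF 1 x y) : x = y := by
  obtain ⟨A, B, rfl, rfl, u, v, h1, h2⟩ := h
  exact Quotient.sound ⟨LinearEquiv.ofLinearMap u v (LinearMap.ext fun b => by simpa using h2 b)
    (LinearMap.ext fun a => by simpa using h1 a)⟩

theorem MF.mul {a b : R} {x y x' y' : S R} (h : MF a x y) (h' : MF b x' y') :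
    MF (a + b) (x * x' + y * y') (y * x' + x * y') := by
  obtain ⟨A, B, rfl, rfl, u, v, h1, h2⟩ := h
  obtain ⟨A', B', rfl, rfl, u', v', h1', h2'⟩ := h'
  let AA := A.M ⊗[R] A'.M
  let BB := B.M ⊗[R] B'.M
  let BA := B.M ⊗[R] A'.M
  let AB := A.M ⊗[R] B'.M
  let U : AA × BB →ₗ[R] BA × AB :=
    LinearMap.prod
      ((TensorProduct.map u LinearMap.id).comp (LinearMap.fst R AA BB) -
        (TensorProduct.map LinearMap.id v').comp (LinearMap.snd R AA BB))
      ((TensorProduct.map LinearMap.id u').comp (LinearMap.fst R AA BB) +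
        (TensorProduct.map v LinearMap.id).comp (LinearMap.snd R AA BB))
  let V : BA × AB →ₗ[R] AA × BB :=
    LinearMap.prod
      ((TensorProduct.map v LinearMap.id).comp (LinearMap.fst R BA AB) +
        (TensorProduct.map LinearMap.id v').comp (LinearMap.snd R BA AB))
      ((TensorProduct.map u LinearMap.id).comp (LinearMap.snd R BA AB) -
        (TensorProduct.map LinearMap.id u').comp (LinearMap.fst R BA AB))
  have e1 : V ∘ₗ U = (a + b) • LinearMap.id := by
    apply LinearMap.prod_ext
    · refine TensorProduct.ext' fun z w => ?_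
      simp [U, V, AA, BB, BA, AB, h1, h2, h1', h2', add_smul, TensorProduct.smul_tmul', TensorProduct.tmul_smul]
    · refine TensorProduct.ext' fun z w => ?_
      simp [U, V, AA, BB, BA, AB, h1, h2, h1', h2', add_smul, TensorProduct.smul_tmul', TensorProduct.tmul_smul]

  have e2 : U ∘ₗ V = (a + b) • LinearMap.id := by
    apply LinearMap.prod_ext
    · refine TensorProduct.ext' fun z w => ?_
      simp [U, V, AA, BB, BA, AB, h1, h2, h1', h2', add_smul, TensorProduct.smul_tmul', TensorProduct.tmul_smul]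
    · refine TensorProduct.ext' fun z w => ?_
      simp [U, V, AA, BB, BA, AB, h1, h2, h1', h2', add_smul, TensorProduct.smul_tmul', TensorProduct.tmul_smul]
      abel
  exact ⟨⟨AA × BB⟩, ⟨BA × AB⟩, rfl, rfl, U, V, fun z => LinearMap.congr_fun e1 z,
    fun z => LinearMap.congr_fun e2 z⟩

theorem exists_MF_notMem [Nontrivial R] (P : Type u) [AddCommGroup P] [Module R P] [Module.Finite R P]
    [Module.Projective R P] (q : PrimeSpectrum R) (r : ℕ) (hr : Module.rankAtStalk (R := R) P q = r) :
    ∃ g : R, g ∉ q.asIdeal ∧ MF g (cls P) (r : S R) := by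
  let M := q.asIdeal.primeCompl
  let Rq := Localization.AtPrime q.asIdeal
  let F := Fin r → R
  let fP := LocalizedModule.mkLinearMap M P
  let fF := LocalizedModule.mkLinearMap M F
  haveI : Module.Free Rq (LocalizedModule M P) := Module.free_of_flat_of_isLocalRing
  haveI : Module.Free Rq (LocalizedModule M F) := Module.free_of_flat_of_isLocalRing
  have hd : Module.finrank Rq (LocalizedModule M P) = Module.finrank Rq (LocalizedModule M F) := by
    change Module.rankAtStalk (R := R) P q = Module.rankAtStalk (R := R) F q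
    rw [hr, ← rk_cls q F, cls_free, map_natCast]; rfl
  let e : LocalizedModule M P ≃ₗ[Rq] LocalizedModule M F := LinearEquiv.ofFinrankEq _ _ hd
  haveI : Module.FinitePresentation R P := Module.finitePresentation_of_projective R P
  let hPF := IsLocalizedModule.map M fP fF
  let hFP := IsLocalizedModule.map M fF fP
  obtain ⟨⟨φ, s⟩, hφ⟩ := IsLocalizedModule.surj M (IsLocalizedModule.mapExtendScalars M fP fF Rq) e.toLinearMap
  obtain ⟨⟨ψ, t⟩, hψ⟩ := IsLocalizedModule.surj M (IsLocalizedModule.mapExtendScalars M fF fP Rq) e.symm.toLinearMap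
  have hφ' : ∀ x, fF (φ x) = (s : R) • e (fP x) := fun x => by
    have := LinearMap.congr_fun hφ (fP x)
    simpa [IsLocalizedModule.mapExtendScalars, IsLocalizedModule.map_apply, Submonoid.smul_def] using this.symm
  have hψ' : ∀ x, fP (ψ x) = (t : R) • e.symm (fF x) := fun x => by
    have := LinearMap.congr_fun hψ (fF x)
    simpa [IsLocalizedModule.mapExtendScalars, IsLocalizedModule.map_apply, Submonoid.smul_def] using this.symm
  have k1 : IsLocalizedModule.map M fP fP (ψ ∘ₗ φ) = IsLocalizedModule.map M fP fP ((s * t : R) • LinearMap.id) := by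
    apply IsLocalizedModule.ext M fP (IsLocalizedModule.map_units fP)
    ext x
    simp only [LinearMap.comp_apply, IsLocalizedModule.map_apply, LinearMap.smul_apply, LinearMap.id_apply]
    rw [hψ', hφ', ← LinearEquiv.coe_coe e.symm, LinearMap.map_smul_of_tower, LinearEquiv.coe_coe, e.symm_apply_apply, smul_smul, mul_comm, ← map_smul]
  have k2 : IsLocalizedModule.map M fF fF (φ ∘ₗ ψ) = IsLocalizedModule.map M fF fF ((s * t : R) • LinearMap.id) := by
    apply IsLocalizedModule.ext M fF (IsLocalizedModule.map_units fF)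
    ext x
    simp only [LinearMap.comp_apply, IsLocalizedModule.map_apply, LinearMap.smul_apply, LinearMap.id_apply]
    rw [hφ', hψ', ← LinearEquiv.coe_coe e, LinearMap.map_smul_of_tower, LinearEquiv.coe_coe, e.apply_symm_apply, smul_smul, ← map_smul]
  obtain ⟨w₁, hw₁⟩ := IsLocalizedModule.exists_of_eq (S := M) k1
  obtain ⟨w₂, hw₂⟩ := IsLocalizedModule.exists_of_eq (S := M) k2
  refine ⟨((w₁ : R) * w₂) * (s * t), ?_, ⟨P⟩, ⟨F⟩, rfl, cls_free r, ((w₁ : R) * w₂) • φ, ψ, fun a => ?_, fun b => ?_⟩
  · exact M.mul_mem (M.mul_mem w₁.2 w₂.2) (M.mul_mem s.2 t.2)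
  · have := LinearMap.congr_fun hw₁ a
    simp only [Submonoid.smul_def, LinearMap.smul_apply, LinearMap.comp_apply, LinearMap.id_apply] at this
    rw [LinearMap.smul_apply, map_smul, mul_comm (w₁ : R), ← smul_smul, this]
    simp only [smul_smul]; ring_nf
  · have := LinearMap.congr_fun hw₂ b
    simp only [Submonoid.smul_def, LinearMap.smul_apply, LinearMap.comp_apply, LinearMap.id_apply] at this
    rw [LinearMap.smul_apply, ← smul_smul, this]
    simp only [smul_smul]; ring_nf

/-- stably equal classes -/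
noncomputable def stableIdeal (P : S R) : Ideal ℤ[X] where
  carrier := {z | ∃ p q : ℕ[X], z = p.map (Nat.castRingHom ℤ) - q.map (Nat.castRingHom ℤ) ∧
    ∃ c : S R, p.eval₂ (Nat.castRingHom (S R)) P + c = q.eval₂ (Nat.castRingHom (S R)) P + c}
  zero_mem' := ⟨0, 0, by simp, 0, rfl⟩
  add_mem' := by
    rintro _ _ ⟨p, q, rfl, c, h⟩ ⟨p', q', rfl, c', h'⟩
    refine ⟨p + p', q + q', by simp only [Polynomial.map_add]; ring, c + c', ?_⟩
    rw [Polynomial.eval₂_add, Polynomial.eval₂_add, add_add_add_comm, h, h', add_add_add_comm]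
  smul_mem' := by
    have hsum : ∀ (s : ℤ[X]), ∃ a b : ℕ[X], s = a.map (Nat.castRingHom ℤ) - b.map (Nat.castRingHom ℤ) := by
      intro s
      induction s using Polynomial.induction_on' with
      | add s t hs ht =>
        obtain ⟨a, b, rfl⟩ := hs; obtain ⟨a', b', rfl⟩ := ht
        exact ⟨a + a', b + b', by simp only [Polynomial.map_add]; ring⟩
      | monomial n z =>
        refine ⟨Polynomial.monomial n z.toNat, Polynomial.monomial n (-z).toNat, ?_⟩
        rw [Polynomial.map_monomial, Polynomial.map_monomial, ← map_sub]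
        congr 1
        simp [Int.toNat_sub_toNat_neg]
    rintro s _ ⟨p, q, rfl, c, h⟩
    obtain ⟨a, b, rfl⟩ := hsum s
    let E := Polynomial.eval₂RingHom (Nat.castRingHom (S R)) P
    refine ⟨a * p + b * q, a * q + b * p, by simp only [Polynomial.map_add, Polynomial.map_mul, smul_eq_mul]; ring,
      E a * c + E b * c, ?_⟩
    change E (a * p + b * q) + _ = E (a * q + b * p) + _
    have h1 : E a * (E p + c) = E a * (E q + c) := congrArg (E a * ·) h
    have h2 : E b * (E p + c) = E b * (E q + c) := congrArg (E b * ·) h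
    simp only [map_add, map_mul]
    calc _ = E a * (E p + c) + E b * (E q + c) := by ring
      _ = E a * (E q + c) + E b * (E p + c) := by rw [h1, h2]
      _ = _ := by ring

theorem stable_of_mem {P : S R} {p q : ℕ[X]}
    (h : p.map (Nat.castRingHom ℤ) - q.map (Nat.castRingHom ℤ) ∈ stableIdeal P) :
    ∃ c : S R, p.eval₂ (Nat.castRingHom (S R)) P + c = q.eval₂ (Nat.castRingHom (S R)) P + c := by
  obtain ⟨p', q', he, c, hc⟩ := h
  let E := Polynomial.eval₂RingHom (Nat.castRingHom (S R)) P
  have he' : p + q' = q + p' := Polynomial.map_injective (Nat.castRingHom ℤ) Nat.cast_injective (by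
    simp only [Polynomial.map_add]; linear_combination he)
  have h1 : E p + E q' = E q + E p' := by rw [← map_add, he', map_add]
  refine ⟨E q' + c, ?_⟩
  change E p + _ = E q + _
  rw [← add_assoc, h1, add_assoc]
  exact congrArg (E q + ·) hc

theorem exists_free_multiple [IsNoetherianRing R]
    (hdim : ringKrullDim R < ⊤) (P : Type u) [AddCommGroup P] [Module R P] [Module.Finite R P]
    [Module.Projective R P] (n : ℕ) (hn : 1 ≤ n) (hfree : Module.Free R (TensorPower R n P)) :
    ∃ N : ℕ, 1 ≤ N ∧ Module.Free R (Fin N → P) := by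
  classical
  rcases subsingleton_or_nontrivial R with hR | hR
  · exact ⟨1, le_rfl, Module.Free.of_subsingleton' R _⟩
  obtain ⟨_, _, htp⟩ := cls_tensorPower (R := R) P n
  let s := Module.finrank R (TensorPower R n P)
  have hs : cls P ^ n = (s : S R) := by
    rw [← htp, ← cls_free]
    exact cls_congr (LinearEquiv.ofFinrankEq _ _ (by rw [Module.finrank_fin_fun]))
  obtain ⟨q₀⟩ := (inferInstance : Nonempty (PrimeSpectrum R))
  let r := Module.rankAtStalk (R := R) P q₀
  have hpow : ∀ q, Module.rankAtStalk (R := R) P q ^ n = s := fun q => by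
    rw [← rk_cls q P, ← map_pow, hs, map_natCast]; rfl
  have hrk : ∀ q, Module.rankAtStalk (R := R) P q = r := fun q =>
    Nat.pow_left_injective (show n ≠ 0 by omega) ((hpow q).trans (hpow q₀).symm)
  rcases Nat.eq_zero_or_pos r with hr0 | hrpos
  · have : Subsingleton P := Module.rankAtStalk_eq_zero_iff_subsingleton.mp (funext fun q => by rw [hrk, hr0]; rfl)
    exact ⟨1, le_rfl, Module.Free.of_subsingleton R _⟩
  -- nilpotency
  have hg := fun q => exists_MF_notMem P q r (hrk q)
  choose g hgq hgMF using hg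
  have hspan : Ideal.span (Set.range g) = ⊤ := by
    by_contra hne
    obtain ⟨m, hm, hle⟩ := Ideal.exists_le_maximal _ hne
    exact hgq ⟨m, hm.isPrime⟩ (hle (Ideal.subset_span ⟨_, rfl⟩))
  obtain ⟨T, hT, hone⟩ := Submodule.mem_span_finite_of_mem_span (show (1 : R) ∈ Ideal.span (Set.range g) from hspan ▸ trivial)
  let I := stableIdeal (cls (R := R) P)
  let XX : ℤ[X] := Polynomial.X
  have hrec : ∀ T : Finset R, (↑T ⊆ Set.range g) → ∀ c ∈ Ideal.span (T : Set R), ∃ a b : ℕ[X],
      a.map (Nat.castRingHom ℤ) - b.map (Nat.castRingHom ℤ) = (XX - (r : ℤ[X])) ^ T.card ∧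
      MF c (a.eval₂ (Nat.castRingHom (S R)) (cls P)) (b.eval₂ (Nat.castRingHom (S R)) (cls P)) := by
    intro T
    induction T using Finset.induction with
    | empty =>
      intro _ c hc
      refine ⟨1, 0, by simp, ?_⟩
      have hc0 : c = 0 := by simpa using hc
      rw [Polynomial.eval₂_one, Polynomial.eval₂_zero, hc0]
      exact ⟨⟨R⟩, ⟨PUnit.{u + 1}⟩, rfl, rfl, 0, 0, fun a => by simp, fun b => by simp⟩
    | insert x T hx ih =>
      intro hT c hc
      rw [Finset.coe_insert, Ideal.mem_span_insert] at hc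
      obtain ⟨t, z, hz, rfl⟩ := hc
      obtain ⟨a, b, hab, hMF⟩ := ih (fun y hy => hT (Finset.mem_insert_of_mem hy)) z hz
      obtain ⟨q, rfl⟩ := hT (Finset.mem_insert_self x T)
      refine ⟨Polynomial.X * a + (r : ℕ[X]) * b, (r : ℕ[X]) * a + Polynomial.X * b, ?_, ?_⟩
      · rw [Finset.card_insert_of_notMem hx, pow_succ, ← hab]
        simp only [Polynomial.map_add, Polynomial.map_mul, Polynomial.map_X, Polynomial.map_natCast, XX]
        ring
      · have := ((hgMF q).smul t).mul hMF
        simpa [Polynomial.eval₂_add, Polynomial.eval₂_mul] using this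
  obtain ⟨a, b, hab, hMF⟩ := hrec T hT 1 hone
  have hnil : (XX - (r : ℤ[X])) ^ T.card ∈ I := ⟨a, b, hab.symm, 0, by rw [hMF.eq_of_one]⟩
  have hpw : XX ^ n - (r : ℤ[X]) ^ n ∈ I := by
    refine ⟨Polynomial.X ^ n, (r : ℕ[X]) ^ n, by simp [XX], 0, ?_⟩
    rw [Polynomial.eval₂_pow, Polynomial.eval₂_pow, Polynomial.eval₂_X, Polynomial.eval₂_natCast, hs]
    rw [← Nat.cast_pow, hpow q₀]
  obtain ⟨κ, hκ⟩ := Polynomial.powAddExpansion (r : ℤ[X]) (XX - (r : ℤ[X])) n
  rw [add_sub_cancel] at hκ
  set x := XX - (r : ℤ[X]) with hx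
  set al := (n : ℤ[X]) * (r : ℤ[X]) ^ (n - 1) with hal
  have hax : al * x + κ * x ^ 2 ∈ I := by
    have : XX ^ n - (r : ℤ[X]) ^ n = al * x + κ * x ^ 2 := by rw [hκ, hal]; ring
    rw [← this]; exact hpw
  have hj : ∀ j, al ^ j * x - (-κ) ^ j * x ^ (j + 1) ∈ I := by
    intro j
    induction j with
    | zero => simp
    | succ j ih =>
      have := I.add_mem (I.mul_mem_left al ih) (I.mul_mem_left ((-κ) ^ j * x ^ j) hax)
      convert this using 1
      ring
  have hN : (((n * r ^ (n - 1)) ^ T.card : ℕ) : ℤ[X]) * x ∈ I := by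
    have h1 := hj T.card
    have h2 : (-κ) ^ T.card * x ^ (T.card + 1) ∈ I := by
      rw [pow_succ]; exact I.mul_mem_left _ (I.mul_mem_right _ hnil)
    have := I.add_mem h1 h2
    rw [sub_add_cancel] at this
    simpa [hal] using this
  obtain ⟨dN, hdN⟩ : ∃ d : ℕ, ringKrullDim R ≤ d := by
    induction h : ringKrullDim R with
    | bot => exact ⟨0, bot_le⟩
    | coe a =>
      induction a with
      | top => rw [h] at hdim; exact absurd hdim (lt_irrefl _)
      | coe a => exact ⟨a, le_rfl⟩
  let N := (dN + 1) * (n * r ^ (n - 1)) ^ T.card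
  have hNpos : 1 ≤ N := Nat.one_le_iff_ne_zero.mpr (by
    simp only [N, ne_eq, mul_eq_zero, pow_eq_zero_iff', not_or, not_and_or]
    omega)
  refine ⟨N, hNpos, ?_⟩
  have hmem : (N : ℤ[X]) * x ∈ I := by
    simp only [N, Nat.cast_mul]; rw [mul_assoc]; exact I.mul_mem_left _ (by simpa using hN)
  obtain ⟨c, hc⟩ := stable_of_mem (p := (N : ℕ[X]) * Polynomial.X) (q := (N : ℕ[X]) * (r : ℕ[X])) (P := cls (R := R) P) (by
    convert hmem using 1; simp [hx, XX]; ring)
  simp only [Polynomial.eval₂_mul, Polynomial.eval₂_natCast, Polynomial.eval₂_X] at hc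
  rw [← cls_pi, ← Nat.cast_mul, ← cls_free] at hc
  obtain ⟨C, rfl⟩ := Quotient.exists_rep c
  obtain ⟨m, f, hf⟩ := Module.Finite.exists_fin' R C.M
  obtain ⟨sec, hsec⟩ := Module.projective_lifting_property f LinearMap.id hf
  have hsec' : ∀ x, f (sec x) = x := LinearMap.congr_fun hsec
  let K := LinearMap.ker f
  let prK : (Fin m → R) →ₗ[R] K :=
    LinearMap.codRestrict K (LinearMap.id - sec ∘ₗ f) (fun v => by simp [K, hsec'])
  let e : (C.M × K) ≃ₗ[R] (Fin m → R) := LinearEquiv.ofLinearMap (LinearMap.coprod sec K.subtype) (LinearMap.prod f prK)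
    (LinearMap.ext fun v => by simp [prK])
    (LinearMap.ext fun ⟨x, v⟩ => Prod.ext (by simp [hsec', LinearMap.mem_ker.mp v.2])
      (Subtype.ext (by simp [prK, hsec', LinearMap.mem_ker.mp v.2])))
  haveI : Module.Finite R K := Module.Finite.of_surjective prK fun v => ⟨v, Subtype.ext (by simp [prK, LinearMap.mem_ker.mp v.2])⟩
  haveI : Module.Projective R K := Module.Projective.of_split K.subtype prK
    (LinearMap.ext fun v => Subtype.ext (by simp [prK, LinearMap.mem_ker.mp v.2]))
  change cls (Fin N → P) + cls C.M = _ + cls C.M at hc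
  have hCK : cls C.M + cls K = cls (R := R) (Fin m → R) := cls_congr e
  have h2 := congrArg (· + cls K) hc
  simp only [add_assoc, hCK] at h2
  rw [← cls_prod, ← cls_prod] at h2
  obtain ⟨e2⟩ := equiv_of_cls_eq h2
  obtain ⟨e3⟩ := SerreBass.cancel hdN (show dN < N * r from by
    have h1 : 1 ≤ (n * r ^ (n - 1)) ^ T.card := Nat.one_le_pow _ _ (Nat.mul_pos hn (pow_pos hrpos _))
    calc dN < (dN + 1) * 1 * 1 := by omega
      _ ≤ N * r := Nat.mul_le_mul (Nat.mul_le_mul le_rfl h1) hrpos)
    (Fin (N * r) → R) (Fin N → P) (fun q => by rw [← rk_cls q, cls_free, map_natCast]; rfl) m e2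
  exact Module.Free.of_equiv e3.symm

end Groth.Agent.CommAlg4.ProjTensorPower
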