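import Groth.Prelude.Def_CGrpSh
import Mathlib.CategoryTheory.Sites.EpiMono

/-! Local lifting of points along epimorphisms / exact sequences of sheaves of points; gluing of morphisms. -/

set_option autoImplicit false
universe u

open CategoryTheory CategoryTheory.Limits MonoidalCategory CartesianMonoidalCategory MonObj AlgebraicGeometry Opposite

namespace Groth.Agent.CommAlg4.PtsLocal

variable {S : Scheme.{u}}

/-- The sieve of liftable restrictions of a point. -/
def liftSieve {M N : Over S} (π : M ⟶ N) {T : Over S} (y : T ⟶ N) : Sieve T where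
  arrows T' f := ∃ x : T' ⟶ M, x ≫ π = f ≫ y
  downward_closed := by
    rintro T' T'' f ⟨x, hx⟩ g
    exact ⟨g ≫ x, by rw [Category.assoc, hx, Category.assoc]⟩

variable {K : Precoverage Scheme.{u}}

theorem liftSieve_mem [(QuotSh.J K S).Subcanonical] {M N : Over S} [GrpObj M] [IsCommMonObj M] [GrpObj N]
    [IsCommMonObj N] (π : M ⟶ N) [IsMonHom π] (h : Epi (CGrpSh.ptsMap K π)) {T : Over S} (y : T ⟶ N) :
    liftSieve π y ∈ QuotSh.J K S T := by
  haveI := h
  haveI : Sheaf.IsLocallySurjective (CGrpSh.ptsMap K π) :=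
    (Sheaf.isLocallySurjective_iff_epi' (A := AddCommGrpCat.{u + 1}) _).2 inferInstance
  have hmem := Presheaf.imageSieve_mem (QuotSh.J K S) (CGrpSh.ptsMap K π).hom
    (U := op T) (ULift.up (Additive.ofMul y) : (CGrpSh.pts K N).obj.obj (op T))
  set s := Presheaf.imageSieve (CGrpSh.ptsMap K π).hom (U := T)
    (ULift.up (Additive.ofMul y) : (CGrpSh.pts K N).obj.obj (op T)) with hs
  have hle : s ≤ liftSieve π y := fun T' f hf => by
    obtain ⟨t, ht⟩ := hf
    exact ⟨t.down.toMul, congrArg (fun z => z.down.toMul) ht⟩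
  exact (QuotSh.J K S).superset_covering hle hmem

theorem kerSieve_mem [(QuotSh.J K S).Subcanonical] {L M N : Over S} [GrpObj L] [IsCommMonObj L] [GrpObj M]
    [IsCommMonObj M] [GrpObj N] [IsCommMonObj N] (j : L ⟶ M) (π : M ⟶ N) [IsMonHom j] [IsMonHom π]
    (w : j ≫ π = 1) (hex : (CGrpSh.seq K j π w).Exact) {T : Over S} (x : T ⟶ M) (hx : x ≫ π = 1) :
    liftSieve j x ∈ QuotSh.J K S T := by
  let C := CGrpSh.seq K j π w
  haveI : Epi C.toCycles := hex.epi_toCycles
  haveI : Sheaf.IsLocallySurjective C.toCycles :=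
    (Sheaf.isLocallySurjective_iff_epi' (A := AddCommGrpCat.{u + 1}) _).2 inferInstance
  let F : BigSite.Ab K S ⥤ AddCommGrpCat.{u + 1} :=
    sheafToPresheaf _ _ ⋙ (evaluation (Over S)ᵒᵖ AddCommGrpCat.{u + 1}).obj (op T)
  let D := ShortComplex.mk C.iCycles C.g C.iCycles_g
  have hD : D.Exact := ShortComplex.exact_of_f_is_kernel D C.cyclesIsKernel
  obtain ⟨c, hc⟩ : ∃ c : C.cycles.obj.obj (op T), C.iCycles.hom.app (op T) c =
      (ULift.up (Additive.ofMul x) : (CGrpSh.pts K M).obj.obj (op T)) := (ShortComplex.ab_exact_iff _).1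
    (hD.map_of_mono_of_preservesKernel F (inferInstanceAs (Mono C.iCycles)) inferInstance)
    (ULift.up (Additive.ofMul x)) (ULift.ext _ _ (congrArg Additive.ofMul hx))
  have hmem := Presheaf.imageSieve_mem (QuotSh.J K S) C.toCycles.hom (U := op T) c
  refine (QuotSh.J K S).superset_covering ?_ hmem
  intro T' f hf
  obtain ⟨t, ht⟩ := hf
  refine ⟨t.down.toMul, ?_⟩
  have h3 : ((CGrpSh.ptsMap K j).hom.app (op T')) t = (CGrpSh.pts K M).obj.map f.op
      (ULift.up (Additive.ofMul x) : (CGrpSh.pts K M).obj.obj (op T)) := by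
    have hcomp := ConcreteCategory.congr_hom (congrArg (fun m => m.hom.app (op T')) C.toCycles_i) t
    have hn := ConcreteCategory.congr_hom (C.iCycles.hom.naturality f.op) c
    rw [ConcreteCategory.comp_apply, ConcreteCategory.comp_apply] at hn
    rw [ObjectProperty.FullSubcategory.comp_hom, NatTrans.comp_app, ConcreteCategory.comp_apply, ht, hn] at hcomp
    refine hcomp.symm.trans ?_
    exact congrArg (fun z => (CGrpSh.pts K M).obj.map f.op z) hc
  exact congrArg (fun z => z.down.toMul) h3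

theorem hom_ext [(QuotSh.J K S).Subcanonical] {T N : Over S} {s : Sieve T} (hs : s ∈ QuotSh.J K S T)
    {a b : T ⟶ N} (h : ∀ ⦃T' : Over S⦄ (f : T' ⟶ T), s f → f ≫ a = f ≫ b) : a = b :=
  ((GrothendieckTopology.Subcanonical.isSheaf_of_isRepresentable (J := QuotSh.J K S) (yoneda.obj N)).isSeparated
    _ hs).ext h

theorem exists_glue [(QuotSh.J K S).Subcanonical] {T N : Over S} {s : Sieve T} (hs : s ∈ QuotSh.J K S T)
    (v : ∀ ⦃T' : Over S⦄ (f : T' ⟶ T), s f → (T' ⟶ N))
    (hv : ∀ ⦃T' T'' : Over S⦄ (f : T' ⟶ T) (g : T'' ⟶ T') (hf : s f),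
      g ≫ v f hf = v (g ≫ f) (s.downward_closed hf g)) :
    ∃ a : T ⟶ N, ∀ ⦃T' : Over S⦄ (f : T' ⟶ T) (hf : s f), f ≫ a = v f hf := by
  let fam : Presieve.FamilyOfElements (yoneda.obj N) s.arrows := fun T' f hf => v f hf
  have hc : fam.Compatible := Presieve.compatible_iff_sieveCompatible fam |>.2 fun T' T'' f g hf => (hv f g hf).symm
  obtain ⟨a, ha, -⟩ := (GrothendieckTopology.Subcanonical.isSheaf_of_isRepresentable (J := QuotSh.J K S)
    (yoneda.obj N)) s hs fam hc
  exact ⟨a, fun T' f hf => ha f hf⟩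

end Groth.Agent.CommAlg4.PtsLocal
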