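import Mathlib
import Groth.Agent.CommAlg6.DimMaps

/-!
Dimensions of closed subsets of a punctured spectrum and of their closures.
-/

set_option autoImplicit false
set_option linter.all false

universe u

open TopologicalSpace

namespace Groth.Agent.CommAlg4

attribute [local instance] specializationOrder

/-- Adding a point to which every point specializes adds one to the dimension. -/
theorem topologicalKrullDim_eq_add_one {S T : Type u} [TopologicalSpace S] [TopologicalSpace T] [QuasiSober S] [T0Space S]
    [QuasiSober T] [T0Space T] [Nonempty T] (j : T → S) (hj : Topology.IsEmbedding j) (m : S) (hm : ∀ y, y ⤳ m)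
    (hrange : Set.range j = {m}ᶜ) : topologicalKrullDim S = topologicalKrullDim T + 1 := by
  classical
  rw [CommAlg6.topologicalKrullDim_eq_krullDim_points, CommAlg6.topologicalKrullDim_eq_krullDim_points (X := T),
    ← Order.krullDim_withBot]
  let e : WithBot T → S := fun t => t.recBotCoe m j
  have hne : ∀ t, j t ≠ m := fun t => by
    have : j t ∈ Set.range j := ⟨t, rfl⟩
    rw [hrange] at this
    exact this
  have hinj : Function.Injective e := by
    intro a b h
    induction a using WithBot.recBotCoe with
    | bot => induction b using WithBot.recBotCoe with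
      | bot => rfl
      | coe b => exact absurd h.symm (hne b)
    | coe a => induction b using WithBot.recBotCoe with
      | bot => exact absurd h (hne a)
      | coe b => exact congrArg WithBot.some (hj.injective h)
  have hsurj : Function.Surjective e := by
    intro s
    by_cases hs : s = m
    · exact ⟨⊥, hs.symm⟩
    · obtain ⟨t, ht⟩ : s ∈ Set.range j := by rw [hrange]; exact hs
      exact ⟨t, ht⟩
  refine (Order.krullDim_eq_of_orderIso ({ toEquiv := Equiv.ofBijective e ⟨hinj, hsurj⟩, map_rel_iff' := ?_ })).symm
  intro a b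
  show e a ≤ e b ↔ a ≤ b
  induction a using WithBot.recBotCoe with
  | bot => exact ⟨fun _ => bot_le, fun _ => hm _⟩
  | coe a => induction b using WithBot.recBotCoe with
    | bot =>
      refine ⟨fun h => ?_, fun h => absurd h (WithBot.not_coe_le_bot a)⟩
      exact absurd ((Specializes.antisymm (x := m) (y := j a) h (hm (j a))).eq) (hne a).symm
    | coe b =>
      rw [WithBot.coe_le_coe]
      exact hj.isInducing.specializes_iff

/-- In a space with a closed point `m` to which every point specializes: a nonempty closed subset of the complement,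
with `m` added, gains one in dimension. -/
theorem topologicalKrullDim_insert {S : Type u} [TopologicalSpace S] [QuasiSober S] [T0Space S] (m : S) (hm : ∀ y, y ⤳ m)
    (hmcl : IsClosed ({m} : Set S)) {Z : Set ({m}ᶜ : Set S)} (hZ : IsClosed Z) (hne : Z.Nonempty) :
    IsClosed (insert m (Subtype.val '' Z)) ∧
      topologicalKrullDim ↥(insert m (Subtype.val '' Z)) = topologicalKrullDim ↥Z + 1 := by
  obtain ⟨C, hC, hCZ⟩ := isClosed_induced_iff.1 hZ
  have hins : insert m (Subtype.val '' Z) = C ∪ {m} := by
    rw [← hCZ, Subtype.image_preimage_coe]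
    ext s
    by_cases hs : s = m <;> simp [hs]
  have hcl : IsClosed (insert m (Subtype.val '' Z)) := hins ▸ hC.union hmcl
  refine ⟨hcl, ?_⟩
  haveI : QuasiSober ↥(insert m (Subtype.val '' Z)) := hcl.isClosedEmbedding_subtypeVal.quasiSober
  haveI : QuasiSober ↥(({m} : Set S)ᶜ) := hmcl.isOpen_compl.isOpenEmbedding_subtypeVal.quasiSober
  haveI : QuasiSober ↥Z := hZ.isClosedEmbedding_subtypeVal.quasiSober
  haveI : Nonempty ↥Z := hne.to_subtype
  refine topologicalKrullDim_eq_add_one (fun z : Z => (⟨z.1.1, Set.mem_insert_of_mem _ ⟨z.1, z.2, rfl⟩⟩ :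
    ↥(insert m (Subtype.val '' Z)))) ?_ ⟨m, Set.mem_insert _ _⟩ (fun y => (subtype_specializes_iff _ _).2 (hm y.1)) ?_
  · have h2 : Topology.IsEmbedding (fun z : Z => (z.1.1 : S)) := Topology.IsEmbedding.subtypeVal.comp Topology.IsEmbedding.subtypeVal
    exact h2.codRestrict _ _
  · ext ⟨s, hs⟩
    constructor
    · rintro ⟨z, hz⟩ (h : (⟨s, hs⟩ : ↥(insert m (Subtype.val '' Z))) = _)
      exact z.1.2 ((congrArg Subtype.val hz).trans (congrArg Subtype.val h))
    · intro h
      obtain rfl | ⟨z, hz, rfl⟩ := hs
      · exact absurd rfl h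
      · exact ⟨⟨z, hz⟩, rfl⟩

end Groth.Agent.CommAlg4
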