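import Mathlib
import Groth.Prelude.Def_FlatCA

/-! Universal purity: finite support and geometrically integral fibres. -/
set_option autoImplicit false
universe u
open TensorProduct

namespace Groth.Agent.CommAlg4.PureEasy

variable {A' B' : Type u} [CommRing A'] [CommRing B'] [Algebra A' B']

/-- The prime of `B'` under a prime of a fibre ring. -/
theorem fiber_prime_data (t : Ideal A') [t.IsPrime] (Q : Ideal (t.Fiber B')) [Q.IsPrime] :
    (Q.comap (Algebra.TensorProduct.includeRight (R := A') (A := t.ResidueField) (B := B')).toRingHom).comap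
      (algebraMap A' B') = t :=
  let q := (PrimeSpectrum.primesOverOrderIsoFiber A' B' t).symm ⟨Q, ‹_›⟩
  q.2.2.over.symm

theorem comap_bot_fiber_le (t : Ideal A') [t.IsPrime] (P : Ideal B') [P.IsPrime] [P.LiesOver t]
    (x : B') (hx : (1 : t.ResidueField) ⊗ₜ[A'] x = 0) : x ∈ P := by
  let e := PrimeSpectrum.primesOverOrderIsoFiber A' B' t
  have h1 := congrArg (fun q : t.primesOver B' => (q : Ideal B')) (e.symm_apply_apply ⟨P, ‹_›, ‹_›⟩)
  have h2 := PrimeSpectrum.coe_primesOverOrderIsoFiber_symm_apply (R := A') (S := B') (p := t) (e ⟨P, ‹_›, ‹_›⟩)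
  simp only at h1
  rw [h2] at h1
  rw [← h1, Ideal.mem_comap]
  change (1 : t.ResidueField) ⊗ₜ[A'] x ∈ _
  rw [hx]
  exact Submodule.zero_mem _

attribute [local instance] Algebra.TensorProduct.rightAlgebra in
theorem algebraMap_smul_eq_zero (t : Ideal A') [t.IsPrime] (N' : Type u) [AddCommGroup N'] [Module B' N']
    (b : B') (hb : ∀ n : N', b • n = 0) (z : (t.Fiber B') ⊗[B'] N') :
    algebraMap B' (t.Fiber B') b • z = 0 := by
  induction z using TensorProduct.induction_on with
  | zero => exact smul_zero _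
  | add x y hx hy => rw [smul_add, hx, hy, add_zero]
  | tmul c n =>
    rw [algebraMap_smul, TensorProduct.smul_tmul', TensorProduct.smul_tmul, hb, TensorProduct.tmul_zero]

variable {A B : Type u} [CommRing A] [CommRing B] [Algebra A B] (N : Type u) [AddCommGroup N] [Module B N]

theorem isUnivPure_of_finite_support [Module.Finite A (B ⧸ Module.annihilator B N)] :
    FlatCA.IsUnivPure A B N := by
  intro p _ A' B' N' _ _ _ _ _ _ _ _ _ _ _ _ _ _ f t' t _ _ P _ himp
  obtain ⟨hpush, hf, hle, -, hPt', hass, hno⟩ := himp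
  obtain ⟨z, hz⟩ := hass.2
  let Q := FlatCA.fiberIdeal t' P
  have hQ : Q.IsPrime := hass.1
  let ι := (Algebra.TensorProduct.includeRight (R := A') (A := t'.ResidueField) (B := B')).toRingHom
  have hPQ : P ≤ Q.comap ι := Ideal.le_comap_map
  have hann : ∀ b ∈ Module.annihilator B N, algebraMap B B' b ∈ Q.comap ι := by
    intro b hb
    have hb' : ∀ n : N', algebraMap B B' b • n = 0 := fun n => by
      refine hf.inductionOn n _ (smul_zero _) (fun m => ?_) (fun s n h => by rw [smul_comm, h, smul_zero])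
        (fun a c ha hc => by rw [smul_add, ha, hc, add_zero])
      rw [algebraMap_smul, ← map_smul, Module.mem_annihilator.1 hb, map_zero]
    show ι (algebraMap B B' b) ∈ FlatCA.fiberIdeal t' P
    rw [hz]
    refine Ideal.le_radical ?_
    rw [Submodule.mem_colon_singleton, Submodule.mem_bot]
    exact algebraMap_smul_eq_zero t' N' _ hb' z
  let J : Ideal B' := (Module.annihilator B N).map (algebraMap B B')
  have hJ : J ≤ Q.comap ι := Ideal.map_le_iff_le_comap.2 hann
  let ψ : B ⧸ Module.annihilator B N →ₐ[A] B' ⧸ J :=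
    Ideal.Quotient.liftₐ _ ((Ideal.Quotient.mkₐ A J).comp (IsScalarTower.toAlgHom A B B'))
      fun b hb => Ideal.Quotient.eq_zero_iff_mem.2 (Ideal.mem_map_of_mem _ hb)
  have hint : Algebra.IsIntegral A' (B' ⧸ J) := ⟨fun x => by
    obtain ⟨x, rfl⟩ := Ideal.Quotient.mk_surjective x
    refine hpush.symm.out.inductionOn x (motive := fun x => IsIntegral A' (Ideal.Quotient.mk J x))
      isIntegral_zero (fun b => ?_) (fun a y hy => ?_) (fun _ _ h h' => by simpa using h.add h')
    · exact ((Algebra.IsIntegral.isIntegral (R := A) (Ideal.Quotient.mk (Module.annihilator B N) b)).map ψ).tower_top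
    · rw [Algebra.smul_def, map_mul]
      exact (isIntegral_algebraMap (R := A') (x := a)).mul hy⟩
  have hQ' : (Q.comap ι).IsPrime := Ideal.comap_isPrime ι Q
  let P'' : Ideal (B' ⧸ J) := (Q.comap ι).map (Ideal.Quotient.mk J)
  have : P''.IsPrime := Ideal.map_isPrime_of_surjective Ideal.Quotient.mk_surjective (by rw [Ideal.mk_ker]; exact hJ)
  have hcm : P''.comap (Ideal.Quotient.mk J) = Q.comap ι := by
    rw [Ideal.comap_map_of_surjective _ Ideal.Quotient.mk_surjective, ← RingHom.ker_eq_comap_bot, Ideal.mk_ker,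
      sup_eq_left]
    exact hJ
  have hcomap : P''.comap (algebraMap A' (B' ⧸ J)) ≤ t := by
    rw [show algebraMap A' (B' ⧸ J) = (Ideal.Quotient.mk J).comp (algebraMap A' B') from rfl,
      ← Ideal.comap_comap, hcm, fiber_prime_data]
    exact hle
  obtain ⟨R, hR, hRp, hRt⟩ := Ideal.exists_ideal_over_prime_of_isIntegral t P'' hcomap
  refine hno (R.comap (Ideal.Quotient.mk J)) (hPQ.trans (hcm.ge.trans (Ideal.comap_mono hR))) ⟨?_⟩
  rw [← hRt]
  rfl

open AlgebraicGeometry CategoryTheory in
theorem isUnivPure_of_geomIntegralFibres [Module.Flat A B] (h : FlatCA.GeomIntegralFibres A B) :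
    FlatCA.IsUnivPure A B B := by
  intro p _ A' B' N' _ _ _ _ _ _ _ _ _ _ _ _ _ _ f t' t _ _ P _ himp
  obtain ⟨hpush, hf, hle, -, hPt', hass, hno⟩ := himp
  -- the fibre is a domain
  have hsym : Algebra.IsPushout A A' B B' := hpush.symm
  have sq := (CommRingCat.isPushout_of_isPushout A A' B B').paste_horiz
    (CommRingCat.isPushout_tensorProduct A' t'.ResidueField B')
  have hint : IsIntegral (Spec (CommRingCat.of (t'.Fiber B'))) :=
    h.geometrically_isIntegral _ _ _ (isPullback_SpecMap_of_isPushout _ _ _ _ sq).flip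
  have hdom : IsDomain (t'.Fiber B') := (affine_isIntegral_iff _).1 hint
  -- the module is free of rank one
  let e : N' ≃ₗ[B'] B' := hf.equiv.symm ≪≫ₗ AlgebraTensorModule.rid B B' B'
  let := Algebra.TensorProduct.rightAlgebra (R := A') (A := t'.ResidueField) (B := B')
  let eF : FlatCA.fiberMod t' B' N' ≃ₗ[t'.Fiber B'] t'.Fiber B' :=
    (AlgebraTensorModule.congr (LinearEquiv.refl (t'.Fiber B') (t'.Fiber B')) e) ≪≫ₗ
      AlgebraTensorModule.rid B' (t'.Fiber B') (t'.Fiber B')
  replace hass : FlatCA.fiberIdeal t' P ∈ associatedPrimes (t'.Fiber B') (t'.Fiber B') :=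
    associatedPrimes.subset_of_injective (f := eF.toLinearMap) eF.injective hass
  have hbot : ∀ x ∈ P, (1 : t'.ResidueField) ⊗ₜ[A'] x = 0 := by
    intro x hx
    obtain ⟨z, hz⟩ := hass.2
    have h1 : (1 : t'.ResidueField) ⊗ₜ[A'] x ∈ FlatCA.fiberIdeal t' P := Ideal.mem_map_of_mem _ hx
    rw [hz] at h1
    obtain ⟨n, hn⟩ := h1
    rw [Submodule.mem_colon_singleton, Submodule.mem_bot, smul_eq_mul, mul_eq_zero] at hn
    refine pow_eq_zero_iff'.1 (hn.resolve_right fun hz0 => hass.1.ne_top ?_) |>.1
    rw [hz, hz0, Ideal.radical_eq_top, Ideal.eq_top_iff_one]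
    simp [Submodule.mem_colon_singleton]
  -- flatness and a prime over `t`
  have : Module.Flat A' B' := Module.Flat.isBaseChange A A' B B' hsym.out
  have sq' := (CommRingCat.isPushout_of_isPushout A A' B B').paste_horiz
    (CommRingCat.isPushout_tensorProduct A' t.ResidueField B')
  have hint' : IsIntegral (Spec (CommRingCat.of (t.Fiber B'))) :=
    h.geometrically_isIntegral _ _ _ (isPullback_SpecMap_of_isPushout _ _ _ _ sq').flip
  have hdom' : IsDomain (t.Fiber B') := (affine_isIntegral_iff _).1 hint'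
  let Q : Ideal B' := (⊥ : Ideal (t.Fiber B')).comap
    (Algebra.TensorProduct.includeRight (R := A') (A := t.ResidueField) (B := B')).toRingHom
  have : (⊥ : Ideal (t.Fiber B')).IsPrime := Ideal.isPrime_bot
  have hQt : Q.LiesOver t := ⟨(fiber_prime_data t ⊥).symm⟩
  obtain ⟨P'', hP''Q, hP'', hP''t'⟩ := Ideal.exists_ideal_le_liesOver_of_le (p := t') (q := t) Q hle
  exact hno Q (fun x hx => hP''Q (comap_bot_fiber_le t' P'' x (hbot x hx))) hQt

end Groth.Agent.CommAlg4.PureEasy
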