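import Mathlib

/-!
# Pure submodules over discrete valuation rings split
-/

set_option autoImplicit false
set_option linter.all false

universe u v

open scoped DirectSum Pointwise

namespace Groth.Agent.CommAlg4.PureSplit

variable {R : Type u} [CommRing R]

/-- The length as a natural number. -/
noncomputable def len {M : Type v} [AddCommGroup M] [Module R M] (S : Submodule R M) : ℕ :=
  (Module.length R S).toNat

theorem length_coe {M : Type v} [AddCommGroup M] [Module R M] [IsArtinian R M] [IsNoetherian R M] (S : Submodule R M) :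
    (len S : ℕ∞) = Module.length R S :=
  ENat.coe_toNat Module.length_ne_top

theorem len_sup_add_len_inf {M : Type v} [AddCommGroup M] [Module R M] [IsArtinian R M] [IsNoetherian R M]
    (A B : Submodule R M) : len (A ⊔ B) + len (A ⊓ B) = len A + len B := by
  let f : (A ⊓ B : Submodule R M) →ₗ[R] A × B :=
    (Submodule.inclusion inf_le_left).prod (-(Submodule.inclusion inf_le_right))
  let g : A × B →ₗ[R] (A ⊔ B : Submodule R M) :=
    (Submodule.inclusion le_sup_left).coprod (Submodule.inclusion le_sup_right)
  have hf : Function.Injective f := fun x y h => Subtype.ext (congrArg (fun p : A × B => (p.1 : M)) h)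
  have hg : Function.Surjective g := by
    rintro ⟨x, hx⟩
    obtain ⟨a, ha, b, hb, rfl⟩ := Submodule.mem_sup.1 hx
    exact ⟨(⟨a, ha⟩, ⟨b, hb⟩), Subtype.ext rfl⟩
  have hfg : Function.Exact f g := by
    rintro ⟨a, b⟩
    constructor
    · intro h
      have h' : (a : M) + b = 0 := congrArg Subtype.val h
      refine ⟨⟨a, a.2, ?_⟩, Prod.ext rfl (Subtype.ext ?_)⟩
      · rw [eq_neg_of_add_eq_zero_left h']
        exact B.neg_mem b.2
      · show -(a : M) = b
        exact (eq_neg_of_add_eq_zero_right h').symm
    · rintro ⟨x, hx⟩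
      rw [← hx]
      exact Subtype.ext (show (x : M) + -(x : M) = 0 from add_neg_cancel _)
  have h := Module.length_eq_add_of_exact f g hf hg hfg
  rw [Module.length_prod, ← length_coe, ← length_coe, ← length_coe, ← length_coe, ← Nat.cast_add, ← Nat.cast_add] at h
  have := Nat.cast_inj.1 h
  omega

theorem len_mono {M : Type v} [AddCommGroup M] [Module R M] [IsArtinian R M] [IsNoetherian R M]
    {A B : Submodule R M} (h : A ≤ B) (he : len B ≤ len A) : A = B := by
  by_contra hne
  have h1 : (Submodule.comap B.subtype A) ≠ ⊤ := fun h2 => hne (le_antisymm h fun x hx =>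
    (h2.ge (Submodule.mem_top (x := (⟨x, hx⟩ : B))) : _))
  have h2 := Submodule.length_lt h1
  rw [(Submodule.comapSubtypeEquivOfLe h).length_eq, ← length_coe, ← length_coe, Nat.cast_lt] at h2
  omega

theorem len_map {M : Type v} {N : Type*} [AddCommGroup M] [Module R M] [AddCommGroup N] [Module R N] (f : M →ₗ[R] N)
    (hf : Function.Injective f) (S : Submodule R M) : len (S.map f) = len S := by
  rw [len, len, (Submodule.equivMapOfInjective f hf S).length_eq]

theorem len_quotient_add {M : Type v} [AddCommGroup M] [Module R M] [IsArtinian R M] [IsNoetherian R M]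
    (S : Submodule R M) : len S + (Module.length R (M ⧸ S)).toNat = len (⊤ : Submodule R M) := by
  have h := Module.length_eq_add_of_exact S.subtype S.mkQ S.subtype_injective S.mkQ_surjective
    (LinearMap.exact_subtype_mkQ S)
  rw [len, len, Module.length_top, h, ENat.toNat_add Module.length_ne_top Module.length_ne_top]

/-- Lengths of quotients along a bijectively twisted surjection. -/
theorem length_quotient_comap {σ : R →+* R} [RingHomSurjective σ] {M : Type v} {N : Type*} [AddCommGroup M] [Module R M]
    [AddCommGroup N] [Module R N] (Φ : M →ₛₗ[σ] N) (hΦ : Function.Surjective Φ) (T : Submodule R N) :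
    Module.length R (M ⧸ T.comap Φ) = Module.length R (N ⧸ T) := by
  have e1 := Submodule.comapMkQRelIso (T.comap Φ)
  have e2 := Submodule.comapMkQRelIso T
  let e3 : Set.Ici (T.comap Φ) ≃o Set.Ici T :=
    { toFun := fun S => ⟨S.1.map Φ, by
        have := Submodule.map_mono (f := Φ) (Set.mem_Ici.1 S.2)
        rwa [Submodule.map_comap_eq_of_surjective hΦ] at this⟩
      invFun := fun S => ⟨S.1.comap Φ, Submodule.comap_mono S.2⟩
      left_inv := fun S => Subtype.ext (by
        show (S.1.map Φ).comap Φ = S.1
        rw [Submodule.comap_map_eq, sup_eq_left]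
        exact le_trans (Submodule.comap_mono bot_le) S.2)
      right_inv := fun S => Subtype.ext (Submodule.map_comap_eq_of_surjective hΦ _)
      map_rel_iff' := fun {S S'} => by
        show S.1.map Φ ≤ S'.1.map Φ ↔ S.1 ≤ S'.1
        refine ⟨fun h => ?_, fun h => Submodule.map_mono h⟩
        have h' := Submodule.comap_mono (f := Φ) h
        rw [Submodule.comap_map_eq, Submodule.comap_map_eq] at h'
        refine le_sup_left.trans (h'.trans (sup_le le_rfl ?_))
        exact le_trans (Submodule.comap_mono bot_le) S'.2 }
  have := Order.krullDim_eq_of_orderIso ((e1.trans e3).trans e2.symm)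
  rw [← Module.coe_length, ← Module.coe_length] at this
  exact_mod_cast this

variable [IsDomain R] [IsPrincipalIdealRing R]

/-- A pure submodule with finitely generated torsion quotient is a direct summand. -/
theorem exists_retraction_of_pure {X Y : Type v} [AddCommGroup X] [Module R X] [AddCommGroup Y] [Module R Y]
    [Module.Finite R Y] (ι : X →ₗ[R] Y) (hι : Function.Injective ι)
    (htors : Module.IsTorsion R (Y ⧸ LinearMap.range ι))
    (hpure : ∀ (p : R), Irreducible p → ∀ (e : ℕ) (y : Y), p ^ e • y ∈ LinearMap.range ι →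
      ∃ x, p ^ e • y = p ^ e • ι x) :
    ∃ s : Y →ₗ[R] X, ∀ x, s (ι x) = x := by
  classical
  obtain ⟨I, _, p, hp, e, ⟨E⟩⟩ := Module.equiv_directSum_of_isTorsion htors
  have hlift : ∀ i, ∃ y : Y, (LinearMap.range ι).mkQ y = E.symm (DirectSum.lof R I _ i (Submodule.Quotient.mk 1)) ∧
      p i ^ e i • y = 0 := fun i => by
    obtain ⟨y, hy⟩ := (LinearMap.range ι).mkQ_surjective (E.symm (DirectSum.lof R I _ i (Submodule.Quotient.mk 1)))
    have h0 : p i ^ e i • y ∈ LinearMap.range ι := by
      rw [← Submodule.Quotient.mk_eq_zero, Submodule.Quotient.mk_smul]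
      change p i ^ e i • (LinearMap.range ι).mkQ y = 0
      rw [hy, ← map_smul, ← map_smul, ← Submodule.Quotient.mk_smul, smul_eq_mul, mul_one,
        (Submodule.Quotient.mk_eq_zero _).2 (Submodule.mem_span_singleton_self _), map_zero, map_zero]
    obtain ⟨x, hx⟩ := hpure (p i) (hp i) (e i) y h0
    refine ⟨y - ι x, ?_, by rw [smul_sub, hx, sub_self]⟩
    rw [map_sub, hy]
    simp
  choose y hy hy0 using hlift
  let h : (Y ⧸ LinearMap.range ι) →ₗ[R] Y := (DirectSum.toModule R I Y fun i =>
    Submodule.liftQ _ (LinearMap.toSpanSingleton R Y (y i)) ((Submodule.span_singleton_le_iff_mem _ _).2 (by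
      simpa [LinearMap.mem_ker] using hy0 i))).comp E.toLinearMap
  have hh : (LinearMap.range ι).mkQ.comp h = LinearMap.id := by
    apply LinearMap.ext
    intro q
    obtain ⟨z, rfl⟩ := E.symm.surjective q
    induction z using DirectSum.induction_on with
    | zero => simp
    | of i z =>
      obtain ⟨c, rfl⟩ := Submodule.mkQ_surjective _ z
      simp only [h, LinearMap.comp_apply, LinearEquiv.coe_coe, LinearEquiv.apply_symm_apply, LinearMap.id_apply]
      rw [← DirectSum.lof_eq_of R, DirectSum.toModule_lof, Submodule.mkQ_apply, Submodule.mkQ_apply]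
      show (LinearMap.range ι).mkQ (c • y i) = _
      rw [map_smul, hy, ← map_smul, ← map_smul, ← Submodule.Quotient.mk_smul, smul_eq_mul, mul_one]
    | add a b ha hb => rw [map_add, map_add, ha, hb, map_add]
  have hmem : ∀ v, v - h ((LinearMap.range ι).mkQ v) ∈ LinearMap.range ι := fun v => by
    rw [← Submodule.Quotient.mk_eq_zero, Submodule.Quotient.mk_sub]
    have := LinearMap.congr_fun hh ((LinearMap.range ι).mkQ v)
    simp only [LinearMap.comp_apply, LinearMap.id_apply, Submodule.mkQ_apply] at this ⊢
    rw [this, sub_self]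
  refine ⟨(LinearEquiv.ofInjective ι hι).symm.toLinearMap.comp
    (LinearMap.codRestrict (LinearMap.range ι) (LinearMap.id - h.comp (LinearMap.range ι).mkQ) hmem), fun x => ?_⟩
  rw [LinearMap.comp_apply, LinearEquiv.coe_coe, LinearEquiv.symm_apply_eq]
  ext
  simp [(Submodule.Quotient.mk_eq_zero (LinearMap.range ι)).2 (LinearMap.mem_range_self ι x)]

end Groth.Agent.CommAlg4.PureSplit
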