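import Groth.Agent.PP16Lib29.QRDiag
import Groth.Agent.QReg6.Basic
import Groth.Prelude.Def_PP16
import Mathlib.RingTheory.Localization.Finiteness

/-! # Locally quasi-regular ideals and the symmetric algebra of the conormal module -/

set_option autoImplicit false

noncomputable section

open Groth.Agent.PP16Lib29

namespace Groth.Agent.CommAlg4.QSym

universe u

variable {R : Type u} [CommRing R] (J : Ideal R)

/-- the class of an element in the graded piece -/
def cls (k : ℕ) : ↥(J ^ k) →ₗ[R] PP16.grJ R J k := Submodule.mkQ _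

theorem cls_eq_iff (k : ℕ) (x y : ↥(J ^ k)) :
    cls J k x = cls J k y ↔ (x : R) - y ∈ J ^ (k + 1) :=
  Submodule.Quotient.eq _

theorem toCot_sum {r : ℕ} (f : Fin r → R) (hf : ∀ i, f i ∈ J) (c : Fin r → R) :
    ∑ i, c i • J.toCotangent ⟨f i, hf i⟩ =
      J.toCotangent ⟨∑ i, c i * f i, Ideal.sum_mem _ fun i _ => Ideal.mul_mem_left _ _ (hf i)⟩ := by
  simp only [← map_smul, ← map_sum]
  exact congrArg J.toCotangent (Subtype.ext (by simp))

theorem mk_smul (c : R) (w : J.Cotangent) : Ideal.Quotient.mk J c • w = c • w :=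
  algebraMap_smul (R ⧸ J) c w

/-- a chosen lift of a conormal vector -/
def lft (w : J.Cotangent) : R := (J.toCotangent_surjective w).choose.1

theorem lft_mem (w : J.Cotangent) : lft J w ∈ J := (J.toCotangent_surjective w).choose.2

theorem lft_spec (w : J.Cotangent) : J.toCotangent ⟨lft J w, lft_mem J w⟩ = w :=
  (J.toCotangent_surjective w).choose_spec

theorem lft_sub_mem {x : R} (hx : x ∈ J) {w : J.Cotangent} (h : J.toCotangent ⟨x, hx⟩ = w) :
    lft J w - x ∈ J ^ 2 :=
  J.toCotangent_eq.1 ((lft_spec J w).trans h.symm)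

theorem lft_add (w w' : J.Cotangent) : lft J (w + w') - (lft J w + lft J w') ∈ J ^ 2 :=
  lft_sub_mem J (add_mem (lft_mem J w) (lft_mem J w'))
    ((map_add J.toCotangent ⟨lft J w, lft_mem J w⟩ ⟨lft J w', lft_mem J w'⟩).trans
      (by rw [lft_spec, lft_spec]))

theorem lft_smul (c : R) (w : J.Cotangent) : lft J (c • w) - c • lft J w ∈ J ^ 2 :=
  lft_sub_mem J (Ideal.mul_mem_left _ _ (lft_mem J w))
    ((map_smul J.toCotangent c ⟨lft J w, lft_mem J w⟩).trans (by rw [lft_spec]))

variable (ι : Type u) [Fintype ι]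

/-- product of lifts -/
def prodLift (w : ι → J.Cotangent) : ↥(J ^ Fintype.card ι) :=
  ⟨∏ i, lft J (w i), by
    simpa using finset_prod_mem_pow J Finset.univ (fun i => lft J (w i)) (fun i _ => lft_mem J (w i))⟩

theorem cls_prod_congr (w : ι → J.Cotangent) (x : ι → R) (hx : ∀ i, x i ∈ J)
    (h : ∀ i, lft J (w i) - x i ∈ J ^ 2) (y : ↥(J ^ Fintype.card ι)) (hy : (y : R) = ∏ i, x i) :
    cls J _ (prodLift J ι w) = cls J _ y := by
  rw [cls_eq_iff, hy]
  exact prod_sub_prod_mem J Finset.univ _ _ (fun i _ => lft_mem J (w i)) (fun i _ => hx i) fun i _ => h i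

/-- The canonical map `Sym^ι (J/J²) → J^n / J^(n+1)` exists. -/
theorem exists_phi :
    ∃ φ : SymmetricPower R ι J.Cotangent →ₗ[R] PP16.grJ R J (Fintype.card ι),
      (∀ x : ι → ↥J, φ (SymmetricPower.tprod R (fun i => J.toCotangent (x i))) = PP16.zetaJ R J x) ∧
      ∀ w, φ (SymmetricPower.tprod R w) = cls J _ (prodLift J ι w) := by
  classical
  let F : MultilinearMap R (fun _ : ι => J.Cotangent) (PP16.grJ R J (Fintype.card ι)) :=
    { toFun := fun w => cls J _ (prodLift J ι w)
      map_update_add' := fun w i a b => by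
        rw [← map_add]
        refine cls_prod_congr J ι _
          (Function.update (fun j => lft J (w j)) i (lft J a + lft J b)) ?_ ?_ _ ?_
        · intro j
          rcases eq_or_ne j i with rfl | hj
          · rw [Function.update_self]; exact add_mem (lft_mem J a) (lft_mem J b)
          · rw [Function.update_of_ne hj]; exact lft_mem J _
        · intro j
          rcases eq_or_ne j i with rfl | hj
          · rw [Function.update_self, Function.update_self]; exact lft_add J a b
          · rw [Function.update_of_ne hj, Function.update_of_ne hj, sub_self]; exact zero_mem _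
        · show ∏ j, lft J (Function.update w i a j) + ∏ j, lft J (Function.update w i b j) = _
          have e : ∀ c, (fun j => lft J (Function.update w i c j)) =
              Function.update (fun j => lft J (w j)) i (lft J c) := fun c => by
            funext j
            rcases eq_or_ne j i with rfl | hj
            · simp
            · simp [hj]
          rw [e a, e b, Finset.prod_update_of_mem (Finset.mem_univ i),
            Finset.prod_update_of_mem (Finset.mem_univ i), Finset.prod_update_of_mem (Finset.mem_univ i),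
            add_mul]
      map_update_smul' := fun w i c a => by
        rw [← map_smul]
        refine cls_prod_congr J ι _
          (Function.update (fun j => lft J (w j)) i (c • lft J a)) ?_ ?_ _ ?_
        · intro j
          rcases eq_or_ne j i with rfl | hj
          · rw [Function.update_self, smul_eq_mul]; exact Ideal.mul_mem_left _ _ (lft_mem J a)
          · rw [Function.update_of_ne hj]; exact lft_mem J _
        · intro j
          rcases eq_or_ne j i with rfl | hj
          · rw [Function.update_self, Function.update_self]; exact lft_smul J c a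
          · rw [Function.update_of_ne hj, Function.update_of_ne hj, sub_self]; exact zero_mem _
        · show c • ∏ j, lft J (Function.update w i a j) = _
          have e : (fun j => lft J (Function.update w i a j)) =
              Function.update (fun j => lft J (w j)) i (lft J a) := by
            funext j
            rcases eq_or_ne j i with rfl | hj
            · simp
            · simp [hj]
          rw [e, Finset.prod_update_of_mem (Finset.mem_univ i),
            Finset.prod_update_of_mem (Finset.mem_univ i), smul_mul_assoc] }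
  obtain ⟨φ, hφ⟩ := exists_symLift F fun e w => by
    show cls J _ (prodLift J ι fun i => w (e i)) = cls J _ (prodLift J ι w)
    congr 1
    exact Subtype.ext (Equiv.prod_comp e fun i => lft J (w i))
  refine ⟨φ, fun x => ?_, hφ⟩
  rw [hφ]
  exact cls_prod_congr J ι _ (fun i => (x i : R)) (fun i => (x i).2)
    (fun i => lft_sub_mem J (x i).2 rfl) _ rfl

/-- Elements of `J^k` are generated by products of elements of `J`. -/
theorem phi_surjective (φ : SymmetricPower R ι J.Cotangent →ₗ[R] PP16.grJ R J (Fintype.card ι))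
    (hφ : ∀ x : ι → ↥J, φ (SymmetricPower.tprod R (fun i => J.toCotangent (x i))) = PP16.zetaJ R J x) :
    Function.Surjective φ := by
  classical
  rw [← LinearMap.range_eq_top, eq_top_iff]
  intro z _
  obtain ⟨⟨y, hy⟩, rfl⟩ := Submodule.Quotient.mk_surjective _ z
  have hpow : J ^ Fintype.card ι = Ideal.span (Set.range fun x : ι → ↥J => ∏ i, (x i : R)) := by
    refine le_antisymm ?_ (Ideal.span_le.2 ?_)
    · conv_lhs => rw [← Ideal.span_eq J, ← Finset.card_univ, ← Finset.prod_const, Ideal.prod_span]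
      refine Ideal.span_mono fun y hy => ?_
      rw [Set.mem_finsetProd] at hy
      obtain ⟨g, hg, rfl⟩ := hy
      exact ⟨fun i => ⟨g i, hg (Finset.mem_univ i)⟩, rfl⟩
    · rintro _ ⟨x, rfl⟩
      simpa using finset_prod_mem_pow J Finset.univ (fun i => (x i : R)) fun i _ => (x i).2
  have hy' := hy
  rw [hpow] at hy'
  obtain ⟨c, hc⟩ := Finsupp.mem_span_range_iff_exists_finsupp.1 hy'
  refine ⟨c.sum fun x a => a • SymmetricPower.tprod R (fun i => J.toCotangent (x i)), ?_⟩
  rw [map_finsuppSum]
  simp only [map_smul, hφ]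
  show ∑ x ∈ c.support, c x • cls J _ _ = cls J _ ⟨y, hy⟩
  simp only [← map_smul, ← map_sum]
  congr 1
  exact Subtype.ext (by rw [Submodule.coe_sum]; exact hc)

theorem phi_tprod {r : ℕ} (φ : SymmetricPower R ι J.Cotangent →ₗ[R] PP16.grJ R J (Fintype.card ι))
    (hφ : ∀ w, φ (SymmetricPower.tprod R w) = cls J _ (prodLift J ι w))
    (f : Fin r → R) (hf : ∀ i, f i ∈ J) (t : ι → Fin r) :
    φ (SymmetricPower.tprod R fun i => J.toCotangent ⟨f (t i), hf (t i)⟩) =
      cls J _ ⟨∏ i, f (t i), by
        simpa using finset_prod_mem_pow J Finset.univ (fun i => f (t i)) (fun i _ => hf (t i))⟩ := by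
  rw [hφ]
  exact cls_prod_congr J ι _ (fun i => f (t i)) (fun i => hf (t i))
    (fun i => lft_sub_mem J (hf (t i)) rfl) _ rfl


/-- From finite generation, projectivity and bijectivity of the symmetric power maps. -/
theorem isLocallyQuasiRegular_of_symGr (hfg : J.FG) (hproj : Module.Projective (R ⧸ J) J.Cotangent)
    (h : PP16.SymGrBijective R J) : PP16.IsLocallyQuasiRegular R J := by
  classical
  intro P hPp hP
  haveI := hproj
  haveI : Module.Finite R J := Module.Finite.iff_fg.2 hfg
  haveI : Module.Finite R J.Cotangent := Module.Finite.of_surjective _ J.toCotangent_surjective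
  haveI : Module.Finite (R ⧸ J) J.Cotangent := Module.Finite.of_restrictScalars_finite R _ _
  let p := P.map (Ideal.Quotient.mk J)
  haveI : p.IsPrime := Ideal.map_isPrime_of_surjective Ideal.Quotient.mk_surjective (by rwa [Ideal.mk_ker])
  obtain ⟨bq, hbq, r, x, hx⟩ := exists_locBasis (B := R ⧸ J) (M := J.Cotangent) p
  obtain ⟨b, rfl⟩ := Ideal.Quotient.mk_surjective bq
  have hb : b ∉ P := fun h => hbq (Ideal.mem_map_of_mem _ h)
  let f : Fin r → R := fun i => lft J (x i)
  have hf : ∀ i, f i ∈ J := fun i => lft_mem J (x i)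
  have hfx : ∀ i, J.toCotangent ⟨f i, hf i⟩ = x i := fun i => lft_spec J (x i)
  have hJI : Ideal.span (Set.range f) ≤ J := Ideal.span_le.2 (by rintro _ ⟨i, rfl⟩; exact hf i)
  obtain ⟨g, hβg, hgP, hgle⟩ := exists_map_le_of_le_sup_sq J hfg (Ideal.span (Set.range f)) b fun y hy => by
      obtain ⟨k, hk⟩ := hx.2 (J.toCotangent ⟨y, hy⟩)
      obtain ⟨c, hc⟩ := (Submodule.mem_span_range_iff_exists_fun (R ⧸ J)).1 hk
      choose c' hc' using fun i => Ideal.Quotient.mk_surjective (c i)
      rw [← map_pow, mk_smul] at hc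
      simp only [← hc', mk_smul, ← hfx] at hc
      rw [toCot_sum J f hf, ← map_smul, Ideal.toCotangent_eq] at hc
      refine ⟨k, ?_⟩
      have hs : ∑ i, c' i * f i ∈ Ideal.span (Set.range f) :=
        Ideal.sum_mem _ fun i _ => Ideal.mul_mem_left _ _ (Ideal.subset_span ⟨i, rfl⟩)
      have h3 := Submodule.add_mem_sup hs (neg_mem hc)
      rwa [neg_sub, add_sub_cancel, Submodule.coe_smul, smul_eq_mul] at h3
  have hgP' : g ∉ P := hgP P hPp hP hb
  let L := Localization.Away g
  have hspan : Ideal.span (Set.range (algebraMap R L ∘ f)) = J.map (algebraMap R L) := by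
    rw [Set.range_comp, ← Ideal.map_span]
    exact le_antisymm (Ideal.map_mono hJI) hgle
  refine ⟨g, hgP', r, algebraMap R L ∘ f, isQuasiRegular_away J g L f hspan ?_, hspan⟩
  intro n Q hQ heval d
  by_cases hd : Q.coeff d = 0
  · exact ⟨0, by rw [hd, mul_zero]; exact zero_mem _⟩
  rcases Nat.eq_zero_or_pos n with rfl | hn
  · have hQ0 : Q = MvPolynomial.C (Q.coeff 0) := by
      refine MvPolynomial.totalDegree_eq_zero_iff_eq_C.1 (Nat.le_zero.1 hQ.totalDegree_le)
    have hd0 : d = 0 := by
      by_contra hne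
      rw [hQ0, MvPolynomial.coeff_C, if_neg (Ne.symm hne)] at hd
      exact hd rfl
    rw [hQ0, MvPolynomial.eval_C, zero_add, pow_one] at heval
    exact ⟨0, by rw [pow_zero, one_mul, hd0]; exact heval⟩
  let ι := ULift.{u} (Fin n)
  haveI : Nonempty ι := ⟨⟨⟨0, hn⟩⟩⟩
  obtain ⟨φ, hφD, hφ⟩ := exists_phi J ι
  obtain ⟨φ', hφ'D, hφ'inj, -⟩ := h ι
  have hφinj : Function.Injective φ := by
    have : φ = φ' := by
      refine LinearMap.ext_on (s := Set.range (SymmetricPower.tprod R (ι := ι) (M := J.Cotangent)))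
        (by rw [SymmetricPower.span_tprod_eq_top]) ?_
      rintro _ ⟨w, rfl⟩
      have hw : w = fun i => J.toCotangent ⟨lft J (w i), lft_mem J (w i)⟩ := funext fun i => (lft_spec J (w i)).symm
      rw [hw, hφD, hφ'D]
    rw [this]; exact hφ'inj
  have hcard : Fintype.card ι = n := by simp [ι]
  -- each exponent is realised by one tuple
  have hlist : ∀ e ∈ Q.support, ∃ t : ι → Fin r, (∑ i, Finsupp.single (t i) 1) = e := by
    intro e he
    have hlen : (Finsupp.toMultiset e).toList.length = n := by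
      rw [Multiset.length_toList, Finsupp.card_toMultiset]
      have hd' : Finsupp.degree e = n := by
        rw [Finsupp.degree_eq_weight_one]; exact hQ (MvPolynomial.mem_support_iff.1 he)
      rw [Finsupp.degree_apply] at hd'
      simpa [Finsupp.sum] using hd'
    refine ⟨fun i => (Finsupp.toMultiset e).toList.get (i.down.cast hlen.symm), ?_⟩
    have H : Finsupp.toMultiset (∑ i : ι, Finsupp.single
        ((Finsupp.toMultiset e).toList.get (i.down.cast hlen.symm)) 1) = Finsupp.toMultiset e := by
      rw [Finsupp.toMultiset_sum]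
      simp only [Finsupp.toMultiset_single, one_smul]
      conv_rhs => rw [← Multiset.coe_toList (Finsupp.toMultiset e)]
      rw [sum_singleton_eq_map]
      exact map_get_univ _ hlen
    have := congrArg Multiset.toFinsupp H
    rwa [Finsupp.toMultiset_toFinsupp, Finsupp.toMultiset_toFinsupp] at this
  choose T hT using fun e : Q.support => hlist e.1 e.2
  let q : SymmetricPower R ι J.Cotangent :=
    ∑ e : Q.support, Q.coeff e.1 • SymmetricPower.tprod R fun i => x (T e i)
  have hprod : ∀ e : Q.support, ∏ i, f (T e i) = ∏ j, f j ^ e.1 j := by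
    intro e
    rw [← Finsupp.prod_fintype e.1 (fun j m => f j ^ m) (fun j => pow_zero _)]
    conv_rhs => rw [← hT e]
    rw [← Finsupp.prod_finsetSum_index (fun j => pow_zero _) (fun j m₁ m₂ => pow_add _ _ _)]
    simp [Finsupp.prod_single_index]
  have hq : q = 0 := by
    refine hφinj ?_
    rw [map_zero]
    have e1 : ∀ e : Q.support, φ (Q.coeff e.1 • SymmetricPower.tprod R fun i => x (T e i)) =
        cls J _ ⟨Q.coeff e.1 * ∏ i, f (T e i),
          Ideal.mul_mem_left _ _ (by
            simpa using finset_prod_mem_pow J Finset.univ (fun i => f (T e i)) (fun i _ => hf _))⟩ := by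
      intro e
      have h5 := phi_tprod J ι φ hφ f hf (T e)
      simp only [hfx] at h5
      rw [map_smul, h5, ← map_smul]
      rfl
    rw [show φ q = ∑ e : Q.support, φ (Q.coeff e.1 • SymmetricPower.tprod R fun i => x (T e i)) from map_sum φ _ _,
      Finset.sum_congr rfl fun e _ => e1 e, ← map_sum,
      ← map_zero (cls J (Fintype.card ι)), cls_eq_iff, Submodule.coe_sum, ZeroMemClass.coe_zero, sub_zero]
    rw [← hcard, MvPolynomial.eval_eq', ← Finset.sum_attach Q.support (fun e => Q.coeff e * ∏ j, f j ^ e j),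
      ← Finset.univ_eq_attach] at heval
    simpa only [hprod] using heval
  obtain ⟨Λ, hΛ⟩ := exists_coord hx
  let Lb := Localization.Away (Ideal.Quotient.mk J b)
  let ℓ : J.Cotangent →ₗ[R] MvPolynomial (Fin r) Lb :=
    ((linForm (B := Lb) (σ := Fin r)).restrictScalars R).comp (Λ.restrictScalars R)
  let F : MultilinearMap R (fun _ : ι => J.Cotangent) (MvPolynomial (Fin r) Lb) :=
    (MultilinearMap.mkPiAlgebra R ι (MvPolynomial (Fin r) Lb)).compLinearMap fun _ => ℓ
  obtain ⟨S, hS⟩ := exists_symLift F fun e w => by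
    simp only [F, MultilinearMap.compLinearMap_apply, MultilinearMap.mkPiAlgebra_apply]
    exact Equiv.prod_comp e fun i => ℓ (w i)
  have hSq := congrArg (fun z => (S z).coeff d) hq
  simp only [map_zero, MvPolynomial.coeff_zero, q, map_sum, map_smul, hS, F, ℓ,
    MultilinearMap.compLinearMap_apply, MultilinearMap.mkPiAlgebra_apply, LinearMap.comp_apply,
    LinearMap.coe_restrictScalars, hΛ, linForm_single, map_one, one_mul] at hSq
  rw [MvPolynomial.coeff_sum, Finset.sum_eq_single (⟨d, MvPolynomial.mem_support_iff.2 hd⟩ : Q.support)] at hSq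
  · rw [show (∏ i, (MvPolynomial.X (T ⟨d, MvPolynomial.mem_support_iff.2 hd⟩ i) : MvPolynomial (Fin r) Lb)) = MvPolynomial.monomial d 1 by
        conv_rhs => rw [show d = _ from (hT ⟨d, MvPolynomial.mem_support_iff.2 hd⟩).symm, MvPolynomial.monomial_sum_one]
        rfl,
      MvPolynomial.coeff_smul, MvPolynomial.coeff_monomial, if_pos rfl, ← Algebra.algebraMap_eq_smul_one] at hSq
    rw [IsScalarTower.algebraMap_apply R (R ⧸ J) Lb, Ideal.Quotient.algebraMap_eq] at hSq
    obtain ⟨⟨_, k, rfl⟩, hk⟩ :=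
      (IsLocalization.map_eq_zero_iff (Submonoid.powers (Ideal.Quotient.mk J b)) Lb _).1 hSq
    refine ⟨k, ?_⟩
    obtain ⟨a, rfl⟩ := hβg
    have hk' : b ^ k * Q.coeff d ∈ J := by
      rw [← Ideal.Quotient.eq_zero_iff_mem, map_mul, map_pow]; exact hk
    rw [mul_pow, mul_right_comm]
    exact Ideal.mul_mem_right _ _ hk'
  · intro e he hne
    rw [show (∏ i, (MvPolynomial.X (T e i) : MvPolynomial (Fin r) Lb)) = MvPolynomial.monomial e.1 1 by
        conv_rhs => rw [← hT e, MvPolynomial.monomial_sum_one]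
        rfl,
      MvPolynomial.coeff_smul, MvPolynomial.coeff_monomial, if_neg (fun hh => hne (Subtype.ext hh)), smul_zero]
  · intro hd'
    exact absurd (Finset.mem_univ _) hd'

theorem fg_of_isLocallyQuasiRegular (h : PP16.IsLocallyQuasiRegular R J) : J.FG := by
  refine Ideal.fg_of_localizationSpan {g : R | (J.map (algebraMap R (Localization.Away g))).FG} ?_ fun g => g.2
  refine span_eq_top_of_forall_prime fun P hP => ?_
  by_cases hJP : J ≤ P
  · obtain ⟨g, hg, r, f, -, hf⟩ := h P hJP
    refine ⟨g, ?_, hg⟩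
    show (J.map _).FG
    rw [← hf]
    exact Submodule.fg_span (Set.finite_range f)
  · obtain ⟨g, hgJ, hgP⟩ := SetLike.not_le_iff_exists.1 hJP
    refine ⟨g, ?_, hgP⟩
    show (J.map _).FG
    rw [Ideal.eq_top_of_isUnit_mem _ (Ideal.mem_map_of_mem _ hgJ) (IsLocalization.Away.algebraMap_isUnit g)]
    exact Ideal.fg_top _

/-- Local data at primes of a locally quasi-regular ideal. -/
theorem exists_data (h : PP16.IsLocallyQuasiRegular R J) (P : Ideal R) [P.IsPrime] (hJP : J ≤ P) :
    ∃ g ∉ P, ∃ (r : ℕ) (f : Fin r → R) (hf : ∀ i, f i ∈ J),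
      LocBasis (Ideal.Quotient.mk J g) (fun i => J.toCotangent ⟨f i, hf i⟩) ∧
      ∀ (n : ℕ) (Q : MvPolynomial (Fin r) R), Q.IsHomogeneous n →
        MvPolynomial.eval f Q ∈ J ^ (n + 1) → ∀ d, ∃ k : ℕ, g ^ k * Q.coeff d ∈ J := by
  classical
  obtain ⟨g, hg, r, f₀, hf₀, hspan₀⟩ := h P hJP
  let L := Localization.Away g
  have hf0I : ∀ i, f₀ i ∈ J.map (algebraMap R L) := fun i => hspan₀ ▸ Ideal.subset_span ⟨i, rfl⟩
  choose fm hfm using fun i => (IsLocalization.mem_map_algebraMap_iff (Submonoid.powers g) L).1 (hf0I i)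
  let f : Fin r → R := fun i => ((fm i).1 : R)
  have hf : ∀ i, f i ∈ J := fun i => (fm i).1.2
  have hum : ∀ i, IsUnit (algebraMap R L ((fm i).2 : R)) := fun i => IsLocalization.map_units L (fm i).2
  have hspan : Ideal.span (Set.range (algebraMap R L ∘ f)) = Ideal.span (Set.range f₀) := by
    refine le_antisymm (Ideal.span_le.2 ?_) (Ideal.span_le.2 ?_)
    · rintro _ ⟨i, rfl⟩
      show algebraMap R L (f i) ∈ _
      rw [← hfm i]
      exact Ideal.mul_mem_right _ _ (Ideal.subset_span ⟨i, rfl⟩)
    · rintro _ ⟨i, rfl⟩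
      refine (Ideal.mul_unit_mem_iff_mem _ (hum i)).1 ?_
      rw [hfm i]
      exact Ideal.subset_span ⟨i, rfl⟩
  have hqr : CAlgX.IsQuasiRegular (algebraMap R L ∘ f) := Groth.Agent.QReg6.isQuasiRegular_of_span_eq hf₀ hspan
  have hJ : Ideal.span (Set.range (algebraMap R L ∘ f)) = J.map (algebraMap R L) := hspan.trans hspan₀
  have hkey : ∀ (n : ℕ) (Q : MvPolynomial (Fin r) R), Q.IsHomogeneous n →
      MvPolynomial.eval f Q ∈ J ^ (n + 1) → ∀ d, ∃ k : ℕ, g ^ k * Q.coeff d ∈ J := by
    intro n Q hQ heval d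
    have h1 := hqr n (MvPolynomial.map (algebraMap R L) Q) (hQ.map _) (by
      rw [hJ, ← Ideal.map_pow, ← MvPolynomial.eval₂_eq_eval_map, ← MvPolynomial.eval₂_comp]
      exact Ideal.mem_map_of_mem _ heval) d
    rw [hJ, MvPolynomial.coeff_map] at h1
    obtain ⟨_, ⟨k, rfl⟩, hk⟩ := (IsLocalization.algebraMap_mem_map_algebraMap_iff (Submonoid.powers g) L _ _).1 h1
    exact ⟨k, hk⟩
  refine ⟨g, hg, r, f, hf, ⟨?_, ?_⟩, hkey⟩
  · intro c hc
    choose c' hc' using fun i => Ideal.Quotient.mk_surjective (c i)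
    simp only [← hc', mk_smul] at hc
    rw [toCot_sum J f hf, Ideal.toCotangent_eq_zero] at hc
    let Q : MvPolynomial (Fin r) R := ∑ i, MvPolynomial.C (c' i) * MvPolynomial.X i
    have hQ : Q.IsHomogeneous 1 :=
      MvPolynomial.IsHomogeneous.sum _ _ _ fun i _ => by
        simpa using (MvPolynomial.isHomogeneous_C _ _).mul (MvPolynomial.isHomogeneous_X _ i)
    refine exists_uniform (fun i => ?_) fun i k k' hk h => by
      rw [← Nat.sub_add_cancel hk, pow_add, mul_assoc, h, mul_zero]
    obtain ⟨k, hk⟩ := hkey 1 Q hQ (by simpa [Q] using hc) (Finsupp.single i 1)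
    refine ⟨k, ?_⟩
    rw [← hc' i, ← map_pow, ← map_mul, Ideal.Quotient.eq_zero_iff_mem]
    simpa [Q, MvPolynomial.coeff_sum, MvPolynomial.coeff_C_mul, MvPolynomial.coeff_X', Finsupp.single_left_inj] using hk
  · intro w
    obtain ⟨⟨y, hy⟩, rfl⟩ := J.toCotangent_surjective w
    have h1 : algebraMap R L y ∈ (Ideal.span (Set.range f)).map (algebraMap R L) := by
      rw [Ideal.map_span, ← Set.range_comp, hJ]
      exact Ideal.mem_map_of_mem _ hy
    obtain ⟨_, ⟨k, rfl⟩, hk⟩ := (IsLocalization.algebraMap_mem_map_algebraMap_iff (Submonoid.powers g) L _ _).1 h1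
    obtain ⟨a, ha⟩ := (Submodule.mem_span_range_iff_exists_fun _).1 hk
    refine ⟨k, (Submodule.mem_span_range_iff_exists_fun (R ⧸ J)).2 ⟨fun i => Ideal.Quotient.mk J (a i), ?_⟩⟩
    simp only [← map_pow, mk_smul]
    rw [toCot_sum J f hf, ← map_smul]
    exact congrArg J.toCotangent (Subtype.ext (by simpa using ha))

/-- From local quasi-regularity. -/
theorem symGr_of_isLocallyQuasiRegular (h : PP16.IsLocallyQuasiRegular R J) :
    J.FG ∧ Module.Projective (R ⧸ J) J.Cotangent ∧ PP16.SymGrBijective R J := by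
  classical
  have hfg := fg_of_isLocallyQuasiRegular J h
  haveI : Module.Finite R J := Module.Finite.iff_fg.2 hfg
  haveI : Module.Finite R J.Cotangent := Module.Finite.of_surjective _ J.toCotangent_surjective
  haveI : Module.Finite (R ⧸ J) J.Cotangent := Module.Finite.of_restrictScalars_finite R _ _
  refine ⟨hfg, projective_of_locBasis fun p hp => ?_, fun ι _ _ => ?_⟩
  · haveI := hp
    obtain ⟨g, hg, r, f, hf, hx, -⟩ := exists_data J h (p.comap (Ideal.Quotient.mk J))
      (fun z hz => by rw [Ideal.mem_comap, Ideal.Quotient.eq_zero_iff_mem.2 hz]; exact zero_mem _)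
    exact ⟨_, hg, r, _, hx⟩
  obtain ⟨φ, hφD, hφ⟩ := exists_phi J ι
  refine ⟨φ, hφD, (injective_iff_map_eq_zero φ).2 fun q hq => ?_, phi_surjective J ι φ hφD⟩
  suffices hT : ∀ P : Ideal R, P.IsPrime → ∃ b ∉ P, b • q = 0 by
    have h2 : Ideal.span {b : R | b • q = 0} = ⊤ := span_eq_top_of_forall_prime fun P hP => by
      obtain ⟨b, hb, hbq⟩ := hT P hP
      exact ⟨b, hbq, hb⟩
    have h3 : Ideal.span {b : R | b • q = 0} ≤ LinearMap.ker (LinearMap.toSpanSingleton R _ q) :=
      Ideal.span_le.2 fun b hb => hb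
    have h4 : (1 : R) • q = 0 := LinearMap.mem_ker.1 (h3 (h2 ▸ Submodule.mem_top))
    rwa [one_smul] at h4
  intro P hP
  have hkill : ∀ b ∈ J, ∀ q : SymmetricPower R ι J.Cotangent, b • q = 0 := by
    intro b hb q
    induction q using symPowInduction with
    | h0 => exact smul_zero _
    | hadd u v hu hv => rw [smul_add, hu, hv, add_zero]
    | ht c w =>
      obtain ⟨i⟩ := (inferInstance : Nonempty ι)
      have hbw : b • w i = 0 := by
        rw [← mk_smul, Ideal.Quotient.eq_zero_iff_mem.2 hb, zero_smul]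
      rw [smul_comm, ← Function.update_eq_self i w, ← MultilinearMap.map_update_smul, hbw,
        MultilinearMap.map_update_zero, smul_zero]
  by_cases hJP : J ≤ P
  swap
  · obtain ⟨b, hbJ, hbP⟩ := SetLike.not_le_iff_exists.1 hJP
    exact ⟨b, hbP, hkill b hbJ q⟩
  obtain ⟨b, hb, r, f, hf, hx, hkey⟩ := exists_data J h P hJP
  let V : Submodule R (SymmetricPower R ι J.Cotangent) :=
    Submodule.span R (Set.range fun t : ι → Fin r =>
      SymmetricPower.tprod R fun i => J.toCotangent ⟨f (t i), hf (t i)⟩)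
  have hx2 : ∀ w : J.Cotangent, ∃ k : ℕ, b ^ k • w ∈
      Submodule.span R (Set.range fun i => J.toCotangent ⟨f i, hf i⟩) := fun w => by
    obtain ⟨k, hk⟩ := hx.2 w
    obtain ⟨c, hc⟩ := (Submodule.mem_span_range_iff_exists_fun (R ⧸ J)).1 hk
    choose c' hc' using fun i => Ideal.Quotient.mk_surjective (c i)
    rw [← map_pow, mk_smul] at hc
    simp only [← hc', mk_smul] at hc
    exact ⟨k, (Submodule.mem_span_range_iff_exists_fun R).2 ⟨c', hc⟩⟩
  have hsat : ∀ q : SymmetricPower R ι J.Cotangent, ∃ k : ℕ, b ^ k • q ∈ V := by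
    intro q
    induction q using symPowInduction with
    | h0 => exact ⟨0, by rw [smul_zero]; exact zero_mem _⟩
    | hadd u v hu hv =>
      obtain ⟨k, hk⟩ := hu
      obtain ⟨k', hk'⟩ := hv
      refine ⟨k' + k, ?_⟩
      rw [smul_add, pow_add, mul_smul, mul_smul, smul_comm (b ^ k') (b ^ k) v]
      exact add_mem (V.smul_mem _ hk) (V.smul_mem _ hk')
    | ht c w =>
      choose k hk using fun i => hx2 (w i)
      choose a ha using fun i => (Submodule.mem_span_range_iff_exists_fun R).1 (hk i)
      refine ⟨∑ i, k i, ?_⟩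
      rw [smul_comm]
      refine V.smul_mem c ?_
      rw [← Finset.prod_pow_eq_pow_sum, ← MultilinearMap.map_smul_univ]
      simp only [← ha]
      rw [MultilinearMap.map_sum]
      refine Submodule.sum_mem _ fun t _ => ?_
      rw [MultilinearMap.map_smul_univ]
      exact V.smul_mem _ (Submodule.subset_span ⟨t, rfl⟩)
  obtain ⟨k, hk⟩ := hsat q
  obtain ⟨c, hc⟩ := (Submodule.mem_span_range_iff_exists_fun R).1 hk
  have h0 : φ (∑ t, c t • SymmetricPower.tprod R fun i => J.toCotangent ⟨f (t i), hf (t i)⟩) = 0 := by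
    rw [hc, map_smul, hq, smul_zero]
  simp only [map_sum, map_smul, phi_tprod J ι φ hφ f hf] at h0
  simp only [← map_smul, ← map_sum] at h0
  rw [← map_zero (cls J (Fintype.card ι)), cls_eq_iff, ZeroMemClass.coe_zero, sub_zero, Submodule.coe_sum] at h0
  let dt : (ι → Fin r) → (Fin r →₀ ℕ) := fun t => ∑ i, Finsupp.single (t i) 1
  let Q : MvPolynomial (Fin r) R := ∑ t, MvPolynomial.monomial (dt t) (c t)
  have hQ : Q.IsHomogeneous (Fintype.card ι) := MvPolynomial.IsHomogeneous.sum _ _ _ fun t _ =>
    MvPolynomial.isHomogeneous_monomial _ (by simp [dt, map_sum, Finsupp.degree_single])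
  have heval : MvPolynomial.eval f Q ∈ J ^ (Fintype.card ι + 1) := by
    rw [map_sum]
    convert h0 using 1
    refine Finset.sum_congr rfl fun t _ => ?_
    rw [MvPolynomial.eval_monomial, ← Finsupp.prod_finsetSum_index (fun j => pow_zero _) (fun j m₁ m₂ => pow_add _ _ _)]
    simp [Finsupp.prod_single_index]
  obtain ⟨m, hm⟩ := exists_uniform
    (p := fun d : (Finset.univ.image dt : Finset (Fin r →₀ ℕ)) => fun k => b ^ k * Q.coeff d.1 ∈ J)
    (fun d => hkey _ Q hQ heval d.1)
    fun d k k' hkk h => by rw [← Nat.sub_add_cancel hkk, pow_add, mul_assoc]; exact J.mul_mem_left _ h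
  have hbp : b ^ (m + k) ∉ P := fun hmem => hb (hP.mem_of_pow_mem _ hmem)
  refine ⟨b ^ (m + k), hbp, ?_⟩
  rw [pow_add, mul_smul, ← hc, Finset.smul_sum,
    ← Finset.sum_fiberwise_of_maps_to (g := dt) (t := Finset.univ.image dt) (fun t _ => Finset.mem_image_of_mem _ (Finset.mem_univ t))]
  refine Finset.sum_eq_zero fun d hd => ?_
  obtain ⟨t₀, -, ht₀⟩ := Finset.mem_image.1 hd
  have hperm : ∀ t ∈ Finset.univ.filter (fun t => dt t = d),
      (SymmetricPower.tprod R fun i => J.toCotangent ⟨f (t i), hf (t i)⟩ : SymmetricPower R ι J.Cotangent) =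
        SymmetricPower.tprod R fun i => J.toCotangent ⟨f (t₀ i), hf (t₀ i)⟩ := by
    intro t ht
    obtain ⟨e, he⟩ := exists_perm_of_sum_single t t₀ ((Finset.mem_filter.1 ht).2.trans ht₀.symm)
    rw [← SymmetricPower.tprod_equiv e fun i => J.toCotangent ⟨f (t₀ i), hf (t₀ i)⟩]
    simp only [he]
  have hco : Q.coeff d = ∑ t ∈ Finset.univ.filter (fun t => dt t = d), c t := by
    simp only [Q, MvPolynomial.coeff_sum, MvPolynomial.coeff_monomial]
    rw [Finset.sum_filter]
  rw [Finset.sum_congr rfl fun t ht => by rw [hperm t ht, smul_smul], ← Finset.sum_smul, ← Finset.mul_sum,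
    ← hco]
  exact hkill _ (hm ⟨d, hd⟩) _

end Groth.Agent.CommAlg4.QSym
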