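import Groth.Prelude.Def_SGA1
import Groth.Prelude.Def_SymProd
import Groth.Agent.SGA1Quot.FlatBaseChange
import Groth.Agent.S2925

/-!
# Quotients by finite groups of invertible order: base change and fibre products
-/

set_option autoImplicit false
set_option linter.style.haveILetI false
set_option linter.unusedVariables false
set_option backward.isDefEq.respectTransparency false
set_option backward.isDefEq.respectTransparency.types false

universe u

open CategoryTheory CategoryTheory.Limits AlgebraicGeometry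
open scoped TensorProduct

namespace Groth.Agent.CommAlg4.QuotProd

attribute [local instance] Algebra.TensorProduct.rightAlgebra

theorem invariants_of_isPushout {G : Type u} [Finite G] {R B S B' : CommRingCat.{u}} {ι : R ⟶ B} {j : R ⟶ S}
    {t : B ⟶ B'} {s : S ⟶ B'} (h : IsPushout ι j t s) (hN : IsUnit (Nat.card G : R))
    (hι : Function.Injective ι.hom) (σ : G → (B ⟶ B)) (hσ : ∀ g, ι ≫ σ g = ι)
    (hperm : ∀ h, ∃ π : Equiv.Perm G, ∀ g, σ g ≫ σ h = σ (π g))
    (hfix : ∀ b, (∀ g, σ g b = b) → ∃ r, ι r = b)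
    (σ' : G → (B' ⟶ B')) (ht : ∀ g, t ≫ σ' g = σ g ≫ t) (hs : ∀ g, s ≫ σ' g = s) :
    Function.Injective s.hom ∧ ∀ b', (∀ g, σ' g b' = b') → ∃ a, s a = b' := by
  classical
  cases nonempty_fintype G
  obtain ⟨c, hc⟩ := hN.exists_left_inv
  rw [Nat.card_eq_fintype_card] at hc
  letI := ι.hom.toAlgebra
  letI := j.hom.toAlgebra
  letI := t.hom.toAlgebra
  letI := s.hom.toAlgebra
  letI : Algebra R B' := (j ≫ s).hom.toAlgebra
  haveI : IsScalarTower R S B' := IsScalarTower.of_algebraMap_eq fun x => rfl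
  haveI : IsScalarTower R B B' := IsScalarTower.of_algebraMap_eq fun x => by
    show (j ≫ s) x = (ι ≫ t) x
    rw [h.w]
  haveI : Algebra.IsPushout R S B B' := CommRingCat.isPushout_iff_isPushout.mp h.flip
  let e := Algebra.IsPushout.equiv R S B B'
  have hσ' : ∀ g r, σ g (ι r) = ι r := fun g r => congrArg (fun φ : R ⟶ B => φ r) (hσ g)
  have hinv : ∀ b, ∃ r, ι r = ι c * ∑ g, σ g b := fun b => hfix _ fun h => by
    obtain ⟨π, hπ⟩ := hperm h
    rw [map_mul, hσ' h c, map_sum]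
    congr 1
    exact Fintype.sum_equiv π _ _ fun g => congrArg (fun φ : B ⟶ B => φ b) (hπ g)
  choose A hA using hinv
  let avg : B →ₗ[R] R :=
    { toFun := A
      map_add' := fun b b' => hι (by
        show ι (A (b + b')) = ι (A b + A b')
        rw [map_add, hA, hA, hA, ← mul_add, ← Finset.sum_add_distrib]
        simp only [map_add])
      map_smul' := fun r b => hι (by
        show ι (A (ι r * b)) = ι (r * A b)
        rw [map_mul, hA, hA, mul_left_comm (ι r), Finset.mul_sum (s := Finset.univ) (a := ι r)]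
        simp only [map_mul, hσ']) }
  have hei : ∀ (a : S) (b : B), e (a ⊗ₜ b) = s a * t b := fun a b => by
    rw [show e (a ⊗ₜ b) = _ from Algebra.IsPushout.equiv_tmul (R := R) (S := S) (R' := B) (S' := B') a b]
    rfl
  have hjs : ∀ r, s (j r) = t (ι r) := fun r => (congrArg (fun φ : R ⟶ B' => φ r) h.w).symm
  have key : ∀ x : S ⊗[R] B, s (TensorProduct.rid R S (avg.lTensor S x)) = t (ι c) * ∑ g, σ' g (e x) := fun x => by
    induction x with
    | zero => simp
    | add u v hu hv => simp only [map_add, hu, hv, Finset.sum_add_distrib, mul_add]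
    | tmul a b =>
      rw [LinearMap.lTensor_tmul, TensorProduct.rid_tmul, hei]
      show s (j (A b) * a) = _
      rw [map_mul, hjs, hA, map_mul, map_sum, mul_assoc, Finset.sum_mul]
      congr 1
      refine Finset.sum_congr rfl fun g _ => ?_
      rw [map_mul, show σ' g (s a) = s a from congrArg (fun φ : S ⟶ B' => φ a) (hs g),
        show σ' g (t b) = t (σ g b) from congrArg (fun φ : B ⟶ B' => φ b) (ht g), mul_comm]
  have hcard : ι c * (Fintype.card G : B) = 1 := by
    rw [← map_natCast ι.hom, ← map_mul, hc, map_one]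
  constructor
  · intro a a' haa
    have h1 : a ⊗ₜ[R] (1 : B) = a' ⊗ₜ[R] (1 : B) := by
      apply e.injective
      rw [hei, hei]
      exact congrArg (· * t 1) haa
    have h2 := congrArg (fun x => TensorProduct.rid R S (avg.lTensor S x)) h1
    have hA1 : avg 1 = 1 := hι (by
      show ι (A 1) = ι 1
      rw [hA, map_one]
      simpa using hcard)
    simpa [hA1] using h2
  · intro b' hb'
    refine ⟨TensorProduct.rid R S (avg.lTensor S (e.symm b')), ?_⟩
    rw [key, e.apply_symm_apply]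
    simp only [hb', Finset.sum_const, Finset.card_univ, nsmul_eq_mul]
    rw [← map_natCast t.hom, ← mul_assoc, ← map_mul, hcard, map_one, one_mul]

theorem isQuot_baseChange {X Y X' Y' : Scheme.{u}} {G : Type u} [Group G] [Finite G] (ρ : G →* Aut X)
    (p : X ⟶ Y) (hp : SGA1.IsQuot ρ p) (hN : ∀ V : Y.Opens, IsUnit (Nat.card G : Γ(Y, V))) (qY : Y' ⟶ Y)
    (pX : X' ⟶ X) (p' : X' ⟶ Y') (hX : IsPullback pX p' p qY)
    (ρ' : G →* Aut X') (hρ₁ : ∀ g : G, (ρ' g).hom ≫ pX = pX ≫ (ρ g).hom) (hρ₂ : ∀ g : G, (ρ' g).hom ≫ p' = p') :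
    SGA1.IsQuot ρ' p' := by
  haveI := hp.affine
  haveI : IsAffineHom p' := MorphismProperty.of_isPullback (P := @IsAffineHom) hX hp.affine
  let I := {VW : Y.Opens × Y'.Opens // IsAffineOpen VW.1 ∧ IsAffineOpen VW.2 ∧ VW.2 ≤ qY ⁻¹ᵁ VW.1}
  have hle : ∀ i : I, p' ⁻¹ᵁ i.1.2 ≤ pX ⁻¹ᵁ (p ⁻¹ᵁ i.1.1) := fun i => by
    rw [← Scheme.Hom.comp_preimage, hX.w, Scheme.Hom.comp_preimage]
    exact p'.preimage_mono i.2.2.2
  have hpo : ∀ i : I, IsPushout (p.app i.1.1) (qY.appLE i.1.1 i.1.2 i.2.2.2)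
      (pX.appLE (p ⁻¹ᵁ i.1.1) (p' ⁻¹ᵁ i.1.2) (hle i)) (p'.app i.1.2) := fun i => by
    have := (isIso_pushoutSection_iff hX i.2.2.2 (le_refl (p ⁻¹ᵁ i.1.1)) (inf_eq_right.mpr (hle i)).symm).mp
      (isIso_pushoutSection_of_isAffineOpen hX i.2.2.2 (le_refl (p ⁻¹ᵁ i.1.1)) _ i.2.1 i.2.2.1 (i.2.1.preimage p))
    simpa only [Scheme.Hom.app_eq_appLE] using this
  have main : ∀ i : I, Function.Injective (p'.app i.1.2).hom ∧
      ∀ b', (∀ g : G, (ρ' g).hom.appLE _ _ (SGA1.preimage_le_of_inv ρ' p' hρ₂ g i.1.2) b' = b') →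
        ∃ a, p'.app i.1.2 a = b' := fun i => by
    refine invariants_of_isPushout (hpo i) (hN _) (hp.injective _)
      (fun g => (ρ g).hom.appLE _ _ (SGA1.preimage_le_of_inv ρ p hp.inv g i.1.1)) (fun g => ?_)
      (fun h => ⟨Equiv.mulRight h, fun g => ?_⟩)
      (fun b hb => (hp.range_iff _ b).mpr hb)
      (fun g => (ρ' g).hom.appLE _ _ (SGA1.preimage_le_of_inv ρ' p' hρ₂ g i.1.2)) (fun g => ?_) (fun g => ?_)
    · rw [Scheme.Hom.app_eq_appLE, Scheme.Hom.appLE_comp_appLE]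
      exact SGA1Quot.appLE_congr _ _ _ _ (hp.inv g)
    · rw [Scheme.Hom.appLE_comp_appLE]
      exact SGA1Quot.appLE_congr _ _ _ _ (by rw [Equiv.coe_mulRight, map_mul]; rfl)
    · rw [Scheme.Hom.appLE_comp_appLE, Scheme.Hom.appLE_comp_appLE]
      exact SGA1Quot.appLE_congr _ _ _ _ (hρ₁ g)
    · rw [Scheme.Hom.app_eq_appLE, Scheme.Hom.appLE_comp_appLE]
      exact SGA1Quot.appLE_congr _ _ _ _ (hρ₂ g)
  refine SGA1Quot.isQuot_of_cover ρ' p' hρ₂ (fun i : I => i.1.2) (fun i => i.2.2.1) (fun y => ?_)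
    (fun i => (main i).1) (fun i s hs => ?_)
  · obtain ⟨V, hV, hyV, -⟩ := exists_isAffineOpen_mem_and_subset (x := qY y) (U := (⊤ : Y.Opens)) trivial
    obtain ⟨W, hW, hyW, hWV⟩ := exists_isAffineOpen_mem_and_subset (x := y) (U := qY ⁻¹ᵁ V) hyV
    exact ⟨⟨(V, W), hV, hW, hWV⟩, hyW⟩
  · refine (main i).2 s fun g => ?_
    have := hs g⁻¹
    simp only [FEtQuot.act, inv_inv] at this
    exact this

variable {A B S : Scheme.{u}} {G : Type u} [Group G]

/-- The action on the first factor of a fibre product. -/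
noncomputable def actFst (a : A ⟶ S) (b : B ⟶ S) (ρ : G →* Aut A) (ha : ∀ g, (ρ g).hom ≫ a = a) :
    G →* Aut (pullback a b) :=
  MonoidHom.mk' (fun g =>
    { hom := pullback.map a b a b (ρ g).hom (𝟙 B) (𝟙 S) (by simp [ha]) (by simp)
      inv := pullback.map a b a b (ρ g).inv (𝟙 B) (𝟙 S) (by rw [Category.comp_id, Iso.eq_inv_comp, ha]) (by simp)
      hom_inv_id := by apply pullback.hom_ext <;> simp
      inv_hom_id := by apply pullback.hom_ext <;> simp })
    fun g h => Iso.ext (by apply pullback.hom_ext <;> simp [Aut.Aut_mul_def])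

/-- The action on the second factor of a fibre product. -/
noncomputable def actSnd (a : A ⟶ S) (b : B ⟶ S) (ρ : G →* Aut B) (hb : ∀ g, (ρ g).hom ≫ b = b) :
    G →* Aut (pullback a b) :=
  MonoidHom.mk' (fun g =>
    { hom := pullback.map a b a b (𝟙 A) (ρ g).hom (𝟙 S) (by simp) (by simp [hb])
      inv := pullback.map a b a b (𝟙 A) (ρ g).inv (𝟙 S) (by simp) (by rw [Category.comp_id, Iso.eq_inv_comp, hb])
      hom_inv_id := by apply pullback.hom_ext <;> simp
      inv_hom_id := by apply pullback.hom_ext <;> simp })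
    fun g h => Iso.ext (by apply pullback.hom_ext <;> simp [Aut.Aut_mul_def])

variable {H : Type u} [Group H] [Finite G] [Finite H] {SA SB : Scheme.{u}}

/-- A fibre product of two quotients by groups of invertible order is a categorical quotient. -/
theorem prod_desc (ga : SA ⟶ S) (gb : SB ⟶ S) (qa : A ⟶ SA) (qb : B ⟶ SB) (a : A ⟶ S) (b : B ⟶ S)
    (hwa : qa ≫ ga = a) (hwb : qb ≫ gb = b) (ρ : G →* Aut A) (τ : H →* Aut B) (hqa : SGA1.IsQuot ρ qa)
    (hqb : SGA1.IsQuot τ qb) (hG : ∀ V : SA.Opens, IsUnit (Nat.card G : Γ(SA, V)))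
    (hH : ∀ V : SB.Opens, IsUnit (Nat.card H : Γ(SB, V))) :
    Epi (pullback.map a b ga gb qa qb (𝟙 S) (by simp [hwa]) (by simp [hwb])) ∧
      ∀ (V : Scheme.{u}) (u : pullback a b ⟶ V),
        (∀ g, pullback.map a b a b (ρ g).hom (𝟙 B) (𝟙 S) (by simp [← hwa, reassoc_of% (hqa.inv g)]) (by simp) ≫ u = u) →
        (∀ g, pullback.map a b a b (𝟙 A) (τ g).hom (𝟙 S) (by simp) (by simp [← hwb, reassoc_of% (hqb.inv g)]) ≫ u = u) →
        ∃ w, pullback.map a b ga gb qa qb (𝟙 S) (by simp [hwa]) (by simp [hwb]) ≫ w = u := by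
  have ha : ∀ g, (ρ g).hom ≫ a = a := fun g => by rw [← hwa, reassoc_of% (hqa.inv g)]
  have hb : ∀ g, (τ g).hom ≫ b = b := fun g => by rw [← hwb, reassoc_of% (hqb.inv g)]
  let m₁ : pullback a b ⟶ pullback ga b := pullback.map a b ga b qa (𝟙 B) (𝟙 S) (by simp [hwa]) (by simp)
  let m₂ : pullback ga b ⟶ pullback ga gb := pullback.map ga b ga gb (𝟙 SA) qb (𝟙 S) (by simp) (by simp [hwb])
  have hm : m₁ ≫ m₂ = pullback.map a b ga gb qa qb (𝟙 S) (by simp [hwa]) (by simp [hwb]) := by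
    apply pullback.hom_ext <;> simp [m₁, m₂]
  have p₁ : IsPullback (pullback.fst a b) m₁ qa (pullback.fst ga b) := by
    refine (IsPullback.of_right (t := (IsPullback.of_hasPullback ga b).flip) ?_ (by simp [m₁])).flip
    rw [hwa, show m₁ ≫ pullback.snd ga b = pullback.snd a b by simp [m₁]]
    exact (IsPullback.of_hasPullback a b).flip
  have p₂ : IsPullback (pullback.snd ga b) m₂ qb (pullback.snd ga gb) := by
    refine (IsPullback.of_right (t := IsPullback.of_hasPullback ga gb) ?_ (by simp [m₂])).flip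
    rw [hwb, show m₂ ≫ pullback.fst ga gb = pullback.fst ga b by simp [m₂]]
    exact IsPullback.of_hasPullback ga b
  have q₁ := isQuot_baseChange ρ qa hqa hG (pullback.fst ga b) (pullback.fst a b) m₁ p₁ (actFst a b ρ ha)
    (fun g => by simp [actFst]) (fun g => by apply pullback.hom_ext <;> simp [actFst, m₁, hqa.inv g])
  have q₂ := isQuot_baseChange τ qb hqb hH (pullback.snd ga gb) (pullback.snd ga b) m₂ p₂ (actSnd ga b τ hb)
    (fun g => by simp [actSnd]) (fun g => by apply pullback.hom_ext <;> simp [actSnd, m₂, hqb.inv g])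
  haveI e₁ : Epi m₁ := ⟨fun w w' hw => (S2925.result _ _ q₁ _ (m₁ ≫ w) (fun g => by
    rw [reassoc_of% (q₁.inv g)])).unique rfl hw.symm⟩
  haveI e₂ : Epi m₂ := ⟨fun w w' hw => (S2925.result _ _ q₂ _ (m₂ ≫ w) (fun g => by
    rw [reassoc_of% (q₂.inv g)])).unique rfl hw.symm⟩
  refine ⟨by rw [← hm]; exact epi_comp _ _, fun V u hu₁ hu₂ => ?_⟩
  obtain ⟨v, hv, -⟩ := S2925.result _ _ q₁ V u (fun g => hu₁ g)
  obtain ⟨w, hw, -⟩ := S2925.result _ _ q₂ V v (fun g => by
    rw [← cancel_epi m₁, ← Category.assoc, show m₁ ≫ (actSnd ga b τ hb g).hom =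
      pullback.map a b a b (𝟙 A) (τ g).hom (𝟙 S) (by simp) (by simp [hb g]) ≫ m₁ by
        apply pullback.hom_ext <;> simp [actSnd, m₁], Category.assoc, hv, hu₂ g])
  exact ⟨w, by rw [← hm, Category.assoc, hw, hv]⟩

theorem isUnit_natCast_sections {k : Type u} [Field k] [CharZero k] {X : Scheme.{u}}
    (p : X ⟶ Spec (CommRingCat.of k)) (n : ℕ) (hn : n ≠ 0) (V : X.Opens) : IsUnit (n : Γ(X, V)) := by
  let φ : k →+* Γ(X, V) := ((Scheme.ΓSpecIso (CommRingCat.of k)).inv ≫ p.appLE ⊤ V le_top).hom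
  rw [← map_natCast φ n]
  exact (isUnit_iff_ne_zero.2 (Nat.cast_ne_zero.2 hn)).map φ

end Groth.Agent.CommAlg4.QuotProd
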