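import Mathlib

/-! The t-structure on the quotient by a subcategory compatible with a bounded t-structure. -/

set_option autoImplicit false
set_option backward.isDefEq.respectTransparency false
set_option backward.defeqAttrib.useBackward true
set_option linter.style.haveILetI false
set_option linter.unusedSectionVars false

universe v v' u u'

open CategoryTheory CategoryTheory.Limits CategoryTheory.Pretriangulated CategoryTheory.Triangulated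

namespace Groth.Agent.CommAlg4.QuotTStruct

variable {C : Type u} [Category.{v} C] [Preadditive C] [HasZeroObject C] [HasShift C ℤ]
  [∀ n : ℤ, (shiftFunctor C n).Additive] [Pretriangulated C] [IsTriangulated C]
  (t : TStructure C) (D : ObjectProperty C) [D.IsTriangulated] [D.IsClosedUnderIsomorphisms]

/-- Compatibility of a subcategory with a t-structure. -/
structure Compat : Prop where
  bdd : ∀ X : C, t.bounded X
  coh : ∀ X : C, D X → ∀ n : ℤ, D ((t.truncGELE n n).obj X)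
  heart : ∀ (X Y Z : C) (f : X ⟶ Y) (g : Y ⟶ Z) (h : Z ⟶ X⟦(1 : ℤ)⟧),
    Triangle.mk f g h ∈ distTriang C → t.heart X → t.heart Y → t.heart Z → D Y → D X ∧ D Z

variable {t D}

/-- Truncations preserve the subcategory. -/
theorem mem_truncGE (hc : Compat t D) {W : C} (hW : D W) (k : ℤ) : D ((t.truncGE k).obj W) := by
  obtain ⟨-, b, hb⟩ := hc.bdd W
  haveI := hb
  suffices H : ∀ (m : ℕ) (k : ℤ), b + 1 - m ≤ k → D ((t.truncGE k).obj W) from
    H (b + 1 - k).toNat k (by omega)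
  intro m
  induction m with
  | zero =>
    intro k hk
    haveI : t.IsLE W (k - 1) := t.isLE_of_le W b (k - 1) (by omega)
    exact D.prop_of_isZero (t.isZero_truncGE_obj_of_isLE (k - 1) k (by omega) W)
  | succ m ih =>
    intro k hk
    have hT := t.triangleLEGE_distinguished k (k + 1) rfl ((t.truncGE k).obj W)
    have h₁ : D ((t.truncLE k).obj ((t.truncGE k).obj W)) :=
      D.prop_of_iso ((t.truncGELEIsoLEGE k k).app W) (hc.coh W hW k)
    have h₃ : D ((t.truncGE (k + 1)).obj ((t.truncGE k).obj W)) := by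
      haveI := t.isIso_truncGE_map_truncGEπ_app (k + 1) k (by omega) W
      exact D.prop_of_iso (asIso ((t.truncGE (k + 1)).map ((t.truncGEπ k).app W))) (ih (k + 1) (by omega))
    exact D.ext_of_isTriangulatedClosed₂ _ hT h₁ h₃

/-- Objects of the subcategory split inside it. -/
theorem exists_split (hc : Compat t D) {W : C} (hW : D W) (k k' : ℤ) (hk : k + 1 = k') :
    ∃ (W₀ W₁ : C) (a : W₀ ⟶ W) (b : W ⟶ W₁) (c : W₁ ⟶ W₀⟦(1 : ℤ)⟧),
      Triangle.mk a b c ∈ distTriang C ∧ t.IsLE W₀ k ∧ t.IsGE W₁ k' ∧ D W₀ ∧ D W₁ := by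
  have hT : (t.triangleLEGE k k' hk).obj W ∈ distTriang C := t.triangleLEGE_distinguished k k' hk W
  have h₃ : D ((t.truncGE k').obj W) := mem_truncGE hc hW k'
  exact ⟨_, _, _, _, _, hT, inferInstanceAs (t.IsLE ((t.truncLE k).obj W) k),
    inferInstanceAs (t.IsGE ((t.truncGE k').obj W) k'),
    D.ext_of_isTriangulatedClosed₁ ((t.triangleLEGE k k' hk).obj W) hT hW h₃, h₃⟩

/-- A morphism invertible modulo `D` into an object `≤ 0` restricts to one out of an object `≤ 0`. -/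
theorem exists_trW_restrict (hc : Compat t D) {X' X : C} (s : X' ⟶ X) (hs : D.trW s) [t.IsLE X 0] :
    ∃ (X₀ : C) (ι : X₀ ⟶ X'), t.IsLE X₀ 0 ∧ D.trW ι := by
  obtain ⟨W, g, δ, hT, hW⟩ := (D.trW_iff s).1 hs
  obtain ⟨W₀, W₁, a, bW, cW, hW', hW₀le, hW₁ge, hW₀, hW₁⟩ := exists_split hc hW 0 1 rfl
  obtain ⟨x, hx⟩ := Triangle.coyoneda_exact₂ _ hW' g (t.zero (g ≫ bW) 0 1 (by omega))
  obtain ⟨P, v, w, hP⟩ := distinguished_cocone_triangle x
  let O₁ := someOctahedron (show x ≫ a = g from hx.symm) hP hW' (rot_of_distTriang _ hT)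
  have hPle : t.IsLE P 0 := t.isLE₂ _ (rot_of_distTriang _ hP) 0 hW₀le
    (by haveI : t.IsLE (X⟦(1 : ℤ)⟧) (-1) := t.isLE_shift X 0 1 (-1) (by omega)
        exact t.isLE_of_le (X⟦(1 : ℤ)⟧) (-1) 0 (by omega))
  obtain ⟨P', HP, hP'le, hHPge, j, c, d, hPH⟩ := t.exists_triangle P (-1) 0 (by omega)
  haveI : t.IsLE P' (-1) := ⟨hP'le⟩
  haveI : t.IsGE HP 0 := ⟨hHPge⟩
  haveI : t.IsLE (P'⟦(1 : ℤ)⟧) (-2) := t.isLE_shift P' (-1) 1 (-2) (by omega)
  have hHPle : t.IsLE HP 0 := t.isLE₂ _ (rot_of_distTriang _ hPH) 0 hPle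
    (t.isLE_of_le (P'⟦(1 : ℤ)⟧) (-2) 0 (by omega))
  -- the top cohomology of the truncated cone
  obtain ⟨W', HW, a', e, c', hW0, hW'le, hHWge, -, hHW⟩ := exists_split hc hW₀ (-1) 0 (by omega)
  haveI : t.IsLE (W'⟦(1 : ℤ)⟧) (-2) := t.isLE_shift W' (-1) 1 (-2) (by omega)
  have hHWle : t.IsLE HW 0 := t.isLE₂ _ (rot_of_distTriang _ hW0) 0 hW₀le
    (t.isLE_of_le (W'⟦(1 : ℤ)⟧) (-2) 0 (by omega))
  obtain ⟨b, hb⟩ := Triangle.yoneda_exact₂ _ hW0 (v ≫ c) (t.zero (a' ≫ v ≫ c) (-1) 0 (by omega))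
  obtain ⟨Z, u₂, u₃, hZ⟩ := distinguished_cocone_triangle (v ≫ c)
  let O₂ := someOctahedron (rfl : v ≫ c = v ≫ c) (rot_of_distTriang _ hP) (rot_of_distTriang _ hPH) hZ
  have hZle : t.IsLE Z (-1) := t.isLE₂ _ O₂.mem (-1) (t.isLE_shift X 0 1 (-1) (by omega))
    (t.isLE_of_le (P'⟦(1 : ℤ)⟧) (-2) (-1) (by omega))
  obtain ⟨Zb, p₂, p₃, hZb⟩ := distinguished_cocone_triangle b
  let O₃ := someOctahedron (show e ≫ b = v ≫ c from hb.symm) (rot_of_distTriang _ hW0) hZb hZ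
  have hZble : t.IsLE Zb (-1) := by
    haveI : t.IsLE ((W'⟦(1 : ℤ)⟧)⟦(1 : ℤ)⟧) (-3) := t.isLE_shift _ (-2) 1 (-3) (by omega)
    exact t.isLE₂ _ (rot_of_distTriang _ O₃.mem) (-1) hZle
      (t.isLE_of_le ((W'⟦(1 : ℤ)⟧)⟦(1 : ℤ)⟧) (-3) (-1) (by omega))
  have hHP : D HP := by
    have hK := inv_rot_of_distTriang _ hZb
    have hKle : t.IsLE (Zb⟦(-1 : ℤ)⟧) 0 := t.isLE_shift Zb (-1) (-1) 0 (by omega)
    have hKge : t.IsGE (Zb⟦(-1 : ℤ)⟧) 0 := t.isGE₂ _ (inv_rot_of_distTriang _ hK) 0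
      (by haveI : t.IsGE (HP⟦(-1 : ℤ)⟧) 1 := t.isGE_shift HP 0 (-1) 1 (by omega)
          exact t.isGE_of_ge (HP⟦(-1 : ℤ)⟧) 0 1 (by omega)) hHWge
    exact (hc.heart _ _ _ _ _ _ hK ((t.mem_heart_iff _).2 ⟨hKle, hKge⟩) ((t.mem_heart_iff _).2 ⟨hHWle, hHWge⟩)
      ((t.mem_heart_iff _).2 ⟨hHPle, (⟨hHPge⟩ : t.IsGE HP 0)⟩) hHW).2
  obtain ⟨Q, q₂, q₃, hQ⟩ := distinguished_cocone_triangle (j ≫ O₁.m₁)
  let O₄ := someOctahedron (rfl : j ≫ O₁.m₁ = _) hPH O₁.mem hQ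
  have hQD : D Q := D.ext_of_isTriangulatedClosed₂ _ O₄.mem hHP hW₁
  have hj : D.trW (j ≫ O₁.m₁) := ObjectProperty.trW.mk _ hQ hQD
  let ε := (shiftEquiv C (1 : ℤ)).unitIso.symm.app X'
  refine ⟨P'⟦(-1 : ℤ)⟧, (shiftFunctor C (-1 : ℤ)).map (j ≫ O₁.m₁) ≫ ε.hom,
    t.isLE_shift P' (-1) (-1) 0 (by omega), ?_⟩
  rw [MorphismProperty.cancel_right_of_respectsIso D.trW _ ε.hom]
  exact (MorphismProperty.IsCompatibleWithShift.iff D.trW (j ≫ O₁.m₁) (-1 : ℤ)).2 hj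

variable {E : Type u'} [Category.{v'} E] [Preadditive E] [HasZeroObject E] [HasShift E ℤ]
  [∀ n : ℤ, (shiftFunctor E n).Additive] [Pretriangulated E]
  (q : C ⥤ E) [q.CommShift ℤ] [q.IsTriangulated] [q.IsLocalization D.trW]

/-- Orthogonality in the quotient. -/
theorem map_eq_zero (hc : Compat t D) {X Y : C} [t.IsLE X 0] [t.IsGE Y 1] (φ : q.obj X ⟶ q.obj Y) : φ = 0 := by
  obtain ⟨r, hr⟩ := Localization.exists_rightFraction q D.trW φ
  obtain ⟨X₀, ι, hX₀, hι⟩ := exists_trW_restrict hc r.s r.hs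
  haveI := hX₀
  haveI : IsIso (q.map ι) := Localization.inverts q D.trW ι hι
  haveI : IsIso (q.map r.s) := Localization.inverts q D.trW r.s r.hs
  have h0 : q.map r.f = 0 := by
    rw [← cancel_epi (q.map ι), comp_zero, ← q.map_comp, t.zero (ι ≫ r.f) 0 1 (by omega), q.map_zero]
  rw [← cancel_epi (q.map r.s), comp_zero, hr, MorphismProperty.RightFraction.map_s_comp_map, h0]

variable (t)

/-- The image of the objects `≤ n`. -/
def qle (n : ℤ) : ObjectProperty E := fun Y => ∃ X : C, t.IsLE X n ∧ Nonempty (q.obj X ≅ Y)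

/-- The image of the objects `≥ n`. -/
def qge (n : ℤ) : ObjectProperty E := fun Y => ∃ X : C, t.IsGE X n ∧ Nonempty (q.obj X ≅ Y)

/-- The quotient t-structure. -/
def quotT (hc : Compat t D) : TStructure E where
  le := qle t q
  ge := qge t q
  le_isClosedUnderIsomorphisms n := ⟨fun e ⟨X, h, ⟨f⟩⟩ => ⟨X, h, ⟨f ≪≫ e⟩⟩⟩
  ge_isClosedUnderIsomorphisms n := ⟨fun e ⟨X, h, ⟨f⟩⟩ => ⟨X, h, ⟨f ≪≫ e⟩⟩⟩
  le_shift n a n' h Y := fun ⟨X, hX, ⟨f⟩⟩ =>
    ⟨X⟦a⟧, t.isLE_shift X n a n' h, ⟨(q.commShiftIso a).app X ≪≫ (shiftFunctor E a).mapIso f⟩⟩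
  ge_shift n a n' h Y := fun ⟨X, hX, ⟨f⟩⟩ =>
    ⟨X⟦a⟧, t.isGE_shift X n a n' h, ⟨(q.commShiftIso a).app X ≪≫ (shiftFunctor E a).mapIso f⟩⟩
  zero' Y₁ Y₂ f := fun ⟨X₁, h₁, ⟨e₁⟩⟩ ⟨X₂, h₂, ⟨e₂⟩⟩ => by
    haveI := h₁
    haveI := h₂
    rw [← cancel_epi e₁.hom, ← cancel_mono e₂.inv, comp_zero, zero_comp]
    exact map_eq_zero q hc _
  le_zero_le := fun Y ⟨X, hX, e⟩ => ⟨X, (haveI := hX; t.isLE_of_le X 0 1 (by omega)), e⟩
  ge_one_le := fun Y ⟨X, hX, e⟩ => ⟨X, (haveI := hX; t.isGE_of_ge X 0 1 (by omega)), e⟩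
  exists_triangle_zero_one Y := by
    haveI := Localization.essSurj q D.trW
    let e := q.objObjPreimageIso Y
    obtain ⟨X₀, X₁, h₀, h₁, f, g, h, hT⟩ := t.exists_triangle_zero_one (q.objPreimage Y)
    refine ⟨q.obj X₀, q.obj X₁, ⟨X₀, ⟨h₀⟩, ⟨Iso.refl _⟩⟩, ⟨X₁, ⟨h₁⟩, ⟨Iso.refl _⟩⟩, q.map f ≫ e.hom,
      e.inv ≫ q.map g, q.map h ≫ (q.commShiftIso (1 : ℤ)).hom.app X₀, ?_⟩
    exact isomorphic_distinguished _ (q.map_distinguished _ hT) _
      (Triangle.isoMk _ _ (Iso.refl _) e.symm (Iso.refl _) (by simp) (by simp) (by simp))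

/-- T-structures with the same predicates are equal. -/
theorem tStructure_ext (a b : TStructure E) (h₁ : a.le = b.le) (h₂ : a.ge = b.ge) : a = b := by
  cases a
  cases b
  cases h₁
  cases h₂
  rfl

/-- Uniqueness. -/
theorem eq_quotT (hc : Compat t D) (t'' : TStructure E)
    (hle : ∀ (X : C) (n : ℤ), t.IsLE X n → t''.IsLE (q.obj X) n)
    (hge : ∀ (X : C) (n : ℤ), t.IsGE X n → t''.IsGE (q.obj X) n) : t'' = quotT t q hc := by
  let t' := quotT t q hc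
  have le' : ∀ n Y, t'.le n Y → t''.le n Y := fun n Y ⟨X, hX, ⟨e⟩⟩ => (t''.le n).prop_of_iso e (hle X n hX).le
  have ge' : ∀ n Y, t'.ge n Y → t''.ge n Y := fun n Y ⟨X, hX, ⟨e⟩⟩ => (t''.ge n).prop_of_iso e (hge X n hX).ge
  refine tStructure_ext _ _ ?_ ?_
  · funext n Y
    refine propext ⟨fun hY => ?_, le' n Y⟩
    haveI : t''.IsLE Y n := ⟨hY⟩
    obtain ⟨A, B, hA, hB, f, g, h, hT⟩ := t'.exists_triangle Y n (n + 1) rfl
    haveI : t'.IsLE A n := ⟨hA⟩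
    haveI : t'.IsGE B (n + 1) := ⟨hB⟩
    haveI : t''.IsGE B (n + 1) := ⟨ge' _ _ hB⟩
    haveI : t'.IsLE (A⟦(1 : ℤ)⟧) (n - 1) := t'.isLE_shift A n 1 (n - 1) (by omega)
    have hg : g = 0 := t''.zero g n (n + 1) (by omega)
    have hz : IsZero B := by
      rw [IsZero.iff_id_eq_zero]
      obtain ⟨x, hx⟩ := Triangle.yoneda_exact₃ _ hT (𝟙 B) (by
        show g ≫ 𝟙 B = 0
        rw [hg, zero_comp])
      change A⟦(1 : ℤ)⟧ ⟶ B at x
      have hx0 : x = 0 := t'.zero x (n - 1) (n + 1) (by omega)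
      refine hx.trans ?_
      rw [hx0]
      exact comp_zero
    haveI : IsIso f := (Triangle.isZero₃_iff_isIso₁ _ hT).1 hz
    exact (t'.le n).prop_of_iso (asIso f) hA
  · funext n Y
    refine propext ⟨fun hY => ?_, ge' n Y⟩
    haveI : t''.IsGE Y n := ⟨hY⟩
    obtain ⟨A, B, hA, hB, f, g, h, hT⟩ := t'.exists_triangle Y (n - 1) n (by omega)
    haveI : t'.IsLE A (n - 1) := ⟨hA⟩
    haveI : t'.IsGE B n := ⟨hB⟩
    haveI : t''.IsLE A (n - 1) := ⟨le' _ _ hA⟩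
    haveI : t'.IsGE (B⟦(-1 : ℤ)⟧) (n + 1) := t'.isGE_shift B n (-1) (n + 1) (by omega)
    have hf : f = 0 := t''.zero f (n - 1) n (by omega)
    have hz : IsZero A := by
      rw [IsZero.iff_id_eq_zero]
      obtain ⟨x, hx⟩ := Triangle.coyoneda_exact₂ _ (inv_rot_of_distTriang _ hT) (𝟙 A) (by
        show 𝟙 A ≫ f = 0
        rw [hf, comp_zero])
      change A ⟶ B⟦(-1 : ℤ)⟧ at x
      haveI := t'.isLE_of_le A (n - 1) n (by omega)
      have hx0 : x = 0 := t'.zero x n (n + 1) (by omega)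
      refine hx.trans ?_
      rw [hx0]
      exact zero_comp
    haveI : IsIso g := (Triangle.isZero₁_iff_isIso₂ _ hT).1 hz
    exact (t'.ge n).prop_of_iso (asIso g).symm hB

end Groth.Agent.CommAlg4.QuotTStruct
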