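import Mathlib
import Groth.Prelude.Def_W4c1limliniiiiRamP1

/-!
Rational functions of degree `d` on the line with three prescribed ramification points:
Wronskian order bookkeeping, rigidity of pencils, and the construction from a relation.
-/

set_option autoImplicit false

namespace Groth.Agent.CommAlg4.RamP1Three

open Polynomial W4c1limliniiii

variable {k : Type*} [Field k]

lemma pow_dvd_derivative {s : k[X]} {a : k} {m : ℕ} (h : (X - C a) ^ (m + 1) ∣ s) :
    (X - C a) ^ m ∣ derivative s := by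
  obtain ⟨q, rfl⟩ := h
  rw [derivative_mul, derivative_pow_succ, derivative_X_sub_C, mul_one]
  exact dvd_add (Dvd.dvd.mul_right (Dvd.dvd.mul_left dvd_rfl _) _)
    (Dvd.dvd.mul_right (pow_dvd_pow _ (Nat.le_succ m)) _)

lemma pow_dvd_wronskian {s t : k[X]} {a : k} {m : ℕ} (h : (X - C a) ^ (m + 1) ∣ s) :
    (X - C a) ^ m ∣ wronskian s t :=
  dvd_sub (Dvd.dvd.mul_right (dvd_trans (pow_dvd_pow _ (Nat.le_succ m)) h) _)
    (Dvd.dvd.mul_right (pow_dvd_derivative h) _)

lemma pow_dvd_wronskian_of_common {s t : k[X]} {a : k} {m : ℕ} (h : (X - C a) ^ (m + 1) ∣ s)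
    (ht : X - C a ∣ t) : (X - C a) ^ (m + 1) ∣ wronskian s t := by
  refine dvd_sub (Dvd.dvd.mul_right h _) ?_
  rw [pow_succ]
  exact mul_dvd_mul (pow_dvd_derivative h) ht

lemma natDegree_wronskian_le {F G : k[X]} {d : ℕ} (hF : F.natDegree ≤ d) (hG : G.natDegree ≤ d)
    (hw : wronskian F G ≠ 0) : (wronskian F G).natDegree + 2 ≤ 2 * d := by
  by_cases hF' : F.natDegree = d
  · set c := G.coeff d / F.coeff d with hc
    have hF0 : F ≠ 0 := fun h => hw (by rw [h, wronskian_zero_left])
    have hlead : F.coeff d ≠ 0 := by rw [← hF']; exact leadingCoeff_ne_zero.2 hF0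
    have hw' : wronskian F (G - C c * F) = wronskian F G := by
      simp only [wronskian, derivative_sub, derivative_C_mul]; ring
    have hG' : (G - C c * F).natDegree + 1 ≤ d := by
      have h1 : (G - C c * F).natDegree ≤ d :=
        (natDegree_sub_le _ _).trans (max_le hG ((natDegree_C_mul_le _ _).trans hF))
      by_contra hcon
      have h2 : (G - C c * F).natDegree = d := by omega
      have h3 : (G - C c * F).coeff d = 0 := by
        rw [coeff_sub, coeff_C_mul, hc, div_mul_cancel₀ _ hlead, sub_self]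
      have h0 : G - C c * F = 0 := by
        rw [← leadingCoeff_eq_zero, leadingCoeff, h2, h3]
      exact hw (by rw [← hw', h0, wronskian_zero_right])
    have := natDegree_wronskian_lt_add (hw' ▸ hw : wronskian F (G - C c * F) ≠ 0)
    rw [hw'] at this
    omega
  · have := natDegree_wronskian_lt_add hw
    omega

variable {n : ℕ}

lemma prod_pow_dvd {P : Fin n → k} (hP : Function.Injective P) (e : Fin n → ℕ) {W : k[X]}
    (h : ∀ i, (X - C (P i)) ^ e i ∣ W) : (∏ i, (X - C (P i)) ^ e i) ∣ W :=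
  Finset.prod_dvd_of_coprime
    (fun i _ j _ hij => ((pairwise_coprime_X_sub_C hP) hij).pow) (fun i _ => h i)

lemma natDegree_prod_pow (P : Fin n → k) (e : Fin n → ℕ) :
    (∏ i, (X - C (P i)) ^ e i).natDegree = ∑ i, e i := by
  rw [natDegree_prod _ _ (fun i _ => pow_ne_zero _ (X_sub_C_ne_zero _))]
  simp

lemma natDegree_le_of_mem {d : ℕ} {s : k[X]} (h : s ∈ degreeLE k d) : s.natDegree ≤ d :=
  natDegree_le_iff_degree_le.2 (mem_degreeLE.1 h)

lemma wronskian_span {F G s t : k[X]} (hs : s ∈ Submodule.span k {F, G}) (ht : t ∈ Submodule.span k {F, G}) :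
    ∃ c : k, wronskian s t = C c * wronskian F G := by
  obtain ⟨a, b, rfl⟩ := Submodule.mem_span_pair.1 hs
  obtain ⟨a', b', rfl⟩ := Submodule.mem_span_pair.1 ht
  refine ⟨a * b' - b * a', ?_⟩
  simp only [wronskian, smul_eq_C_mul, derivative_add, derivative_C_mul, map_sub, map_mul]
  ring

lemma span_pair_eq {V : Submodule k k[X]} (h2 : Module.finrank k V = 2) {F G : k[X]} (hF : F ∈ V) (hG : G ∈ V)
    (hli : LinearIndependent k ![F, G]) : Submodule.span k {F, G} = V := by
  haveI : Module.Finite k V := Module.finite_of_finrank_eq_succ h2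
  refine Submodule.eq_of_le_of_finrank_eq (Submodule.span_le.2 (Set.insert_subset hF (Set.singleton_subset_iff.2 hG))) ?_
  have := finrank_span_eq_card hli
  rw [Matrix.range_cons, Matrix.range_cons, Matrix.range_empty, Set.union_empty, Set.singleton_union] at this
  rw [h2]; simpa using this

lemma finrank_span_pair {F G : k[X]} (hli : LinearIndependent k ![F, G]) :
    Module.finrank k (Submodule.span k ({F, G} : Set k[X])) = 2 := by
  have := finrank_span_eq_card hli
  rw [Matrix.range_cons, Matrix.range_cons, Matrix.range_empty, Set.union_empty, Set.singleton_union] at this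
  simpa using this

/-- A relation among three polynomials with prescribed vanishing. -/
structure Rel (d : ℕ) (P : Fin 3 → k) (e : Fin 3 → ℕ) where
  F : Fin 3 → k[X]
  sum : F 0 + F 1 + F 2 = 0
  deg : ∀ i, (F i).natDegree ≤ d
  dvd : ∀ i, (X - C (P i)) ^ e i ∣ F i

variable {d p : ℕ} {P : Fin 3 → k} {e : Fin 3 → ℕ}

lemma exists_rel (he : ∀ i, e i ≤ d) (hsum : (∑ i, e i) = 2 * d + 1) :
    ∃ R : Rel d P e, ¬ (R.F 0 = 0 ∧ R.F 1 = 0 ∧ R.F 2 = 0) := by
  let L : ((i : Fin 3) → degreeLT k (d + 1 - e i)) →ₗ[k] degreeLT k (d + 1) :=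
    LinearMap.codRestrict _
      (∑ i, (LinearMap.mulLeft k ((X - C (P i)) ^ e i)).comp
        ((degreeLT k (d + 1 - e i)).subtype.comp (LinearMap.proj i)))
      (fun x => by
        rw [LinearMap.sum_apply]
        refine Submodule.sum_mem _ fun i _ => ?_
        simp only [LinearMap.comp_apply, LinearMap.mulLeft_apply, LinearMap.proj_apply, Submodule.subtype_apply]
        rw [mem_degreeLT]
        have hx := mem_degreeLT.1 (x i).2
        by_cases h0 : (x i : k[X]) = 0
        · rw [h0, mul_zero, degree_zero]; exact WithBot.bot_lt_coe _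
        rw [← natDegree_lt_iff_degree_lt h0] at hx
        rw [← natDegree_lt_iff_degree_lt (mul_ne_zero (pow_ne_zero _ (X_sub_C_ne_zero _)) h0),
          natDegree_mul (pow_ne_zero _ (X_sub_C_ne_zero _)) h0, natDegree_pow, natDegree_X_sub_C]
        have := he i; omega)
  have hdim : Module.finrank k (degreeLT k (d + 1)) < Module.finrank k ((i : Fin 3) → degreeLT k (d + 1 - e i)) := by
    haveI : ∀ n, Module.Finite k (degreeLT k n) := fun n => Module.Finite.equiv (degreeLTEquiv k n).symm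
    rw [Module.finrank_pi_fintype, (degreeLTEquiv k _).finrank_eq, Module.finrank_fin_fun]
    simp only [(degreeLTEquiv k _).finrank_eq, Module.finrank_fin_fun]
    rw [Fin.sum_univ_three] at hsum ⊢
    have := he 0; have := he 1; have := he 2; omega
  haveI : ∀ n, Module.Finite k (degreeLT k n) := fun n => Module.Finite.equiv (degreeLTEquiv k n).symm
  obtain ⟨x, hx, hx0⟩ := Submodule.exists_mem_ne_zero_of_ne_bot (LinearMap.ker_ne_bot_of_finrank_lt (f := L) hdim)
  have hx' : ∑ i, (X - C (P i)) ^ e i * (x i : k[X]) = 0 := by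
    have := congrArg Subtype.val (LinearMap.mem_ker.1 hx)
    simpa [L, LinearMap.sum_apply] using this
  refine ⟨⟨fun i => (X - C (P i)) ^ e i * (x i : k[X]), by rw [Fin.sum_univ_three] at hx'; exact hx',
    fun i => ?_, fun i => dvd_mul_right _ _⟩, fun h => hx0 ?_⟩
  · have hmem := (x i).2
    by_cases h0 : (x i : k[X]) = 0
    · simp [h0]
    rw [mem_degreeLT, ← natDegree_lt_iff_degree_lt h0] at hmem
    rw [natDegree_mul (pow_ne_zero _ (X_sub_C_ne_zero _)) h0, natDegree_pow, natDegree_X_sub_C]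
    have := he i; omega
  · funext i
    apply Subtype.ext
    have : (X - C (P i)) ^ e i * (x i : k[X]) = 0 := by
      fin_cases i
      exacts [h.1, h.2.1, h.2.2]
    exact (mul_eq_zero.1 this).resolve_left (pow_ne_zero _ (X_sub_C_ne_zero _))

lemma eq_zero_of_two (hP : Function.Injective P) (he : ∀ i, e i ≤ d) (hsum : (∑ i, e i) = 2 * d + 1)
    {i j : Fin 3} (hij : i ≠ j) {s : k[X]} (hs : s.natDegree ≤ d) (hi : (X - C (P i)) ^ e i ∣ s)
    (hj : (X - C (P j)) ^ e j ∣ s) : s = 0 := by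
  by_contra h0
  have h := natDegree_le_of_dvd (IsCoprime.mul_dvd (((pairwise_coprime_X_sub_C hP) hij).pow) hi hj) h0
  rw [natDegree_mul (pow_ne_zero _ (X_sub_C_ne_zero _)) (pow_ne_zero _ (X_sub_C_ne_zero _)), natDegree_pow,
    natDegree_pow, natDegree_X_sub_C, natDegree_X_sub_C] at h
  rw [Fin.sum_univ_three] at hsum
  have := he 0
  have := he 1
  have := he 2
  have key : ∀ i j : Fin 3, i ≠ j → d + 1 ≤ e i + e j := by
    intro i j hij
    fin_cases i <;> fin_cases j <;> simp at hij ⊢ <;> omega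
  have := key i j hij
  omega

lemma exists_rel_of_space (hP : Function.Injective P) (he : ∀ i, e i ≤ d) (hsum : (∑ i, e i) = 2 * d + 1)
    {V : Submodule k k[X]} (hV : V ≤ degreeLE k d) (h2 : Module.finrank k V = 2)
    (hm : ∀ i, ∃ s ∈ V, s ≠ 0 ∧ (X - C (P i)) ^ e i ∣ s) :
    ∃ R : Rel d P e, LinearIndependent k ![R.F 0, R.F 1] ∧ Submodule.span k {R.F 0, R.F 1} = V := by
  choose s hs hs0 hsd using hm
  have hdeg : ∀ i, (s i).natDegree ≤ d := fun i => natDegree_le_of_mem (hV (hs i))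
  have hli : ∀ i j, i ≠ j → LinearIndependent k ![s i, s j] := by
    intro i j hij
    rw [LinearIndependent.pair_iff' (hs0 i)]
    intro a ha
    refine hs0 j (eq_zero_of_two hP he hsum hij (hdeg j) ?_ (hsd j))
    rw [← ha, smul_eq_C_mul]
    exact Dvd.dvd.mul_left (hsd i) _
  obtain ⟨a, b, hab⟩ := Submodule.mem_span_pair.1
    (show s 2 ∈ Submodule.span k {s 0, s 1} from (span_pair_eq h2 (hs 0) (hs 1) (hli 0 1 (by decide))).symm ▸ hs 2)
  have ha : a ≠ 0 := fun h0 => by
    rw [h0, zero_smul, zero_add] at hab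
    exact (LinearIndependent.pair_iff' (hs0 1)).1 (hli 1 2 (by decide)) b hab
  have hb : b ≠ 0 := fun h0 => by
    rw [h0, zero_smul, add_zero] at hab
    exact (LinearIndependent.pair_iff' (hs0 0)).1 (hli 0 2 (by decide)) a hab
  let R : Rel d P e := ⟨![a • s 0, b • s 1, -s 2], by simp [hab],
    fun i => by fin_cases i <;> simp [natDegree_smul _ ha, natDegree_smul _ hb, hdeg],
    fun i => by
      fin_cases i
      · exact (hsd 0).trans ⟨C a, by rw [mul_comm]; exact smul_eq_C_mul a⟩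
      · exact (hsd 1).trans ⟨C b, by rw [mul_comm]; exact smul_eq_C_mul b⟩
      · exact (hsd 2).neg_right⟩
  have hli' : LinearIndependent k ![R.F 0, R.F 1] := by
    show LinearIndependent k ![a • s 0, b • s 1]
    rw [LinearIndependent.pair_iff]
    intro u v huv
    rw [smul_smul, smul_smul] at huv
    obtain ⟨h1, h2'⟩ := LinearIndependent.pair_iff.1 (hli 0 1 (by decide)) _ _ huv
    exact ⟨(mul_eq_zero.1 h1).resolve_right ha, (mul_eq_zero.1 h2').resolve_right hb⟩
  exact ⟨R, hli', span_pair_eq h2 (V.smul_mem a (hs 0)) (V.smul_mem b (hs 1)) hli'⟩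

/-- Two relations are proportional as rational functions. -/
lemma cross_eq (hP : Function.Injective P) (hsum : (∑ i, e i) = 2 * d + 1) (R S : Rel d P e) :
    R.F 0 * S.F 1 = R.F 1 * S.F 0 := by
  rw [← sub_eq_zero]
  by_contra h0
  have hdvd : ∀ i, (X - C (P i)) ^ e i ∣ R.F 0 * S.F 1 - R.F 1 * S.F 0 := by
    intro i; fin_cases i
    · exact dvd_sub (Dvd.dvd.mul_right (R.dvd 0) _) (Dvd.dvd.mul_left (S.dvd 0) _)
    · exact dvd_sub (Dvd.dvd.mul_left (S.dvd 1) _) (Dvd.dvd.mul_right (R.dvd 1) _)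
    · rw [show R.F 0 * S.F 1 - R.F 1 * S.F 0 = R.F 1 * S.F 2 - R.F 2 * S.F 1 by
        linear_combination (S.F 1) * R.sum - (R.F 1) * S.sum]
      exact dvd_sub (Dvd.dvd.mul_left (S.dvd 2) _) (Dvd.dvd.mul_right (R.dvd 2) _)
  have h := natDegree_le_of_dvd (prod_pow_dvd hP e hdvd) h0
  rw [natDegree_prod_pow, hsum] at h
  have h' : (R.F 0 * S.F 1 - R.F 1 * S.F 0).natDegree ≤ d + d :=
    (natDegree_sub_le _ _).trans (max_le (natDegree_mul_le.trans (add_le_add (R.deg 0) (S.deg 1)))
      (natDegree_mul_le.trans (add_le_add (R.deg 1) (S.deg 0))))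
  omega

/-- A relation spanning a base-point-free pencil spans every other relation. -/
lemma exists_smul_of_isPencil [IsAlgClosed k] (hP : Function.Injective P) (hsum : (∑ i, e i) = 2 * d + 1)
    {R : Rel d P e} {V : Submodule k k[X]} (hV : IsPencil d V) (hR : Submodule.span k {R.F 0, R.F 1} = V)
    (S : Rel d P e) : ∃ c : k, S.F 0 = c • R.F 0 ∧ S.F 1 = c • R.F 1 := by
  have hcop : IsCoprime (R.F 0) (R.F 1) := by
    apply isCoprime_of_irreducible_dvd
    · rintro ⟨h0, h1⟩
      obtain ⟨s, hs, hs'⟩ := hV.2.2.2 0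
      rw [← hR, h0, h1] at hs
      simp at hs; simp [hs] at hs'
    · intro q hq h0 h1
      obtain ⟨a, ha⟩ := IsAlgClosed.exists_root q (fun h => hq.not_isUnit (isUnit_iff_degree_eq_zero.2 h))
      obtain ⟨s, hs, hs'⟩ := hV.2.2.2 a
      obtain ⟨u, v, rfl⟩ := Submodule.mem_span_pair.1 (hR.symm ▸ hs : s ∈ Submodule.span k {R.F 0, R.F 1})
      apply hs'
      have z0 : (R.F 0).eval a = 0 := eval_eq_zero_of_dvd_of_eval_eq_zero h0 ha
      have z1 : (R.F 1).eval a = 0 := eval_eq_zero_of_dvd_of_eval_eq_zero h1 ha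
      simp [z0, z1]
  have hX := cross_eq hP hsum R S
  obtain ⟨h, hh⟩ : R.F 0 ∣ S.F 0 :=
    hcop.dvd_of_dvd_mul_left ⟨S.F 1, hX.symm⟩
  by_cases h00 : R.F 0 = 0
  · -- then `R.F 1` is a unit, i.e. the degree is zero
    exfalso
    obtain ⟨s, hs, hsd⟩ := hV.2.2.1
    have hli : Module.finrank k (Submodule.span k ({R.F 0, R.F 1} : Set k[X])) ≤ 1 := by
      rw [h00, Submodule.span_insert_zero]
      simpa using finrank_span_le_card (R := k) ({R.F 1} : Set k[X])
    rw [hR, hV.2.1] at hli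
    omega
  have hh1 : S.F 1 = R.F 1 * h := mul_left_cancel₀ h00 (by rw [hX, hh]; ring)
  by_cases hh0 : h = 0
  · exact ⟨0, by simp [hh, hh0], by simp [hh1, hh0]⟩
  have hd : ∃ i : Fin 3, (i = 0 ∨ i = 1) ∧ R.F i ≠ 0 ∧ (R.F i).natDegree = d := by
    obtain ⟨s, hs, hsd⟩ := hV.2.2.1
    obtain ⟨u, v, rfl⟩ := Submodule.mem_span_pair.1 (hR.symm ▸ hs : s ∈ Submodule.span k {R.F 0, R.F 1})
    by_cases hc : (R.F 0).natDegree = d
    · exact ⟨0, Or.inl rfl, h00, hc⟩
    have hlt : (u • R.F 0).natDegree < d :=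
      lt_of_le_of_lt (natDegree_smul_le _ _) (lt_of_le_of_ne (R.deg 0) hc)
    refine ⟨1, Or.inr rfl, ?_, ?_⟩
    · intro h1; rw [h1, smul_zero, add_zero] at hsd; omega
    · refine le_antisymm (R.deg 1) (not_lt.1 fun h1 => ?_)
      have := (natDegree_add_le (u • R.F 0) (v • R.F 1)).trans_lt (max_lt hlt ((natDegree_smul_le _ _).trans_lt h1))
      omega
  have hdeg0 : h.natDegree = 0 := by
    obtain ⟨i, hi, hne, hid⟩ := hd
    have hle := S.deg i
    rcases hi with rfl | rfl
    · rw [hh, natDegree_mul hne hh0] at hle; omega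
    · rw [hh1, natDegree_mul hne hh0] at hle; omega
  obtain ⟨c, rfl⟩ := natDegree_eq_zero.1 hdeg0
  exact ⟨c, by rw [hh, mul_comm, ← smul_eq_C_mul], by rw [hh1, mul_comm, ← smul_eq_C_mul]⟩

lemma eq_of_isPencil [IsAlgClosed k] (hP : Function.Injective P) (he : ∀ i, e i ≤ d)
    (hsum : (∑ i, e i) = 2 * d + 1) {V W : Submodule k k[X]} (hV : IsPencil d V)
    (hVm : ∀ i, ∃ s ∈ V, s ≠ 0 ∧ e i ≤ rootMultiplicity (P i) s)
    (hW : W ≤ degreeLE k d) (hW2 : Module.finrank k W = 2)
    (hWm : ∀ i, ∃ s ∈ W, s ≠ 0 ∧ e i ≤ rootMultiplicity (P i) s) : W = V := by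
  have conv : ∀ {U : Submodule k k[X]}, (∀ i, ∃ s ∈ U, s ≠ 0 ∧ e i ≤ rootMultiplicity (P i) s) →
      ∀ i, ∃ s ∈ U, s ≠ 0 ∧ (X - C (P i)) ^ e i ∣ s := fun h i =>
    let ⟨s, a, b, c⟩ := h i
    ⟨s, a, b, (le_rootMultiplicity_iff b).1 c⟩
  obtain ⟨R, -, hRV⟩ := exists_rel_of_space hP he hsum hV.1 hV.2.1 (conv hVm)
  obtain ⟨S, hSli, hSW⟩ := exists_rel_of_space hP he hsum hW hW2 (conv hWm)
  obtain ⟨c, h0, h1⟩ := exists_smul_of_isPencil hP hsum hV hRV S
  refine Eq.trans ?_ (span_pair_eq hV.2.1 ?_ ?_ hSli)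
  · exact hSW.symm
  · rw [h0, ← hRV]; exact Submodule.smul_mem _ _ (Submodule.subset_span (by simp))
  · rw [h1, ← hRV]; exact Submodule.smul_mem _ _ (Submodule.subset_span (by simp))

lemma subsingleton_ramMaps [IsAlgClosed k] (hP : Function.Injective P) (he : ∀ i, e i ≤ d)
    (hsum : (∑ i, e i) = 2 * d + 1) : (ramMaps d P e).Subsingleton := fun _V hV _W hW =>
  eq_of_isPencil hP he hsum hW.1 (fun i => (hW.2.2 i).1) hV.1.1 hV.1.2.1 (fun i => (hV.2.2 i).1)

lemma empty_of_insep [IsAlgClosed k] (hP : Function.Injective P) (he : ∀ i, e i ≤ d)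
    (hsum : (∑ i, e i) = 2 * d + 1) {W : Submodule k k[X]} (hW : W ≤ degreeLE k d)
    (hW2 : Module.finrank k W = 2) (hsep : ¬ IsSeparable W)
    (hWm : ∀ i, ∃ s ∈ W, s ≠ 0 ∧ e i ≤ rootMultiplicity (P i) s) : ramMaps d P e = ∅ := by
  refine Set.eq_empty_iff_forall_notMem.2 fun V hV => hsep ?_
  rw [eq_of_isPencil hP he hsum hV.1 (fun i => (hV.2.2 i).1) hW hW2 hWm]
  exact hV.2.1

/-- Either a genuine map exists, or an inseparable linear system with the vanishing does. -/
lemma exists_ramMaps_or_insep [IsAlgClosed k] (hP : Function.Injective P) (he : ∀ i, e i ≤ d)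
    (he1 : ∀ i, 1 ≤ e i) (hsum : (∑ i, e i) = 2 * d + 1) :
    (∃ V, V ∈ ramMaps d P e) ∨ ∃ V : Submodule k k[X], V ≤ degreeLE k d ∧ Module.finrank k V = 2 ∧
      ¬ IsSeparable V ∧ ∀ i, ∃ s ∈ V, s ≠ 0 ∧ e i ≤ rootMultiplicity (P i) s := by
  classical
  obtain ⟨R, hR⟩ := exists_rel (P := P) he hsum
  have hne : ∀ i, R.F i ≠ 0 := by
    have z : ∀ i j l : Fin 3, j ≠ l → R.F i + R.F j + R.F l = 0 → R.F i = 0 → R.F j = 0 ∧ R.F l = 0 := by
      intro i j l hjl hs hi
      rw [hi, zero_add] at hs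
      have hj : R.F j = 0 := eq_zero_of_two hP he hsum hjl (R.deg j) (R.dvd j)
        (by rw [eq_neg_of_add_eq_zero_left hs]; exact (R.dvd l).neg_right)
      exact ⟨hj, by rwa [hj, zero_add] at hs⟩
    intro i hi
    apply hR
    fin_cases i
    · obtain ⟨a, b⟩ := z 0 1 2 (by decide) R.sum hi; exact ⟨hi, a, b⟩
    · obtain ⟨a, b⟩ := z 1 0 2 (by decide) (by rw [← R.sum]; ring) hi; exact ⟨a, hi, b⟩
    · obtain ⟨a, b⟩ := z 2 0 1 (by decide) (by rw [← R.sum]; ring) hi; exact ⟨a, b, hi⟩
  set V := Submodule.span k ({R.F 0, R.F 1} : Set k[X]) with hVdef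
  have hli : LinearIndependent k ![R.F 0, R.F 1] := by
    rw [LinearIndependent.pair_iff' (hne 0)]
    intro a ha
    refine hne 1 (eq_zero_of_two hP he hsum (show (0 : Fin 3) ≠ 1 by decide) (R.deg 1) ?_ (R.dvd 1))
    rw [← ha, smul_eq_C_mul]; exact Dvd.dvd.mul_left (R.dvd 0) _
  have hVle : V ≤ degreeLE k d := by
    refine Submodule.span_le.2 (Set.insert_subset ?_ (Set.singleton_subset_iff.2 ?_)) <;>
      exact mem_degreeLE.2 (natDegree_le_iff_degree_le.1 (R.deg _))
  have hmem : ∀ i, R.F i ∈ V := by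
    intro i; fin_cases i
    · exact Submodule.subset_span (by simp)
    · exact Submodule.subset_span (by simp)
    · show R.F 2 ∈ V
      rw [show R.F 2 = -(R.F 0 + R.F 1) by linear_combination R.sum]
      exact V.neg_mem (V.add_mem (Submodule.subset_span (by simp)) (Submodule.subset_span (by simp)))
  have hm : ∀ i, ∃ s ∈ V, s ≠ 0 ∧ e i ≤ rootMultiplicity (P i) s := fun i =>
    ⟨R.F i, hmem i, hne i, (le_rootMultiplicity_iff (hne i)).2 (R.dvd i)⟩
  by_cases hsep : IsSeparable V
  swap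
  · exact Or.inr ⟨V, hVle, finrank_span_pair hli, hsep, hm⟩
  refine Or.inl ⟨V, ⟨hVle, finrank_span_pair hli, ?_, ?_⟩, hsep, fun i => ⟨hm i, ?_⟩⟩
  all_goals obtain ⟨F, hF, G, hG, hFG⟩ := hsep
  all_goals obtain ⟨c, hc⟩ := wronskian_span hF hG
  all_goals
    have hW : wronskian (R.F 0) (R.F 1) ≠ 0 := fun h0 => hFG (by rw [hc, h0, mul_zero])
  all_goals
    have hvan : ∀ i, (X - C (P i)) ^ (e i - 1) ∣ wronskian (R.F 0) (R.F 1) := by
      intro i
      have hd' : (X - C (P i)) ^ (e i - 1 + 1) ∣ R.F i := by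
        rw [show e i - 1 + 1 = e i by have := he1 i; omega]; exact R.dvd i
      fin_cases i
      · exact pow_dvd_wronskian hd'
      · rw [← wronskian_neg_eq]; exact (pow_dvd_wronskian hd').neg_right
      · rw [show wronskian (R.F 0) (R.F 1) = wronskian (R.F 2) (R.F 0) by
          rw [show R.F 2 = -(R.F 0 + R.F 1) by linear_combination R.sum]
          simp [wronskian]; ring]
        exact pow_dvd_wronskian hd'
  all_goals
    have hsum1 : (∑ i, (e i - 1)) + 2 = 2 * d := by
      rw [Fin.sum_univ_three] at hsum ⊢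
      have := he1 0; have := he1 1; have := he1 2; omega
  all_goals
    have hbd : ∀ f : Fin 3 → ℕ, ∀ g : k[X], (∀ i, (X - C (P i)) ^ f i ∣ wronskian (R.F 0) (R.F 1)) →
        IsCoprime g (∏ i, (X - C (P i)) ^ f i) → g ∣ wronskian (R.F 0) (R.F 1) →
        g.natDegree + ∑ i, f i ≤ (wronskian (R.F 0) (R.F 1)).natDegree := by
      intro f g hf hco hg
      have h := natDegree_le_of_dvd (hco.mul_dvd hg (prod_pow_dvd hP f hf)) hW
      rwa [natDegree_mul (ne_zero_of_dvd_ne_zero hW hg) (Finset.prod_ne_zero_iff.2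
        (fun i _ => pow_ne_zero _ (X_sub_C_ne_zero _))), natDegree_prod_pow] at h
  · -- some member has degree `d`
    by_contra hcon
    push Not at hcon
    have h0 := lt_of_le_of_ne (R.deg 0) (hcon _ (hmem 0))
    have h1 := lt_of_le_of_ne (R.deg 1) (hcon _ (hmem 1))
    have := hbd (fun i => e i - 1) 1 hvan isCoprime_one_left (one_dvd _)
    have := natDegree_wronskian_le (d := d - 1) (by omega : (R.F 0).natDegree ≤ d - 1) (by omega) hW
    omega
  · -- no base point
    intro a
    by_contra hcon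
    push Not at hcon
    have z : ∀ i, (X - C a) ∣ R.F i := fun i => dvd_iff_isRoot.2 (hcon _ (hmem i))
    have hbound := natDegree_wronskian_le (R.deg 0) (R.deg 1) hW
    by_cases ha : ∃ i, P i = a
    · obtain ⟨i, rfl⟩ := ha
      have hd' : (X - C (P i)) ^ (e i - 1 + 1) ∣ wronskian (R.F 0) (R.F 1) := by
        have hd' : (X - C (P i)) ^ (e i - 1 + 1) ∣ R.F i := by
          rw [show e i - 1 + 1 = e i by have := he1 i; omega]; exact R.dvd i
        fin_cases i
        · exact pow_dvd_wronskian_of_common hd' (z _)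
        · rw [← wronskian_neg_eq]; exact (pow_dvd_wronskian_of_common hd' (z _)).neg_right
        · rw [show wronskian (R.F 0) (R.F 1) = wronskian (R.F 2) (R.F 0) by
            rw [show R.F 2 = -(R.F 0 + R.F 1) by linear_combination R.sum]
            simp [wronskian]; ring]
          exact pow_dvd_wronskian_of_common hd' (z _)
      have := hbd (Function.update (fun j => e j - 1) i (e i - 1 + 1)) 1 (fun j => by
        by_cases hj : j = i
        · subst hj; rwa [Function.update_self]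
        · rw [Function.update_of_ne hj]; exact hvan j) isCoprime_one_left (one_dvd _)
      rw [Finset.sum_update_of_mem (Finset.mem_univ i)] at this
      have := Finset.add_sum_erase Finset.univ (fun j => e j - 1) (Finset.mem_univ i)
      rw [Finset.sdiff_singleton_eq_erase] at *
      omega
    · push Not at ha
      have := hbd (fun i => e i - 1) (X - C a) hvan (IsCoprime.prod_right fun i _ =>
        (isCoprime_X_sub_C_of_isUnit_sub (sub_ne_zero.2 (Ne.symm (ha i))).isUnit).pow_right)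
        (dvd_sub (Dvd.dvd.mul_right (z 0) _) (Dvd.dvd.mul_left (z 1) _))
      rw [natDegree_X_sub_C] at this
      omega
  · -- exact order
    intro s hs hs0
    by_contra hcon
    push Not at hcon
    have hd' : (X - C (P i)) ^ (e i + 1) ∣ s := (le_rootMultiplicity_iff hs0).1 hcon
    obtain ⟨t, ht, c', hc', hc0⟩ : ∃ t ∈ V, ∃ c' : k, wronskian s t = C c' * wronskian (R.F 0) (R.F 1) ∧ c' ≠ 0 := by
      obtain ⟨u, v, rfl⟩ := Submodule.mem_span_pair.1 hs
      by_cases hu : u = 0
      · refine ⟨R.F 0, hmem 0, -v, ?_, ?_⟩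
        · simp [wronskian, smul_eq_C_mul, hu]; ring
        · intro h; apply hs0; simp [hu, neg_eq_zero.1 h]
      · refine ⟨R.F 1, hmem 1, u, ?_, hu⟩
        simp [wronskian, smul_eq_C_mul]; ring
    have hd2 : (X - C (P i)) ^ e i ∣ wronskian (R.F 0) (R.F 1) := by
      have := pow_dvd_wronskian (t := t) hd'
      rw [hc'] at this
      exact (isCoprime_one_left.of_isCoprime_of_dvd_left
        (isUnit_iff_dvd_one.1 (isUnit_C.2 (isUnit_iff_ne_zero.2 hc0)))).symm.dvd_of_dvd_mul_left this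
    have := hbd (Function.update (fun j => e j - 1) i (e i)) 1 (fun j => by
      by_cases hj : j = i
      · subst hj; rwa [Function.update_self]
      · rw [Function.update_of_ne hj]; exact hvan j) isCoprime_one_left (one_dvd _)
    rw [Finset.sum_update_of_mem (Finset.mem_univ i), Finset.sdiff_singleton_eq_erase] at this
    have := Finset.add_sum_erase Finset.univ (fun j => e j - 1) (Finset.mem_univ i)
    have := natDegree_wronskian_le (R.deg 0) (R.deg 1) hW
    have := he1 i
    omega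

end Groth.Agent.CommAlg4.RamP1Three
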