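import Groth.Agent.CommAlg4.EdgeInjective
import Groth.Agent.FEtFF.BiratPurity
import Groth.Agent.BlowUpCoh.Regular
import Groth.Agent.Resolve13.LocalGen
import Groth.Agent.Coherent.SchemeCoh
import Groth.Agent.Coherent.BirationalFibre
import Groth.Agent.Coherent.ProperFinite
import Groth.Agent.Models7.PointBlowUpIso
import Groth.Agent.Models7.Factor
import Groth.Agent.CAlgH3.RegularHom
import Groth.Agent.S7320
import Groth.Prelude.Def_Curv2

/-!
Two-dimensional regular local rings are rational singularities.
-/

set_option autoImplicit false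
set_option linter.style.haveILetI false
set_option backward.isDefEq.respectTransparency.types false
set_option backward.isDefEq.respectTransparency false
set_option maxHeartbeats 1000000

universe u

open CategoryTheory CategoryTheory.Limits AlgebraicGeometry TopologicalSpace IsLocalRing Opposite
open CohPull CohCmp
open Groth.Agent.Coherent Groth.Agent.CohCmpLib

namespace Groth.Agent.CommAlg4

/-- If the structure map `O_Y → f_* O_X` is an isomorphism, `H¹(Y, O_Y) → H¹(X, O_X)` is injective. -/
theorem subsingleton_HH_one_of_isIso_app {X Y : Scheme.{u}} (f : X ⟶ Y) (happ : ∀ V, IsIso (f.app V))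
    (h : Subsingleton (Coh.HH X (Coh.structureModule X) 1)) :
    Subsingleton (Coh.HH Y (Coh.structureModule Y) 1) := by
  haveI := hasInjectiveResolutions_modules X
  let φ : Coh.structureModule Y ⟶ (Scheme.Modules.pushforward f).obj (Coh.structureModule X) :=
    pushRingUnit f
  haveI : IsIso φ := by
    rw [Scheme.Modules.Hom.isIso_iff_isIso_app]
    intro V
    rw [ConcreteCategory.isIso_iff_bijective]
    haveI := happ V
    have hb := ConcreteCategory.bijective_of_isIso (f.app V)
    exact ⟨fun a b hab => hb.1 ((pushRingUnit_app f V a).symm.trans (hab.trans (pushRingUnit_app f V b))),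
      fun c => let ⟨r, hr⟩ := hb.2 c; ⟨r, (pushRingUnit_app f V r).trans hr⟩⟩
  haveI := (injective_pushEdge_one f (Coh.structureModule X)).subsingleton
  refine Function.Injective.subsingleton (f := mapH φ 1) fun a b hab => ?_
  have h2 := congrArg (mapH (inv φ) 1) hab
  simpa only [mapH, ← Sheaf.H.map_comp_apply, ← Functor.map_comp, IsIso.hom_inv_id,
    CategoryTheory.Functor.map_id, Sheaf.H.map_id_apply] using h2

/-- The first cohomology of the structure sheaf is unchanged by blowing up a regular closed point
of dimension two. -/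
theorem subsingleton_HH_one_pointBlowUp {Z Y : Scheme.{u}} [IsNoetherian Z] (z : Z)
    (hz : IsClosed ({z} : Set Z)) [IsRegularLocalRing (Z.presheaf.stalk z)]
    (hdim : ringKrullDim (Z.presheaf.stalk z) = 2) (b : Y ⟶ Z)
    (hb : BlowUp.IsBlowUp b (Scheme.IdealSheafData.vanishingIdeal ⟨{z}, hz⟩))
    (h : Subsingleton (Coh.HH Z (Coh.structureModule Z) 1)) :
    Subsingleton (Coh.HH Y (Coh.structureModule Y) 1) := by
  haveI := hasInjectiveResolutions_modules Y
  obtain ⟨U, hzU, g, hIU, hg, -⟩ := Resolve13.exists_local_gen z hz hdim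
  have hI : BlowUpCoh.KoszulBasis (Scheme.IdealSheafData.vanishingIdeal ⟨{z}, hz⟩) 0 :=
    BlowUpCoh.koszulBasis_of_local fun x hx => by
      rw [Set.mem_singleton_iff.1 ((Scheme.IdealSheafData.coe_support_vanishingIdeal _).le hx)]
      exact ⟨U, 1, g, hzU, Nat.zero_le _, hIU, hg⟩
  haveI : Coh.IsQCoh (Coh.structureModule Y) := QCohLoc.isQCoh_structureModule Y
  have hR : ∀ q : ℕ, 0 < q → IsZero ((Coh.Rpush b q).obj (Coh.structureModule Y)) := fun q hq => by
    have h0 : IsZero ((toAbFunctor Z).obj ((Coh.Rpush b q).obj (Coh.structureModule Y))) :=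
      (BlowUpCoh.isZero_rpushAb hb hI (BlowUpCoh.twistO _) (by simp) q hq).of_iso
        (toAbRpushIso b _ q)
    haveI : (toAbFunctor Z).Faithful :=
      { map_injective := fun {_ _} _ _ e => (SheafOfModules.toSheaf Z.ringCatSheaf).map_injective e }
    rw [IsZero.iff_id_eq_zero] at h0 ⊢
    refine (toAbFunctor Z).map_injective ?_
    rw [CategoryTheory.Functor.map_id, Functor.map_zero, h0]
  haveI := BlowUpCoh.isIso_unitMap hb hI
  let φ : Coh.structureModule Z ⟶ (Scheme.Modules.pushforward b).obj (Coh.structureModule Y) :=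
    StMod.unitMap b
  haveI : IsIso φ := BlowUpCoh.isIso_unitMap hb hI
  have h' : Subsingleton (Coh.HH Z ((Scheme.Modules.pushforward b).obj (Coh.structureModule Y)) 1) := by
    refine Function.Injective.subsingleton (f := mapH (inv φ) 1) fun a c hac => ?_
    have h2 := congrArg (mapH φ 1) hac
    simpa only [mapH, ← Sheaf.H.map_comp_apply, ← Functor.map_comp, IsIso.inv_hom_id,
      CategoryTheory.Functor.map_id, Sheaf.H.map_id_apply] using h2
  exact (Equiv.ofBijective _ (bijective_pushEdge b 1 (Coh.structureModule Y) hR)).symm.subsingleton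

/-- Successive point blow-ups of an integral regular affine surface have no `H¹(O)`. -/
theorem contractionSeq_props {Y X : Scheme.{u}} {g : Y ⟶ X} (hg : Models.IsContractionSeq g) :
    IsAffine X → IsIntegral X → (∀ x : X, IsRegularLocalRing (X.presheaf.stalk x)) →
      IsIntegral Y ∧ (∀ y : Y, IsRegularLocalRing (Y.presheaf.stalk y)) ∧
        Subsingleton (Coh.HH Y (Coh.structureModule Y) 1) := by
  induction hg with
  | @iso Y X e =>
    intro hXa hXi hXr
    haveI := hXa
    haveI := hXi
    haveI : IsAffine Y := IsAffine.of_isIso e.hom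
    haveI : Nonempty Y := ⟨e.inv (genericPoint X)⟩
    haveI : Coh.IsQCoh (Coh.structureModule Y) := QCohLoc.isQCoh_structureModule Y
    refine ⟨isIntegral_of_isOpenImmersion e.hom, fun y => ?_, subsingleton_HH_of_isAffine _ 1 one_pos⟩
    haveI := hXr (e.hom y)
    exact IsRegularLocalRing.of_ringEquiv (asIso (e.hom.stalkMap y)).commRingCatIsoToRingEquiv
  | @step Y Z X E ι b r hι hE hb hr ih =>
    intro hXa hXi hXr
    obtain ⟨hZi, hZr, hZH⟩ := ih hXa hXi hXr
    obtain ⟨hN, hp, z, hz, -, hreg, hdim, hbl⟩ := hb
    haveI := hZi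
    haveI := hN
    haveI := hreg
    have hz0 : z ≠ genericPoint _ := by
      intro he
      have hf : IsField Z.functionField := Field.toIsField _
      rw [he] at hdim
      rw [ringKrullDim_eq_zero_of_isField hf] at hdim
      exact absurd hdim (by decide)
    exact ⟨Models7.isIntegral_pointBlowUp hZr z hz hz0 b hbl,
      Models7.isRegular_pointBlowUp hZr z hz b hbl,
      subsingleton_HH_one_pointBlowUp z hz hdim b hbl hZH⟩

/-- A composite of contractions is proper. -/
theorem isProper_contractionSeq {Y X : Scheme.{u}} {g : Y ⟶ X} (hg : Models.IsContractionSeq g) :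
    IsProper g := by
  induction hg with
  | iso e => infer_instance
  | step ι b r hι hE hb hr ih =>
    haveI := hb.2.1
    haveI := ih
    infer_instance

/-- A two-dimensional regular local ring is a rational singularity. -/
theorem isRationalSing_of_regular (A : Type u) [CommRing A] [IsRegularLocalRing A]
    (hdim : ringKrullDim A = 2) : Curv2.IsRationalSing A := by
  intro X f hf hXi hXn hU
  obtain ⟨U, hUne, hUiso⟩ := hU
  haveI : IsDomain A := CAlgH3.isDomain_of_isRegularLocalRing A
  haveI : IsRegularRing A := CAlgH3.isRegularRing_of_isRegularLocalRing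
  let S := Spec (CommRingCat.of A)
  haveI : IsIntegral S := inferInstance
  haveI : IsNoetherian S := inferInstance
  have hSr : ∀ x : S, IsRegularLocalRing (S.presheaf.stalk x) := fun x => by
    letI : Algebra A ((Spec (CommRingCat.of A)).presheaf.stalk x) := StructureSheaf.stalkAlgebra A x
    haveI : IsLocalization.AtPrime ((Spec (CommRingCat.of A)).presheaf.stalk x) x.asIdeal :=
      StructureSheaf.IsLocalization.to_stalk _ x
    haveI := IsRegularRing.isRegularLocalRing_localization (R := A) x.asIdeal
    exact IsRegularLocalRing.of_ringEquiv (R := Localization.AtPrime x.asIdeal)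
      (IsLocalization.algEquiv x.asIdeal.primeCompl (Localization.AtPrime x.asIdeal)
        (S.presheaf.stalk x)).toRingEquiv
  have hSdim : ∀ x : S, ringKrullDim (S.presheaf.stalk x) = x.asIdeal.height := fun x => by
    letI : Algebra A ((Spec (CommRingCat.of A)).presheaf.stalk x) := StructureSheaf.stalkAlgebra A x
    haveI : IsLocalization.AtPrime ((Spec (CommRingCat.of A)).presheaf.stalk x) x.asIdeal :=
      StructureSheaf.IsLocalization.to_stalk _ x
    exact IsLocalization.AtPrime.ringKrullDim_eq_height x.asIdeal _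
  haveI := hf
  haveI := hXi
  obtain ⟨V', -, hV', hV'dim⟩ := FEtFF.BiratPurity.exists_iso_codimOne
    (Models7.isNormalScheme_of_regular hSr) f U hUne
  let T : Set S := {IsLocalRing.closedPoint A}
  have hTc : IsClosed T := IsLocalRing.isClosed_singleton_closedPoint A
  let W : S.Opens := ⟨Tᶜ, hTc.isOpen_compl⟩
  have hWV : W ≤ V' := fun x hx => by
    by_contra hxV
    have h2 := hV'dim x hxV
    rw [hSdim] at h2
    have hlt : x.asIdeal < maximalIdeal A :=
      lt_of_le_of_ne (IsLocalRing.le_maximalIdeal x.2.ne_top) fun h => hx (PrimeSpectrum.ext h)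
    have h3 := Ideal.height_strict_mono_of_isPrime hlt
    have h4 : ((maximalIdeal A).height : WithBot ℕ∞) = 2 := by
      rw [IsLocalRing.maximalIdeal_height_eq_ringKrullDim, hdim]
    have h5 : (x.asIdeal.height : WithBot ℕ∞) < 2 := h4 ▸ WithBot.coe_lt_coe.mpr h3
    exact absurd h2 (not_le.mpr h5)
  haveI := hV'
  haveI hWiso : IsIso (f ∣_ W) := Models7.isIso_restrict_of_le f hWV
  obtain ⟨X', g, hg, hgW, k, hk⟩ := S7320.result S T (Set.finite_singleton _) hTc
    (fun x hx => by
      rw [Set.mem_singleton_iff.1 hx]
      refine ⟨hTc, hSr _, ?_⟩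
      rw [hSdim]
      exact IsLocalRing.maximalIdeal_height_eq_ringKrullDim.trans hdim) f hWiso
  obtain ⟨hX'i, hX'r, hX'H⟩ := contractionSeq_props hg inferInstance inferInstance hSr
  haveI := hX'i
  have hgproper : IsProper g := isProper_contractionSeq hg
  haveI : IsProper (k ≫ f) := hk.symm ▸ hgproper
  haveI : IsProper k := IsProper.of_comp k f
  haveI : IsLocallyNoetherian X := LocallyOfFiniteType.isLocallyNoetherian f
  haveI hkiso : IsIso (k ∣_ (f ⁻¹ᵁ W)) := by
    haveI : IsIso ((k ≫ f) ∣_ W) := hk.symm ▸ hgW
    haveI : IsIso (k ∣_ (f ⁻¹ᵁ W) ≫ f ∣_ W) := morphismRestrict_comp k f W ▸ inferInstance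
    exact IsIso.of_isIso_comp_right _ (f ∣_ W)
  have hne : ((f ⁻¹ᵁ W : X.Opens) : Set X).Nonempty := by
    have hWne : genericPoint S ∈ W := by
      intro h
      have h' : genericPoint S = IsLocalRing.closedPoint A := h
      have hfield : IsField S.functionField := Field.toIsField _
      have h1 := hSdim (genericPoint S)
      rw [h', show ((IsLocalRing.closedPoint A).asIdeal.height : WithBot ℕ∞) = 2 from
        IsLocalRing.maximalIdeal_height_eq_ringKrullDim.trans hdim, ← h',
        ringKrullDim_eq_zero_of_isField hfield] at h1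
      exact absurd h1 (by decide)
    obtain ⟨⟨a, ha⟩, -⟩ := (f ∣_ W).homeomorph.surjective ⟨genericPoint S, hWne⟩
    exact ⟨a, ha⟩
  obtain ⟨hgen, hbir⟩ := Coherent.birational_of_isIso_morphismRestrict k (f ⁻¹ᵁ W) hne
  exact subsingleton_HH_one_of_isIso_app k
    (fun V => Coherent.isIso_app_of_birational k hXn hgen
      ((ConcreteCategory.isIso_iff_bijective _).2 hbir) V) hX'H

end Groth.Agent.CommAlg4
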