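import Mathlib
import Groth.Agent.CAlgH3.RegularLocal

/-!
# Curves through rational points: regular quotient DVRs and approximation by rational curves

* `exists_dvr_quotient_notMem`: in a regular local ring over an infinite field with that field as residue
  field, a nonzero element of the maximal ideal is missed by some prime with DVR quotient.
* `exists_rational_curve`: `t`-adic approximation of an arc which factors through a localised affine
  space by an arc with rational function coordinates.
-/

set_option autoImplicit false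

universe u v

open IsLocalRing Polynomial

namespace Groth.Agent.CommAlg4.RegCurve

theorem exists_notMem_span_singleton (K : Type v) [Field K] [Infinite K] :
    ∀ (R : Type u) [CommRing R] [IsRegularLocalRing R] [Algebra K R]
      (_ : Function.Surjective (algebraMap K (ResidueField R))) (n : ℕ) (_ : ringKrullDim R = (n : WithBot ℕ∞))
      (g : R) (_ : g ≠ 0) (_ : g ∈ maximalIdeal R),
      ∃ P : Ideal R, ∃ _ : P.IsPrime, g ∉ P ∧ IsDiscreteValuationRing (R ⧸ P) := by
  intro R _ _ _ hres n
  classical
  induction n generalizing R with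
  | zero =>
    intro hdim g hg hgm
    have := CAlgH3.isDomain_of_isRegularLocalRing (A := R)
    have hbot : maximalIdeal R = ⊥ := by
      have h := IsRegularLocalRing.spanFinrank_maximalIdeal (R := R)
      rw [hdim] at h
      have h0 : (maximalIdeal R).spanFinrank = 0 := by exact_mod_cast h
      exact (Submodule.spanFinrank_eq_zero_iff_eq_bot (IsNoetherian.noetherian _)).1 h0
    exact absurd (by simpa [hbot] using hgm) hg
  | succ n ih =>
    intro hdim g hg hgm
    have := CAlgH3.isDomain_of_isRegularLocalRing (A := R)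
    have hsp : (maximalIdeal R).spanFinrank = n + 1 := by
      have h := IsRegularLocalRing.spanFinrank_maximalIdeal (R := R)
      rw [hdim] at h
      exact_mod_cast h
    rcases Nat.eq_zero_or_pos n with rfl | hn
    · refine ⟨⊥, Ideal.isPrime_bot, by simpa using hg, ?_⟩
      have hpr : (maximalIdeal R).IsPrincipal := by
        obtain ⟨s, hs, hsp'⟩ := (IsNoetherian.noetherian (maximalIdeal R)).exists_span_finset_card_eq_spanFinrank
        rw [hsp] at hs
        obtain ⟨a, rfl⟩ := Finset.card_eq_one.1 hs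
        exact ⟨⟨a, by rw [← hsp']; simp⟩⟩
      have hnf : ¬ IsField R := by
        intro hf
        rw [isField_iff_maximalIdeal_eq] at hf
        rw [hf, Submodule.spanFinrank_bot] at hsp
        omega
      have : IsDiscreteValuationRing R :=
        ((IsDiscreteValuationRing.TFAE R hnf).out 0 4).2 hpr
      exact IsDiscreteValuationRing.RingEquivClass.isDiscreteValuationRing (RingEquiv.quotientBot R).symm
    -- two parameters
    obtain ⟨s, hs, hsp'⟩ := (IsNoetherian.noetherian (maximalIdeal R)).exists_span_finset_card_eq_spanFinrank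
    rw [hsp] at hs
    obtain ⟨a, ha, b, hb, hab⟩ := Finset.one_lt_card.1 (by omega : 1 < s.card)
    have hams : a ∈ maximalIdeal R := hsp' ▸ Submodule.subset_span ha
    have hbms : b ∈ maximalIdeal R := hsp' ▸ Submodule.subset_span hb
    have hmin : ∀ w ∈ s, w ∉ maximalIdeal R ^ 2 ⊔ Ideal.span ((s.erase w : Finset R) : Set R) := by
      intro w hw hmem
      have hle : maximalIdeal R ≤ Ideal.span ((s.erase w : Finset R) : Set R) := by
        refine Submodule.le_of_le_smul_of_le_jacobson_bot (IsNoetherian.noetherian _)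
          (le_of_eq (IsLocalRing.jacobson_eq_maximalIdeal ⊥ bot_ne_top).symm) ?_
        rw [Ideal.smul_eq_mul, ← pow_two]
        conv_lhs => rw [← hsp']
        refine Submodule.span_le.2 fun z hz => ?_
        by_cases hzw : z = w
        · subst hzw
          rw [sup_comm]
          exact hmem
        · exact Submodule.mem_sup_left (Submodule.subset_span (Finset.mem_coe.2 (Finset.mem_erase.2 ⟨hzw, hz⟩)))
      have := Submodule.spanFinrank_span_le_ncard_of_finite (R := R) (s.erase w).finite_toSet
      have heq : maximalIdeal R = Ideal.span ((s.erase w : Finset R) : Set R) :=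
        le_antisymm hle (hsp' ▸ Ideal.span_mono (Finset.coe_subset.2 (Finset.erase_subset w s)))
      rw [Set.ncard_coe_finset, Finset.card_erase_of_mem hw, hs] at this
      change (Ideal.span ((s.erase w : Finset R) : Set R)).spanFinrank ≤ _ at this
      rw [← heq, hsp] at this
      omega
    -- the family `a + c b`
    let x : K → R := fun c => a + algebraMap K R c * b
    have hxm : ∀ c, x c ∈ maximalIdeal R := fun c => add_mem hams (Ideal.mul_mem_left _ _ hbms)
    have hx2 : ∀ c, x c ∉ maximalIdeal R ^ 2 := by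
      intro c hc
      refine hmin a ha ?_
      have : a = x c - algebraMap K R c * b := by simp [x]
      rw [this]
      refine sub_mem (Ideal.mem_sup_left hc) (Ideal.mem_sup_right (Ideal.mul_mem_left _ _ (Ideal.subset_span ?_)))
      rw [← this]
      exact Finset.mem_coe.2 (Finset.mem_erase.2 ⟨fun h => hab h.symm, hb⟩)
    have hprime : ∀ c, (Ideal.span {x c}).IsPrime := fun c => by
      obtain ⟨hreg, -⟩ := CAlgH3.regular_quotient_of_notMem_sq (hxm c) (hx2 c)
      have := CAlgH3.isDomain_of_isRegularLocalRing (A := R ⧸ Ideal.span {x c})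
      exact Ideal.Quotient.isDomain_iff_prime _ |>.1 this
    have hx0 : ∀ c, x c ≠ 0 := fun c h => hx2 c (h ▸ Ideal.zero_mem _)
    have hmem : ∀ c, g ∈ Ideal.span {x c} → Ideal.span {x c} ∈ (Ideal.span {g}).minimalPrimes := by
      intro c hc
      have := hprime c
      refine ⟨⟨this, Ideal.span_le.2 (Set.singleton_subset_iff.2 hc)⟩, fun P hP hle => ?_⟩
      have hxp : Prime (x c) := (Ideal.span_singleton_prime (hx0 c)).1 (hprime c)
      obtain ⟨i, g', hg', rfl⟩ : ∃ i g', ¬ x c ∣ g' ∧ g = x c ^ i * g' := by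
        obtain ⟨g', h1, h2⟩ := (FiniteMultiplicity.of_prime_left hxp hg).exists_eq_pow_mul_and_not_dvd
        exact ⟨_, g', h2, h1⟩
      rcases hP.1.mem_or_mem (hP.2 (Ideal.mem_span_singleton_self _)) with h | h
      · exact Ideal.span_le.2 (Set.singleton_subset_iff.2 (hP.1.mem_of_pow_mem i h))
      · exact absurd (Ideal.mem_span_singleton.1 (hle h)) hg'
    have hinj : Function.Injective fun c => Ideal.span {x c} := by
      intro c c' (hcc : Ideal.span {x c} = Ideal.span {x c'})
      by_contra hne
      have hd : algebraMap K R (c - c') * b ∈ Ideal.span {x c} := by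
        have h1 : x c' ∈ Ideal.span {x c} := hcc ▸ Ideal.mem_span_singleton_self _
        have h2 := sub_mem (Ideal.mem_span_singleton_self (x c)) h1
        have h3 : algebraMap K R (c - c') * b = x c - x c' := by simp [x, map_sub]; ring
        rw [h3]
        exact h2
      have hu : IsUnit (algebraMap K R (c - c')) := (IsUnit.mk0 _ (sub_ne_zero.2 hne)).map _
      rw [Ideal.unit_mul_mem_iff_mem _ hu] at hd
      obtain ⟨r, hr⟩ := Ideal.mem_span_singleton'.1 hd
      by_cases hru : IsUnit r
      · refine hmin a ha (Ideal.mem_sup_right ?_)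
        have hbs : b ∈ Ideal.span ((s.erase a : Finset R) : Set R) :=
          Ideal.subset_span (Finset.mem_coe.2 (Finset.mem_erase.2 ⟨fun h => hab h.symm, hb⟩))
        obtain ⟨r, rfl⟩ := hru
        have e : x c = ((r⁻¹ : Rˣ) : R) * b := by rw [← hr, Units.inv_mul_cancel_left]
        have key := sub_mem (Ideal.mul_mem_left _ ((r⁻¹ : Rˣ) : R) hbs) (Ideal.mul_mem_left _ (algebraMap K R c) hbs)
        rw [← e] at key
        simpa [x] using key
      · refine hmin b hb (Ideal.mem_sup_left ?_)
        rw [← hr, pow_two]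
        exact Ideal.mul_mem_mul ((mem_maximalIdeal _).2 hru) (hxm c)
    obtain ⟨c, hc⟩ : ∃ c, g ∉ Ideal.span {x c} := by
      by_contra! h
      exact Set.infinite_of_injective_forall_mem hinj (fun c => hmem c (h c))
        ((Ideal.span {g}).finite_minimalPrimes_of_isNoetherianRing)
    obtain ⟨hreg, hd⟩ := CAlgH3.regular_quotient_of_notMem_sq (hxm c) (hx2 c)
    let R' := R ⧸ Ideal.span {x c}
    have hd' : ringKrullDim R' = (n : WithBot ℕ∞) := by
      obtain ⟨m, hm⟩ := CAlgH3.exists_nat_eq_of_le_spanFinrank (B := R') (N := (maximalIdeal R').spanFinrank)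
        (ringKrullDim_le_spanFinrank_maximalIdeal R')
      rw [hm, hsp] at hd
      rw [hm]
      have : n + 1 = m + 1 := by exact_mod_cast hd
      exact_mod_cast (Nat.succ.inj this).symm
    have : IsLocalHom (Ideal.Quotient.mk (Ideal.span {x c})) :=
      IsLocalHom.of_surjective _ Ideal.Quotient.mk_surjective
    have hres' : Function.Surjective (algebraMap K (ResidueField R')) := by
      intro z
      obtain ⟨y, rfl⟩ := IsLocalRing.residue_surjective z
      obtain ⟨y, rfl⟩ := Ideal.Quotient.mk_surjective y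
      obtain ⟨k, hk⟩ := hres (residue R y)
      refine ⟨k, ?_⟩
      have hd : algebraMap K R k - y ∈ maximalIdeal R := by
        rw [← residue_eq_zero_iff, map_sub, ← hk, sub_eq_zero]
        rfl
      have : residue R' (Ideal.Quotient.mk _ (algebraMap K R k - y)) = 0 := by
        rw [residue_eq_zero_iff]
        exact map_nonunit (Ideal.Quotient.mk (Ideal.span {x c})) _ hd
      rw [map_sub, map_sub, sub_eq_zero] at this
      rw [← this]
      rfl
    obtain ⟨P, hP, hgP, hdvr⟩ := ih R' hres' hd' (Ideal.Quotient.mk _ g)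
      (fun h => hc (Ideal.Quotient.eq_zero_iff_mem.1 h)) (map_nonunit _ _ hgm)
    refine ⟨P.comap (Ideal.Quotient.mk _), inferInstance, hgP, ?_⟩
    have hle : Ideal.span {x c} ≤ P.comap (Ideal.Quotient.mk _) :=
      (Ideal.mk_ker (I := Ideal.span {x c})).ge.trans (Ideal.comap_mono bot_le)
    let e : R ⧸ P.comap (Ideal.Quotient.mk (Ideal.span {x c})) ≃+* R' ⧸ P :=
      (DoubleQuot.quotQuotEquivQuotOfLE hle).symm.trans
        (Ideal.quotEquivOfEq (Ideal.map_comap_of_surjective _ Ideal.Quotient.mk_surjective P))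
    exact IsDiscreteValuationRing.RingEquivClass.isDiscreteValuationRing e.symm

/-- Approximation of an arc by a rational curve. -/
theorem exists_rational_curve (k K : Type u) [Field k] [Field K] [Infinite K] [Algebra k K]
    (B : Type u) [CommRing B] [Algebra k B] [Algebra.FiniteType k B]
    (D : Type u) [CommRing D] [IsDomain D] [IsDiscreteValuationRing D] [Algebra K D] [Algebra k D]
    [IsScalarTower k K D] (F : Type u) [Field F] [Algebra D F] [IsFractionRing D F]
    [Algebra k F] [IsScalarTower k D F]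
    (α : B →ₐ[k] K) (ρ : D →ₐ[K] K) (ψ : B →ₐ[k] D) (hψ : ∀ b, ρ (ψ b) = α b)
    (g : B) (n : ℕ) (h : MvPolynomial (Fin n) k) (β : B →ₐ[k] Localization.Away h) (hβg : IsUnit (β g))
    (v : Fin n → F) (hv : MvPolynomial.aeval v h ≠ 0)
    (hβ : ∀ b, IsLocalization.Away.lift h (g := (MvPolynomial.aeval v).toRingHom) (IsUnit.mk0 _ hv) (β b) =
      algebraMap D F (ψ b)) :
    ∃ (den : K[X]) (φ : B →ₐ[k] Localization.Away den) (e₀ e : Localization.Away den →ₐ[K] K),
      (∀ b, e₀ (φ b) = α b) ∧ e (φ g) ≠ 0 := by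
  classical
  obtain ⟨t, ht⟩ := IsDiscreteValuationRing.exists_irreducible D
  let T : F := algebraMap D F t
  have hT : T ≠ 0 := (map_ne_zero_iff _ (IsFractionRing.injective D F)).2 ht.ne_zero
  have hρs : Function.Surjective ρ := fun c => ⟨algebraMap K D c, ρ.commutes c⟩
  have hker : RingHom.ker ρ = maximalIdeal D :=
    IsLocalRing.eq_maximalIdeal (RingHom.ker_isMaximal_of_surjective ρ hρs)
  have hρt : ρ t = 0 := by
    have : t ∈ RingHom.ker ρ := hker ▸ ht.maximalIdeal_eq ▸ Ideal.mem_span_singleton_self t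
    exact this
  have hpoly : ∀ p : K[X], ρ (aeval t p) = p.eval 0 := fun p => by
    rw [← aeval_algHom_apply, hρt, coe_aeval_eq_eval]
  have happ : ∀ (d : D) (N : ℕ), ∃ p : K[X], t ^ N ∣ d - aeval t p := by
    intro d N
    induction N with
    | zero => exact ⟨0, by simp⟩
    | succ N ih =>
      obtain ⟨p, e, he⟩ := ih
      have : e - algebraMap K D (ρ e) ∈ Ideal.span {t} := by
        rw [← ht.maximalIdeal_eq, ← hker, RingHom.mem_ker, map_sub, AlgHom.commutes]
        simp
      obtain ⟨r, hr⟩ := Ideal.mem_span_singleton'.1 this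
      refine ⟨p + Polynomial.C (ρ e) * Polynomial.X ^ N, r, ?_⟩
      simp only [map_add, map_mul, map_pow, aeval_C, aeval_X]
      calc d - (aeval t p + algebraMap K D (ρ e) * t ^ N) = t ^ N * (e - algebraMap K D (ρ e)) := by
            rw [mul_sub, ← he]; ring
        _ = t ^ (N + 1) * r := by rw [← hr]; ring
  have hrep : ∀ z : F, ∃ (d : D) (P : ℕ), z * T ^ P = algebraMap D F d := by
    intro z
    obtain ⟨a, b, hb, rfl⟩ := IsFractionRing.div_surjective (A := D) z
    obtain ⟨P, u, rfl⟩ := IsDiscreteValuationRing.eq_unit_mul_pow_irreducible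
      (nonZeroDivisors.ne_zero hb) ht
    refine ⟨↑u⁻¹ * a, P, ?_⟩
    have hu : algebraMap D F (u : D) * algebraMap D F ((u⁻¹ : Dˣ) : D) = 1 := by
      rw [← map_mul, Units.mul_inv, map_one]
    have hu0 : algebraMap D F (u : D) ≠ 0 := left_ne_zero_of_mul_eq_one hu
    simp only [map_mul, map_pow, T]
    rw [div_mul_eq_mul_div, mul_div_mul_right _ _ (pow_ne_zero P hT), div_eq_iff hu0]
    linear_combination (-(algebraMap D F a)) * hu
  let Near : ℕ → F → F → Prop := fun N z z' => ∃ d : D, z - z' = T ^ N * algebraMap D F d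
  have near_mono : ∀ {M N : ℕ} {z z' : F}, M ≤ N → Near N z z' → Near M z z' := by
    rintro M N z z' hMN ⟨d, hd⟩
    obtain ⟨j, rfl⟩ := Nat.exists_eq_add_of_le hMN
    exact ⟨t ^ j * d, by rw [hd, map_mul, map_pow, pow_add, mul_assoc]⟩
  have near_mul : ∀ (x z : F) (N : ℕ), ∃ c, ∀ x' z', Near c x x' → Near c z z' → Near N (x * z) (x' * z') := by
    intro x z N
    obtain ⟨a, P, ha⟩ := hrep x
    obtain ⟨b, Q, hb⟩ := hrep z
    refine ⟨N + P + Q, fun x' z' ⟨d, hd⟩ ⟨d', hd'⟩ => ⟨t ^ P * d * b + t ^ Q * d' * a - t ^ (N + P + Q + P + Q) * d * d', ?_⟩⟩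
    have hx' : x' = x - T ^ (N + P + Q) * algebraMap D F d := by rw [← hd]; ring
    have hz' : z' = z - T ^ (N + P + Q) * algebraMap D F d' := by rw [← hd']; ring
    simp only [map_sub, map_add, map_mul, map_pow, ← ha, ← hb, hx', hz', T]
    ring
  have near_add : ∀ (x x' z z' : F) (N : ℕ), Near N x x' → Near N z z' → Near N (x + z) (x' + z') := by
    rintro x x' z z' N ⟨d, hd⟩ ⟨d', hd'⟩
    exact ⟨d + d', by rw [map_add, mul_add, ← hd, ← hd']; ring⟩
  have hcont : ∀ (p : MvPolynomial (Fin n) k) (N : ℕ), ∃ c, ∀ v' : Fin n → F, (∀ i, Near c (v i) (v' i)) →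
      Near N (MvPolynomial.aeval v p) (MvPolynomial.aeval v' p) := by
    intro p
    induction p using MvPolynomial.induction_on with
    | C r => exact fun N => ⟨0, fun v' _ => ⟨0, by simp⟩⟩
    | add p q hp hq =>
      intro N
      obtain ⟨c, hc⟩ := hp N
      obtain ⟨c', hc'⟩ := hq N
      refine ⟨max c c', fun v' hv' => ?_⟩
      simp only [map_add]
      exact near_add _ _ _ _ _ (hc v' fun i => near_mono (le_max_left _ _) (hv' i))
        (hc' v' fun i => near_mono (le_max_right _ _) (hv' i))
    | mul_X p i hp =>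
      intro N
      obtain ⟨c, hc⟩ := near_mul (MvPolynomial.aeval v p) (v i) N
      obtain ⟨c', hc'⟩ := hp c
      refine ⟨max c c', fun v' hv' => ?_⟩
      simp only [map_mul, MvPolynomial.aeval_X]
      exact hc _ _ (hc' v' fun i => near_mono (le_max_right _ _) (hv' i)) (near_mono (le_max_left _ _) (hv' i))
  -- generators
  obtain ⟨s, hs⟩ := Algebra.FiniteType.out (R := k) (A := B)
  have hgen : ∀ b : B, ∃ c : ℕ, ∀ (v' : Fin n → F), (∀ i, Near c (v i) (v' i)) →
      ∀ (hv' : MvPolynomial.aeval v' h ≠ 0), ∃ d : D,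
        IsLocalization.Away.lift h (g := (MvPolynomial.aeval v').toRingHom) (IsUnit.mk0 _ hv') (β b) =
          algebraMap D F d ∧ ρ d = α b := by
    intro b
    obtain ⟨⟨p, q⟩, hpq⟩ := IsLocalization.surj (Submonoid.powers h) (β b)
    obtain ⟨m, hm⟩ := q.2
    obtain ⟨r, R, hr⟩ := hrep (MvPolynomial.aeval v (h ^ m))⁻¹
    obtain ⟨a, hza⟩ : ∃ a, ψ b = a := ⟨_, rfl⟩
    obtain ⟨c, hc⟩ := hcont (h ^ m) (R + 1)
    obtain ⟨c', hc'⟩ := hcont p (R + 1)
    refine ⟨max c c', fun v' hv'n hv' => ?_⟩
    have key : ∀ (w : Fin n → F) (hw : MvPolynomial.aeval w h ≠ 0),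
        IsLocalization.Away.lift h (g := (MvPolynomial.aeval w).toRingHom) (IsUnit.mk0 _ hw) (β b) *
          MvPolynomial.aeval w (h ^ m) = MvPolynomial.aeval w p := by
      intro w hw
      have := congrArg (IsLocalization.Away.lift h (g := (MvPolynomial.aeval w).toRingHom) (IsUnit.mk0 _ hw)) hpq
      rw [map_mul, IsLocalization.Away.lift_eq, IsLocalization.Away.lift_eq, ← hm] at this
      exact this
    have k₁ := key v hv
    rw [hβ, hza] at k₁
    have k₂ := key v' hv'
    generalize IsLocalization.Away.lift h (g := (MvPolynomial.aeval v').toRingHom) (IsUnit.mk0 _ hv') (β b) = z at k₂ ⊢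
    obtain ⟨d₁, hd₁⟩ := hc v' fun i => near_mono (le_max_left _ _) (hv'n i)
    obtain ⟨d₂, hd₂⟩ := hc' v' fun i => near_mono (le_max_right _ _) (hv'n i)
    have hq0 : MvPolynomial.aeval v (h ^ m) ≠ 0 := by rw [map_pow]; exact pow_ne_zero _ hv
    generalize MvPolynomial.aeval v (h ^ m) = Q at k₁ hd₁ hr hq0
    generalize MvPolynomial.aeval v p = P at k₁ hd₂
    generalize MvPolynomial.aeval v' (h ^ m) = Q' at k₂ hd₁
    generalize MvPolynomial.aeval v' p = P' at k₂ hd₂
    -- the unit `1 - t r d₁`
    have hu : IsUnit (1 - t * (r * d₁)) := by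
      refine IsLocalRing.isUnit_one_sub_self_of_mem_nonunits _ ?_
      have : t * (r * d₁) ∈ maximalIdeal D :=
        Ideal.mul_mem_right _ _ (ht.maximalIdeal_eq ▸ Ideal.mem_span_singleton_self t)
      exact this
    obtain ⟨u, hu⟩ := hu
    have hρu : ρ (u : D) = 1 := by rw [hu]; simp [hρt]
    have hiu : algebraMap D F (u : D) * algebraMap D F ((u⁻¹ : Dˣ) : D) = 1 := by
      rw [← map_mul, Units.mul_inv, map_one]
    have hau : algebraMap D F (u : D) = 1 - T * (algebraMap D F r * algebraMap D F d₁) := by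
      rw [hu]; simp [T]
    have hrQ : algebraMap D F r * Q = T ^ R := by
      rw [← hr]; field_simp
    refine ⟨↑u⁻¹ * (a - t * (r * d₂)), ?_, ?_⟩
    · have hQ' : Q' = Q * algebraMap D F (u : D) := by
        rw [hau]
        linear_combination (-1 : F) * hd₁ + (T * algebraMap D F d₁) * hrQ
      have hP' : P' = Q * (algebraMap D F a - T * (algebraMap D F r * algebraMap D F d₂)) := by
        linear_combination (-1 : F) * hd₂ - k₁ + (T * algebraMap D F d₂) * hrQ
      have : z * algebraMap D F (u : D) = algebraMap D F a - T * (algebraMap D F r * algebraMap D F d₂) := by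
        apply mul_left_cancel₀ hq0
        linear_combination k₂ - z * hQ' + hP'
      simp only [map_mul, map_sub, T] at this ⊢
      linear_combination (algebraMap D F ((u⁻¹ : Dˣ) : D)) * this - z * hiu
    · have h1 : ρ ((u⁻¹ : Dˣ) : D) = 1 := by
        have := congrArg ρ u.mul_inv
        rwa [map_mul, map_one, hρu, one_mul] at this
      rw [map_mul, h1, one_mul, map_sub, map_mul, hρt, zero_mul, sub_zero, ← hza, hψ]
  choose cb hcb using hgen
  obtain ⟨dh, Ph, hdh⟩ := hrep (MvPolynomial.aeval v h)⁻¹
  obtain ⟨ch, hch⟩ := hcont h (Ph + 1)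
  let c₀ := ch + s.sum cb
  choose a P ha using fun i => hrep (v i)
  choose p hp using fun i => happ (a i) (c₀ + P i)
  let w : Fin n → RatFunc K := fun i => algebraMap K[X] (RatFunc K) (p i) / RatFunc.X ^ P i
  -- the embedding of rational functions
  letI : Algebra K F := ((algebraMap D F).comp (algebraMap K D)).toAlgebra
  haveI : IsScalarTower K D F := IsScalarTower.of_algebraMap_eq fun _ => rfl
  haveI : IsScalarTower k K F := IsScalarTower.of_algebraMap_eq fun r => by
    rw [IsScalarTower.algebraMap_apply k D F, IsScalarTower.algebraMap_apply K D F,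
      IsScalarTower.algebraMap_apply k K D]
  have hinjt : Function.Injective (aeval t : K[X] →ₐ[K] D) := by
    rw [injective_iff_map_eq_zero]
    intro q hq
    by_contra hq0
    obtain ⟨j, q', hq', hX⟩ : ∃ j q', q = Polynomial.X ^ j * q' ∧ ¬ Polynomial.X ∣ q' := by
      obtain ⟨q', h1, h2⟩ := (Polynomial.finiteMultiplicity_of_degree_pos_of_monic
        (by simp) Polynomial.monic_X hq0).exists_eq_pow_mul_and_not_dvd
      exact ⟨_, q', h1, h2⟩
    rw [hq', map_mul, map_pow, aeval_X, mul_eq_zero] at hq
    rcases hq with hq | hq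
    · exact pow_ne_zero _ ht.ne_zero hq
    · apply hX
      rw [Polynomial.X_dvd_iff, Polynomial.coeff_zero_eq_eval_zero, ← hpoly, hq, map_zero]
  have hTinj : Function.Injective (aeval T : K[X] →ₐ[K] F) := by
    have : (aeval T : K[X] →ₐ[K] F) = (IsScalarTower.toAlgHom K D F).comp (aeval t) :=
      Polynomial.algHom_ext (by simp [T])
    rw [this]
    exact (IsFractionRing.injective D F).comp hinjt
  let σ : RatFunc K →ₐ[K] F := RatFunc.liftAlgHom (aeval T)
    (nonZeroDivisors_le_comap_nonZeroDivisors_of_injective _ hTinj)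
  have hσp : ∀ q : K[X], σ (algebraMap K[X] (RatFunc K) q) = algebraMap D F (aeval t q) := fun q => by
    have h1 : σ (algebraMap K[X] (RatFunc K) q) = aeval T q := by
      have := RatFunc.liftAlgHom_apply_div' (φ := (aeval T : K[X] →ₐ[K] F))
        (nonZeroDivisors_le_comap_nonZeroDivisors_of_injective _ hTinj) q 1
      simpa [σ] using this
    rw [h1]
    exact aeval_algebraMap_apply F t q
  have hσX : σ RatFunc.X = T := by
    rw [← RatFunc.algebraMap_X, hσp, aeval_X]
  let v' : Fin n → F := fun i => σ (w i)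
  have hnear : ∀ i, Near c₀ (v i) (v' i) := by
    intro i
    obtain ⟨d, hd⟩ := hp i
    refine ⟨d, ?_⟩
    apply mul_right_cancel₀ (pow_ne_zero (P i) hT)
    have hv'i : v' i * T ^ P i = algebraMap D F (aeval t (p i)) := by
      simp only [v', w, map_div₀, map_pow, hσX, hσp]
      field_simp
    rw [sub_mul, hv'i, ha, ← map_sub, hd, map_mul, map_pow, pow_add]
    ring
  have hv' : MvPolynomial.aeval v' h ≠ 0 := by
    intro h0
    obtain ⟨d, hd⟩ := hch v' fun i => near_mono (Nat.le_add_right _ _) (hnear i)
    rw [h0, sub_zero] at hd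
    have hunit : (1 : F) = algebraMap D F (t * (d * dh)) := by
      apply mul_left_cancel₀ (pow_ne_zero Ph hT)
      have e : algebraMap D F dh * MvPolynomial.aeval v h = T ^ Ph := by
        rw [← hdh]; field_simp
      simp only [map_mul]
      linear_combination (-1 : F) * e + algebraMap D F dh * hd
    have : IsUnit t := IsUnit.of_mul_eq_one (d * dh) (IsFractionRing.injective D F (by rw [map_one, ← hunit]))
    exact ht.not_isUnit this
  have hw : MvPolynomial.aeval w h ≠ 0 := fun h0 => hv' (by
    have : MvPolynomial.aeval v' h = σ (MvPolynomial.aeval w h) :=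
      (AlgHom.congr_fun (MvPolynomial.algHom_ext (f := MvPolynomial.aeval v')
        (g := (σ.restrictScalars k).comp (MvPolynomial.aeval w)) (fun i => by simp [v'])) h)
    rw [this, h0, map_zero])
  let L₀ : Localization.Away h →+* RatFunc K :=
    IsLocalization.Away.lift h (g := (MvPolynomial.aeval w).toRingHom) (IsUnit.mk0 _ hw)
  let φ₀ : B →ₐ[k] RatFunc K :=
    { L₀.comp β.toRingHom with
      commutes' := fun r => by
        show L₀ (β (algebraMap k B r)) = _
        rw [β.commutes, IsScalarTower.algebraMap_apply k (MvPolynomial (Fin n) k) (Localization.Away h),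
          IsLocalization.Away.lift_eq]
        exact (MvPolynomial.aeval w).commutes r }
  have hσφ : ∀ b, σ (φ₀ b) =
      IsLocalization.Away.lift h (g := (MvPolynomial.aeval v').toRingHom) (IsUnit.mk0 _ hv') (β b) := by
    intro b
    have : (σ.toRingHom.comp L₀) =
        IsLocalization.Away.lift h (g := (MvPolynomial.aeval v').toRingHom) (IsUnit.mk0 _ hv') := by
      refine IsLocalization.ringHom_ext (Submonoid.powers h) ?_
      rw [RingHom.comp_assoc, IsLocalization.Away.lift_comp, IsLocalization.Away.lift_comp]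
      exact MvPolynomial.ringHom_ext (fun r => by simp [IsScalarTower.algebraMap_apply k K F, ← IsScalarTower.algebraMap_apply k K (RatFunc K)]) (fun i => by simp [v'])
    exact RingHom.congr_fun this (β b)
  have hreg : ∀ b ∈ s, (RatFunc.denom (φ₀ b)).eval 0 ≠ 0 ∧
      (RatFunc.num (φ₀ b)).eval 0 = α b * (RatFunc.denom (φ₀ b)).eval 0 := by
    intro b hb
    obtain ⟨d, hd, hdα⟩ := hcb b v' (fun i => near_mono
      ((Finset.single_le_sum (fun _ _ => Nat.zero_le _) hb).trans (Nat.le_add_left _ _)) (hnear i)) hv'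
    rw [← hσφ] at hd
    have hnd := congrArg σ (RatFunc.num_div_denom (φ₀ b))
    rw [map_div₀, hσp, hσp, hd, div_eq_iff ((map_ne_zero_iff _ (IsFractionRing.injective D F)).2
      ((map_ne_zero_iff _ hinjt).2 (RatFunc.denom_ne_zero _))), ← map_mul] at hnd
    have e := congrArg ρ (IsFractionRing.injective D F hnd)
    rw [map_mul, hpoly, hpoly, hdα] at e
    refine ⟨fun h0 => ?_, e⟩
    rw [h0, mul_zero] at e
    have hcop := RatFunc.isCoprime_num_denom (φ₀ b)
    obtain ⟨x, y, hxy⟩ := hcop
    have := congrArg (Polynomial.eval 0) hxy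
    simp [e, h0] at this
  let den : K[X] := ∏ b ∈ s, RatFunc.denom (φ₀ b)
  have hden0 : den.eval 0 ≠ 0 := by
    rw [Polynomial.eval_prod]
    exact Finset.prod_ne_zero_iff.2 fun b hb => (hreg b hb).1
  have hden : den ≠ 0 := fun h0 => hden0 (by rw [h0, Polynomial.eval_zero])
  let ι : Localization.Away den →ₐ[k] RatFunc K :=
    IsLocalization.liftAlgHom (M := Submonoid.powers den) (f := IsScalarTower.toAlgHom k K[X] (RatFunc K)) (by
      rintro ⟨_, j, rfl⟩
      exact IsUnit.mk0 _ (by simp [hden]))
  have hιe : ∀ q, ι (algebraMap K[X] _ q) = algebraMap K[X] (RatFunc K) q := fun q => by simp [ι]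
  have hιinj : Function.Injective ι := by
    intro x y hxy
    obtain ⟨⟨xa, xs⟩, hx⟩ := IsLocalization.surj (Submonoid.powers den) x
    obtain ⟨⟨ya, ys⟩, hy⟩ := IsLocalization.surj (Submonoid.powers den) y
    have h1 := congrArg ι hx
    have h2 := congrArg ι hy
    simp only [map_mul, hιe] at h1 h2
    have h3 : xa * ys.1 = ya * xs.1 := RatFunc.algebraMap_injective K (by
      rw [map_mul, map_mul, ← h1, ← h2, hxy]; ring)
    have hu : IsUnit (algebraMap K[X] (Localization.Away den) (xs.1 * ys.1)) := by
      rw [map_mul]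
      exact (IsLocalization.map_units _ xs).mul (IsLocalization.map_units _ ys)
    apply hu.mul_right_cancel
    have h4 := congrArg (algebraMap K[X] (Localization.Away den)) h3
    simp only [map_mul] at h4 ⊢
    rw [← mul_assoc, hx, mul_comm (algebraMap K[X] (Localization.Away den) xs.1), ← mul_assoc, hy]
    exact h4
  have hrange : ∀ b, φ₀ b ∈ ι.range := by
    have : Algebra.adjoin k (s : Set B) ≤ ι.range.comap φ₀ := by
      refine Algebra.adjoin_le fun b hb => ?_
      obtain ⟨q, hq⟩ := Finset.dvd_prod_of_mem (fun b => RatFunc.denom (φ₀ b)) hb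
      refine ⟨IsLocalization.mk' _ (RatFunc.num (φ₀ b) * q) ⟨den, Submonoid.mem_powers _⟩, ?_⟩
      have e := congrArg ι (IsLocalization.mk'_spec (Localization.Away den) (RatFunc.num (φ₀ b) * q)
        (⟨den, Submonoid.mem_powers _⟩ : Submonoid.powers den))
      rw [map_mul, hιe, hιe] at e
      apply mul_right_cancel₀ ((map_ne_zero_iff _ (RatFunc.algebraMap_injective K)).2 hden)
      show ι _ * _ = φ₀ b * _
      rw [e, show den = RatFunc.denom (φ₀ b) * q from hq, map_mul, map_mul, ← mul_assoc]
      congr 1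
      conv_rhs => arg 1; rw [← RatFunc.num_div_denom (φ₀ b)]
      rw [div_mul_cancel₀ _ ((map_ne_zero_iff _ (RatFunc.algebraMap_injective K)).2 (RatFunc.denom_ne_zero _))]
    exact fun b => this (hs ▸ Algebra.mem_top)
  let φ : B →ₐ[k] Localization.Away den :=
    (AlgEquiv.ofInjective ι hιinj).symm.toAlgHom.comp (φ₀.codRestrict _ hrange)
  have hιφ : ∀ b, ι (φ b) = φ₀ b := fun b => by
    show ι ((AlgEquiv.ofInjective ι hιinj).symm _) = _
    exact congrArg Subtype.val ((AlgEquiv.ofInjective ι hιinj).apply_symm_apply _)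
  obtain ⟨⟨ng, dg⟩, hng⟩ := IsLocalization.surj (Submonoid.powers den) (φ g)
  have hng0 : ng ≠ 0 := by
    intro h0
    have := congrArg ι hng
    rw [map_mul, hιe, hιe, h0, map_zero, mul_eq_zero, hιφ] at this
    rcases this with this | this
    · exact not_isUnit_zero (this ▸ (hβg.map L₀ : IsUnit (φ₀ g)))
    · obtain ⟨j, hj⟩ := dg.2
      rw [map_eq_zero_iff _ (RatFunc.algebraMap_injective K), ← hj] at this
      exact pow_ne_zero _ hden this
  obtain ⟨c, hc⟩ : ∃ c, (ng * den).eval c ≠ 0 := by
    by_contra! h0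
    exact mul_ne_zero hng0 hden (Polynomial.funext fun c => by simpa using h0 c)
  rw [Polynomial.eval_mul, mul_ne_zero_iff] at hc
  have hu : ∀ (c : K), den.eval c ≠ 0 → ∀ y : Submonoid.powers den, IsUnit (aeval c (y : K[X])) := by
    rintro c hc ⟨_, j, rfl⟩
    exact IsUnit.mk0 _ (by simpa using pow_ne_zero j hc)
  let e₀ : Localization.Away den →ₐ[K] K := IsLocalization.liftAlgHom (f := aeval (0 : K)) (hu 0 hden0)
  let e : Localization.Away den →ₐ[K] K := IsLocalization.liftAlgHom (f := aeval c) (hu c hc.2)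
  have he₀ : ∀ q, e₀ (algebraMap K[X] _ q) = q.eval 0 := fun q => by simp [e₀]
  have he : ∀ q, e (algebraMap K[X] _ q) = q.eval c := fun q => by simp [e]
  refine ⟨den, φ, e₀, e, fun b => ?_, fun h0 => ?_⟩
  · have : (e₀.restrictScalars k).comp φ = α := by
      refine AlgHom.ext_of_adjoin_eq_top hs fun b hb => ?_
      have h1 : φ b * algebraMap K[X] _ (RatFunc.denom (φ₀ b)) = algebraMap K[X] _ (RatFunc.num (φ₀ b)) := by
        apply hιinj
        rw [map_mul, hιe, hιe, hιφ]
        conv_lhs => arg 1; rw [← RatFunc.num_div_denom (φ₀ b)]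
        rw [div_mul_cancel₀ _ ((map_ne_zero_iff _ (RatFunc.algebraMap_injective K)).2 (RatFunc.denom_ne_zero _))]
      have h2 := congrArg e₀ h1
      rw [map_mul, he₀, he₀, (hreg b hb).2] at h2
      exact mul_right_cancel₀ (hreg b hb).1 h2
    exact AlgHom.congr_fun this b
  · have := congrArg e hng
    rw [map_mul, he, he, h0, zero_mul] at this
    exact hc.1 this.symm

end Groth.Agent.CommAlg4.RegCurve
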