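import Mathlib

/-!
# Counting pairs (quadric, degree `n` form) with nonzero resultant over a finite field
-/

set_option autoImplicit false

universe u

namespace Groth.Agent.CommAlg4

open Polynomial

variable {F : Type u} [Field F]

/-- The polynomial with prescribed coefficients, as a linear map. -/
noncomputable def ofCoeffs (n : ℕ) : (Fin (n + 1) → F) →ₗ[F] F[X] :=
  ∑ j : Fin (n + 1), (LinearMap.proj j).smulRight ((X : F[X]) ^ (j : ℕ))

theorem ofCoeffs_apply (n : ℕ) (g : Fin (n + 1) → F) :
    ofCoeffs n g = ∑ j : Fin (n + 1), C (g j) * X ^ (j : ℕ) := by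
  simp [ofCoeffs, smul_eq_C_mul]

theorem ofCoeffs_single (n : ℕ) (j : Fin (n + 1)) (a : F) :
    ofCoeffs n (Pi.single j a) = C a * X ^ (j : ℕ) := by
  rw [ofCoeffs_apply, Finset.sum_eq_single j]
  · simp
  · intro b _ hb; simp [Pi.single_eq_of_ne hb]
  · simp

theorem natDegree_ofCoeffs_le (n : ℕ) (g : Fin (n + 1) → F) : (ofCoeffs n g).natDegree ≤ n := by
  rw [ofCoeffs_apply]
  refine natDegree_sum_le_of_forall_le _ _ fun j _ => ?_
  exact (natDegree_C_mul_X_pow_le _ _).trans (Nat.lt_succ_iff.1 j.2)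

/-- Preimages of a set under a surjective linear map of finite vector spaces. -/
theorem natCard_subtype_comp_surjective {V W : Type*} [AddCommGroup V] [Module F V] [AddCommGroup W]
    [Module F W] [Finite V] (L : V →ₗ[F] W) (hL : Function.Surjective L) (S : W → Prop) :
    Nat.card {x : V // S (L x)} * Nat.card W = Nat.card {y : W // S y} * Nat.card V := by
  obtain ⟨s, hs⟩ := L.exists_rightInverse_of_surjective (LinearMap.range_eq_top.2 hL)
  have hs' : ∀ y, L (s y) = y := fun y => congrArg (fun m => m y) hs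
  let e : V ≃ W × LinearMap.ker L :=
    { toFun := fun x => (L x, ⟨x - s (L x), by simp [hs']⟩)
      invFun := fun p => s p.1 + p.2.1
      left_inv := fun x => by simp
      right_inv := fun p => by
        have h2 : L p.2.1 = 0 := p.2.2
        refine Prod.ext ?_ (Subtype.ext ?_)
        · simp [hs', h2]
        · simp [hs', h2] }
  let e' : {x : V // S (L x)} ≃ {y : W // S y} × LinearMap.ker L :=
    (e.subtypeEquiv (p := fun x => S (L x)) (q := fun p => S p.1) fun x => Iff.rfl).trans
      { toFun := fun p => (⟨p.1.1, p.2⟩, p.1.2)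
        invFun := fun p => ⟨(p.1.1, p.2), p.1.2⟩
        left_inv := fun _ => rfl
        right_inv := fun _ => rfl }
  rw [Nat.card_congr e', Nat.card_congr e, Nat.card_prod, Nat.card_prod]
  ring

/-- The binary quadratic form attached to a quadric `f₀ + f₁ X + f₂ X²`. -/
def dualQuad (f : Fin 3 → F) (w : F × F) : F := f 2 * w.2 ^ 2 - f 1 * w.1 * w.2 + f 0 * w.1 ^ 2

theorem resultant_quad_ne_zero_iff (f : Fin 3 → F) (n : ℕ) (hn : 1 ≤ n) :
    ∃ L : (Fin (n + 1) → F) →ₗ[F] F × F, Function.Surjective L ∧ ∀ g,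
      (resultant (∑ i : Fin 3, C (f i) * X ^ (i : ℕ)) (ofCoeffs n g) 2 n ≠ 0 ↔
        dualQuad f (L g) ≠ 0) := by
  classical
  obtain ⟨m, rfl⟩ : ∃ m, n = m + 1 := ⟨n - 1, by omega⟩
  have hsum : (∑ i : Fin 3, C (f i) * X ^ (i : ℕ)) = C (f 0) + C (f 1) * X + C (f 2) * X ^ 2 := by
    simp [Fin.sum_univ_three]
  rw [hsum]
  by_cases h2 : f 2 = 0
  · -- the leading coefficient vanishes
    let c : F := -(f 0 / f 1)
    let b : F := if f 1 = 0 then 1 else (f 1)⁻¹
    let L : (Fin (m + 1 + 1) → F) →ₗ[F] F × F := LinearMap.prod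
      ((lcoeff F (m + 1)).comp (ofCoeffs (m + 1)))
      (b • ((Polynomial.leval c).comp (ofCoeffs (m + 1)) +
        f 0 • (lcoeff F (m + 1)).comp (ofCoeffs (m + 1))))
    have hb : b ≠ 0 := by
      by_cases h1 : f 1 = 0
      · simp [b, h1]
      · simp [b, h1]
    refine ⟨L, ?_, fun g => ?_⟩
    · rintro ⟨u, v⟩
      refine ⟨Pi.single (Fin.last (m + 1)) u + Pi.single 0 (v / b - f 0 * u - u * c ^ (m + 1)), ?_⟩
      set w := v / b - f 0 * u - u * c ^ (m + 1) with hw
      have e : ofCoeffs (m + 1) (Pi.single (Fin.last (m + 1)) u + Pi.single 0 w) =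
          C u * X ^ (m + 1) + C w := by
        rw [map_add, ofCoeffs_single, ofCoeffs_single]; simp
      refine Prod.ext ?_ ?_
      · show (ofCoeffs (m + 1) _).coeff (m + 1) = u
        rw [e]
        simp [coeff_C_mul_X_pow]
      · show b * ((ofCoeffs (m + 1) _).eval c + f 0 * (ofCoeffs (m + 1) _).coeff (m + 1)) = v
        rw [e]
        simp only [coeff_add, coeff_C_mul_X_pow, coeff_C_succ, add_zero, if_true,
          eval_add, eval_mul, eval_pow, eval_X, eval_C]
        rw [hw]
        field_simp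
        ring
    · have hdeg := natDegree_ofCoeffs_le (m + 1) g
      set G := ofCoeffs (m + 1) g with hG
      have hL : L g = (G.coeff (m + 1), b * (G.eval c + f 0 * G.coeff (m + 1))) := by
        simp [L, hG, Polynomial.leval, mul_add]
      rw [h2, map_zero, zero_mul, add_zero, hL, dualQuad, h2]
      by_cases h1 : f 1 = 0
      · rw [h1, map_zero, zero_mul, add_zero, resultant_C_left]
        simp [mul_comm]
      · have hf : C (f 0) + C (f 1) * X = C (f 1) * (X + C (f 0 / f 1)) := by
          rw [mul_add, ← map_mul, mul_div_cancel₀ _ h1]; ring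
        rw [hf, resultant_succ_left_deg _ _ _ _ ((natDegree_C_mul_le _ _).trans (natDegree_X_add_C _).le),
          resultant_C_mul_left, resultant_X_add_C_left _ _ _ hdeg]
        rw [show -(f 0 / f 1) = c from rfl]
        have : (0 : F) * (b * (G.eval c + f 0 * G.coeff (m + 1))) ^ 2 -
            f 1 * G.coeff (m + 1) * (b * (G.eval c + f 0 * G.coeff (m + 1))) +
              f 0 * G.coeff (m + 1) ^ 2 = -(G.coeff (m + 1) * G.eval c) := by
          simp only [b, if_neg h1]
          field_simp
          ring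
        simp only [this]
        simp [h1, mul_comm]
  · let q : F[X] := X ^ 2 + C (f 1 / f 2) * X + C (f 0 / f 2)
    have hq : q.Monic := by unfold q; monicity!
    have hqdeg : q.natDegree = 2 := by unfold q; compute_degree!
    let M : (Fin (m + 1 + 1) → F) →ₗ[F] F[X] := (modByMonicHom q).comp (ofCoeffs (m + 1))
    let L : (Fin (m + 1 + 1) → F) →ₗ[F] F × F := LinearMap.prod ((lcoeff F 1).comp M) ((lcoeff F 0).comp M)
    refine ⟨L, ?_, fun g => ?_⟩
    · rintro ⟨u, v⟩
      refine ⟨Pi.single 1 u + Pi.single 0 v, ?_⟩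
      have hone : ((1 : Fin (m + 1 + 1)) : ℕ) = 1 := by simp
      have e : M (Pi.single 1 u + Pi.single 0 v) = C u * X + C v := by
        have h' : ofCoeffs (m + 1) (Pi.single 1 u + Pi.single 0 v) = C u * X + C v := by
          rw [map_add, ofCoeffs_single, ofCoeffs_single, hone]; simp
        show (ofCoeffs (m + 1) (Pi.single 1 u + Pi.single 0 v)) %ₘ q = _
        rw [h', modByMonic_eq_self_iff hq]
        refine (degree_linear_le).trans_lt ?_
        rw [degree_eq_natDegree hq.ne_zero, hqdeg]
        norm_num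
      simp [L, e]
    · set G := ofCoeffs (m + 1) g with hG
      have hdeg := natDegree_ofCoeffs_le (m + 1) g
      have hdeg' : G.natDegree ≤ m + 1 := hdeg
      set r := G %ₘ q with hr
      have hrdeg : r.natDegree ≤ 1 := by
        have := natDegree_modByMonic_lt G hq (fun h => by rw [h] at hqdeg; simp at hqdeg)
        rw [hqdeg] at this
        exact Nat.lt_succ_iff.1 this
      have hLg : L g = (r.coeff 1, r.coeff 0) := rfl
      have hf : C (f 0) + C (f 1) * X + C (f 2) * X ^ 2 = C (f 2) * q := by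
        simp only [q, mul_add, ← mul_assoc, ← map_mul, mul_div_cancel₀ _ h2]; ring
      have hdiv : (G /ₘ q).natDegree + 2 ≤ m + 1 ∨ G /ₘ q = 0 := by
        by_cases hd : G /ₘ q = 0
        · exact Or.inr hd
        · refine Or.inl ?_
          have h2le : q.natDegree ≤ G.natDegree := by
            by_contra hlt
            exact hd ((divByMonic_eq_zero_iff hq).2 (degree_lt_degree (not_le.1 hlt)))
          have := natDegree_divByMonic G hq
          omega
      have hred : resultant q G 2 (m + 1) = resultant q r 2 (m + 1) := by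
        conv_lhs => rw [← modByMonic_add_div G q]
        rcases hdiv with h | h
        · rw [resultant_add_mul_right _ _ _ _ _ h hqdeg.le]
        · rw [h, mul_zero, add_zero]
      have hq2 : q.coeff 2 = 1 := by rw [← hqdeg]; exact hq.coeff_natDegree
      have hr1 : resultant q r 2 1 =
          r.coeff 0 ^ 2 - f 1 / f 2 * r.coeff 1 * r.coeff 0 + f 0 / f 2 * r.coeff 1 ^ 2 := by
        by_cases hu : r.coeff 1 = 0
        · have hrc : r = C (r.coeff 0) := by
            refine eq_C_of_natDegree_eq_zero ?_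
            by_contra hne
            have h1 : r.natDegree = 1 := by omega
            have : r.leadingCoeff = 0 := by rw [leadingCoeff, h1]; exact hu
            rw [leadingCoeff_eq_zero] at this
            rw [this, natDegree_zero] at h1
            exact zero_ne_one h1
          conv_lhs => rw [hrc]
          rw [resultant_C_right, hq2, hu]; ring
        · have hrc : r = C (r.coeff 1) * (X + C (r.coeff 0 / r.coeff 1)) := by
            rw [mul_add, ← map_mul, mul_div_cancel₀ _ hu]
            exact eq_X_add_C_of_natDegree_le_one hrdeg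
          conv_lhs => rw [hrc]
          rw [resultant_C_mul_right, resultant_X_add_C_right _ _ _ hqdeg.le]
          simp only [q, eval_add, eval_mul, eval_pow, eval_X, eval_C]
          field_simp
          ring
      have hstep : resultant q r 2 (m + 1) = q.coeff 2 ^ m * resultant q r 2 1 := by
        rw [add_comm m 1, resultant_add_right_deg _ _ _ _ _ hrdeg]
      rw [hf, resultant_C_mul_left, hred, hstep, hq2, hr1, hLg, dualQuad]
      have : f 2 * r.coeff 0 ^ 2 - f 1 * r.coeff 1 * r.coeff 0 + f 0 * r.coeff 1 ^ 2 =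
          f 2 * (r.coeff 0 ^ 2 - f 1 / f 2 * r.coeff 1 * r.coeff 0 + f 0 / f 2 * r.coeff 1 ^ 2) := by
        field_simp
      simp only [this]
      simp [h2]

variable [Fintype F]

theorem natCard_dualQuad_ne_zero :
    Nat.card {p : (Fin 3 → F) × (F × F) // dualQuad p.1 p.2 ≠ 0} =
      (Fintype.card F ^ 2 - 1) * (Fintype.card F ^ 3 - Fintype.card F ^ 2) := by
  classical
  have e : {p : (Fin 3 → F) × (F × F) // dualQuad p.1 p.2 ≠ 0} ≃
      Σ w : {w : F × F // w ≠ 0}, {f : Fin 3 → F // dualQuad f w.1 ≠ 0} :=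
    { toFun := fun p => ⟨⟨p.1.2, fun h => p.2 (by simp [dualQuad, h])⟩, ⟨p.1.1, p.2⟩⟩
      invFun := fun s => ⟨(s.2.1, s.1.1), s.2.2⟩
      left_inv := fun _ => rfl
      right_inv := fun _ => rfl }
  rw [Nat.card_congr e, Nat.card_sigma]
  have hw : ∀ w : {w : F × F // w ≠ 0}, Nat.card {f : Fin 3 → F // dualQuad f w.1 ≠ 0} =
      Fintype.card F ^ 3 - Fintype.card F ^ 2 := by
    intro w
    let ℓ : (Fin 3 → F) →ₗ[F] F :=
      w.1.2 ^ 2 • LinearMap.proj 2 - (w.1.1 * w.1.2) • LinearMap.proj 1 + w.1.1 ^ 2 • LinearMap.proj 0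
    have hℓ : ∀ f, ℓ f = dualQuad f w.1 := fun f => by simp [ℓ, dualQuad]; ring
    have hsurj : Function.Surjective ℓ := by
      refine LinearMap.surjective ?_
      intro h
      refine w.2 (Prod.ext ?_ ?_)
      · have := congrArg (fun l => l (Pi.single 0 1)) h
        simpa [ℓ] using this
      · have := congrArg (fun l => l (Pi.single 2 1)) h
        simpa [ℓ] using this
    have h1 := natCard_subtype_comp_surjective ℓ hsurj (fun y => y ≠ 0)
    simp only [hℓ, Nat.card_eq_fintype_card, Fintype.card_subtype_compl, Fintype.card_subtype_eq,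
      Fintype.card_fun, Fintype.card_fin] at h1
    rw [Nat.card_eq_fintype_card]
    refine Nat.eq_of_mul_eq_mul_right (Fintype.card_pos (α := F)) ?_
    simp only [Fintype.card_subtype_compl, Fintype.card_fun, Fintype.card_fin] at h1 ⊢
    rw [h1, Nat.sub_mul, Nat.sub_mul, one_mul]
    ring_nf
  rw [Finset.sum_congr rfl (fun w _ => hw w), Finset.sum_const, smul_eq_mul, Finset.card_univ]
  congr 1
  rw [Fintype.card_subtype_compl, Fintype.card_subtype_eq, Fintype.card_prod, sq]

theorem natCard_resultant_ne_zero (n : ℕ) (hn : 1 ≤ n) :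
    Nat.card {p : (Fin 3 → F) × (Fin (n + 1) → F) //
      resultant (∑ i : Fin 3, C (p.1 i) * X ^ (i : ℕ))
        (∑ j : Fin (n + 1), C (p.2 j) * X ^ (j : ℕ)) 2 n ≠ 0} =
      (Fintype.card F ^ 2 - 1) * (Fintype.card F ^ 3 - Fintype.card F ^ 2) *
        Fintype.card F ^ (n - 1) := by
  classical
  choose L hLs hL using fun f : Fin 3 → F => resultant_quad_ne_zero_iff f n hn
  have e : ∀ f, ∀ g, (resultant (∑ i : Fin 3, C (f i) * X ^ (i : ℕ))
        (∑ j : Fin (n + 1), C (g j) * X ^ (j : ℕ)) 2 n ≠ 0 ↔ dualQuad f (L f g) ≠ 0) := fun f g => by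
    rw [← ofCoeffs_apply n g]; exact hL f g
  have e1 : {p : (Fin 3 → F) × (Fin (n + 1) → F) //
      resultant (∑ i : Fin 3, C (p.1 i) * X ^ (i : ℕ))
        (∑ j : Fin (n + 1), C (p.2 j) * X ^ (j : ℕ)) 2 n ≠ 0} ≃
      Σ f : Fin 3 → F, {g : Fin (n + 1) → F // dualQuad f (L f g) ≠ 0} :=
    { toFun := fun p => ⟨p.1.1, ⟨p.1.2, (e _ _).1 p.2⟩⟩
      invFun := fun s => ⟨(s.1, s.2.1), (e _ _).2 s.2.2⟩
      left_inv := fun _ => rfl
      right_inv := fun _ => rfl }
  have e2 : {p : (Fin 3 → F) × (F × F) // dualQuad p.1 p.2 ≠ 0} ≃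
      Σ f : Fin 3 → F, {w : F × F // dualQuad f w ≠ 0} :=
    { toFun := fun p => ⟨p.1.1, ⟨p.1.2, p.2⟩⟩
      invFun := fun s => ⟨(s.1, s.2.1), s.2.2⟩
      left_inv := fun _ => rfl
      right_inv := fun _ => rfl }
  rw [Nat.card_congr e1, Nat.card_sigma, ← natCard_dualQuad_ne_zero, Nat.card_congr e2, Nat.card_sigma,
    Finset.sum_mul]
  refine Finset.sum_congr rfl fun f _ => ?_
  have h := natCard_subtype_comp_surjective (L f) (hLs f) (fun y => dualQuad f y ≠ 0)
  refine Nat.eq_of_mul_eq_mul_right (Nat.card_pos (α := F × F)) (h.trans ?_)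
  rw [mul_assoc]
  congr 1
  simp only [Nat.card_eq_fintype_card, Fintype.card_prod, Fintype.card_fun, Fintype.card_fin]
  obtain ⟨m, rfl⟩ : ∃ m, n = m + 1 := ⟨n - 1, by omega⟩
  simp [pow_succ, mul_assoc]

end Groth.Agent.CommAlg4
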