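import Groth.Agent.CommAlg4.RegCurve
import Groth.Agent.VarietyLib.SmoothStalk
import Groth.Agent.REqLib17.RetractRat

/-!
# A rational point of a smooth retract rational variety moves into any nonempty open
-/

set_option autoImplicit false
set_option backward.isDefEq.respectTransparency false
set_option backward.isDefEq.respectTransparency.types false
set_option linter.style.haveILetI false

universe u

open CategoryTheory CategoryTheory.Limits AlgebraicGeometry TopologicalSpace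
open scoped TensorProduct

namespace Groth.Agent.CommAlg4.RetractMove

/-- A DVR arc through a `K`-point at which the ring is regular, avoiding a given non-zero-divisor. -/
theorem exists_arc_aux (K : Type u) [Field K] [Infinite K] (C : Type u) [CommRing C] [Algebra K C]
    (αK : C →ₐ[K] K) [(RingHom.ker αK).IsPrime] [IsRegularLocalRing (Localization.AtPrime (RingHom.ker αK))]
    (g' : C) (hnzd : Function.Injective fun z : C => g' * z) (hgα : αK g' = 0) :
    ∃ (D : Type u) (_ : CommRing D) (_ : IsDomain D) (_ : IsDiscreteValuationRing D) (_ : Algebra K D)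
      (ρ : D →ₐ[K] K) (Ψ : C →ₐ[K] D), (∀ z, ρ (Ψ z) = αK z) ∧ Ψ g' ≠ 0 := by
  let αR : Localization.AtPrime (RingHom.ker αK) →ₐ[K] K :=
    IsLocalization.liftAlgHom (M := (RingHom.ker αK).primeCompl) (f := αK) fun y => IsUnit.mk0 _ y.2
  have hαR : ∀ z, αR (algebraMap _ _ z) = αK z := fun z => by simp [αR]
  have hkerR : RingHom.ker αR = IsLocalRing.maximalIdeal (Localization.AtPrime (RingHom.ker αK)) :=
    IsLocalRing.eq_maximalIdeal (RingHom.ker_isMaximal_of_surjective αR
      (fun c => ⟨algebraMap K _ c, αR.commutes c⟩))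
  have hres : Function.Surjective
      (algebraMap K (IsLocalRing.ResidueField (Localization.AtPrime (RingHom.ker αK)))) := by
    intro z
    obtain ⟨y, rfl⟩ := IsLocalRing.residue_surjective z
    refine ⟨αR y, ?_⟩
    have : algebraMap K _ (αR y) - y ∈ IsLocalRing.maximalIdeal (Localization.AtPrime (RingHom.ker αK)) := by
      rw [← hkerR, RingHom.mem_ker, map_sub, αR.commutes]
      simp
    rw [← IsLocalRing.residue_eq_zero_iff, map_sub, sub_eq_zero] at this
    exact this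
  have hg0 : algebraMap C (Localization.AtPrime (RingHom.ker αK)) g' ≠ 0 := by
    intro h
    obtain ⟨s, hs⟩ := (IsLocalization.map_eq_zero_iff (RingHom.ker αK).primeCompl _ g').1 h
    have : (s : C) = 0 := hnzd (by simpa [mul_comm] using hs)
    exact s.2 (this ▸ (RingHom.ker αK).zero_mem)
  have hgm : algebraMap C _ g' ∈ IsLocalRing.maximalIdeal (Localization.AtPrime (RingHom.ker αK)) := by
    rw [← hkerR, RingHom.mem_ker, hαR, hgα]
  obtain ⟨n, hn⟩ := CAlgH3.exists_nat_eq_of_le_spanFinrank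
    (ringKrullDim_le_spanFinrank_maximalIdeal (Localization.AtPrime (RingHom.ker αK)))
  obtain ⟨P, hP, hgP, hdvr⟩ := RegCurve.exists_notMem_span_singleton K _ hres n hn _ hg0 hgm
  refine ⟨_ ⧸ P, inferInstance, inferInstance, hdvr, inferInstance,
    Ideal.Quotient.liftₐ P αR (fun a ha => (RingHom.mem_ker).1 (hkerR ▸ IsLocalRing.le_maximalIdeal hP.ne_top ha)),
    (Ideal.Quotient.mkₐ K P).comp (IsScalarTower.toAlgHom K C _), fun z => hαR z, ?_⟩
  exact fun h => hgP (Ideal.Quotient.eq_zero_iff_mem.1 h)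

/-- A DVR arc over `K` through a `K`-point of a smooth affine `k`-scheme, avoiding a given nonzero function. -/
theorem exists_arc (k K : Type u) [Field k] [Field K] [Infinite K] [Algebra k K]
    (B : Type u) [CommRing B] [IsDomain B] [Algebra k B] [Algebra.Smooth k B]
    (α : B →ₐ[k] K) (g : B) (hg : g ≠ 0) (hgα : α g = 0) :
    ∃ (D : Type u) (_ : CommRing D) (_ : IsDomain D) (_ : IsDiscreteValuationRing D) (_ : Algebra K D)
      (_ : Algebra k D) (_ : IsScalarTower k K D) (ρ : D →ₐ[K] K) (ψ : B →ₐ[k] D),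
      (∀ b, ρ (ψ b) = α b) ∧ ψ g ≠ 0 := by
  let αK : K ⊗[k] B →ₐ[K] K := Algebra.TensorProduct.lift (AlgHom.id K K) α (fun _ _ => mul_comm _ _)
  have hαs : Function.Surjective αK := fun c => ⟨c ⊗ₜ 1, by simp [αK]⟩
  haveI : (RingHom.ker αK).IsMaximal := RingHom.ker_isMaximal_of_surjective αK hαs
  haveI : IsRegularLocalRing (Localization.AtPrime (RingHom.ker αK)) :=
    VarietyLib.isRegularLocalRing_of_smooth K (K ⊗[k] B) _
  have hnzd : Function.Injective fun z : K ⊗[k] B => ((1 : K) ⊗ₜ[k] g) * z := by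
    have h1 : (fun z : K ⊗[k] B => ((1 : K) ⊗ₜ[k] g) * z) = (LinearMap.mulLeft k g).lTensor K := by
      funext z
      induction z using TensorProduct.induction_on with
      | zero => simp
      | tmul a b => simp
      | add x y hx hy => simp only [mul_add, map_add] at hx hy ⊢; rw [hx, hy]
    rw [h1]
    exact Module.Flat.lTensor_preserves_injective_linearMap _ (mul_right_injective₀ hg)
  obtain ⟨D, _, _, hdvr, _, ρ, Ψ, hΨ, hΨg⟩ := exists_arc_aux K (K ⊗[k] B) αK _ hnzd (by simp [αK, hgα])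
  letI : Algebra k D := ((algebraMap K D).comp (algebraMap k K)).toAlgebra
  haveI : IsScalarTower k K D := IsScalarTower.of_algebraMap_eq fun _ => rfl
  refine ⟨D, inferInstance, inferInstance, hdvr, inferInstance, inferInstance, inferInstance, ρ,
    (Ψ.restrictScalars k).comp Algebra.TensorProduct.includeRight, fun b => ?_, hΨg⟩
  show ρ (Ψ (1 ⊗ₜ b)) = α b
  rw [hΨ]
  simp [αK]

variable {k : Type u} [Field k]

/-- Any rational point is linked to one in a prescribed nonempty open. -/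
theorem exists_linked_mem {X : Scheme.{u}} [IsIntegral X] (f : X ⟶ Spec (CommRingCat.of k)) [Smooth f]
    {U : X.Opens} {n : ℕ} {V : (Spec (CommRingCat.of (MvPolynomial (Fin n) k))).Opens}
    (a : (U : Scheme.{u}) ⟶ (V : Scheme.{u})) (b : (V : Scheme.{u}) ⟶ (U : Scheme.{u}))
    (hab : a ≫ b = 𝟙 (U : Scheme.{u})) (ha : a ≫ V.ι ≫ REqLib17.affToSpec k n = U.ι ≫ f)
    (hb : b ≫ U.ι ≫ f = V.ι ≫ REqLib17.affToSpec k n) (hU : (U : Set X).Nonempty)
    (U' : X.Opens) (hU' : (U' : Set X).Nonempty)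
    (K : Type u) [Field K] [Infinite K] [Algebra k K] (A : REq.Pts f K) :
    ∃ A' : REq.Pts f K, REq.InOpen f U' A' ∧ REq.REquiv f K A A' := by
  obtain ⟨pK⟩ : Nonempty ↥(Spec (CommRingCat.of K)) := inferInstanceAs (Nonempty (PrimeSpectrum K))
  obtain ⟨_, ⟨W, hW, rfl⟩, hxW, -⟩ :=
    X.isBasis_affineOpens.exists_subset_of_mem_open (Set.mem_univ (A.1 pK)) isOpen_univ
  let B : CommRingCat.{u} := Γ(X, W)
  let j : Spec B ⟶ X := hW.fromSpec
  haveI : IsOpenImmersion j := hW.isOpenImmersion_fromSpec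
  have hjr : Set.range j = (W : Set X) := hW.range_fromSpec
  haveI : Nonempty W := ⟨⟨_, hxW⟩⟩
  haveI : IsDomain B := IsIntegral.component_integral W
  obtain ⟨ι₀, hι₀⟩ := Spec.map_surjective (j ≫ f)
  letI : Algebra k B := ι₀.hom.toAlgebra
  haveI : Algebra.Smooth k B := by
    have h1 : Smooth (Spec.map ι₀) := by rw [hι₀]; infer_instance
    exact (HasRingHomProperty.Spec_iff (P := @Smooth)).1 h1
  haveI : Algebra.FiniteType k B := inferInstance
  -- the point in the chart
  have hAr : Set.range A.1 ⊆ Set.range j := by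
    rintro _ ⟨q, rfl⟩
    haveI : Subsingleton ↥(Spec (CommRingCat.of K)) := inferInstanceAs (Subsingleton (PrimeSpectrum K))
    rw [hjr, Subsingleton.elim q pK]
    exact hxW
  obtain ⟨α₀, hα₀⟩ := Spec.map_surjective (IsOpenImmersion.lift j A.1 hAr)
  have hα₀' : Spec.map α₀ ≫ j = A.1 := by rw [hα₀]; exact IsOpenImmersion.lift_fac _ _ _
  have hαk : ι₀ ≫ α₀ = CommRingCat.ofHom (algebraMap k K) := Spec.map_injective (by
    rw [Spec.map_comp, hι₀, ← Category.assoc, hα₀']
    exact A.2)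
  let α : B →ₐ[k] K := { α₀.hom with commutes' := fun r => congr(($hαk).hom r) }
  -- a good function
  obtain ⟨x₀, hx₀⟩ : ((j ⁻¹ᵁ (U ⊓ U')) : Set ↥(Spec B)).Nonempty := by
    obtain ⟨z, ⟨hzU, hzU'⟩, hzW⟩ :=
      nonempty_preirreducible_inter ((U ⊓ U').2) W.2 (nonempty_preirreducible_inter U.2 U'.2 hU hU') ⟨_, hxW⟩
    obtain ⟨z, rfl⟩ : z ∈ Set.range j := hjr.symm ▸ hzW
    exact ⟨z, hzU, hzU'⟩
  obtain ⟨_, ⟨g, rfl⟩, hxg, hgU⟩ :=
    PrimeSpectrum.isTopologicalBasis_basic_opens.exists_subset_of_mem_open hx₀ (j ⁻¹ᵁ (U ⊓ U')).2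
  have hg : g ≠ 0 := fun h => hxg (by rw [h]; exact Ideal.zero_mem _)
  -- points at which `g` is invertible
  have mk_mem : ∀ (S : Type u) [CommRing S] (χ : B →+* S), IsUnit (χ g) →
      Set.range (Spec.map (CommRingCat.ofHom χ) ≫ j) ⊆ ((U ⊓ U' : X.Opens) : Set X) := by
    intro S _ χ hχ
    rintro _ ⟨q, rfl⟩
    refine hgU ?_
    show g ∉ Ideal.comap χ (show PrimeSpectrum S from q).asIdeal
    rw [Ideal.mem_comap]
    exact fun hc => (show PrimeSpectrum S from q).2.ne_top (Ideal.eq_top_of_isUnit_mem _ hc hχ)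
  by_cases hgα : α g = 0
  swap
  · refine ⟨A, ?_, Relation.EqvGen.refl A⟩
    show Set.range A.1 ⊆ _
    rw [← hα₀']
    exact (mk_mem K α₀.hom (IsUnit.mk0 _ hgα)).trans Set.inter_subset_right
  obtain ⟨D, _, _, _, _, _, _, ρ, ψ, hψ, hψg⟩ := exists_arc k K B α g hg hgα
  let F := FractionRing D
  let ψF : B →ₐ[k] F := (IsScalarTower.toAlgHom k D F).comp ψ
  have hψFg : IsUnit (ψF g) := IsUnit.mk0 _ ((map_ne_zero_iff _ (IsFractionRing.injective D F)).2 hψg)
  let ξ : Spec (CommRingCat.of F) ⟶ X := Spec.map (CommRingCat.ofHom ψF.toRingHom) ≫ j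
  let ξU : Spec (CommRingCat.of F) ⟶ (U : Scheme.{u}) := IsOpenImmersion.lift U.ι ξ (by
    rw [Scheme.Opens.range_ι]
    exact (mk_mem F ψF.toRingHom hψFg).trans Set.inter_subset_left)
  have hξU : ξU ≫ U.ι = ξ := IsOpenImmersion.lift_fac _ _ _
  obtain ⟨χ, hχ⟩ := Spec.map_surjective (ξU ≫ a ≫ V.ι)
  have hξf : ξ ≫ f = Spec.map (CommRingCat.ofHom (algebraMap k F)) := by
    rw [Category.assoc, ← hι₀, ← Spec.map_comp]
    congr 1
    exact CommRingCat.hom_ext ψF.comp_algebraMap
  have hχk : CommRingCat.ofHom (algebraMap k (MvPolynomial (Fin n) k)) ≫ χ = CommRingCat.ofHom (algebraMap k F) :=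
    Spec.map_injective (by
      rw [Spec.map_comp, hχ, Category.assoc, Category.assoc, ← hξf, ← hξU, Category.assoc]
      rw [← ha])
  let v : Fin n → F := fun i => χ.hom (MvPolynomial.X i)
  have hχv : χ.hom = (MvPolynomial.aeval v).toRingHom := MvPolynomial.ringHom_ext
    (fun r => by
      have := congr(($hχk).hom r)
      simpa [MvPolynomial.algebraMap_eq] using this)
    (fun i => by simp [v])
  obtain ⟨pF⟩ : Nonempty ↥(Spec (CommRingCat.of F)) := inferInstanceAs (Nonempty (PrimeSpectrum F))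
  let O : (Spec (CommRingCat.of (MvPolynomial (Fin n) k))).Opens :=
    V.ι ''ᵁ (b ⁻¹ᵁ (U.ι ⁻¹ᵁ (j ''ᵁ (PrimeSpectrum.basicOpen g : (Spec B).Opens))))
  have hξO : (Spec.map χ) pF ∈ O := by
    rw [hχ]
    refine ⟨a (ξU pF), ?_, rfl⟩
    show U.ι (b (a (ξU pF))) ∈ j ''ᵁ _
    have : b (a (ξU pF)) = ξU pF := by
      show (a ≫ b) (ξU pF) = _
      rw [hab]
      rfl
    rw [this]
    show (ξU ≫ U.ι) pF ∈ _
    rw [hξU]
    refine ⟨Spec.map (CommRingCat.ofHom ψF.toRingHom) pF, ?_, rfl⟩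
    show g ∉ Ideal.comap ψF.toRingHom (show PrimeSpectrum F from pF).asIdeal
    rw [Ideal.mem_comap]
    exact fun hc => (show PrimeSpectrum F from pF).2.ne_top (Ideal.eq_top_of_isUnit_mem _ hc hψFg)
  obtain ⟨_, ⟨h, rfl⟩, hxh, hhO⟩ :=
    PrimeSpectrum.isTopologicalBasis_basic_opens.exists_subset_of_mem_open hξO O.2
  have hv : MvPolynomial.aeval v h ≠ 0 := by
    intro h0
    apply hxh
    show h ∈ Ideal.comap χ.hom (show PrimeSpectrum F from pF).asIdeal
    rw [Ideal.mem_comap, hχv]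
    show MvPolynomial.aeval v h ∈ _
    rw [h0]
    exact Ideal.zero_mem _
  let l : Spec (CommRingCat.of (Localization.Away h)) ⟶ Spec (CommRingCat.of (MvPolynomial (Fin n) k)) :=
    Spec.map (CommRingCat.ofHom (algebraMap (MvPolynomial (Fin n) k) (Localization.Away h)))
  have hlr : Set.range l ⊆ (O : Set ↥(Spec (CommRingCat.of (MvPolynomial (Fin n) k)))) := by
    rintro _ ⟨q, rfl⟩
    refine hhO ?_
    show h ∉ Ideal.comap (algebraMap _ _) (show PrimeSpectrum (Localization.Away h) from q).asIdeal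
    rw [Ideal.mem_comap]
    exact fun hc => (show PrimeSpectrum (Localization.Away h) from q).2.ne_top
      (Ideal.eq_top_of_isUnit_mem _ hc (IsLocalization.Away.algebraMap_isUnit h))
  let lV : Spec (CommRingCat.of (Localization.Away h)) ⟶ (V : Scheme.{u}) := IsOpenImmersion.lift V.ι l (by
    rw [Scheme.Opens.range_ι]
    refine hlr.trans ?_
    rintro _ ⟨z, -, rfl⟩
    exact z.2)
  have hlV : lV ≫ V.ι = l := IsOpenImmersion.lift_fac _ _ _
  have hmem : ∀ q, (lV ≫ b ≫ U.ι) q ∈ j '' (PrimeSpectrum.basicOpen g : Set (PrimeSpectrum B)) := by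
    intro q
    obtain ⟨z, hz, hz'⟩ := hlr ⟨q, rfl⟩
    have : lV q = z := V.ι.isOpenEmbedding.injective (by
      show (lV ≫ V.ι) q = _
      rw [hlV]
      exact hz'.symm)
    show U.ι (b (lV q)) ∈ _
    rw [this]
    exact hz
  have hr₂ : Set.range (lV ≫ b ≫ U.ι) ⊆ Set.range j := by
    rintro _ ⟨q, rfl⟩
    exact Set.image_subset_range _ _ (hmem q)
  obtain ⟨β₀, hβ₀⟩ := Spec.map_surjective (IsOpenImmersion.lift j (lV ≫ b ≫ U.ι) hr₂)
  have hβ₀' : Spec.map β₀ ≫ j = lV ≫ b ≫ U.ι := by rw [hβ₀]; exact IsOpenImmersion.lift_fac _ _ _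
  have hβk : ι₀ ≫ β₀ = CommRingCat.ofHom (algebraMap k (Localization.Away h)) := Spec.map_injective (by
    rw [Spec.map_comp, hι₀, ← Category.assoc, hβ₀', Category.assoc, Category.assoc, hb, reassoc_of% hlV,
      ← Spec.map_comp, ← CommRingCat.ofHom_comp, ← IsScalarTower.algebraMap_eq])
  let β : B →ₐ[k] Localization.Away h := { β₀.hom with commutes' := fun r => congr(($hβk).hom r) }
  have hβg : IsUnit (β g) := by
    by_contra hnu
    obtain ⟨M, hM, hgM⟩ := exists_max_ideal_of_mem_nonunits hnu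
    obtain ⟨z, hz, hz'⟩ := hmem ⟨M, hM.isPrime⟩
    rw [← hβ₀'] at hz'
    obtain rfl := j.isOpenEmbedding.injective hz'
    exact hz hgM
  have hβv : ∀ y, IsLocalization.Away.lift h (g := (MvPolynomial.aeval v).toRingHom) (IsUnit.mk0 _ hv) (β y) =
      algebraMap D F (ψ y) := by
    let L : Localization.Away h →+* F :=
      IsLocalization.Away.lift h (g := (MvPolynomial.aeval v).toRingHom) (IsUnit.mk0 _ hv)
    have e₁ : Spec.map (CommRingCat.ofHom L) ≫ lV = ξU ≫ a := by
      rw [← cancel_mono V.ι, Category.assoc, Category.assoc, hlV, ← hχ, ← Spec.map_comp, ← CommRingCat.ofHom_comp,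
        IsLocalization.Away.lift_comp, ← hχv, CommRingCat.ofHom_hom]
    have e₂ : β₀ ≫ CommRingCat.ofHom L = CommRingCat.ofHom ψF.toRingHom := Spec.map_injective (by
      rw [← cancel_mono j, Spec.map_comp, Category.assoc, hβ₀', reassoc_of% e₁, reassoc_of% hab]
      exact hξU)
    exact fun y => congr(($e₂).hom y)
  obtain ⟨den, φ, e₀, e, he₀, heg⟩ :=
    RegCurve.exists_rational_curve k K B D F α ρ ψ hψ g n h β hβg v hv hβv
  -- the curve in the projective line
  obtain ⟨p1, hp1, hp1s⟩ := REqLib17.exists_affineLine K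
  haveI := hp1
  let S := Localization.Away den
  let l' : Spec (CommRingCat.of S) ⟶ Spec (CommRingCat.of (Polynomial K)) :=
    Spec.map (CommRingCat.ofHom (algebraMap (Polynomial K) S))
  haveI : IsOpenImmersion l' := IsOpenImmersion.of_isLocalization (R := Polynomial K) den
  let ι' : Spec (CommRingCat.of S) ⟶ REq.P1K K := l' ≫ p1
  let U₁ := ι'.opensRange
  let θ : Spec (CommRingCat.of S) ≅ (U₁ : Scheme.{u}) := ι'.isoOpensRange
  have hθ : θ.hom ≫ U₁.ι = ι' := Scheme.Hom.isoOpensRange_hom_ι _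
  have hι'K : ι' ≫ REq.P1K.toSpec K = Spec.map (CommRingCat.ofHom (algebraMap K S)) := by
    rw [Category.assoc, hp1s, ← Spec.map_comp, ← CommRingCat.ofHom_comp, IsScalarTower.algebraMap_eq K (Polynomial K) S]
    rfl
  let c : Spec (CommRingCat.of S) ⟶ X := Spec.map (CommRingCat.ofHom φ.toRingHom) ≫ j
  have hc : ∀ ε : S →ₐ[K] K, Spec.map (CommRingCat.ofHom ε.toRingHom) ≫ c =
      Spec.map (CommRingCat.ofHom ((ε.restrictScalars k).comp φ).toRingHom) ≫ j := fun ε => by
    rw [← Category.assoc, ← Spec.map_comp, ← CommRingCat.ofHom_comp]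
    rfl
  have hsec : ∀ ε : S →ₐ[K] K,
      (Spec.map (CommRingCat.ofHom ε.toRingHom) ≫ θ.hom) ≫ U₁.ι ≫ REq.P1K.toSpec K = 𝟙 _ := fun ε => by
    rw [Category.assoc, reassoc_of% hθ, hι'K, ← Spec.map_comp, ← CommRingCat.ofHom_comp, ← Spec.map_id]
    congr 1
    exact CommRingCat.hom_ext ε.comp_algebraMap
  have hA' : Spec.map (CommRingCat.ofHom ((e.restrictScalars k).comp φ).toRingHom) ≫ j ≫ f = REq.specMap k K := by
    rw [← hι₀, ← Spec.map_comp]
    congr 1
    exact CommRingCat.hom_ext ((e.restrictScalars k).comp φ).comp_algebraMap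
  refine ⟨⟨Spec.map (CommRingCat.ofHom ((e.restrictScalars k).comp φ).toRingHom) ≫ j,
      by rw [Category.assoc]; exact hA'⟩, ?_, Relation.EqvGen.rel _ _ ?_⟩
  · exact (mk_mem K ((e.restrictScalars k).comp φ).toRingHom (IsUnit.mk0 _ heg)).trans Set.inter_subset_right
  refine ⟨U₁, θ.inv ≫ c, Spec.map (CommRingCat.ofHom e₀.toRingHom) ≫ θ.hom,
    Spec.map (CommRingCat.ofHom e.toRingHom) ≫ θ.hom, ?_, hsec e₀, hsec e, ?_, ?_⟩
  · rw [← cancel_epi θ.hom]
    simp only [Category.assoc, θ.hom_inv_id_assoc]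
    rw [reassoc_of% hθ, reassoc_of% hι'K]
    show Spec.map _ ≫ j ≫ f = Spec.map _ ≫ Spec.map _
    rw [← hι₀, ← Spec.map_comp, ← Spec.map_comp]
    congr 1
    refine CommRingCat.hom_ext (φ.comp_algebraMap.trans ?_)
    exact IsScalarTower.algebraMap_eq k K S
  · rw [Category.assoc, θ.hom_inv_id_assoc, hc, ← hα₀']
    congr 2
    exact CommRingCat.hom_ext (RingHom.ext he₀)
  · rw [Category.assoc, θ.hom_inv_id_assoc, hc]

end Groth.Agent.CommAlg4.RetractMove
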