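import Mathlib
import Groth.Agent.DCat.LeftRes

/-! Resolutions of short exact sequences of bounded complexes. -/
set_option autoImplicit false
set_option linter.style.haveILetI false
universe w v u
open CategoryTheory CategoryTheory.Limits

namespace Groth.Agent.CommAlg4.SESResol

variable {A : Type u} [Category.{v} A] [Abelian A]

attribute [local instance] Abelian.hasBinaryBiproducts

section Ext

variable (I J : CochainComplex A ℤ) (τ : ∀ n, J.X n ⟶ I.X (n + 1))
  (hτ : ∀ n, τ n ≫ I.d (n + 1) (n + 1 + 1) + J.d n (n + 1) ≫ τ (n + 1) = 0)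

/-- The differential of a termwise split extension. -/
noncomputable def extD (n : ℤ) : I.X n ⊞ J.X n ⟶ I.X (n + 1) ⊞ J.X (n + 1) :=
  biprod.lift (biprod.fst ≫ I.d n (n + 1) + biprod.snd ≫ τ n) (biprod.snd ≫ J.d n (n + 1))

/-- A termwise split extension of complexes. -/
noncomputable def ext' : CochainComplex A ℤ :=
  CochainComplex.of (fun n => I.X n ⊞ J.X n) (extD I J τ) (fun n => by
    apply biprod.hom_ext
    · simp only [extD, Category.assoc, biprod.lift_fst, zero_comp, Preadditive.comp_add, biprod.lift_fst_assoc,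
        biprod.lift_snd_assoc, Preadditive.add_comp, HomologicalComplex.d_comp_d, comp_zero, zero_add]
      rw [← Preadditive.comp_add, hτ n, comp_zero]
    · simp [extD])

theorem ext'_d (n : ℤ) : (ext' I J τ hτ).d n (n + 1) = extD I J τ n :=
  (CochainComplex.of_d (fun n => I.X n ⊞ J.X n) (extD I J τ) n :)

/-- The inclusion into the extension. -/
noncomputable def inclExt : I ⟶ ext' I J τ hτ where
  f n := biprod.inl
  comm' := by
    rintro i _ rfl
    rw [ext'_d]
    show biprod.inl ≫ extD I J τ i = I.d i (i + 1) ≫ biprod.inl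
    apply biprod.hom_ext <;> simp [extD]

/-- The projection from the extension. -/
noncomputable def projExt : ext' I J τ hτ ⟶ J where
  f n := biprod.snd
  comm' := by
    rintro i _ rfl
    rw [ext'_d]
    show biprod.snd ≫ J.d i (i + 1) = extD I J τ i ≫ biprod.snd
    simp [extD]

/-- The short complex of the extension. -/
noncomputable def extSC : ShortComplex (CochainComplex A ℤ) :=
  ShortComplex.mk (inclExt I J τ hτ) (projExt I J τ hτ) (by ext n; exact biprod.inl_snd)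

theorem extSC_shortExact : (extSC I J τ hτ).ShortExact := by
  refine HomologicalComplex.shortExact_of_degreewise_shortExact _ fun n => ?_
  exact (ShortComplex.Splitting.ofHasBinaryBiproduct (I.X n) (J.X n)).shortExact

theorem ext'_isStrictlyGE (a : ℤ) [I.IsStrictlyGE a] [J.IsStrictlyGE a] :
    CochainComplex.IsStrictlyGE (ext' I J τ hτ) a := by
  refine (CochainComplex.isStrictlyGE_iff _ _).2 fun n hn => ?_
  show IsZero (I.X n ⊞ J.X n)
  exact (IsZero.iff_id_eq_zero _).2 (biprod.hom_ext _ _ ((I.isZero_of_isStrictlyGE a n hn).eq_of_tgt _ _)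
    ((J.isZero_of_isStrictlyGE a n hn).eq_of_tgt _ _))

theorem ext'_isStrictlyLE (a : ℤ) [I.IsStrictlyLE a] [J.IsStrictlyLE a] :
    CochainComplex.IsStrictlyLE (ext' I J τ hτ) a := by
  refine (CochainComplex.isStrictlyLE_iff _ _).2 fun n hn => ?_
  show IsZero (I.X n ⊞ J.X n)
  exact (IsZero.iff_id_eq_zero _).2 (biprod.hom_ext _ _ ((I.isZero_of_isStrictlyLE a n hn).eq_of_tgt _ _)
    ((J.isZero_of_isStrictlyLE a n hn).eq_of_tgt _ _))

end Ext

theorem quasiIso_τ₂ {S₁ S₂ : ShortComplex (CochainComplex A ℤ)} (φ : S₁ ⟶ S₂) (hS₁ : S₁.ShortExact)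
    (hS₂ : S₂.ShortExact) (h₁ : QuasiIso φ.τ₁) (h₃ : QuasiIso φ.τ₃) : QuasiIso φ.τ₂ := by
  rw [quasiIso_iff]
  intro i
  rw [quasiIsoAt_iff_isIso_homologyMap]
  have hij : (ComplexShape.up ℤ).Rel (i - 1) i := by simp
  have hij' : (ComplexShape.up ℤ).Rel i (i + 1) := rfl
  have : Mono (HomologicalComplex.homologyMap φ.τ₂ i) := by
    apply Abelian.mono_of_epi_of_mono_of_mono
      ((ComposableArrows.δ₀Functor ⋙ ComposableArrows.δ₀Functor).map
        (HomologicalComplex.HomologySequence.mapComposableArrows₅ φ hS₁ hS₂ (i - 1) i hij))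
    · exact (HomologicalComplex.HomologySequence.composableArrows₅_exact hS₁ (i - 1) i hij).δ₀.δ₀
    · exact (HomologicalComplex.HomologySequence.composableArrows₅_exact hS₂ (i - 1) i hij).δ₀.δ₀
    · exact inferInstanceAs (Epi (HomologicalComplex.homologyMap φ.τ₃ (i - 1)))
    · exact inferInstanceAs (Mono (HomologicalComplex.homologyMap φ.τ₁ i))
    · exact inferInstanceAs (Mono (HomologicalComplex.homologyMap φ.τ₃ i))
  have : Epi (HomologicalComplex.homologyMap φ.τ₂ i) := by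
    apply Abelian.epi_of_epi_of_epi_of_mono
      ((ComposableArrows.δlastFunctor ⋙ ComposableArrows.δlastFunctor).map
        (HomologicalComplex.HomologySequence.mapComposableArrows₅ φ hS₁ hS₂ i (i + 1) hij'))
    · exact (HomologicalComplex.HomologySequence.composableArrows₅_exact hS₁ i (i + 1) hij').δlast.δlast
    · exact (HomologicalComplex.HomologySequence.composableArrows₅_exact hS₂ i (i + 1) hij').δlast.δlast
    · exact inferInstanceAs (Epi (HomologicalComplex.homologyMap φ.τ₁ i))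
    · exact inferInstanceAs (Epi (HomologicalComplex.homologyMap φ.τ₃ i))
    · exact inferInstanceAs (Mono (HomologicalComplex.homologyMap φ.τ₁ (i + 1)))
  exact isIso_of_mono_of_epi _

theorem exists_factor_kInjective {X Y L : CochainComplex A ℤ} [L.IsKInjective] (c : X ⟶ Y) [QuasiIso c]
    (f : X ⟶ L) : ∃ g : Y ⟶ L, Nonempty (Homotopy (c ≫ g) f) := by
  letI := HasDerivedCategory.standard A
  let Q := HomotopyCategory.quotient A (ComplexShape.up ℤ)
  haveI : IsIso (DerivedCategory.Qh.map (Q.map c)) :=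
    (DerivedCategory.isIso_Qh_map_iff _).2 (HomotopyCategory.quotient_map_mem_quasiIso_iff c |>.2
      (by rw [HomologicalComplex.mem_quasiIso_iff]; infer_instance))
  obtain ⟨γ, hγ⟩ := (CochainComplex.IsKInjective.Qh_map_bijective (Q.obj Y) L).surjective
    (inv (DerivedCategory.Qh.map (Q.map c)) ≫ DerivedCategory.Qh.map (Q.map f))
  have h : Q.map c ≫ γ = Q.map f := by
    apply (CochainComplex.IsKInjective.Qh_map_bijective (Q.obj X) L).injective
    rw [Functor.map_comp, hγ, IsIso.hom_inv_id_assoc]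
  obtain ⟨g, rfl⟩ := Q.map_surjective γ
  exact ⟨g, ⟨HomotopyCategory.homotopyOfEq _ _ ((Q.map_comp c g).trans h)⟩⟩

theorem exists_factor_kProjective {X Y L : CochainComplex A ℤ} [L.IsKProjective] (c : X ⟶ Y) [QuasiIso c]
    (f : L ⟶ Y) : ∃ g : L ⟶ X, Nonempty (Homotopy (g ≫ c) f) := by
  letI := HasDerivedCategory.standard A
  let Q := HomotopyCategory.quotient A (ComplexShape.up ℤ)
  haveI : IsIso (DerivedCategory.Qh.map (Q.map c)) :=
    (DerivedCategory.isIso_Qh_map_iff _).2 (HomotopyCategory.quotient_map_mem_quasiIso_iff c |>.2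
      (by rw [HomologicalComplex.mem_quasiIso_iff]; infer_instance))
  obtain ⟨γ, hγ⟩ := (CochainComplex.IsKProjective.Qh_map_bijective L (Q.obj X)).surjective
    (DerivedCategory.Qh.map (Q.map f) ≫ inv (DerivedCategory.Qh.map (Q.map c)))
  have h : γ ≫ Q.map c = Q.map f := by
    apply (CochainComplex.IsKProjective.Qh_map_bijective L (Q.obj Y)).injective
    rw [Functor.map_comp, hγ, Category.assoc, IsIso.inv_hom_id, Category.comp_id]
  obtain ⟨g, rfl⟩ := Q.map_surjective γ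
  exact ⟨g, ⟨HomotopyCategory.homotopyOfEq _ _ ((Q.map_comp g c).trans h)⟩⟩

/-- The degreewise meaning of a homotopy between maps into a shifted complex. -/
theorem shift_homotopy_eq {X I : CochainComplex A ℤ} (u v : X ⟶ I⟦(1 : ℤ)⟧) (h : Homotopy u v) (i : ℤ)
    (u' v' : X.X i ⟶ I.X (i + 1)) (w : X.X (i + 1) ⟶ I.X (i + 1)) (z : X.X i ⟶ I.X (i - 1 + 1))
    (hu : u.f i = u') (hv : v.f i = v') (hw : h.hom (i + 1) i = w) (hz : h.hom i (i - 1) = z) :
    u' = v' + X.d i (i + 1) ≫ w - (z ≫ (I.XIsoOfEq (sub_add_cancel i 1)).hom) ≫ I.d i (i + 1) := by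
  subst hw hz
  subst hu hv
  have h1 := h.comm i
  rw [dNext_eq _ (show (ComplexShape.up ℤ).Rel i (i + 1) from rfl),
    prevD_eq _ (show (ComplexShape.up ℤ).Rel (i - 1) i by simp)] at h1
  refine h1.trans ?_
  have key : ∀ (x y : X.X i ⟶ I.X (i + 1)) (z : X.X i ⟶ I.X (i - 1 + 1)),
      y + z ≫ ((1 : ℤ).negOnePow • I.d (i - 1 + 1) (i + 1)) + x =
      x + y - (z ≫ (I.XIsoOfEq (sub_add_cancel i 1)).hom) ≫ I.d i (i + 1) := by
    intro x y z
    rw [Int.negOnePow_one, Units.neg_smul, one_smul, Preadditive.comp_neg, Category.assoc,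
      HomologicalComplex.XIsoOfEq_hom_comp_d]
    abel
  exact key _ _ _

theorem exists_injective_resolution [EnoughInjectives A] (S : ShortComplex (CochainComplex A ℤ)) (hS : S.ShortExact)
    (n : ℤ) [S.X₁.IsStrictlyGE n] [S.X₂.IsStrictlyGE n] [S.X₃.IsStrictlyGE n] :
    ∃ (T : ShortComplex (CochainComplex A ℤ)) (φ : S ⟶ T), T.ShortExact ∧
      T.X₁.IsStrictlyGE n ∧ T.X₂.IsStrictlyGE n ∧ T.X₃.IsStrictlyGE n ∧
      (∀ k : ℤ, Injective (T.X₁.X k) ∧ Injective (T.X₂.X k) ∧ Injective (T.X₃.X k)) ∧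
      QuasiIso φ.τ₁ ∧ QuasiIso φ.τ₂ ∧ QuasiIso φ.τ₃ := by
  obtain ⟨I, i1, hi1, hI, hIge⟩ := CochainComplex.Plus.modelCategoryQuillen.exists_quasiIso_injective S.X₁ n
  obtain ⟨J, c, hc, hJ, hJge⟩ := CochainComplex.Plus.modelCategoryQuillen.exists_quasiIso_injective S.X₃ n
  have hk : ∀ k, (S.map (HomologicalComplex.eval A (ComplexShape.up ℤ) k)).ShortExact := fun k =>
    hS.map_of_exact _
  haveI hfm : ∀ k, Mono (S.f.f k) := fun k => (hk k).mono_f
  haveI hge : ∀ k, Epi (S.g.f k) := fun k => (hk k).epi_g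
  let r : ∀ k, S.X₂.X k ⟶ I.X k := fun k => Injective.factorThru (i1.f k) (S.f.f k)
  have hr : ∀ k, S.f.f k ≫ r k = i1.f k := fun k => Injective.comp_factorThru _ _
  have hker : ∀ k, S.f.f k ≫ (S.X₂.d k (k + 1) ≫ r (k + 1) - r k ≫ I.d k (k + 1)) = 0 := fun k => by
    rw [Preadditive.comp_sub, S.f.comm_assoc, hr, reassoc_of% hr k, i1.comm, sub_self]
  haveI : ∀ k, Epi (S.map (HomologicalComplex.eval A (ComplexShape.up ℤ) k)).g := fun k => (hk k).epi_g
  choose t ht using fun k => (⟨_, ((hk k).exact.gIsCokernel).fac (CokernelCofork.ofπ _ (hker k))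
    WalkingParallelPair.one⟩ : ∃ t : S.X₃.X k ⟶ I.X (k + 1),
      S.g.f k ≫ t = S.X₂.d k (k + 1) ≫ r (k + 1) - r k ≫ I.d k (k + 1))
  have htc : ∀ k, t k ≫ ((1 : ℤ).negOnePow • I.d (k + 1) (k + 1 + 1)) = S.X₃.d k (k + 1) ≫ t (k + 1) := fun k => by
    rw [← cancel_epi (S.g.f k), ← Category.assoc, ht, Int.negOnePow_one, Units.neg_smul, one_smul,
      S.g.comm_assoc, ht, Preadditive.comp_neg, Preadditive.sub_comp, Category.assoc, Category.assoc,
      I.d_comp_d, comp_zero, sub_zero, Preadditive.comp_sub, S.X₂.d_comp_d_assoc, zero_comp, zero_sub]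
  let σ : S.X₃ ⟶ I⟦(1 : ℤ)⟧ :=
    { f := t
      comm' := by rintro k _ rfl; exact htc k }
  haveI : ∀ k : ℤ, Injective (I.X k) := hI
  haveI : I.IsKInjective := CochainComplex.isKInjective_of_injective I n
  obtain ⟨g, ⟨h⟩⟩ := exists_factor_kInjective c σ
  let τ : ∀ k, J.X k ⟶ I.X (k + 1) := fun k => g.f k
  have hτ : ∀ k, τ k ≫ I.d (k + 1) (k + 1 + 1) + J.d k (k + 1) ≫ τ (k + 1) = 0 := by
    intro k
    have h1 : τ k ≫ ((1 : ℤ).negOnePow • I.d (k + 1) (k + 1 + 1)) = J.d k (k + 1) ≫ τ (k + 1) := g.comm k (k + 1)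
    rw [← h1, Int.negOnePow_one, Units.neg_smul, one_smul, Preadditive.comp_neg, add_neg_cancel]
  let H : ∀ k, S.X₃.X k ⟶ I.X k := fun k =>
    (h.hom k (k - 1) : S.X₃.X k ⟶ I.X (k - 1 + 1)) ≫ (I.XIsoOfEq (sub_add_cancel k 1)).hom
  have hH : ∀ k, (h.hom (k + 1) k : S.X₃.X (k + 1) ⟶ I.X (k + 1)) = H (k + 1) := fun k => by
    have gen : ∀ (m : ℤ) (e : m = k) (e' : m + 1 = k + 1),
        (h.hom (k + 1) m : S.X₃.X (k + 1) ⟶ I.X (m + 1)) ≫ (I.XIsoOfEq e').hom = h.hom (k + 1) k := by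
      rintro m rfl e'
      exact (Category.comp_id _)
    exact (gen (k + 1 - 1) (by omega) _).symm
  have hcτ : ∀ k, c.f k ≫ τ k = t k + S.X₃.d k (k + 1) ≫ H (k + 1) - H k ≫ I.d k (k + 1) := fun k => by
    rw [← hH]
    exact shift_homotopy_eq (c ≫ g) σ h k _ _ _ _ rfl rfl rfl rfl
  let b : S.X₂ ⟶ ext' I J τ hτ :=
    { f := fun k => biprod.lift (r k + S.g.f k ≫ H k) (S.g.f k ≫ c.f k)
      comm' := by
        rintro k _ rfl
        rw [ext'_d]
        show biprod.lift (r k + S.g.f k ≫ H k) (S.g.f k ≫ c.f k) ≫ extD I J τ k =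
          S.X₂.d k (k + 1) ≫ biprod.lift (r (k + 1) + S.g.f (k + 1) ≫ H (k + 1)) (S.g.f (k + 1) ≫ c.f (k + 1))
        apply biprod.hom_ext
        · simp only [extD, Category.assoc, biprod.lift_fst, Preadditive.comp_add, biprod.lift_fst_assoc,
            biprod.lift_snd_assoc, Preadditive.add_comp]
          rw [← S.g.comm_assoc, hcτ, Preadditive.comp_sub, Preadditive.comp_add, ht]
          abel
        · simp only [extD, Category.assoc, biprod.lift_snd, biprod.lift_snd_assoc]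
          rw [← S.g.comm_assoc, c.comm] }
  have w1 : i1 ≫ inclExt I J τ hτ = S.f ≫ b := by
    ext k
    show i1.f k ≫ biprod.inl = S.f.f k ≫ biprod.lift (r k + S.g.f k ≫ H k) (S.g.f k ≫ c.f k)
    have hz : S.f.f k ≫ S.g.f k = 0 := by rw [← HomologicalComplex.comp_f, S.zero]; rfl
    apply biprod.hom_ext
    · simp [hr, reassoc_of% hz]
    · simp [reassoc_of% hz]
  have w2 : b ≫ projExt I J τ hτ = S.g ≫ c := by
    ext k
    exact biprod.lift_snd _ _
  let φ : S ⟶ extSC I J τ hτ := { τ₁ := i1, τ₂ := b, τ₃ := c, comm₁₂ := w1, comm₂₃ := w2 }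
  haveI := hIge
  haveI := hJge
  refine ⟨extSC I J τ hτ, φ, extSC_shortExact I J τ hτ, hIge, ext'_isStrictlyGE I J τ hτ n, hJge,
    fun k => ⟨hI k, ?_, hJ k⟩, hi1, quasiIso_τ₂ φ hS (extSC_shortExact I J τ hτ) hi1 hc, hc⟩
  haveI := hI k
  haveI := hJ k
  exact inferInstanceAs (Injective (I.X k ⊞ J.X k))

theorem exists_projective_resolution [EnoughProjectives A] (S : ShortComplex (CochainComplex A ℤ)) (hS : S.ShortExact)
    (n : ℤ) [S.X₁.IsStrictlyLE n] [S.X₂.IsStrictlyLE n] [S.X₃.IsStrictlyLE n] :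
    ∃ (T : ShortComplex (CochainComplex A ℤ)) (φ : T ⟶ S), T.ShortExact ∧
      T.X₁.IsStrictlyLE n ∧ T.X₂.IsStrictlyLE n ∧ T.X₃.IsStrictlyLE n ∧
      (∀ k : ℤ, Projective (T.X₁.X k) ∧ Projective (T.X₂.X k) ∧ Projective (T.X₃.X k)) ∧
      QuasiIso φ.τ₁ ∧ QuasiIso φ.τ₂ ∧ QuasiIso φ.τ₃ := by
  have hcover : ∀ X : A, ∃ (Y : A) (π : Y ⟶ X), Projective Y ∧ Epi π := fun X =>
    ⟨Projective.over X, Projective.π X, inferInstance, inferInstance⟩
  have hz : ∃ Z : A, IsZero Z ∧ Projective Z := by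
    obtain ⟨Z, hZ⟩ := HasZeroObject.zero (C := A)
    exact ⟨Z, hZ, ⟨fun f _ _ => ⟨0, hZ.eq_of_src _ _⟩⟩⟩
  obtain ⟨I, i1, hIle, hI, -, hi1⟩ := Groth.Agent.DCat.LeftRes.exists_resolution (fun X : A => Projective X) hz hcover S.X₁ n
  obtain ⟨J, c, hJle, hJ, -, hc⟩ := Groth.Agent.DCat.LeftRes.exists_resolution (fun X : A => Projective X) hz hcover S.X₃ n
  have hk : ∀ k, (S.map (HomologicalComplex.eval A (ComplexShape.up ℤ) k)).ShortExact := fun k =>
    hS.map_of_exact _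
  haveI hfm : ∀ k, Mono (S.f.f k) := fun k => (hk k).mono_f
  haveI hge : ∀ k, Epi (S.g.f k) := fun k => (hk k).epi_g
  haveI : ∀ k : ℤ, Projective (J.X k) := hJ
  let s : ∀ k, J.X k ⟶ S.X₂.X k := fun k => Projective.factorThru (c.f k) (S.g.f k)
  have hs : ∀ k, s k ≫ S.g.f k = c.f k := fun k => Projective.factorThru_comp _ _
  have hker : ∀ k, (s k ≫ S.X₂.d k (k + 1) - J.d k (k + 1) ≫ s (k + 1)) ≫ S.g.f (k + 1) = 0 := fun k => by
    rw [Preadditive.sub_comp, Category.assoc, Category.assoc, ← S.g.comm, hs, reassoc_of% hs k, c.comm, sub_self]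
  haveI : ∀ k, Mono (S.map (HomologicalComplex.eval A (ComplexShape.up ℤ) k)).f := fun k => (hk k).mono_f
  choose t ht using fun k => (⟨_, ((hk (k + 1)).exact.fIsKernel).fac (KernelFork.ofι _ (hker k))
    WalkingParallelPair.zero⟩ : ∃ t : J.X k ⟶ S.X₁.X (k + 1),
      t ≫ S.f.f (k + 1) = s k ≫ S.X₂.d k (k + 1) - J.d k (k + 1) ≫ s (k + 1))
  have htc : ∀ k, t k ≫ ((1 : ℤ).negOnePow • S.X₁.d (k + 1) (k + 1 + 1)) = J.d k (k + 1) ≫ t (k + 1) := fun k => by
    rw [← cancel_mono (S.f.f (k + 1 + 1)), Int.negOnePow_one, Units.neg_smul, one_smul, Preadditive.comp_neg,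
      Preadditive.neg_comp, Category.assoc, Category.assoc, ← S.f.comm, ht, reassoc_of% ht k, Preadditive.comp_sub,
      J.d_comp_d_assoc, zero_comp, sub_zero, Preadditive.sub_comp, Category.assoc, Category.assoc, S.X₂.d_comp_d,
      comp_zero, zero_sub, neg_neg]
  let σ : J ⟶ S.X₁⟦(1 : ℤ)⟧ :=
    { f := t
      comm' := by rintro k _ rfl; exact htc k }
  haveI : J.IsKProjective := CochainComplex.isKProjective_of_projective J n
  obtain ⟨g, ⟨h⟩⟩ := exists_factor_kProjective (i1⟦(1 : ℤ)⟧') σ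
  let τ : ∀ k, J.X k ⟶ I.X (k + 1) := fun k => g.f k
  have hτ : ∀ k, τ k ≫ I.d (k + 1) (k + 1 + 1) + J.d k (k + 1) ≫ τ (k + 1) = 0 := by
    intro k
    have h1 : τ k ≫ ((1 : ℤ).negOnePow • I.d (k + 1) (k + 1 + 1)) = J.d k (k + 1) ≫ τ (k + 1) := g.comm k (k + 1)
    rw [← h1, Int.negOnePow_one, Units.neg_smul, one_smul, Preadditive.comp_neg, add_neg_cancel]
  let H : ∀ k, J.X k ⟶ S.X₁.X k := fun k =>
    (h.hom k (k - 1) : J.X k ⟶ S.X₁.X (k - 1 + 1)) ≫ (S.X₁.XIsoOfEq (sub_add_cancel k 1)).hom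
  have hH : ∀ k, (h.hom (k + 1) k : J.X (k + 1) ⟶ S.X₁.X (k + 1)) = H (k + 1) := fun k => by
    have gen : ∀ (m : ℤ) (e : m = k) (e' : m + 1 = k + 1),
        (h.hom (k + 1) m : J.X (k + 1) ⟶ S.X₁.X (m + 1)) ≫ (S.X₁.XIsoOfEq e').hom = h.hom (k + 1) k := by
      rintro m rfl e'
      exact (Category.comp_id _)
    exact (gen (k + 1 - 1) (by omega) _).symm
  have hcτ : ∀ k, τ k ≫ i1.f (k + 1) = t k + J.d k (k + 1) ≫ H (k + 1) - H k ≫ S.X₁.d k (k + 1) := fun k => by
    rw [← hH]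
    exact shift_homotopy_eq (g ≫ i1⟦(1 : ℤ)⟧') σ h k _ _ _ _ rfl rfl rfl rfl
  let b : ext' I J τ hτ ⟶ S.X₂ :=
    { f := fun k => biprod.desc (i1.f k ≫ S.f.f k) (s k - H k ≫ S.f.f k)
      comm' := by
        rintro k _ rfl
        rw [ext'_d]
        show biprod.desc (i1.f k ≫ S.f.f k) (s k - H k ≫ S.f.f k) ≫ S.X₂.d k (k + 1) =
          extD I J τ k ≫ biprod.desc (i1.f (k + 1) ≫ S.f.f (k + 1)) (s (k + 1) - H (k + 1) ≫ S.f.f (k + 1))
        apply biprod.hom_ext'
        · simp only [extD, biprod.inl_desc_assoc, biprod.lift_desc, Preadditive.comp_add, Preadditive.add_comp,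
            Category.assoc, biprod.inl_fst_assoc, biprod.inl_snd_assoc, zero_comp, add_zero]
          rw [S.f.comm, i1.comm_assoc]
        · simp only [extD, biprod.inr_desc_assoc, biprod.lift_desc, Preadditive.comp_add, Preadditive.add_comp,
            Category.assoc, biprod.inr_fst_assoc, biprod.inr_snd_assoc, zero_comp, zero_add]
          rw [reassoc_of% hcτ k]
          simp only [Preadditive.sub_comp, Preadditive.add_comp, Preadditive.comp_sub, Category.assoc]
          rw [ht, S.f.comm]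
          abel }
  have w1 : i1 ≫ S.f = inclExt I J τ hτ ≫ b := by
    ext k
    show i1.f k ≫ S.f.f k = biprod.inl ≫ biprod.desc (i1.f k ≫ S.f.f k) (s k - H k ≫ S.f.f k)
    rw [biprod.inl_desc]
  have w2 : b ≫ S.g = projExt I J τ hτ ≫ c := by
    ext k
    show biprod.desc (i1.f k ≫ S.f.f k) (s k - H k ≫ S.f.f k) ≫ S.g.f k = biprod.snd ≫ c.f k
    have hz : S.f.f k ≫ S.g.f k = 0 := by rw [← HomologicalComplex.comp_f, S.zero]; rfl
    apply biprod.hom_ext' <;> simp [hz, hs, Preadditive.sub_comp]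
  let φ : extSC I J τ hτ ⟶ S := { τ₁ := i1, τ₂ := b, τ₃ := c, comm₁₂ := w1, comm₂₃ := w2 }
  haveI := hIle
  haveI := hJle
  refine ⟨extSC I J τ hτ, φ, extSC_shortExact I J τ hτ, hIle, ext'_isStrictlyLE I J τ hτ n, hJle,
    fun k => ⟨hI k, ?_, hJ k⟩, hi1, quasiIso_τ₂ φ (extSC_shortExact I J τ hτ) hS hi1 hc, hc⟩
  haveI : Projective (I.X k) := hI k
  exact inferInstanceAs (Projective (I.X k ⊞ J.X k))

end Groth.Agent.CommAlg4.SESResol
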