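import Mathlib

/-!
# Polynomial paths in the special linear group over a field
-/

set_option autoImplicit false

universe u

namespace Groth.Agent.CommAlg4

open Matrix

variable {K : Type u} [Field K] {n : Type*} [Fintype n] [DecidableEq n]

/-- `X` is joined to the identity by a polynomial path of determinant one. -/
def HasPath (X : Matrix n n K) : Prop :=
  ∃ M : Matrix n n (Polynomial K), M.det = 1 ∧ (Polynomial.evalRingHom (0 : K)).mapMatrix M = 1 ∧
    (Polynomial.evalRingHom (1 : K)).mapMatrix M = X

theorem hasPath_one : HasPath (1 : Matrix n n K) := ⟨1, det_one, map_one _, map_one _⟩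

theorem hasPath_mul {X Y : Matrix n n K} (hX : HasPath X) (hY : HasPath Y) : HasPath (X * Y) := by
  obtain ⟨M, h1, h2, h3⟩ := hX
  obtain ⟨N, k1, k2, k3⟩ := hY
  exact ⟨M * N, by rw [det_mul, h1, k1, one_mul], by rw [map_mul, h2, k2, one_mul], by rw [map_mul, h3, k3]⟩

theorem hasPath_transvection {i j : n} (h : i ≠ j) (c : K) : HasPath (transvection i j c) := by
  have e : ∀ f : Polynomial K →+* K, f.mapMatrix (transvection i j (Polynomial.X * Polynomial.C c)) =
      transvection i j (f (Polynomial.X * Polynomial.C c)) := fun f => by
    ext p q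
    simp only [RingHom.mapMatrix_apply, Matrix.map_apply, transvection, Matrix.add_apply, map_add,
      Matrix.one_apply, Matrix.single_apply]
    split_ifs <;> simp
  refine ⟨transvection i j (Polynomial.X * Polynomial.C c), det_transvection_of_ne i j h _, ?_, ?_⟩
  · rw [e]; simp
  · rw [e]; simp

/-- `diag(a, a⁻¹)` in the `(i, j)` block. -/
theorem hasPath_pair {i j : n} (h : i ≠ j) (a : K) (ha : a ≠ 0) :
    HasPath (1 - single i i (1 : K) - single j j 1 + single i i a + single j j a⁻¹) := by
  have z1 : ∀ (p q : n) (x y : K), single p j x * single i q y = 0 := fun p q x y => by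
    simp [Ne.symm h]
  have z2 : ∀ (p q : n) (x y : K), single p i x * single j q y = 0 := fun p q x y => by
    simp [h]
  have w : ∀ b : K, b ≠ 0 → transvection i j b * transvection j i (-b⁻¹) * transvection i j b =
      1 - single i i (1 : K) - single j j 1 + single i j b - single j i b⁻¹ := by
    intro b hb
    simp only [transvection, mul_add, add_mul, one_mul, mul_one, Matrix.single_mul_single_same,
      z1, z2, add_zero, zero_add,
      mul_neg, neg_mul, mul_inv_cancel₀ hb, inv_mul_cancel₀ hb, one_mul, mul_one]
    simp only [← Matrix.single_neg, neg_neg, sub_eq_add_neg]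
    abel
  have e : 1 - single i i (1 : K) - single j j 1 + single i i a + single j j a⁻¹ =
      (transvection i j a * transvection j i (-a⁻¹) * transvection i j a) *
        (transvection i j (-1 : K) * transvection j i (-(-1 : K)⁻¹) * transvection i j (-1 : K)) := by
    rw [w a ha, w (-1) (neg_ne_zero.2 one_ne_zero)]
    simp only [inv_neg, inv_one, mul_add, add_mul, sub_mul, mul_sub, one_mul, mul_one,
      Matrix.single_mul_single_same, z1, z2, mul_neg, neg_mul, mul_one, one_mul,
      neg_neg, sub_zero, add_zero, zero_add]
    simp only [← Matrix.single_neg, neg_neg, sub_eq_add_neg]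
    abel
  rw [e]
  exact hasPath_mul
    (hasPath_mul (hasPath_mul (hasPath_transvection h _) (hasPath_transvection h.symm _)) (hasPath_transvection h _))
    (hasPath_mul (hasPath_mul (hasPath_transvection h _) (hasPath_transvection h.symm _)) (hasPath_transvection h _))

theorem hasPath_diagonal (i₀ : n) : ∀ (s : Finset n), i₀ ∉ s → ∀ (d : n → K), ∏ i, d i = 1 →
    (∀ i, i ∉ s → i ≠ i₀ → d i = 1) → HasPath (diagonal d) := by
  intro s
  induction s using Finset.induction with
  | empty =>
    intro _ d hd hs
    have : d = fun _ => 1 := by
      funext i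
      by_cases hi : i = i₀
      · subst hi
        rwa [Fintype.prod_eq_single i (fun j hj => hs j (by simp) hj)] at hd
      · exact hs i (by simp) hi
    rw [this, diagonal_one]
    exact hasPath_one
  | insert a s ha ih =>
    intro hmem d hd hs
    have hne : a ≠ i₀ := fun e => hmem (e ▸ Finset.mem_insert_self a s)
    have hda : d a ≠ 0 := fun e => one_ne_zero (hd ▸ Finset.prod_eq_zero (Finset.mem_univ a) e)
    let c : n → K := Function.update (Function.update (fun _ => 1) a (d a)) i₀ (d a)⁻¹
    have hc : diagonal c = 1 - single a a (1 : K) - single i₀ i₀ 1 + single a a (d a) + single i₀ i₀ (d a)⁻¹ := by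
      ext p q
      by_cases hpq : p = q
      · subst hpq
        by_cases h1 : p = a
        · subst h1; simp [c, hne, Matrix.single_apply, Ne.symm hne]
        · by_cases h2 : p = i₀
          · subst h2; simp [c, Matrix.single_apply, Ne.symm h1, hne]
          · simp [c, Matrix.single_apply, h1, h2, Ne.symm h1, Ne.symm h2]
      · simp [Matrix.single_apply, hpq, Matrix.one_apply_ne hpq]
        grind
    have hcprod : ∏ i, c i = 1 := by
      rw [Finset.prod_update_of_mem (Finset.mem_univ i₀), Finset.prod_update_of_mem
        (Finset.mem_sdiff.2 ⟨Finset.mem_univ a, by simpa using hne⟩)]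
      simp [hda]
    have hc0 : ∀ i, c i ≠ 0 := fun i => by
      intro e; exact one_ne_zero (hcprod ▸ Finset.prod_eq_zero (Finset.mem_univ i) e)
    have h1 := ih (fun h => hmem (Finset.mem_insert_of_mem h)) (fun i => d i / c i) (by
      rw [Finset.prod_div_distrib, hd, hcprod, div_one]) (fun i his hii => by
        by_cases hia : i = a
        · subst hia; simp [c, hii, hda]
        · rw [hs i (by simp [hia, his]) hii]; simp [c, hia, hii])
    have h2 : HasPath (diagonal c) := by rw [hc]; exact hasPath_pair hne _ hda
    have := hasPath_mul h1 h2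
    rwa [diagonal_mul_diagonal, show (fun i => d i / c i * c i) = d from funext fun i => div_mul_cancel₀ _ (hc0 i)] at this

theorem hasPath_of_det_eq_one (X : Matrix n n K) (hX : X.det = 1) : HasPath X := by
  classical
  rcases isEmpty_or_nonempty n with he | ⟨⟨i₀⟩⟩
  · rw [Subsingleton.elim X 1]; exact hasPath_one
  obtain ⟨L, L', D, rfl⟩ := Matrix.Pivot.exists_list_transvec_mul_diagonal_mul_list_transvec X
  have hL : ∀ L : List (TransvectionStruct n K), HasPath (L.map TransvectionStruct.toMatrix).prod := by
    intro L
    induction L with
    | nil => simpa using hasPath_one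
    | cons t L ih =>
      rw [List.map_cons, List.prod_cons]
      exact hasPath_mul (hasPath_transvection t.hij t.c) ih
  rw [det_mul, det_mul, TransvectionStruct.det_toMatrix_prod, TransvectionStruct.det_toMatrix_prod,
    det_diagonal, one_mul, mul_one] at hX
  exact hasPath_mul (hasPath_mul (hL L) (hasPath_diagonal i₀ (Finset.univ.erase i₀) (by simp) D hX
    (fun i hi hne => absurd (Finset.mem_erase.2 ⟨hne, Finset.mem_univ i⟩) hi))) (hL L')

end Groth.Agent.CommAlg4
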