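import Mathlib

/-!
Separable elements of a tensor square over an algebraically closed field of characteristic `p`.
-/

universe u v

open TensorProduct Polynomial

namespace Groth.Agent.CommAlg4

variable {k : Type u} [Field k] [IsAlgClosed k]

/-- Elements of a finite reduced algebra over an algebraically closed field are separable. -/
theorem isSeparable_of_finite_isReduced {E : Type v} [CommRing E] [Algebra k E] [Module.Finite k E]
    [IsReduced E] (x : E) : IsSeparable k x := by
  classical
  have hx : IsIntegral k x := IsIntegral.of_finite k x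
  let m := minpoly k x
  let g : k[X] := ∏ r ∈ m.roots.toFinset, (X - C r)
  have hg : g.Separable :=
    Polynomial.separable_prod_X_sub_C_iff'.2 fun a _ b _ h => h
  have hdvd : m ∣ g ^ m.natDegree := by
    have hm : m = (m.roots.map fun a => X - C a).prod :=
      (IsAlgClosed.splits m).eq_prod_roots_of_monic (minpoly.monic hx)
    conv_lhs => rw [hm]
    have hcard : m.roots.card ≤ m.natDegree := m.card_roots'
    generalize m.natDegree = N at hcard
    calc (m.roots.map fun a => X - C a).prod
        = ∏ r ∈ m.roots.toFinset, (X - C r) ^ m.roots.count r := Finset.prod_multiset_map_count _ _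
      _ ∣ ∏ r ∈ m.roots.toFinset, (X - C r) ^ N :=
          Finset.prod_dvd_prod_of_dvd _ _ fun r _ =>
            pow_dvd_pow _ ((Multiset.count_le_card r _).trans hcard)
      _ = g ^ N := Finset.prod_pow _ _ _
  have hg0 : aeval x g = 0 := by
    obtain ⟨c, hc⟩ := hdvd
    refine IsReduced.eq_zero _ ⟨m.natDegree, ?_⟩
    rw [← map_pow, hc, map_mul, minpoly.aeval, zero_mul]
  exact hg.of_dvd (minpoly.dvd k x hg0)

/-- A separable element is a combination of idempotents. -/
theorem mem_span_idempotents {E : Type v} [CommRing E] [Algebra k E] {x : E} (hx : IsSeparable k x) :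
    x ∈ Submodule.span k {e : E | IsIdempotentElem e} := by
  classical
  let m := minpoly k x
  let s := m.roots.toFinset
  have hm0 : m ≠ 0 := minpoly.ne_zero hx.isIntegral
  have hkill : ∀ P : k[X], (∀ r ∈ s, P.eval r = 0) → aeval x P = 0 := by
    intro P hP
    by_cases hP0 : P = 0
    · simp [hP0]
    have hm : m = (m.roots.map fun a => X - C a).prod :=
      (IsAlgClosed.splits m).eq_prod_roots_of_monic (minpoly.monic hx.isIntegral)
    have hle : m.roots ≤ P.roots := by
      rw [Multiset.le_iff_subset (Polynomial.nodup_roots hx)]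
      intro r hr
      exact (Polynomial.mem_roots hP0).2 (hP r (Multiset.mem_toFinset.2 hr))
    obtain ⟨c, hc⟩ := (dvd_of_eq hm).trans ((Multiset.prod_dvd_prod_of_le (Multiset.map_le_map hle)).trans
      (Polynomial.prod_multiset_X_sub_C_dvd P))
    rw [hc, map_mul, minpoly.aeval, zero_mul]
  let L : k → k[X] := fun r => Lagrange.basis s id r
  have hL : ∀ r ∈ s, ∀ t ∈ s, (L r).eval t = if t = r then 1 else 0 := by
    intro r hr t ht
    split
    next h => subst h; exact Lagrange.eval_basis_self (fun a _ b _ h => h) hr
    next h => exact Lagrange.eval_basis_of_ne (v := id) (fun h' => h h'.symm) ht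
  have hx2 : x = ∑ r ∈ s, r • aeval x (L r) := by
    have h := hkill (X - ∑ r ∈ s, r • L r) fun t ht => by
      rw [eval_sub, eval_X, eval_finsetSum, Finset.sum_eq_single t]
      · rw [eval_smul, hL t ht t ht, if_pos rfl, smul_eq_mul, mul_one, sub_self]
      · intro r hr hne
        rw [eval_smul, hL r hr t ht, if_neg (fun h => hne h.symm), smul_zero]
      · exact fun h => absurd ht h
    rw [map_sub, aeval_X, map_sum, sub_eq_zero] at h
    simpa [map_smul] using h
  rw [hx2]
  refine Submodule.sum_mem _ fun r hr => Submodule.smul_mem _ _ (Submodule.subset_span ?_)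
  show aeval x (L r) * aeval x (L r) = aeval x (L r)
  have h := hkill (L r * L r - L r) fun t ht => by
    rw [eval_sub, eval_mul, hL r hr t ht]
    split <;> ring
  rwa [map_sub, map_mul, sub_eq_zero] at h

variable (p : ℕ) [Fact p.Prime] [CharP k p] {C : Type v} [CommRing C] [Algebra k C]

omit [IsAlgClosed k] in
theorem coef_repr {ι : Type*} [DecidableEq ι] (b : Module.Basis ι k C) (z : ι →₀ C) (l : ι) :
    (TensorProduct.rid k C) ((b.coord l).lTensor C (z.sum fun i m => m ⊗ₜ[k] b i)) = z l := by
  simp only [Finsupp.sum, map_sum, LinearMap.lTensor_tmul, TensorProduct.rid_tmul,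
    Module.Basis.coord_apply, Module.Basis.repr_self, Finsupp.single_apply, ite_smul, one_smul, zero_smul]
  rw [Finset.sum_ite_eq' z.support l]
  split_ifs with h
  · rfl
  · exact (Finsupp.notMem_support_iff.1 h).symm

include p in

/-- The left coefficients of an idempotent tensor are separable. -/
theorem isSeparable_coef_of_idempotent (e : C ⊗[k] C) (he : IsIdempotentElem e) (f : C →ₗ[k] k) :
    IsSeparable k ((TensorProduct.rid k C) (f.lTensor C e)) := by
  classical
  rcases subsingleton_or_nontrivial C with hC | hC
  · exact isSeparable_of_finite_isReduced _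
  haveI : CharP C p := charP_of_injective_algebraMap (algebraMap k C).injective p
  haveI : CharP (C ⊗[k] C) p := by
    haveI : Nontrivial (C ⊗[k] C) := inferInstance
    exact charP_of_injective_algebraMap (algebraMap k (C ⊗[k] C)).injective p
  let b := Module.Basis.ofVectorSpace k C
  obtain ⟨v, hv⟩ := TensorProduct.eq_repr_basis_right b e
  let gen : Set C := Set.range fun j : v.support => v j
  let E := Algebra.adjoin k gen
  haveI : Algebra.FiniteType k E := ⟨Subalgebra.fg_top E |>.2 ⟨v.support.image v, by
    simp [E, gen, Set.range, Finset.coe_image, Set.image]⟩⟩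
  haveI : Nontrivial E := inferInstance
  haveI : CharP E p := charP_of_injective_algebraMap (algebraMap k E).injective p
  have hep : e ^ p = e := he.pow_eq (Fact.out : p.Prime).ne_zero
  have hrec : ∀ l, v l = ∑ j ∈ v.support, b.repr (b j ^ p) l • v j ^ p := by
    intro l
    calc v l = (TensorProduct.rid k C) ((b.coord l).lTensor C e) := by rw [← hv, coef_repr]
      _ = (TensorProduct.rid k C) ((b.coord l).lTensor C (∑ j ∈ v.support, (v j ^ p) ⊗ₜ[k] (b j ^ p))) := by
          conv_lhs => rw [← hep, ← hv, Finsupp.sum, sum_pow_char]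
          simp only [Algebra.TensorProduct.tmul_pow]
      _ = _ := by simp
  have hD : Subsingleton (Ω[↥E⁄k]) := by
    have hgen : ∀ x : E, (x : C) ∈ gen → KaehlerDifferential.D k E x = 0 := by
      intro x hx
      obtain ⟨⟨l, hl⟩, hlx⟩ := hx
      let y : v.support → E := fun j => ⟨v j, Algebra.subset_adjoin ⟨j, rfl⟩⟩
      have hx' : x = ∑ j : v.support, b.repr (b j ^ p) l • y j ^ p := by
        refine Subtype.ext ?_
        rw [← hlx]
        show v l = _
        rw [hrec l, ← Finset.sum_coe_sort v.support]
        simp [y]
      rw [hx', map_sum]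
      refine Finset.sum_eq_zero fun j _ => ?_
      rw [Derivation.map_smul, Derivation.leibniz_pow, ← Nat.cast_smul_eq_nsmul E,
        CharP.cast_eq_zero E p, zero_smul, smul_zero]
    refine ⟨fun a c => ?_⟩
    have hzero : ∀ x : E, KaehlerDifferential.D k E x = 0 := by
      rintro ⟨x, hx⟩
      induction hx using Algebra.adjoin_induction with
      | mem y hy => exact hgen ⟨y, Algebra.subset_adjoin hy⟩ hy
      | algebraMap r => exact Derivation.map_algebraMap _ r
      | add y z hy hz ihy ihz =>
        show KaehlerDifferential.D k E (⟨y, hy⟩ + ⟨z, hz⟩ : E) = 0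
        rw [map_add, ihy, ihz, add_zero]
      | mul y z hy hz ihy ihz =>
        show KaehlerDifferential.D k E (⟨y, hy⟩ * ⟨z, hz⟩ : E) = 0
        rw [Derivation.leibniz, ihy, ihz, smul_zero, smul_zero, add_zero]
    have htop : (⊤ : Submodule E (Ω[↥E⁄k])) = ⊥ := by
      rw [← KaehlerDifferential.span_range_derivation, Submodule.span_eq_bot]
      rintro _ ⟨x, rfl⟩
      exact hzero x
    have h1 : ∀ z : Ω[↥E⁄k], z = 0 := fun z =>
      (Submodule.mem_bot _).1 (htop ▸ (Submodule.mem_top : z ∈ (⊤ : Submodule E _)))
    rw [h1 a, h1 c]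
  haveI : Algebra.FormallyUnramified k E := ⟨hD⟩
  haveI : Module.Finite k E := Algebra.FormallyUnramified.finite_of_free k E
  haveI : IsReduced E := Algebra.FormallyUnramified.isReduced_of_field k E
  have hmem : (TensorProduct.rid k C) (f.lTensor C e) ∈ E := by
    rw [← hv]
    simp only [Finsupp.sum, map_sum, LinearMap.lTensor_tmul, TensorProduct.rid_tmul]
    exact E.sum_mem fun j hj => E.smul_mem (Algebra.subset_adjoin ⟨⟨j, hj⟩, rfl⟩) _
  have h := isSeparable_of_finite_isReduced (k := k) (⟨_, hmem⟩ : E)
  rw [IsSeparable, ← minpoly.algHom_eq E.val Subtype.val_injective] at h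
  exact h

include p in
/-- Separable elements of `C ⊗ C` lie in the tensor square of a subspace containing all separable
elements of `C`. -/
theorem mem_range_map_of_isSeparable (S : Submodule k C) (hS : ∀ c : C, IsSeparable k c → c ∈ S)
    {u : C ⊗[k] C} (hu : IsSeparable k u) :
    u ∈ LinearMap.range (TensorProduct.map S.subtype S.subtype) := by
  classical
  obtain ⟨π, hπ⟩ := S.subtype.exists_leftInverse_of_injective (Submodule.ker_subtype S)
  let q : C →ₗ[k] C := S.subtype ∘ₗ π
  have hq : ∀ c ∈ S, q c = c := fun c hc => congrArg Subtype.val (LinearMap.congr_fun hπ ⟨c, hc⟩)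
  refine Submodule.span_le.2 (fun e he => ?_) (mem_span_idempotents hu)
  have key : ∀ e' : C ⊗[k] C, IsIdempotentElem e' → q.rTensor C e' = e' := by
    intro e' he'
    let b := Module.Basis.ofVectorSpace k C
    obtain ⟨v, hv⟩ := TensorProduct.eq_repr_basis_right b e'
    conv_lhs => rw [← hv]
    conv_rhs => rw [← hv]
    simp only [Finsupp.sum, map_sum, LinearMap.rTensor_tmul]
    refine Finset.sum_congr rfl fun j _ => ?_
    rw [hq (v j) (hS _ ?_)]
    have h := isSeparable_coef_of_idempotent p e' he' (b.coord j)
    rw [← hv] at h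
    rwa [coef_repr] at h
  have hc : IsIdempotentElem (Algebra.TensorProduct.comm k C C e) := by
    show _ * _ = _
    rw [← map_mul, he.eq]
  have h2 : q.lTensor C e = e := by
    have hcomm : ∀ z : C ⊗[k] C, TensorProduct.comm k C C (q.lTensor C z) = q.rTensor C (TensorProduct.comm k C C z) := by
      intro z
      induction z with
      | zero => simp
      | tmul a c => simp
      | add a c ha hc => simp only [map_add, ha, hc]
    have h : TensorProduct.comm k C C (q.lTensor C e) = TensorProduct.comm k C C e :=
      (hcomm e).trans (key _ hc)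
    exact (TensorProduct.comm k C C).injective h
  refine ⟨TensorProduct.map π π e, ?_⟩
  have hfin : ∀ z, TensorProduct.map S.subtype S.subtype (TensorProduct.map π π z) = q.lTensor C (q.rTensor C z) := by
    intro z
    induction z with
    | zero => simp
    | tmul a c => simp [q]
    | add a c ha hc => simp only [map_add, ha, hc]
  rw [hfin, key e he, h2]

end Groth.Agent.CommAlg4
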