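import Mathlib

/-! Derived categories of Serre quotients. -/
set_option autoImplicit false
set_option linter.style.haveILetI false
set_option linter.unusedSectionVars false
set_option backward.isDefEq.respectTransparency false
universe w w' v v' u u'
open CategoryTheory CategoryTheory.Limits HomologicalComplex
open scoped ZeroObject

namespace Groth.Agent.CommAlg4.SerreQuotDer

variable {A : Type u} [Category.{v} A] [Abelian A] (P : ObjectProperty A) [P.IsSerreClass]
  {Q : Type u'} [Category.{v'} Q] [Abelian Q]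
  (L : A ⥤ Q) [L.IsLocalization P.isoModSerre] [L.Additive] [PreservesFiniteLimits L] [PreservesFiniteColimits L]

include P

theorem exists_preimage (z : Q) : ∃ c : A, Nonempty (L.obj c ≅ z) :=
  haveI := Localization.essSurj L P.isoModSerre
  ⟨L.objPreimage z, ⟨L.objObjPreimageIso z⟩⟩

theorem isIso_map_cokernel_π {X Y : A} (h : X ⟶ Y) (hh : L.map h = 0) : IsIso (L.map (cokernel.π h)) := by
  let S : ShortComplex A := ShortComplex.mk h (cokernel.π h) (cokernel.condition h)
  have hS : (S.map L).Exact := (ShortComplex.exact_cokernel h).map L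
  haveI : Mono (L.map (cokernel.π h)) := hS.mono_g hh
  exact isIso_of_mono_of_epi _

theorem isIso_map_kernel_ι {X Y : A} (h : X ⟶ Y) (hh : L.map h = 0) : IsIso (L.map (kernel.ι h)) := by
  let S : ShortComplex A := ShortComplex.mk (kernel.ι h) h (kernel.condition h)
  have hS : (S.map L).Exact := (ShortComplex.exact_kernel h).map L
  haveI : Epi (L.map (kernel.ι h)) := hS.epi_f hh
  exact isIso_of_mono_of_epi _

/-- Lifting a differential one step to the right. -/
theorem exists_up {a b : A} (f : a ⟶ b) {z : Q} (δ : L.obj b ⟶ z) (hfδ : L.map f ≫ δ = 0) :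
    ∃ (c : A) (g : b ⟶ c) (e : L.obj c ≅ z), f ≫ g = 0 ∧ L.map g ≫ e.hom = δ := by
  obtain ⟨c₀, ⟨e₀⟩⟩ := exists_preimage P L z
  obtain ⟨φ, hφ⟩ := Localization.exists_leftFraction L P.isoModSerre (δ ≫ e₀.inv)
  obtain ⟨Z, g₀, s, hs, rfl⟩ := φ.cases
  haveI : IsIso (L.map s) := Localization.inverts L P.isoModSerre s hs
  have hg₀ : L.map g₀ = (δ ≫ e₀.inv) ≫ L.map s := by
    rw [hφ, MorphismProperty.LeftFraction.map]
    simp
  have h0 : L.map (f ≫ g₀) = 0 := by
    rw [L.map_comp, hg₀, ← Category.assoc, reassoc_of% hfδ, zero_comp, zero_comp]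
  haveI := isIso_map_cokernel_π P L (f ≫ g₀) h0
  refine ⟨cokernel (f ≫ g₀), g₀ ≫ cokernel.π _,
    (asIso (L.map (cokernel.π (f ≫ g₀)))).symm ≪≫ (asIso (L.map s)).symm ≪≫ e₀, ?_, ?_⟩
  · rw [← Category.assoc, cokernel.condition]
  · simp [hg₀]

/-- Lifting a differential one step to the left. -/
theorem exists_down {b c : A} (g : b ⟶ c) {z : Q} (δ : z ⟶ L.obj b) (hδg : δ ≫ L.map g = 0) :
    ∃ (a : A) (f : a ⟶ b) (e : L.obj a ≅ z), f ≫ g = 0 ∧ L.map f = e.hom ≫ δ := by
  obtain ⟨a₀, ⟨e₀⟩⟩ := exists_preimage P L z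
  obtain ⟨φ, hφ⟩ := Localization.exists_rightFraction L P.isoModSerre (e₀.hom ≫ δ)
  obtain ⟨Z, s, hs, f₀, rfl⟩ := φ.cases
  haveI : IsIso (L.map s) := Localization.inverts L P.isoModSerre s hs
  have hf₀ : L.map f₀ = L.map s ≫ e₀.hom ≫ δ := by
    rw [hφ, MorphismProperty.RightFraction.map]
    simp
  have h0 : L.map (f₀ ≫ g) = 0 := by
    rw [L.map_comp, hf₀, Category.assoc, Category.assoc, hδg, comp_zero, comp_zero]
  haveI := isIso_map_kernel_ι P L (f₀ ≫ g) h0
  refine ⟨kernel (f₀ ≫ g), kernel.ι _ ≫ f₀,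
    asIso (L.map (kernel.ι (f₀ ≫ g))) ≪≫ asIso (L.map s) ≪≫ e₀, ?_, ?_⟩
  · rw [Category.assoc, kernel.condition]
  · simp [hf₀]

variable (M : CochainComplex Q ℤ)

/-- A lift of one differential. -/
structure St (n : ℤ) where
  a : A
  b : A
  f : a ⟶ b
  ea : L.obj a ≅ M.X n
  eb : L.obj b ≅ M.X (n + 1)
  comm : L.map f ≫ eb.hom = ea.hom ≫ M.d n (n + 1)

theorem exists_init : Nonempty (St L M 0) := by
  obtain ⟨a, ⟨ea⟩⟩ := exists_preimage P L (M.X 0)
  obtain ⟨b, g, eb, -, hg⟩ := exists_up P L (0 : a ⟶ a) (ea.hom ≫ M.d 0 (0 + 1)) (by simp)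
  exact ⟨⟨a, b, g, ea, eb, hg⟩⟩

theorem up_exists {n : ℤ} (s : St L M n) :
    ∃ (c : A) (g : s.b ⟶ c) (e : L.obj c ≅ M.X (n + 1 + 1)), s.f ≫ g = 0 ∧
      L.map g ≫ e.hom = s.eb.hom ≫ M.d (n + 1) (n + 1 + 1) :=
  exists_up P L s.f _ (by rw [reassoc_of% s.comm, M.d_comp_d, comp_zero])

theorem down_exists {n : ℤ} (s : St L M (n + 1)) :
    ∃ (a : A) (f : a ⟶ s.a) (e : L.obj a ≅ M.X n), f ≫ s.f = 0 ∧
      L.map f = e.hom ≫ M.d n (n + 1) ≫ s.ea.inv :=
  exists_down P L s.f _ (by
    rw [← cancel_mono s.eb.hom, zero_comp, Category.assoc, Category.assoc, s.comm]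
    simp)

noncomputable def upSt {n : ℤ} (s : St L M n) : St L M (n + 1) where
  a := s.b
  b := (up_exists P L M s).choose
  f := (up_exists P L M s).choose_spec.choose
  ea := s.eb
  eb := (up_exists P L M s).choose_spec.choose_spec.choose
  comm := (up_exists P L M s).choose_spec.choose_spec.choose_spec.2

noncomputable def downSt {n : ℤ} (s : St L M (n + 1)) : St L M n where
  a := (down_exists P L M s).choose
  b := s.a
  f := (down_exists P L M s).choose_spec.choose
  ea := (down_exists P L M s).choose_spec.choose_spec.choose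
  eb := s.ea
  comm := by
    exact ((congrArg (· ≫ s.ea.hom) (down_exists P L M s).choose_spec.choose_spec.choose_spec.2)).trans
      (by simp)

theorem upSt_f {n : ℤ} (s : St L M n) : s.f ≫ (upSt P L M s).f = 0 :=
  (up_exists P L M s).choose_spec.choose_spec.choose_spec.1

theorem downSt_f {n : ℤ} (s : St L M (n + 1)) : (downSt P L M s).f ≫ s.f = 0 :=
  (down_exists P L M s).choose_spec.choose_spec.choose_spec.1

variable (s₀ : St L M 0)

noncomputable def upSeq : ∀ q : ℕ, St L M (Int.ofNat q)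
  | 0 => s₀
  | q + 1 => upSt P L M (upSeq q)

noncomputable def downSeq : ∀ q : ℕ, St L M (Int.negSucc q)
  | 0 => downSt P L M (n := Int.negSucc 0) s₀
  | q + 1 => downSt P L M (n := Int.negSucc (q + 1)) (downSeq q)

noncomputable def obj : ℤ → A
  | Int.ofNat q => (upSeq P L M s₀ q).a
  | Int.negSucc q => (downSeq P L M s₀ q).a

noncomputable def diff : ∀ n : ℤ, obj P L M s₀ n ⟶ obj P L M s₀ (n + 1)
  | Int.ofNat q => (upSeq P L M s₀ q).f
  | Int.negSucc 0 => (downSeq P L M s₀ 0).f
  | Int.negSucc (q + 1) => (downSeq P L M s₀ (q + 1)).f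

theorem diff_sq : ∀ n : ℤ, diff P L M s₀ n ≫ diff P L M s₀ (n + 1) = 0
  | Int.ofNat q => upSt_f P L M (upSeq P L M s₀ q)
  | Int.negSucc 0 => downSt_f P L M (n := Int.negSucc 0) s₀
  | Int.negSucc 1 => downSt_f P L M (n := Int.negSucc 1) (downSeq P L M s₀ 0)
  | Int.negSucc (q + 2) => downSt_f P L M (n := Int.negSucc (q + 2)) (downSeq P L M s₀ (q + 1))

noncomputable def cmp : ∀ n : ℤ, L.obj (obj P L M s₀ n) ≅ M.X n
  | Int.ofNat q => (upSeq P L M s₀ q).ea
  | Int.negSucc q => (downSeq P L M s₀ q).ea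

theorem cmp_comm : ∀ n : ℤ, L.map (diff P L M s₀ n) ≫ (cmp P L M s₀ (n + 1)).hom =
    (cmp P L M s₀ n).hom ≫ M.d n (n + 1)
  | Int.ofNat q => (upSeq P L M s₀ q).comm
  | Int.negSucc 0 => (downSeq P L M s₀ 0).comm
  | Int.negSucc (q + 1) => (downSeq P L M s₀ (q + 1)).comm

/-- Every complex in the quotient comes from a complex. -/
theorem exists_complex : ∃ K : CochainComplex A ℤ,
    Nonempty ((L.mapHomologicalComplex (ComplexShape.up ℤ)).obj K ≅ M) := by
  obtain ⟨s₀⟩ := exists_init P L M
  refine ⟨CochainComplex.of (obj P L M s₀) (diff P L M s₀) (diff_sq P L M s₀),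
    ⟨Hom.isoOfComponents (cmp P L M s₀) (fun i j hij => ?_)⟩⟩
  obtain rfl : i + 1 = j := hij
  exact ((congrArg (fun t => L.map t ≫ (cmp P L M s₀ (i + 1)).hom)
    (CochainComplex.of_d (obj P L M s₀) (diff P L M s₀) i)).trans (cmp_comm P L M s₀ i)).symm

variable [HasDerivedCategory.{w} A] [HasDerivedCategory.{w'} Q]

theorem essSurj : L.mapDerivedCategory.EssSurj where
  mem_essImage Y := by
    obtain ⟨K, ⟨e⟩⟩ := exists_complex P L (DerivedCategory.Q.objPreimage Y)
    exact ⟨DerivedCategory.Q.obj K, ⟨L.mapDerivedCategoryFactors.app K ≪≫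
      DerivedCategory.Q.mapIso e ≪≫ DerivedCategory.Q.objObjPreimageIso Y⟩⟩

variable (u : Q ⥤ A) (adj : u ⊣ L)

/-- The adjunction on complexes. -/
noncomputable def mapAdj [u.Additive] :
    u.mapHomologicalComplex (ComplexShape.up ℤ) ⊣ L.mapHomologicalComplex (ComplexShape.up ℤ) where
  unit := { app := fun K => { f := fun i => adj.unit.app (K.X i) }
            naturality := fun K K' φ => by ext i; exact adj.unit.naturality (φ.f i) }
  counit := { app := fun K => { f := fun i => adj.counit.app (K.X i) }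
              naturality := fun K K' φ => by ext i; exact adj.counit.naturality (φ.f i) }
  left_triangle_components K := by ext i; exact adj.left_triangle_components (K.X i)
  right_triangle_components K := by ext i; exact adj.right_triangle_components (K.X i)

include adj in
theorem isLocalization_mapDerivedCategory [IsIso adj.unit] :
    L.mapDerivedCategory.IsLocalization
      (ObjectProperty.trW (fun X : DerivedCategory A => ∀ n : ℤ, P ((DerivedCategory.homologyFunctor A n).obj X))) := by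
  haveI : u.Additive := adj.left_adjoint_additive
  haveI := adj.fullyFaithfulLOfIsIsoUnit.full
  haveI := adj.fullyFaithfulLOfIsIsoUnit.faithful
  let GA := L.mapHomologicalComplex (ComplexShape.up ℤ)
  let Fc := u.mapHomologicalComplex (ComplexShape.up ℤ)
  let adj' : Fc ⊣ GA := mapAdj L u adj
  let W₀ : MorphismProperty (CochainComplex A ℤ) := (MorphismProperty.isomorphisms _).inverseImage GA
  let W₂ : MorphismProperty (CochainComplex A ℤ) :=
    (HomologicalComplex.quasiIso Q (ComplexShape.up ℤ)).inverseImage GA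
  haveI : GA.IsLocalization W₀ := adj'.isLocalization'
  have hW₂ : ∀ ⦃X Y : CochainComplex A ℤ⦄ (f : X ⟶ Y), W₂ f ↔ QuasiIso (GA.map f) := fun _ _ _ => Iff.rfl
  haveI : (GA ⋙ DerivedCategory.Q).IsLocalization W₂ := by
    refine Functor.IsLocalization.comp GA DerivedCategory.Q W₀
      (HomologicalComplex.quasiIso Q (ComplexShape.up ℤ)) W₂ (fun X Y f hf => ?_) (fun X Y f hf => ?_) (fun X Y s hs => ?_)
    · haveI := (hW₂ f).1 hf
      show IsIso (DerivedCategory.Q.map (GA.map f))
      infer_instance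
    · haveI : IsIso (GA.map f) := hf
      exact (hW₂ f).2 inferInstance
    · haveI : ∀ M, IsIso (adj'.unit.app M) := fun M => by
        haveI : ∀ i, IsIso ((adj'.unit.app M).f i) := fun i =>
          inferInstanceAs (IsIso (adj.unit.app (M.X i)))
        exact Hom.isIso_of_components _
      have e : Arrow.mk (GA.map (Fc.map s)) ≅ Arrow.mk s :=
        (Arrow.isoMk (asIso (adj'.unit.app X)) (asIso (adj'.unit.app Y)) (adj'.unit.naturality s).symm).symm
      refine ⟨_, _, Fc.map s, ?_, ⟨e⟩⟩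
      exact ((HomologicalComplex.quasiIso Q (ComplexShape.up ℤ)).arrow_mk_iso_iff e).2 hs
  haveI : (DerivedCategory.Q ⋙ L.mapDerivedCategory).IsLocalization W₂ :=
    Functor.IsLocalization.of_iso W₂ L.mapDerivedCategoryFactors.symm
  refine Functor.IsLocalization.of_comp DerivedCategory.Q L.mapDerivedCategory
    (HomologicalComplex.quasiIso A (ComplexShape.up ℤ)) _ W₂ (fun X Y f hf => ?_) ?_
  · haveI : QuasiIso f := hf
    exact (hW₂ f).2 inferInstance
  let Pr : ObjectProperty (DerivedCategory A) := fun X => ∀ n : ℤ, P ((DerivedCategory.homologyFunctor A n).obj X)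
  haveI : Pr.IsClosedUnderIsomorphisms :=
    ⟨fun e h n => P.prop_of_iso ((DerivedCategory.homologyFunctor A n).mapIso e) (h n)⟩
  have hker : ∀ X : DerivedCategory A, IsZero (L.mapDerivedCategory.obj X) ↔ Pr X := fun X => by
    let K := DerivedCategory.Q.objPreimage X
    let e : DerivedCategory.Q.obj K ≅ X := DerivedCategory.Q.objObjPreimageIso X
    rw [← ((L.mapDerivedCategory.mapIso e).symm ≪≫ L.mapDerivedCategoryFactors.app K).symm.isZero_iff,
      ← ObjectProperty.prop_iff_of_iso Pr e]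
    have h : ∀ n, IsZero ((GA.obj K).homology n) ↔ P ((DerivedCategory.homologyFunctor A n).obj (DerivedCategory.Q.obj K)) := fun n =>
      (((K.sc n).mapHomologyIso L).isZero_iff).trans ((ObjectProperty.SerreClassLocalization.isZero_obj_iff L P _).trans
        (P.prop_iff_of_iso ((DerivedCategory.homologyFunctorFactors A n).app K)).symm)
    constructor
    · intro hz n
      refine (h n).1 ?_
      exact ((DerivedCategory.homologyFunctor Q n).map_isZero hz).of_iso
        ((DerivedCategory.homologyFunctorFactors Q n).app _).symm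
    · intro hP
      haveI : QuasiIso (0 : GA.obj K ⟶ 0) := ⟨fun i => by
        rw [quasiIsoAt_iff_isIso_homologyMap]
        exact ⟨0, ((h i).2 (hP i)).eq_of_src _ _,
          ((homologyFunctor Q (ComplexShape.up ℤ) i).map_isZero (Limits.isZero_zero _)).eq_of_src _ _⟩⟩
      exact (DerivedCategory.Q.map_isZero (Limits.isZero_zero _)).of_iso
        (asIso (DerivedCategory.Q.map (0 : GA.obj K ⟶ 0)))
  have htrW : ∀ {X Y : DerivedCategory A} (f : X ⟶ Y), Pr.trW f ↔ IsIso (L.mapDerivedCategory.map f) := by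
    intro X Y f
    obtain ⟨Z, g, h, hT⟩ := Pretriangulated.distinguished_cocone_triangle f
    refine (Pr.trW_iff_of_distinguished _ hT).trans (((hker Z).symm).trans ?_)
    exact Pretriangulated.Triangle.isZero₃_iff_isIso₁ _ (L.mapDerivedCategory.map_distinguished _ hT)
  have hQ : ∀ {K K' : CochainComplex A ℤ} (g : K ⟶ K'),
      IsIso (L.mapDerivedCategory.map (DerivedCategory.Q.map g)) ↔ W₂ g := fun g => by
    rw [hW₂, ← DerivedCategory.isIso_Q_map_iff_quasiIso]
    exact (MorphismProperty.isomorphisms _).arrow_mk_iso_iff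
      (((Functor.mapArrowFunctor _ _).mapIso L.mapDerivedCategoryFactors).app (Arrow.mk g))
  refine MorphismProperty.ext _ _ fun X Y f => ⟨fun hf => ?_, fun hf => ?_⟩
  · have hf' := (htrW f).1 hf
    let eX := DerivedCategory.Q.objObjPreimageIso X
    let eY := DerivedCategory.Q.objObjPreimageIso Y
    obtain ⟨K', s, hs, g, hfac⟩ := DerivedCategory.right_fac (eX.hom ≫ f ≫ eY.inv)
    have e : Arrow.mk (DerivedCategory.Q.map g) ≅ Arrow.mk f :=
      Arrow.isoMk (asIso (DerivedCategory.Q.map s) ≪≫ eX) eY (by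
        have hg : DerivedCategory.Q.map s ≫ eX.hom ≫ f ≫ eY.inv = DerivedCategory.Q.map g := by
          rw [hfac, IsIso.hom_inv_id_assoc]
        simp [← hg])
    refine ⟨_, _, g, ?_, ⟨e⟩⟩
    refine (hQ g).1 ?_
    exact ((MorphismProperty.isomorphisms _).arrow_mk_iso_iff
      (((Functor.mapArrowFunctor _ _).obj L.mapDerivedCategory).mapIso e)).2 hf'
  · obtain ⟨K, K', g, hg, ⟨e⟩⟩ := hf
    refine (htrW f).2 ?_
    exact ((MorphismProperty.isomorphisms _).arrow_mk_iso_iff
      (((Functor.mapArrowFunctor _ _).obj L.mapDerivedCategory).mapIso e)).1 ((hQ g).2 hg)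

end Groth.Agent.CommAlg4.SerreQuotDer
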