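import Mathlib

/-! Bounded above complexes with cohomology in a Serre class, resolved by subcomplexes in the class. -/
set_option autoImplicit false
set_option linter.style.haveILetI false
set_option backward.isDefEq.respectTransparency false
universe w w' v u
open CategoryTheory CategoryTheory.Limits HomologicalComplex
open scoped ZeroObject

namespace Groth.Agent.CommAlg4.SerreSubRes

attribute [local instance] Abelian.hasFiniteBiproducts

variable {A : Type u} [Category.{v} A] [Abelian A]

theorem prop_biprod (P : ObjectProperty A) [P.IsSerreClass] {X Y : A} (hX : P X) (hY : P Y) :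
    P (X ⊞ Y) :=
  (P.prop_iff_of_shortExact (ShortComplex.Splitting.ofHasBinaryBiproduct X Y).shortExact).2 ⟨hX, hY⟩

/-- A subobject of a term lying in the class. -/
structure St (P : ObjectProperty A) (K : CochainComplex A ℤ) (n : ℤ) where
  L : A
  i : L ⟶ K.X n
  mono : Mono i
  hP : P L

section

variable (P : ObjectProperty A) [P.IsSerreClass] (K : CochainComplex A ℤ)

theorem exists_next
    (hlift : ∀ (X Y : A) (π : X ⟶ Y), Epi π → P Y → ∃ (X' : A) (i : X' ⟶ X), Mono i ∧ P X' ∧ Epi (i ≫ π))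
    (n : ℤ) (hH : P (K.homology n)) (s : St P K (n + 1)) :
    ∃ t : St P K n, (t.i ≫ K.d n (n + 1) ≫ cokernel.π s.i = 0) ∧
      (∃ (Y : A) (c : Y ⟶ K.cycles n) (e : Y ⟶ t.L), Epi (c ≫ K.homologyπ n) ∧ e ≫ t.i = c ≫ K.iCycles n) ∧
      ∀ ⦃T : A⦄ (x : T ⟶ s.L) (y : T ⟶ K.X n), x ≫ s.i = y ≫ K.d n (n + 1) →
        ∃ (T' : A) (p : T' ⟶ T) (_ : Epi p) (z : T' ⟶ t.L), p ≫ x ≫ s.i = z ≫ t.i ≫ K.d n (n + 1) := by
  haveI := s.mono
  let fst : pullback (K.d n (n + 1)) s.i ⟶ K.X n := pullback.fst _ _
  let snd : pullback (K.d n (n + 1)) s.i ⟶ s.L := pullback.snd _ _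
  have hI : P (image snd) := P.prop_of_mono (image.ι snd) s.hP
  obtain ⟨X', a, -, hX', ha⟩ := hlift _ _ (factorThruImage snd) inferInstance hI
  obtain ⟨Y', c, -, hY', hc⟩ := hlift _ _ (K.homologyπ n) inferInstance hH
  let b : X' ⊞ Y' ⟶ K.X n := biprod.desc (a ≫ fst) (c ≫ K.iCycles n)
  refine ⟨⟨image b, image.ι b, inferInstance,
    P.prop_of_epi (factorThruImage b) (prop_biprod P hX' hY')⟩, ?_, ?_, ?_⟩
  · show image.ι b ≫ K.d n (n + 1) ≫ cokernel.π s.i = 0
    rw [← cancel_epi (factorThruImage b), image.fac_assoc, comp_zero]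
    apply biprod.hom_ext'
    · simp only [b, biprod.inl_desc_assoc, Category.assoc, comp_zero]
      rw [reassoc_of% (pullback.condition : fst ≫ K.d n (n + 1) = snd ≫ s.i), cokernel.condition,
        comp_zero, comp_zero]
    · simp [b]
  · exact ⟨Y', c, biprod.inr ≫ factorThruImage b, hc, by simp [b]⟩
  · intro T x y hxy
    let m : T ⟶ pullback (K.d n (n + 1)) s.i := pullback.lift y x hxy.symm
    haveI := ha
    obtain ⟨T', p, hp, z, hz⟩ := surjective_up_to_refinements_of_epi (a ≫ factorThruImage snd)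
      (m ≫ factorThruImage snd)
    refine ⟨T', p, hp, z ≫ biprod.inl ≫ factorThruImage b, ?_⟩
    show p ≫ x ≫ s.i = (z ≫ biprod.inl ≫ factorThruImage b) ≫ image.ι b ≫ K.d n (n + 1)
    have h : p ≫ x = z ≫ a ≫ snd := by
      have := hz =≫ image.ι snd
      simp only [Category.assoc, image.fac] at this
      simpa [m, snd] using this
    have hcond : fst ≫ K.d n (n + 1) = snd ≫ s.i := pullback.condition
    simp only [Category.assoc, image.fac_assoc, b, biprod.inl_desc_assoc, hcond]
    rw [← Category.assoc, h]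
    simp

variable (hlift : ∀ (X Y : A) (π : X ⟶ Y), Epi π → P Y → ∃ (X' : A) (i : X' ⟶ X), Mono i ∧ P X' ∧ Epi (i ≫ π))
variable (b : ℤ) (hH : ∀ n, P (K.homology n))

include hlift hH in
/-- The stages, by descending recursion. -/
noncomputable def T (n : ℤ) : St P K n :=
  if _h : b < n then ⟨0, 0, mono_of_isZero (isZero_zero A), P.prop_of_isZero (isZero_zero A)⟩
  else (exists_next P K hlift n (hH n) (T (n + 1))).choose
termination_by (b + 1 - n).toNat
decreasing_by omega
where mono_of_isZero {X Y : A} (hX : IsZero X) {f : X ⟶ Y} : Mono f :=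
  ⟨fun _ _ _ => hX.eq_of_tgt _ _⟩

include hlift hH in
theorem exists_subcomplex [K.IsStrictlyLE b] :
    ∃ (L : CochainComplex A ℤ) (f : L ⟶ K), QuasiIso f ∧ L.IsStrictlyLE b ∧ ∀ n, P (L.X n) := by
  classical
  let S : ∀ n, St P K n := T P K hlift b hH
  have hzero : ∀ n, b < n → IsZero (S n).L := fun n hn => by
    show IsZero (T P K hlift b hH n).L
    rw [T, dif_pos hn]
    exact isZero_zero A
  have hrel : ∀ n : ℤ, ((S n).i ≫ K.d n (n + 1) ≫ cokernel.π (S (n + 1)).i = 0) ∧
      (∃ (Y : A) (c : Y ⟶ K.cycles n) (e : Y ⟶ (S n).L),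
        Epi (c ≫ K.homologyπ n) ∧ e ≫ (S n).i = c ≫ K.iCycles n) ∧
      ∀ ⦃U : A⦄ (x : U ⟶ (S (n + 1)).L) (y : U ⟶ K.X n), x ≫ (S (n + 1)).i = y ≫ K.d n (n + 1) →
        ∃ (U' : A) (p : U' ⟶ U) (_ : Epi p) (z : U' ⟶ (S n).L),
          p ≫ x ≫ (S (n + 1)).i = z ≫ (S n).i ≫ K.d n (n + 1) := by
    intro n
    by_cases hn : b < n
    · refine ⟨(hzero n hn).eq_of_src _ _, ⟨(S n).L, 0, 𝟙 _, ?_, (hzero n hn).eq_of_src _ _⟩,
        fun U x y _ => ⟨U, 𝟙 U, inferInstance, 0, ?_⟩⟩
      · have : IsZero (K.homology n) :=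
          (ExactAt.of_isZero (K.isZero_of_isStrictlyLE b n hn)).isZero_homology
        exact ⟨fun _ _ _ => this.eq_of_src _ _⟩
      · rw [(hzero (n + 1) (by omega)).eq_of_tgt x 0]; simp
    · have e : S n = (exists_next P K hlift n (hH n) (S (n + 1))).choose := by
        show T P K hlift b hH n = _
        rw [T, dif_neg hn]
      rw [e]
      exact (exists_next P K hlift n (hH n) (S (n + 1))).choose_spec
  have : ∀ n, Mono (S n).i := fun n => (S n).mono
  let d : ∀ n, (S n).L ⟶ (S (n + 1)).L := fun n =>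
    Abelian.monoLift (S (n + 1)).i ((S n).i ≫ K.d n (n + 1))
      (by rw [Category.assoc]; exact (hrel n).1)
  have hd : ∀ n, d n ≫ (S (n + 1)).i = (S n).i ≫ K.d n (n + 1) := fun n =>
    Abelian.monoLift_comp _ _ _
  have dd : ∀ n, d n ≫ d (n + 1) = 0 := fun n => by
    rw [← cancel_mono (S (n + 1 + 1)).i, Category.assoc, hd, ← Category.assoc, hd]
    simp
  let L : CochainComplex A ℤ := CochainComplex.of (fun n => (S n).L) d dd
  have Ld : ∀ n, L.d n (n + 1) = d n := fun n => CochainComplex.of_d (fun n => (S n).L) d n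
  let f : L ⟶ K :=
    { f := fun n => (S n).i
      comm' := fun i j hij => by
        obtain rfl : i + 1 = j := hij
        rw [Ld]
        exact (hd i).symm }
  refine ⟨L, f, ?_, ?_, fun n => (S n).hP⟩
  · constructor
    intro n
    rw [quasiIsoAt_iff_isIso_homologyMap]
    haveI : Mono (homologyMap f n) := by
      refine Preadditive.mono_of_cancel_zero _ fun {U} a ha => ?_
      obtain ⟨r, rfl⟩ : ∃ r, n = r + 1 := ⟨n - 1, by simp⟩
      obtain ⟨U₁, p₁, hp₁, z, hz⟩ := surjective_up_to_refinements_of_epi (L.homologyπ (r + 1)) a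
      have h0 : (z ≫ cyclesMap f (r + 1)) ≫ K.homologyπ (r + 1) = 0 := by
        rw [Category.assoc, ← homologyπ_naturality, ← Category.assoc, ← hz, Category.assoc, ha,
          comp_zero]
      obtain ⟨U₂, p₂, hp₂, y, hy⟩ :=
        (K.comp_homologyπ_eq_zero_iff_up_to_refinements r (r + 1) (by simp) _).1 h0
      have hxy : (p₂ ≫ z ≫ L.iCycles (r + 1)) ≫ (S (r + 1)).i = y ≫ K.d r (r + 1) := by
        have := hy =≫ K.iCycles (r + 1)
        simpa [f] using this
      obtain ⟨U₃, p₃, hp₃, w, hw⟩ := (hrel r).2.2 _ y hxy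
      have key : p₃ ≫ p₂ ≫ z = w ≫ L.toCycles r (r + 1) := by
        rw [← cancel_mono (L.iCycles (r + 1)), Category.assoc, Category.assoc, Category.assoc,
          toCycles_i, Ld, ← cancel_mono (S (r + 1)).i]
        simp only [Category.assoc, hd]
        simpa only [Category.assoc] using hw
      rw [← cancel_epi (p₃ ≫ p₂ ≫ p₁), comp_zero, Category.assoc, Category.assoc, hz,
        ← Category.assoc p₂, ← Category.assoc, key, Category.assoc, toCycles_comp_homologyπ,
        comp_zero]
    haveI : Epi (homologyMap f n) := by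
      obtain ⟨Y, c, e, hc, he⟩ := (hrel n).2.1
      have he' : e ≫ L.d n (n + 1) = 0 := by
        rw [Ld, ← cancel_mono (S (n + 1)).i, Category.assoc, hd, ← Category.assoc, he]
        simp
      have h : L.liftCycles e (n + 1) (by simp) he' ≫ cyclesMap f n = c := by
        rw [← cancel_mono (K.iCycles n)]
        simp [f, he]
      haveI : Epi ((L.liftCycles e (n + 1) (by simp) he' ≫ L.homologyπ n) ≫ homologyMap f n) := by
        rw [Category.assoc, homologyπ_naturality, ← Category.assoc, h]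
        exact hc
      exact epi_of_epi (L.liftCycles e (n + 1) (CochainComplex.next ℤ n) he' ≫ L.homologyπ n) _
    exact isIso_of_mono_of_epi _
  · rw [CochainComplex.isStrictlyLE_iff]
    exact fun n hn => hzero n hn

/-- A complex with terms in the class is a complex in the full subcategory. -/
theorem exists_lift_fullSubcategory [P.ι.PreservesZeroMorphisms] (L : CochainComplex A ℤ)
    (hL : ∀ n, P (L.X n)) :
    ∃ L' : CochainComplex P.FullSubcategory ℤ,
      Nonempty ((P.ι.mapHomologicalComplex (ComplexShape.up ℤ)).obj L' ≅ L) := by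
  refine ⟨{ X := fun n => ⟨L.X n, hL n⟩
            d := fun i j => ObjectProperty.homMk (L.d i j)
            shape := fun i j h => by ext; exact L.shape i j h
            d_comp_d' := fun i j k _ _ => by ext; exact L.d_comp_d i j k }, ⟨?_⟩⟩
  exact Hom.isoOfComponents (fun n => Iso.refl _) (fun i j _ => by
    dsimp
    rw [Category.id_comp, Category.comp_id]
    rfl)

end

section Equivalence

set_option linter.unusedSectionVars false

variable [HasDerivedCategory.{w} A] (P : ObjectProperty A) [P.IsSerreClass]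
  [P.IsClosedUnderKernels] [P.IsClosedUnderCokernels]
  [P.IsClosedUnderFiniteProducts] [HasDerivedCategory.{w'} P.FullSubcategory]
  [PreservesFiniteLimits P.ι] [PreservesFiniteColimits P.ι]
  (hlift : ∀ (X Y : A) (π : X ⟶ Y), Epi π → P Y → ∃ (X' : A) (i : X' ⟶ X), Mono i ∧ P X' ∧ Epi (i ≫ π))

include hlift in
/-- A bounded above complex quasi-isomorphic to a complex in the class has a resolution in the class. -/
theorem exists_res (b : ℤ) (K : CochainComplex A ℤ) [K.IsStrictlyLE b]
    (hH : ∀ n, P (K.homology n)) :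
    ∃ (L : CochainComplex P.FullSubcategory ℤ)
      (f : (P.ι.mapHomologicalComplex (ComplexShape.up ℤ)).obj L ⟶ K),
      L.IsStrictlyLE b ∧ QuasiIso f := by
  obtain ⟨L₀, f₀, hf₀, hle, hP⟩ := exists_subcomplex P K hlift b hH
  obtain ⟨L, ⟨e⟩⟩ := exists_lift_fullSubcategory P L₀ hP
  refine ⟨L, e.hom ≫ f₀, ?_, inferInstance⟩
  rw [CochainComplex.isStrictlyLE_iff]
  intro n hn
  have h : IsZero (P.ι.obj (L.X n)) :=
    (L₀.isZero_of_isStrictlyLE b n hn).of_iso ((eval A (ComplexShape.up ℤ) n).mapIso e)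
  rw [IsZero.iff_id_eq_zero]
  exact P.ι.map_injective (by rw [CategoryTheory.Functor.map_id, Functor.map_zero]; exact h.eq_of_src _ _)

theorem prop_homology_map (L : CochainComplex P.FullSubcategory ℤ) (n : ℤ) :
    P (((P.ι.mapHomologicalComplex (ComplexShape.up ℤ)).obj L).homology n) :=
  P.prop_of_iso (((L.sc n).mapHomologyIso P.ι).symm) (L.homology n).property

theorem isStrictlyLE_map (b : ℤ) (L : CochainComplex P.FullSubcategory ℤ) [L.IsStrictlyLE b] :
    CochainComplex.IsStrictlyLE ((P.ι.mapHomologicalComplex (ComplexShape.up ℤ)).obj L) b := by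
  rw [CochainComplex.isStrictlyLE_iff]
  exact fun n hn => P.ι.map_isZero (L.isZero_of_isStrictlyLE b n hn)

theorem isZero_of_map {X : P.FullSubcategory} (h : IsZero (P.ι.obj X)) : IsZero X := by
  rw [IsZero.iff_id_eq_zero]
  exact P.ι.map_injective (by rw [CategoryTheory.Functor.map_id, Functor.map_zero]; exact h.eq_of_src _ _)

local notation "FK" => P.ι.mapHomologicalComplex (ComplexShape.up ℤ)

theorem Q_map_eq_zero_of_homotopy {B : Type*} [Category B] [Abelian B] [HasDerivedCategory B]
    {X Y : CochainComplex B ℤ} {f : X ⟶ Y} (h : Homotopy f 0) :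
    DerivedCategory.Q.map f = 0 := by
  rw [DerivedCategory.Q_map_eq_of_homotopy _ h, Functor.map_zero]

theorem exists_homotopy_of_Q_map_eq_zero {B : Type*} [Category B] [Abelian B]
    [HasDerivedCategory B] {X Y : CochainComplex B ℤ} (f : X ⟶ Y)
    (h : DerivedCategory.Q.map f = 0) :
    ∃ (Z : CochainComplex B ℤ) (t : Z ⟶ X), QuasiIso t ∧ Nonempty (Homotopy (t ≫ f) 0) := by
  have h' : DerivedCategory.Qh.map ((HomotopyCategory.quotient B _).map f) =
      DerivedCategory.Qh.map ((HomotopyCategory.quotient B _).map 0) := by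
    rw [← cancel_mono ((DerivedCategory.quotientCompQhIso B).hom.app Y)]
    rw [DerivedCategory.quotientCompQhIso_hom_naturality,
      DerivedCategory.quotientCompQhIso_hom_naturality, h, Functor.map_zero]
  obtain ⟨Z, s, hs, fac⟩ := (MorphismProperty.map_eq_iff_precomp DerivedCategory.Qh
    (HomotopyCategory.quasiIso B (ComplexShape.up ℤ)) _ _).1 h'
  obtain ⟨Z, rfl⟩ := HomotopyCategory.quotient_obj_surjective Z
  obtain ⟨s, rfl⟩ := (HomotopyCategory.quotient _ _).map_surjective s
  refine ⟨Z, s, by simpa [HomotopyCategory.quotient_map_mem_quasiIso_iff] using hs, ?_⟩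
  rw [← Functor.map_comp, ← Functor.map_comp, comp_zero] at fac
  exact ⟨HomotopyCategory.homotopyOfEq _ _ fac⟩

noncomputable def reflectHomotopy {X Y : CochainComplex P.FullSubcategory ℤ} {f g : X ⟶ Y}
    (h : Homotopy ((FK).map f) ((FK).map g)) : Homotopy f g where
  hom i j := ObjectProperty.homMk (h.hom i j)
  zero i j hij := by ext; exact h.zero i j hij
  comm i := by
    ext
    have := h.comm i
    simp only [dNext_eq _ (show (ComplexShape.up ℤ).Rel i (i + 1) from rfl),
      prevD_eq _ (show (ComplexShape.up ℤ).Rel (i - 1) i from sub_add_cancel i 1)] at this ⊢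
    exact this

include hlift in
theorem bijective_map (M N : DerivedCategory P.FullSubcategory) (b : ℤ) [M.IsLE b] [N.IsLE b] :
    Function.Bijective (fun φ : M ⟶ N => P.ι.mapDerivedCategory.map φ) := by
  obtain ⟨X, hX, ⟨eM⟩⟩ := M.exists_iso_Q_obj_of_isLE b
  obtain ⟨Y, hY, ⟨eN⟩⟩ := N.exists_iso_Q_obj_of_isLE b
  let G := P.ι.mapDerivedCategory
  let Φ := P.ι.mapDerivedCategoryFactors
  have nat : ∀ {U V : CochainComplex P.FullSubcategory ℤ} (g : U ⟶ V),
      G.map (DerivedCategory.Q.map g) =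
        Φ.hom.app U ≫ DerivedCategory.Q.map ((FK).map g) ≫ Φ.inv.app V := fun g => by
    rw [← Category.assoc, ← P.ι.mapDerivedCategoryFactors_hom_naturality g, Category.assoc]
    exact (by simp [G, Φ])
  suffices Function.Bijective
      (fun φ : DerivedCategory.Q.obj X ⟶ DerivedCategory.Q.obj Y => G.map φ) by
    constructor
    · intro φ₁ φ₂ e
      have := this.1 (a₁ := eM.inv ≫ φ₁ ≫ eN.hom) (a₂ := eM.inv ≫ φ₂ ≫ eN.hom)
        (by simp only [Functor.map_comp]; rw [show G.map φ₁ = G.map φ₂ from e])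
      simpa using this
    · intro ψ
      obtain ⟨φ, hφ⟩ := this.2 (G.map eM.inv ≫ ψ ≫ G.map eN.hom)
      refine ⟨eM.hom ≫ φ ≫ eN.inv, ?_⟩
      show G.map _ = ψ
      simp only [Functor.map_comp]
      rw [show G.map φ = _ from hφ]
      simp [← Functor.map_comp, ← Functor.map_comp_assoc]
      exact Category.comp_id ψ
  haveI := hX
  haveI := hY
  constructor
  · intro φ₁ φ₂ e
    replace e : G.map (φ₁ - φ₂) = 0 := by rw [Functor.map_sub]; exact sub_eq_zero.2 e
    rw [← sub_eq_zero]
    generalize φ₁ - φ₂ = φ at e ⊢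
    obtain ⟨X', hX', s, hs, g, rfl⟩ := DerivedCategory.right_fac_of_isStrictlyLE φ b
    have hg : G.map (DerivedCategory.Q.map g) = 0 := by
      rwa [Functor.map_comp, Preadditive.IsIso.comp_left_eq_zero] at e
    have hg' : DerivedCategory.Q.map ((FK).map g) = 0 := by
      rw [nat g] at hg
      rwa [Preadditive.IsIso.comp_left_eq_zero, Preadditive.IsIso.comp_right_eq_zero] at hg
    obtain ⟨Z, t, ht, ⟨ho⟩⟩ := exists_homotopy_of_Q_map_eq_zero _ hg'
    haveI := hX'
    haveI := isStrictlyLE_map P b X'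
    haveI : QuasiIso (CochainComplex.truncLEMap t b ≫
        CochainComplex.ιTruncLE ((FK).obj X') b) := by
      haveI : QuasiIso (CochainComplex.truncLEMap t b) := by
        rw [CochainComplex.quasiIso_truncLEMap_iff]
        intro i _
        exact ht.quasiIsoAt i
      infer_instance
    haveI : QuasiIso (Z.ιTruncLE b) := by
      haveI : QuasiIso (Z.ιTruncLE b ≫ t) := by
        rw [← CochainComplex.ιTruncLE_naturality]; infer_instance
      exact quasiIso_of_comp_right _ t
    have hZH : ∀ n, P ((Z.truncLE b).homology n) := fun n =>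
      haveI : IsIso (homologyMap (Z.ιTruncLE b ≫ t) n) := inferInstance
      P.prop_of_iso (asIso (homologyMap (Z.ιTruncLE b ≫ t) n)).symm (prop_homology_map P X' n)
    obtain ⟨L, r, hL, hr⟩ := exists_res P hlift b (Z.truncLE b) hZH
    let u : L ⟶ X' := (FK).preimage (r ≫ Z.ιTruncLE b ≫ t)
    have hu : (FK).map u = r ≫ Z.ιTruncLE b ≫ t := Functor.map_preimage _ _
    haveI : QuasiIso u := by
      rw [← quasiIso_map_iff_of_preservesHomology u P.ι, hu]
      infer_instance
    have hug : DerivedCategory.Q.map u ≫ DerivedCategory.Q.map g = 0 := by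
      rw [← Functor.map_comp]
      refine Q_map_eq_zero_of_homotopy (reflectHomotopy P (Homotopy.trans (Homotopy.ofEq ?_)
        (Homotopy.trans (ho.compLeft (r ≫ Z.ιTruncLE b)) (Homotopy.ofEq ?_))))
      · rw [Functor.map_comp, hu]; simp
      · simp
    rw [Preadditive.IsIso.comp_left_eq_zero] at hug
    simp [hug]
  · intro ψ
    haveI := isStrictlyLE_map P b X
    obtain ⟨X', hX', s, hs, g, hfac⟩ := DerivedCategory.right_fac_of_isStrictlyLE
      (X := (FK).obj X) (Y := (FK).obj Y) (f := Φ.inv.app X ≫ ψ ≫ Φ.hom.app Y) b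
    rw [DerivedCategory.isIso_Q_map_iff_quasiIso] at hs
    haveI := hX'
    have hH : ∀ n, P (X'.homology n) := fun n =>
      haveI : IsIso (homologyMap s n) := inferInstance
      P.prop_of_iso (asIso (homologyMap s n)).symm (prop_homology_map P X n)
    obtain ⟨L, r, hL, hr⟩ := exists_res P hlift b X' hH
    let u : L ⟶ X := (FK).preimage (r ≫ s)
    let k : L ⟶ Y := (FK).preimage (r ≫ g)
    have hu : (FK).map u = r ≫ s := Functor.map_preimage _ _
    have hk : (FK).map k = r ≫ g := Functor.map_preimage _ _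
    haveI : QuasiIso u := by
      rw [← quasiIso_map_iff_of_preservesHomology u P.ι, hu]
      infer_instance
    refine ⟨inv (DerivedCategory.Q.map u) ≫ DerivedCategory.Q.map k, ?_⟩
    show G.map _ = ψ
    rw [Functor.map_comp, Functor.map_inv, IsIso.inv_comp_eq, nat u, nat k, hu, hk,
      Functor.map_comp, Functor.map_comp]
    rw [← cancel_mono (Φ.hom.app Y)]
    have h2 : Φ.inv.app X ≫ ψ ≫ Φ.hom.app Y =
        inv (DerivedCategory.Q.map s) ≫ DerivedCategory.Q.map g := hfac
    simp only [Category.assoc]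
    rw [h2]
    simp

include hlift in
theorem essImage (K : DerivedCategory A) (b : ℤ) [K.IsLE b]
    (hH : ∀ n : ℤ, P ((DerivedCategory.homologyFunctor A n).obj K)) :
    ∃ M : DerivedCategory P.FullSubcategory, M.IsLE b ∧
      Nonempty (P.ι.mapDerivedCategory.obj M ≅ K) := by
  obtain ⟨K₀, hK₀, ⟨e⟩⟩ := K.exists_iso_Q_obj_of_isLE b
  haveI := hK₀
  have hH₀ : ∀ n, P (K₀.homology n) := fun n =>
    P.prop_of_iso ((DerivedCategory.homologyFunctor A n).mapIso e ≪≫
      (DerivedCategory.homologyFunctorFactors A n).app K₀) (hH n)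
  obtain ⟨L, f, hL, hf⟩ := exists_res P hlift b K₀ hH₀
  haveI := hL
  exact ⟨DerivedCategory.Q.obj L, inferInstance,
    ⟨P.ι.mapDerivedCategoryFactors.app L ≪≫ asIso (DerivedCategory.Q.map f) ≪≫ e.symm⟩⟩

end Equivalence

end Groth.Agent.CommAlg4.SerreSubRes
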