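import Mathlib

set_option autoImplicit false

/-! A smooth algebra graded by a sharp cancellative f.g. monoid is a symmetric algebra over its
degree-zero part. -/

universe u

open TensorProduct

namespace Groth.Agent.CommAlg4.SharpGraded

theorem wf_sharp (N : Type) [AddCommMonoid N] [AddMonoid.FG N] [IsCancelAdd N]
    (hsharp : ∀ n : N, IsAddUnit n → n = 0) :
    WellFounded (fun p n : N => ∃ q : N, q ≠ 0 ∧ p + q = n) := by
  classical
  obtain ⟨k, v, hv⟩ : ∃ (k : ℕ) (v : Fin k → N), ∀ n : N, ∃ c : Fin k → ℕ, ∑ i, c i • v i = n := by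
    obtain ⟨S, hS⟩ := (AddMonoid.FG.fg_top : (⊤ : AddSubmonoid N).FG)
    refine ⟨S.card, fun i => (S.equivFin.symm i : N), fun n => ?_⟩
    have hn : n ∈ AddSubmonoid.closure (S : Set N) := hS ▸ AddSubmonoid.mem_top n
    induction hn using AddSubmonoid.closure_induction with
    | mem x hx =>
      refine ⟨Pi.single (S.equivFin ⟨x, hx⟩) 1, ?_⟩
      rw [Finset.sum_eq_single (S.equivFin ⟨x, hx⟩)]
      · simp
      · intro b _ hb
        simp [hb]
      · simp
    | zero => exact ⟨0, by simp⟩
    | add x y _ _ hx hy =>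
      obtain ⟨c, hc⟩ := hx
      obtain ⟨d, hd⟩ := hy
      exact ⟨c + d, by simp [add_smul, Finset.sum_add_distrib, hc, hd]⟩
  rw [wellFounded_iff_isEmpty_descending_chain]
  refine ⟨fun ⟨f, hf⟩ => ?_⟩
  choose q hq0 hq using hf
  choose c hc using hv
  obtain ⟨i, j, hij, hle⟩ := wellQuasiOrdered_le (fun m => c (f m))
  obtain ⟨r, hr⟩ : ∃ r, f j = f i + r := by
    refine ⟨∑ l, (c (f j) l - c (f i) l) • v l, ?_⟩
    calc f j = ∑ l, c (f j) l • v l := (hc _).symm
      _ = ∑ l, (c (f i) l • v l + (c (f j) l - c (f i) l) • v l) :=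
          Finset.sum_congr rfl fun l _ => by rw [← add_smul, Nat.add_sub_cancel' (hle l)]
      _ = _ := by rw [Finset.sum_add_distrib, hc]
  have tel : ∀ m, i < m → ∃ s, f i = f m + (q i + s) := by
    intro m hm
    induction m, hm using Nat.le_induction with
    | base => exact ⟨0, by rw [add_zero]; exact (hq i).symm⟩
    | succ m hm ih =>
      obtain ⟨s, hs⟩ := ih
      refine ⟨q m + s, ?_⟩
      rw [hs, ← hq m]
      ac_rfl
  obtain ⟨s, hs⟩ := tel j hij
  have h0 : r + (q i + s) = 0 := by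
    have h : f i + (r + (q i + s)) = f i + 0 := by
      rw [add_zero, ← add_assoc, ← hr, ← hs]
    exact add_left_cancel h
  apply hq0 i
  apply hsharp
  exact (AddUnits.mkOfAddEqZero (q i) (r + s) (by rw [← h0]; ac_rfl)).isAddUnit

section Sym

open SymmetricAlgebra

variable {B : Type u} [CommRing B] {P : Type u} [AddCommGroup P] [Module B P]

/-- the augmentation ideal -/
noncomputable def aug (B P : Type u) [CommRing B] [AddCommGroup P] [Module B P] :
    Ideal (SymmetricAlgebra B P) :=
  RingHom.ker (algebraMapInv : SymmetricAlgebra B P →ₐ[B] B)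

theorem mem_aug {y : SymmetricAlgebra B P} : y ∈ aug B P ↔ algebraMapInv y = 0 := Iff.rfl

theorem aug_decomp (y : SymmetricAlgebra B P) :
    ∃ p : P, y - algebraMap B _ (algebraMapInv y) - ι B P p ∈ aug B P ^ 2 := by
  induction y using SymmetricAlgebra.induction with
  | algebraMap r => exact ⟨0, by simp⟩
  | ι x => exact ⟨x, by simp [algebraMapInv_ι]⟩
  | add a b ha hb =>
    obtain ⟨p, hp⟩ := ha
    obtain ⟨q, hq⟩ := hb
    refine ⟨p + q, ?_⟩
    convert Ideal.add_mem _ hp hq using 1
    simp only [map_add]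
    ring
  | mul a b ha hb =>
    obtain ⟨p, hp⟩ := ha
    obtain ⟨q, hq⟩ := hb
    refine ⟨algebraMapInv a • q + algebraMapInv b • p, ?_⟩
    have h1 : a - algebraMap B _ (algebraMapInv a) ∈ aug B P := by simp [mem_aug, AlgHom.commutes]
    have h2 : b - algebraMap B _ (algebraMapInv b) ∈ aug B P := by simp [mem_aug, AlgHom.commutes]
    have h3 : (a - algebraMap B _ (algebraMapInv a)) * (b - algebraMap B _ (algebraMapInv b)) ∈
        aug B P ^ 2 := by
      rw [pow_two]
      exact Ideal.mul_mem_mul h1 h2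
    convert Ideal.add_mem _ (Ideal.add_mem _ h3
      (Ideal.mul_mem_left _ (algebraMap B _ (algebraMapInv a)) hq))
      (Ideal.mul_mem_left _ (algebraMap B _ (algebraMapInv b)) hp) using 1
    simp only [map_add, map_mul, map_smul, Algebra.smul_def]
    ring

theorem aug_iInf {y : SymmetricAlgebra B P} (hy : ∀ j : ℕ, y ∈ aug B P ^ j) : y = 0 := by
  let θ : SymmetricAlgebra B P →ₐ[B] Polynomial (SymmetricAlgebra B P) :=
    lift (LinearMap.mulRight B (Polynomial.X : Polynomial (SymmetricAlgebra B P)) ∘ₗ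
      ((Polynomial.CAlgHom (R := B) (A := SymmetricAlgebra B P)).toLinearMap ∘ₗ ι B P))
  have h1 : ((Polynomial.aeval (1 : SymmetricAlgebra B P)).restrictScalars B).comp θ = AlgHom.id B _ := by
    apply SymmetricAlgebra.algHom_ext
    ext x
    simp [θ, Polynomial.CAlgHom]
  have h2 : ∀ z, Polynomial.constantCoeff (θ z) = algebraMap B _ (algebraMapInv z) := by
    intro z
    induction z using SymmetricAlgebra.induction with
    | algebraMap r => simp [AlgHom.commutes, Polynomial.algebraMap_apply]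
    | ι x => simp [θ, algebraMapInv_ι]
    | add a b ha hb => simp only [map_add, ha, hb]
    | mul a b ha hb => simp only [map_mul, ha, hb]
  have h3 : (aug B P).map θ ≤ Ideal.span {(Polynomial.X : Polynomial (SymmetricAlgebra B P))} := by
    rw [Ideal.map_le_iff_le_comap]
    intro z hz
    rw [Ideal.mem_comap, Ideal.mem_span_singleton, Polynomial.X_dvd_iff,
      ← Polynomial.constantCoeff_apply, h2, mem_aug.mp hz, map_zero]
  have h4 : θ y = 0 := by
    by_contra h
    have h5 : θ y ∈ (aug B P ^ ((θ y).natDegree + 1)).map θ := Ideal.mem_map_of_mem θ (hy _)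
    rw [Ideal.map_pow] at h5
    have h6 := (Ideal.pow_right_mono h3 _) h5
    rw [Ideal.span_singleton_pow, Ideal.mem_span_singleton] at h6
    exact h (Polynomial.leadingCoeff_eq_zero.mp
      (Polynomial.X_pow_dvd_iff.mp h6 _ (Nat.lt_succ_self _)))
  have := congrArg ((Polynomial.aeval (1 : SymmetricAlgebra B P)).restrictScalars B) h4
  rw [map_zero] at this
  exact (AlgHom.congr_fun h1 y).symm.trans this

end Sym

section Main

variable {R A B : Type u} [CommRing R] [CommRing A] [CommRing B] [Algebra R A] [Algebra R B]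
  [Algebra B A] [IsScalarTower R B A] {N : Type} [AddCommMonoid N] [DecidableEq N] [IsCancelAdd N]
  (𝒜 : N → Submodule R A) [GradedAlgebra 𝒜] (ε : A →ₐ[B] B)

theorem pr_mul_homog {p n : N} {a : A} (ha : a ∈ 𝒜 p) (z : A) {q : N} (hz : z ∈ 𝒜 q) :
    GradedAlgebra.proj 𝒜 n (a * z) = if p + q = n then a * z else 0 := by
  rw [GradedAlgebra.proj_apply]
  split_ifs with h
  · subst h
    exact DirectSum.decompose_of_mem_same 𝒜 (SetLike.mul_mem_graded ha hz)
  · exact DirectSum.decompose_of_mem_ne 𝒜 (SetLike.mul_mem_graded ha hz) h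

variable (hB : ∀ b : B, algebraMap B A b ∈ 𝒜 0)

include hB in
theorem pr_smul (n : N) (b : B) (z : A) :
    GradedAlgebra.proj 𝒜 n (b • z) = b • GradedAlgebra.proj 𝒜 n z := by
  induction z using DirectSum.Decomposition.inductionOn 𝒜 with
  | zero => simp
  | @homogeneous q z =>
    rw [Algebra.smul_def, pr_mul_homog 𝒜 (hB b) (z : A) z.2, zero_add, Algebra.smul_def]
    split_ifs with h
    · subst h
      rw [GradedAlgebra.proj_apply, DirectSum.decompose_of_mem_same 𝒜 z.2]
    · rw [GradedAlgebra.proj_apply, DirectSum.decompose_of_mem_ne 𝒜 z.2 h, mul_zero]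
  | add x y hx hy => simp only [smul_add, map_add, hx, hy]

/-- projection to degree n, linear over the degree zero base -/
noncomputable def pr (n : N) : A →ₗ[B] A where
  toFun := GradedAlgebra.proj 𝒜 n
  map_add' := map_add _
  map_smul' := pr_smul 𝒜 hB n

theorem pr_apply (n : N) (a : A) : pr 𝒜 hB n a = GradedAlgebra.proj 𝒜 n a := rfl

theorem pr_mem (n : N) (a : A) : pr 𝒜 hB n a ∈ 𝒜 n := by
  rw [pr_apply, GradedAlgebra.proj_apply]
  exact SetLike.coe_mem _

theorem pr_same {n : N} {a : A} (ha : a ∈ 𝒜 n) : pr 𝒜 hB n a = a := by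
  rw [pr_apply, GradedAlgebra.proj_apply, DirectSum.decompose_of_mem_same 𝒜 ha]

theorem pr_ne {n m : N} {a : A} (ha : a ∈ 𝒜 n) (h : n ≠ m) : pr 𝒜 hB m a = 0 := by
  rw [pr_apply, GradedAlgebra.proj_apply, DirectSum.decompose_of_mem_ne 𝒜 ha h]

variable (hε : ∀ n : N, n ≠ 0 → ∀ a ∈ 𝒜 n, ε a = 0) (h0 : ∀ a ∈ 𝒜 0, algebraMap B A (ε a) = a)

include hε h0 in
theorem pr_zero (a : A) : pr 𝒜 hB 0 a = algebraMap B A (ε a) := by
  induction a using DirectSum.Decomposition.inductionOn 𝒜 with
  | zero => simp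
  | @homogeneous q z =>
    rcases eq_or_ne q 0 with rfl | h
    · rw [pr_same 𝒜 hB z.2, h0 _ z.2]
    · rw [pr_ne 𝒜 hB z.2 h, hε q h _ z.2, map_zero]
  | add x y hx hy => simp only [map_add, hx, hy]

include hε h0 in
theorem pr_sq_mem {n : N} (J : Submodule B A)
    (hJ : ∀ p q : N, p ≠ 0 → q ≠ 0 → p + q = n → ∀ a ∈ 𝒜 p, ∀ b ∈ 𝒜 q, a * b ∈ J)
    {x : A} (hx : x ∈ RingHom.ker ε ^ 2) : pr 𝒜 hB n x ∈ J := by
  classical
  rw [pow_two] at hx
  induction hx using Submodule.mul_induction_on' with
  | mem_mul_mem y hy z hz =>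
    have hy0 : pr 𝒜 hB 0 y = 0 := by rw [pr_zero 𝒜 ε hB hε h0, RingHom.mem_ker.mp hy, map_zero]
    have hz0 : pr 𝒜 hB 0 z = 0 := by rw [pr_zero 𝒜 ε hB hε h0, RingHom.mem_ker.mp hz, map_zero]
    rw [← DirectSum.sum_support_decompose 𝒜 y, ← DirectSum.sum_support_decompose 𝒜 z,
      Finset.sum_mul_sum, map_sum]
    refine Submodule.sum_mem _ fun p _ => ?_
    rw [map_sum]
    refine Submodule.sum_mem _ fun q _ => ?_
    rw [pr_apply, pr_mul_homog 𝒜 (SetLike.coe_mem _) _ (SetLike.coe_mem _)]
    split_ifs with h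
    · rcases eq_or_ne p 0 with rfl | hp
      · rw [show ((DirectSum.decompose 𝒜 y 0 : 𝒜 0) : A) = 0 from hy0, zero_mul]
        exact J.zero_mem
      rcases eq_or_ne q 0 with rfl | hq
      · rw [show ((DirectSum.decompose 𝒜 z 0 : 𝒜 0) : A) = 0 from hz0, mul_zero]
        exact J.zero_mem
      exact hJ p q hp hq h _ (SetLike.coe_mem _) _ (SetLike.coe_mem _)
    · exact J.zero_mem
  | add x hx y hy ihx ihy =>
    rw [map_add]
    exact J.add_mem ihx ihy

include hB hε h0 in
theorem symmetricAlgebra_equiv [AddMonoid.FG N] (hsharp : ∀ n : N, IsAddUnit n → n = 0)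
    [Algebra.Smooth R A] :
    ∃ (P : Type u) (_ : AddCommGroup P) (_ : Module B P), Module.Finite B P ∧
      Module.Projective B P ∧ Nonempty (A ≃ₐ[B] SymmetricAlgebra B P) := by
  classical
  have wf := wf_sharp N hsharp
  obtain ⟨S, hS⟩ := (Algebra.FiniteType.out : (⊤ : Subalgebra R A).FG)
  let I : Ideal A := RingHom.ker ε
  have hmemI : ∀ {n : N}, n ≠ 0 → ∀ {a : A}, a ∈ 𝒜 n → a ∈ I := fun hn _ ha => hε _ hn _ ha
  let D : Finset N := S.biUnion fun a => (DirectSum.decompose 𝒜 a).support.filter (· ≠ 0)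
  let G : Finset A := S.biUnion fun a => ((DirectSum.decompose 𝒜 a).support.filter (· ≠ 0)).image
    fun n => (DirectSum.decompose 𝒜 a n : A)
  have hG : ∀ g ∈ G, ∃ n ∈ D, n ≠ 0 ∧ g ∈ 𝒜 n := by
    intro g hg
    obtain ⟨a, ha, hg⟩ := Finset.mem_biUnion.mp hg
    obtain ⟨n, hn, rfl⟩ := Finset.mem_image.mp hg
    exact ⟨n, Finset.mem_biUnion.mpr ⟨a, ha, hn⟩, (Finset.mem_filter.mp hn).2, SetLike.coe_mem _⟩
  have hspan : I = Ideal.span (G : Set A) := by
    apply le_antisymm
    · intro a ha
      suffices h : a - algebraMap B A (ε a) ∈ Ideal.span (G : Set A) by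
        rwa [RingHom.mem_ker.mp ha, map_zero, sub_zero] at h
      clear ha
      have ha : a ∈ Algebra.adjoin R (S : Set A) := hS ▸ Algebra.mem_top
      induction ha using Algebra.adjoin_induction with
      | mem x hx =>
        have e : x - algebraMap B A (ε x) = ∑ n ∈ (DirectSum.decompose 𝒜 x).support,
            ((DirectSum.decompose 𝒜 x n : A) - algebraMap B A (ε (DirectSum.decompose 𝒜 x n : A))) := by
          conv_lhs => rw [← DirectSum.sum_support_decompose 𝒜 x]
          rw [map_sum, map_sum, ← Finset.sum_sub_distrib]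
        rw [e]
        refine Ideal.sum_mem _ fun n hn => ?_
        rcases eq_or_ne n 0 with rfl | hne
        · rw [h0 _ (SetLike.coe_mem _), sub_self]
          exact Ideal.zero_mem _
        · rw [hε n hne _ (SetLike.coe_mem _), map_zero, sub_zero]
          refine Ideal.subset_span ?_
          rw [Finset.mem_coe, Finset.mem_biUnion]
          exact ⟨x, hx, Finset.mem_image.mpr ⟨n, Finset.mem_filter.mpr ⟨hn, hne⟩, rfl⟩⟩
      | algebraMap r =>
        rw [IsScalarTower.algebraMap_apply R B A, AlgHom.commutes, Algebra.algebraMap_self_apply, sub_self]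
        exact Ideal.zero_mem _
      | add x y _ _ hx hy =>
        convert Ideal.add_mem _ hx hy using 1
        simp only [map_add]
        ring
      | mul x y _ _ hx hy =>
        convert Ideal.add_mem _ (Ideal.mul_mem_right y _ hx)
          (Ideal.mul_mem_left _ (algebraMap B A (ε x)) hy) using 1
        simp only [map_mul]
        ring
    · rw [Ideal.span_le]
      intro g hg
      obtain ⟨n, -, hn, hgn⟩ := hG g hg
      exact hmemI hn hgn
  -- the action on the cotangent space factors through ε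
  have hact : ∀ (a : A) (x : I.Cotangent), a • x = ε a • x := by
    intro a x
    obtain ⟨y, rfl⟩ := I.toCotangent_surjective x
    rw [← algebraMap_smul A (ε a) (I.toCotangent y), ← map_smul, ← map_smul, Ideal.toCotangent_eq]
    have ha : a - algebraMap B A (ε a) ∈ I := by
      change ε (a - algebraMap B A (ε a)) = 0
      simp [AlgHom.commutes]
    have := Ideal.mul_mem_mul ha y.2
    rw [← pow_two] at this
    convert this using 1
    simp [sub_mul, smul_eq_mul, Algebra.smul_def]
  let mk : I →ₗ[B] I.Cotangent := I.toCotangent.restrictScalars B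
  have hmksurj : Function.Surjective mk := I.toCotangent_surjective
  have hgenP : Submodule.span B (Set.range fun g : G => mk ⟨g.1, hspan ▸ Ideal.subset_span g.2⟩) = ⊤ := by
    rw [eq_top_iff]
    rintro x -
    obtain ⟨⟨y, hy⟩, rfl⟩ := hmksurj x
    have hy' : y ∈ Ideal.span (G : Set A) := hspan ▸ hy
    induction hy' using Submodule.span_induction with
    | mem g hg => exact Submodule.subset_span ⟨⟨g, hg⟩, rfl⟩
    | zero => exact (show (⟨0, hy⟩ : I) = 0 from rfl) ▸ (map_zero mk).symm ▸ Submodule.zero_mem _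
    | add a b ha hb iha ihb =>
      have ha' : a ∈ I := hspan ▸ ha
      have hb' : b ∈ I := hspan ▸ hb
      rw [show (⟨a + b, hy⟩ : I) = ⟨a, ha'⟩ + ⟨b, hb'⟩ from rfl, map_add]
      exact Submodule.add_mem _ (iha ha') (ihb hb')
    | smul c a ha iha =>
      have ha' : a ∈ I := hspan ▸ ha
      have : mk ⟨c • a, hy⟩ = c • mk ⟨a, ha'⟩ := I.toCotangent.map_smul c ⟨a, ha'⟩
      rw [this, hact]
      exact Submodule.smul_mem _ _ (iha ha')
  haveI hfin : Module.Finite B I.Cotangent :=
    ⟨hgenP ▸ Submodule.fg_span (Set.finite_range _)⟩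
  -- projectivity
  haveI hproj : Module.Projective B I.Cotangent := by
    let εR : A →ₐ[R] B := ε.restrictScalars R
    have hfsB : Algebra.FormallySmooth R B := by
      refine Algebra.FormallySmooth.of_split εR
        ((Ideal.Quotient.mkₐ R _).comp (IsScalarTower.toAlgHom R B A)) ?_
      ext b
      exact ε.commutes b
    letI : Algebra A B := εR.toRingHom.toAlgebra
    haveI : IsScalarTower R A B := IsScalarTower.of_algebraMap_eq fun r => (εR.commutes r).symm
    have hf : Function.Surjective (algebraMap A B) := fun b => ⟨algebraMap B A b, ε.commutes b⟩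
    obtain ⟨l, hl⟩ := (Algebra.FormallySmooth.iff_split_injection (R := R) (P := A) (A := B) hf).mp hfsB
    have hs : ∀ (b : B) (x : B ⊗[A] Ω[A⁄R]), algebraMap B A b • x = b • x := by
      intro b x
      rw [← algebraMap_smul B (algebraMap B A b) x]
      congr 1
      exact ε.commutes b
    let i : I.Cotangent →ₗ[B] B ⊗[A] Ω[A⁄R] :=
      { toFun := KaehlerDifferential.kerCotangentToTensor R A B
        map_add' := fun x y => map_add _ x y
        map_smul' := fun b x => by
          rw [← algebraMap_smul A b x]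
          exact ((KaehlerDifferential.kerCotangentToTensor R A B).map_smul _ x).trans (hs b _) }
    let l' : B ⊗[A] Ω[A⁄R] →ₗ[B] I.Cotangent :=
      { toFun := l
        map_add' := fun x y => map_add _ x y
        map_smul' := fun b x => by
          rw [← hs b x]
          exact (l.map_smul _ x).trans (algebraMap_smul A b _) }
    exact Module.Projective.of_split i l' (LinearMap.ext fun x => LinearMap.congr_fun hl x)
  obtain ⟨s, hs⟩ := Module.projective_lifting_property mk LinearMap.id hmksurj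
  have hs' : ∀ x, mk (s x) = x := LinearMap.congr_fun hs
  let prI : N → (A →ₗ[B] I) := fun n =>
    if hn : n = 0 then 0 else (pr 𝒜 hB n).codRestrict (I.restrictScalars B)
      (fun a => hmemI hn (pr_mem 𝒜 hB n a))
  have prI_coe : ∀ n, n ≠ 0 → ∀ a, (prI n a : A) = pr 𝒜 hB n a := by
    intro n hn a
    rw [show prI n = (pr 𝒜 hB n).codRestrict (I.restrictScalars B)
      (fun a => hmemI hn (pr_mem 𝒜 hB n a)) from dif_neg hn]
    rfl
  let s1 : I.Cotangent →ₗ[B] I :=
    ∑ n ∈ D, prI n ∘ₗ (I.subtype.restrictScalars B) ∘ₗ s ∘ₗ mk ∘ₗ prI n ∘ₗ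
      (I.subtype.restrictScalars B) ∘ₗ s
  have hD : ∀ n ∈ D, n ≠ 0 := fun n hn => by
    obtain ⟨a, -, h⟩ := Finset.mem_biUnion.mp hn
    exact (Finset.mem_filter.mp h).2
  have hsq : ∀ (n : N) {x : A}, x ∈ I ^ 2 → pr 𝒜 hB n x ∈ I ^ 2 := fun n x hx =>
    (Submodule.restrictScalars_mem B (I ^ 2) _).mp <|
    pr_sq_mem 𝒜 ε hB hε h0 (n := n) (x := x) ((I ^ 2).restrictScalars B)
      (fun p q hp hq _ a ha b hb => by
        change a * b ∈ I ^ 2
        rw [pow_two]; exact Ideal.mul_mem_mul (hmemI hp ha) (hmemI hq hb)) hx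
  have hdiff : ∀ y : I, (s (mk y) : A) - y ∈ I ^ 2 := fun y =>
    I.toCotangent_eq.mp (hs' (mk y))
  have hkey : ∀ n, n ≠ 0 → ∀ y : I, mk (prI n (s (mk y) : A)) = mk (prI n (y : A)) := by
    intro n hn y
    refine I.toCotangent_eq.mpr ?_
    rw [prI_coe n hn, prI_coe n hn, ← map_sub]
    exact hsq n (hdiff y)
  have hs1G : ∀ {n : N} (hn : n ∈ D) (y : I), (y : A) ∈ 𝒜 n → s1 (mk y) = prI n (s (mk y) : A) := by
    intro n hn y hy
    simp only [s1, LinearMap.sum_apply, LinearMap.comp_apply, LinearMap.restrictScalars_apply,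
      Submodule.subtype_apply]
    rw [Finset.sum_eq_single n]
    · rw [hkey n (hD n hn) y]
      have : prI n (y : A) = y := Subtype.ext (by rw [prI_coe n (hD n hn), pr_same 𝒜 hB hy])
      rw [this]
    · intro m hm hmn
      rw [hkey m (hD m hm) y]
      have : prI m (y : A) = 0 := Subtype.ext (by
        rw [prI_coe m (hD m hm), pr_ne 𝒜 hB hy (Ne.symm hmn)]; rfl)
      simp [this]
    · exact fun h => absurd hn h
  have hs1mk : ∀ x, mk (s1 x) = x := by
    suffices mk ∘ₗ s1 = LinearMap.id from LinearMap.congr_fun this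
    apply LinearMap.ext_on_range hgenP
    rintro ⟨g, hg⟩
    obtain ⟨n, hn, hn0, hgn⟩ := hG g hg
    have hgI : g ∈ I := hspan ▸ Ideal.subset_span hg
    change mk (s1 (mk ⟨g, hgI⟩)) = mk ⟨g, hgI⟩
    rw [hs1G hn ⟨g, hgI⟩ hgn, hkey n hn0]
    congr 1
    exact Subtype.ext (by rw [prI_coe n hn0]; exact pr_same 𝒜 hB hgn)
  let φ : SymmetricAlgebra B I.Cotangent →ₐ[B] A :=
    SymmetricAlgebra.lift ((I.subtype.restrictScalars B) ∘ₗ s1)
  have hφι : ∀ p, φ (SymmetricAlgebra.ι B _ p) = (s1 p : A) := fun p =>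
    SymmetricAlgebra.lift_ι_apply _ p
  have haug : ∀ y, ε (φ y) = SymmetricAlgebra.algebraMapInv y := by
    intro y
    have : ε.comp φ = SymmetricAlgebra.algebraMapInv := by
      apply SymmetricAlgebra.algHom_ext
      refine LinearMap.ext fun p => ?_
      change ε (φ (SymmetricAlgebra.ι B _ p)) = SymmetricAlgebra.algebraMapInv (SymmetricAlgebra.ι B _ p)
      rw [hφι, SymmetricAlgebra.algebraMapInv_ι]
      exact RingHom.mem_ker.mp (s1 p).2
    exact AlgHom.congr_fun this y
  have hhom : ∀ n, ∀ a ∈ 𝒜 n, a ∈ φ.range := by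
    intro n
    induction n using wf.induction with
    | h n ih =>
      intro a ha
      rcases eq_or_ne n 0 with rfl | hn
      · rw [← h0 a ha]
        exact φ.range.algebraMap_mem _
      have haI : a ∈ I := hmemI hn ha
      have e1 : a - pr 𝒜 hB n (s1 (mk ⟨a, haI⟩) : A) =
          pr 𝒜 hB n (a - (s1 (mk ⟨a, haI⟩) : A)) := by rw [map_sub, pr_same 𝒜 hB ha]
      have e2 : a - (s1 (mk ⟨a, haI⟩) : A) ∈ I ^ 2 :=
        I.toCotangent_eq.mp (hs1mk (mk ⟨a, haI⟩)).symm
      have e3 : pr 𝒜 hB n (a - (s1 (mk ⟨a, haI⟩) : A)) ∈ φ.range := by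
        refine pr_sq_mem 𝒜 ε hB hε h0 (Subalgebra.toSubmodule φ.range) ?_ e2
        intro p q hp hq hpq b hb c hc
        exact φ.range.mul_mem (ih p ⟨q, hq, hpq⟩ b hb) (ih q ⟨p, hp, by rw [add_comm, hpq]⟩ c hc)
      have e4 : pr 𝒜 hB n (s1 (mk ⟨a, haI⟩) : A) ∈ φ.range := by
        by_cases hnD : n ∈ D
        · rw [hs1G hnD ⟨a, haI⟩ ha, prI_coe n hn, pr_same 𝒜 hB (pr_mem 𝒜 hB n _), ← prI_coe n hn,
            ← hs1G hnD ⟨a, haI⟩ ha, ← hφι]
          exact ⟨_, rfl⟩
        · have hz : s1 (mk ⟨a, haI⟩) = 0 := by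
            simp only [s1, LinearMap.sum_apply, LinearMap.comp_apply, LinearMap.restrictScalars_apply,
              Submodule.subtype_apply]
            refine Finset.sum_eq_zero fun m hm => ?_
            rw [hkey m (hD m hm)]
            have : prI m a = 0 := Subtype.ext (by
              rw [prI_coe m (hD m hm), pr_ne 𝒜 hB ha (fun h => hnD (h ▸ hm))]; rfl)
            simp [this]
          simp [hz]
      rw [← sub_add_cancel a (pr 𝒜 hB n (s1 (mk ⟨a, haI⟩) : A)), e1]
      exact φ.range.add_mem e3 e4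
  have hsurj : Function.Surjective φ := by
    intro a
    have : a ∈ φ.range := by
      rw [← DirectSum.sum_support_decompose 𝒜 a]
      exact Subalgebra.sum_mem _ fun n _ => hhom n _ (SetLike.coe_mem _)
    exact this
  -- injectivity
  let M := aug B I.Cotangent
  have hmap : M.map φ = I := by
    refine le_antisymm (Ideal.map_le_iff_le_comap.mpr fun y hy => ?_) fun a ha => ?_
    · exact (haug y).trans hy
    · obtain ⟨y, rfl⟩ := hsurj a
      exact Ideal.mem_map_of_mem φ ((haug y).symm.trans ha)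
  have hker2 : ∀ y, φ y = 0 → y ∈ M ^ 2 := by
    intro y hy
    obtain ⟨p, hp⟩ := aug_decomp y
    have h1 : SymmetricAlgebra.algebraMapInv y = 0 := by rw [← haug, hy, map_zero]
    rw [h1, map_zero, sub_zero] at hp
    have h2 : (s1 p : A) ∈ I ^ 2 := by
      have := Ideal.mem_map_of_mem φ hp
      rw [Ideal.map_pow, hmap, map_sub, hy, hφι, zero_sub, neg_mem_iff] at this
      exact this
    have h3 : p = 0 := by
      rw [← hs1mk p]
      exact (I.toCotangent_eq_zero _).mpr h2
    simpa [h3] using hp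
  have hker : ∀ j y, φ y = 0 → y ∈ M ^ j → y ∈ M ^ (j + 1) := by
    intro j
    let K : Ideal (SymmetricAlgebra B I.Cotangent) := M ^ (j + 2)
    let J : Ideal (SymmetricAlgebra B I.Cotangent ⧸ K) := M.map (Ideal.Quotient.mk K)
    let g : (SymmetricAlgebra B I.Cotangent ⧸ K) →ₐ[R] A ⧸ I ^ (j + 2) :=
      Ideal.quotientMapₐ (I ^ (j + 2)) (φ.restrictScalars R) (Ideal.map_le_iff_le_comap.mp
        (show (M ^ (j + 2)).map φ ≤ I ^ (j + 2) by rw [Ideal.map_pow, hmap]))
    have hgsurj : Function.Surjective g := by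
      intro x
      obtain ⟨a, rfl⟩ := Ideal.Quotient.mk_surjective x
      obtain ⟨y, rfl⟩ := hsurj a
      exact ⟨Ideal.Quotient.mk K y, rfl⟩
    have hgker : ∀ x, g x = 0 → x ∈ J ^ 2 := by
      intro x hx
      obtain ⟨y, rfl⟩ := Ideal.Quotient.mk_surjective x
      have h1 : φ y ∈ (M ^ (j + 2)).map φ := by
        rw [Ideal.map_pow, hmap]
        exact Ideal.Quotient.eq_zero_iff_mem.mp hx
      obtain ⟨m, hm, hm'⟩ := (Ideal.mem_map_iff_of_surjective φ hsurj).mp h1
      rw [← Ideal.map_pow]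
      refine Ideal.mem_map_of_mem _ ?_
      rw [← sub_add_cancel y m]
      exact Ideal.add_mem _ (hker2 _ (by rw [map_sub, hm', sub_self]))
        (Ideal.pow_le_pow_right (by omega) hm)
    have hnil : IsNilpotent (RingHom.ker g.toRingHom) := by
      refine ⟨j + 2, ?_⟩
      rw [Ideal.zero_eq_bot, ← le_bot_iff]
      refine le_trans (Ideal.pow_right_mono (I := RingHom.ker g.toRingHom)
        (fun x hx => Ideal.pow_le_self two_ne_zero (hgker x hx)) (j + 2)) ?_
      rw [← Ideal.map_pow, Ideal.map_quotient_self]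
    obtain ⟨ψ, hψ⟩ : ∃ ψ : A →ₐ[R] (SymmetricAlgebra B I.Cotangent ⧸ K),
        g.comp ψ = Ideal.Quotient.mkₐ R (I ^ (j + 2)) :=
      ⟨Algebra.FormallySmooth.liftOfSurjective (Ideal.Quotient.mkₐ R (I ^ (j + 2))) g hgsurj hnil,
        Algebra.FormallySmooth.comp_liftOfSurjective _ g hgsurj hnil⟩
    have hd : ∀ y, ψ (φ y) - Ideal.Quotient.mk K y ∈ J ^ 2 := by
      intro y
      apply hgker
      rw [map_sub]
      exact sub_eq_zero.mpr (AlgHom.congr_fun hψ (φ y))
    have hind : ∀ (i : ℕ) y, y ∈ M ^ i → ψ (φ y) - Ideal.Quotient.mk K y ∈ J ^ (i + 1) := by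
      intro i
      induction i with
      | zero => exact fun y _ => Ideal.pow_le_pow_right (by omega) (hd y)
      | succ i ih =>
        intro y hy
        rw [pow_succ'] at hy
        induction hy using Submodule.mul_induction_on' with
        | mem_mul_mem a ha b hb =>
          have e : ψ (φ (a * b)) - Ideal.Quotient.mk K (a * b) =
              (ψ (φ a) - Ideal.Quotient.mk K a) * ψ (φ b) +
                Ideal.Quotient.mk K a * (ψ (φ b) - Ideal.Quotient.mk K b) := by
            simp only [map_mul]; ring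
          rw [e]
          have hb' : ψ (φ b) ∈ J ^ i := by
            rw [← sub_add_cancel (ψ (φ b)) (Ideal.Quotient.mk K b)]
            refine Ideal.add_mem _ (Ideal.pow_le_pow_right (Nat.le_succ i) (ih b hb)) ?_
            rw [← Ideal.map_pow]
            exact Ideal.mem_map_of_mem _ hb
          refine Ideal.add_mem _ ?_ ?_
          · have := Ideal.mul_mem_mul (hd a) hb'
            rw [← pow_add J 2 i] at this
            rwa [show i + 1 + 1 = 2 + i by omega]
          · have := Ideal.mul_mem_mul (Ideal.mem_map_of_mem (Ideal.Quotient.mk K) ha) (ih b hb)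
            rw [pow_succ' J (i + 1)]
            exact this
        | add a ha b hb iha ihb =>
          rw [map_add φ, map_add ψ, map_add, add_sub_add_comm]
          exact Ideal.add_mem _ iha ihb
    intro y hy hyj
    have h1 := hind j y hyj
    rw [hy, map_zero, zero_sub, neg_mem_iff, ← Ideal.map_pow] at h1
    obtain ⟨m, hm, hm'⟩ :=
      (Ideal.mem_map_iff_of_surjective _ Ideal.Quotient.mk_surjective).mp h1
    rw [← sub_add_cancel y m]
    refine Ideal.add_mem _ ?_ hm
    exact Ideal.pow_le_pow_right (Nat.le_succ (j + 1)) (Ideal.Quotient.eq.mp hm'.symm)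
  have hinj : Function.Injective φ := by
    rw [injective_iff_map_eq_zero]
    intro y hy
    refine aug_iInf fun j => ?_
    induction j with
    | zero => simp
    | succ j ih => exact hker j y hy ih
  exact ⟨I.Cotangent, inferInstance, inferInstance, hfin, hproj,
    ⟨(AlgEquiv.ofBijective φ ⟨hinj, hsurj⟩).symm⟩⟩

end Main

end Groth.Agent.CommAlg4.SharpGraded
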