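import Mathlib
import Groth.Prelude.Def_W4c5algebraiztannakaNis
import Groth.Agent.AlgzPiLib.NisGen
import Groth.Agent.DRingLib.PCBase
import Groth.Agent.DualLib.Trunc
import Groth.Agent.CSA.Fibre

/-! A uniform bound for the global size of a perfect complex in terms of its local size. -/

set_option autoImplicit false
set_option backward.isDefEq.respectTransparency false
set_option backward.defeqAttrib.useBackward true
set_option linter.style.haveILetI false
set_option linter.unusedSectionVars false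

universe u

open CategoryTheory CategoryTheory.Limits CategoryTheory.Pretriangulated HomologicalComplex AlgebraicGeometry
open Groth.Agent.DRingLib

attribute [local instance] HasDerivedCategory.standard

namespace Groth.Agent.CommAlg4.SizeDescent

section Gen

variable {R : Type u} [CommRing R]

/-- A projective module generated by `M` elements. -/
def Gen (M : ℕ) (X : ModuleCat.{u} R) : Prop :=
  Module.Projective R X ∧ ∃ g : (Fin M → R) →ₗ[R] X, Function.Surjective g

theorem Gen.of_iso {M : ℕ} {X Y : ModuleCat.{u} R} (e : X ≅ Y) (h : Gen M X) : Gen M Y := by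
  obtain ⟨h1, g, hg⟩ := h
  haveI := h1
  exact ⟨Module.Projective.of_equiv e.toLinearEquiv, e.toLinearEquiv.toLinearMap ∘ₗ g,
    e.toLinearEquiv.surjective.comp hg⟩

theorem Gen.of_isZero (M : ℕ) {X : ModuleCat.{u} R} (h : IsZero X) : Gen M X := by
  haveI := ModuleCat.subsingleton_of_isZero h
  exact ⟨inferInstance, 0, fun x => ⟨0, Subsingleton.elim _ _⟩⟩

theorem Gen.mono {M M' : ℕ} (hMM : M ≤ M') {X : ModuleCat.{u} R} (h : Gen M X) : Gen M' X := by
  obtain ⟨h1, g, hg⟩ := h
  exact ⟨h1, g ∘ₗ LinearMap.funLeft R R (Fin.castLE hMM),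
    hg.comp (LinearMap.funLeft_surjective_of_injective R R _ (Fin.castLE_injective hMM))⟩

theorem Gen.biprod {M M' : ℕ} {X Y : ModuleCat.{u} R} (hX : Gen M X) (hY : Gen M' Y) :
    Gen (M + M') (X ⊞ Y) := by
  obtain ⟨h1, g, hg⟩ := hX
  obtain ⟨h2, g', hg'⟩ := hY
  haveI := h1
  haveI := h2
  refine Gen.of_iso (X := ModuleCat.of R (X × Y)) (ModuleCat.biprodIsoProd X Y).symm
    ⟨inferInstanceAs (Module.Projective R (X × Y)),
      (g ∘ₗ LinearMap.funLeft R R (Fin.castAdd M')).prod (g' ∘ₗ LinearMap.funLeft R R (Fin.natAdd M)),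
      fun z => ?_⟩
  obtain ⟨x, y⟩ := z
  obtain ⟨a, rfl⟩ := hg x
  obtain ⟨b, rfl⟩ := hg' y
  refine ⟨Fin.append a b, Prod.ext ?_ ?_⟩
  · exact congrArg g (funext fun i => Fin.append_left a b i)
  · exact congrArg g' (funext fun i => Fin.append_right a b i)

/-- A complex in `[lo, hi]` with terms generated by `M` elements. -/
def Small (P : DRing.Cx R) (lo hi : ℤ) (M : ℕ) : Prop :=
  DRing.VanishesOutside P lo hi ∧ ∀ i, Gen M (P.X i)

theorem Small.finiteProjective {P : DRing.Cx R} {lo hi : ℤ} {M : ℕ} (h : Small P lo hi M) :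
    DRing.TermwiseFiniteProjective P := fun i => by
  obtain ⟨h1, g, hg⟩ := h.2 i
  exact ⟨Module.Finite.of_surjective g hg, h1⟩

theorem small_single (b : ℤ) {r : ℕ} {X : ModuleCat.{u} R} (h : Gen r X) :
    Small ((single (ModuleCat.{u} R) (ComplexShape.up ℤ) b).obj X) b b r := by
  refine ⟨fun i hi => isZero_single_obj_X _ _ _ _ (by omega), fun i => ?_⟩
  by_cases hi : i = b
  · subst hi
    exact h.of_iso (singleObjXSelf (ComplexShape.up ℤ) i X).symm
  · exact Gen.of_isZero r (isZero_single_obj_X _ _ _ _ hi)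

theorem gen_free (r : ℕ) : Gen r (ModuleCat.of R (Fin r → R)) :=
  ⟨inferInstanceAs (Module.Projective R (Fin r → R)), LinearMap.id, fun x => ⟨x, rfl⟩⟩

/-- The cone of a map between small complexes. -/
theorem small_cone {P Q : DRing.Cx R} (φ : P ⟶ Q) {lo hi lo' hi' a b : ℤ} {M M' : ℕ} (hP : Small P lo hi M)
    (hQ : Small Q lo' hi' M') (h1 : a ≤ lo - 1) (h2 : a ≤ lo') (h3 : hi - 1 ≤ b) (h4 : hi' ≤ b) :
    Small (CochainComplex.mappingCone φ) a b (M + M') := by
  refine ⟨fun i hi => ?_, fun i =>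
    Gen.of_iso (homotopyCofiber.XIsoBiprod φ i (i + 1) (by simp)).symm ((hP.2 (i + 1)).biprod (hQ.2 i))⟩
  rw [CochainComplex.mappingCone.isZero_X_iff]
  exact ⟨hP.1 (i + 1) (by omega), hQ.1 i (by omega)⟩

theorem small_shift {P : DRing.Cx R} {lo hi : ℤ} {M : ℕ} (h : Small P lo hi M) (n lo' hi' : ℤ)
    (hlo : lo' + n = lo) (hhi : hi' + n = hi) : Small (P⟦n⟧) lo' hi' M := by
  refine ⟨fun i hi => ?_, fun i => ?_⟩
  · exact IsZero.of_iso (h.1 (i + n) (by omega)) (P.shiftFunctorObjXIso n i (i + n) rfl)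
  · exact (h.2 (i + n)).of_iso (P.shiftFunctorObjXIso n i (i + n) rfl).symm

/-- Splitting off a vanishing top cohomology. -/
theorem exists_trim {P : DRing.Cx R} {lo h : ℤ} {M : ℕ} (hlo : lo ≤ h) (hP : Small P lo (h + 1) M)
    (hex : P.ExactAt (h + 1)) :
    ∃ P' : DRing.Cx R, Small P' lo h M ∧ Nonempty (DRing.toD P' ≅ DRing.toD P) := by
  haveI : P.IsLE h := by
    rw [CochainComplex.isLE_iff]
    intro i hi
    by_cases he : i = h + 1
    · exact he ▸ hex
    · exact ExactAt.of_isZero (hP.1 i (by omega))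
  haveI : QuasiIso (P.ιTruncLE h) := inferInstance
  refine ⟨P.truncLE h, ⟨fun i hi => ?_, fun i => ?_⟩, ⟨asIso (DerivedCategory.Q.map (P.ιTruncLE h))⟩⟩
  · rcases hi with hi | hi
    · exact IsZero.of_iso (hP.1 i (Or.inl hi)) (P.truncLEXIso h i (by omega))
    · exact (P.truncLE h).isZero_of_isStrictlyLE h i hi
  · rcases lt_trichotomy i h with hi | rfl | hi
    · exact (hP.2 i).of_iso (P.truncLEXIso h i hi).symm
    · refine Gen.of_iso (X := ModuleCat.of R (LinearMap.ker (P.d i (i + 1)).hom)) ?_ ?_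
      · exact ((ModuleCat.kernelIsLimit _).conePointUniqueUpToIso (P.cyclesIsKernel i (i + 1) (by simp))) ≪≫
          (P.truncLEXIsoCycles i).symm
      · obtain ⟨h1, g, hg⟩ := hP.2 i
        haveI := h1
        haveI : Module.Projective R (P.X (i + 1)) := (hP.2 (i + 1)).1
        have hsurj : Function.Surjective (P.d i (i + 1)).hom := fun y => by
          have hx := hex
          rw [P.exactAt_iff' i (i + 1) (i + 1 + 1) (by simp) (by simp), ShortComplex.moduleCat_exact_iff] at hx
          refine hx y ?_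
          have : P.d (i + 1) (i + 1 + 1) = 0 := (hP.1 (i + 1 + 1) (by omega)).eq_of_tgt _ _
          show (P.d (i + 1) (i + 1 + 1)).hom y = 0
          rw [this]
          rfl
        obtain ⟨s, hs⟩ := Module.projective_lifting_property (P.d i (i + 1)).hom LinearMap.id hsurj
        let r : P.X i →ₗ[R] LinearMap.ker (P.d i (i + 1)).hom :=
          (LinearMap.id - s ∘ₗ (P.d i (i + 1)).hom).codRestrict _ fun x => by
            have := congrArg (fun l => l ((P.d i (i + 1)).hom x)) hs
            simp only [LinearMap.comp_apply, LinearMap.id_apply] at this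
            simp [this]
        have hr : r ∘ₗ (LinearMap.ker (P.d i (i + 1)).hom).subtype = LinearMap.id := by
          ext ⟨x, hx⟩
          simp [r, LinearMap.mem_ker.1 hx]
        exact ⟨Module.Projective.of_split _ r hr, r ∘ₗ g,
          fun y => by
            obtain ⟨x, hx⟩ := hg (y : P.X i)
            refine ⟨x, ?_⟩
            show r (g x) = y
            rw [hx]
            exact congrArg (fun l => l y) hr⟩
    · exact Gen.of_isZero M ((P.truncLE h).isZero_of_isStrictlyLE h i hi)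

/-- A chain map from a single free module hitting given cohomology classes. -/
theorem exists_single_map (L : DRing.Cx R) (b : ℤ) {r : ℕ} (p : (Fin r → R) →ₗ[R] L.homology b)
    (hp : Function.Surjective p) :
    ∃ f : freeAt R b r ⟶ L, Epi (homologyMap f b) := by
  haveI : Projective (ModuleCat.of R (Fin r → R)) := (IsProjective.iff_projective (Fin r → R)).1 inferInstance
  haveI : Epi (ModuleCat.ofHom p) := (ModuleCat.epi_iff_surjective _).2 hp
  let z := Projective.factorThru (ModuleCat.ofHom p) (L.homologyπ b)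
  let f : freeAt R b r ⟶ L := mkHomFromSingle (z ≫ L.iCycles b) fun k _ => by simp
  refine ⟨f, ?_⟩
  refine @epi_of_epi _ _ _ _ _ ((freeAt R b r).homologyπ b) _ ?_
  rw [homologyπ_naturality]
  haveI : IsIso ((freeAt R b r).iCycles b) :=
    (freeAt R b r).isIso_iCycles b (b + 1) (by simp) (single_obj_d _ _ _ _ _)
  have hc : (singleObjXSelf (ComplexShape.up ℤ) b (ModuleCat.of R (Fin r → R))).inv ≫
      inv ((freeAt R b r).iCycles b) ≫ cyclesMap f b = z := by
    rw [← cancel_mono (L.iCycles b)]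
    simp [f]
  exact epi_of_epi_fac (show ((singleObjXSelf (ComplexShape.up ℤ) b (ModuleCat.of R (Fin r → R))).inv ≫
      inv ((freeAt R b r).iCycles b)) ≫ cyclesMap f b ≫ L.homologyπ b = ModuleCat.ofHom p by
    rw [Category.assoc, reassoc_of% hc]
    exact Projective.factorThru_comp _ _)

/-- The cone of a map killing the top cohomology. -/
theorem exactAt_cone {P Q : DRing.Cx R} (f : P ⟶ Q) (i : ℤ) (h₁ : Epi (homologyMap f i))
    (h₂ : P.ExactAt (i + 1)) : (CochainComplex.mappingCone f).ExactAt i := by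
  rw [exactAt_iff_isZero_homology]
  refine IsZero.of_iso ?_ (HQ (CochainComplex.mappingCone f) i).symm
  have hT := DerivedCategory.mappingCone_triangle_distinguished f
  haveI : Epi ((HF R i).map (DerivedCategory.Q.map f)) := by
    haveI := h₁
    have := NatIso.naturality_2 (DerivedCategory.homologyFunctorFactors (ModuleCat.{u} R) i) f
    dsimp at this
    rw [← this]
    infer_instance
  exact (DerivedCategory.HomologySequence.exact₃ _ hT i (i + 1) rfl).isZero_of_both_zeros
    ((DerivedCategory.HomologySequence.epi_homologyMap_mor₁_iff _ hT i).1 (by assumption))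
    ((IsZero.of_iso ((exactAt_iff_isZero_homology _ _).1 h₂) (HQ P (i + 1))).eq_of_tgt _ _)

end Gen

section Base

variable {R B : Type u} [CommRing R] [CommRing B] {φ : R →+* B}

theorem gen_extend {M : ℕ} {X : ModuleCat.{u} R} (h : Gen M X) :
    Gen M ((ModuleCat.extendScalars.{u, u, u} φ).obj X) := by
  obtain ⟨h1, g, hg⟩ := h
  letI := φ.toAlgebra
  haveI := h1
  exact ⟨inferInstanceAs (Module.Projective B (TensorProduct R B X)),
    (g.baseChange B) ∘ₗ (TensorProduct.piScalarRight R B B (Fin M)).symm.toLinearMap,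
    (LinearMap.lTensor_surjective B hg).comp (TensorProduct.piScalarRight R B B (Fin M)).symm.surjective⟩

theorem small_bc {P : DRing.Cx R} {lo hi : ℤ} {M : ℕ} (h : Small P lo hi M) :
    Small ((W4c5algebraiztannaka.bcCx φ).obj P) lo hi M :=
  ⟨fun i hi => (ModuleCat.extendScalars.{u, u, u} φ).map_isZero (h.1 i hi), fun i => gen_extend (h.2 i)⟩

/-- A Nisnevich cover is faithfully flat. -/
theorem faithfullyFlat_of_nis {m : ℕ}
    (hn : W4c5algebraiztannaka.IsNisCoverLen (Spec.map (CommRingCat.ofHom φ)) m) : φ.FaithfullyFlat := by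
  haveI := hn.etale
  have hfl : φ.Flat := (HasRingHomProperty.Spec_iff (P := @AlgebraicGeometry.Flat)).mp
    (inferInstance : AlgebraicGeometry.Flat (Spec.map (CommRingCat.ofHom φ)))
  refine RingHom.FaithfullyFlat.iff_flat_and_comap_surjective.2 ⟨hfl, fun p => ?_⟩
  obtain ⟨-, Z, hZ0, hZ1, -, -, hsec⟩ := hn
  classical
  have hex : ∃ k, ∀ hk : k < m + 1, (p : ↥(Spec (CommRingCat.of R))) ∈ Z ⟨k, hk⟩ :=
    ⟨m, fun hk => by rw [show (⟨m, hk⟩ : Fin (m + 1)) = Fin.last m from rfl, hZ1]; trivial⟩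
  obtain ⟨k, hk, hmin⟩ : ∃ k, (∀ hk : k < m + 1, (p : ↥(Spec (CommRingCat.of R))) ∈ Z ⟨k, hk⟩) ∧ ∀ j < k,
      ¬ ∀ hj : j < m + 1, (p : ↥(Spec (CommRingCat.of R))) ∈ Z ⟨j, hj⟩ :=
    ⟨Nat.find hex, Nat.find_spec hex, fun j hj => Nat.find_min hex hj⟩
  have hkm : k ≤ m := by
    by_contra hc
    exact hmin m (by omega) fun hj => by
      rw [show (⟨m, hj⟩ : Fin (m + 1)) = Fin.last m from rfl, hZ1]; trivial
  obtain ⟨j, rfl⟩ : ∃ j, k = j + 1 := ⟨k - 1, by
    rcases Nat.eq_zero_or_pos k with rfl | h0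
    · exact absurd (hk (by omega)) (by
        rw [show (⟨0, Nat.succ_pos m⟩ : Fin (m + 1)) = 0 from rfl, hZ0]; exact id)
    · omega⟩
  obtain ⟨T, g, s, -, hr, hs⟩ := hsec ⟨j, by omega⟩
  obtain ⟨t, ht⟩ : (p : ↥(Spec (CommRingCat.of R))) ∈ Set.range (fun t : T => g t) := by
    rw [hr]
    exact ⟨hk (by omega), fun hp => hmin j (by omega) fun _ => hp⟩
  refine ⟨s t, ?_⟩
  rw [← hs] at ht
  exact ht

/-- Generators descend along a Nisnevich cover of bounded length, with bounded multiplicity. -/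
theorem exists_generators {m N : ℕ} (hn : W4c5algebraiztannaka.IsNisCoverLen (Spec.map (CommRingCat.ofHom φ)) m)
    (M : ModuleCat.{u} R) [Module.Finite R M] (G : (Fin N → B) →ₗ[B] (ModuleCat.extendScalars.{u, u, u} φ).obj M)
    (hG : Function.Surjective G) :
    ∃ p : (Fin (N * m) → R) →ₗ[R] M, Function.Surjective p := by
  letI := φ.toAlgebra
  let G' : (Fin N → B) →ₗ[B] TensorProduct R B M := G
  have hG' : Function.Surjective G' := hG
  obtain ⟨-, Z, hZ0, hZ1, -, hZ, hsec⟩ := hn
  have step : ∀ (J : Ideal R), (∃ h : Spec (CommRingCat.of (R ⧸ J)) ⟶ Spec (CommRingCat.of B),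
      h ≫ Spec.map (CommRingCat.ofHom φ) = Spec.map (CommRingCat.ofHom (Ideal.Quotient.mk J))) →
      ∃ μ : Fin N → M, ∀ q ∈ PrimeSpectrum.zeroLocus (J : Set R),
        AlgzPiLib.GenAt (Submodule.span R (Set.range μ)) q := by
    intro J ⟨h, hh⟩
    obtain ⟨β, rfl⟩ : ∃ β, Spec.map β = h := ⟨Spec.preimage h, Spec.map_preimage h⟩
    rw [← Spec.map_comp] at hh
    have hβ : ∀ x, β.hom (φ x) = Ideal.Quotient.mk J x := fun x =>
      congrArg (fun F : CommRingCat.of R ⟶ CommRingCat.of (R ⧸ J) => F.hom x) (Spec.map_injective hh)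
    let βa : B →ₐ[R] R ⧸ J := { β.hom with commutes' := hβ }
    let T : TensorProduct R B M →ₗ[R] TensorProduct R (R ⧸ J) M := βa.toLinearMap.rTensor M
    have hTs : ∀ (b : B) (z : TensorProduct R B M), T (b • z) = βa b • T z := fun b z => by
      induction z using TensorProduct.induction_on with
      | zero => simp
      | tmul x y => simp [T, TensorProduct.smul_tmul']
      | add x y hx hy => simp only [smul_add, map_add, hx, hy]
    have hT : Function.Surjective T := LinearMap.rTensor_surjective M fun y => by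
      obtain ⟨x, rfl⟩ := Ideal.Quotient.mk_surjective y
      exact ⟨φ x, hβ x⟩
    obtain ⟨μ, htop⟩ := AlgzPiLib.exists_lift_generators (R := R) (S := R ⧸ J) (M := M)
      Ideal.Quotient.mk_surjective (fun i => T (G' (Pi.single i 1))) (eq_top_iff.2 fun y _ => by
        obtain ⟨z, rfl⟩ := hT y
        obtain ⟨v, rfl⟩ := hG' z
        rw [pi_eq_sum_univ' v, map_sum, map_sum]
        refine Submodule.sum_mem _ fun i _ => ?_
        rw [map_smul, hTs]
        exact Submodule.smul_mem _ _ (Submodule.subset_span ⟨i, rfl⟩))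
    rw [show RingHom.ker (algebraMap R (R ⧸ J)) = J from Ideal.mk_ker] at htop
    refine ⟨μ, fun q hq x => ?_⟩
    obtain ⟨r, hr1, hr0⟩ := Submodule.exists_sub_one_mem_and_smul_eq_zero_of_fg_of_le_smul J
      (⊤ : Submodule R (M ⧸ Submodule.span R (Set.range μ))) Module.Finite.fg_top (by
        rintro z -
        obtain ⟨z, rfl⟩ := Submodule.mkQ_surjective _ z
        obtain ⟨a, ha, b, hb, rfl⟩ := Submodule.mem_sup.mp (htop.ge (Submodule.mem_top (x := z)))
        rw [map_add, Submodule.mkQ_apply, (Submodule.Quotient.mk_eq_zero _).mpr ha, zero_add]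
        have := Submodule.mem_map_of_mem (f := (Submodule.span R (Set.range μ)).mkQ) hb
        rw [Submodule.map_smul''] at this
        exact Submodule.smul_mono le_rfl le_top this)
    refine ⟨r, fun hrp => q.isPrime.ne_top ((Ideal.eq_top_iff_one _).mpr ?_), ?_⟩
    · have := sub_mem hrp (hq hr1)
      simpa using this
    · have := hr0 ((Submodule.span R (Set.range μ)).mkQ x) Submodule.mem_top
      rw [← map_smul] at this
      exact (Submodule.Quotient.mk_eq_zero _).mp this
  suffices H : ∀ k (hk : k ≤ m), ∃ s : Fin (N * k) → M, ∀ p ∈ Z ⟨k, Nat.lt_succ_of_le hk⟩,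
      AlgzPiLib.GenAt (Submodule.span R (Set.range s)) p by
    obtain ⟨s, hs⟩ := H m le_rfl
    refine ⟨Fintype.linearCombination R s, LinearMap.range_eq_top.1 ?_⟩
    rw [Fintype.range_linearCombination, eq_top_iff]
    intro x _
    by_contra hx
    obtain ⟨q, hq, hle⟩ := Ideal.exists_le_maximal ((Submodule.span R (Set.range s)).colon {x}) fun hI => hx (by
      have h1 : (1 : R) ∈ (Submodule.span R (Set.range s)).colon {x} := hI ▸ Submodule.mem_top
      simpa using Submodule.mem_colon_singleton.mp h1)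
    obtain ⟨g, hg, hgx⟩ := hs ⟨q, hq.isPrime⟩ (by
      rw [show (⟨m, Nat.lt_succ_of_le le_rfl⟩ : Fin (m + 1)) = Fin.last m from rfl, hZ1]
      trivial) x
    exact hg (hle (Submodule.mem_colon_singleton.mpr hgx))
  intro k
  induction k with
  | zero => exact fun _ => ⟨fun i => Fin.elim0 (Fin.cast (Nat.mul_zero N) i), fun p hp => absurd hp (by
      rw [show (⟨0, Nat.lt_succ_of_le (Nat.zero_le m)⟩ : Fin (m + 1)) = 0 from rfl, hZ0]
      exact id)⟩
  | succ k ih =>
    intro hk
    obtain ⟨s, hs⟩ := ih (by omega)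
    let q : Fin m := ⟨k, hk⟩
    let C : Set (PrimeSpectrum R) :=
      (Z q.succ : Set (PrimeSpectrum R)) \ {p | AlgzPiLib.GenAt (Submodule.span R (Set.range s)) p}
    have hC : IsClosed C := IsClosed.sdiff (hZ q.succ).1 (AlgzPiLib.isOpen_genAt _)
    obtain ⟨J, hJC⟩ := (PrimeSpectrum.isClosed_iff_zeroLocus_radical_ideal C).mp hC
    obtain ⟨T, j, t, hj, hjr, hjt⟩ := hsec q
    obtain ⟨h, hh⟩ := AlgzPiLib.exists_factor_of_range j J hJC.1 (by
      rw [← hJC.2]
      rintro p ⟨hp1, hp2⟩
      exact hjr.ge ⟨hp1, fun hp => hp2 (hs p hp)⟩)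
    obtain ⟨μ, hμ⟩ := step J ⟨h ≫ t, by rw [Category.assoc, hjt, hh]⟩
    refine ⟨fun i => Fin.append s μ (Fin.cast (Nat.mul_succ N k) i), fun p hp => ?_⟩
    rw [(Fin.castOrderIso (Nat.mul_succ N k)).surjective.range_comp (Fin.append s μ) |>
      fun e => (show Set.range (fun i => Fin.append s μ (Fin.cast (Nat.mul_succ N k) i)) =
        Set.range (Fin.append s μ) from e)]
    by_cases hg : AlgzPiLib.GenAt (Submodule.span R (Set.range s)) p
    · refine hg.mono (Submodule.span_mono ?_)
      rintro _ ⟨i, rfl⟩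
      exact ⟨Fin.castAdd _ i, Fin.append_left _ _ _⟩
    · refine (hμ p (hJC.2.subset ⟨hp, hg⟩)).mono (Submodule.span_mono ?_)
      rintro _ ⟨i, rfl⟩
      exact ⟨Fin.natAdd _ i, Fin.append_right _ _ _⟩

variable (hff : φ.FaithfullyFlat)
include hff

/-- Cohomology commutes with flat base change. -/
theorem homology_bc (E : DRing.Cx R) (i : ℤ) :
    Nonempty (((W4c5algebraiztannaka.bcCx φ).obj E).homology i ≅
      (ModuleCat.extendScalars.{u, u, u} φ).obj (E.homology i)) := by
  haveI := ModuleCat.preservesFiniteLimits_extendScalars_of_flat hff.flat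
  haveI : PreservesFiniteColimits (ModuleCat.extendScalars.{u, u, u} φ) :=
    haveI : (ModuleCat.extendScalars.{u, u, u} φ).IsLeftAdjoint := (ModuleCat.extendRestrictScalarsAdj.{u, u, u} φ).isLeftAdjoint
    inferInstance
  haveI : (ModuleCat.extendScalars.{u, u, u} φ).PreservesHomology :=
    inferInstance
  exact ⟨(E.sc i).mapHomologyIso (ModuleCat.extendScalars.{u, u, u} φ)⟩

theorem epi_homologyMap_bc {E E' : DRing.Cx R} (f : E ⟶ E') (i : ℤ) (h : Epi (homologyMap f i)) :
    Epi (homologyMap ((W4c5algebraiztannaka.bcCx φ).map f) i) := by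
  haveI := ModuleCat.preservesFiniteLimits_extendScalars_of_flat hff.flat
  haveI : PreservesFiniteColimits (ModuleCat.extendScalars.{u, u, u} φ) :=
    haveI : (ModuleCat.extendScalars.{u, u, u} φ).IsLeftAdjoint := (ModuleCat.extendRestrictScalarsAdj.{u, u, u} φ).isLeftAdjoint
    inferInstance
  haveI : (ModuleCat.extendScalars.{u, u, u} φ).PreservesHomology :=
    inferInstance
  haveI : Epi (ShortComplex.homologyMap ((shortComplexFunctor _ _ i).map f)) := h
  have e := ShortComplex.mapHomologyIso_hom_naturality ((shortComplexFunctor _ _ i).map f)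
    (ModuleCat.extendScalars.{u, u, u} φ)
  show Epi (ShortComplex.homologyMap
    ((ModuleCat.extendScalars.{u, u, u} φ).mapShortComplex.map ((shortComplexFunctor _ _ i).map f)))
  have : ShortComplex.homologyMap
      ((ModuleCat.extendScalars.{u, u, u} φ).mapShortComplex.map ((shortComplexFunctor _ _ i).map f)) =
      ((E.sc i).mapHomologyIso _).hom ≫ (ModuleCat.extendScalars.{u, u, u} φ).map
        (ShortComplex.homologyMap ((shortComplexFunctor _ _ i).map f)) ≫ ((E'.sc i).mapHomologyIso _).inv := by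
    rw [← reassoc_of% e]
    exact ((congrArg (_ ≫ ·) (Iso.hom_inv_id _)).trans (Category.comp_id _)).symm
  rw [this]
  infer_instance

theorem isZero_of_isZero_extend {M : ModuleCat.{u} R}
    (h : IsZero ((ModuleCat.extendScalars.{u, u, u} φ).obj M)) : IsZero M := by
  haveI := ModuleCat.reflectsIsomorphisms_extendScalars_of_faithfullyFlat hff
  let g : M ⟶ ModuleCat.of R PUnit.{u + 1} := 0
  haveI : IsIso ((ModuleCat.extendScalars.{u, u, u} φ).map g) :=
    ⟨0, h.eq_of_src _ _, ((ModuleCat.extendScalars.{u, u, u} φ).map_isZero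
      (ModuleCat.isZero_of_subsingleton (ModuleCat.of R PUnit.{u + 1}))).eq_of_src _ _⟩
  haveI : IsIso g := isIso_of_reflects_iso g (ModuleCat.extendScalars.{u, u, u} φ)
  exact (ModuleCat.isZero_of_subsingleton (ModuleCat.of R PUnit.{u + 1})).of_iso (asIso g)

theorem finite_projective_of_extend {M : ℕ} {H : ModuleCat.{u} R}
    (h : Gen M ((ModuleCat.extendScalars.{u, u, u} φ).obj H)) : Module.Finite R H ∧ Module.Projective R H := by
  algebraize [φ]
  haveI : Module.FaithfullyFlat R B := hff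
  obtain ⟨h1, g, hg⟩ := h
  haveI : Module.Projective B (TensorProduct R B H) := h1
  haveI : Module.Finite B (TensorProduct R B H) := Module.Finite.of_surjective (M := Fin M → B) g hg
  exact CSA.finite_projective_of_faithfullyFlat B H

theorem finite_of_extend {M : ℕ} {H : ModuleCat.{u} R}
    (g : (Fin M → B) →ₗ[B] (ModuleCat.extendScalars.{u, u, u} φ).obj H) (hg : Function.Surjective g) :
    Module.Finite R H := by
  algebraize [φ]
  haveI : Module.FaithfullyFlat R B := hff
  haveI : Module.Finite B (TensorProduct R B H) := Module.Finite.of_surjective (M := Fin M → B) g hg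
  exact Module.Finite.of_finite_tensorProduct_of_faithfullyFlat B

end Base

/-- The bound. -/
def bound : ℕ → ℕ → ℕ → ℕ
  | 0, N, M => M * N
  | k + 1, N, M => bound k N (M * N + M) + M * N

theorem exists_global : ∀ (k : ℕ) {R B : Type u} [CommRing R] [CommRing B] {φ : R →+* B} {N M : ℕ}
    (_ : W4c5algebraiztannaka.IsNisCoverLen (Spec.map (CommRingCat.ofHom φ)) N)
    (lo : ℤ) (E : DRing.Cx R) (P : DRing.Cx B) (_ : Small P lo (lo + k) M)
    (_ : DRing.toD P ≅ DRing.toD ((W4c5algebraiztannaka.bcCx φ).obj E)),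
    ∃ Q : DRing.Cx R, Small Q lo (lo + k) (bound k N M) ∧ Nonempty (DRing.toD Q ≅ DRing.toD E) := by
  intro k
  induction k with
  | zero =>
    intro R B _ _ φ N M hn lo E P hP θ
    have hff := faithfullyFlat_of_nis hn
    have hH : ∀ i, Nonempty (P.homology i ≅ (ModuleCat.extendScalars.{u, u, u} φ).obj (E.homology i)) := fun i => by
      obtain ⟨e⟩ := homology_bc hff E i
      exact ⟨(HQ P i).symm ≪≫ (HF B i).mapIso θ ≪≫ HQ _ i ≪≫ e⟩
    have hz : ∀ i, i ≠ lo → IsZero (E.homology i) := fun i hi => by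
      obtain ⟨e⟩ := hH i
      refine isZero_of_isZero_extend hff (IsZero.of_iso ?_ e.symm)
      exact (exactAt_iff_isZero_homology _ _).1 (ExactAt.of_isZero (hP.1 i (by omega)))
    obtain ⟨e⟩ := hH lo
    have htop : Gen M ((ModuleCat.extendScalars.{u, u, u} φ).obj (E.homology lo)) := by
      refine Gen.of_iso ?_ (hP.2 lo)
      refine Iso.trans ?_ e
      have h1 : P.d (lo - 1) lo = 0 := (hP.1 (lo - 1) (by omega)).eq_of_src _ _
      have h2 : P.d lo (lo + 1) = 0 := (hP.1 (lo + 1) (by omega)).eq_of_tgt _ _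
      haveI := P.isIso_iCycles lo (lo + 1) (by simp) h2
      haveI := P.isIso_homologyπ (lo - 1) lo (by simp) h1
      exact (asIso (P.iCycles lo)).symm ≪≫ asIso (P.homologyπ lo)
    obtain ⟨hf, hp⟩ := finite_projective_of_extend hff htop
    haveI := hf
    obtain ⟨g, hg⟩ := htop.2
    obtain ⟨p, hpp⟩ := exists_generators hn (E.homology lo) g hg
    let K := DRing.toD E
    haveI : K.IsGE lo := (DerivedCategory.isGE_iff _ _).2 fun i hi =>
      IsZero.of_iso (hz i (by omega)) (HQ E i)
    haveI : K.IsLE lo := (DerivedCategory.isLE_iff _ _).2 fun i hi =>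
      IsZero.of_iso (hz i (by omega)) (HQ E i)
    obtain ⟨L, ⟨d⟩⟩ := DerivedCategory.exists_iso_singleFunctor_obj_of_isGE_of_isLE K lo
    let d' : E.homology lo ≅ L := (HQ E lo).symm ≪≫ (HF R lo).mapIso d ≪≫
      (DerivedCategory.singleFunctorCompHomologyFunctorIso (ModuleCat.{u} R) lo).app L
    have hL : Gen (M * N) L := Gen.of_iso d' ⟨hp, p, hpp⟩
    refine ⟨(single (ModuleCat.{u} R) (ComplexShape.up ℤ) lo).obj L, ?_,
      ⟨((DerivedCategory.singleFunctorIsoCompQ (ModuleCat.{u} R) lo).app L).symm ≪≫ d.symm⟩⟩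
    simpa [bound] using small_single lo hL
  | succ k ih =>
    intro R B _ _ φ N M hn lo E P hP θ
    have hff := faithfullyFlat_of_nis hn
    obtain ⟨hi, hhi⟩ : ∃ hi : ℤ, hi = lo + (k : ℤ) + 1 := ⟨_, rfl⟩
    have hP' : Small P lo hi M := by
      convert hP using 2
      push_cast
      omega
    -- generators of the top cohomology
    obtain ⟨e⟩ := homology_bc hff E hi
    obtain ⟨g, hg⟩ : ∃ g : (Fin M → B) →ₗ[B] (ModuleCat.extendScalars.{u, u, u} φ).obj (E.homology hi),
        Function.Surjective g := by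
      obtain ⟨-, g₀, hg₀⟩ := hP'.2 hi
      have h2 : P.d hi (hi + 1) = 0 := (hP'.1 (hi + 1) (by omega)).eq_of_tgt _ _
      haveI := P.isIso_iCycles hi (hi + 1) (by simp) h2
      let χ : P.X hi ⟶ (ModuleCat.extendScalars.{u, u, u} φ).obj (E.homology hi) :=
        inv (P.iCycles hi) ≫ P.homologyπ hi ≫ (HQ P hi).inv ≫ ((HF B hi).mapIso θ).hom ≫ (HQ _ hi).hom ≫ e.hom
      haveI : Epi χ := inferInstance
      exact ⟨χ.hom ∘ₗ g₀, ((ModuleCat.epi_iff_surjective χ).1 inferInstance).comp hg₀⟩
    haveI := finite_of_extend hff g hg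
    obtain ⟨p, hp⟩ := exists_generators hn (E.homology hi) g hg
    obtain ⟨f, hf⟩ := exists_single_map E hi p hp
    -- on the cover
    let bc := W4c5algebraiztannaka.bcCx φ
    have hF : Small (freeAt R hi (M * N)) hi hi (M * N) := small_single hi (gen_free _)
    have hbF : Small (bc.obj (freeAt R hi (M * N))) hi hi (M * N) := small_bc hF
    haveI := isKProjective_of_outside hbF.1 (fun i => (hbF.2 i).1)
    obtain ⟨f', hf'⟩ := exists_Q_map (DerivedCategory.Q.map (bc.map f) ≫ θ.inv)
    let eT := isoTriangleOfIso₁₂ _ _ (DerivedCategory.mappingCone_triangle_distinguished f')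
      (DerivedCategory.mappingCone_triangle_distinguished (bc.map f)) (Iso.refl _) θ (by
        show DerivedCategory.Q.map f' ≫ θ.hom = 𝟙 _ ≫ DerivedCategory.Q.map (bc.map f)
        rw [hf', Category.assoc, θ.inv_hom_id, Category.comp_id, Category.id_comp])
    have hex : (CochainComplex.mappingCone f').ExactAt hi := by
      rw [exactAt_iff_isZero_homology]
      refine IsZero.of_iso ?_ ((HQ _ hi).symm ≪≫ (HF B hi).mapIso (Triangle.π₃.mapIso eT) ≪≫ HQ _ hi)
      exact (exactAt_iff_isZero_homology _ _).1 (exactAt_cone (bc.map f) hi (epi_homologyMap_bc hff f hi hf)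
        (ExactAt.of_isZero (hbF.1 (hi + 1) (by omega))))
    have hcone : Small (CochainComplex.mappingCone f') lo hi (M * N + M) :=
      small_cone f' hbF hP' (by omega) le_rfl (by omega) le_rfl
    obtain ⟨P₁, hP₁, ⟨τ⟩⟩ := exists_trim (P := CochainComplex.mappingCone f') (lo := lo) (M := M * N + M) (h := lo + (k : ℤ)) (by omega) (by rwa [← hhi]) (by rwa [← hhi])
    obtain ⟨Q', hQ', ⟨ρ⟩⟩ := ih hn lo (CochainComplex.mappingCone f) P₁ hP₁
      (τ ≪≫ Triangle.π₃.mapIso eT ≪≫ DerivedCategory.Q.mapIso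
        (CochainComplex.mappingCone.mapHomologicalComplexIso f (ModuleCat.extendScalars.{u, u, u} φ)).symm)
    -- back to the base
    haveI := isKProjective_of_outside hQ'.1 (fun i => (hQ'.2 i).1)
    have hT := rot_of_distTriang _ (rot_of_distTriang _ (DerivedCategory.mappingCone_triangle_distinguished f))
    let cF := (DerivedCategory.Q.commShiftIso (1 : ℤ)).app (freeAt R hi (M * N))
    obtain ⟨w, hw⟩ := exists_Q_map (P := Q') (L := (freeAt R hi (M * N))⟦(1 : ℤ)⟧)
      (ρ.hom ≫ (DerivedCategory.Q.mapTriangle.obj (CochainComplex.mappingCone.triangle f)).mor₃ ≫ cF.inv)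
    let eU := isoTriangleOfIso₁₂ _ _ (DerivedCategory.mappingCone_triangle_distinguished w) hT ρ cF (by
      show DerivedCategory.Q.map w ≫ cF.hom = ρ.hom ≫ _
      rw [hw]
      simp only [Category.assoc, Iso.inv_hom_id, Category.comp_id]
      rfl)
    have hQ : Small ((CochainComplex.mappingCone w)⟦(-1 : ℤ)⟧) lo hi (bound k N (M * N + M) + M * N) :=
      small_shift (small_cone w hQ' (small_shift hF 1 (hi - 1) (hi - 1) (by omega) (by omega))
        (a := lo - 1) (b := hi - 1) le_rfl (by omega) (by omega) le_rfl) (-1) lo hi (by omega) (by omega)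
    refine ⟨_, ?_, ⟨(DerivedCategory.Q.commShiftIso (-1 : ℤ)).app _ ≪≫
      (shiftFunctor _ (-1 : ℤ)).mapIso (Triangle.π₃.mapIso eU) ≪≫
      (shiftEquiv (Dual.D R) (1 : ℤ)).unitIso.symm.app (DRing.toD E)⟩⟩
    have hk : lo + ((k + 1 : ℕ) : ℤ) = hi := by push_cast; omega
    rw [hk]
    exact hQ

/-- Local size bounds global size. -/
theorem exists_uniform :
    ∃ F : ℕ → ℕ, ∀ (R : Type u) [CommRing R] (E : DRing.Cx R) (N : ℕ),
      W4c5algebraiztannaka.LocSize E N → W4c5algebraiztannaka.GlobSize R (DRing.toD E) (F N) := by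
  refine ⟨fun N => max N (bound (2 * N) N N), fun R _ E N h => ?_⟩
  obtain ⟨B, _, φ, hn, P, hP, ⟨θ⟩⟩ := h
  have hhi : (-(N : ℤ)) + ((2 * N : ℕ) : ℤ) = N := by push_cast; ring
  obtain ⟨Q, hQ, hiso⟩ := exists_global (2 * N) hn (-(N : ℤ)) E P
    (by rw [hhi]; exact ⟨hP.1, fun i => hP.2 i⟩) θ
  rw [hhi] at hQ
  refine ⟨Q, ⟨fun i hi => hQ.1 i ?_, fun i => Gen.mono (le_max_right _ _) (hQ.2 i)⟩, hiso⟩
  simp only [Nat.cast_max] at hi
  omega

end Groth.Agent.CommAlg4.SizeDescent
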