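import Mathlib
import Groth.Agent.CAlgH3.TorBridge
import Groth.Agent.Tor15.TorDim

/-!
# Dimension shifting for `Tor` in the first variable
-/

set_option autoImplicit false
set_option linter.all false
set_option backward.isDefEq.respectTransparency false

universe u

open CategoryTheory CategoryTheory.Limits MonoidalCategory

namespace Groth.Agent.CommAlg4.TorSyz

variable {R : Type u} [CommRing R]

/-- `Tor_i(X, N)`. -/
noncomputable abbrev T (i : ℕ) (X N : ModuleCat.{u} R) : ModuleCat.{u} R := ((Tor (ModuleCat.{u} R) i).obj X).obj N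

/-- The functor computing `Tor(-, N)` from a projective resolution of `N`. -/
noncomputable def C {N : ModuleCat.{u} R} (P : ProjectiveResolution N) :
    ModuleCat.{u} R ⥤ ChainComplex (ModuleCat.{u} R) ℕ where
  obj X := ((tensorLeft X).mapHomologicalComplex (ComplexShape.down ℕ)).obj P.complex
  map f := (NatTrans.mapHomologicalComplex ((tensoringLeft (ModuleCat.{u} R)).map f) (ComplexShape.down ℕ)).app P.complex
  map_id X := by ext n : 1; simp
  map_comp f g := by ext n : 1; simp

instance {N : ModuleCat.{u} R} (P : ProjectiveResolution N) : (C P).PreservesZeroMorphisms where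
  map_zero X Y := by
    ext n : 1
    show (0 : X ⟶ Y) ▷ P.complex.X n = 0
    exact (tensorRight (P.complex.X n)).map_zero X Y

noncomputable def isoT {N : ModuleCat.{u} R} (P : ProjectiveResolution N) (i : ℕ) (X : ModuleCat.{u} R) :
    T i X N ≅ ((C P).obj X).homology i :=
  P.isoLeftDerivedObj (tensorLeft X) i

theorem shortExact_C {N : ModuleCat.{u} R} (P : ProjectiveResolution N) (S : ShortComplex (ModuleCat.{u} R))
    (hS : S.ShortExact) : (S.map (C P)).ShortExact := by
  refine HomologicalComplex.shortExact_of_degreewise_shortExact _ fun n => ?_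
  haveI : Module.Projective R (P.complex.X n) :=
    (IsProjective.iff_projective (R := R) (P.complex.X n)).2 (P.projective n)
  exact hS.map_of_exact (tensorRight (P.complex.X n))

/-- The connecting isomorphism. -/
theorem nonempty_shift (S : ShortComplex (ModuleCat.{u} R)) (hS : S.ShortExact) (N : ModuleCat.{u} R) (i : ℕ)
    (h1 : IsZero (T (i + 1) S.X₂ N)) (h0 : IsZero (T i S.X₂ N)) :
    Nonempty (T (i + 1) S.X₃ N ≅ T i S.X₁ N) := by
  let P := projectiveResolution N
  have h := shortExact_C P S hS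
  exact ⟨isoT P (i + 1) S.X₃ ≪≫ h.δIso (i + 1) i rfl (h1.of_iso (isoT P (i + 1) S.X₂).symm)
    (h0.of_iso (isoT P i S.X₂).symm) ≪≫ (isoT P i S.X₁).symm⟩

/-- Vanishing of `Tor` of a quotient. -/
theorem isZero_three (S : ShortComplex (ModuleCat.{u} R)) (hS : S.ShortExact) (N : ModuleCat.{u} R) (i : ℕ)
    (h1 : IsZero (T (i + 1) S.X₂ N)) (h0 : IsZero (T i S.X₁ N)) : IsZero (T (i + 1) S.X₃ N) := by
  let P := projectiveResolution N
  have h := shortExact_C P S hS
  refine IsZero.of_iso ?_ (isoT P (i + 1) S.X₃)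
  exact ShortComplex.Exact.isZero_of_both_zeros (h.homology_exact₃ (i + 1) i rfl)
    ((h1.of_iso (isoT P (i + 1) S.X₂).symm).eq_of_src _ _) ((h0.of_iso (isoT P i S.X₁).symm).eq_of_tgt _ _)

theorem isZero_of_flat (X : ModuleCat.{u} R) [Module.Flat R X] (N : ModuleCat.{u} R) {i : ℕ} (hi : 1 ≤ i) :
    IsZero (T i X N) := by
  let P := projectiveResolution N
  refine IsZero.of_iso ?_ (isoT P i X)
  rw [← HomologicalComplex.exactAt_iff_isZero_homology]
  obtain ⟨i, rfl⟩ := Nat.exists_eq_succ_of_ne_zero (by omega : i ≠ 0)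
  have h := (P.complex_exactAt_succ i)
  rw [HomologicalComplex.exactAt_iff' _ (i + 2) (i + 1) i (by simp) (by simp)] at h ⊢
  exact h.map (tensorLeft X)

theorem flat_of_isZero (X : ModuleCat.{u} R) (h : ∀ N : ModuleCat.{u} R, IsZero (T 1 X N)) : Module.Flat R X := by
  rw [Module.Flat.iff_lTensor_preserves_injective_linearMap]
  intro A B _ _ _ _ j hj
  have key := (Groth.Agent.CAlgH3.isZero_tor_one_iff (R := R) X (B ⧸ LinearMap.range j)).1 (h (ModuleCat.of R _))
  exact (LinearMap.lTensor_inj_iff_rTensor_inj X j).2 (Groth.Agent.Tor15.torVanish_symm key j (LinearMap.range j).mkQ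
    (LinearMap.exact_iff.2 (Submodule.ker_mkQ _)) (Submodule.mkQ_surjective _) hj)

theorem exists_free_cover (X : ModuleCat.{u} R) :
    ∃ (K F : ModuleCat.{u} R) (f : K ⟶ F) (g : F ⟶ X) (w : f ≫ g = 0),
      (ShortComplex.mk f g w).ShortExact ∧ Module.Free R F := by
  let q := Finsupp.linearCombination R (id : X → X)
  refine ⟨ModuleCat.of R (LinearMap.ker q), ModuleCat.of R (X →₀ R), ModuleCat.ofHom (LinearMap.ker q).subtype,
    ModuleCat.ofHom q, ?_, ?_, inferInstanceAs (Module.Free R (X →₀ R))⟩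
  · ext1; exact LinearMap.comp_ker_subtype q
  · refine { exact := ?_, mono_f := ?_, epi_g := ?_ }
    · exact (ShortComplex.ShortExact.moduleCat_exact_iff_function_exact _).2 (LinearMap.exact_subtype_ker_map q)
    · exact (ModuleCat.mono_iff_injective _).2 (Submodule.injective_subtype _)
    · exact (ModuleCat.epi_iff_surjective _).2 fun x => ⟨Finsupp.single x 1, by simp [q]⟩

/-- `Z` is a `j`-th syzygy of `M`. -/
inductive Syz : ℕ → ModuleCat.{u} R → ModuleCat.{u} R → Prop
  | zero (M : ModuleCat.{u} R) : Syz 0 M M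
  | succ {j : ℕ} {M Z K F : ModuleCat.{u} R} (f : K ⟶ F) (g : F ⟶ M) (w : f ≫ g = 0)
      (h : (ShortComplex.mk f g w).ShortExact) (hF : Module.Free R F) (hK : Syz j K Z) : Syz (j + 1) M Z

theorem exists_syz : ∀ (j : ℕ) (M : ModuleCat.{u} R), ∃ Z, Syz j M Z
  | 0, M => ⟨M, .zero M⟩
  | j + 1, M => by
    obtain ⟨K, F, f, g, w, h, hF⟩ := exists_free_cover M
    obtain ⟨Z, hZ⟩ := exists_syz j K
    exact ⟨Z, .succ f g w h hF hZ⟩

theorem Syz.shift {j : ℕ} {M Z : ModuleCat.{u} R} (h : Syz j M Z) (N : ModuleCat.{u} R) {i : ℕ} (hi : 1 ≤ i) :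
    Nonempty (T (i + j) M N ≅ T i Z N) := by
  induction h with
  | zero M => exact ⟨Iso.refl _⟩
  | @succ j M Z K F f g w h hF hK ih =>
    haveI : Module.Flat R F := inferInstance
    obtain ⟨e⟩ := nonempty_shift (ShortComplex.mk f g w) h N (i + j) (isZero_of_flat F N (by omega))
      (isZero_of_flat F N (by omega))
    obtain ⟨e'⟩ := ih
    exact ⟨e ≪≫ e'⟩

/-- Syzygies over a flat algebra shift `Tor` over the base. -/
theorem Syz.shift_restrict {A B : Type u} [CommRing A] [CommRing B] (φ : A →+* B) (hφ : φ.Flat) {j : ℕ}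
    {M Z : ModuleCat.{u} B} (h : Syz j M Z) (N : ModuleCat.{u} A) {i : ℕ} (hi : 1 ≤ i) :
    Nonempty (T (i + j) ((ModuleCat.restrictScalars.{u} φ).obj M) N ≅
      T i ((ModuleCat.restrictScalars.{u} φ).obj Z) N) := by
  induction h with
  | zero M => exact ⟨Iso.refl _⟩
  | @succ j M Z K F f g w h hF hK ih =>
    haveI : Module.Flat A ((ModuleCat.restrictScalars.{u} φ).obj F) := by
      letI := φ.toAlgebra
      haveI : Module.Flat A B := hφ
      letI : Module A F := Module.compHom F φ
      haveI : IsScalarTower A B F := .of_algebraMap_smul fun _ _ => rfl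
      exact Module.Flat.trans A B F
    obtain ⟨e⟩ := nonempty_shift ((ShortComplex.mk f g w).map (ModuleCat.restrictScalars.{u} φ))
      (h.map_of_exact _) N (i + j) (isZero_of_flat ((ModuleCat.restrictScalars.{u} φ).obj F) N (by omega)) (isZero_of_flat ((ModuleCat.restrictScalars.{u} φ).obj F) N (by omega))
    obtain ⟨e'⟩ := ih
    exact ⟨e ≪≫ e'⟩

end Groth.Agent.CommAlg4.TorSyz
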