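import Mathlib
import Groth.Agent.CommAlg4.TorSyz
import Groth.Agent.FlatCx12.DiagDim

/-!
# Flat dimension over an algebra smooth of relative dimension `n`
-/

set_option autoImplicit false
set_option linter.all false
set_option backward.isDefEq.respectTransparency false
set_option backward.defeqAttrib.useBackward true

universe u

open CategoryTheory CategoryTheory.Limits TensorProduct Function
open Groth.Agent.CommAlg4.TorSyz

attribute [local instance] HasDerivedCategory.standard

namespace Groth.Agent.CommAlg4.SmoothFlatDim

theorem flat_tensor_left {A B L M : Type u} [CommRing A] [CommRing B] [Algebra A B]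
    [AddCommGroup L] [Module B L] [Module A L] [IsScalarTower A B L] [AddCommGroup M] [Module B M]
    [Module A M] [IsScalarTower A B M] [Module.Flat B L] [Module.Flat A M] :
    Module.Flat A (L ⊗[B] M) := by
  rw [Module.Flat.iff_lTensor_preserves_injective_linearMap]
  intro X Y _ _ _ _ i hi
  let eX := AlgebraTensorModule.assoc A B B L M X
  let eY := AlgebraTensorModule.assoc A B B L M Y
  let j : M ⊗[A] X →ₗ[B] M ⊗[A] Y := AlgebraTensorModule.lTensor B M i
  have hj : Injective (j.lTensor L) := Module.Flat.lTensor_preserves_injective_linearMap j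
    (Module.Flat.lTensor_preserves_injective_linearMap i hi)
  have : ∀ z, j.lTensor L (eX z) = eY (i.lTensor (L ⊗[B] M) z) := fun z => by
    induction z using TensorProduct.induction_on with
    | zero => simp
    | add u v hu hv => simp only [map_add, hu, hv]
    | tmul w x =>
      induction w using TensorProduct.induction_on with
      | zero => simp
      | add u v hu hv => simp only [add_tmul, map_add, hu, hv]
      | tmul l m => simp [eX, eY, j]
  intro x y hxy
  apply eX.injective
  apply hj
  rw [this, this, hxy]

/-- Syzygies after flat base change. -/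
theorem flat_baseChange_of_syz {B B' : Type u} [CommRing B] [CommRing B'] [Algebra B B'] [Module.Flat B B']
    {j : ℕ} {X Z : ModuleCat.{u} B} (h : Syz j X Z)
    (hX : FlatCx12.TorAmpComp.D (A := B') j (B' ⊗[B] X)) : Module.Flat B' (B' ⊗[B] Z) := by
  induction h with
  | zero M => exact Tor15.flat_of_dim_zero fun N _ _ => hX N
  | @succ j M Z K F f g w h hF hK ih =>
    refine ih fun N _ _ => ?_
    have hex : Function.Exact f.hom g.hom :=
      (ShortComplex.ShortExact.moduleCat_exact_iff_function_exact _).1 h.exact
    have hg : Surjective g.hom := (ModuleCat.epi_iff_surjective _).1 h.epi_g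
    have hf : Injective f.hom := (ModuleCat.mono_iff_injective _).1 h.mono_f
    haveI : Module.Flat B' (B' ⊗[B] F) := inferInstance
    exact Tor15.dim_shift j (f.hom.baseChange B') (g.hom.baseChange B')
      (lTensor_exact B' hex hg) (LinearMap.lTensor_surjective B' hg)
      (Module.Flat.lTensor_preserves_injective_linearMap f.hom hf) (hX N)

/-- Over an algebra which is étale over a polynomial algebra in `n` variables, modules flat over the base have
tor dimension at most `n`. -/
theorem D_of_flat {A B : Type u} [CommRing A] [CommRing B] [Algebra A B] {n : ℕ}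
    [Algebra.IsStandardSmoothOfRelativeDimension n A B] (X : Type u) [AddCommGroup X] [Module B X] [Module A X]
    [IsScalarTower A B X] [Module.Flat A X] : FlatCx12.TorAmpComp.D (A := B) n X := by
  obtain ⟨g, hg⟩ := Algebra.IsStandardSmoothOfRelativeDimension.exists_etale_mvPolynomial n A B
  have hun : letI := g.toRingHom.toAlgebra; Algebra.FormallyUnramified (MvPolynomial (Fin n) A) B := by
    letI := g.toRingHom.toAlgebra
    haveI : Algebra.Etale (MvPolynomial (Fin n) A) B := hg
    infer_instance
  have hef : letI := g.toRingHom.toAlgebra; Algebra.EssFiniteType (MvPolynomial (Fin n) A) B := by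
    letI := g.toRingHom.toAlgebra
    haveI : Algebra.Etale (MvPolynomial (Fin n) A) B := hg
    infer_instance
  have hfl : g.toRingHom.Flat := by
    letI := g.toRingHom.toAlgebra
    haveI : Algebra.Etale (MvPolynomial (Fin n) A) B := hg
    show Module.Flat (MvPolynomial (Fin n) A) B
    infer_instance
  let K : DRing.Cx B := (HomologicalComplex.single (ModuleCat.{u} B) (ComplexShape.up ℤ) 0).obj (ModuleCat.of B X)
  have hvan : ∀ i : ℤ, i ≠ 0 → IsZero (K.X i) := fun i hi => HomologicalComplex.isZero_single_obj_X _ _ _ _ hi
  have h : DRing.HasTorAmplitudeIn A 0 0 (DRing.toD ((DRing.restrictCx (algebraMap A B)).obj K)) := by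
    refine ⟨(DRing.restrictCx (algebraMap A B)).obj K,
      fun i hi => (ModuleCat.restrictScalars.{u} (algebraMap A B)).map_isZero (hvan i (by omega)), fun i => ?_,
      ⟨Iso.refl _⟩⟩
    by_cases hi : i = 0
    · subst hi
      let e : (ModuleCat.restrictScalars.{u} (algebraMap A B)).obj (ModuleCat.of B X) ≅ ModuleCat.of A X :=
        LinearEquiv.toModuleIso (X₁ := (ModuleCat.restrictScalars.{u} (algebraMap A B)).obj (ModuleCat.of B X))
          (X₂ := ModuleCat.of A X)
          { AddEquiv.refl X with map_smul' := fun a x => algebraMap_smul (M := X) B a x }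
      exact Module.Flat.of_linearEquiv (((ModuleCat.restrictScalars.{u} (algebraMap A B)).mapIso
        (HomologicalComplex.singleObjXSelf (ComplexShape.up ℤ) 0 (ModuleCat.of B X))).trans e).toLinearEquiv
    · haveI : Subsingleton ((((DRing.restrictCx (algebraMap A B)).obj K).X i : ModuleCat.{u} A) : Type u) :=
        ModuleCat.subsingleton_of_isZero ((ModuleCat.restrictScalars.{u} (algebraMap A B)).map_isZero (hvan i hi))
      exact inferInstance
  have h2 := FlatCx12.DiagDim.amp_of_unramified_polynomial g.toRingHom hfl hun hef (algebraMap A B)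
    g.comp_algebraMap.symm K h
  rw [zero_sub] at h2
  exact FlatCx12.TorAmpComp.D_of_amp n X (FlatCx12.TorAmpComp.amp_iso
    ((DerivedCategory.singleFunctorIsoCompQ (ModuleCat.{u} B) 0).app (ModuleCat.of B X)).symm h2)

/-- An `n`-th syzygy of a module flat over the base is flat over an algebra smooth of relative dimension `n`. -/
theorem flat_syz {A B : Type u} [CommRing A] [CommRing B] [Algebra A B] [Algebra.Smooth A B] (n : ℕ)
    (hn : ∀ p : PrimeSpectrum B, Module.rankAtStalk (Ω[B⁄A]) p = n) {X Z : ModuleCat.{u} B}
    [Module A X] [IsScalarTower A B X] [Module.Flat A X] (h : Syz n X Z) : Module.Flat B Z := by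
  obtain ⟨s, hs, hstd⟩ := Algebra.Smooth.exists_span_eq_top_isStandardSmooth A B
  haveI : ∀ r : s, IsLocalizedModule.Away r.1 (TensorProduct.mk B (Localization.Away r.1) Z 1) := fun r =>
    (isLocalizedModule_iff_isBaseChange (Submonoid.powers r.1) (Localization.Away r.1) _).2
      (TensorProduct.isBaseChange B Z (Localization.Away r.1))
  refine Module.flat_of_isLocalized_span (S := B) (R := B) (M := Z) s hs
    (fun r => Localization.Away r.1 ⊗[B] Z) (fun r => TensorProduct.mk B (Localization.Away r.1) Z 1) fun r => ?_
  obtain ⟨r, hr⟩ := r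
  let B' := Localization.Away r
  show Module.Flat B (B' ⊗[B] Z)
  haveI : Algebra.IsStandardSmooth A B' := hstd r hr
  haveI : Module.Flat B B' := IsLocalization.flat B' (Submonoid.powers r)
  suffices Module.Flat B' (B' ⊗[B] Z) from Module.Flat.trans B B' _
  cases subsingleton_or_nontrivial B'
  · haveI : Subsingleton (B' ⊗[B] Z) := Module.subsingleton B' _
    haveI : Module.Free B' (B' ⊗[B] Z) := Module.Free.of_subsingleton B' _
    exact Module.Flat.of_free
  haveI : Algebra.FormallyEtale B B' := Algebra.FormallyEtale.of_isLocalization (Submonoid.powers r)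
  haveI : Algebra.IsStandardSmoothOfRelativeDimension n A B' := by
    rw [Algebra.IsStandardSmoothOfRelativeDimension.iff_of_isStandardSmooth]
    haveI : Module.Free B' (Ω[B'⁄A]) := inferInstance
    let p : PrimeSpectrum B' := Classical.arbitrary _
    have h1 := congrFun (Module.rankAtStalk_eq_of_equiv (KaehlerDifferential.tensorKaehlerEquivOfFormallyEtale A B B')) p
    rw [Module.rankAtStalk_baseChange, hn, congrFun (Module.rankAtStalk_eq_finrank_of_free (R := B') (M := Ω[B'⁄A])) p] at h1
    rw [← Module.finrank_eq_rank]
    exact congrArg Nat.cast h1.symm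
  haveI : Module.Flat A (B' ⊗[B] X) := flat_tensor_left
  exact flat_baseChange_of_syz h (D_of_flat (A := A) (n := n) _)

end Groth.Agent.CommAlg4.SmoothFlatDim
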