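import Groth.Agent.CommAlg4.FormStable
import Groth.Agent.CommAlg4.CommonZero
import Mathlib.Data.Fin.Tuple.Sort
import Mathlib.Algebra.MvPolynomial.PDeriv
import Mathlib.Algebra.Order.BigOperators.Group.Finset

/-!
# Smooth forms of degree at least three satisfy the numerical criterion
-/

set_option autoImplicit false
universe u

noncomputable section

open MvPolynomial

namespace Groth.Agent.CommAlg4.FormAct

variable {N d : ℕ} {k : Type u} [Field k] [IsAlgClosed k]

omit [IsAlgClosed k] in
theorem pderiv_subst (M : Matrix (Fin N) (Fin N) k) (F : MvPolynomial (Fin N) k) (i : Fin N) :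
    pderiv i (subst M F) = ∑ j, C (M j i) * subst M (pderiv j F) := by
  classical
  induction F using MvPolynomial.induction_on with
  | C a => simp
  | add p q hp hq => simp only [map_add, hp, hq, mul_add, Finset.sum_add_distrib]
  | mul_X p l hp =>
    have e1 : ∀ j, subst M (pderiv j (p * X l)) = subst M (pderiv j p) * (∑ a, C (M l a) * X a) +
        (if j = l then subst M p else 0) := fun j => by
      rw [pderiv_mul, map_add, map_mul, map_mul, subst_X, pderiv_X, Pi.single_apply]
      by_cases h : j = l
      · subst h; simp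
      · simp [h, Ne.symm h]
    have e2 : pderiv i (∑ a, C (M l a) * X a) = C (M l i) := by
      rw [map_sum, Finset.sum_eq_single i]
      · simp
      · intro a _ ha; simp [pderiv_X_of_ne ha]
      · simp
    rw [map_mul, pderiv_mul, hp, subst_X, e2]
    simp only [e1, mul_add, Finset.sum_add_distrib, mul_ite, mul_zero, Finset.sum_ite_eq', Finset.mem_univ, if_true,
      Finset.sum_mul]
    refine congrArg₂ (· + ·) (Finset.sum_congr rfl fun j _ => by ring) (mul_comm _ _)

omit [IsAlgClosed k] in
theorem smooth_subst {M : Matrix (Fin N) (Fin N) k} (hM : M.det ≠ 0) {F : MvPolynomial (Fin N) k}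
    (hF : ∀ w : Fin N → k, w ≠ 0 → ∃ i, eval w (pderiv i F) ≠ 0) (w : Fin N → k) (hw : w ≠ 0) :
    ∃ i, eval w (pderiv i (subst M F)) ≠ 0 := by
  by_contra! hall
  have hne : M.mulVec w ≠ 0 := fun h => hw (Matrix.eq_zero_of_mulVec_eq_zero hM h)
  obtain ⟨j, hj⟩ := hF _ hne
  have h1 : M.transpose.mulVec (fun j => eval (M.mulVec w) (pderiv j F)) = 0 := funext fun i => by
    have h2 := hall i
    rw [pderiv_subst, map_sum] at h2
    simpa [Matrix.mulVec, dotProduct, eval_subst] using h2
  exact hj (congrFun (Matrix.eq_zero_of_mulVec_eq_zero (by rwa [Matrix.det_transpose]) h1) j)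

/-- Smooth forms of degree at least three. -/
theorem good_of_smooth (hd : 3 ≤ d) {F : MvPolynomial (Fin N) k} (hF : F.IsHomogeneous d)
    (hsm : ∀ w : Fin N → k, w ≠ 0 → ∃ i, eval w (pderiv i F) ≠ 0) :
    Good.{u} (↑F.support : Set (Fin N →₀ ℕ)) := by
  classical
  intro Γ _ _ _ r hr hS
  let σ := Tuple.sort r
  let ρ : Fin N → Γ := r ∘ σ
  have hρ : Monotone ρ := Tuple.monotone_sort r
  have key : ∀ s : Fin N, (d - 1) • ρ s + ρ s.rev ≤ 0 := by
    intro s
    by_contra! hs
    let Tset : Finset (Fin N) := Finset.univ.filter fun i => (d - 1) • ρ s + r i ≤ 0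
    have hT : Tset.card < N - s.1 := by
      have h1 : Tset ⊆ (Finset.univ.filter fun t : Fin N => t < s.rev).image σ := fun i hi => by
        refine Finset.mem_image.2 ⟨σ.symm i, Finset.mem_filter.2 ⟨Finset.mem_univ _, ?_⟩, σ.apply_symm_apply i⟩
        by_contra! hle
        have h2 := hρ hle
        simp only [ρ, Function.comp_apply, Equiv.apply_symm_apply] at h2
        exact absurd (Finset.mem_filter.1 hi).2 (not_le.2 (hs.trans_le (add_le_add_right h2 _)))
      refine (Finset.card_le_card h1).trans_lt ((Finset.card_image_le).trans_lt ?_)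
      rw [Finset.filter_gt_eq_Iio, Fin.card_Iio, Fin.val_rev]
      omega
    let emb : Fin (N - s.1) → Fin N := fun t => σ ⟨s.1 + t.1, by omega⟩
    have hemb : Function.Injective emb := fun a b h => Fin.ext (by
      have := congrArg Fin.val (σ.injective h)
      simp only at this
      omega)
    have hembr : ∀ t, ρ s ≤ r (emb t) := fun t => hρ (show s ≤ ⟨s.1 + t.1, _⟩ from by simp [Fin.le_def])
    let x' : Fin N → MvPolynomial (Fin (N - s.1)) k := fun i =>
      if h : ∃ t, emb t = i then X h.choose else 0
    let q : Fin N → MvPolynomial (Fin (N - s.1)) k := fun i => aeval x' (pderiv i F)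
    have hx0 : ∀ y : Fin (N - s.1) → k, ∀ i, eval y (x' i) = if h : ∃ t, emb t = i then y h.choose else 0 :=
      fun y i => by
        simp only [x']
        split_ifs <;> simp
    have heval : ∀ (y : Fin (N - s.1) → k) i, eval y (q i) = eval (fun l => eval y (x' l)) (pderiv i F) := fun y i => by
      refine RingHom.congr_fun (ringHom_ext (f := (eval y).comp (aeval x').toRingHom)
        (g := eval fun l => eval y (x' l)) (fun c => ?_) fun l => ?_) (pderiv i F)
      · simp
      · simp
    obtain ⟨y, hy, hy0⟩ := exists_ne_zero_common_zero Tset q (fun i _ => by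
      rw [heval]
      have : (fun l => eval (0 : Fin (N - s.1) → k) (x' l)) = 0 := funext fun l => by
        rw [hx0]; split_ifs <;> rfl
      rw [this]
      have h3 := (hF.pderiv (i := i)).coeff_eq_zero (d := 0) (by simp; omega)
      rw [← constantCoeff_eq] at h3
      simpa [eval_zero] using h3) hT
    let v : Fin N → k := fun l => eval y (x' l)
    have hv : v ≠ 0 := fun h => hy (funext fun t => by
      have h4 := congrFun h (emb t)
      have he : ∃ t', emb t' = emb t := ⟨t, rfl⟩
      simp only [v, hx0, dif_pos he] at h4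
      rwa [hemb he.choose_spec] at h4)
    obtain ⟨i, hi⟩ := hsm v hv
    by_cases hiT : i ∈ Tset
    · exact hi (by rw [← heval]; exact hy0 i hiT)
    refine hi ?_
    rw [eval_eq']
    refine Finset.sum_eq_zero fun f hf => ?_
    by_contra hne
    have hfsup : ∀ l, f l ≠ 0 → ρ s ≤ r l := fun l hl => by
      by_contra hlt
      have hv0 : v l = 0 := by
        simp only [v, hx0]
        rw [dif_neg]
        rintro ⟨t, rfl⟩
        exact hlt (hembr t)
      exact hne (mul_eq_zero_of_right _ (Finset.prod_eq_zero (Finset.mem_univ l) (by rw [hv0, zero_pow hl])))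
    have hfc : coeff f (pderiv i F) ≠ 0 := mem_support_iff.1 hf
    rw [coeff_pderiv] at hfc
    have he : f + Finsupp.single i 1 ∈ F.support := mem_support_iff.2 (left_ne_zero_of_mul hfc)
    have hsum := hS _ he
    have hdeg : ∑ l, f l = d - 1 := by
      have h5 : f.degree = d - 1 := by
        have h6 : (f + Finsupp.single i 1).degree = d := by
          by_contra h7
          exact left_ne_zero_of_mul hfc (hF.coeff_eq_zero h7)
        rw [map_add, Finsupp.degree_single] at h6
        omega
      rwa [Finsupp.degree_eq_sum] at h5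
    have h8 : ∑ l, (f + Finsupp.single i 1 : Fin N →₀ ℕ) l • r l = (∑ l, f l • r l) + r i := by
      simp [Finsupp.add_apply, add_smul, Finset.sum_add_distrib, Finsupp.single_apply, ite_smul]
    have h9 : (d - 1) • ρ s ≤ ∑ l, f l • r l := by
      rw [← hdeg, Finset.sum_smul]
      refine Finset.sum_le_sum fun l _ => ?_
      by_cases hl : f l = 0
      · simp [hl]
      · exact nsmul_le_nsmul_right (hfsup l hl) _
    have h10 : 0 < (d - 1) • ρ s + r i := by
      by_contra h11
      exact hiT (Finset.mem_filter.2 ⟨Finset.mem_univ _, not_lt.1 h11⟩)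
    rw [h8] at hsum
    exact absurd (h10.trans_le (add_le_add_left h9 _)) (not_lt.2 hsum)
  have hρsum : ∑ s, ρ s = 0 := (Equiv.sum_comp σ r).trans hr
  have htot : ∑ s : Fin N, ((d - 1) • ρ s + ρ s.rev) = 0 := by
    rw [Finset.sum_add_distrib, ← Finset.smul_sum, hρsum, smul_zero, zero_add]
    exact (Equiv.sum_comp Fin.revPerm ρ).trans hρsum
  have heq : ∀ s, (d - 1) • ρ s + ρ s.rev = 0 := fun s =>
    (Finset.sum_eq_zero_iff_of_nonpos fun s _ => key s).1 htot s (Finset.mem_univ s)
  intro i
  obtain ⟨s, rfl⟩ := σ.surjective i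
  show ρ s = 0
  have h1 : ρ s.rev = -((d - 1) • ρ s) := eq_neg_of_add_eq_zero_right (heq s)
  have h2 := heq s.rev
  rw [Fin.rev_rev, h1, smul_neg, smul_smul] at h2
  obtain ⟨m, hm⟩ : ∃ m, (d - 1) * (d - 1) = m + 2 := ⟨(d - 1) * (d - 1) - 2, by
    have : 2 * 2 ≤ (d - 1) * (d - 1) := Nat.mul_le_mul (by omega) (by omega)
    omega⟩
  rw [hm, succ_nsmul, neg_add, add_assoc, neg_add_cancel, add_zero, neg_eq_zero] at h2
  exact (smul_eq_zero.1 h2).resolve_left (Nat.succ_ne_zero m)

theorem isStableVec_of_smooth (hd : 3 ≤ d) (a : CoordGrp.FormIdx N d → k)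
    (hsm : ∀ w : Fin N → k, w ≠ 0 → ∃ i, eval w (pderiv i (CoordGrp.formPoly a)) ≠ 0) :
    @GLin.IsStableVec k _ (CoordGrp.SLn N k) _ _ (CoordGrp.FormIdx N d) (slComod N d k) (slComod_coactAlg N d k) a :=
  isStableVec_of_good a fun g hg =>
    good_of_smooth hd (isHomogeneous_subst g (isHomogeneous_formPoly a)) (smooth_subst hg hsm)

end Groth.Agent.CommAlg4.FormAct
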