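import Groth.Agent.DimLib.Tensor
import Groth.Agent.DimLib.Sub
import Groth.Agent.BertiniLib.RelDim
import Mathlib.RingTheory.Ideal.KrullsHeightTheorem
import Mathlib.RingTheory.Ideal.IdempotentFG
import Mathlib.AlgebraicGeometry.Morphisms.Smooth

/-! Dimension of intersections in a smooth scheme over a field. -/

universe u

open CategoryTheory AlgebraicGeometry TensorProduct

namespace Groth.Agent.CommAlg4

/-- Two maps out of an unramified algebra into a Noetherian domain which agree modulo a proper ideal agree. -/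
theorem eq_of_unramified {R A D : Type*} [CommRing R] [CommRing A] [Algebra R A]
    [Algebra.FormallyUnramified R A] [CommRing D] [IsDomain D] [IsNoetherianRing D] [Algebra R D]
    (f₁ f₂ : A →ₐ[R] D) (P : Ideal D) (hP : P ≠ ⊤) (h : ∀ a, f₁ a - f₂ a ∈ P) : f₁ = f₂ := by
  let ψ : A ⊗[R] A →ₐ[R] D := Algebra.TensorProduct.lift f₁ f₂ fun _ _ => Commute.all _ _
  have hI : IsIdempotentElem (KaehlerDifferential.ideal R A) :=
    (Ideal.cotangent_subsingleton_iff _).1 (inferInstanceAs (Subsingleton Ω[A⁄R]))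
  have hJ : IsIdempotentElem ((KaehlerDifferential.ideal R A).map ψ) := by
    rw [IsIdempotentElem, ← Ideal.map_mul, hI.eq]
  have hle : (KaehlerDifferential.ideal R A).map ψ ≤ P := by
    rw [← KaehlerDifferential.span_range_eq_ideal, Ideal.map_span, Ideal.span_le]
    rintro _ ⟨_, ⟨a, rfl⟩, rfl⟩
    show ψ _ ∈ P
    rw [map_sub, Algebra.TensorProduct.lift_tmul, Algebra.TensorProduct.lift_tmul, map_one, map_one,
      one_mul, mul_one, ← neg_sub]
    exact P.neg_mem (h a)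
  rcases (Ideal.isIdempotentElem_iff_eq_bot_or_top _ (IsNoetherian.noetherian _)).1 hJ with h0 | h1
  · refine AlgHom.ext fun a => ?_
    have hm : (1 : A) ⊗ₜ[R] a - a ⊗ₜ[R] 1 ∈ KaehlerDifferential.ideal R A :=
      KaehlerDifferential.one_smul_sub_smul_one_mem_ideal R a
    have := Ideal.mem_map_of_mem ψ hm
    rw [h0, Ideal.mem_bot, map_sub, Algebra.TensorProduct.lift_tmul, Algebra.TensorProduct.lift_tmul,
      map_one, map_one, one_mul, mul_one] at this
    exact (sub_eq_zero.1 this).symm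
  · exact absurd (top_le_iff.1 (h1 ▸ hle)) hP

theorem height_le_of_minimal_span {R : Type*} [CommRing R] [IsNoetherianRing R] {n : ℕ} (v : Fin n → R)
    {p : Ideal R} (hp : p ∈ (Ideal.span (Set.range v)).minimalPrimes) : p.height ≤ (n : ℕ∞) := by
  refine (Ideal.height_le_spanRank_toENat_of_mem_minimalPrimes _ p hp).trans ?_
  refine (Cardinal.toENat.monotone' (Submodule.spanRank_span_le_card _)).trans ?_
  show (Set.range v).encard ≤ _
  exact (Set.encard_le_encard (Set.image_univ.symm.le)).trans ((Set.encard_image_le _ _).trans (by simp))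

variable {k : Type u} [Field k] {A : Type u} [CommRing A] [Algebra k A]

/-- Intersection dimension inequality in a standard smooth algebra. -/
theorem ringKrullDim_add_le_of_standardSmooth (n : ℕ) [Algebra.IsStandardSmoothOfRelativeDimension n k A]
    (p₁ p₂ q : Ideal A) [p₁.IsPrime] [p₂.IsPrime] [q.IsPrime] (h₁ : p₁ ≤ q) (h₂ : p₂ ≤ q)
    (hmin : ∀ q' : Ideal A, q'.IsPrime → p₁ ≤ q' → p₂ ≤ q' → q' ≤ q → q' = q) :
    ringKrullDim (A ⧸ p₁) + ringKrullDim (A ⧸ p₂) ≤ ringKrullDim (A ⧸ q) + (n : WithBot ℕ∞) := by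
  classical
  have : Algebra.IsStandardSmooth k A := Algebra.IsStandardSmoothOfRelativeDimension.isStandardSmooth n
  have : Algebra.FiniteType k A := inferInstance
  obtain ⟨g, hg⟩ := Algebra.IsStandardSmoothOfRelativeDimension.exists_etale_mvPolynomial n k A
  let R := MvPolynomial (Fin n) k
  let _ : Algebra R A := g.toRingHom.toAlgebra
  have : IsScalarTower k R A := IsScalarTower.of_algebraMap_eq fun x => (g.commutes x).symm
  have : Algebra.Etale R A := RingHom.etale_algebraMap.mp hg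
  have : Algebra.FormallyUnramified R A := inferInstance
  let B := A ⧸ p₁
  let C := A ⧸ p₂
  let T := B ⊗[k] C
  have : Algebra.FiniteType k T := Algebra.FiniteType.trans (S := B) inferInstance inferInstance
  have : IsNoetherianRing T := Algebra.FiniteType.isNoetherianRing k T
  let μ : T →ₐ[k] A ⧸ q := Algebra.TensorProduct.lift (Ideal.Quotient.factorₐ k h₁) (Ideal.Quotient.factorₐ k h₂)
    fun _ _ => Commute.all _ _
  let i₁ : A →ₐ[k] T := Algebra.TensorProduct.includeLeft.comp (Ideal.Quotient.mkₐ k p₁)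
  let i₂ : A →ₐ[k] T := Algebra.TensorProduct.includeRight.comp (Ideal.Quotient.mkₐ k p₂)
  have hμ₁ : ∀ a, μ (i₁ a) = Ideal.Quotient.mk q a := fun a => by simp [μ, i₁, T, B, C]
  have hμ₂ : ∀ a, μ (i₂ a) = Ideal.Quotient.mk q a := fun a => by simp [μ, i₂, T, B, C]
  have hμs : Function.Surjective μ := fun x => by
    obtain ⟨a, rfl⟩ := Ideal.Quotient.mk_surjective x
    exact ⟨_, hμ₁ a⟩
  let P : Ideal T := RingHom.ker μ
  have : P.IsPrime := RingHom.ker_isPrime μ
  let d : Fin n → T := fun i => i₁ (g (MvPolynomial.X i)) - i₂ (g (MvPolynomial.X i))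
  let J : Ideal T := Ideal.span (Set.range d)
  have hdiff : ∀ a, i₁ a - i₂ a ∈ P := fun a => by simp [P, hμ₁, hμ₂]
  have hJP : J ≤ P := Ideal.span_le.2 (by rintro _ ⟨i, rfl⟩; exact hdiff _)
  have hPmin : P ∈ J.minimalPrimes := by
    refine ⟨⟨inferInstance, hJP⟩, ?_⟩
    rintro Q ⟨hQ, hJQ⟩ hQP
    let D := T ⧸ Q
    let f₁ : A →ₐ[k] D := (Ideal.Quotient.mkₐ k Q).comp i₁
    let f₂ : A →ₐ[k] D := (Ideal.Quotient.mkₐ k Q).comp i₂
    have hR : f₁.comp g = f₂.comp g := MvPolynomial.algHom_ext fun i =>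
      (Ideal.Quotient.eq.2 (hJQ (Ideal.subset_span ⟨i, rfl⟩)) : _)
    letI : CommRing D := Ideal.Quotient.commRing Q
    let φR : R →+* D := (f₁.comp g).toRingHom
    letI : Algebra R D := φR.toAlgebra
    let F₁ : A →ₐ[R] D := { f₁.toRingHom with commutes' := fun _ => rfl }
    let F₂ : A →ₐ[R] D := { f₂.toRingHom with commutes' := fun x => (DFunLike.congr_fun hR x).symm }
    have hP' : P.map (Ideal.Quotient.mk Q) ≠ ⊤ := by
      intro e
      have := Ideal.comap_map_of_surjective (Ideal.Quotient.mk Q) Ideal.Quotient.mk_surjective P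
      rw [e, Ideal.comap_top, ← RingHom.ker_eq_comap_bot, Ideal.mk_ker, sup_eq_left.2 hQP] at this
      exact (‹P.IsPrime›).ne_top this.symm
    have heq : F₁ = F₂ := eq_of_unramified F₁ F₂ _ hP' fun a => by
      show Ideal.Quotient.mk Q (i₁ a) - Ideal.Quotient.mk Q (i₂ a) ∈ _
      rw [← map_sub]
      exact Ideal.mem_map_of_mem _ (hdiff a)
    have hf : ∀ a, f₁ a = f₂ a := fun a => DFunLike.congr_fun heq a
    have hk : ∀ a, f₁ a = 0 → a ∈ q := fun a ha => by
      have h' : μ (i₁ a) = 0 := hQP (Ideal.Quotient.eq_zero_iff_mem.1 ha)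
      exact Ideal.Quotient.eq_zero_iff_mem.1 ((hμ₁ a).symm.trans h')
    have hq : RingHom.ker f₁ = q := hmin _ (RingHom.ker_isPrime f₁)
      (fun a ha => (congrArg (Ideal.Quotient.mk Q) ((congrArg (fun x : B => x ⊗ₜ[k] (1 : C))
        (Ideal.Quotient.eq_zero_iff_mem.2 ha : Ideal.Quotient.mk p₁ a = 0)).trans
        (TensorProduct.zero_tmul B (1 : C)))).trans (map_zero _))
      (fun a ha => (hf a).trans ((congrArg (Ideal.Quotient.mk Q) ((congrArg (fun x : C => (1 : B) ⊗ₜ[k] x)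
        (Ideal.Quotient.eq_zero_iff_mem.2 ha : Ideal.Quotient.mk p₂ a = 0)).trans
        (TensorProduct.tmul_zero C (1 : B)))).trans (map_zero _))) hk
    have key : ∀ t : T, ∃ a, μ t = Ideal.Quotient.mk q a ∧ Ideal.Quotient.mk Q t = f₁ a := by
      intro t
      induction t using TensorProduct.induction_on with
      | zero => exact ⟨0, by simp, by simp⟩
      | tmul b c =>
        obtain ⟨a, rfl⟩ := Ideal.Quotient.mk_surjective b
        obtain ⟨a', rfl⟩ := Ideal.Quotient.mk_surjective c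
        have e : (Ideal.Quotient.mk p₁ a ⊗ₜ[k] Ideal.Quotient.mk p₂ a' : T) = i₁ a * i₂ a' := by
          show _ = (Ideal.Quotient.mk p₁ a ⊗ₜ[k] (1 : C) : T) * ((1 : B) ⊗ₜ[k] Ideal.Quotient.mk p₂ a')
          rw [Algebra.TensorProduct.tmul_mul_tmul, mul_one, one_mul]
        refine ⟨a * a', ?_, ?_⟩
        · rw [e, map_mul, hμ₁, hμ₂, map_mul]
        · rw [e, map_mul, map_mul, hf a']
          rfl
      | add x y hx hy =>
        obtain ⟨a, ha, ha'⟩ := hx
        obtain ⟨b, hb, hb'⟩ := hy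
        exact ⟨a + b, by rw [map_add, ha, hb, map_add], by rw [map_add, ha', hb', map_add]⟩
    intro t ht
    obtain ⟨a, ha, ha'⟩ := key t
    have haq : a ∈ q := Ideal.Quotient.eq_zero_iff_mem.1 (ha.symm.trans ht)
    rw [← hq, RingHom.mem_ker] at haq
    exact Ideal.Quotient.eq_zero_iff_mem.1 (ha'.trans haq)
  obtain ⟨η, hη, hηP⟩ := Ideal.exists_minimalPrimes_le (bot_le : (⊥ : Ideal T) ≤ P)
  have : η.IsPrime := hη.1.1
  rw [← DimLib.minimalPrime_tensor_domain k B C hη]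
  let P' : Ideal (T ⧸ η) := P.map (Ideal.Quotient.mk η)
  have : P'.IsPrime := Ideal.map_isPrime_of_surjective Ideal.Quotient.mk_surjective (by rwa [Ideal.mk_ker])
  have hP'min : P' ∈ (J.map (Ideal.Quotient.mk η)).minimalPrimes := by
    refine ⟨⟨inferInstance, Ideal.map_mono hJP⟩, ?_⟩
    rintro Q' ⟨hQ', hJQ'⟩ hQP'
    have hcomap : P'.comap (Ideal.Quotient.mk η) = P := by
      rw [Ideal.comap_map_of_surjective _ Ideal.Quotient.mk_surjective, ← RingHom.ker_eq_comap_bot, Ideal.mk_ker]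
      exact sup_eq_left.2 hηP
    have h1 : P ≤ Q'.comap (Ideal.Quotient.mk η) := hPmin.2 ⟨hQ'.comap _, Ideal.map_le_iff_le_comap.1 hJQ'⟩
      ((Ideal.comap_mono hQP').trans hcomap.le)
    exact Ideal.map_le_iff_le_comap.2 h1
  letI : CommRing (T ⧸ η) := Ideal.Quotient.commRing η
  have hht : Ideal.height (R := T ⧸ η) P' ≤ (n : ℕ∞) := by
    rw [Ideal.map_span, ← Set.range_comp] at hP'min
    exact height_le_of_minimal_span _ hP'min
  let e : ((T ⧸ η) ⧸ P') ≃+* (A ⧸ q) :=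
    (DoubleQuot.quotQuotEquivQuotOfLE hηP).trans (RingHom.quotientKerEquivOfSurjective (f := μ.toRingHom) hμs)
  rw [← DimLib.height_add_ringKrullDim_quotient (k := k) P', ringKrullDim_eq_of_ringEquiv e, add_comm]
  exact add_le_add le_rfl (by exact_mod_cast hht)

/-- Intersection dimension inequality at a maximal common specialisation in a smooth scheme over a field. -/
theorem ptDim_add_le_of_smooth {X : Scheme.{u}} (f : X ⟶ Spec (CommRingCat.of k)) [Smooth f] (N : ℕ)
    (hN : ∀ a : X, DimLib.ptDim f a ≤ N) {x y z : X} (hx : x ⤳ z) (hy : y ⤳ z)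
    (hz : ∀ w : X, x ⤳ w → y ⤳ w → w ⤳ z → w = z) :
    DimLib.ptDim f x + DimLib.ptDim f y ≤ DimLib.ptDim f z + N := by
  obtain ⟨U, hU, V, hV, hzV, e, h⟩ := Smooth.exists_isStandardSmooth f z
  obtain rfl : U = ⊤ := by
    ext w
    simp only [TopologicalSpace.Opens.coe_top, Set.mem_univ, iff_true]
    have : Subsingleton (Spec (CommRingCat.of k)) := inferInstanceAs (Subsingleton (PrimeSpectrum k))
    exact Subsingleton.elim (f z) w ▸ e hzV
  let φ : k →+* Γ(X, V) := (f.appLE ⊤ V e).hom.comp (Scheme.ΓSpecIso (CommRingCat.of k)).inv.hom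
  have h' : φ.IsStandardSmooth := RingHom.isStandardSmooth_respectsIso.2 _
      (Scheme.ΓSpecIso (CommRingCat.of k)).symm.commRingCatIsoToRingEquiv h
  have efs : hV.fromSpec ≫ f = Spec.map (CommRingCat.ofHom φ) := by
    rw [← IsAffineOpen.SpecMap_appLE_fromSpec f hU hV e, IsAffineOpen.fromSpec_top]
    simp [φ, Scheme.isoSpec_Spec_inv, ← Spec.map_comp]
  let _ : Algebra k Γ(X, V) := φ.toAlgebra
  have : Algebra.IsStandardSmooth k Γ(X, V) := h'
  obtain ⟨n, hn⟩ : ∃ n, Algebra.IsStandardSmoothOfRelativeDimension n k Γ(X, V) := by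
    obtain ⟨ι, σ, a, b, ⟨P⟩⟩ := ‹Algebra.IsStandardSmooth k Γ(X, V)›
    exact ⟨P.dimension, ⟨⟨ι, σ, a, b, P, rfl⟩⟩⟩
  have hφ : φ.FiniteType := (inferInstance : Algebra.FiniteType k Γ(X, V))
  have hdim : ∀ P : PrimeSpectrum Γ(X, V), ringKrullDim (Γ(X, V) ⧸ P.asIdeal) =
      (DimLib.ptDim f (hV.fromSpec P) : WithBot ℕ∞) :=
    fun P => DimLib.ptDim_chart f φ hφ hV.fromSpec efs P
  have hlift : ∀ w : X, w ∈ V → ∃ P : PrimeSpectrum Γ(X, V), hV.fromSpec P = w := fun w hw => by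
    have : w ∈ Set.range hV.fromSpec := by rw [hV.range_fromSpec]; exact hw
    exact this
  obtain ⟨P₁, rfl⟩ := hlift x (hx.mem_open V.2 hzV)
  obtain ⟨P₂, rfl⟩ := hlift y (hy.mem_open V.2 hzV)
  obtain ⟨Pz, rfl⟩ := hlift z hzV
  have hsp : ∀ P Q : PrimeSpectrum Γ(X, V), P.asIdeal ≤ Q.asIdeal ↔ hV.fromSpec P ⤳ hV.fromSpec Q := fun P Q =>
    (PrimeSpectrum.le_iff_specializes P Q).trans hV.fromSpec.isOpenEmbedding.isInducing.specializes_iff.symm
  have hP₁ := P₁.isPrime
  have hP₂ := P₂.isPrime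
  have hPz := Pz.isPrime
  have key := ringKrullDim_add_le_of_standardSmooth (k := k) n P₁.asIdeal P₂.asIdeal Pz.asIdeal ((hsp _ _).2 hx)
    ((hsp _ _).2 hy) (fun q hq h1 h2 h3 => by
      have := hz (hV.fromSpec (⟨q, hq⟩ : PrimeSpectrum Γ(X, V))) ((hsp _ ⟨q, hq⟩).1 h1) ((hsp _ ⟨q, hq⟩).1 h2)
        ((hsp ⟨q, hq⟩ _).1 h3)
      exact congrArg PrimeSpectrum.asIdeal
        (show (⟨q, hq⟩ : PrimeSpectrum Γ(X, V)) = Pz from hV.fromSpec.isOpenEmbedding.injective this))
  obtain ⟨w, hw, -⟩ := Ideal.exists_minimalPrimes_le (bot_le : (⊥ : Ideal Γ(X, V)) ≤ Pz.asIdeal)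
  have hn' := BertiniLib.ringKrullDim_quotient_minimalPrime (k := k) n w hw
  rw [hdim (⟨w, hw.1.1⟩ : PrimeSpectrum Γ(X, V))] at hn'
  rw [hdim, hdim, hdim, ← hn'] at key
  have key' : DimLib.ptDim f (hV.fromSpec P₁) + DimLib.ptDim f (hV.fromSpec P₂) ≤
      DimLib.ptDim f (hV.fromSpec Pz) + DimLib.ptDim f (hV.fromSpec (⟨w, hw.1.1⟩ : PrimeSpectrum Γ(X, V))) := by
    exact_mod_cast key
  exact key'.trans (add_le_add le_rfl (hN _))

/-- Maximal point of a subset above a given one. -/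
theorem exists_maximal_of_mem {X : Scheme.{u}} (f : X ⟶ Spec (CommRingCat.of k)) [LocallyOfFiniteType f] (n : ℕ)
    (hn : ∀ a : X, DimLib.ptDim f a ≤ n) {S : Set X} {y : X} (hy : y ∈ S) :
    ∃ z ∈ S, z ⤳ y ∧ ∀ w ∈ S, w ⤳ z → z = w := by
  classical
  let P : ℕ → Prop := fun m => ∃ z ∈ S, z ⤳ y ∧ DimLib.ptDim f z = m
  obtain ⟨z, hz, hzy, hzm⟩ := Nat.findGreatest_spec (P := P) (hn y) ⟨y, hy, specializes_rfl, rfl⟩
  refine ⟨z, hz, hzy, fun w hw hwz => (DimLib.eq_of_specializes_of_ptDim_le f hwz ?_).symm⟩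
  rw [hzm]
  exact Nat.le_findGreatest (hn w) ⟨w, hw, hwz.trans hzy, rfl⟩

end Groth.Agent.CommAlg4
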