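import Mathlib
import Groth.Agent.SmoothLib.Quotient

/-!
# Lifting a smooth closed subscheme: the local computation
-/

set_option autoImplicit false
set_option linter.all false

universe u

open TensorProduct KaehlerDifferential

namespace Groth.Agent.CommAlg4.SmoothLift

/-- Transport of linear independence back along a semilinear map. -/
theorem linearIndependent_of_semilinear {K K' M M' : Type*} [Field K] [Field K'] [AddCommGroup M] [Module K M]
    [AddCommGroup M'] [Module K' M'] (σ : K →+* K') (θ : M →+ M') (hθ : ∀ c m, θ (c • m) = σ c • θ m)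
    {ι : Type*} [Fintype ι] (v : ι → M) (h : LinearIndependent K' (fun i => θ (v i))) : LinearIndependent K v := by
  rw [Fintype.linearIndependent_iff]
  intro c hc i
  have h1 : ∑ i, σ (c i) • θ (v i) = 0 := by simp only [← hθ, ← map_sum, hc, map_zero]
  exact σ.injective (by rw [map_zero]; exact Fintype.linearIndependent_iff.1 h _ h1 i)

variable (R A C : Type u) [CommRing R] [CommRing A] [CommRing C] [Algebra R A] [Algebra R C] [Algebra A C]
  [IsScalarTower R A C] (P : Ideal C) [P.IsPrime]

/-- The space of differentials at the point. -/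
abbrev L : Type u := P.ResidueField ⊗[A] Ω[A⁄R]

/-- The differential at the point. -/
noncomputable def δ (a : A) : L R A C P := 1 ⊗ₜ D R A a

variable {R A C P}

theorem δ_add (a b : A) : δ R A C P (a + b) = δ R A C P a + δ R A C P b := by
  simp [δ, tmul_add]

theorem δ_mul (a b : A) : δ R A C P (a * b) =
    algebraMap A P.ResidueField a • δ R A C P b + algebraMap A P.ResidueField b • δ R A C P a := by
  simp [δ, tmul_add, smul_tmul', ← smul_tmul, Algebra.smul_def]

theorem algebraMap_eq_zero_of_mem {a : A} (ha : algebraMap A C a = 0) : algebraMap A P.ResidueField a = 0 := by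
  rw [IsScalarTower.algebraMap_apply A C P.ResidueField, ha, map_zero]

theorem δ_mul_of_mem (a : A) {x : A} (hx : algebraMap A C x = 0) :
    δ R A C P (a * x) = algebraMap A P.ResidueField a • δ R A C P x := by
  rw [δ_mul, algebraMap_eq_zero_of_mem hx, zero_smul, add_zero]

theorem δ_sum {ι : Type*} (t : Finset ι) (f : ι → A) : δ R A C P (∑ i ∈ t, f i) = ∑ i ∈ t, δ R A C P (f i) :=
  map_sum (AddMonoidHom.mk' (δ R A C P) δ_add) f t

variable (R A C P)

/-- The span of the differentials of the kernel. -/
noncomputable def N : Submodule P.ResidueField (L R A C P) :=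
  Submodule.span P.ResidueField (δ R A C P '' (RingHom.ker (algebraMap A C) : Set A))

variable {R A C P}


/-- The differentials of the kernel cut out those of the quotient. -/
theorem finrank_N (hsurj : Function.Surjective (algebraMap A C)) [Module.Finite A Ω[A⁄R]] :
    Module.finrank P.ResidueField (N R A C P) + Module.finrank P.ResidueField (P.ResidueField ⊗[C] Ω[C⁄R]) =
      Module.finrank P.ResidueField (L R A C P) := by
  let K := P.ResidueField
  let E := AlgebraTensorModule.cancelBaseChange A C K K Ω[A⁄R]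
  let Φ : L R A C P →ₗ[K] K ⊗[C] Ω[C⁄R] := ((mapBaseChange R A C).baseChange K) ∘ₗ E.symm.toLinearMap
  have hΦ : Function.Surjective Φ := by
    have h1 : Function.Surjective ((mapBaseChange R A C).baseChange K) := by
      rw [LinearMap.baseChange_eq_ltensor]
      exact LinearMap.lTensor_surjective K (mapBaseChange_surjective R A C hsurj)
    intro w
    obtain ⟨v, rfl⟩ := h1 w
    exact ⟨E v, by simp [Φ]⟩
  have hker : LinearMap.ker Φ = N R A C P := by
    refine le_antisymm (fun z hz => ?_) (Submodule.span_le.2 ?_)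
    · have hz' : (AlgebraTensorModule.cancelBaseChange A C K K Ω[A⁄R]).symm z ∈
          LinearMap.ker ((mapBaseChange R A C).lTensor K) := hz
      have hex : Function.Exact (LinearMap.ker (mapBaseChange R A C)).subtype (mapBaseChange R A C) :=
        LinearMap.exact_subtype_ker_map _
      rw [LinearMap.exact_iff.1 (lTensor_exact (R := C) (M := LinearMap.ker (mapBaseChange R A C)) (N := C ⊗[A] Ω[A⁄R]) (P := Ω[C⁄R]) K hex (mapBaseChange_surjective R A C hsurj))] at hz'
      obtain ⟨w, hw⟩ := hz'
      rw [← (AlgebraTensorModule.cancelBaseChange A C K K Ω[A⁄R]).apply_symm_apply z, ← hw]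
      clear hw hz z
      induction w using TensorProduct.induction_on with
      | zero => simp
      | add x y hx hy => simp only [map_add]; exact add_mem hx hy
      | tmul k v =>
        obtain ⟨v, hv⟩ := v
        have hv' : v ∈ LinearMap.range (kerCotangentToTensor R A C) := by
          rw [range_kerCotangentToTensor R A C hsurj]; exact hv
        obtain ⟨x, hx⟩ := hv'
        obtain ⟨x, rfl⟩ := Ideal.toCotangent_surjective _ x
        rw [kerCotangentToTensor_toCotangent] at hx
        simp only [LinearMap.lTensor_tmul, Submodule.subtype_apply]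
        rw [← hx, AlgebraTensorModule.cancelBaseChange_tmul, one_smul,
          show k ⊗ₜ[A] D R A x.1 = k • δ R A C P x.1 by simp [δ, smul_tmul']]
        exact Submodule.smul_mem _ _ (Submodule.subset_span ⟨x.1, x.2, rfl⟩)
    · rintro _ ⟨x, hx, rfl⟩
      show Φ (δ R A C P x) = 0
      simp [Φ, E, δ, AlgebraTensorModule.cancelBaseChange_symm_tmul, mapBaseChange_tmul, RingHom.mem_ker.1 hx]
  haveI : Module.Finite K (L R A C P) := inferInstance
  rw [← hker, add_comm, ← (LinearMap.quotKerEquivOfSurjective Φ hΦ).finrank_eq,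
    Submodule.finrank_quotient_add_finrank]

/-- Nakayama: functions with spanning differentials generate locally. -/
theorem exists_notMem_mul_mem (hsurj : Function.Surjective (algebraMap A C)) (I : Ideal A) (hI : I = RingHom.ker (algebraMap A C))
    (hfg : I.FG) (s : Finset A) (hs : (↑s : Set A) ⊆ I)
    (hgen : ∀ x ∈ I, ∃ u, algebraMap A C u ∉ P ∧ u * x ∈ Ideal.span (↑s : Set A))
    (hli : LinearIndependent P.ResidueField (fun g : ↥s => δ R A C P (g : A)))
    {ι : Type u} [Fintype ι] (f : ι → A) (hf : ∀ i, f i ∈ I)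
    (hspan : N R A C P ≤ Submodule.span P.ResidueField (Set.range fun i => δ R A C P (f i)))
    (x : A) (hx : x ∈ I) : ∃ u, algebraMap A C u ∉ P ∧ u * x ∈ Ideal.span (Set.range f) := by
  classical
  have hC : ∀ {y}, y ∈ I → algebraMap A C y = 0 := fun {y} hy => by rw [hI] at hy; exact hy
  let q : Ideal A := P.comap (algebraMap A C)
  haveI : q.IsPrime := Ideal.IsPrime.comap _
  let T := Localization.AtPrime q
  let IT := I.map (algebraMap A T)
  let FT := (Ideal.span (Set.range f)).map (algebraMap A T)
  have hq0 : ∀ a, algebraMap A P.ResidueField a = 0 ↔ a ∈ q := fun a => by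
    rw [IsScalarTower.algebraMap_apply A C P.ResidueField, Ideal.algebraMap_residueField_eq_zero]; rfl
  have hnum : ∀ c : P.ResidueField, ∃ a u : A, u ∉ q ∧ algebraMap A P.ResidueField u * c = algebraMap A P.ResidueField a := by
    intro c
    obtain ⟨a, b, hb, rfl⟩ := IsFractionRing.div_surjective (A := C ⧸ P) c
    obtain ⟨a, rfl⟩ := Ideal.Quotient.mk_surjective a
    obtain ⟨b, rfl⟩ := Ideal.Quotient.mk_surjective b
    obtain ⟨a, rfl⟩ := hsurj a
    obtain ⟨b, rfl⟩ := hsurj b
    have e : ∀ z : A, algebraMap (C ⧸ P) P.ResidueField (Ideal.Quotient.mk P (algebraMap A C z)) =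
        algebraMap A P.ResidueField z := fun z => by
      rw [IsScalarTower.algebraMap_apply A C P.ResidueField, IsScalarTower.algebraMap_apply C (C ⧸ P) P.ResidueField]
      rfl
    have hbq : b ∉ q := fun h => nonZeroDivisors.ne_zero hb (Ideal.Quotient.eq_zero_iff_mem.2 h)
    refine ⟨a, b, hbq, ?_⟩
    rw [e, e, mul_div_cancel₀]
    exact fun h => hbq ((hq0 b).1 h)
  have hkey : IT ≤ FT ⊔ IsLocalRing.maximalIdeal T • IT := by
    refine Ideal.map_le_iff_le_comap.2 fun y hy => ?_
    rw [Ideal.mem_comap]
    have h1 : δ R A C P y ∈ Submodule.span P.ResidueField (Set.range fun i => δ R A C P (f i)) :=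
      hspan (Submodule.subset_span ⟨y, RingHom.mem_ker.2 (hC hy), rfl⟩)
    obtain ⟨c, hc⟩ := (Submodule.mem_span_range_iff_exists_fun _).1 h1
    choose a w hw hwa using fun i => hnum (c i)
    let U := ∏ i, w i
    have hU : U ∉ q := fun h => by
      obtain ⟨i, -, hi⟩ := Ideal.IsPrime.prod_mem_iff.1 h
      exact hw i hi
    let z := U * y - ∑ i, (a i * ∏ l ∈ Finset.univ.erase i, w l) * f i
    have hzI : z ∈ I := sub_mem (I.mul_mem_left _ hy) (I.sum_mem fun i _ => I.mul_mem_left _ (hf i))
    have hzδ : δ R A C P z = 0 := by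
      have h2 : δ R A C P (U * y) = δ R A C P (∑ i, (a i * ∏ l ∈ Finset.univ.erase i, w l) * f i) := by
        rw [δ_sum, δ_mul_of_mem _ (hC hy), ← hc, Finset.smul_sum]
        refine Finset.sum_congr rfl fun i _ => ?_
        rw [δ_mul_of_mem _ (hC (hf i)), smul_smul]
        congr 1
        rw [map_mul, ← hwa, mul_right_comm, ← map_mul, Finset.mul_prod_erase _ _ (Finset.mem_univ i)]
      have h3 := δ_add (R := R) (C := C) (P := P) z (∑ i, (a i * ∏ l ∈ Finset.univ.erase i, w l) * f i)
      rw [show z + (∑ i, (a i * ∏ l ∈ Finset.univ.erase i, w l) * f i) = U * y from sub_add_cancel _ _, h2] at h3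
      exact add_eq_right.1 h3.symm
    obtain ⟨u, hu, huz⟩ := hgen z hzI
    obtain ⟨b, hb⟩ := Submodule.mem_span_finset'.1 huz
    have hbq : ∀ g : ↥s, b g ∈ q := by
      have h2 : ∑ g : ↥s, algebraMap A P.ResidueField (b g) • δ R A C P (g : A) = 0 := by
        have h3 : ∑ g : ↥s, δ R A C P (b g * (g : A)) = δ R A C P (u * z) := by
          rw [← δ_sum]; congr 1
        rw [δ_mul_of_mem _ (hC hzI), hzδ, smul_zero] at h3
        rw [← h3]
        exact Finset.sum_congr rfl fun g _ => (δ_mul_of_mem _ (hC (hs g.2))).symm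
      exact fun g => (hq0 _).1 (Fintype.linearIndependent_iff.1 hli _ h2 g)
    have hm : algebraMap A T (u * z) ∈ IsLocalRing.maximalIdeal T • IT := by
      rw [← hb, map_sum]
      refine Submodule.sum_mem _ fun g _ => ?_
      rw [smul_eq_mul (a := b g), map_mul]
      refine Submodule.smul_mem_smul ?_ (Ideal.mem_map_of_mem _ (hs g.2))
      rw [← IsLocalization.AtPrime.map_eq_maximalIdeal q T]
      exact Ideal.mem_map_of_mem _ (hbq g)
    have hsum : algebraMap A T (∑ i, (a i * ∏ l ∈ Finset.univ.erase i, w l) * f i) ∈ FT :=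
      Ideal.mem_map_of_mem _ (Ideal.sum_mem _ fun i _ => Ideal.mul_mem_left _ _ (Ideal.subset_span ⟨i, rfl⟩))
    rw [map_mul, smul_eq_mul, Ideal.unit_mul_mem_iff_mem _ (IsLocalization.map_units T (⟨u, hu⟩ : q.primeCompl))] at hm
    have h4 : algebraMap A T (U * y) ∈ FT ⊔ IsLocalRing.maximalIdeal T • IT := by
      rw [show U * y = (∑ i, (a i * ∏ l ∈ Finset.univ.erase i, w l) * f i) + z from (add_sub_cancel _ _).symm, map_add]
      exact Submodule.add_mem_sup hsum (by rw [smul_eq_mul]; exact hm)
    rw [map_mul] at h4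
    exact (Ideal.unit_mul_mem_iff_mem _ (IsLocalization.map_units T (⟨U, hU⟩ : q.primeCompl))).1 h4
  have hle : IT ≤ FT := Submodule.le_of_le_smul_of_le_jacobson_bot (hfg.map _)
    (IsLocalRing.maximalIdeal_le_jacobson _) hkey
  have hx' := hle (Ideal.mem_map_of_mem _ hx)
  rw [IsLocalization.mem_map_algebraMap_iff q.primeCompl T] at hx'
  obtain ⟨⟨⟨y, hy⟩, t⟩, ht⟩ := hx'
  rw [← map_mul, IsLocalization.eq_iff_exists q.primeCompl] at ht
  obtain ⟨v, hv⟩ := ht
  refine ⟨v * t, (v * t).2, ?_⟩
  rw [show (v : A) * t * x = v * (x * t) by ring, hv]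
  exact Ideal.mul_mem_left _ _ hy

section Transfer

variable {B C' : Type u} [CommRing B] [CommRing C'] [Algebra B C']

/-- Independence at the point can be tested with either residue field. -/
theorem indep_residue_iff (hsurj : Function.Surjective (algebraMap B C')) (P : Ideal C') [P.IsPrime]
    (q : Ideal B) [q.IsPrime] (hq : q = P.comap (algebraMap B C'))
    {M : Type u} [AddCommGroup M] [Module B M] {ι : Type u} [Fintype ι] (v : ι → M) :
    LinearIndependent q.ResidueField (fun i => (1 : q.ResidueField) ⊗ₜ[B] v i) ↔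
      LinearIndependent P.ResidueField (fun i => (1 : P.ResidueField) ⊗ₜ[B] v i) := by
  let σ₀ : q.ResidueField →ₐ[B] P.ResidueField :=
    { Ideal.ResidueField.map q P (algebraMap B C') hq with
      commutes' := fun b => by
        show Ideal.ResidueField.map q P (algebraMap B C') hq (algebraMap B _ b) = _
        rw [Ideal.ResidueField.map_algebraMap, ← IsScalarTower.algebraMap_apply] }
  have hbij : Function.Bijective σ₀ :=
    RingHom.SurjectiveOnStalks.residueFieldMap_bijective (RingHom.surjectiveOnStalks_of_surjective hsurj) q P hq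
  have key : ∀ (K K' : Type u) [Field K] [Field K'] [Algebra B K] [Algebra B K'] (σ : K →ₐ[B] K'),
      LinearIndependent K' (fun i => (1 : K') ⊗ₜ[B] v i) → LinearIndependent K (fun i => (1 : K) ⊗ₜ[B] v i) := by
    intro K K' _ _ _ _ σ h
    refine linearIndependent_of_semilinear σ.toRingHom (TensorProduct.map σ.toLinearMap LinearMap.id).toAddMonoidHom
      (fun c m => ?_) _ (by simpa using h)
    induction m using TensorProduct.induction_on with
    | zero => simp
    | add x y hx hy => simp only [smul_add, map_add, hx, hy]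
    | tmul k w => simp [smul_tmul']
  exact ⟨key _ _ (AlgEquiv.ofBijective σ₀ hbij).symm.toAlgHom, key _ _ σ₀⟩

end Transfer

/-- Changing the base along a surjection does not change differentials. -/
noncomputable def omegaEquiv (R R' C : Type u) [CommRing R] [CommRing R'] [CommRing C] [Algebra R R'] [Algebra R C]
    [Algebra R' C] [IsScalarTower R R' C] (h : Function.Surjective (algebraMap R R')) : Ω[C⁄R] ≃ₗ[C] Ω[C⁄R'] :=
  LinearEquiv.ofBijective (KaehlerDifferential.map R R' C C) ⟨by
    let d : Derivation R' C Ω[C⁄R] :=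
      { toLinearMap :=
          { toFun := D R C
            map_add' := fun x y => map_add _ x y
            map_smul' := fun r x => by
              obtain ⟨r, rfl⟩ := h r
              simp [algebraMap_smul] }
        map_one_eq_zero' := (D R C).map_one_eq_zero
        leibniz' := (D R C).leibniz }
    refine Function.LeftInverse.injective (g := d.liftKaehlerDifferential) fun z => ?_
    have hz : z ∈ Submodule.span C (Set.range (D R C)) := by rw [span_range_derivation]; trivial
    induction hz using Submodule.span_induction with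
    | mem y hy =>
      obtain ⟨y, rfl⟩ := hy
      rw [map_D, Derivation.liftKaehlerDifferential_comp_D]
      rfl
    | zero => simp
    | add x y _ _ hx hy => rw [map_add, map_add, hx, hy]
    | smul c x _ hx => rw [map_smul, map_smul, hx], map_surjective_of_surjective R R' C C Function.surjective_id⟩

set_option maxHeartbeats 1000000 in
/-- The local structure of the lift at a point. -/
theorem exists_smooth_nhd (R A C : Type u) [CommRing R] [CommRing A] [CommRing C] [Algebra R A] [Algebra R C]
    [Algebra A C] [IsScalarTower R A C] [Algebra.Smooth R A] (J : Ideal R) [Algebra (R ⧸ J) C]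
    [IsScalarTower R (R ⧸ J) C] [Algebra.Smooth (R ⧸ J) C] (hsurj : Function.Surjective (algebraMap A C))
    (P : Ideal C) [P.IsPrime] {ι : Type u} [Fintype ι] (f : ι → A) (hf : ∀ i, algebraMap A C (f i) = 0)
    (hli : LinearIndependent P.ResidueField (fun i => δ R A C P (f i)))
    (hspan : N R A C P ≤ Submodule.span P.ResidueField (Set.range fun i => δ R A C P (f i))) :
    ∃ h : A, algebraMap A C h ∉ P ∧
      Algebra.Smooth R (Localization.Away (Ideal.Quotient.mk (Ideal.span (Set.range f)) h)) ∧
      ∀ x, algebraMap A C x = 0 → h * x ∈ Ideal.map (algebraMap R A) J ⊔ Ideal.span (Set.range f) := by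
  classical
  -- smoothness of the lift
  let q := P.comap (algebraMap A C)
  haveI : q.IsPrime := Ideal.IsPrime.comap _
  let F := Ideal.span (Set.range f)
  have hFq : F ≤ q := Ideal.span_le.2 (by rintro _ ⟨i, rfl⟩; show algebraMap A C (f i) ∈ P; rw [hf]; exact P.zero_mem)
  have hFfg : F.FG := Submodule.fg_span (Set.finite_range f)
  let PF := q.map (Ideal.Quotient.mk F)
  have hPF : PF.comap (Ideal.Quotient.mk F) = q := by
    rw [Ideal.comap_map_of_surjective _ Ideal.Quotient.mk_surjective, ← RingHom.ker_eq_comap_bot, Ideal.mk_ker]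
    exact sup_eq_left.2 hFq
  haveI : PF.IsPrime := Ideal.map_isPrime_of_surjective Ideal.Quotient.mk_surjective (by rw [Ideal.mk_ker]; exact hFq)
  haveI : Algebra.IsSmoothAt R q := inferInstance
  have hfinj : Function.Injective f := fun i j hij => hli.injective (by simp only [hij])
  have hsm : Algebra.IsSmoothAt R PF := by
    rw [SmoothLib.isSmoothAt_quotient_iff F hFfg PF q hPF.symm]
    refine ⟨Finset.univ.image f, ?_, ?_, ?_⟩
    · simp only [Finset.coe_image, Finset.coe_univ, Set.image_univ]; exact Ideal.subset_span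
    · simp only [Finset.coe_image, Finset.coe_univ, Set.image_univ, F, Ideal.map_span]
    · rw [indep_residue_iff hsurj P q rfl]
      let e : ι ≃ ↥(Finset.univ.image f) := Equiv.ofBijective (fun i => ⟨f i, Finset.mem_image_of_mem f (Finset.mem_univ i)⟩)
        ⟨fun i j h => hfinj (congrArg Subtype.val h), fun ⟨y, hy⟩ => by
          obtain ⟨i, -, rfl⟩ := Finset.mem_image.1 hy
          exact ⟨i, rfl⟩⟩
      exact (linearIndependent_equiv e).1 hli
  haveI : Algebra.FinitePresentation R (A ⧸ F) := Algebra.FinitePresentation.quotient hFfg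
  obtain ⟨_, ⟨_, ⟨h₁, rfl⟩, rfl⟩, hP1, hsub⟩ := PrimeSpectrum.isBasis_basic_opens.exists_subset_of_mem_open
    (show (⟨PF, inferInstance⟩ : PrimeSpectrum (A ⧸ F)) ∈ Algebra.smoothLocus R (A ⧸ F) from hsm)
    Algebra.isOpen_smoothLocus
  obtain ⟨a₁, rfl⟩ := Ideal.Quotient.mk_surjective h₁
  have ha₁ : algebraMap A C a₁ ∉ P := fun h => (PrimeSpectrum.mem_basicOpen _ _).1 hP1 (Ideal.mem_map_of_mem _ h)
  -- the reduced situation
  let R' := R ⧸ J
  let A' := R' ⊗[R] A
  let π : A' →ₐ[R'] C := Algebra.TensorProduct.lift (Algebra.ofId R' C) (IsScalarTower.toAlgHom R A C)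
    (fun _ _ => Commute.all _ _)
  have hπ : ∀ a : A, π (1 ⊗ₜ a) = algebraMap A C a := fun a =>
    (Algebra.TensorProduct.lift_tmul _ _ _ _ _).trans (by rw [map_one, one_mul]; rfl)
  letI := π.toRingHom.toAlgebra
  haveI : IsScalarTower R' A' C := IsScalarTower.of_algebraMap_eq fun r => (π.commutes r).symm
  have hπs : Function.Surjective (algebraMap A' C) := fun c => by
    obtain ⟨a, rfl⟩ := hsurj c; exact ⟨1 ⊗ₜ a, hπ a⟩
  have htmul : ∀ z : A', ∃ a : A, z = 1 ⊗ₜ a := by
    intro z
    induction z using TensorProduct.induction_on with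
    | zero => exact ⟨0, (tmul_zero _ _).symm⟩
    | add x y hx hy =>
      obtain ⟨a, rfl⟩ := hx; obtain ⟨b, rfl⟩ := hy
      exact ⟨a + b, (tmul_add _ _ _).symm⟩
    | tmul r a =>
      obtain ⟨r, rfl⟩ := Ideal.Quotient.mk_surjective r
      exact ⟨r • a, by rw [← smul_tmul, Algebra.smul_def, mul_one]; rfl⟩
  have hker : ∀ a : A, (1 : R') ⊗ₜ[R] a = (0 : A') → a ∈ Ideal.map (algebraMap R A) J := by
    intro a ha
    let JA := Ideal.map (algebraMap R A) J
    let ψ : A' →ₐ[R] A ⧸ JA := Algebra.TensorProduct.lift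
      (Ideal.Quotient.liftₐ J ((Ideal.Quotient.mkₐ R JA).comp (Algebra.ofId R A))
        (fun r hr => Ideal.Quotient.eq_zero_iff_mem.2 (Ideal.mem_map_of_mem _ hr)))
      (Ideal.Quotient.mkₐ R JA) (fun _ _ => Commute.all _ _)
    have := congrArg ψ ha
    rw [map_zero, Algebra.TensorProduct.lift_tmul, map_one, one_mul] at this
    exact Ideal.Quotient.eq_zero_iff_mem.1 this
  let ω := @Algebra.TensorProduct.rightAlgebra R R' A _ _ _ _ _
  letI := ω
  haveI : IsScalarTower A A' C := IsScalarTower.of_algebraMap_eq fun a => (hπ a).symm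
  haveI : IsScalarTower A A' P.ResidueField := IsScalarTower.of_algebraMap_eq fun a => by
    rw [IsScalarTower.algebraMap_apply A' C P.ResidueField, ← IsScalarTower.algebraMap_apply A A' C,
      ← IsScalarTower.algebraMap_apply]
  haveI : IsScalarTower R A A' := IsScalarTower.of_algebraMap_eq fun r => by
    show algebraMap R A' r = 1 ⊗ₜ algebraMap R A r
    rw [Algebra.algebraMap_eq_smul_one, Algebra.algebraMap_eq_smul_one, Algebra.TensorProduct.one_def, smul_tmul', smul_tmul]
  let θ₀ : Ω[A⁄R] →ₗ[A] L R' A' C P :=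
    ((TensorProduct.mk A' P.ResidueField Ω[A'⁄R'] 1).restrictScalars A) ∘ₗ KaehlerDifferential.map R R' A A'
  let θ : L R A C P →ₗ[P.ResidueField] L R' A' C P := θ₀.liftBaseChange P.ResidueField
  have hθ : ∀ a : A, θ (δ R A C P a) = δ R' A' C P (algebraMap A A' a) := fun a => by
    simp [θ, θ₀, δ]
  have hA' : ∀ z : A', ∃ a : A, z = algebraMap A A' a := fun z => htmul z
  let I' : Ideal A' := RingHom.ker (algebraMap A' C)
  have hI'fg : I'.FG := Algebra.FinitePresentation.ker_fG_of_surjective (R := R') π hπs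
  let q' := P.comap (algebraMap A' C)
  haveI : q'.IsPrime := Ideal.IsPrime.comap _
  let PI := q'.map (Ideal.Quotient.mk I')
  have hI'q : I' ≤ q' := fun z hz => by
    show algebraMap A' C z ∈ P
    rw [RingHom.mem_ker.1 hz]; exact P.zero_mem
  have hPI : PI.comap (Ideal.Quotient.mk I') = q' := by
    rw [Ideal.comap_map_of_surjective _ Ideal.Quotient.mk_surjective, ← RingHom.ker_eq_comap_bot, Ideal.mk_ker]
    exact sup_eq_left.2 hI'q
  haveI : PI.IsPrime := Ideal.map_isPrime_of_surjective Ideal.Quotient.mk_surjective (by rw [Ideal.mk_ker]; exact hI'q)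
  haveI : Algebra.IsSmoothAt R' q' := inferInstance
  haveI : Algebra.Smooth R' (A' ⧸ I') := Algebra.Smooth.of_equiv
    (Ideal.quotientKerAlgEquivOfSurjective (f := π) hπs).symm
  haveI : Algebra.IsSmoothAt (A := A' ⧸ I') R' PI := inferInstance
  obtain ⟨s, hsI, hgen, hsli⟩ := (SmoothLib.isSmoothAt_quotient_iff (R := R') (A := A') (I := I') (P := PI) hI'fg q' hPI.symm).1 inferInstance
  rw [indep_residue_iff hπs P q' rfl] at hsli
  have hgen' : ∀ x ∈ I', ∃ u, algebraMap A' C u ∉ P ∧ u * x ∈ Ideal.span (↑s : Set A') := by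
    intro x hx
    have h1 := Ideal.mem_map_of_mem (algebraMap A' (Localization.AtPrime q')) hx
    rw [hgen, ← Ideal.map_span, IsLocalization.mem_map_algebraMap_iff q'.primeCompl] at h1
    obtain ⟨⟨⟨y, hy⟩, t⟩, ht⟩ := h1
    rw [← map_mul, IsLocalization.eq_iff_exists q'.primeCompl] at ht
    obtain ⟨v, hv⟩ := ht
    refine ⟨v * t, (v * t).2, ?_⟩
    rw [show (v : A') * t * x = v * (x * t) by ring, hv]
    exact Ideal.mul_mem_left _ _ hy
  have hspan' : N R' A' C P ≤ Submodule.span P.ResidueField (Set.range fun i => δ R' A' C P (algebraMap A A' (f i))) := by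
    refine Submodule.span_le.2 ?_
    rintro _ ⟨z, hz, rfl⟩
    obtain ⟨a, rfl⟩ := hA' z
    have ha : algebraMap A C a = 0 := by rw [← hπ a]; exact hz
    have h1 := Submodule.mem_map_of_mem (f := θ) (hspan (Submodule.subset_span ⟨a, ha, rfl⟩))
    rw [hθ, Submodule.map_span, ← Set.range_comp] at h1
    simpa [Function.comp_def, hθ] using h1
  have hf' : ∀ i, algebraMap A A' (f i) ∈ I' := fun i => by
    show algebraMap A' C (1 ⊗ₜ f i) = 0
    rw [show algebraMap A' C (1 ⊗ₜ f i) = algebraMap A C (f i) from hπ _, hf]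
  have hloc := exists_notMem_mul_mem (R := R') (A := A') (C := C) (P := P) hπs I' rfl hI'fg s hsI hgen' hsli
    (fun i => algebraMap A A' (f i)) hf' hspan'
  -- a common multiplier
  obtain ⟨gs, hgs⟩ := hI'fg
  choose u hu hug using fun g : ↥gs => hloc g.1 (by rw [← hgs]; exact Ideal.subset_span g.2)
  choose u₀ hu₀ using fun g => hA' (u g)
  let h₀ := ∏ g, u₀ g
  refine ⟨h₀ * a₁, ?_, ?_, fun x hx => ?_⟩
  · rw [map_mul]
    refine fun h => (Ideal.IsPrime.mem_or_mem ‹P.IsPrime› h).elim (fun h => ?_) ha₁
    rw [map_prod] at h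
    obtain ⟨g, -, hg⟩ := Ideal.IsPrime.prod_mem_iff.1 h
    exact hu g (by rw [hu₀, ← IsScalarTower.algebraMap_apply]; exact hg)
  · refine Algebra.basicOpen_subset_smoothLocus_iff_smooth.1 (fun p hp => hsub ?_)
    change p ∈ PrimeSpectrum.basicOpen (Ideal.Quotient.mk F (h₀ * a₁)) at hp
    rw [map_mul, PrimeSpectrum.basicOpen_mul] at hp
    exact hp.2
  · have h1 : algebraMap A A' x ∈ I' := by
      show algebraMap A' C (1 ⊗ₜ x) = 0
      rw [show algebraMap A' C (1 ⊗ₜ x) = algebraMap A C x from hπ _, hx]
    have h2 : algebraMap A A' h₀ * algebraMap A A' x ∈ Ideal.map (algebraMap A A') F := by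
      rw [show Ideal.map (algebraMap A A') F = Ideal.span (Set.range fun i => algebraMap A A' (f i)) by
        simp only [F, Ideal.map_span, ← Set.range_comp]; rfl]
      rw [← hgs] at h1
      refine Submodule.span_induction (p := fun z _ => algebraMap A A' h₀ * z ∈
        Ideal.span (Set.range fun i => algebraMap A A' (f i))) ?_ ?_ ?_ ?_ h1
      · intro g hg
        rw [show h₀ = (∏ l ∈ Finset.univ.erase (⟨g, hg⟩ : ↥gs), u₀ l) * u₀ ⟨g, hg⟩ from
          (Finset.prod_erase_mul _ _ (Finset.mem_univ _)).symm, map_mul, ← hu₀, mul_assoc]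
        exact Ideal.mul_mem_left _ _ (hug ⟨g, hg⟩)
      · simp
      · intro y z _ _ hy hz; rw [mul_add]; exact add_mem hy hz
      · intro c z _ hz; rw [smul_eq_mul, mul_left_comm]; exact Ideal.mul_mem_left _ _ hz
    rw [← map_mul] at h2
    obtain ⟨y, hy, hxy⟩ := (Ideal.mem_map_iff_of_surjective (algebraMap A A') (fun z => by
      obtain ⟨a, ha⟩ := hA' z; exact ⟨a, ha.symm⟩)).1 h2
    have h3 : h₀ * x - y ∈ Ideal.map (algebraMap R A) J := hker _ (by
      show algebraMap A A' (h₀ * x - y) = 0
      rw [map_sub, hxy, sub_self])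
    rw [show h₀ * a₁ * x = a₁ * ((h₀ * x - y) + y) by ring]
    exact Ideal.mul_mem_left _ _ (Submodule.add_mem_sup h3 hy)

end Groth.Agent.CommAlg4.SmoothLift
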