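import Mathlib
import Groth.Agent.CommAlg4.SmoothLift

/-!
# Lifting a smooth closed subscheme: charts
-/

set_option autoImplicit false
set_option linter.all false

universe u

open TensorProduct KaehlerDifferential CategoryTheory AlgebraicGeometry

namespace Groth.Agent.CommAlg4.SmoothLiftScheme

open Groth.Agent.CommAlg4

/-- Changing the base along an unramified map does not change differentials. -/
theorem bijective_omega_map (R R' C : Type u) [CommRing R] [CommRing R'] [CommRing C] [Algebra R R'] [Algebra R C]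
    [Algebra R' C] [IsScalarTower R R' C] [Algebra.FormallyUnramified R R'] :
    Function.Bijective (KaehlerDifferential.map R R' C C) := by
  refine ⟨(injective_iff_map_eq_zero _).2 fun z hz => ?_, map_surjective_of_surjective R R' C C Function.surjective_id⟩
  obtain ⟨w, rfl⟩ := (exact_mapBaseChange_map R R' C z).1 hz
  rw [Subsingleton.elim w 0, map_zero]

/-- Localisation of a quotient. -/
theorem smooth_quotient_away {R A A' : Type u} [CommRing R] [CommRing A] [CommRing A'] [Algebra R A] [Algebra R A']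
    [Algebra A A'] [IsScalarTower R A A'] (F : Ideal A) (h : A) [IsLocalization.Away h A']
    (hs : Algebra.Smooth R (Localization.Away (Ideal.Quotient.mk F h))) :
    Algebra.Smooth R (A' ⧸ F.map (algebraMap A A')) := by
  haveI : IsScalarTower R (A ⧸ F) (A' ⧸ F.map (algebraMap A A')) := IsScalarTower.of_algebraMap_eq fun r => by
    rw [IsScalarTower.algebraMap_apply R A (A ⧸ F), ← IsScalarTower.algebraMap_apply A (A ⧸ F) (A' ⧸ _),
      ← IsScalarTower.algebraMap_apply R A]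
  haveI : IsLocalization.Away (Ideal.Quotient.mk F h) (A' ⧸ F.map (algebraMap A A')) := by
    have := (inferInstance : IsLocalization (Algebra.algebraMapSubmonoid (A ⧸ F) (Submonoid.powers h))
      (A' ⧸ F.map (algebraMap A A')))
    rwa [Algebra.algebraMapSubmonoid_powers] at this
  exact Algebra.Smooth.of_equiv
    ((IsLocalization.algEquiv (Submonoid.powers (Ideal.Quotient.mk F h)) (Localization.Away (Ideal.Quotient.mk F h))
      (A' ⧸ F.map (algebraMap A A'))).restrictScalars R)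

variable {X₁ X₂ Z₁ Z₂ : Scheme.{u}} {i₁ : Z₁ ⟶ X₁} {i₂ : Z₂ ⟶ X₂} [IsClosedImmersion i₁] [IsClosedImmersion i₂]
  {f : X₂ ⟶ X₁} {g : Z₂ ⟶ Z₁}

/-- The prime of a point in sections. -/
noncomputable def ptIdeal {X : Scheme.{u}} (U : X.Opens) (x : X) (hx : x ∈ U) : Ideal Γ(X, U) :=
  (IsLocalRing.maximalIdeal (X.presheaf.stalk x)).comap (X.presheaf.germ U x hx).hom

theorem mem_ptIdeal {X : Scheme.{u}} (U : X.Opens) (x : X) (hx : x ∈ U) (a : Γ(X, U)) :
    a ∈ ptIdeal U x hx ↔ x ∉ X.basicOpen a := by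
  rw [ptIdeal, Ideal.mem_comap, IsLocalRing.mem_maximalIdeal, Scheme.mem_basicOpen _ _ _ hx]
  rfl

instance {X : Scheme.{u}} (U : X.Opens) (x : X) (hx : x ∈ U) : (ptIdeal U x hx).IsPrime := Ideal.IsPrime.comap _

theorem mem_ker_app {V : X₂.Opens} (a : Γ(X₂, V)) (hV : IsAffineOpen V) :
    a ∈ i₂.ker.ideal ⟨V, hV⟩ ↔ i₂.app V a = 0 := by
  rw [Scheme.Hom.ker_apply]
  exact Iff.rfl

theorem ker_app_res (V : X₂.Opens) (hV : IsAffineOpen V) (D : X₂.affineOpens) (hDV : D.1 ≤ V) (a : Γ(X₂, V))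
    (ha : a ∈ i₂.ker.ideal ⟨V, hV⟩) : X₂.presheaf.map (homOfLE hDV).op a ∈ i₂.ker.ideal D :=
  (i₂.ker.map_ideal (U := D) (V := ⟨V, hV⟩) hDV) ▸ Ideal.mem_map_of_mem _ ha

set_option maxHeartbeats 1000000 in
/-- Candidate equations at a point and their lifting property. -/
theorem exists_local_equations (n e : ℕ) [SmoothOfRelativeDimension n f] [SmoothOfRelativeDimension e g]
    (hsq : i₂ ≫ f = g ≫ i₁) (V : X₂.Opens) (hV : IsAffineOpen V) (z : Z₂) (hz : i₂.base z ∈ V) :
    ∃ x : Fin (n - e) → Γ(X₂, V), (∀ j, x j ∈ i₂.ker.ideal ⟨V, hV⟩) ∧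
      ∀ (a : Γ(X₂, V)), a ∉ ptIdeal V (i₂.base z) hz → ∀ F : Fin (n - e) → Γ(X₂, V),
        (∀ j, F j - a * x j ∈ ptIdeal V (i₂.base z) hz * i₂.ker.ideal ⟨V, hV⟩) →
        ∃ (U₁ : X₁.affineOpens) (D : X₂.affineOpens) (hDV : D.1 ≤ V) (hDU : D.1 ≤ f ⁻¹ᵁ U₁.1),
          i₂.base z ∈ D.1 ∧
          i₂.ker.ideal D ≤ (i₁.ker.ideal U₁).map (f.appLE U₁.1 D.1 hDU).hom ⊔
            Ideal.span (Set.range fun j => X₂.presheaf.map (homOfLE hDV).op (F j)) ∧
          ((Ideal.Quotient.mk (Ideal.span (Set.range fun j => X₂.presheaf.map (homOfLE hDV).op (F j)))).comp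
            (f.appLE U₁.1 D.1 hDU).hom).Smooth := by
  classical
  haveI : Smooth f := SmoothOfRelativeDimension.smooth n f
  haveI : Smooth g := SmoothOfRelativeDimension.smooth e g
  have hPa : ∀ m, RingHom.StableUnderCompositionWithLocalizationAwayTarget
      (fun {R S} _ _ φ => RingHom.IsStandardSmoothOfRelativeDimension m φ) := fun m =>
    (RingHom.isStandardSmoothOfRelativeDimension_stableUnderCompositionWithLocalizationAway m).right
  have hPl : ∀ m, RingHom.LocalizationAwayPreserves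
      (fun {R S} _ _ φ => RingHom.IsStandardSmoothOfRelativeDimension m φ) := fun m =>
    (RingHom.isStandardSmoothOfRelativeDimension_localizationPreserves (n := m)).away
  set t := i₂.base z with ht
  have htg : f.base t = i₁.base (g.base z) := by
    rw [ht, ← Scheme.Hom.comp_apply, hsq, Scheme.Hom.comp_apply]
  -- chart of `f`
  obtain ⟨U₀, hU₀, hftU₀, -⟩ := exists_isAffineOpen_mem_and_subset (X := X₁) (x := f.base t) (U := ⊤) trivial
  obtain ⟨Uf, hUf, Vf, hVf, htVf, ef, hPf⟩ :=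
    SmoothOfRelativeDimension.exists_isStandardSmoothOfRelativeDimension (n := n) (f := f) t
  obtain ⟨r, s, hts, ers, hPrs⟩ := exists_basicOpen_le_appLE_of_appLE_of_isAffine (hPa n) (hPl n) t
    ⟨U₀, hU₀⟩ ⟨Uf, hUf⟩ ⟨V, hV⟩ ⟨Vf, hVf⟩ hz htVf ef hPf hftU₀
  let U₁ : X₁.affineOpens := ⟨X₁.basicOpen r, hU₀.basicOpen r⟩
  let D₁ : X₂.affineOpens := ⟨X₂.basicOpen s, hV.basicOpen s⟩
  -- chart of `g`
  obtain ⟨Ug, hUg, Vg, hVg, hzVg, eg, hPg⟩ :=
    SmoothOfRelativeDimension.exists_isStandardSmoothOfRelativeDimension (n := e) (f := g) z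
  have hgz : g.base z ∈ i₁ ⁻¹ᵁ U₁.1 := by
    show i₁.base (g.base z) ∈ U₁.1
    rw [← htg]; exact ers hts
  obtain ⟨r', s', hzs', ers', hPrs'⟩ := exists_basicOpen_le_appLE_of_appLE_of_isAffine (hPa e) (hPl e) z
    ⟨_, U₁.2.preimage i₁⟩ ⟨Ug, hUg⟩ ⟨_, D₁.2.preimage i₂⟩ ⟨Vg, hVg⟩ hts hzVg eg hPg hgz
  obtain ⟨s₀, hs₀⟩ := i₂.app_surjective D₁.1 D₁.2 s'
  let D : X₂.affineOpens := ⟨X₂.basicOpen s₀, D₁.2.basicOpen s₀⟩
  have hpre : i₂ ⁻¹ᵁ D.1 = Z₂.basicOpen s' := by rw [← hs₀]; exact i₂.preimage_basicOpen s₀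
  have htD : t ∈ D.1 := by
    show z ∈ i₂ ⁻¹ᵁ D.1
    rw [hpre]; exact hzs'
  have hDD₁ : D.1 ≤ D₁.1 := X₂.basicOpen_le _
  have hDV : D.1 ≤ V := hDD₁.trans (X₂.basicOpen_le _)
  have hDU : D.1 ≤ f ⁻¹ᵁ U₁.1 := hDD₁.trans ers
  have hPA : RingHom.IsStandardSmoothOfRelativeDimension n (f.appLE U₁.1 D.1 hDU).hom := by
    have := D₁.2.isLocalization_basicOpen s₀
    have h1 : f.appLE U₁.1 D.1 hDU = f.appLE U₁.1 D₁.1 ers ≫ X₂.presheaf.map (homOfLE hDD₁).op :=
      (Scheme.Hom.appLE_map _ _ _).symm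
    rw [h1]
    exact hPa n _ s₀ _ hPrs
  -- the rings
  let R : Type u := Γ(X₁, U₁.1)
  let A : Type u := Γ(X₂, D.1)
  let C : Type u := Γ(Z₂, i₂ ⁻¹ᵁ D.1)
  have hCU : i₂ ⁻¹ᵁ D.1 ≤ g ⁻¹ᵁ (i₁ ⁻¹ᵁ U₁.1) := by
    intro y hy
    show i₁.base (g.base y) ∈ U₁.1
    rw [← Scheme.Hom.comp_apply, ← hsq, Scheme.Hom.comp_apply]
    exact hDU hy
  have hCr : i₂ ⁻¹ᵁ D.1 ≤ g ⁻¹ᵁ Z₁.basicOpen r' := by rw [hpre]; exact ers'
  letI algRA : Algebra R A := (f.appLE U₁.1 D.1 hDU).hom.toAlgebra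
  letI algAC : Algebra A C := (i₂.app D.1).hom.toAlgebra
  letI algRC : Algebra R C := ((i₂.app D.1).hom.comp (f.appLE U₁.1 D.1 hDU).hom).toAlgebra
  haveI : IsScalarTower R A C := IsScalarTower.of_algebraMap_eq fun _ => rfl
  have hcomp : f.appLE U₁.1 D.1 hDU ≫ i₂.app D.1 = i₁.app U₁.1 ≫ g.appLE (i₁ ⁻¹ᵁ U₁.1) (i₂ ⁻¹ᵁ D.1) hCU := by
    rw [Scheme.Hom.app_eq_appLE, Scheme.Hom.app_eq_appLE, Scheme.Hom.appLE_comp_appLE, Scheme.Hom.appLE_comp_appLE]
    simp only [hsq]
  have hsmA : Algebra.Smooth R A := hPA.isStandardSmooth.smooth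
  haveI := hsmA
  -- the rank of the differentials of `A`
  let P : Ideal C := ptIdeal (i₂ ⁻¹ᵁ D.1) z htD
  haveI hPp : P.IsPrime := Ideal.IsPrime.comap _
  let K := P.ResidueField
  have hrankA : Module.finrank K (SmoothLift.L R A C P) = n := by
    haveI : Algebra.IsStandardSmoothOfRelativeDimension n R A := hPA
    haveI : Algebra.IsStandardSmooth R A := Algebra.IsStandardSmoothOfRelativeDimension.isStandardSmooth n
    haveI : Nontrivial A := (algebraMap A K).domain_nontrivial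
    show Module.finrank K (K ⊗[A] Ω[A⁄R]) = n
    rw [Module.finrank_baseChange, Module.finrank,
      Algebra.IsStandardSmoothOfRelativeDimension.rank_kaehlerDifferential n]
    simp
  -- the base of `C`
  let J : Ideal R := RingHom.ker (i₁.app U₁.1).hom
  let eJ : (R ⧸ J) ≃+* Γ(Z₁, i₁ ⁻¹ᵁ U₁.1) := RingHom.quotientKerEquivOfSurjective (i₁.app_surjective U₁.1 U₁.2)
  letI algJC : Algebra (R ⧸ J) C := ((g.appLE _ _ hCU).hom.comp eJ.toRingHom).toAlgebra
  haveI : IsScalarTower R (R ⧸ J) C := IsScalarTower.of_algebraMap_eq fun a => by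
    show (f.appLE U₁.1 D.1 hDU ≫ i₂.app D.1) a = _
    rw [hcomp]; rfl
  haveI : Algebra.Smooth (R ⧸ J) C := by
    have h1 : (g.appLE _ _ hCU).hom.Smooth :=
      HasRingHomProperty.appLE @Smooth g inferInstance ⟨_, U₁.2.preimage i₁⟩ ⟨_, D.2.preimage i₂⟩ hCU
    exact RingHom.Smooth.comp (RingHom.Smooth.of_bijective (f := eJ.toRingHom) eJ.bijective) h1
  have hrankC : Module.finrank K (K ⊗[C] Ω[C⁄R]) = e := by
    let R₂ : Type u := Γ(Z₁, Z₁.basicOpen r')
    let ρ : Γ(X₁, U₁.1) ⟶ Γ(Z₁, Z₁.basicOpen r') := i₁.app U₁.1 ≫ Z₁.presheaf.map (homOfLE (Z₁.basicOpen_le r')).op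
    letI : Algebra R R₂ := ρ.hom.toAlgebra
    letI : Algebra R₂ C := (g.appLE _ _ hCr).hom.toAlgebra
    haveI : IsScalarTower R R₂ C := IsScalarTower.of_algebraMap_eq fun a => by
      show (f.appLE U₁.1 D.1 hDU ≫ i₂.app D.1) a = (ρ ≫ g.appLE _ _ hCr) a
      rw [hcomp, Category.assoc, Scheme.Hom.map_appLE]
    haveI : Algebra.FormallyUnramified R R₂ := by
      let R₁ : Type u := Γ(Z₁, i₁ ⁻¹ᵁ U₁.1)
      letI : Algebra R R₁ := (i₁.app U₁.1).hom.toAlgebra
      haveI : IsScalarTower R R₁ R₂ := IsScalarTower.of_algebraMap_eq fun _ => rfl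
      haveI : Algebra.FormallyUnramified R R₁ :=
        Algebra.FormallyUnramified.of_surjective (Algebra.ofId R R₁) (i₁.app_surjective U₁.1 U₁.2)
      haveI : IsLocalization.Away r' R₂ := (U₁.2.preimage i₁).isLocalization_basicOpen r'
      haveI : Algebra.FormallyUnramified R₁ R₂ := Algebra.FormallyUnramified.of_isLocalization (Submonoid.powers r')
      exact Algebra.FormallyUnramified.comp R R₁ R₂
    haveI : Algebra.IsStandardSmoothOfRelativeDimension e R₂ C := by
      show RingHom.IsStandardSmoothOfRelativeDimension e (g.appLE _ _ hCr).hom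
      have h1 : ∀ (W : Z₂.Opens) (hW : W = Z₂.basicOpen s') (hle : W ≤ g ⁻¹ᵁ Z₁.basicOpen r'),
          RingHom.IsStandardSmoothOfRelativeDimension e (g.appLE _ W hle).hom := by rintro _ rfl _; exact hPrs'
      exact h1 _ hpre hCr
    haveI : Algebra.IsStandardSmooth R₂ C := Algebra.IsStandardSmoothOfRelativeDimension.isStandardSmooth e
    haveI : Nontrivial C := (algebraMap C K).domain_nontrivial
    let eΩ : Ω[C⁄R] ≃ₗ[C] Ω[C⁄R₂] := LinearEquiv.ofBijective _ (bijective_omega_map R R₂ C)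
    rw [(eΩ.baseChange C K _ _).finrank_eq, Module.finrank_baseChange, Module.finrank,
      Algebra.IsStandardSmoothOfRelativeDimension.rank_kaehlerDifferential e]
    simp
  have hsurj : Function.Surjective (algebraMap A C) := i₂.app_surjective D.1 D.2
  have hN : Module.finrank K (SmoothLift.N R A C P) = n - e := by
    have h5 : Module.finrank K (SmoothLift.N R A C P) + e = n := by
      rw [← hrankC, ← hrankA]
      exact SmoothLift.finrank_N (P := P) (R := R) hsurj
    exact Nat.eq_sub_of_add_eq h5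
  -- the differentials coming from `V`
  let res : Γ(X₂, V) ⟶ Γ(X₂, D.1) := X₂.presheaf.map (homOfLE hDV).op
  let Iv := i₂.ker.ideal ⟨V, hV⟩
  let dv : Γ(X₂, V) → SmoothLift.L R A C P := fun a => SmoothLift.δ R A C P (res a)
  have hIv : ∀ a ∈ Iv, algebraMap A C (res a) = 0 := fun a ha =>
    (mem_ker_app (res a) D.2).1 (ker_app_res V hV D hDV a ha)
  have hmapI : RingHom.ker (algebraMap A C) = Iv.map res.hom := by
    rw [show Iv.map res.hom = i₂.ker.ideal D from i₂.ker.map_ideal (U := D) (V := ⟨V, hV⟩) hDV]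
    ext a
    exact (mem_ker_app a D.2).symm
  have hspanN : SmoothLift.N R A C P ≤ Submodule.span K (dv '' (Iv : Set Γ(X₂, V))) := by
    refine Submodule.span_le.2 ?_
    rintro _ ⟨a, ha, rfl⟩
    rw [SetLike.mem_coe, hmapI] at ha
    refine Submodule.span_induction (p := fun a _ => algebraMap A C a = 0 →
      SmoothLift.δ R A C P a ∈ Submodule.span K (dv '' (Iv : Set Γ(X₂, V)))) ?_ ?_ ?_ ?_ ha ?_
    · rintro _ ⟨v, hv, rfl⟩ _
      exact Submodule.subset_span ⟨v, hv, rfl⟩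
    · intro _; rw [SmoothLift.δ, map_zero, tmul_zero]; exact Submodule.zero_mem _
    · intro a b ha' hb' ha hb _
      rw [SmoothLift.δ_add]
      refine Submodule.add_mem _ (ha ?_) (hb ?_) <;> (rw [← RingHom.mem_ker, hmapI]; assumption)
    · intro c a ha' ha _
      have h0 : algebraMap A C a = 0 := by rw [← RingHom.mem_ker, hmapI]; exact ha'
      rw [smul_eq_mul, SmoothLift.δ_mul_of_mem c h0]
      exact Submodule.smul_mem _ _ (ha h0)
    · rw [← RingHom.mem_ker, hmapI]; exact ha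
  haveI : Module.Finite K (SmoothLift.L R A C P) := inferInstance
  obtain ⟨bs, hbs, hbspan, hbli⟩ := exists_linearIndependent K (dv '' (Iv : Set Γ(X₂, V)))
  have hspaneq : Submodule.span K (dv '' (Iv : Set Γ(X₂, V))) = SmoothLift.N R A C P := by
    refine le_antisymm (Submodule.span_le.2 ?_) hspanN
    rintro _ ⟨v, hv, rfl⟩
    exact Submodule.subset_span ⟨res v, hIv v hv, rfl⟩
  haveI : Fintype bs := hbli.setFinite.fintype
  have hcard : Fintype.card bs = n - e := by
    rw [← finrank_span_eq_card hbli, Subtype.range_coe, hbspan, hspaneq, hN]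
  choose x hxI hx using fun b : bs => hbs b.2
  let eb : Fin (n - e) ≃ bs := (Fintype.equivFinOfCardEq hcard).symm
  refine ⟨fun j => x (eb j), fun j => hxI (eb j), fun a ha F hF => ?_⟩
  have hx0 : ∀ v ∈ ptIdeal V t hz, algebraMap A K (res v) = 0 := fun v hv => by
    rw [IsScalarTower.algebraMap_apply A C K, Ideal.algebraMap_residueField_eq_zero]
    show i₂.app D.1 (res v) ∈ ptIdeal (i₂ ⁻¹ᵁ D.1) z htD
    refine (mem_ptIdeal _ z htD _).2 ?_
    rw [← Scheme.Hom.preimage_basicOpen]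
    show ¬ (i₂.base z ∈ X₂.basicOpen (res v))
    rw [show res v = X₂.presheaf.map (homOfLE hDV).op v from rfl, Scheme.basicOpen_res]
    exact fun h => (mem_ptIdeal V t hz v).1 hv h.2
  have haK : algebraMap A K (res a) ≠ 0 := by
    rw [IsScalarTower.algebraMap_apply A C K, Ne, Ideal.algebraMap_residueField_eq_zero]
    show ¬ i₂.app D.1 (res a) ∈ ptIdeal (i₂ ⁻¹ᵁ D.1) z htD
    refine fun hmem => (mem_ptIdeal _ z htD _).1 hmem ?_
    rw [← Scheme.Hom.preimage_basicOpen]
    show i₂.base z ∈ X₂.basicOpen (res a)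
    rw [show res a = X₂.presheaf.map (homOfLE hDV).op a from rfl, Scheme.basicOpen_res]
    exact ⟨htD, not_not.1 fun h => ha ((mem_ptIdeal V t hz a).2 h)⟩
  have hFI : ∀ j, F j ∈ Iv := fun j => by
    rw [show F j = (F j - a * x (eb j)) + a * x (eb j) by rw [sub_add_cancel]]
    exact add_mem (Ideal.mul_le_right (hF j)) (Iv.mul_mem_left _ (hxI _))
  have hsmall : ∀ y ∈ ptIdeal V t hz * Iv, dv y = 0 := fun y hy => by
    refine Submodule.mul_induction_on hy (fun v hv w hw => ?_) (fun v w hv hw => ?_)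
    · show SmoothLift.δ R A C P (res (v * w)) = 0
      rw [map_mul, SmoothLift.δ_mul_of_mem _ (hIv w hw), hx0 v hv, zero_smul]
    · show SmoothLift.δ R A C P (res (v + w)) = 0
      rw [map_add, SmoothLift.δ_add]
      show dv v + dv w = 0
      rw [hv, hw, add_zero]
  have hdF : ∀ j, SmoothLift.δ R A C P (res (F j)) = algebraMap A K (res a) • ((eb j : bs) : SmoothLift.L R A C P) := by
    intro j
    rw [show F j = (F j - a * x (eb j)) + a * x (eb j) by rw [sub_add_cancel], map_add, SmoothLift.δ_add, map_mul,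
      SmoothLift.δ_mul_of_mem _ (hIv _ (hxI _))]
    rw [show SmoothLift.δ R A C P (res (F j - a * x (eb j))) = 0 from hsmall _ (hF j), zero_add]
    congr 1
    exact hx (eb j)
  let fA : ULift.{u} (Fin (n - e)) → A := fun j => res (F j.down)
  obtain ⟨h, hhP, hhsm, hhI⟩ := SmoothLift.exists_smooth_nhd R A C J hsurj P fA (fun j => hIv _ (hFI _)) (by
    show LinearIndependent K (fun j : ULift.{u} (Fin (n - e)) => SmoothLift.δ R A C P (res (F j.down)))
    simp only [hdF]
    have h1 := (hbli.comp (fun j : ULift.{u} (Fin (n - e)) => eb j.down)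
      (eb.injective.comp ULift.down_injective)).units_smul (fun _ => Units.mk0 _ haK)
    exact h1) (by
    rw [← hspaneq, ← hbspan]
    refine Submodule.span_le.2 fun b hb => ?_
    have h1 := Submodule.smul_mem (Submodule.span K (Set.range fun j => SmoothLift.δ R A C P (fA j)))
      (algebraMap A K (res a))⁻¹ (Submodule.subset_span ⟨ULift.up (eb.symm ⟨b, hb⟩), rfl⟩)
    simp only [fA, hdF] at h1 ⊢
    rw [smul_smul, inv_mul_cancel₀ haK, one_smul, Equiv.apply_symm_apply] at h1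
    exact h1)
  let D' : X₂.affineOpens := ⟨X₂.basicOpen (show Γ(X₂, D.1) from h), D.2.basicOpen _⟩
  have hD'D : D'.1 ≤ D.1 := X₂.basicOpen_le _
  refine ⟨U₁, D', hD'D.trans hDV, hD'D.trans hDU, ?_, ?_, ?_⟩
  · show z ∈ i₂ ⁻¹ᵁ X₂.basicOpen (show Γ(X₂, D.1) from h)
    rw [i₂.preimage_basicOpen]
    exact not_not.1 fun h' => hhP ((mem_ptIdeal _ z htD _).2 h')
  all_goals
    let A' : Type u := Γ(X₂, D'.1)
    let ι' : Γ(X₂, D.1) ⟶ Γ(X₂, D'.1) := X₂.presheaf.map (homOfLE hD'D).op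
    letI : Algebra A A' := ι'.hom.toAlgebra
    haveI : IsLocalization.Away h A' := D.2.isLocalization_basicOpen (show Γ(X₂, D.1) from h)
    have hF' : (fun j => X₂.presheaf.map (homOfLE (hD'D.trans hDV)).op (F j)) = fun j => ι' (res (F j)) :=
      funext fun j => by
        show _ = (res ≫ ι') (F j)
        rw [show res ≫ ι' = X₂.presheaf.map (homOfLE (hD'D.trans hDV)).op from by
          rw [← Functor.map_comp]; rfl]
    have hspanmap : Ideal.span (Set.range fun j => X₂.presheaf.map (homOfLE (hD'D.trans hDV)).op (F j)) =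
        (Ideal.span (Set.range fA)).map (algebraMap A A') := by
      rw [hF', Ideal.map_span, ← Set.range_comp]
      congr 1
      exact (Equiv.ulift.surjective.range_comp _).symm
  · rw [← i₂.ker.map_ideal (U := D') (V := D) hD'D, Ideal.map_le_iff_le_comap]
    intro a' ha'
    have h1 := Ideal.mem_map_of_mem (algebraMap A A') (hhI a' ((mem_ker_app a' D.2).1 ha'))
    rw [Ideal.map_sup, map_mul, Ideal.map_map] at h1
    rw [Ideal.mem_comap, hspanmap]
    have h2 : (algebraMap A A').comp (algebraMap R A) = (f.appLE U₁.1 D'.1 (hD'D.trans hDU)).hom := by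
      rw [show (algebraMap A A').comp (algebraMap R A) = (f.appLE U₁.1 D.1 hDU ≫ ι').hom from rfl, Scheme.Hom.appLE_map]
    rw [h2] at h1
    have h3 : i₁.ker.ideal U₁ = J := by rw [Scheme.Hom.ker_apply]
    rw [h3]
    exact (Ideal.unit_mul_mem_iff_mem _ (IsLocalization.Away.algebraMap_isUnit h)).1 h1
  · letI algRA' : Algebra R A' := (f.appLE U₁.1 D'.1 (hD'D.trans hDU)).hom.toAlgebra
    haveI : IsScalarTower R A A' := IsScalarTower.of_algebraMap_eq fun a' => by
      show _ = (f.appLE U₁.1 D.1 hDU ≫ ι') a'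
      rw [Scheme.Hom.appLE_map]; rfl
    have h4 : Algebra.Smooth R (A' ⧸ (Ideal.span (Set.range fA)).map (algebraMap A A')) :=
      smooth_quotient_away _ h hhsm
    rw [hspanmap]
    exact RingHom.smooth_algebraMap.2 h4

end Groth.Agent.CommAlg4.SmoothLiftScheme
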