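import Groth.Agent.Unram17Lib.RelDim
import Groth.Agent.LangLib.EndoAlg
import Groth.Agent.EGA43.Limit.Basic
import Mathlib.AlgebraicGeometry.Morphisms.FlatMono
import Mathlib.AlgebraicGeometry.Morphisms.FormallyUnramified
import Mathlib.RingTheory.Smooth.StandardSmoothCotangent

/-!
# A monomorphism of smooth schemes of equal relative dimensions is an open immersion
-/

set_option autoImplicit false
set_option backward.isDefEq.respectTransparency.types false
universe u

open CategoryTheory CategoryTheory.Limits AlgebraicGeometry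
open scoped TensorProduct

namespace Groth.Agent.CommAlg4

theorem rankAtStalk_kaehler_of_locally {A B : Type u} [CommRing A] [CommRing B] [Algebra A B] (n : ℕ)
    [Algebra.Smooth A B]
    (h : RingHom.Locally (RingHom.IsStandardSmoothOfRelativeDimension n) (algebraMap A B)) (p : PrimeSpectrum B) :
    Module.rankAtStalk (R := B) Ω[B⁄A] p = n := by
  obtain ⟨s, hs, hst⟩ := h
  obtain ⟨t, ht, htp⟩ : ∃ t ∈ s, t ∉ p.asIdeal := by
    by_contra! h
    exact p.2.ne_top (eq_top_iff.2 (hs ▸ Ideal.span_le.2 h))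
  let Bt := Localization.Away t
  have h1 := hst t ht
  rw [← IsScalarTower.algebraMap_eq A B Bt] at h1
  haveI : Algebra.IsStandardSmoothOfRelativeDimension n A Bt := (RingHom.isStandardSmoothOfRelativeDimension_algebraMap n).1 h1
  haveI : Algebra.IsStandardSmooth A Bt := Algebra.IsStandardSmoothOfRelativeDimension.isStandardSmooth n
  obtain ⟨q, rfl⟩ : ∃ q : PrimeSpectrum Bt, q.comap (algebraMap B Bt) = p := by
    have : p ∈ Set.range (PrimeSpectrum.comap (algebraMap B Bt)) := by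
      rw [PrimeSpectrum.localization_away_comap_range Bt t]
      exact htp
    exact this
  haveI : Nontrivial Bt := q.nontrivial
  haveI : Module.Free Bt Ω[Bt⁄A] := inferInstance
  haveI : Algebra.FormallyEtale B Bt := Algebra.FormallyEtale.of_isLocalization (Submonoid.powers t)
  rw [← Module.rankAtStalk_isBaseChange (KaehlerDifferential.isBaseChange_of_formallyEtale A B Bt) q,
    Module.rankAtStalk_eq_finrank_of_free]
  simp only [Pi.natCast_apply, Nat.cast_id]
  rw [Module.finrank, Algebra.IsStandardSmoothOfRelativeDimension.rank_kaehlerDifferential n, Cardinal.toNat_natCast]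

theorem flat_of_formallyUnramified_of_locally {A B C : Type u} [CommRing A] [CommRing B] [CommRing C]
    (φ : A →+* B) (ψ : B →+* C) (hψ : ψ.FormallyUnramified) (n : ℕ)
    (hφ : φ.Smooth) (hφψ : (ψ.comp φ).Smooth)
    (h₁ : RingHom.Locally (RingHom.IsStandardSmoothOfRelativeDimension n) φ)
    (h₂ : RingHom.Locally (RingHom.IsStandardSmoothOfRelativeDimension n) (ψ.comp φ)) :
    ψ.Flat := by
  letI := φ.toAlgebra
  letI := ψ.toAlgebra
  letI := (ψ.comp φ).toAlgebra
  haveI : IsScalarTower A B C := .of_algebraMap_eq fun _ => rfl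
  haveI : Algebra.Smooth A B := hφ
  haveI : Algebra.Smooth A C := hφψ
  haveI : Algebra.FormallyUnramified B C := hψ
  haveI := LangLib.smooth_of_formallyUnramified A B C fun p => by
    rw [rankAtStalk_kaehler_of_locally n h₂, rankAtStalk_kaehler_of_locally n h₁]
  exact (inferInstance : Module.Flat B C)

theorem locally_appLE_of_restrict {X S : Scheme.{u}} (f : X ⟶ S) (n : ℕ) (W0 : X.Opens)
    [SmoothOfRelativeDimension n (W0.ι ≫ f)] {U : S.Opens} (hU : IsAffineOpen U) {W : X.Opens} (hW : IsAffineOpen W)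
    (hW0 : W ≤ W0) (e : W ≤ f ⁻¹ᵁ U) :
    RingHom.Locally (RingHom.IsStandardSmoothOfRelativeDimension n) (f.appLE U W e).hom := by
  have hle : W ≤ W0.ι.opensRange := by rwa [Scheme.Opens.opensRange_ι]
  have hW' : IsAffineOpen (W0.ι ⁻¹ᵁ W) := hW.preimage_of_isOpenImmersion _ hle
  have h := HasRingHomProperty.appLE (P := @SmoothOfRelativeDimension n) (W0.ι ≫ f) ‹_› ⟨U, hU⟩ ⟨_, hW'⟩
    (fun z hz => e hz)
  haveI := W0.ι.isIso_app W hle
  rw [← Scheme.Hom.appLE_comp_appLE W0.ι f U W _ e le_rfl] at h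
  have hres := RingHom.locally_respectsIso (RingHom.isStandardSmoothOfRelativeDimension_respectsIso (n := n))
  rw [Scheme.Hom.appLE_eq_app] at h
  exact (RingHom.RespectsIso.cancel_right_isIso hres _ _).1 h

theorem smooth_appLE {X S : Scheme.{u}} (f : X ⟶ S) [Smooth f] {U : S.Opens} (hU : IsAffineOpen U)
    {W : X.Opens} (hW : IsAffineOpen W) (e : W ≤ f ⁻¹ᵁ U) : (f.appLE U W e).hom.Smooth :=
  HasRingHomProperty.appLE (P := @Smooth) f ‹_› ⟨U, hU⟩ ⟨W, hW⟩ e

/-- A monomorphism between smooth schemes with equal relative dimensions is an open immersion. -/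
theorem isOpenImmersion_of_mono_of_fibreDimAt {X Y S : Scheme.{u}} (f : Y ⟶ S) (g : X ⟶ Y) [Smooth f]
    [Smooth (g ≫ f)] [Mono g]
    (hdim : ∀ x : X, FlatMor.fibreDimAt f (g x) = FlatMor.fibreDimAt (g ≫ f) x) : IsOpenImmersion g := by
  haveI : IsIso (pullback.diagonal g) := pullback.isIso_diagonal_iff g |>.2 ‹_›
  haveI : FormallyUnramified g := inferInstance
  haveI : LocallyOfFinitePresentation g :=
    EGA43.Limit.locallyOfFinitePresentation_of_comp g f
  suffices key : ∀ x : X, ∃ V : X.Opens, x ∈ V ∧ Flat (V.ι ≫ g) by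
    choose V hxV hV using key
    haveI : Flat g := IsZariskiLocalAtSource.of_openCover (P := @Flat)
      (X.openCoverOfIsOpenCover V (TopologicalSpace.IsOpenCover.mk (top_le_iff.1 fun x _ =>
        TopologicalSpace.Opens.mem_iSup.2 ⟨x, hxV x⟩))) hV
    exact IsOpenImmersion.of_flat_of_mono g
  intro x
  obtain ⟨V0, m, hxV0, hm⟩ := Unram17Lib.exists_smoothOfRelativeDimension (g ≫ f) x
  obtain ⟨W0, n, hyW0, hn⟩ := Unram17Lib.exists_smoothOfRelativeDimension f (g x)
  obtain rfl : m = n := by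
    have h1 := Unram17Lib.fibreDimAt_eq_of_openImmersion V0.ι (𝟙 S)
      (Category.comp_id (V0.ι ≫ g ≫ f)).symm (⟨x, hxV0⟩ : V0.toScheme)
    have h2 := Unram17Lib.fibreDimAt_eq_of_openImmersion W0.ι (𝟙 S)
      (Category.comp_id (W0.ι ≫ f)).symm (⟨g x, hyW0⟩ : W0.toScheme)
    rw [Unram17Lib.fibreDimAt_of_smoothOfRelativeDimension (V0.ι ≫ g ≫ f) m] at h1
    rw [Unram17Lib.fibreDimAt_of_smoothOfRelativeDimension (W0.ι ≫ f) n] at h2
    have h3 : (m : WithBot ℕ∞) = (n : WithBot ℕ∞) := h1.symm.trans ((hdim x).symm.trans h2)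
    exact_mod_cast h3
  obtain ⟨U, hU, hsU, -⟩ := TopologicalSpace.Opens.isBasis_iff_nbhd.mp S.isBasis_affineOpens
    (TopologicalSpace.Opens.mem_top (f (g x)))
  obtain ⟨W, hW, hyW, hWle⟩ := TopologicalSpace.Opens.isBasis_iff_nbhd.mp Y.isBasis_affineOpens
    (show g x ∈ W0 ⊓ f ⁻¹ᵁ U from ⟨hyW0, hsU⟩)
  obtain ⟨V, hV, hxV, hVle⟩ := TopologicalSpace.Opens.isBasis_iff_nbhd.mp X.isBasis_affineOpens
    (show x ∈ V0 ⊓ g ⁻¹ᵁ W from ⟨hxV0, hyW⟩)
  refine ⟨V, hxV, ?_⟩
  have eV : V ≤ g ⁻¹ᵁ W := hVle.trans inf_le_right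
  have eW : W ≤ f ⁻¹ᵁ U := hWle.trans inf_le_right
  have e' : V ≤ (g ≫ f) ⁻¹ᵁ U := fun z hz => eW (eV hz)
  have hcomp : ((g.appLE W V eV).hom.comp (f.appLE U W eW).hom) = ((g ≫ f).appLE U V e').hom := by
    rw [← Scheme.Hom.appLE_comp_appLE g f U W V eW eV]; rfl
  have hflat : (g.appLE W V eV).hom.Flat := by
    refine flat_of_formallyUnramified_of_locally (f.appLE U W eW).hom (g.appLE W V eV).hom
      (HasRingHomProperty.appLE (P := @FormallyUnramified) g ‹_› ⟨W, hW⟩ ⟨V, hV⟩ eV) m (smooth_appLE f hU hW eW) ?_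
      (locally_appLE_of_restrict f m W0 hU hW (hWle.trans inf_le_left) eW) ?_
    · rw [hcomp]; exact smooth_appLE (g ≫ f) hU hV e'
    · rw [hcomp]; exact locally_appLE_of_restrict (g ≫ f) m V0 hU hV (hVle.trans inf_le_left) e'
  haveI : IsAffine (Scheme.Opens.toScheme W) := hW
  haveI : IsAffine (Scheme.Opens.toScheme V) := hV
  haveI : Flat (g.resLE W V eV) := by
    rw [HasRingHomProperty.iff_of_isAffine (P := @Flat),
      RingHom.Flat.respectsIso.arrow_mk_iso_iff (arrowResLEAppIso g W V eV)]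
    exact hflat
  rw [← g.resLE_comp_ι eV]
  infer_instance

end Groth.Agent.CommAlg4
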