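import Mathlib
import Groth.Prelude.Def_SpSeq

/-! Stationary positions and zero positions of an abstract spectral sequence. -/
set_option autoImplicit false
set_option linter.style.haveILetI false
universe v u
open CategoryTheory CategoryTheory.Limits

namespace Groth.Agent.CommAlg4.SpSeqPages

variable {C : Type u} [Category.{v} C] [Abelian C] {r₀ : ℤ} (E : CohomologicalSpectralSequence C r₀)

theorem isZero_page (r : ℤ) (hr : r₀ ≤ r) (pq : ℤ × ℤ) (h : IsZero ((E.page r hr).X pq)) (k : ℤ) (hk : r ≤ k) :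
    IsZero ((E.page k (hr.trans hk)).X pq) := by
  induction k, hk using Int.leInduction with
  | base => exact h
  | succ k hk ih =>
    refine IsZero.of_iso ?_ (E.iso k (k + 1) pq rfl (hr.trans hk)).symm
    exact (ShortComplex.exact_iff_isZero_homology _).1
      (ShortComplex.exact_of_isZero_X₂ ((E.page k (hr.trans hk)).sc pq) ih)

theorem page_iso_of_stationary (pq : ℤ × ℤ) (r : ℤ) (hst : SpSeq.StationaryAt E pq r) (k : ℤ) (hk : r ≤ k) :
    Nonempty ((E.page r hst.1).X pq ≅ (E.page k (hst.1.trans hk)).X pq) := by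
  induction k, hk using Int.leInduction with
  | base => exact ⟨Iso.refl _⟩
  | succ k hk ih =>
    obtain ⟨e⟩ := ih
    let K := E.page k (hst.1.trans hk)
    obtain ⟨h1, h2⟩ := hst.2 k (hst.1.trans hk) hk
    have hp : (ComplexShape.up' (⟨k, 1 - k⟩ : ℤ × ℤ)).prev pq = pq - (k, 1 - k) :=
      ComplexShape.prev_eq' _ (by simp)
    have hn : (ComplexShape.up' (⟨k, 1 - k⟩ : ℤ × ℤ)).next pq = pq + (k, 1 - k) :=
      ComplexShape.next_eq' _ (by simp)
    have hf : (K.sc pq).f = 0 := by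
      show K.d ((ComplexShape.up' (⟨k, 1 - k⟩ : ℤ × ℤ)).prev pq) pq = 0
      rw [hp]; exact h1
    have hg : (K.sc pq).g = 0 := by
      show K.d pq ((ComplexShape.up' (⟨k, 1 - k⟩ : ℤ × ℤ)).next pq) = 0
      rw [hn]; exact h2
    exact ⟨e ≪≫ (ShortComplex.HomologyData.ofZeros (K.sc pq) hf hg).left.homologyIso.symm ≪≫
      E.iso k (k + 1) pq rfl (hst.1.trans hk)⟩

theorem page_iso_of_stationary₂ (pq : ℤ × ℤ) (r r' : ℤ) (hst : SpSeq.StationaryAt E pq r)
    (hst' : SpSeq.StationaryAt E pq r') :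
    Nonempty ((E.page r hst.1).X pq ≅ (E.page r' hst'.1).X pq) := by
  obtain ⟨e⟩ := page_iso_of_stationary E pq r hst (max r r') (le_max_left _ _)
  obtain ⟨e'⟩ := page_iso_of_stationary E pq r' hst' (max r r') (le_max_right _ _)
  exact ⟨e ≪≫ e'.symm⟩

variable {H : ℤ → C} (a : SpSeq.Abutment E H)

theorem isZero_gr (r : ℤ) (hr : r₀ ≤ r) (pq : ℤ × ℤ) (h : IsZero ((E.page r hr).X pq)) :
    IsZero (SpSeq.grPiece (a.fil (pq.1 + pq.2)) (a.anti (pq.1 + pq.2)) pq.1) := by
  refine IsZero.of_iso ?_ (a.β pq).symm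
  rcases le_total r (a.rk pq) with hle | hle
  · exact isZero_page E r hr pq h _ hle
  · obtain ⟨e⟩ := page_iso_of_stationary E pq (a.rk pq) (a.stat pq) r hle
    exact h.of_iso e

theorem gr_congr {m n : ℤ} (e : m = n) (p : ℤ) :
    Nonempty (SpSeq.grPiece (a.fil m) (a.anti m) p ≅ SpSeq.grPiece (a.fil n) (a.anti n) p) := by
  subst e; exact ⟨Iso.refl _⟩

theorem step_eq (n p : ℤ) (h : IsZero (SpSeq.grPiece (a.fil n) (a.anti n) p)) : a.fil n (p + 1) = a.fil n p := by
  have hle := a.anti n (Int.le_add_one (le_refl p))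
  have : Epi ((a.fil n (p + 1)).ofLE (a.fil n p) hle) := Preadditive.epi_of_isZero_cokernel _ h
  have : IsIso ((a.fil n (p + 1)).ofLE (a.fil n p) hle) := isIso_of_mono_of_epi _
  exact le_antisymm hle (Subobject.le_of_comm (inv ((a.fil n (p + 1)).ofLE (a.fil n p) hle))
    (by rw [IsIso.inv_comp_eq, Subobject.ofLE_arrow]))

theorem gr_iso_top (X : C) (F : ℤ → Subobject X) (hF : Antitone F) (p : ℤ) (ht : F p = ⊤) (hb : F (p + 1) = ⊥) :
    Nonempty (SpSeq.grPiece F hF p ≅ X) := by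
  have hle : F (p + 1) ≤ F p := hF (Int.le_add_one le_rfl)
  have h0 : (F (p + 1)).ofLE (F p) hle = 0 := by
    rw [← cancel_mono (F p).arrow, Subobject.ofLE_arrow, zero_comp]
    exact zero_of_source_iso_zero _ (eqToIso (congrArg (fun S : Subobject X => (S : C)) hb) ≪≫ Subobject.botCoeIsoZero)
  haveI : IsIso (F p).arrow := (Subobject.isIso_arrow_iff_eq_top _).2 ht
  haveI : IsIso (cokernel.π ((F (p + 1)).ofLE (F p) hle)) := cokernel.π_of_zero h0
  exact ⟨(asIso (cokernel.π ((F (p + 1)).ofLE (F p) hle))).symm ≪≫ asIso (F p).arrow⟩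

theorem iso_of_single (r : ℤ) (hr : r₀ ≤ r) (q : ℤ → ℤ)
    (hdeg : ∀ m q' : ℤ, q' ≠ q m → IsZero ((E.page r hr).X (m - q', q')))
    (n : ℤ) (hdisc : (a.filObj n).IsDiscrete) (hexh : a.IsExhaustive n)
    (hst : SpSeq.StationaryAt E (n - q n, q n) r) :
    Nonempty (H n ≅ (E.page r hr).X (n - q n, q n)) := by
  let p₀ := n - q n
  have hz : ∀ p, p ≠ p₀ → a.fil n (p + 1) = a.fil n p := fun p hp => by
    obtain ⟨e⟩ := gr_congr E a (show (p, n - p).1 + (p, n - p).2 = n by simp) p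
    refine step_eq E a n p (IsZero.of_iso (isZero_gr E a r hr (p, n - p) ?_) e.symm)
    have h := hdeg n (n - p) (fun h => hp (by show p = n - q n; omega))
    rwa [show n - (n - p) = p by omega] at h
  have hdown : ∀ p, p ≤ p₀ → a.fil n p = a.fil n p₀ := fun p hp => by
    induction p, hp using Int.leInductionDown with
    | base => rfl
    | pred m hm ih =>
      have h := hz (m - 1) (by omega)
      rw [show m - 1 + 1 = m by omega] at h
      rw [← h, ih]
  have hup : ∀ p, p₀ + 1 ≤ p → a.fil n p = a.fil n (p₀ + 1) := fun p hp => by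
    induction p, hp using Int.leInduction with
    | base => rfl
    | succ m hm ih => rw [hz m (by omega), ih]
  obtain ⟨b, hb⟩ := hdisc
  change a.fil n b = ⊥ at hb
  have hbot : a.fil n (p₀ + 1) = ⊥ := by
    rw [← hup (max b (p₀ + 1)) (le_max_right _ _)]
    exact le_bot_iff.1 ((a.anti n (le_max_left _ _)).trans hb.le)
  have htop : a.fil n p₀ = ⊤ := by
    refine top_le_iff.1 (hexh.2 ?_)
    rintro _ ⟨p, rfl⟩
    show a.fil n p ≤ a.fil n p₀
    rcases le_total p p₀ with h | h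
    · exact (hdown p h).le
    · exact a.anti n h
  obtain ⟨e₁⟩ := gr_iso_top (H n) (a.fil n) (a.anti n) p₀ htop hbot
  obtain ⟨e₂⟩ := gr_congr E a (show (p₀, q n).1 + (p₀, q n).2 = n by simp [p₀]) p₀
  obtain ⟨e₃⟩ := page_iso_of_stationary₂ E (p₀, q n) r (a.rk (p₀, q n)) hst (a.stat _)
  exact ⟨e₁.symm ≪≫ e₂.symm ≪≫ (a.β (p₀, q n)).symm ≪≫ e₃.symm⟩

end Groth.Agent.CommAlg4.SpSeqPages
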