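import Mathlib
import Groth.Prelude.Def_SpSeq
import Groth.Agent.CommAlg4.SpSeqPages

/-! Degeneration from a monomorphism on the second page. -/
set_option autoImplicit false
set_option linter.style.haveILetI false
universe v u
open CategoryTheory CategoryTheory.Limits

namespace Groth.Agent.CommAlg4.SpSeqMono

variable {C : Type u} [Category.{v} C] [Abelian C]

theorem degenerates (E E' : E₂CohomologicalSpectralSequence C) (φ : E ⟶ E')
    (hE : ∀ pq : ℤ × ℤ, pq.1 < 0 ∨ pq.2 < 0 → IsZero ((E.page 2 le_rfl).X pq))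
    (hd' : ∀ (r : ℤ) (hr : 2 ≤ r) (pq : ℤ × ℤ), pq.1 ≠ 0 → (E'.page r hr).d pq (pq + (r, 1 - r)) = 0)
    (hφd : ∀ (r : ℤ) (hr : 2 ≤ r) (pq : ℤ × ℤ),
      (φ.hom r hr).f pq ≫ (E'.page r hr).d pq (pq + (r, 1 - r)) = 0)
    (hmono : ∀ pq : ℤ × ℤ, Mono ((φ.hom 2 le_rfl).f pq)) :
    SpSeq.Degenerates E 2 := by
  have hd0 : ∀ (r : ℤ) (hr : 2 ≤ r), (∀ pq : ℤ × ℤ, r ≤ pq.1 → Mono ((φ.hom r hr).f pq)) →
      ∀ pq pq' : ℤ × ℤ, (E.page r hr).d pq pq' = 0 := by
    intro r hr hm pq pq'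
    by_cases hrel : (ComplexShape.up' (⟨r, 1 - r⟩ : ℤ × ℤ)).Rel pq pq'
    · obtain rfl : pq + (r, 1 - r) = pq' := hrel
      rcases lt_or_ge pq.1 0 with hp | hp
      · exact (SpSeqPages.isZero_page E 2 le_rfl pq (hE pq (Or.inl hp)) r hr).eq_of_src _ _
      · haveI := hm (pq + (r, 1 - r)) (by simp; omega)
        rw [← cancel_mono ((φ.hom r hr).f (pq + (r, 1 - r))), zero_comp,
          ← (φ.hom r hr).comm pq (pq + (r, 1 - r)), hφd r hr pq]
    · exact (E.page r hr).shape _ _ hrel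
  have hmono' : ∀ (r : ℤ) (hr : 2 ≤ r) (pq : ℤ × ℤ), r ≤ pq.1 → Mono ((φ.hom r hr).f pq) := by
    intro r hr
    induction r, hr using Int.leInduction with
    | base => exact fun pq _ => hmono pq
    | succ r hr ih =>
      intro pq hpq
      have hdE := hd0 r hr ih
      let K := E.page r hr
      let K' := E'.page r hr
      have hp : (ComplexShape.up' (⟨r, 1 - r⟩ : ℤ × ℤ)).prev pq = pq - (r, 1 - r) :=
        ComplexShape.prev_eq' _ (by simp)
      have hn : (ComplexShape.up' (⟨r, 1 - r⟩ : ℤ × ℤ)).next pq = pq + (r, 1 - r) :=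
        ComplexShape.next_eq' _ (by simp)
      have h1 : K'.d (pq - (r, 1 - r)) pq = 0 := by
        have h := hd' r hr (pq - (r, 1 - r)) (by simp; omega)
        rwa [sub_add_cancel] at h
      haveI := ih pq (by omega)
      haveI : Mono (HomologicalComplex.homologyMap (φ.hom r hr) pq) := by
        rw [HomologicalComplex.mono_homologyMap_iff_up_to_refinements _ _ pq _ hp hn]
        intro W x _ y hxy
        rw [h1, comp_zero] at hxy
        refine ⟨W, 𝟙 W, inferInstance, 0, ?_⟩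
        rw [Category.id_comp, zero_comp, ← cancel_mono ((φ.hom r hr).f pq), hxy, zero_comp]
      have h := SpectralSequence.Hom.comm φ r (r + 1) pq rfl hr
      have e : (φ.hom (r + 1) (by omega)).f pq = (E.iso r (r + 1) pq rfl hr).inv ≫
          HomologicalComplex.homologyMap (φ.hom r hr) pq ≫ (E'.iso r (r + 1) pq rfl hr).hom := by
        rw [h, Iso.inv_hom_id_assoc]
      rw [e]
      infer_instance
  exact ⟨le_rfl, fun r hr _ pq pq' => hd0 r hr (hmono' r hr) pq pq'⟩

end Groth.Agent.CommAlg4.SpSeqMono
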