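import Mathlib
import Groth.Agent.Et18.SplitAlg

/-!
# The monomial basis of the universal splitting algebra
-/

set_option autoImplicit false
set_option linter.all false
set_option backward.isDefEq.respectTransparency.types false

universe u

open Polynomial Groth.Agent.Et18.SplitAlg

namespace Groth.Agent.CommAlg4.SplitBasis

variable {S : Type u} [CommRing S]

/-- Exponent vectors `d_i < r - i`. -/
abbrev Exps (r : ℕ) : Type := Π i : Fin r, Fin (r - (i : ℕ))

/-- Splitting off the first exponent. -/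
def expsCons (r : ℕ) : Fin (r + 1) × Exps r ≃ Exps (r + 1) :=
  (Equiv.prodCongr (finCongr (by simp)) (Equiv.piCongrRight fun i => finCongr (by simp))).trans
    (Fin.consEquiv fun i : Fin (r + 1) => Fin (r + 1 - (i : ℕ)))

theorem qsmul_eq {r : ℕ} {S : Type u} [CommRing S] (a : Fin r → S) (c : S) (x : Q a) :
    c • x = Ideal.Quotient.mk (splitIdeal a) (MvPolynomial.C c) * x := by
  obtain ⟨p, rfl⟩ := Ideal.Quotient.mk_surjective x
  rw [← map_mul, MvPolynomial.C_mul']
  rfl

theorem exists_basis_mono : ∀ {r : ℕ} {S : Type u} [CommRing S] (a : Fin r → S),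
    ∃ B : Module.Basis (Exps r) S (Q a), ∀ d, B d = ∏ i, gen a i ^ (d i : ℕ)
  | 0, S, _, a => by
    let e : Q a ≃ₐ[S] S := AlgEquiv.ofAlgHom (desc a (fun i => i.elim0) fun i => i.elim0) (Algebra.ofId S _)
      (Subsingleton.elim _ _) (Ideal.Quotient.algHom_ext S (MvPolynomial.algHom_ext fun i => i.elim0))
    refine ⟨(Module.Basis.singleton (Exps 0) S).map e.symm.toLinearEquiv, fun d => ?_⟩
    simp
  | r + 1, S, _, a => by
    rcases subsingleton_or_nontrivial S with hS | hS
    · haveI : Subsingleton (Q a) := Module.subsingleton S _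
      exact ⟨Module.Basis.ofRepr
        { toFun := fun _ => 0, invFun := fun _ => 0, left_inv := fun _ => Subsingleton.elim _ _,
          right_inv := fun _ => Subsingleton.elim _ _, map_add' := fun _ _ => by simp,
          map_smul' := fun _ _ => by simp }, fun _ => Subsingleton.elim _ _⟩
    obtain ⟨b, hb⟩ := exists_basis_mono (a' a)
    let pb := AdjoinRoot.powerBasis' (monic_first a)
    have hdim : pb.dim = r + 1 := by
      rw [AdjoinRoot.powerBasis'_dim]
      exact le_antisymm (natDegree_first_le a) (le_natDegree_of_ne_zero (by rw [coeff_first]; exact one_ne_zero))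
    refine ⟨(((pb.basis.smulTower b).map (equivStep a).symm.toLinearEquiv).reindex
      (((finCongr hdim).prodCongr (Equiv.refl _)).trans (expsCons r))), fun d => ?_⟩
    obtain ⟨⟨k, c⟩, rfl⟩ := (((finCongr hdim).prodCongr (Equiv.refl _)).trans (expsCons r)).surjective d
    rw [Module.Basis.reindex_apply, Equiv.symm_apply_apply, Module.Basis.map_apply, Module.Basis.smulTower_apply,
      pb.coe_basis, hb]
    show (equivStep a).symm _ = _
    rw [AlgEquiv.symm_apply_eq, map_prod, Fin.prod_univ_succ]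
    rw [qsmul_eq]
    simp only [map_pow]
    congr 1
    · rw [show equivStep a (gen a 0) = root' a from desc_gen a _ (es_cons_root a) 0]
      rfl
    · refine Finset.prod_congr rfl fun i _ => ?_
      rw [show equivStep a (gen a i.succ) = gen (a' a) i from
        (desc_gen a _ (es_cons_root a) i.succ).trans (Fin.cons_succ _ _ i)]
      simp [expsCons, Fin.consEquiv]

theorem bijective_mono {R : Type u} [CommRing R] (r : ℕ) :
    Function.Bijective (fun p : Exps r → MvPolynomial (Fin r) R =>
      ∑ d : Exps r, (MvPolynomial.aeval (fun i : Fin r => MvPolynomial.esymm (Fin r) R ((i : ℕ) + 1))) (p d) *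
        ∏ i : Fin r, MvPolynomial.X i ^ ((d i : ℕ))) := by
  classical
  let f : MvPolynomial (Fin r) R →ₐ[R] MvPolynomial (Fin r) R :=
    MvPolynomial.aeval (fun i : Fin r => MvPolynomial.esymm (Fin r) R ((i : ℕ) + 1))
  let a : Fin r → MvPolynomial (Fin r) R := MvPolynomial.X
  obtain ⟨B, hB⟩ := exists_basis_mono a
  let toU : Q a →+* MvPolynomial (Fin r) R := Ideal.Quotient.lift _
    (MvPolynomial.eval₂Hom f.toRingHom MvPolynomial.X) fun p hp => by
      refine (Ideal.span_le.mpr ?_ : splitIdeal a ≤ RingHom.ker _) hp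
      rintro _ ⟨i, rfl⟩
      show MvPolynomial.eval₂Hom f.toRingHom MvPolynomial.X _ = 0
      rw [map_sub, MvPolynomial.eval₂Hom_C, sub_eq_zero]
      rw [MvPolynomial.esymm, map_sum]
      simp [f, a, MvPolynomial.esymm]
  let ofU : MvPolynomial (Fin r) R →ₐ[R] Q a := MvPolynomial.aeval (gen a)
  have hf : ∀ p, ofU (f p) = algebraMap (MvPolynomial (Fin r) R) (Q a) p := fun p => by
    refine AlgHom.congr_fun (show ofU.comp f = IsScalarTower.toAlgHom R _ _ from MvPolynomial.algHom_ext fun i => ?_) p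
    show ofU (f (MvPolynomial.X i)) = algebraMap _ _ (a i)
    rw [← es_gen a i]
    simp only [f, MvPolynomial.aeval_X]
    exact aeval_esymm (S := R) (gen a) _
  have h1 : ∀ q, ofU (toU q) = q := fun q => by
    refine RingHom.congr_fun (show ofU.toRingHom.comp toU = RingHom.id _ from
      Ideal.Quotient.ringHom_ext (MvPolynomial.ringHom_ext (fun s => ?_) fun j => ?_)) q
    · show ofU (MvPolynomial.eval₂Hom f.toRingHom MvPolynomial.X (MvPolynomial.C s)) = _
      rw [MvPolynomial.eval₂Hom_C]
      exact hf s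
    · show ofU (MvPolynomial.eval₂Hom f.toRingHom MvPolynomial.X (MvPolynomial.X j)) = _
      rw [MvPolynomial.eval₂Hom_X']
      exact MvPolynomial.aeval_X _ j
  have h2 : ∀ p, toU (ofU p) = p := fun p => by
    refine RingHom.congr_fun (show toU.comp ofU.toRingHom = RingHom.id _ from
      MvPolynomial.ringHom_ext (fun s => ?_) fun j => ?_) p
    · show toU (ofU (MvPolynomial.C s)) = MvPolynomial.C s
      rw [show ofU (MvPolynomial.C s) = Ideal.Quotient.mk _ (MvPolynomial.C (MvPolynomial.C s)) from MvPolynomial.aeval_C _ s]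
      show MvPolynomial.eval₂Hom f.toRingHom MvPolynomial.X _ = _
      rw [MvPolynomial.eval₂Hom_C]
      simp [f]
    · show toU (ofU (MvPolynomial.X j)) = MvPolynomial.X j
      rw [show ofU (MvPolynomial.X j) = gen a j from MvPolynomial.aeval_X _ j, gen]
      show MvPolynomial.eval₂Hom f.toRingHom MvPolynomial.X _ = _
      rw [MvPolynomial.eval₂Hom_X']
  have hX : ∀ d, toU (B d) = ∏ i : Fin r, MvPolynomial.X i ^ ((d i : ℕ)) := fun d => by
    rw [hB, map_prod]
    refine Finset.prod_congr rfl fun i _ => ?_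
    rw [map_pow]
    congr 1
    show MvPolynomial.eval₂Hom f.toRingHom MvPolynomial.X (MvPolynomial.X i) = _
    rw [MvPolynomial.eval₂Hom_X']
  have key : (fun p : Exps r → MvPolynomial (Fin r) R => ∑ d, f (p d) * ∏ i : Fin r, MvPolynomial.X i ^ ((d i : ℕ))) =
      toU ∘ B.equivFun.symm := by
    funext p
    rw [Function.comp_apply, B.equivFun_symm_apply, map_sum]
    refine Finset.sum_congr rfl fun k _ => ?_
    rw [← hX k]
    exact ((congrArg toU (Algebra.smul_def (p k) (B k))).trans (by rw [map_mul, ← hf, h2])).symm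
  show Function.Bijective fun p : Exps r → MvPolynomial (Fin r) R => ∑ d, f (p d) * ∏ i : Fin r, MvPolynomial.X i ^ ((d i : ℕ))
  rw [key]
  exact (Function.bijective_iff_has_inverse.mpr ⟨ofU, h1, h2⟩).comp B.equivFun.symm.bijective

theorem mk_mono {r : ℕ} (a : Fin r → S) {B : Module.Basis (Exps r) S (Q a)}
    (hB : ∀ d, B d = ∏ i, gen a i ^ (d i : ℕ)) (c : Exps r → S) :
    Ideal.Quotient.mk (splitIdeal a) (∑ d, MvPolynomial.C (c d) * ∏ i : Fin r, MvPolynomial.X i ^ ((d i : ℕ))) =
      B.equivFun.symm c := by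
  rw [B.equivFun_symm_apply, map_sum]
  refine Finset.sum_congr rfl fun d _ => ?_
  rw [map_mul, map_prod, hB]
  rw [qsmul_eq]
  congr 1

theorem mem_split_sup_map_iff {r : ℕ} (a : Fin r → S) (J : Ideal S) (x : MvPolynomial (Fin r) S) :
    x ∈ splitIdeal a ⊔ Ideal.map MvPolynomial.C J ↔
      ∃ j : Exps r → S, (∀ d, j d ∈ J) ∧
        x - (∑ d, MvPolynomial.C (j d) * ∏ i : Fin r, MvPolynomial.X i ^ ((d i : ℕ))) ∈ splitIdeal a := by
  classical
  obtain ⟨B, hB⟩ := exists_basis_mono a
  constructor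
  · intro hx
    obtain ⟨y, hy, z, hz, rfl⟩ := Submodule.mem_sup.1 hx
    refine ⟨B.equivFun (Ideal.Quotient.mk _ z), fun d => ?_, ?_⟩
    · rw [MvPolynomial.as_sum z, map_sum, map_sum, Finset.sum_apply]
      refine Ideal.sum_mem _ fun m _ => ?_
      rw [← mul_one (MvPolynomial.coeff m z), ← MvPolynomial.C_mul_monomial, map_mul,
        ← qsmul_eq, map_smul, Pi.smul_apply, smul_eq_mul]
      exact J.mul_mem_right _ (MvPolynomial.mem_map_C_iff.1 hz m)
    · rw [← Ideal.Quotient.eq_zero_iff_mem, map_sub, mk_mono a hB, LinearEquiv.symm_apply_apply, map_add,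
        Ideal.Quotient.eq_zero_iff_mem.2 hy, zero_add, sub_self]
  · rintro ⟨j, hj, h⟩
    rw [← sub_add_cancel x (∑ d, MvPolynomial.C (j d) * ∏ i : Fin r, MvPolynomial.X i ^ ((d i : ℕ)))]
    exact add_mem (Ideal.mem_sup_left h) (Ideal.mem_sup_right (Ideal.sum_mem _ fun d _ =>
      Ideal.mul_mem_right _ _ (Ideal.mem_map_of_mem _ (hj d))))

theorem sum_sub_sum_mem_iff {r : ℕ} (a : Fin r → S) (J : Ideal S) (α β : Exps r → S) :
    (∑ d, MvPolynomial.C (α d) * ∏ i : Fin r, MvPolynomial.X i ^ ((d i : ℕ))) -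
        (∑ d, MvPolynomial.C (β d) * ∏ i : Fin r, MvPolynomial.X i ^ ((d i : ℕ)))
      ∈ splitIdeal a ⊔ Ideal.map MvPolynomial.C J ↔ ∀ d, α d - β d ∈ J := by
  classical
  obtain ⟨B, hB⟩ := exists_basis_mono a
  rw [mem_split_sup_map_iff]
  constructor
  · rintro ⟨j, hj, h⟩ d
    rw [← Ideal.Quotient.eq_zero_iff_mem, map_sub, map_sub, mk_mono a hB, mk_mono a hB, mk_mono a hB, ← map_sub,
      ← map_sub] at h
    have := congrFun (B.equivFun.symm.map_eq_zero_iff.1 h) d
    simp only [Pi.sub_apply, Pi.zero_apply, sub_eq_zero] at this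
    rw [this]; exact hj d
  · intro h
    refine ⟨fun d => α d - β d, h, ?_⟩
    simp [sub_mul, Finset.sum_sub_distrib]

end Groth.Agent.CommAlg4.SplitBasis
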