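import Mathlib

/-!
# Retractions of square-zero algebra extensions glue

Local retractions of a finitely presented square-zero extension extend to a global one.
-/

universe u

set_option linter.unusedVariables false

namespace Groth.Agent.CommAlg4

/-- Local retractions of a square-zero extension whose reduction is finitely presented glue. -/
theorem exists_retract_of_local {B C B₀ C₀ : Type u} [CommRing B] [CommRing C] [CommRing B₀] [CommRing C₀]
    (π : B →+* B₀) (hπ : Function.Surjective π)
    (hI : ∀ a b, π a = 0 → π b = 0 → a * b = 0)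
    (q : B →+* C) (c : C →+* B₀) (hcq : c.comp q = π)
    (hJ : ∀ x y, c x = 0 → c y = 0 → x * y = 0)
    (e : C →+* C₀) (he : Function.Surjective e) (hke : RingHom.ker e = (RingHom.ker π).map q)
    (ψ : B₀ →+* C₀) (hψ : ψ.comp π = e.comp q) (hfp : ψ.FinitePresentation)
    (hloc : ∀ p : PrimeSpectrum B, ∃ g : B, g ∉ p.asIdeal ∧
      ∃ (L : Type u) (_ : CommRing L) (al : B →+* L) (φ : C →+* L),
        @IsLocalization.Away B _ g L _ al.toAlgebra ∧ φ.comp q = al ∧
        ∀ x, c x = 0 → φ x ∈ (RingHom.ker π).map al) :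
    ∃ φ : C →+* B, φ.comp q = RingHom.id B ∧ π.comp φ = c := by
  classical
  have hcq' : ∀ b, c (q b) = π b := fun b => RingHom.congr_fun hcq b
  have hψ' : ∀ b, ψ (π b) = e (q b) := fun b => RingHom.congr_fun hψ b
  -- the kernel of `e`
  have hker : ∀ y, e y = 0 → ∃ a, π a = 0 ∧ q a = y := by
    intro y hy
    have hy' : y ∈ (RingHom.ker π).map q := hke ▸ (hy : y ∈ RingHom.ker e)
    clear hy
    induction hy' using Submodule.span_induction with
    | mem x hx => obtain ⟨a, ha, rfl⟩ := hx; exact ⟨a, ha, rfl⟩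
    | zero => exact ⟨0, map_zero _, map_zero _⟩
    | add x y _ _ hx hy =>
      obtain ⟨a, ha, rfl⟩ := hx; obtain ⟨b, hb, rfl⟩ := hy
      exact ⟨a + b, by rw [map_add, ha, hb, add_zero], map_add _ _ _⟩
    | smul t x _ hx =>
      obtain ⟨a, ha, rfl⟩ := hx
      obtain ⟨β, hβ⟩ := hπ (c t)
      refine ⟨β * a, by rw [map_mul, ha, mul_zero], ?_⟩
      have : (t - q β) * q a = 0 :=
        hJ _ _ (by rw [map_sub, hcq', hβ, sub_self]) (by rw [hcq', ha])
      rw [map_mul, smul_eq_mul]
      rwa [sub_mul, sub_eq_zero, eq_comm] at this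
  have hec : ∀ y, e y = 0 → c y = 0 := fun y hy => by
    obtain ⟨a, ha, rfl⟩ := hker y hy; rw [hcq', ha]
  -- generators
  letI : Algebra B₀ C₀ := ψ.toAlgebra
  haveI : Algebra.FinitePresentation B₀ C₀ := hfp
  obtain ⟨S, hS⟩ := (inferInstance : Algebra.FiniteType B₀ C₀).out
  choose lft hlft using he
  choose pre hpre using hπ
  let r := S.card
  let w : Fin r → C₀ := fun m => (S.equivFin.symm m).1
  let ε : Fin r → C := fun m => lft (w m) - q (pre (c (lft (w m))))
  have hcε : ∀ m, c (ε m) = 0 := fun m => by simp only [ε, map_sub, hcq', hpre, sub_self]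
  let L₁ : B₀ × (Fin r → B₀) →ₗ[B₀] C₀ :=
    (Algebra.linearMap B₀ C₀).coprod (Fintype.linearCombination B₀ (fun m => e (ε m)))
  have hL₁ : ∀ (b : B) (v : Fin r → B),
      L₁ (π b, fun m => π (v m)) = e (q b + ∑ m, q (v m) * ε m) := by
    intro b v
    simp only [L₁, LinearMap.coprod_apply, Algebra.linearMap_apply,
      Fintype.linearCombination_apply, Algebra.smul_def, map_add, map_sum, map_mul]
    show ψ (π b) + ∑ m, ψ (π (v m)) * e (ε m) = _
    simp only [hψ']
  have hL₁s : Function.Surjective L₁ := by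
    intro y
    have hy : y ∈ Algebra.adjoin B₀ (S : Set C₀) := hS ▸ Algebra.mem_top
    induction hy using Algebra.adjoin_induction with
    | mem x hx =>
      let m := S.equivFin ⟨x, hx⟩
      have hw : w m = x := by simp [w, m]
      refine ⟨(π (pre (c (lft x))), fun i => π (if i = m then 1 else 0)), ?_⟩
      rw [hL₁, Finset.sum_eq_single m (fun i _ hi => by simp [hi]) (by simp)]
      simp [ε, hw, hlft]
    | algebraMap t => exact ⟨(t, 0), by simp [L₁]⟩
    | add x y _ _ hx hy =>
      obtain ⟨a, rfl⟩ := hx; obtain ⟨b, rfl⟩ := hy; exact ⟨a + b, map_add _ _ _⟩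
    | mul x y _ _ hx hy =>
      obtain ⟨⟨b, v⟩, rfl⟩ := hx; obtain ⟨⟨b', v'⟩, rfl⟩ := hy
      refine ⟨(π (pre b * pre b'), fun m => π (pre b * pre (v' m) + pre b' * pre (v m))), ?_⟩
      have h1 : L₁ (b, v) = e (q (pre b) + ∑ m, q (pre (v m)) * ε m) := by
        rw [← hL₁]; simp only [hpre]
      have h2 : L₁ (b', v') = e (q (pre b') + ∑ m, q (pre (v' m)) * ε m) := by
        rw [← hL₁]; simp only [hpre]
      have h0 : (∑ m, q (pre (v m)) * ε m) * (∑ m, q (pre (v' m)) * ε m) = 0 :=
        hJ _ _ (by simp [hcε]) (by simp [hcε])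
      rw [hL₁, h1, h2, ← map_mul, mul_add, add_mul, add_mul, h0]
      congr 1
      simp only [map_mul, map_add, add_mul, Finset.sum_add_distrib, Finset.mul_sum, Finset.sum_mul,
        add_zero]
      have e1 : ∀ m, q (pre b') * q (pre (v m)) * ε m = q (pre (v m)) * ε m * q (pre b') := fun m => by ring
      simp only [e1, mul_assoc, add_assoc]
      abel
  have hfin : Module.Finite B₀ C₀ := Module.Finite.of_surjective L₁ hL₁s
  haveI : Module.FinitePresentation B₀ C₀ :=
    Module.FinitePresentation.of_finite_of_finitePresentation B₀ C₀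
  obtain ⟨s, kg, hkg⟩ := Submodule.fg_iff_exists_fin_generating_family.mp
    (Module.FinitePresentation.fg_ker L₁ hL₁s)
  let ρ : Fin s → Fin r → B := fun k m => pre ((kg k).2 m)
  have hρ : ∀ k, e (∑ m, q (ρ k m) * ε m) = 0 := by
    intro k
    have hk : L₁ (kg k) = 0 := LinearMap.mem_ker.mp (hkg ▸ Submodule.subset_span ⟨k, rfl⟩)
    have h1 : L₁ (π (pre (kg k).1), fun m => π (ρ k m)) = 0 := by simpa [ρ, hpre] using hk
    rw [hL₁, map_add] at h1
    have h2 := congrArg (fun y => y) h1
    have hb : π (pre (kg k).1) = 0 := by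
      have h3 : c (q (pre (kg k).1) + ∑ m, q (ρ k m) * ε m) = 0 := hec _ (by rw [map_add]; exact h1)
      simpa [hcq', hcε] using h3
    rwa [← hψ', hb, map_zero, zero_add] at h1
  choose z hz hzq using fun k => hker _ (hρ k)
  -- `q` is injective
  have hqinj : ∀ b, q b = 0 → b = 0 := by
    intro b hb
    let A : Ideal B := LinearMap.ker (LinearMap.toSpanSingleton B B b)
    suffices A = ⊤ by
      have h : (1 : B) ∈ A := this ▸ Submodule.mem_top
      simpa [A] using h
    by_contra hA
    obtain ⟨𝔪, h𝔪, hle⟩ := Ideal.exists_le_maximal A hA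
    obtain ⟨g, hg, L, iL, al, φ, hloc', hφ, -⟩ := hloc ⟨𝔪, h𝔪.isPrime⟩
    letI := al.toAlgebra
    haveI := hloc'
    have h0 : algebraMap B L b = 0 := by
      show al b = 0
      rw [← hφ, RingHom.comp_apply, hb, map_zero]
    obtain ⟨⟨_, n, rfl⟩, hn⟩ := (IsLocalization.map_eq_zero_iff (Submonoid.powers g) L b).mp h0
    exact hg (h𝔪.isPrime.mem_of_pow_mem n (hle (by simpa [A] using hn)))
  -- solve the linear system
  let Φ : (Fin r → B) →ₗ[B] (Fin s → B) :=
    { toFun := fun x k => ∑ m, ρ k m * x m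
      map_add' := fun x y => by funext k; simp [mul_add, Finset.sum_add_distrib]
      map_smul' := fun a x => by funext k; simp [Finset.mul_sum, mul_left_comm] }
  let M : Submodule B (Fin s → B) :=
    (Submodule.pi Set.univ (fun _ : Fin r => (RingHom.ker π : Submodule B B))).map Φ
  obtain ⟨x, hxI, hx⟩ : z ∈ M := by
    let A : Ideal B := M.comap (LinearMap.toSpanSingleton B (Fin s → B) z)
    suffices A = ⊤ by
      have h : (1 : B) ∈ A := this ▸ Submodule.mem_top
      simpa [A] using h
    by_contra hA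
    obtain ⟨𝔪, h𝔪, hle⟩ := Ideal.exists_le_maximal A hA
    obtain ⟨g, hg, L, iL, al, φ, hloc', hφ, hφc⟩ := hloc ⟨𝔪, h𝔪.isPrime⟩
    letI := al.toAlgebra
    haveI := hloc'
    have hm : ∀ m, ∃ (i : B) (n : ℕ), π i = 0 ∧ φ (ε m) * al (g ^ n) = al i := by
      intro m
      obtain ⟨⟨⟨i, hi⟩, ⟨_, n, rfl⟩⟩, hin⟩ :=
        (IsLocalization.mem_map_algebraMap_iff (Submonoid.powers g) L).mp (hφc _ (hcε m))
      exact ⟨i, n, hi, hin⟩
    choose i n hi hin using hm
    let N := ∑ m, n m
    let y : Fin r → B := fun m => g ^ (N - n m) * i m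
    have hy : ∀ m, al (y m) = al (g ^ N) * φ (ε m) := fun m => by
      have : g ^ N = g ^ (N - n m) * g ^ n m := by
        rw [← pow_add, Nat.sub_add_cancel (Finset.single_le_sum (f := n) (fun _ _ => Nat.zero_le _)
          (Finset.mem_univ m))]
      rw [this, map_mul, map_mul, ← hin m]; ring
    have hd : ∀ k, ∃ K : ℕ, g ^ K * (Φ y k - g ^ N * z k) = 0 := by
      intro k
      have h0 : algebraMap B L (Φ y k - g ^ N * z k) = 0 := by
        have hzk : al (z k) = ∑ m, al (ρ k m) * φ (ε m) := by
          rw [← hφ]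
          simp only [RingHom.comp_apply, hzq, map_sum, map_mul]
        show al _ = 0
        simp only [Φ, LinearMap.coe_mk, AddHom.coe_mk, map_sub, map_sum, map_mul, hy, hzk,
          Finset.mul_sum]
        rw [sub_eq_zero]
        exact Finset.sum_congr rfl fun m _ => by ring
      obtain ⟨⟨_, K, rfl⟩, hK⟩ := (IsLocalization.map_eq_zero_iff (Submonoid.powers g) L _).mp h0
      exact ⟨K, hK⟩
    choose K hK using hd
    let K' := ∑ k, K k
    refine hg (h𝔪.isPrime.mem_of_pow_mem (K' + N) (hle ?_))
    refine ⟨g ^ K' • y, fun m _ => ?_, ?_⟩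
    · show π (g ^ K' * (g ^ (N - n m) * i m)) = 0
      simp [hi]
    · funext k
      have : g ^ K' * (Φ y k - g ^ N * z k) = 0 := by
        have hKk : K k ≤ K' := Finset.single_le_sum (f := K) (fun _ _ => Nat.zero_le _) (Finset.mem_univ k)
        rw [← Nat.sub_add_cancel hKk, pow_add, mul_assoc, hK, mul_zero]
      rw [mul_sub, sub_eq_zero, ← mul_assoc, ← pow_add] at this
      simpa [smul_eq_mul] using this
  have hx' : ∀ k, ∑ m, ρ k m * x m = z k := fun k => congrFun hx k
  have hxI' : ∀ m, π (x m) = 0 := fun m => hxI m (Set.mem_univ m)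
  -- representatives
  have hrep : ∀ y : C, ∃ (b : B) (v : Fin r → B), y = q b + ∑ m, q (v m) * ε m := by
    intro y
    obtain ⟨⟨b, v⟩, hbv⟩ := hL₁s (e y)
    have h1 : L₁ (b, v) = e (q (pre b) + ∑ m, q (pre (v m)) * ε m) := by
      rw [← hL₁]; simp only [hpre]
    rw [h1] at hbv
    obtain ⟨a, -, haq⟩ := hker (y - (q (pre b) + ∑ m, q (pre (v m)) * ε m))
      (by rw [map_sub, hbv, sub_self])
    exact ⟨pre b + a, fun m => pre (v m), by rw [map_add, haq]; ring⟩
  have hwd : ∀ (b : B) (v : Fin r → B), q b + ∑ m, q (v m) * ε m = 0 → b + ∑ m, v m * x m = 0 := by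
    intro b v h
    have h1 : L₁ (π b, fun m => π (v m)) = 0 := by rw [hL₁, h, map_zero]
    have hb : π b = 0 := by simpa [hcq', hcε] using congrArg c h
    have h2 : (π b, fun m => π (v m)) ∈ Submodule.span B₀ (Set.range kg) :=
      hkg ▸ LinearMap.mem_ker.mpr h1
    obtain ⟨t₀, ht₀⟩ := (Submodule.mem_span_range_iff_exists_fun B₀).mp h2
    let t : Fin s → B := fun k => pre (t₀ k)
    let d : Fin r → B := fun m => v m - ∑ k, t k * ρ k m
    have hd : ∀ m, π (d m) = 0 := fun m => by
      have hm := congrFun (congrArg Prod.snd ht₀) m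
      simp only [d, t, ρ, map_sub, map_sum, map_mul, hpre, sub_eq_zero]
      simpa [Prod.snd_sum, Finset.sum_apply, smul_eq_mul, ρ, t] using hm.symm
    have hde : ∀ m, q (d m) * ε m = 0 := fun m => hJ _ _ (by rw [hcq', hd]) (hcε m)
    have hdx : ∀ m, d m * x m = 0 := fun m => hI _ _ (hd m) (hxI' m)
    have hv : ∀ m, v m = ∑ k, t k * ρ k m + d m := fun m => by simp [d]
    have h3 : q (b + ∑ k, t k * z k) = 0 := by
      rw [← h]
      simp only [map_add, map_sum, map_mul, hv, add_mul, Finset.sum_add_distrib, Finset.sum_mul, hde,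
        Finset.sum_const_zero, add_zero, hzq, Finset.mul_sum]
      rw [Finset.sum_comm]
      simp only [mul_assoc]
    have h4 := hqinj _ h3
    have h5 : ∑ m, v m * x m = ∑ k, t k * z k := by
      simp only [hv, add_mul, Finset.sum_add_distrib, hdx, Finset.sum_const_zero, add_zero,
        Finset.sum_mul, ← hx', Finset.mul_sum]
      rw [Finset.sum_comm]
      simp only [mul_assoc]
    rw [h5, h4]
  choose rb rv hr using hrep
  have hval : ∀ (y : C) (b : B) (v : Fin r → B), y = q b + ∑ m, q (v m) * ε m →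
      rb y + ∑ m, rv y m * x m = b + ∑ m, v m * x m := by
    intro y b v hy
    have := hwd (rb y - b) (fun m => rv y m - v m) (by
      simp only [map_sub, sub_mul, Finset.sum_sub_distrib]
      linear_combination hy - hr y)
    simp only [sub_mul, Finset.sum_sub_distrib] at this
    linear_combination this
  let φ : C →+* B :=
    { toFun := fun y => rb y + ∑ m, rv y m * x m
      map_one' := (hval 1 1 0 (by simp)).trans (by simp)
      map_zero' := (hval 0 0 0 (by simp)).trans (by simp)
      map_add' := fun y y' => by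
        refine (hval _ (rb y + rb y') (rv y + rv y') ?_).trans ?_
        · conv_lhs => rw [hr y, hr y']
          simp only [map_add, Pi.add_apply, add_mul, Finset.sum_add_distrib]
          ring
        · simp only [Pi.add_apply, add_mul, Finset.sum_add_distrib]
          ring
      map_mul' := fun y y' => by
        refine (hval _ (rb y * rb y') (fun m => rb y * rv y' m + rb y' * rv y m) ?_).trans ?_
        · have h0 : (∑ m, q (rv y m) * ε m) * (∑ m, q (rv y' m) * ε m) = 0 :=
            hJ _ _ (by simp [hcε]) (by simp [hcε])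
          conv_lhs => rw [hr y, hr y']
          simp only [map_add, map_mul, add_mul, Finset.sum_add_distrib, mul_assoc, ← Finset.mul_sum]
          linear_combination h0
        · have h0 : (∑ m, rv y m * x m) * (∑ m, rv y' m * x m) = 0 :=
            hI _ _ (by simp [hxI']) (by simp [hxI'])
          simp only [add_mul, Finset.sum_add_distrib, mul_assoc, ← Finset.mul_sum]
          linear_combination (-1 : B) * h0 }
  refine ⟨φ, RingHom.ext fun b => ?_, RingHom.ext fun y => ?_⟩
  · exact (hval (q b) b 0 (by simp)).trans (by simp)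
  · show π (rb y + ∑ m, rv y m * x m) = c y
    conv_rhs => rw [hr y]
    simp [hcq', hcε, hxI']

end Groth.Agent.CommAlg4
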