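import Groth.Prelude.Def_W4c2azumayainvolQEt
import Mathlib

/-! Rank-two skew-hermitian forms near the standard one become standard after a square-root cover. -/

set_option autoImplicit false

open scoped TensorProduct

namespace Groth.Agent.CommAlg4.SqrtCover

/-- The explicit congruence. -/
theorem congr_std {T : Type*} [CommRing T] (Λ : T →+* T) (hinv : ∀ x, Λ (Λ x) = x) (a b dd bi w wi u hf : T)
    (ha : Λ a = -a) (hd : Λ dd = -dd) (hb : bi * b = 1) (hw : w * wi = 1) (hu : (1 + w) * u = 1)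
    (hh : hf * 2 = 1) (hΛw : Λ w = w) (hsq : w * w = 1 + a * (dd * bi * Λ bi)) :
    ∃ v : Matrix (Fin 2) (Fin 2) T, IsUnit v ∧
      (v.map Λ).transpose * !![a, b; -Λ b, dd] * v = !![0, 1; -1, 0] := by
  have hbb : Λ bi * Λ b = 1 := by rw [← map_mul, hb, map_one]
  have hΛwi : Λ wi = wi := by
    calc Λ wi = Λ wi * (w * wi) := by rw [hw, mul_one]
      _ = (Λ wi * Λ w) * wi := by rw [hΛw]; ring
      _ = wi := by rw [← map_mul, mul_comm wi, hw, map_one, one_mul]
  have hΛu : Λ u = u := by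
    calc Λ u = Λ u * ((1 + w) * u) := by rw [hu, mul_one]
      _ = (Λ u * Λ (1 + w)) * u := by rw [map_add, map_one, hΛw]; ring
      _ = u := by rw [← map_mul, mul_comm u, hu, map_one, one_mul]
  have hΛh : Λ hf = hf := by
    calc Λ hf = Λ hf * (hf * 2) := by rw [hh, mul_one]
      _ = (Λ hf * Λ 2) * hf := by rw [map_ofNat]; ring
      _ = hf := by rw [← map_mul, hh, map_one, one_mul]
  set d0 := dd * bi * Λ bi with hd0
  have hΛd0 : Λ d0 = -d0 := by rw [hd0, map_mul, map_mul, hd, hinv]; ring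
  set p := -(a * u) with hp
  have hΛp : Λ p = -p := by rw [hp, map_neg, map_mul, ha, hΛu]; ring
  set μ := d0 * hf * wi with hμ
  have hΛμ : Λ μ = -μ := by rw [hμ, map_mul, map_mul, hΛd0, hΛh, hΛwi]; ring
  -- the two identities
  have hiso : a + 2 * p - p * p * d0 = 0 := by
    rw [hp]
    linear_combination (a * u * u) * hsq + (-(a * (u * w - u + 1))) * hu
  have hbeta : 1 - p * d0 = w := by
    rw [hp]
    linear_combination (-u) * hsq + (w - 1) * hu
  refine ⟨!![1, μ * wi; bi * p, bi * (1 + p * μ) * wi], ?_, ?_⟩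
  · rw [Matrix.isUnit_iff_isUnit_det, Matrix.det_fin_two]
    refine isUnit_iff_exists_inv.mpr ⟨b * w, ?_⟩
    simp only [Matrix.of_apply, Matrix.cons_val', Matrix.cons_val_zero, Matrix.cons_val_one, Matrix.empty_val',
      Matrix.cons_val_fin_one]
    linear_combination (w * wi) * hb + hw
  · ext i j
    fin_cases i <;> fin_cases j <;>
      simp only [Fin.zero_eta, Fin.mk_one, Matrix.mul_apply, Fin.sum_univ_two, Matrix.transpose_apply, Matrix.map_apply,
        Matrix.of_apply, Matrix.cons_val', Matrix.cons_val_zero, Matrix.cons_val_one, Matrix.empty_val',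
        Matrix.cons_val_fin_one, map_one, map_mul, map_add, hΛp, hΛμ, hΛwi]
    · linear_combination (p : T) * hb + (p : T) * hbb + hiso + p * p * hd0
    · linear_combination (wi * μ) * hiso + wi * hbeta + hw + (1 + p * μ) * wi * hb + p * μ * wi * hbb +
        p * (1 + p * μ) * wi * hd0
    · linear_combination (-(wi * μ)) * hiso + (-wi) * hbeta + (-1 : T) * hw + (-(1 + p * μ) * wi) * hbb + (-(p * μ * wi)) * hb +
        (-(p * (1 + p * μ) * wi)) * hd0
    · linear_combination (-(wi * wi * μ * μ)) * hiso + (-(2 * wi * wi * μ)) * hbeta + (-(2 * d0 * hf * wi * wi)) * hw +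
        (-(d0 * wi * wi)) * hh + (-(wi * wi * μ * (1 + p * μ))) * hb + (-(wi * wi * μ * (1 + p * μ))) * hbb +
        (-(wi * wi * (1 + p * μ) * (1 + p * μ))) * hd0 + (-(2 * wi * wi * w)) * hμ

variable {B : Type*} {A : Type*} [CommRing B] [CommRing A] [Algebra B A]

theorem unit_of_fixed (lam : A ≃ₐ[B] A) (hB : RInv.IsFixedRing B A lam.toRingEquiv) {z : A} (hz : IsUnit z)
    (hfix : lam z = z) : ∃ s : Bˣ, algebraMap B A (s : B) = z := by
  obtain ⟨s, rfl⟩ := (hB.2 z).mp hfix
  obtain ⟨zi, hzi⟩ := isUnit_iff_exists_inv.mp hz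
  have hfi : lam zi = zi := by
    calc lam zi = lam zi * (algebraMap B A s * zi) := by rw [hzi, mul_one]
      _ = (lam (algebraMap B A s) * lam zi) * zi := by rw [hfix]; ring
      _ = zi := by rw [← map_mul, hzi, map_one, one_mul]
  obtain ⟨si, rfl⟩ := (hB.2 zi).mp hfi
  rw [← map_mul, ← map_one (algebraMap B A)] at hzi
  exact ⟨(IsUnit.of_mul_eq_one si (hB.1 hzi)).unit, rfl⟩

end Groth.Agent.CommAlg4.SqrtCover
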