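import Mathlib
import Groth.Agent.CommAlg4.FilCxConv
import Groth.Agent.ARLib.GrAux

/-! Subquotients in the lattice of subobjects of an abelian category. -/
set_option autoImplicit false
set_option linter.style.haveILetI false
universe v u
open CategoryTheory CategoryTheory.Limits Groth.Agent.CommAlg4.FilCxConv

namespace Groth.Agent.CommAlg4.SubobjLattice

variable {A : Type u} [Category.{v} A] [Abelian A] {X : A}

instance : IsModularLattice (Subobject X) := Groth.Agent.ARLib.isModularLattice_subobject X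

/-- The subquotient `T / S`. -/
noncomputable abbrev Quot' (S T : Subobject X) (h : S ≤ T) : A := cokernel (Subobject.ofLE S T h)

noncomputable def congr {S S' T T' : Subobject X} (hS : S = S') (hT : T = T') (p : S ≤ T) (p' : S' ≤ T') :
    Quot' S T p ≅ Quot' S' T' p' :=
  eqToIso (by subst hS; subst hT; rfl)

theorem not_isZero_of_lt {S T : Subobject X} (h : S < T) : ¬ IsZero (Quot' S T h.le) := fun hz => by
  have he : Epi (Subobject.ofLE S T h.le) :=
    Abelian.epi_of_cokernel_π_eq_zero _ (hz.eq_of_tgt _ _)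
  haveI := isIso_of_mono_of_epi (Subobject.ofLE S T h.le)
  exact h.not_ge (Subobject.le_of_comm (inv (Subobject.ofLE S T h.le)) (by simp))

theorem simple_iff_covBy {S T : Subobject X} (h : S ≤ T) : Simple (Quot' S T h) ↔ S ⋖ T := by
  constructor
  · intro hs
    refine ⟨lt_of_le_of_ne h fun e => ?_, fun U hSU hUT => ?_⟩
    · subst e
      refine Simple.not_isZero (Quot' S S h) ?_
      rw [IsZero.iff_id_eq_zero, ← cancel_epi (cokernel.π (Subobject.ofLE S S h))]
      simpa [Subobject.ofLE_refl] using cokernel.condition (Subobject.ofLE S S h)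
    · let g := Subobject.ofLE U T hUT.le ≫ cokernel.π (Subobject.ofLE S T h)
      have hg : g ≠ 0 := fun h0 => hSU.not_ge
        (Subobject.le_of_comm (Abelian.monoLift (Subobject.ofLE S T h) _ h0) (by
          rw [← Subobject.ofLE_arrow h, ← Category.assoc, Abelian.monoLift_comp, Subobject.ofLE_arrow]))
      haveI := epi_of_nonzero_to_simple hg
      refine hUT.not_ge (le_of_refine fun V x hx => ?_)
      obtain ⟨t, ht⟩ := (factors_iff' _ _).1 hx
      obtain ⟨V', π, hπ, w, hw⟩ := surjective_up_to_refinements_of_epi g (t ≫ cokernel.π (Subobject.ofLE S T h))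
      have h0 : (π ≫ t - w ≫ Subobject.ofLE U T hUT.le) ≫ cokernel.π (Subobject.ofLE S T h) = 0 := by
        rw [Preadditive.sub_comp, Category.assoc, Category.assoc, hw, sub_self]
      refine ⟨V', π, hπ, (factors_iff' _ _).2
        ⟨w + Abelian.monoLift (Subobject.ofLE S T h) _ h0 ≫ Subobject.ofLE S U hSU.le, ?_⟩⟩
      have h1 := Abelian.monoLift_comp (Subobject.ofLE S T h) _ h0 =≫ T.arrow
      rw [Category.assoc, Subobject.ofLE_arrow, Preadditive.sub_comp, Category.assoc, Category.assoc,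
        Subobject.ofLE_arrow, ht] at h1
      rw [Preadditive.add_comp, Category.assoc, Subobject.ofLE_arrow, h1]
      abel
  · intro hcov
    refine ⟨fun {M} m _ => ⟨fun _ h0 => ?_, fun h0 => ?_⟩⟩
    · subst h0
      exact not_isZero_of_lt hcov.lt ((IsZero.iff_id_eq_zero _).2
        (by rw [← IsIso.inv_hom_id (0 : M ⟶ Quot' S T h), comp_zero]))
    · let p : pullback (cokernel.π (Subobject.ofLE S T h)) m ⟶ (T : A) := pullback.fst _ _
      let U := Subobject.mk (p ≫ T.arrow)
      have hUT : U ≤ T := Subobject.mk_le_of_comm p rfl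
      have hSU : S ≤ U := Subobject.le_mk_of_comm
        (pullback.lift (Subobject.ofLE S T h) 0 (by rw [cokernel.condition, zero_comp]))
        ((pullback.lift_fst_assoc _ _ _ _).trans (Subobject.ofLE_arrow h))
      rcases hcov.eq_or_eq hSU hUT with hU | hU
      · have hle : U ≤ S := hU.le
        have hp : p = Subobject.ofMkLE (p ≫ T.arrow) S hle ≫ Subobject.ofLE S T h := by
          rw [← cancel_mono T.arrow]; simp
        refine absurd ?_ h0
        rw [← cancel_epi (pullback.snd (cokernel.π (Subobject.ofLE S T h)) m), comp_zero,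
          ← pullback.condition, show pullback.fst (cokernel.π (Subobject.ofLE S T h)) m = p from rfl, hp,
          Category.assoc, cokernel.condition, comp_zero]
      · have hle : T ≤ U := hU.ge
        have hp : Subobject.ofLEMk T (p ≫ T.arrow) hle ≫ p = 𝟙 _ := by
          rw [← cancel_mono T.arrow]; simp
        have hfac : (Subobject.ofLEMk T (p ≫ T.arrow) hle ≫ pullback.snd _ _) ≫ m =
            cokernel.π (Subobject.ofLE S T h) := by
          rw [Category.assoc, ← pullback.condition, ← Category.assoc]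
          exact (hp =≫ _).trans (Category.id_comp _)
        haveI : Epi m := epi_of_epi_fac hfac
        exact isIso_of_mono_of_epi m

/-- The second isomorphism theorem. -/
theorem second_iso (x y : Subobject X) :
    Nonempty (Quot' (x ⊓ y) y inf_le_right ≅ Quot' x (x ⊔ y) le_sup_left) := by
  let a := Subobject.ofLE (x ⊓ y) y inf_le_right
  let b := Subobject.ofLE x (x ⊔ y) le_sup_left
  let c := Subobject.ofLE y (x ⊔ y) le_sup_right
  let φ : cokernel a ⟶ cokernel b :=
    cokernel.map a b (Subobject.ofLE (x ⊓ y) x inf_le_left) c (by simp [a, b, c])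
  have hφ : cokernel.π a ≫ φ = c ≫ cokernel.π b := by simp [φ]
  haveI : Epi φ := Preadditive.epi_of_cancel_zero _ fun {Z} g hg => by
    have hb : b ≫ cokernel.π b ≫ g = 0 := by rw [cokernel.condition_assoc, zero_comp]
    have hc : c ≫ cokernel.π b ≫ g = 0 := by rw [← reassoc_of% hφ, hg, comp_zero]
    have hle : x ⊔ y ≤ Subobject.mk (kernel.ι (cokernel.π b ≫ g) ≫ (x ⊔ y).arrow) :=
      sup_le (Subobject.le_mk_of_comm (kernel.lift _ b hb) (by simp [b]))
        (Subobject.le_mk_of_comm (kernel.lift _ c hc) (by simp [c]))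
    have hid : Subobject.ofLEMk _ _ hle ≫ kernel.ι (cokernel.π b ≫ g) = 𝟙 _ := by
      rw [← cancel_mono (x ⊔ y).arrow]; simp
    rw [← cancel_epi (cokernel.π b), comp_zero, ← Category.id_comp (cokernel.π b ≫ g), ← hid, Category.assoc,
      kernel.condition, comp_zero]
  haveI : Mono φ := Preadditive.mono_of_cancel_zero _ fun {T} t ht => by
    obtain ⟨T', π, hπ, s, hs⟩ := surjective_up_to_refinements_of_epi (cokernel.π a) t
    have h0 : (s ≫ c) ≫ cokernel.π b = 0 := by
      rw [Category.assoc, ← hφ, ← Category.assoc, ← hs, Category.assoc, ht, comp_zero]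
    have hx : x.Factors (s ≫ y.arrow) := (factors_iff' _ _).2 ⟨Abelian.monoLift b (s ≫ c) h0, by
      rw [← Subobject.ofLE_arrow (le_sup_left : x ≤ x ⊔ y), ← Category.assoc, Abelian.monoLift_comp,
        Category.assoc, Subobject.ofLE_arrow]⟩
    obtain ⟨v, hv⟩ := (factors_iff' _ _).1 ((Subobject.inf_factors _).2 ⟨hx, Subobject.factors_comp_arrow s⟩)
    have hva : v ≫ a = s := by rw [← cancel_mono y.arrow, Category.assoc, Subobject.ofLE_arrow, hv]
    rw [← cancel_epi π, comp_zero, hs, ← hva, Category.assoc, cokernel.condition, comp_zero]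
  haveI := isIso_of_mono_of_epi φ
  exact ⟨asIso φ⟩

theorem wellFoundedLT_Iic_of_covBy {α : Type*} [Lattice α] [IsModularLattice α] {a b : α} (h : a ⋖ b)
    [WellFoundedLT (Set.Iic a)] : WellFoundedLT (Set.Iic b) := by
  haveI : Finite (Set.Icc a b) := by
    rw [h.Icc_eq]; exact (Set.toFinite {a, b}).to_subtype
  refine StrictMono.wellFoundedLT
    (f := fun z : Set.Iic b =>
      ((⟨z.1 ⊓ a, inf_le_right⟩ : Set.Iic a), (⟨z.1 ⊔ a, le_sup_right, sup_le z.2 h.le⟩ : Set.Icc a b))) ?_
  intro z w hzw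
  rcases Prod.lt_iff.1 (strictMono_inf_prod_sup (z := a) (show z.1 < w.1 from hzw)) with ⟨h1, h2⟩ | ⟨h1, h2⟩
  · exact Prod.lt_iff.2 (Or.inl ⟨h1, h2⟩)
  · exact Prod.lt_iff.2 (Or.inr ⟨h1, h2⟩)

theorem wellFoundedLT_of_covBy_seq {α : Type*} [Lattice α] [BoundedOrder α] [IsModularLattice α] {n : ℕ}
    (F : Fin (n + 1) → α) (h0 : F 0 = ⊥) (hn : F (Fin.last n) = ⊤)
    (hF : ∀ i : Fin n, F i.castSucc ⋖ F i.succ) : WellFoundedLT α := by
  have key : ∀ i : Fin (n + 1), WellFoundedLT (Set.Iic (F i)) := by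
    intro i
    induction i using Fin.induction with
    | zero =>
      haveI : Subsingleton (Set.Iic (F 0)) := ⟨fun p q => Subtype.ext <| by
        have hp : p.1 ≤ ⊥ := h0 ▸ p.2
        have hq : q.1 ≤ ⊥ := h0 ▸ q.2
        rw [le_bot_iff.1 hp, le_bot_iff.1 hq]⟩
      exact Finite.to_wellFoundedLT
    | succ i ih => exact wellFoundedLT_Iic_of_covBy (hF i)
  haveI := key (Fin.last n)
  exact StrictMono.wellFoundedLT (f := fun z : α => (⟨z, le_top.trans_eq hn.symm⟩ : Set.Iic (F (Fin.last n))))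
    fun _ _ h => h

theorem wellFoundedGT_of_covBy_seq {α : Type*} [Lattice α] [BoundedOrder α] [IsModularLattice α] {n : ℕ}
    (F : Fin (n + 1) → α) (h0 : F 0 = ⊥) (hn : F (Fin.last n) = ⊤)
    (hF : ∀ i : Fin n, F i.castSucc ⋖ F i.succ) : WellFoundedGT α := by
  haveI := wellFoundedLT_of_covBy_seq (α := αᵒᵈ) (fun i => OrderDual.toDual (F i.rev))
    (by simp [hn]) (by simp [h0])
    (fun i => by simpa [Fin.rev_succ, Fin.rev_castSucc, toDual_covBy_toDual_iff] using hF i.rev)
  exact (wellFoundedLT_dual_iff α).1 this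

theorem exists_covBy_seq {α : Type*} [PartialOrder α] [BoundedOrder α] [WellFoundedLT α] [WellFoundedGT α] :
    ∃ (n : ℕ) (F : Fin (n + 1) → α), Monotone F ∧ F 0 = ⊥ ∧ F (Fin.last n) = ⊤ ∧
      ∀ i : Fin n, F i.castSucc ⋖ F i.succ := by
  obtain ⟨a, h0, n, hn, hc⟩ := exists_covBy_seq_of_wellFoundedLT_wellFoundedGT α
  refine ⟨n, fun i => a i, Fin.monotone_iff_le_succ.2 fun i => ?_, h0.eq_bot, by simpa using hn.eq_top,
    fun i => hc i i.2⟩
  exact (hc i i.2).le

/-- Jordan–Hölder for covering sequences of subobjects. -/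
theorem jordan_holder {n m : ℕ} (F : Fin (n + 1) → Subobject X) (G : Fin (m + 1) → Subobject X)
    (hb : F 0 = G 0) (ht : F (Fin.last n) = G (Fin.last m))
    (hF : ∀ i : Fin n, F i.castSucc ⋖ F i.succ) (hG : ∀ i : Fin m, G i.castSucc ⋖ G i.succ) :
    ∃ (e : n = m) (σ : Equiv.Perm (Fin m)), ∀ i : Fin n,
      Nonempty (Quot' (F i.castSucc) (F i.succ) (hF i).le ≅
        Quot' (G (σ (Fin.cast e i)).castSucc) (G (σ (Fin.cast e i)).succ) (hG _).le) := by
  let s : CompositionSeries (Subobject X) := ⟨n, F, hF⟩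
  let t : CompositionSeries (Subobject X) := ⟨m, G, hG⟩
  have heq : CompositionSeries.Equivalent s t := CompositionSeries.jordan_holder s t hb ht
  have e : n = m := heq.length_eq
  subst e
  obtain ⟨f, hf⟩ := heq
  refine ⟨rfl, f, fun i => ?_⟩
  let fac : Subobject X × Subobject X → A := fun p => Quot' (p.1 ⊓ p.2) p.2 inf_le_right
  have hrel : ∀ {p q}, JordanHolderLattice.Iso p q → Nonempty (fac p ≅ fac q) := fun {p q} h => by
    refine JordanHolderLattice.Iso.rel (fun p q => Nonempty (fac p ≅ fac q)) ⟨Iso.refl _⟩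
      (fun ⟨e⟩ => ⟨e.symm⟩) (fun ⟨e⟩ ⟨e'⟩ => ⟨e ≪≫ e'⟩) (fun {x y} _ => ?_) h
    obtain ⟨e⟩ := second_iso x y
    exact ⟨congr (by simp) rfl _ le_sup_left ≪≫ e.symm ≪≫ congr (by simp) rfl inf_le_right _⟩
  obtain ⟨ei⟩ := hrel (hf i)
  exact ⟨congr (inf_eq_left.2 (hF i).le).symm rfl (hF i).le inf_le_right ≪≫ ei ≪≫
    congr (inf_eq_left.2 (hG _).le) rfl inf_le_right (hG _).le⟩

end Groth.Agent.CommAlg4.SubobjLattice
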