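import Mathlib

/-!
Invertible modules over `R[X]` are free for a seminormal local ring `R` (Traverso, Swan, Coquand).
-/

set_option autoImplicit false
set_option maxHeartbeats 1000000
set_option linter.unusedSectionVars false
set_option synthInstance.maxHeartbeats 100000

noncomputable section

universe u

namespace Groth.Agent.CommAlg4.Swan

open Polynomial TensorProduct

theorem dual_comm {A M : Type u} [CommRing A] [AddCommGroup M] [Module A M] [Module.Invertible A M]
    (f : Module.Dual A M) (x y : M) : f x • y = f y • x := by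
  have h := congrArg (fun z => TensorProduct.lid A M (LinearMap.rTensor M f z))
    (Module.Invertible.tmul_comm (R := A) (m₁ := x) (m₂ := y))
  simpa using h

/-- The elementary seminormality condition. -/
def SN (A : Type u) [CommRing A] : Prop :=
  ∀ x y : A, x ^ 3 = y ^ 2 → ∃! a : A, x = a ^ 2 ∧ y = a ^ 3

theorem SN.isReduced {A : Type u} [CommRing A] (h : SN A) : IsReduced A := by
  refine (isReduced_iff_pow_one_lt 2 one_lt_two).mpr fun a ha => ?_
  exact (h 0 0 (by simp)).unique ⟨ha.symm, by rw [pow_succ a 2, ha, zero_mul]⟩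
    ⟨by simp, by simp⟩

theorem SN.mem_range {A B : Type u} [CommRing A] [CommRing B] [Algebra A B] [IsReduced B] (h : SN A)
    (hinj : Function.Injective (algebraMap A B)) {x : B} (h2 : x ^ 2 ∈ (algebraMap A B).range)
    (h3 : x ^ 3 ∈ (algebraMap A B).range) : x ∈ (algebraMap A B).range := by
  obtain ⟨p, hp⟩ := h2
  obtain ⟨q, hq⟩ := h3
  obtain ⟨a, ⟨ha2, ha3⟩, -⟩ := h p q (hinj (by rw [map_pow, map_pow, hp, hq]; ring))
  refine ⟨a, ?_⟩
  subst ha2 ha3
  rw [map_pow] at hp hq
  rw [← sub_eq_zero]
  refine IsReduced.eq_zero _ (nilpotent_iff_mem_prime.mpr fun P hP => ?_)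
  rw [← Ideal.Quotient.eq_zero_iff_mem, map_sub, sub_eq_zero]
  have e2 := congrArg (Ideal.Quotient.mk P) hp
  have e3 := congrArg (Ideal.Quotient.mk P) hq
  rw [map_pow, map_pow] at e2 e3
  generalize Ideal.Quotient.mk P (algebraMap A B a) = y at e2 e3 ⊢
  generalize Ideal.Quotient.mk P x = z at e2 e3 ⊢
  have : IsDomain (B ⧸ P) := Ideal.Quotient.isDomain P
  rcases eq_or_ne (z ^ 2) 0 with h0 | h0
  · rw [h0] at e2
    rw [pow_eq_zero_iff two_ne_zero] at e2 h0
    rw [e2, h0]
  · refine mul_left_cancel₀ h0 ?_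
    calc z ^ 2 * y = y ^ 2 * y := by rw [e2]
      _ = z ^ 3 := by rw [← pow_succ, e3]
      _ = z ^ 2 * z := by ring

/-- Two normalised rank one factorisations over a domain agree. -/
theorem factor_unique {K : Type u} [CommRing K] [IsDomain K] {n : Type} [Fintype n] {i₀ : n}
    {a b a' b' : n → K[X]} (h : ∀ i j, a i * b j = a' i * b' j) (h1 : ∑ i, a i * b i = 1)
    (h1' : ∑ i, a' i * b' i = 1) (ha : (a i₀).coeff 0 = 1) (ha' : (a' i₀).coeff 0 = 1) (i : n) :
    a i = a' i := by
  set l := ∑ j, b j * a' j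
  set m := ∑ j, b' j * a j
  have e1 : ∀ k, a' k = a k * l := fun k => by
    calc a' k = a' k * ∑ j, a' j * b' j := by rw [h1', mul_one]
      _ = ∑ j, (a' k * b' j) * a' j := by rw [Finset.mul_sum]; exact Finset.sum_congr rfl fun j _ => by ring
      _ = ∑ j, (a k * b j) * a' j := Finset.sum_congr rfl fun j _ => by rw [h]
      _ = a k * l := by rw [Finset.mul_sum]; exact Finset.sum_congr rfl fun j _ => by ring
  have e2 : ∀ k, a k = a' k * m := fun k => by
    calc a k = a k * ∑ j, a j * b j := by rw [h1, mul_one]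
      _ = ∑ j, (a k * b j) * a j := by rw [Finset.mul_sum]; exact Finset.sum_congr rfl fun j _ => by ring
      _ = ∑ j, (a' k * b' j) * a j := Finset.sum_congr rfl fun j _ => by rw [h]
      _ = a' k * m := by rw [Finset.mul_sum]; exact Finset.sum_congr rfl fun j _ => by ring
  have hne : a i₀ ≠ 0 := fun h0 => by rw [h0, coeff_zero] at ha; exact zero_ne_one ha
  have hlm : l * m = 1 := mul_left_cancel₀ hne (by rw [mul_one, ← mul_assoc, ← e1, ← e2])
  obtain ⟨c, -, hc⟩ := Polynomial.isUnit_iff.mp (IsUnit.of_mul_eq_one _ hlm)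
  have hl : l = 1 := by
    have := congrArg (fun p : K[X] => p.coeff 0) (e1 i₀)
    rw [mul_coeff_zero, ha, ha', one_mul, ← hc, coeff_C_zero] at this
    rw [← hc, ← this, map_one]
  rw [e1 i, hl, mul_one]

/-- Rank one factorisation over a field, normalised, with degree bounds. -/
theorem exists_factor_field {k : Type u} [Field k] {n : Type} [Fintype n]
    (P : n → n → k[X]) (hP : ∀ i j a b, P i j * P a b = P i b * P a j) {i₀ : n}
    (hi₀ : (P i₀ i₀).coeff 0 ≠ 0) (htr : ∑ i, P i i = 1) :
    ∃ a b : n → k[X], (∀ i j, a i * b j = P i j) ∧ (a i₀).coeff 0 = 1 ∧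
      (∀ i, (a i).natDegree ≤ (P i i₀).natDegree) ∧ (∀ j, (b j).natDegree ≤ (P i₀ j).natDegree) := by
  classical
  let I : Ideal k[X] := Ideal.span (Set.range fun i => P i i₀)
  obtain ⟨d, hd⟩ : ∃ d, I = Ideal.span {d} := (IsPrincipalIdealRing.principal I).principal
  have hmem : ∀ i, ∃ c, P i i₀ = d * c := fun i =>
    Ideal.mem_span_singleton.mp (hd ▸ Ideal.subset_span ⟨i, rfl⟩)
  choose c hc using hmem
  obtain ⟨r, hr⟩ := (Submodule.mem_span_range_iff_exists_fun k[X]).mp
    (show d ∈ I from hd ▸ Ideal.mem_span_singleton_self d)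
  have hd0 : d ≠ 0 := fun h0 => hi₀ (by rw [hc i₀, h0, zero_mul, coeff_zero])
  let b : n → k[X] := fun j => ∑ l, r l * P l j
  have hab : ∀ i j, c i * b j = P i j := fun i j => by
    refine mul_left_cancel₀ hd0 ?_
    calc d * (c i * b j) = ∑ l, r l * (P i i₀ * P l j) := by
          rw [← mul_assoc, ← hc, Finset.mul_sum]; exact Finset.sum_congr rfl fun l _ => by ring
      _ = (∑ l, r l • P l i₀) * P i j := by
          rw [Finset.sum_mul]
          refine Finset.sum_congr rfl fun l _ => ?_
          rw [hP i i₀ l j, smul_eq_mul]; ring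
      _ = d * P i j := by rw [hr]
  have hu : (c i₀).coeff 0 ≠ 0 := fun h0 => hi₀ (by rw [← hab, mul_coeff_zero, h0, zero_mul])
  refine ⟨fun i => C ((c i₀).coeff 0)⁻¹ * c i, fun j => C ((c i₀).coeff 0) * b j, fun i j => ?_, ?_,
    fun i => ?_, fun j => ?_⟩
  · rw [← hab i j]
    calc C ((c i₀).coeff 0)⁻¹ * c i * (C ((c i₀).coeff 0) * b j)
        = C (((c i₀).coeff 0)⁻¹ * (c i₀).coeff 0) * (c i * b j) := by rw [map_mul]; ring
      _ = c i * b j := by rw [inv_mul_cancel₀ hu, map_one, one_mul]
  · rw [coeff_C_mul, inv_mul_cancel₀ hu]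
  · refine (natDegree_C_mul_le _ _).trans ?_
    by_cases h0 : c i = 0
    · simp [h0]
    rw [← hab i i₀, natDegree_mul h0 fun hb => hi₀ (by rw [← hab, hb, mul_zero, coeff_zero])]
    exact Nat.le_add_right _ _
  · refine (natDegree_C_mul_le _ _).trans ?_
    by_cases h0 : b j = 0
    · simp [h0]
    rw [← hab i₀ j, natDegree_mul (fun hb => hi₀ (by rw [← hab, hb, zero_mul, coeff_zero])) h0]
    exact Nat.le_add_left _ _

theorem isIntegral_coeff_left {A B : Type u} [CommRing A] [CommRing B] [Algebra A B]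
    {p q : B[X]} (hq : ∀ k, IsIntegral A (q.coeff k)) (hpq : ∀ k, IsIntegral A ((p * q).coeff k))
    {u : A} (hu : IsUnit u) (hq0 : q.coeff 0 = algebraMap A B u) (k : ℕ) :
    IsIntegral A (p.coeff k) := by
  induction k using Nat.strong_induction_on with
  | h k ih =>
    have h := hpq k
    rw [coeff_mul, Finset.Nat.sum_antidiagonal_eq_sum_range_succ_mk, Finset.sum_range_succ,
      Nat.sub_self, hq0] at h
    have hs : IsIntegral A (∑ x ∈ Finset.range k, p.coeff x * q.coeff (k - x)) :=
      IsIntegral.sum _ fun x hx => (ih x (Finset.mem_range.mp hx)).mul (hq _)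
    have h2 := (h.sub hs).mul (isIntegral_algebraMap (R := A) (A := B) (x := ↑hu.unit⁻¹))
    rwa [add_sub_cancel_left, mul_assoc, ← map_mul, IsUnit.mul_val_inv, map_one, mul_one] at h2

/-- Elements of a residue field are fractions. -/
theorem exists_fraction {A : Type u} [CommRing A] (p : Ideal A) [p.IsPrime] (x : p.ResidueField) :
    ∃ r s : A, s ∉ p ∧ algebraMap A p.ResidueField s * x = algebraMap A p.ResidueField r := by
  obtain ⟨⟨r, s⟩, h⟩ := IsLocalization.surj (nonZeroDivisors (A ⧸ p)) x
  obtain ⟨r, rfl⟩ := Ideal.Quotient.mk_surjective r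
  obtain ⟨s', hs'⟩ := Ideal.Quotient.mk_surjective (s : A ⧸ p)
  refine ⟨r, s', fun hmem => ?_, ?_⟩
  · exact nonZeroDivisors.ne_zero s.2 (hs' ▸ Ideal.Quotient.eq_zero_iff_mem.mpr hmem)
  · rw [mul_comm]
    simp only at h
    rw [← hs'] at h
    exact h

theorem exists_map_residueField {A : Type u} [CommRing A] {K : Type u} [Field K] (f : A →+* K)
    (p : Ideal A) [p.IsPrime] (hp : RingHom.ker f = p) :
    ∃ g : p.ResidueField →+* K, g.comp (algebraMap A p.ResidueField) = f := by
  let f' : A ⧸ p →+* K := Ideal.Quotient.lift p f fun a ha => by rwa [← hp, RingHom.mem_ker] at ha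
  have hf' : Function.Injective f' := RingHom.lift_injective_of_ker_le_ideal _ _ hp.le
  refine ⟨IsFractionRing.lift (A := A ⧸ p) (K := p.ResidueField) hf', RingHom.ext fun a => ?_⟩
  rw [RingHom.comp_apply, IsScalarTower.algebraMap_apply A (A ⧸ p) p.ResidueField,
    IsFractionRing.lift_algebraMap]
  rfl

/-- The map to the fraction field of a quotient. -/
def toFrac {C : Type u} [CommRing C] (Q : Ideal C) : C →+* FractionRing (C ⧸ Q) :=
  (algebraMap (C ⧸ Q) (FractionRing (C ⧸ Q))).comp (Ideal.Quotient.mk Q)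

theorem toFrac_eq_iff {C : Type u} [CommRing C] (Q : Ideal C) [Q.IsPrime] {x y : C} :
    toFrac Q x = toFrac Q y ↔ x - y ∈ Q :=
  (IsFractionRing.injective (C ⧸ Q) (FractionRing (C ⧸ Q))).eq_iff.trans Ideal.Quotient.eq

theorem ker_toFrac {C : Type u} [CommRing C] (Q : Ideal C) [Q.IsPrime] :
    RingHom.ker (toFrac Q) = Q := by
  rw [toFrac, RingHom.ker_comp_of_injective _ (IsFractionRing.injective _ _), Ideal.mk_ker]

variable {A : Type u} [CommRing A]

/-- Traverso–Swan. -/
theorem exists_factor_of_seminormal (hA : SN A) {n : Type} [Fintype n] (P : n → n → A[X])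
    (hP : ∀ i j a b, P i j * P a b = P i b * P a j) {i₀ : n}
    (hi₀ : IsUnit ((P i₀ i₀).coeff 0)) (htr : ∑ i, P i i = 1) :
    ∃ a b : n → A[X], ∀ i j, a i * b j = P i j := by
  classical
  have := hA.isReduced
  let B := ∀ p : PrimeSpectrum A, p.asIdeal.ResidueField
  have hinj : Function.Injective (algebraMap A B) := by
    rw [injective_iff_map_eq_zero]
    intro x hx
    refine IsReduced.eq_zero x (nilpotent_iff_mem_prime.mpr fun Q hQ => ?_)
    exact Ideal.algebraMap_residueField_eq_zero.mp (congrFun hx ⟨Q, hQ⟩)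
  have : IsReduced B := inferInstance
  have hfield : ∀ p : PrimeSpectrum A, ∃ a b : n → p.asIdeal.ResidueField[X],
      (∀ i j, a i * b j = (P i j).map (algebraMap A _)) ∧ (a i₀).coeff 0 = 1 ∧
      (∀ i, (a i).natDegree ≤ (P i i₀).natDegree) ∧
      (∀ j, (b j).natDegree ≤ (P i₀ j).natDegree) := by
    intro p
    obtain ⟨a, b, h1, h2, h3, h4⟩ := exists_factor_field
      (fun i j => (P i j).map (algebraMap A p.asIdeal.ResidueField))
      (fun i j a b => by simp only [← Polynomial.map_mul, hP]) (i₀ := i₀)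
      (by rw [coeff_map]; exact (hi₀.map _).ne_zero)
      (by simp only [← Polynomial.map_sum, htr, Polynomial.map_one])
    exact ⟨a, b, h1, h2, fun i => (h3 i).trans (natDegree_map_le ..),
      fun j => (h4 j).trans (natDegree_map_le ..)⟩
  choose af bf hab ha₀ hda hdb using hfield
  obtain ⟨N, hN⟩ : ∃ N, ∀ i j, (P i j).natDegree ≤ N :=
    ⟨Finset.univ.sup fun x : n × n => (P x.1 x.2).natDegree, fun i j =>
      Finset.le_sup (f := fun x : n × n => (P x.1 x.2).natDegree) (Finset.mem_univ (i, j))⟩
  let a : n → B[X] := fun i => ∑ l ∈ Finset.range (N + 1), C (fun p => (af p i).coeff l) * X ^ l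
  let b : n → B[X] := fun i => ∑ l ∈ Finset.range (N + 1), C (fun p => (bf p i).coeff l) * X ^ l
  have hamap : ∀ p i, (a i).map (Pi.evalRingHom _ p) = af p i := fun p i => by
    simp only [a, Polynomial.map_sum, Polynomial.map_mul, Polynomial.map_pow, map_C, map_X,
      Pi.evalRingHom_apply]
    exact (as_sum_range_C_mul_X_pow' (af p i) (Nat.lt_succ_of_le ((hda p i).trans (hN _ _)))).symm
  have hbmap : ∀ p i, (b i).map (Pi.evalRingHom _ p) = bf p i := fun p i => by
    simp only [b, Polynomial.map_sum, Polynomial.map_mul, Polynomial.map_pow, map_C, map_X,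
      Pi.evalRingHom_apply]
    exact (as_sum_range_C_mul_X_pow' (bf p i) (Nat.lt_succ_of_le ((hdb p i).trans (hN _ _)))).symm
  have hmul : ∀ i j, a i * b j = (P i j).map (algebraMap A B) := fun i j => by
    refine Polynomial.ext fun l => funext fun p => ?_
    calc ((a i * b j).coeff l) p = (((a i * b j).map (Pi.evalRingHom _ p))).coeff l := by
          rw [coeff_map]; rfl
      _ = _ := by rw [Polynomial.map_mul, hamap, hbmap, hab, coeff_map, coeff_map]; rfl
  have hsum : ∑ i, a i * b i = 1 := by
    simp only [hmul, ← Polynomial.map_sum, htr, Polynomial.map_one]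
  have ha0 : (a i₀).coeff 0 = 1 := funext fun p => by
    change Pi.evalRingHom (fun p : PrimeSpectrum A => p.asIdeal.ResidueField) p ((a i₀).coeff 0) = 1
    rw [← coeff_map, hamap, ha₀]
  have hb0 : (b i₀).coeff 0 = algebraMap A B ((P i₀ i₀).coeff 0) := by
    have := congrArg (fun q : B[X] => q.coeff 0) (hmul i₀ i₀)
    rwa [mul_coeff_zero, ha0, one_mul, coeff_map] at this
  have hdeg : ∀ (f : n → B[X]) i,
      (∀ p, ((f i).map (Pi.evalRingHom (fun p : PrimeSpectrum A => p.asIdeal.ResidueField) p)).natDegree ≤ N) →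
      (f i).natDegree ≤ N := fun f i h => natDegree_le_iff_coeff_eq_zero.mpr fun l hl => funext fun p => by
    change Pi.evalRingHom (fun p : PrimeSpectrum A => p.asIdeal.ResidueField) p ((f i).coeff l) = 0
    rw [← coeff_map, coeff_eq_zero_of_natDegree_lt ((h p).trans_lt hl)]
  have hadeg : ∀ i, (a i).natDegree ≤ N := fun i => hdeg a i fun p =>
    hamap p i ▸ (hda p i).trans (hN _ _)
  have hbdeg : ∀ i, (b i).natDegree ≤ N := fun i => hdeg b i fun p =>
    hbmap p i ▸ (hdb p i).trans (hN _ _)
  -- the coefficients are integral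
  obtain ⟨u', hu'⟩ := hi₀.exists_left_inv
  let P₀ : A[X] := C u' * (P i₀ i₀).reflect (N + N)
  have hP₀ : P₀.Monic := by
    refine monic_of_natDegree_le_of_coeff_eq_one (N + N) ?_ ?_
    · refine (natDegree_C_mul_le _ _).trans (natDegree_le_iff_coeff_eq_zero.mpr fun l hl => ?_)
      rw [coeff_reflect, show revAt (N + N) l = l by rw [← revAtFun_eq, revAtFun, if_neg (by lia)]]
      exact coeff_eq_zero_of_natDegree_lt ((hN _ _).trans_lt (by lia))
    · rw [coeff_C_mul, coeff_reflect, revAt_le le_rfl, Nat.sub_self, hu']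
  have hq : ((a i₀).reflect N).Monic := by
    refine monic_of_natDegree_le_of_coeff_eq_one N ?_ ?_
    · refine natDegree_le_iff_coeff_eq_zero.mpr fun l hl => ?_
      rw [coeff_reflect, show revAt N l = l by rw [← revAtFun_eq, revAtFun, if_neg (by lia)]]
      exact coeff_eq_zero_of_natDegree_lt ((hadeg i₀).trans_lt hl)
    · rw [coeff_reflect, revAt_le le_rfl, Nat.sub_self, ha0]
  have hdvd : (a i₀).reflect N ∣ P₀.map (algebraMap A B) := by
    rw [Polynomial.map_mul, map_C, ← reflect_map, ← hmul, reflect_mul _ _ (hadeg i₀) (hbdeg i₀)]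
    exact Dvd.intro_left _ (by ring : C (algebraMap A B u') * (b i₀).reflect N * (a i₀).reflect N = _)
  have hai : ∀ l, IsIntegral A ((a i₀).coeff l) := fun l => by
    have h := isIntegral_coeff_of_dvd P₀ _ hP₀ hq hdvd (revAt N l)
    rwa [coeff_reflect, revAt_invol] at h
  have hPint : ∀ i j l, IsIntegral A ((a i * b j).coeff l) := fun i j l => by
    rw [hmul, coeff_map]; exact isIntegral_algebraMap
  have hbi : ∀ j l, IsIntegral A ((b j).coeff l) := fun j l =>
    isIntegral_coeff_left (p := b j) hai (fun k => by rw [mul_comm]; exact hPint i₀ j k) isUnit_one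
      (by rw [ha0, map_one]) l
  have hai' : ∀ i l, IsIntegral A ((a i).coeff l) := fun i l =>
    isIntegral_coeff_left (hbi i₀) (hPint i i₀) hi₀ hb0 l
  let S : Set B := Set.range (fun x : n × Fin (N + 1) => (a x.1).coeff x.2) ∪
    Set.range (fun x : n × Fin (N + 1) => (b x.1).coeff x.2)
  let Cs := Algebra.adjoin A S
  have hfg : (Subalgebra.toSubmodule Cs).FG := fg_adjoin_of_finite
    ((Set.finite_range _).union (Set.finite_range _)) (by
      rintro x (⟨x, rfl⟩ | ⟨x, rfl⟩)
      exacts [hai' _ _, hbi _ _])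
  let J : Ideal Cs :=
    { carrier := {c | ∀ d : Cs, ((c * d : Cs) : B) ∈ (algebraMap A B).range}
      add_mem' := fun {x y} hx hy d => by rw [add_mul, Subalgebra.coe_add]; exact add_mem (hx d) (hy d)
      zero_mem' := fun d => by rw [zero_mul, Subalgebra.coe_zero]; exact zero_mem _
      smul_mem' := fun r x hx d => by rw [smul_eq_mul, mul_comm r x, mul_assoc]; exact hx (r * d) }
  have hJrad : J.IsRadical := by
    rw [Ideal.isRadical_iff_pow_one_lt 2 one_lt_two]
    intro c hc d
    refine hA.mem_range hinj ?_ ?_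
    · rw [← Subalgebra.coe_pow, mul_pow]; exact hc _
    · rw [← Subalgebra.coe_pow, mul_pow, pow_succ c 2, mul_assoc]; exact hc _
  let 𝔣 := J.comap (algebraMap A Cs)
  have hrange : ∀ c ∈ Cs, c ∈ (algebraMap A B).range := by
    by_cases htop : 𝔣 = ⊤
    · intro c hc
      have h1 : (1 : Cs) ∈ J := by
        have := (Ideal.eq_top_iff_one 𝔣).mp htop
        rwa [Ideal.mem_comap, map_one] at this
      simpa using h1 ⟨c, hc⟩
    exfalso
    obtain ⟨p, hp⟩ := Ideal.nonempty_minimalPrimes htop
    have hpp : p.IsPrime := hp.1.1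
    let D : Subalgebra A B :=
      { carrier := {c | ∃ s, s ∉ p ∧ algebraMap A B s * c ∈ (algebraMap A B).range}
        mul_mem' := by
          rintro x y ⟨s, hs, hx⟩ ⟨t, ht, hy⟩
          exact ⟨s * t, fun h => (hpp.mem_or_mem h).elim hs ht, by
            rw [map_mul, mul_mul_mul_comm]; exact mul_mem hx hy⟩
        one_mem' := ⟨1, p.one_notMem, by rw [map_one, one_mul]; exact one_mem _⟩
        add_mem' := by
          rintro x y ⟨s, hs, hx⟩ ⟨t, ht, hy⟩
          refine ⟨s * t, fun h => (hpp.mem_or_mem h).elim hs ht, ?_⟩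
          rw [show algebraMap A B (s * t) * (x + y) = algebraMap A B s * x * algebraMap A B t +
            algebraMap A B s * (algebraMap A B t * y) by rw [map_mul]; ring]
          exact add_mem (mul_mem hx ⟨t, rfl⟩) (mul_mem ⟨s, rfl⟩ hy)
        zero_mem' := ⟨1, p.one_notMem, by rw [mul_zero]; exact zero_mem _⟩
        algebraMap_mem' := fun r => ⟨1, p.one_notMem, by rw [map_one, one_mul]; exact ⟨r, rfl⟩⟩ }
    -- every generator is a fraction at `p`
    have key : ∀ (e : Cs) (r s : A), s ∉ p →
        (∀ (Q : Ideal Cs) [Q.IsPrime], J ≤ Q → Q.comap (algebraMap A Cs) = p →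
          algebraMap A Cs s * e - algebraMap A Cs r ∈ Q) → (e : B) ∈ D := by
      intro e r s hs h
      set x : Cs := algebraMap A Cs s * e - algebraMap A Cs r
      suffices ∃ t, t ∉ p ∧ algebraMap A Cs t * x ∈ J by
        obtain ⟨t, ht, htx⟩ := this
        refine ⟨t * s, fun h => (hpp.mem_or_mem h).elim ht hs, ?_⟩
        have h1 := htx 1
        rw [mul_one, Subalgebra.coe_mul, Subalgebra.coe_algebraMap] at h1
        have h2 : algebraMap A B (t * s) * (e : B) =
            algebraMap A B t * (x : B) + algebraMap A B (t * r) := by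
          rw [show (x : B) = algebraMap A B s * (e : B) - algebraMap A B r from rfl, map_mul, map_mul]
          ring
        rw [h2]
        exact add_mem h1 ⟨_, rfl⟩
      by_contra hne
      push Not at hne
      let M : Submonoid Cs :=
        { carrier := {z | ∃ t, t ∉ p ∧ ∃ m : ℕ, z = algebraMap A Cs t * x ^ m}
          mul_mem' := by
            rintro y z ⟨t, ht, m, rfl⟩ ⟨t', ht', m', rfl⟩
            exact ⟨t * t', fun h => (hpp.mem_or_mem h).elim ht ht', m + m', by rw [map_mul]; ring⟩
          one_mem' := ⟨1, p.one_notMem, 0, by simp⟩ }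
      obtain ⟨Q, hQ, hJQ, hQM⟩ := Ideal.exists_le_prime_disjoint (I := J) M
        (Set.disjoint_left.mpr fun z hzJ hzM => by
          obtain ⟨t, ht, m, rfl⟩ := hzM
          refine hne t ht (hJrad ⟨m + 1, ?_⟩)
          rw [mul_pow, show algebraMap A Cs t ^ (m + 1) * x ^ (m + 1) =
            algebraMap A Cs t * x ^ m * (algebraMap A Cs t ^ m * x) by ring]
          exact J.mul_mem_right _ hzJ)
      have hle : Q.comap (algebraMap A Cs) ≤ p := fun t ht => by
        by_contra htp
        exact Set.disjoint_left.mp hQM ht ⟨t, htp, 0, by simp⟩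
      have hQp : Q.comap (algebraMap A Cs) = p :=
        le_antisymm hle (hp.2 ⟨Ideal.IsPrime.comap _, Ideal.comap_mono hJQ⟩ hle)
      exact Set.disjoint_left.mp hQM (h Q hJQ hQp) ⟨1, p.one_notMem, 1, by simp⟩
    have hgen : ∀ i l, ∀ hl : l < N + 1, (a i).coeff l ∈ D ∧ (b i).coeff l ∈ D := by
      intro i l hl
      have haS : ∀ i l, (a i).coeff l ∈ Cs := fun i l => by
        by_cases h : l < N + 1
        · exact Algebra.subset_adjoin (Or.inl ⟨(i, ⟨l, h⟩), rfl⟩)
        · rw [coeff_eq_zero_of_natDegree_lt ((hadeg i).trans_lt (by lia))]; exact zero_mem _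
      have hbS : ∀ i l, (b i).coeff l ∈ Cs := fun i l => by
        by_cases h : l < N + 1
        · exact Algebra.subset_adjoin (Or.inr ⟨(i, ⟨l, h⟩), rfl⟩)
        · rw [coeff_eq_zero_of_natDegree_lt ((hbdeg i).trans_lt (by lia))]; exact zero_mem _
      have hlift : ∀ f : B[X], (∀ l, f.coeff l ∈ Cs) → ∃ g : Cs[X], g.map Cs.val.toRingHom = f :=
        fun f hf => (lifts_iff_coeff_lifts f).mpr fun l => ⟨⟨_, hf l⟩, rfl⟩
      choose a' ha' using fun i => hlift (a i) (haS i)
      choose b' hb' using fun i => hlift (b i) (hbS i)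
      have hvalinj : Function.Injective Cs.val.toRingHom := Subtype.val_injective
      have hmul' : ∀ i j, a' i * b' j = (P i j).map (algebraMap A Cs) := fun i j =>
        Polynomial.map_injective _ hvalinj (by
          rw [Polynomial.map_mul, ha', hb', hmul, Polynomial.map_map]; rfl)
      have hsum' : ∑ i, a' i * b' i = 1 := by
        simp only [hmul', ← Polynomial.map_sum, htr, Polynomial.map_one]
      have ha0' : (a' i₀).coeff 0 = 1 := hvalinj (by rw [← coeff_map, ha', ha0, map_one])
      let q : PrimeSpectrum A := ⟨p, hpp⟩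
      let afp : n → p.ResidueField[X] := af q
      let bfp : n → p.ResidueField[X] := bf q
      have habp : ∀ i j, afp i * bfp j = (P i j).map (algebraMap A p.ResidueField) := hab q
      have ha₀p : (afp i₀).coeff 0 = 1 := ha₀ q
      have hcoef : ∀ (Q : Ideal Cs) [Q.IsPrime], Q.comap (algebraMap A Cs) = p →
          ∃ g : p.ResidueField →+* FractionRing (Cs ⧸ Q),
            (∀ r : A, g (algebraMap A p.ResidueField r) =
              toFrac Q (algebraMap A Cs r)) ∧
            (∀ l : ℕ, g ((afp i).coeff l) = toFrac Q ((a' i).coeff l)) ∧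
            (∀ l : ℕ, g ((bfp i).coeff l) = toFrac Q ((b' i).coeff l)) := by
        intro Q _ hQ
        let θ : Cs →+* FractionRing (Cs ⧸ Q) := toFrac Q
        obtain ⟨g, hg⟩ := exists_map_residueField (θ.comp (algebraMap A Cs)) p (by
          rw [← RingHom.comap_ker]
          have : RingHom.ker θ = Q := ker_toFrac Q
          rw [this, hQ])
        have hga : ∀ i, (afp i).map g = (a' i).map θ := by
          refine factor_unique (i₀ := i₀) (b := fun j => (bfp j).map g) (b' := fun j => (b' j).map θ)
            (fun i j => ?_) ?_ ?_ ?_ ?_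
          · rw [← Polynomial.map_mul, ← Polynomial.map_mul, habp, hmul', Polynomial.map_map,
              Polynomial.map_map, hg]
          · simp only [← Polynomial.map_mul, habp, Polynomial.map_map]
            rw [← Polynomial.map_sum, htr, Polynomial.map_one]
          · simp only [← Polynomial.map_mul, ← Polynomial.map_sum, hsum', Polynomial.map_one]
          · rw [coeff_map, ha₀p, map_one]
          · rw [coeff_map, ha0', map_one]
        refine ⟨g, fun r => RingHom.congr_fun hg r, fun l => ?_, fun l => ?_⟩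
        · have := congrArg (fun f => coeff f l) (hga i)
          rwa [coeff_map, coeff_map] at this
        · have hne : (a' i₀).map θ ≠ 0 := fun h0 => by
            have := congrArg (fun f => coeff f 0) h0
            rw [coeff_map, ha0', map_one, coeff_zero] at this
            exact (one_ne_zero : (1 : FractionRing (Cs ⧸ Q)) ≠ 0) this
          have hgb : (bfp i).map g = (b' i).map θ := by
            refine mul_left_cancel₀ hne ?_
            conv_lhs => rw [← hga i₀]
            rw [← Polynomial.map_mul, ← Polynomial.map_mul, habp, hmul', Polynomial.map_map,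
              Polynomial.map_map, hg]
          have := congrArg (fun f => coeff f l) hgb
          rwa [coeff_map, coeff_map] at this
      have hfin : ∀ (x : p.ResidueField) (e : Cs),
          (∀ (Q : Ideal Cs) [Q.IsPrime], Q.comap (algebraMap A Cs) = p →
            ∃ g : p.ResidueField →+* FractionRing (Cs ⧸ Q),
              (∀ r : A, g (algebraMap A p.ResidueField r) =
                toFrac Q (algebraMap A Cs r)) ∧
              g x = toFrac Q e) → (e : B) ∈ D := by
        intro x e h
        obtain ⟨r, s, hs, hrs⟩ := exists_fraction p x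
        refine key e r s hs fun Q _ _ hQ => ?_
        obtain ⟨g, hg, hgx⟩ := h Q hQ
        have := congrArg g hrs
        rw [map_mul, hg, hg, hgx, ← map_mul] at this
        exact (toFrac_eq_iff Q).mp this
      constructor
      · have := hfin ((afp i).coeff l) ((a' i).coeff l) fun Q _ hQ => by
          obtain ⟨g, h1, h2, -⟩ := hcoef Q hQ; exact ⟨g, h1, h2 l⟩
        rwa [← ha' i, coeff_map]
      · have := hfin ((bfp i).coeff l) ((b' i).coeff l) fun Q _ hQ => by
          obtain ⟨g, h1, -, h3⟩ := hcoef Q hQ; exact ⟨g, h1, h3 l⟩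
        rwa [← hb' i, coeff_map]
    have hCD : Cs ≤ D := Algebra.adjoin_le (by
      rintro x (⟨x, rfl⟩ | ⟨x, rfl⟩)
      exacts [(hgen _ _ x.2.2).1, (hgen _ _ x.2.2).2])
    obtain ⟨T, hT⟩ := hfg
    choose s hs hsT using fun t : T => (hCD (show (t : B) ∈ Cs from
      (hT ▸ Submodule.subset_span t.2 : (t : B) ∈ Subalgebra.toSubmodule Cs)))
    have hall : ∀ c ∈ Subalgebra.toSubmodule Cs, algebraMap A B (∏ t, s t) * c ∈ (algebraMap A B).range := by
      intro c hc
      rw [← hT] at hc
      induction hc using Submodule.span_induction with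
      | mem c hc =>
        rw [← Finset.mul_prod_erase _ _ (Finset.mem_univ (⟨c, hc⟩ : T)), map_mul, mul_right_comm]
        exact mul_mem (hsT ⟨c, hc⟩) ⟨_, rfl⟩
      | zero => rw [mul_zero]; exact zero_mem _
      | add x y _ _ hx hy => rw [mul_add]; exact add_mem hx hy
      | smul r x _ hx => rw [Algebra.smul_def, mul_left_comm]; exact mul_mem ⟨r, rfl⟩ hx
    have hmem : (∏ t, s t) ∈ 𝔣 := fun d => by
      rw [Subalgebra.coe_mul, Subalgebra.coe_algebraMap]
      exact hall _ d.2
    obtain ⟨t, -, ht⟩ := hpp.prod_mem_iff.mp (hp.1.2 hmem)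
    exact hs t ht
  have hlift : ∀ f : B[X], f.natDegree ≤ N → (∀ l < N + 1, f.coeff l ∈ Cs) →
      ∃ g : A[X], g.map (algebraMap A B) = f := fun f hf h => (lifts_iff_coeff_lifts f).mpr fun l => by
    by_cases hl : l < N + 1
    · exact hrange _ (h l hl)
    · rw [coeff_eq_zero_of_natDegree_lt (hf.trans_lt (by lia))]; exact ⟨0, map_zero _⟩
  choose a'' ha'' using fun i => hlift (a i) (hadeg i) fun l hl =>
    Algebra.subset_adjoin (Or.inl ⟨(i, ⟨l, hl⟩), rfl⟩)
  choose b'' hb'' using fun i => hlift (b i) (hbdeg i) fun l hl =>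
    Algebra.subset_adjoin (Or.inr ⟨(i, ⟨l, hl⟩), rfl⟩)
  exact ⟨a'', b'', fun i j => Polynomial.map_injective _ hinj (by
    rw [Polynomial.map_mul, ha'', hb'', hmul])⟩

/-- Invertible modules over `R[X]` are free for a seminormal local ring `R`. -/
theorem free_of_invertible_polynomial {R : Type u} [CommRing R] [IsLocalRing R] (hR : SN R)
    (M : Type u) [AddCommGroup M] [Module R[X] M] [Module.Invertible R[X] M] :
    Module.Free R[X] M := by
  classical
  obtain ⟨z, hz⟩ := (Module.Invertible.linearEquiv R[X] M).surjective 1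
  obtain ⟨S, rfl⟩ := TensorProduct.exists_finset z
  rw [map_sum] at hz
  let e := S.equivFin.symm
  let f : Fin S.card → Module.Dual R[X] M := fun i => (e i).1.1
  let m : Fin S.card → M := fun i => (e i).1.2
  have hone : ∑ i, f i (m i) = 1 := by
    rw [← hz, ← Finset.sum_coe_sort S]
    exact Equiv.sum_comp e (fun x : S => x.1.1 x.1.2)
  have hx : ∀ x : M, ∑ i, f i x • m i = x := fun x => by
    simp only [fun i => dual_comm (f i) x (m i), ← Finset.sum_smul, hone, one_smul]
  have hP : ∀ i j a b, f i (m j) * f a (m b) = f i (m b) * f a (m j) := fun i j a b => by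
    have h := congrArg (f a) (dual_comm (f i) (m j) (m b))
    simpa using h
  obtain ⟨i₀, hi₀⟩ : ∃ i, IsUnit ((f i (m i)).coeff 0) := by
    by_contra h
    push Not at h
    have h1 : (1 : R) ∈ IsLocalRing.maximalIdeal R := by
      have := congrArg (fun q : R[X] => q.coeff 0) hone
      simp only [finsetSum_coeff, coeff_one_zero] at this
      rw [← this]
      exact Submodule.sum_mem _ fun i _ => h i
    exact (IsLocalRing.maximalIdeal.isMaximal R).ne_top ((Ideal.eq_top_iff_one _).mpr h1)
  obtain ⟨a, b, hab⟩ := exists_factor_of_seminormal hR (fun i j => f i (m j)) hP hi₀ hone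
  let φ : R[X] →ₗ[R[X]] M := LinearMap.toSpanSingleton R[X] M (∑ i, a i • m i)
  have hsurj : Function.Surjective φ := fun x => by
    refine ⟨∑ j, f j x * b j, ?_⟩
    rw [LinearMap.toSpanSingleton_apply, Finset.sum_smul]
    conv_rhs => rw [← hx x]
    refine Finset.sum_congr rfl fun j _ => ?_
    rw [mul_smul]
    congr 1
    conv_rhs => rw [← hx (m j)]
    rw [Finset.smul_sum]
    exact Finset.sum_congr rfl fun i _ => by rw [smul_smul, mul_comm, hab]
  exact Module.Invertible.free_iff_linearEquiv.mpr
    ⟨(LinearEquiv.ofBijective φ (Module.Invertible.bijective_of_surjective hsurj)).symm⟩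

end Groth.Agent.CommAlg4.Swan
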