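import Mathlib.FieldTheory.KummerExtension
import Mathlib.FieldTheory.PolynomialGaloisGroup
import Mathlib.RingTheory.Flat.TorsionFree
import Mathlib.RingTheory.RegularLocalRing.Defs
import Mathlib.RingTheory.RootsOfUnity.AlgebraicallyClosed
import Mathlib.RingTheory.SimpleRing.Principal
import Mathlib.Tactic
import Groth.Agent.HenselLib.Perm

/-!
# Tame totally ramified extensions of henselian DVRs with algebraically closed residue field
-/

set_option linter.all false
set_option autoImplicit false
set_option maxHeartbeats 800000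

universe u

noncomputable section

namespace Groth.Agent.CommAlg4.TameKummer

open Polynomial IntermediateField IsLocalRing

variable {O : Type u} [CommRing O] [IsDomain O] [IsDiscreteValuationRing O] [HenselianLocalRing O]
  [IsAlgClosed (ResidueField O)]

theorem exists_pow_eq_unit {e : ℕ} (he : 0 < e) (hek : (e : ResidueField O) ≠ 0) (u : Oˣ) :
    ∃ w : Oˣ, (w : O) ^ e = u := by
  have := Groth.Agent.HenselLib.henselianRing_maximalIdeal O
  obtain ⟨w0, hw0⟩ := IsAlgClosed.exists_pow_nat_eq (residue O u) he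
  obtain ⟨a0, rfl⟩ := residue_surjective w0
  have ha0 : residue O a0 ≠ 0 := fun h => by
    rw [h, zero_pow he.ne'] at hw0
    exact (residue_ne_zero_iff_isUnit (u : O)).mpr u.isUnit hw0.symm
  obtain ⟨a, ha, haa⟩ := Groth.Agent.HenselLib.exists_root (maximalIdeal O) (X ^ e - C (u : O)) a0
    (Ideal.Quotient.eq_zero_iff_mem.mp (by
      show residue O _ = 0
      simp [hw0]))
    (by
      show IsUnit (residue O _)
      rw [derivative_sub, derivative_X_pow, derivative_C, sub_zero, eval_mul, eval_C, eval_pow, eval_X,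
        map_mul, map_natCast, map_pow]
      exact IsUnit.mk0 _ (mul_ne_zero hek (pow_ne_zero _ ha0)))
  have hae : a ^ e = u := by simpa [sub_eq_zero] using ha
  have hu : IsUnit a := (isUnit_pow_iff he.ne').mp (hae ▸ u.isUnit)
  exact ⟨hu.unit, hae⟩

theorem exists_primitiveRoot {e : ℕ} (he : 0 < e) (hek : (e : ResidueField O) ≠ 0) :
    ∃ ζ : FractionRing O, IsPrimitiveRoot ζ e := by
  have := Groth.Agent.HenselLib.henselianRing_maximalIdeal O
  have : NeZero (e : ResidueField O) := ⟨hek⟩
  obtain ⟨ζ0, hζ0⟩ := HasEnoughRootsOfUnity.exists_primitiveRoot (ResidueField O) e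
  obtain ⟨a0, rfl⟩ := residue_surjective ζ0
  have ha0 : residue O a0 ≠ 0 := hζ0.ne_zero he.ne'
  obtain ⟨a, ha, haa⟩ := Groth.Agent.HenselLib.exists_root (maximalIdeal O) (X ^ e - C 1) a0
    (Ideal.Quotient.eq_zero_iff_mem.mp (by
      show residue O _ = 0
      simp [hζ0.pow_eq_one]))
    (by
      show IsUnit (residue O _)
      rw [derivative_sub, derivative_X_pow, derivative_C, sub_zero, eval_mul, eval_C, eval_pow, eval_X,
        map_mul, map_natCast, map_pow]
      exact IsUnit.mk0 _ (mul_ne_zero hek (pow_ne_zero _ ha0)))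
  have hae : a ^ e = 1 := by simpa [sub_eq_zero] using ha
  have hres : residue O a = residue O a0 := Ideal.Quotient.eq.mpr haa
  have hprim : IsPrimitiveRoot a e := ⟨hae, fun l hl => hζ0.dvd_of_pow_eq_one l (by
    rw [← hres, ← map_pow, hl, map_one])⟩
  exact ⟨algebraMap O (FractionRing O) a, hprim.map_of_injective (IsFractionRing.injective O _)⟩

omit [HenselianLocalRing O] [IsAlgClosed (ResidueField O)] in
theorem irreducible_X_pow_sub {e : ℕ} (he : 0 < e) {ϖ : O} (hϖ : Irreducible ϖ) :
    Irreducible (X ^ e - C (algebraMap O (FractionRing O) ϖ) : (FractionRing O)[X]) := by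
  have hm : (X ^ e - C ϖ : O[X]).Monic := monic_X_pow_sub_C ϖ he.ne'
  have hmax : maximalIdeal O = Ideal.span {ϖ} := hϖ.maximalIdeal_eq
  have hne : (maximalIdeal O) ≠ ⊤ := (maximalIdeal.isMaximal O).ne_top
  have hd : (X ^ e - C ϖ : O[X]).natDegree = e := natDegree_X_pow_sub_C
  have hE : (X ^ e - C ϖ : O[X]).IsEisensteinAt (maximalIdeal O) := by
    refine hm.isEisensteinAt_of_mem_of_notMem hne (fun {n} hn => ?_) ?_
    · rw [hd] at hn
      rw [coeff_sub, coeff_X_pow, if_neg hn.ne, zero_sub, coeff_C]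
      split_ifs
      · exact (maximalIdeal O).neg_mem (hmax ▸ Ideal.mem_span_singleton_self ϖ)
      · simp
    · rw [coeff_sub, coeff_X_pow, if_neg he.ne, zero_sub, coeff_C_zero, neg_mem_iff, hmax,
        Ideal.span_singleton_pow, Ideal.mem_span_singleton]
      intro h
      obtain ⟨c, hc⟩ := h
      exact hϖ.not_isUnit (IsUnit.of_mul_eq_one c (mul_left_cancel₀ hϖ.ne_zero
        (by rw [mul_one, ← mul_assoc, ← pow_two]; exact hc.symm)))
  have h2 := hE.irreducible (maximalIdeal.isMaximal O).isPrime hm.isPrimitive (by omega)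
  have h3 := (Monic.irreducible_iff_irreducible_map_fraction_map (K := FractionRing O) hm).mp h2
  simpa using h3

variable {e : ℕ} (he : 0 < e) (hek : (e : ResidueField O) ≠ 0) {ϖ : O} (hϖ : Irreducible ϖ)
  (α : AlgebraicClosure (FractionRing O))
  (hα : α ^ e = algebraMap O (AlgebraicClosure (FractionRing O)) ϖ)

local notation "K" => FractionRing O
local notation "Ω" => AlgebraicClosure (FractionRing O)

omit [HenselianLocalRing O] [IsAlgClosed (ResidueField O)] in
include he hϖ hα in
theorem finrank_adjoin : Module.finrank K K⟮α⟯ = e := by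
  have h0 : Polynomial.aeval α (X ^ e - C (algebraMap O K ϖ) : K[X]) = 0 := by
    simp [hα, ← IsScalarTower.algebraMap_apply]
  have hmin := minpoly.eq_of_irreducible_of_monic (irreducible_X_pow_sub he hϖ) h0
    (monic_X_pow_sub_C _ he.ne')
  rw [IntermediateField.adjoin.finrank (Algebra.IsIntegral.isIntegral α), ← hmin, natDegree_X_pow_sub_C]

include he hek hϖ hα in
/-- two `e`-th roots of `ϖ` generate the same field -/
theorem mem_adjoin_of_pow_eq {x : Ω} (hx : x ^ e = algebraMap O Ω ϖ) : x ∈ K⟮α⟯ := by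
  obtain ⟨ζ, hζ⟩ := exists_primitiveRoot he hek (O := O)
  have hα0 : α ≠ 0 := fun h => by
    rw [h, zero_pow he.ne', eq_comm, IsScalarTower.algebraMap_apply O K Ω, map_eq_zero,
      IsFractionRing.to_map_eq_zero_iff] at hα
    exact hϖ.ne_zero hα
  have h1 : (x / α) ^ e = 1 := by rw [div_pow, hx, hα, div_self]; rw [← hα]; exact pow_ne_zero _ hα0
  have : NeZero e := ⟨he.ne'⟩
  obtain ⟨i, -, hi⟩ := (hζ.map_of_injective (algebraMap K Ω).injective).eq_pow_of_pow_eq_one h1
  rw [eq_div_iff hα0] at hi
  rw [← hi, ← map_pow]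
  exact K⟮α⟯.mul_mem (K⟮α⟯.algebraMap_mem _) (mem_adjoin_simple_self K α)

omit [IsAlgClosed (ResidueField O)] [HenselianLocalRing O] in
theorem roots_adjoin_le {E : IntermediateField K Ω} (g : K[X]) (h : ∀ x : Ω, x ∈ g.rootSet Ω → x ∈ E) :
    IntermediateField.adjoin K (g.rootSet Ω) ≤ E :=
  IntermediateField.adjoin_le_iff.mpr h

include he hek hϖ hα in
theorem main_of_adjoin_rootSet (g : K[X]) (hg : IntermediateField.adjoin K (g.rootSet Ω) = K⟮α⟯) :
    Module.finrank K g.SplittingField = e ∧ IsCyclic g.Gal := by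
  have : IsSplittingField K (IntermediateField.adjoin K (g.rootSet Ω)) g :=
    adjoin_rootSet_isSplittingField (IsAlgClosed.splits _)
  let φ : g.SplittingField ≃ₐ[K] K⟮α⟯ :=
    (IsSplittingField.algEquiv (IntermediateField.adjoin K (g.rootSet Ω)) g).symm.trans
      (IntermediateField.equivOfEq hg)
  refine ⟨φ.toLinearEquiv.finrank_eq.trans (finrank_adjoin he hϖ α hα), ?_⟩
  let P : K[X] := X ^ e - C (algebraMap O K ϖ)
  have hP : IntermediateField.adjoin K (P.rootSet Ω) = K⟮α⟯ := by
    refine le_antisymm (roots_adjoin_le P fun x hx => ?_) (adjoin_simple_le_iff.mpr ?_)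
    · refine mem_adjoin_of_pow_eq he hek hϖ α hα ?_
      rw [mem_rootSet] at hx
      simpa [P, sub_eq_zero, ← IsScalarTower.algebraMap_apply] using hx.2
    · refine subset_adjoin K _ ?_
      rw [mem_rootSet]
      exact ⟨(monic_X_pow_sub_C _ he.ne').ne_zero, by simp [P, hα, ← IsScalarTower.algebraMap_apply]⟩
  have : IsSplittingField K (IntermediateField.adjoin K (P.rootSet Ω)) P :=
    adjoin_rootSet_isSplittingField (IsAlgClosed.splits _)
  have : NeZero e := ⟨he.ne'⟩
  obtain ⟨ζ, hζ⟩ := exists_primitiveRoot he hek (O := O)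
  have hc : IsCyclic Gal((IntermediateField.adjoin K (P.rootSet Ω))/K) :=
    isCyclic_of_isSplittingField_X_pow_sub_C ⟨ζ, (mem_primitiveRoots he).mpr hζ⟩
      (irreducible_X_pow_sub he hϖ) _
  let ψ := φ.trans (IntermediateField.equivOfEq hP.symm)
  exact isCyclic_of_surjective (AlgEquiv.autCongr ψ).symm (AlgEquiv.autCongr ψ).symm.surjective

include he hek hϖ hα in
/-- a root of a degree `e` Eisenstein polynomial lies in `K(α)` -/
theorem eisenstein_root_mem {f : O[X]} (hmon : f.Monic) (hdeg : f.natDegree = e)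
    (hf : f.IsEisensteinAt (maximalIdeal O)) {x : Ω} (hx : Polynomial.aeval x f = 0) :
    K⟮x⟯ = K⟮α⟯ := by
  have hmax : maximalIdeal O = Ideal.span {ϖ} := hϖ.maximalIdeal_eq
  have hmin : Module.finrank K K⟮x⟯ = e := by
    have h2 := hf.irreducible (maximalIdeal.isMaximal O).isPrime hmon.isPrimitive (by omega)
    have h3 : Irreducible (f.map (algebraMap O K)) :=
      (Monic.irreducible_iff_irreducible_map_fraction_map hmon).mp h2
    have h0 : Polynomial.aeval x (f.map (algebraMap O K)) = 0 := by rw [aeval_map_algebraMap]; exact hx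
    rw [IntermediateField.adjoin.finrank (Algebra.IsIntegral.isIntegral x),
      ← minpoly.eq_of_irreducible_of_monic h3 h0 (hmon.map _), hmon.natDegree_map, hdeg]
  let E := K⟮x⟯
  let B := integralClosure O E
  have : IsScalarTower O E Ω := IsScalarTower.of_algebraMap_eq fun r => by
    rw [IsScalarTower.algebraMap_apply O K Ω, IsScalarTower.algebraMap_apply O K E]; rfl
  let xE : E := AdjoinSimple.gen K x
  have hxE : Polynomial.aeval xE f = 0 := by
    apply Subtype.val_injective
    show ((Polynomial.aeval xE f : E) : Ω) = ((0 : E) : Ω)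
    rw [ZeroMemClass.coe_zero, ← hx, show x = (IsScalarTower.toAlgHom O E Ω) xE from rfl,
      aeval_algHom_apply]
    rfl
  let π : B := ⟨xE, ⟨f, hmon, hxE⟩⟩
  have hdiv : ∀ i : Fin e, ∃ c, f.coeff i = ϖ * c := fun i =>
    Ideal.mem_span_singleton.mp (hmax ▸ hf.mem (hdeg.symm ▸ i.2))
  choose c hc using hdiv
  have hsum : π ^ e = algebraMap O B ϖ * (-(∑ i : Fin e, algebraMap O B (c i) * π ^ (i : ℕ))) := by
    have h1 : Polynomial.aeval π f = 0 := by
      apply Subtype.val_injective
      rw [show ((Polynomial.aeval π f : B) : E) = Polynomial.aeval xE f from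
        (aeval_algHom_apply B.val π f).symm, hxE]
      rfl
    rw [aeval_eq_sum_range, hdeg, Finset.sum_range_succ, ← hdeg, hmon.coeff_natDegree, hdeg, one_smul,
      Finset.sum_range] at h1
    rw [eq_neg_of_add_eq_zero_right h1, mul_neg, Finset.mul_sum]
    congr 1
    refine Finset.sum_congr rfl fun i _ => ?_
    rw [hc, Algebra.smul_def, map_mul, mul_assoc]
  set u : B := -(∑ i : Fin e, algebraMap O B (c i) * π ^ (i : ℕ))
  have := Groth.Agent.HenselLib.henselianRing_maximalIdeal O
  have := Groth.Agent.HenselLib.henselianRing_of_isIntegral (maximalIdeal O) B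
  let J := ((maximalIdeal O).map (algebraMap O B)).radical
  have hJ : HenselianRing B J := Groth.Agent.HenselLib.henselianRing_radical _
  have hπJ : π ∈ J := ⟨e, by
    rw [hsum]; exact Ideal.mul_mem_right _ _ (Ideal.mem_map_of_mem _ (hmax ▸ Ideal.mem_span_singleton_self ϖ))⟩
  have hc0 : IsUnit (c ⟨0, he⟩) := by
    by_contra h
    apply hf.notMem
    rw [show f.coeff 0 = ϖ * c ⟨0, he⟩ from hc ⟨0, he⟩, hmax, pow_two]
    exact Ideal.mul_mem_mul (Ideal.mem_span_singleton_self ϖ) (hmax ▸ h)
  obtain ⟨w0, hw0⟩ := exists_pow_eq_unit he hek (-hc0.unit)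
  have hu : u - algebraMap O B (w0 : O) ^ e ∈ J := by
    obtain ⟨e', rfl⟩ : ∃ e', e = e' + 1 := ⟨e - 1, by omega⟩
    rw [← map_pow, hw0, Units.val_neg, IsUnit.unit_spec, map_neg]
    simp only [u, Fin.sum_univ_succ, Fin.val_zero, pow_zero, mul_one]
    rw [show (⟨0, he⟩ : Fin (e' + 1)) = 0 from rfl]
    ring_nf
    refine J.neg_mem (Submodule.sum_mem _ fun i _ => ?_)
    rw [Fin.val_succ, pow_succ]
    exact Ideal.mul_mem_left _ _ (Ideal.mul_mem_left _ _ hπJ)
  have heO : IsUnit ((e : ℕ) : O) := (residue_ne_zero_iff_isUnit _).mp (by rwa [map_natCast])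
  obtain ⟨w, hw, hww⟩ := Groth.Agent.HenselLib.exists_root J (X ^ e - C u) (algebraMap O B (w0 : O))
    (by simpa using neg_mem hu)
    (by
      rw [derivative_sub, derivative_X_pow, derivative_C, sub_zero, eval_mul, eval_C, eval_pow, eval_X]
      refine IsUnit.map _ (IsUnit.mul ?_ ((w0.isUnit.map (algebraMap O B)).pow _))
      simpa using heO.map (algebraMap O B))
  have hwe : w ^ e = u := by simpa [sub_eq_zero] using hw
  have hwu : IsUnit w := by
    refine Groth.Agent.HenselLib.isUnit_of_isUnit_mk hJ.jac ?_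
    rw [Ideal.Quotient.eq.mpr hww]
    exact (w0.isUnit.map _).map _
  let β : Ω := (((π : E) / (w : E)) : E)
  have hwE : (w : E) ≠ 0 := fun h => hwu.ne_zero (Subtype.val_injective h)
  have hβ : β ^ e = algebraMap O Ω ϖ := by
    have h1 : ((π : E) / (w : E)) ^ e = algebraMap O E ϖ := by
      rw [div_pow, div_eq_iff (pow_ne_zero _ hwE)]
      have := congrArg Subtype.val hsum
      rw [← hwe] at this
      simpa using this
    have := congrArg (fun z : E => (z : Ω)) h1
    rw [IsScalarTower.algebraMap_apply O E Ω]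
    simpa [β] using this
  have hle : K⟮β⟯ ≤ E := adjoin_simple_le_iff.mpr (((π : E) / (w : E)).2)
  have : FiniteDimensional K E := IntermediateField.adjoin.finiteDimensional (Algebra.IsIntegral.isIntegral x)
  have heq : K⟮β⟯ = E :=
    IntermediateField.eq_of_le_of_finrank_eq hle ((finrank_adjoin he hϖ β hβ).trans hmin.symm)
  rw [show K⟮x⟯ = K⟮β⟯ from heq.symm]
  have : FiniteDimensional K K⟮α⟯ := IntermediateField.adjoin.finiteDimensional (Algebra.IsIntegral.isIntegral α)
  exact IntermediateField.eq_of_le_of_finrank_eq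
    (adjoin_simple_le_iff.mpr (mem_adjoin_of_pow_eq he hek hϖ α hα hβ))
    ((finrank_adjoin he hϖ β hβ).trans (finrank_adjoin he hϖ α hα).symm)

end Groth.Agent.CommAlg4.TameKummer
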