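import Groth.Agent.CommAlg4.TautLow
import Mathlib

open MvPolynomial W4c3tautjacobian
open scoped Classical
open Groth.Agent.CommAlg4.TautSl2 Groth.Agent.CommAlg4.TautLow

namespace Groth.Agent.CommAlg4.TautGen

variable {g : ℕ}

/-- kill `y`, negate every `x` -/
noncomputable def T (g : ℕ) : RelRing g →ₐ[ℚ] RelRing g :=
  aeval fun v => match v with
    | none => 0
    | some p => -X (some p)

lemma T_none : T g (X none) = 0 := by simp [T]
lemma T_some (p) : T g (X (some p)) = -X (some p) := by simp [T]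

lemma T_xv (i j : ℤ) (h : ¬ (i = 0 ∧ j = 0)) : T g (xv g i j) = -xv g i j := by
  unfold xv
  rw [if_neg h]
  split_ifs
  · rw [T_some]
  · simp

lemma T_pderiv (p : {p : ℕ × ℕ // Valid g p}) (P : RelRing g) :
    T g (pderiv (some p) P) = -pderiv (some p) (T g P) := by
  induction P using MvPolynomial.induction_on with
  | C a => simp [T]
  | add P Q hP hQ => simp [hP, hQ]; ring
  | mul_X P v ih =>
    rw [pderiv_mul, map_add, map_mul, map_mul, map_mul, ih, pderiv_mul]
    rcases v with _ | q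
    · simp [T_none, pderiv_X_of_ne]
    · rw [T_some]
      by_cases h : p = q
      · subst h; simp [pderiv_X_self]; ring
      · simp [pderiv_X_of_ne (fun e => h (Option.some_injective _ e).symm)]

lemma T_dv (p : ℕ × ℕ) (P : RelRing g) : T g (dv g p P) = -dv g p (T g P) := by
  unfold dv
  split_ifs
  · exact T_pderiv _ P
  · simp

/-- nonnegative coefficients and no `x 2 0` -/
def PosV (Q : RelRing g) : Prop :=
  ∀ m : Var g →₀ ℕ, 0 ≤ coeff m Q ∧
    ∀ h : Valid g (2, 0), m (some ⟨(2, 0), h⟩) ≠ 0 → coeff m Q = 0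

lemma posV_zero : PosV (0 : RelRing g) := fun m => by simp

lemma PosV.add {P Q : RelRing g} (hP : PosV P) (hQ : PosV Q) : PosV (P + Q) := fun m =>
  ⟨by rw [coeff_add]; exact add_nonneg (hP m).1 (hQ m).1,
    fun h hne => by rw [coeff_add, (hP m).2 h hne, (hQ m).2 h hne, add_zero]⟩

lemma PosV.sum {ι : Type*} {s : Finset ι} {f : ι → RelRing g} (h : ∀ i ∈ s, PosV (f i)) :
    PosV (∑ i ∈ s, f i) :=
  Finset.sum_induction f PosV (fun _ _ => PosV.add) posV_zero h

lemma PosV.mul {P Q : RelRing g} (hP : PosV P) (hQ : PosV Q) : PosV (P * Q) := fun m => by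
  rw [coeff_mul]
  refine ⟨Finset.sum_nonneg fun x _ => mul_nonneg (hP _).1 (hQ _).1, fun h hne => ?_⟩
  refine Finset.sum_eq_zero fun x hx => ?_
  have he : x.1 + x.2 = m := by simpa using hx
  rcases Nat.eq_zero_or_pos (x.1 (some ⟨(2, 0), h⟩)) with h1 | h1
  · rw [(hQ x.2).2 h (by rw [← he, Finsupp.add_apply] at hne; omega), mul_zero]
  · rw [(hP x.1).2 h (by omega), zero_mul]

lemma posV_C {a : ℚ} (ha : 0 ≤ a) : PosV (C a : RelRing g) := fun m => by
  rw [coeff_C]
  split_ifs with h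
  · subst h; exact ⟨ha, fun _ hne => by simp at hne⟩
  · simp

lemma posV_nat (n : ℕ) : PosV (n : RelRing g) := by
  rw [show (n : RelRing g) = C (n : ℚ) by simp]; exact posV_C (Nat.cast_nonneg n)

lemma PosV.smul {P : RelRing g} (hP : PosV P) {a : ℚ} (ha : 0 ≤ a) : PosV (a • P) := by
  rw [smul_eq_C_mul]; exact (posV_C ha).mul hP

lemma PosV.pderiv {P : RelRing g} (hP : PosV P) (v : Var g) : PosV (pderiv v P) := fun m => by
  rw [coeff_pderiv]
  refine ⟨mul_nonneg (hP _).1 (by positivity), fun h hne => ?_⟩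
  rw [(hP _).2 h (by rw [Finsupp.add_apply]; omega), zero_mul]

lemma PosV.dv {P : RelRing g} (hP : PosV P) (p : ℕ × ℕ) : PosV (dv g p P) := by
  unfold W4c3tautjacobian.dv
  split_ifs
  · exact hP.pderiv _
  · exact posV_zero

lemma PosV.dv20 {P : RelRing g} (hP : PosV P) : W4c3tautjacobian.dv g (2, 0) P = 0 := by
  unfold W4c3tautjacobian.dv
  split_ifs with h
  · ext m
    rw [coeff_pderiv, (hP _).2 h (by simp), zero_mul, coeff_zero]
  · rfl

lemma eq20_of_valid {p : ℕ × ℕ} (hp : Valid g p) (h : p.2 = 0) : p = (2, 0) := by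
  obtain ⟨h1, h2, ⟨k, h3⟩, h4⟩ := hp
  obtain ⟨a, b⟩ := p
  simp only at h h1 h3
  subst h
  rcases Nat.eq_zero_or_pos a with rfl | ha
  · exact absurd rfl h4
  · exact Prod.ext (show a = 2 by omega) rfl

lemma PosV.dv_snd_zero {P : RelRing g} (hP : PosV P) {p : ℕ × ℕ} (h : p.2 = 0) :
    W4c3tautjacobian.dv g p P = 0 := by
  by_cases hp : Valid g p
  · rw [eq20_of_valid hp h]; exact hP.dv20
  · simp [W4c3tautjacobian.dv, hp]

lemma posV_xv (i j : ℤ) (h : j ≠ 0 ∨ i ≠ 2) : PosV (xv g i j) := by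
  unfold xv
  split_ifs with h1 h2
  · exact posV_nat g
  · intro m
    rw [coeff_X']
    split_ifs with hm
    · refine ⟨zero_le_one, fun h' hne => ?_⟩
      subst hm
      rw [Finsupp.single_apply] at hne
      split_ifs at hne with e
      · exfalso
        have := congrArg (Option.map Subtype.val) e
        simp only [Option.map_some, Option.some.injEq, Prod.mk.injEq] at this
        omega
      · exact absurd rfl hne
    · simp
  · exact posV_zero

/-- the merging summand -/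
noncomputable def mterm (g : ℕ) (Q : RelRing g) (p q : ℕ × ℕ) : RelRing g :=
  (mergeCoeff p.1 q.1 : RelRing g) * xv g ((p.1 : ℤ) + q.1 - 2) ((p.2 : ℤ) + q.2) * dv g p (dv g q Q)

/-- the shifting summand -/
noncomputable def sterm (g : ℕ) (Q : RelRing g) (p : ℕ × ℕ) : RelRing g :=
  xv g ((p.1 : ℤ) - 2) (p.2 : ℤ) * dv g p Q

/-- the positive operator -/
noncomputable def G (g : ℕ) (Q : RelRing g) : RelRing g :=
  (1 / 2 : ℚ) • (∑ p ∈ idx g, ∑ q ∈ idx g, mterm g Q p q) + ∑ p ∈ idx g, sterm g Q p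

lemma posV_mterm {Q : RelRing g} (hQ : PosV Q) (p q : ℕ × ℕ) : PosV (mterm g Q p q) := by
  unfold mterm
  by_cases h : p.2 = 0
  · rw [(hQ.dv q).dv_snd_zero h, mul_zero]; exact posV_zero
  · exact ((posV_nat _).mul (posV_xv _ _ (Or.inl (by omega)))).mul ((hQ.dv q).dv p)

lemma posV_sterm {Q : RelRing g} (hQ : PosV Q) (p : ℕ × ℕ) : PosV (sterm g Q p) := by
  unfold sterm
  by_cases h : p.2 = 0
  · rw [hQ.dv_snd_zero h, mul_zero]; exact posV_zero
  · exact (posV_xv _ _ (Or.inl (by omega))).mul (hQ.dv p)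

lemma PosV.G {Q : RelRing g} (hQ : PosV Q) : PosV (G g Q) :=
  ((PosV.sum fun p _ => PosV.sum fun q _ => posV_mterm hQ p q).smul (by norm_num)).add
    (PosV.sum fun p _ => posV_sterm hQ p)

lemma dv_neg (p : ℕ × ℕ) (P : RelRing g) : dv g p (-P) = -dv g p P := by
  unfold W4c3tautjacobian.dv; split_ifs <;> simp

lemma T_F {P : RelRing g} (hP : PosV (T g P)) : T g (F g P) = G g (T g P) := by
  simp only [F, G, map_add, map_smul, map_sum, map_mul, map_sub, map_natCast, T_none, zero_mul, zero_sub]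
  congr 1
  · congr 1
    refine Finset.sum_congr rfl fun p _ => Finset.sum_congr rfl fun q _ => ?_
    simp only [T_dv, dv_neg, neg_neg, mterm]
    by_cases h : p.2 = 0
    · rw [(hP.dv q).dv_snd_zero h]
      simp
    · rw [T_xv _ _ (by omega)]
      ring
  · refine Finset.sum_congr rfl fun p _ => ?_
    simp only [T_dv, sterm]
    by_cases h : p.2 = 0
    · rw [hP.dv_snd_zero h]; simp
    · rw [T_xv _ _ (by omega)]; ring

lemma mem_idx {p : ℕ × ℕ} (hp : Valid g p) : p ∈ idx g := by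
  obtain ⟨h1, h2, _, _⟩ := hp
  simp only [idx, Finset.mem_product, Finset.mem_range]; omega

lemma xv_valid {p : ℕ × ℕ} (hp : Valid g p) : xv g (p.1 : ℤ) (p.2 : ℤ) = X (some ⟨p, hp⟩) := by
  unfold xv
  rw [if_neg (by
    rintro ⟨a, b⟩; exact hp.2.2.2 (Prod.ext (by exact_mod_cast a) (by exact_mod_cast b))),
    dif_pos ⟨Int.natCast_nonneg _, Int.natCast_nonneg _, by simpa using hp⟩]
  congr 1

lemma step_merge {Q : RelRing g} (hQ : PosV Q) {p q s : ℕ × ℕ} (hp : Valid g p) (hq : Valid g q)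
    (hs : Valid g s) (h1 : (s.1 : ℤ) = p.1 + q.1 - 2) (h2 : s.2 = p.2 + q.2)
    (hc : mergeCoeff p.1 q.1 ≠ 0) (r : Var g →₀ ℕ)
    (hpos : 0 < coeff (r + Finsupp.single (some ⟨p, hp⟩) 1 + Finsupp.single (some ⟨q, hq⟩) 1) Q) :
    0 < coeff (Finsupp.single (some ⟨s, hs⟩) 1 + r) (G g Q) := by
  unfold G
  rw [coeff_add, coeff_smul, coeff_sum, coeff_sum, smul_eq_mul]
  have hm : 0 < coeff (Finsupp.single (some ⟨s, hs⟩) 1 + r) (mterm g Q p q) := by
    unfold mterm
    rw [show (p.1 : ℤ) + q.1 - 2 = (s.1 : ℤ) from h1.symm,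
      show (p.2 : ℤ) + q.2 = (s.2 : ℤ) by rw [h2]; push_cast; rfl, xv_valid hs]
    rw [show ((mergeCoeff p.1 q.1 : ℕ) : RelRing g) = C (mergeCoeff p.1 q.1 : ℚ) by simp, mul_assoc,
      coeff_C_mul, coeff_X_mul]
    simp only [W4c3tautjacobian.dv, dif_pos hp, dif_pos hq, coeff_pderiv]
    have : (0 : ℚ) < mergeCoeff p.1 q.1 := by exact_mod_cast Nat.pos_of_ne_zero hc
    positivity
  refine add_pos_of_pos_of_nonneg (mul_pos (by norm_num) ?_)
    (Finset.sum_nonneg fun x _ => (posV_sterm hQ x _).1)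
  refine lt_of_lt_of_le hm (le_trans ?_ (Finset.single_le_sum (f := fun x => coeff _ (∑ y ∈ idx g, mterm g Q x y))
    (fun x _ => ((PosV.sum fun y _ => posV_mterm hQ x y) _).1) (mem_idx hp)))
  simp only [coeff_sum]
  exact Finset.single_le_sum (f := fun y => coeff _ (mterm g Q p y))
    (fun y _ => (posV_mterm hQ p y _).1) (mem_idx hq)

lemma step_shift {Q : RelRing g} (hQ : PosV Q) {p s : ℕ × ℕ} (hp : Valid g p) (hs : Valid g s)
    (h1 : (s.1 : ℤ) = p.1 - 2) (h2 : s.2 = p.2) (r : Var g →₀ ℕ)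
    (hpos : 0 < coeff (r + Finsupp.single (some ⟨p, hp⟩) 1) Q) :
    0 < coeff (Finsupp.single (some ⟨s, hs⟩) 1 + r) (G g Q) := by
  unfold G
  rw [coeff_add, coeff_smul, coeff_sum, coeff_sum, smul_eq_mul]
  have hm : 0 < coeff (Finsupp.single (some ⟨s, hs⟩) 1 + r) (sterm g Q p) := by
    unfold sterm
    rw [show (p.1 : ℤ) - 2 = (s.1 : ℤ) from h1.symm,
      show (p.2 : ℤ) = (s.2 : ℤ) by rw [h2], xv_valid hs, coeff_X_mul]
    simp only [W4c3tautjacobian.dv, dif_pos hp, coeff_pderiv]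
    positivity
  refine add_pos_of_nonneg_of_pos (mul_nonneg (by norm_num) (Finset.sum_nonneg fun x _ =>
    ((PosV.sum fun y _ => posV_mterm hQ x y) _).1)) ?_
  exact lt_of_lt_of_le hm (Finset.single_le_sum (f := fun x => coeff _ (sterm g Q x))
    (fun x _ => (posV_sterm hQ x _).1) (mem_idx hp))

lemma T_iter (n : ℕ) {P : RelRing g} (hP : PosV (T g P)) :
    T g ((F g)^[n] P) = (G g)^[n] (T g P) ∧ PosV ((G g)^[n] (T g P)) := by
  induction n with
  | zero => exact ⟨rfl, hP⟩
  | succ n ih =>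
    simp only [Function.iterate_succ', Function.comp_apply]
    exact ⟨by rw [T_F (ih.1.symm ▸ ih.2), ih.1], ih.2.G⟩

lemma valid_a {k i : ℕ} (hk : k + 1 ≤ 2 * i) (hi2 : 2 * i + 2 ≤ 2 * g) : Valid g (k + 3, k + 1) :=
  ⟨le_refl _, by show k + 1 + 2 ≤ 2 * g; omega, ⟨k + 2, by show k + 3 + (k + 1) = _; omega⟩,
    fun h => by simp at h⟩

lemma valid_b {t i : ℕ} (hi : 1 ≤ i) (hi2 : 2 * i + 2 ≤ 2 * g) :
    Valid g (2 * i + 2 - 2 * t, 2 * i) :=
  ⟨by show 2 * i + 2 - 2 * t ≤ 2 * i + 2; omega, hi2,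
    ⟨i + (i + 1 - t), by show 2 * i + 2 - 2 * t + 2 * i = _; omega⟩, fun h => by simp at h; omega⟩

lemma coeff_lead {i : ℕ} (hi : 1 ≤ i) (hi2 : 2 * i + 2 ≤ 2 * g) :
    0 < coeff (Finsupp.single (some ⟨(2 * i + 2 - 2 * (i + 1), 2 * i), valid_b hi hi2⟩) 1)
      (T g ((F g)^[3 * i] (monomial
        (Finsupp.single (some ⟨(0 + 3, 0 + 1), valid_a (by omega) hi2⟩) (2 * i)) (1 : ℚ)))) := by
  set w : Var g := some ⟨(0 + 3, 0 + 1), valid_a (by omega) hi2⟩ with hw
  set Q : RelRing g := monomial (Finsupp.single w (2 * i)) (1 : ℚ) with hQd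
  have hTQ : T g Q = Q := by
    rw [hQd, ← X_pow_eq_monomial, map_pow, hw, T_some, Even.neg_pow ⟨i, by ring⟩]
  have hQ : PosV Q := fun m => by
    rw [hQd, coeff_monomial]
    split_ifs with h
    · refine ⟨zero_le_one, fun hv hne => ?_⟩
      subst h
      rw [Finsupp.single_apply] at hne
      split_ifs at hne with e
      · exfalso
        rw [hw] at e
        have := congrArg (Option.map Subtype.val) e
        simp at this
      · exact absurd rfl hne
    · simp
  have hP : PosV (T g Q) := by rw [hTQ]; exact hQ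
  rw [(T_iter _ hP).1, hTQ]
  have hpos : ∀ n, PosV ((G g)^[n] Q) := fun n => by
    have := (T_iter n hP).2
    rwa [hTQ] at this
  have phaseA : ∀ k, ∀ hk : k + 1 ≤ 2 * i,
      0 < coeff (Finsupp.single (some ⟨(k + 3, k + 1), valid_a hk hi2⟩) 1
        + Finsupp.single w (2 * i - 1 - k)) ((G g)^[k] Q) := by
    intro k
    induction k with
    | zero =>
      intro hk
      rw [Function.iterate_zero_apply, hQd, ← hw, ← Finsupp.single_add, coeff_monomial,
        if_pos (by congr 1; omega)]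
      exact zero_lt_one
    | succ k ih =>
      intro hk
      rw [Function.iterate_succ', Function.comp_apply]
      refine step_merge (hpos k) (p := (k + 3, k + 1)) (q := (0 + 3, 0 + 1)) (valid_a (by omega) hi2)
        (valid_a (by omega) hi2) (valid_a hk hi2) ?_ ?_ ?_ _ ?_
      · push_cast; ring
      · show k + 1 + 1 = k + 1 + (0 + 1); omega
      · show mergeCoeff (k + 3) (0 + 3) ≠ 0
        rw [mergeCoeff, if_neg (by omega)]
        exact (Nat.choose_pos (by omega)).ne'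
      · have := ih (by omega)
        convert this using 2
        rw [← hw, show 2 * i - 1 - k = (2 * i - 1 - (k + 1)) + 1 by omega, Finsupp.single_add]
        abel
  have phaseB : ∀ t, t ≤ i + 1 →
      0 < coeff (Finsupp.single (some ⟨(2 * i + 2 - 2 * t, 2 * i), valid_b hi hi2⟩) 1)
        ((G g)^[2 * i - 1 + t] Q) := by
    intro t
    induction t with
    | zero =>
      intro _
      have := phaseA (2 * i - 1) (by omega)
      rw [show 2 * i - 1 - (2 * i - 1) = 0 by omega, Finsupp.single_zero, add_zero] at this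
      have e : (⟨(2 * i + 2 - 2 * 0, 2 * i), valid_b hi hi2⟩ : {p : ℕ × ℕ // Valid g p})
          = ⟨(2 * i - 1 + 3, 2 * i - 1 + 1), valid_a (by omega) hi2⟩ :=
        Subtype.ext (Prod.ext (by show 2 * i + 2 - 2 * 0 = 2 * i - 1 + 3; omega)
          (by show 2 * i = 2 * i - 1 + 1; omega))
      rw [e]
      simpa using this
    | succ t ih =>
      intro ht
      rw [← add_assoc, Function.iterate_succ', Function.comp_apply]
      have := step_shift (hpos (2 * i - 1 + t)) (p := (2 * i + 2 - 2 * t, 2 * i))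
        (s := (2 * i + 2 - 2 * (t + 1), 2 * i)) (valid_b hi hi2) (valid_b hi hi2)
        (by show ((2 * i + 2 - 2 * (t + 1) : ℕ) : ℤ) = ((2 * i + 2 - 2 * t : ℕ) : ℤ) - 2; omega) rfl 0
        (by rw [zero_add]; exact ih (by omega))
      rwa [add_zero] at this
  have := phaseB (i + 1) le_rfl
  rwa [show 2 * i - 1 + (i + 1) = 3 * i by omega] at this

/-- the variables `y` and `x 0 (2j)` with `j < i` -/
def S (g i : ℕ) : Set (Var g) :=
  {v | v = none ∨ ∃ (j : ℕ) (h : Valid g (0, 2 * j)), j < i ∧ v = some ⟨(0, 2 * j), h⟩}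

lemma decompose {i : ℕ} (hi : 1 ≤ i) (hv : Valid g (0, 2 * i)) {P : RelRing g}
    (hP : IsWeightedHomogeneous (wt g) P ((0, 2 * i) : ℕ × ℕ)) :
    P - C (coeff (Finsupp.single (some ⟨(0, 2 * i), hv⟩) 1) P) * X (some ⟨(0, 2 * i), hv⟩)
      ∈ supported ℚ (S g i) := by
  set v : Var g := some ⟨(0, 2 * i), hv⟩ with hvd
  rw [mem_supported]
  intro x hx
  obtain ⟨m, hm, hxm⟩ := (mem_vars_iff_mem_support _).mp (Finset.mem_coe.mp hx)
  rw [mem_support_iff, coeff_sub, coeff_C_mul, coeff_X'] at hm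
  have hmv : Finsupp.single v 1 ≠ m := by
    rintro rfl; exact hm (by simp)
  have hne : coeff m P ≠ 0 := by
    intro h; rw [h, if_neg hmv] at hm; exact hm (by ring)
  have hw := hP hne
  rw [Finsupp.mem_support_iff] at hxm
  set r := m.erase x with hr
  have hdec : m = Finsupp.single x (m x) + r := (Finsupp.single_add_erase x m).symm
  have hwd : Finsupp.weight (wt g) m = (m x) • wt g x + Finsupp.weight (wt g) r := by
    conv_lhs => rw [hdec]
    rw [map_add, Finsupp.weight_apply, Finsupp.sum_single_index (by simp)]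
  rw [hwd] at hw
  have h1 := congrArg Prod.fst hw
  have h2 := congrArg Prod.snd hw
  simp only [Prod.fst_add, Prod.snd_add, Prod.smul_fst, Prod.smul_snd, smul_eq_mul] at h1 h2
  rcases x with _ | ⟨⟨a, b⟩, hab⟩
  · exact Or.inl rfl
  right
  simp only [wt] at h1 h2
  set c := m (some ⟨(a, b), hab⟩) with hc
  have hc1 : 1 ≤ c := Nat.pos_of_ne_zero hxm
  have ha : a = 0 := by
    have : c * a = 0 := by omega
    rcases Nat.mul_eq_zero.mp this with h | h <;> omega
  subst ha
  obtain ⟨k, hk⟩ := hab.2.2.1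
  simp only at hk
  have hbk : b = 2 * k := by omega
  subst hbk
  refine ⟨k, hab, ?_, rfl⟩
  by_contra hlt
  have h3 : 2 * k ≤ c * (2 * k) := Nat.le_mul_of_pos_left _ hc1
  have hki : k = i := by omega
  subst hki
  have hc2 : c = 1 := by
    by_contra h
    have : 2 * (2 * k) ≤ c * (2 * k) := Nat.mul_le_mul_right _ (by omega)
    omega
  rw [hc2] at h1 h2
  have hr2 : (Finsupp.weight (wt g) r).1 = 0 ∧ (Finsupp.weight (wt g) r).2 = 0 := ⟨by omega, by omega⟩
  have hr0 : r = 0 := by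
    ext y
    simp only [Finsupp.coe_zero, Pi.zero_apply]
    by_contra hy
    have e1 := hr2.1
    have e2 := hr2.2
    rw [Finsupp.weight_apply, Finsupp.sum, Prod.fst_sum] at e1
    rw [Finsupp.weight_apply, Finsupp.sum, Prod.snd_sum] at e2
    have f1 := Finset.sum_eq_zero_iff.mp e1 y (Finsupp.mem_support_iff.mpr hy)
    have f2 := Finset.sum_eq_zero_iff.mp e2 y (Finsupp.mem_support_iff.mpr hy)
    simp only [Prod.smul_fst, Prod.smul_snd, smul_eq_mul, Nat.mul_eq_zero, hy, false_or] at f1 f2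
    rcases y with _ | ⟨⟨a', b'⟩, hy'⟩
    · simp [wt] at f2
    · exact hy'.2.2.2 (Prod.ext f1 f2)
  apply hmv
  rw [hdec, hr0, add_zero, hc2]

lemma T_supported (i : ℕ) {R : RelRing g} (hR : R ∈ supported ℚ (S g i)) :
    T g R ∈ supported ℚ (S g i) := by
  have h : supported ℚ (S g i) ≤ (supported ℚ (S g i)).comap (T g) := by
    rw [supported_eq_adjoin_X]
    refine Algebra.adjoin_le ?_
    rintro _ ⟨v, hv, rfl⟩
    rw [SetLike.mem_coe, Subalgebra.mem_comap]
    rcases v with _ | q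
    · rw [T_none]; exact Subalgebra.zero_mem _
    · rw [T_some]; exact Subalgebra.neg_mem _ (Algebra.subset_adjoin ⟨_, hv, rfl⟩)
  exact h hR

lemma lead_ne_zero {i : ℕ} (hi : 1 ≤ i) (hv : Valid g (0, 2 * i)) :
    ∃ P : RelRing g, IsWeightedHomogeneous (wt g) P ((0, 2 * i) : ℕ × ℕ) ∧
      (g < 3 * i → P ∈ relIdeal g) ∧
      coeff (Finsupp.single (some ⟨(0, 2 * i), hv⟩) 1) P ≠ 0 := by
  have hi2 : 2 * i + 2 ≤ 2 * g := hv.2.1
  set w : Var g := some ⟨(0 + 3, 0 + 1), valid_a (by omega) hi2⟩ with hw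
  have hQ : IsWeightedHomogeneous (wt g) (monomial (Finsupp.single w (2 * i)) (1 : ℚ))
      ((6 * i, 2 * i) : ℕ × ℕ) := by
    refine isWeightedHomogeneous_monomial _ _ _ ?_
    rw [Finsupp.weight_apply, Finsupp.sum_single_index (by simp)]
    simp [hw, wt]; ring
  set P := (F g)^[3 * i] (monomial (Finsupp.single w (2 * i)) (1 : ℚ)) with hPd
  have hP : IsWeightedHomogeneous (wt g) P ((0, 2 * i) : ℕ × ℕ) := by
    intro m hm
    have e1 := hom_iter (hom_of_wt hQ) (3 * i) hm
    have e2 : Hom2 g ((2 * i : ℕ) : ℤ) P := by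
      refine hom2_iter ?_ _
      intro x hx
      rw [weight_w2, hQ hx]
    have e2' := e2 hm
    rw [weight_w1] at e1
    rw [weight_w2] at e2'
    push_cast at e1 e2'
    exact Prod.ext (by simp only; omega) (by simp only; omega)
  refine ⟨P, hP, fun hlt => Ideal.subset_span ⟨Finsupp.single w (2 * i), 3 * i, ?_, rfl⟩, ?_⟩
  · rw [Finsupp.weight_apply, Finsupp.sum_single_index (by simp)]
    simp [hw, wt]; omega
  intro hzero
  have hR := T_supported i (decompose hi hv hP)
  rw [hzero, C_0, zero_mul, sub_zero] at hR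
  have hpos := coeff_lead hi hi2
  have e : (⟨(2 * i + 2 - 2 * (i + 1), 2 * i), valid_b hi hi2⟩ : {p : ℕ × ℕ // Valid g p})
      = ⟨(0, 2 * i), hv⟩ :=
    Subtype.ext (Prod.ext (by show 2 * i + 2 - 2 * (i + 1) = 0; omega) rfl)
  rw [e, ← hw, ← hPd] at hpos
  have hmem : (some ⟨(0, 2 * i), hv⟩ : Var g) ∈ S g i := by
    refine mem_supported.mp hR (Finset.mem_coe.mpr ((mem_vars_iff_mem_support _).mpr ⟨_, mem_support_iff.mpr hpos.ne', ?_⟩))
    simp
  rcases hmem with h | ⟨j, hj, hlt, h⟩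
  · exact Option.some_ne_none _ h
  · simp at h; omega

/-- elements congruent to the subalgebra of low generators -/
noncomputable def B (g : ℕ) : Subalgebra ℚ (RelRing g) :=
  ((Algebra.adjoin ℚ (lowGens g)).map (Ideal.Quotient.mkₐ ℚ (relIdeal g))).comap
    (Ideal.Quotient.mkₐ ℚ (relIdeal g))

lemma subset_B {P : RelRing g} (h : P ∈ Algebra.adjoin ℚ (lowGens g)) : P ∈ B g :=
  ⟨P, h, rfl⟩

lemma xv_mem_B (i : ℕ) : xv g 0 (2 * (i : ℤ)) ∈ B g := by
  induction i using Nat.strong_induction_on with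
  | _ i ih =>
    rcases Nat.eq_zero_or_pos i with rfl | hi
    · have : xv g 0 (2 * ((0 : ℕ) : ℤ)) = (g : RelRing g) := by
        unfold xv; rw [if_pos ⟨rfl, by norm_num⟩]
      rw [this]; exact Subalgebra.natCast_mem _ g
    by_cases hlow : 3 * i ≤ g
    · exact subset_B (Algebra.subset_adjoin (Or.inr ⟨i, hi, hlow, by push_cast; rfl⟩))
    by_cases hv : Valid g (0, 2 * i)
    swap
    · have : xv g 0 (2 * (i : ℤ)) = 0 := by
        unfold xv
        rw [if_neg (by omega), dif_neg]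
        rintro ⟨-, -, h⟩
        rw [show ((0 : ℤ).toNat, (2 * (i : ℤ)).toNat) = (0, 2 * i) from Prod.ext rfl (by simp only; omega)] at h
        exact hv h
      rw [this]; exact Subalgebra.zero_mem _
    have hX : ∀ (j : ℕ) (h : Valid g (0, 2 * j)), xv g 0 (2 * (j : ℤ)) = X (some ⟨(0, 2 * j), h⟩) := by
      intro j h
      have := xv_valid h
      push_cast at this
      exact this
    obtain ⟨P, hPh, hPI, hc⟩ := lead_ne_zero hi hv
    have hsup : supported ℚ (S g i) ≤ B g := by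
      rw [supported_eq_adjoin_X]
      refine Algebra.adjoin_le ?_
      rintro _ ⟨v, hv', rfl⟩
      rcases hv' with rfl | ⟨j, hj, hlt, rfl⟩
      · exact subset_B (Algebra.subset_adjoin (Or.inl rfl))
      · rw [← hX j hj]; exact ih j hlt
    have hPB : P ∈ B g := ⟨0, Subalgebra.zero_mem _, by
      show Ideal.Quotient.mkₐ ℚ (relIdeal g) 0 = Ideal.Quotient.mkₐ ℚ (relIdeal g) P
      rw [map_zero, eq_comm]
      exact Ideal.Quotient.eq_zero_iff_mem.mpr (hPI (by omega))⟩
    set c := coeff (Finsupp.single (some ⟨(0, 2 * i), hv⟩) 1) P with hcd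
    have h1 := Subalgebra.sub_mem _ hPB (hsup (decompose hi hv hPh))
    rw [sub_sub_cancel] at h1
    have h2 := Subalgebra.smul_mem _ h1 c⁻¹
    rw [← smul_eq_C_mul, smul_smul, inv_mul_cancel₀ hc, one_smul] at h2
    rw [hX i hv]; exact h2

theorem main (i : ℕ) :
    ∃ q ∈ Algebra.adjoin ℚ (lowGens g), xv g 0 (2 * (i : ℤ)) - q ∈ relIdeal g := by
  obtain ⟨q, hq, he⟩ := xv_mem_B (g := g) i
  refine ⟨q, hq, ?_⟩
  have : Ideal.Quotient.mk (relIdeal g) q = Ideal.Quotient.mk (relIdeal g) (xv g 0 (2 * (i : ℤ))) := he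
  exact Ideal.Quotient.eq.mp this.symm

end Groth.Agent.CommAlg4.TautGen
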