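import Groth.Agent.CommAlg4.TautSl2
import Mathlib

open MvPolynomial W4c3tautjacobian
open scoped Classical
open Groth.Agent.CommAlg4.TautSl2

namespace Groth.Agent.CommAlg4.TautLow

variable (g : ℕ)

/-- second degree, in the integers -/
def w2 : Var g → ℤ := fun v => ((wt g v).2 : ℤ)

def Hom2 (d : ℤ) (P : RelRing g) : Prop := IsWeightedHomogeneous (w2 g) P d

variable {g}

lemma weight_w2 (m : Var g →₀ ℕ) : Finsupp.weight (w2 g) m = ((Finsupp.weight (wt g) m).2 : ℤ) := by
  induction m using Finsupp.induction_linear with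
  | zero => simp
  | add a b ha hb => simp [map_add, ha, hb]
  | single v k => simp [Finsupp.weight, Finsupp.linearCombination_single, w2]

lemma Hom2.of_eq {P : RelRing g} {a b : ℤ} (h : Hom2 g a P) (e : a = b) : Hom2 g b P := e ▸ h

lemma hom2_xv (i j : ℤ) : Hom2 g j (xv g i j) := by
  unfold xv
  split_ifs with h1 h2
  · rw [h1.2]
    have : ((g : ℕ) : RelRing g) = C (g : ℚ) := by simp
    rw [this]; exact isWeightedHomogeneous_C _ _
  · have := isWeightedHomogeneous_X ℚ (w2 g) (some ⟨(i.toNat, j.toNat), h2.2.2⟩)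
    have h3 : w2 g (some ⟨(i.toNat, j.toNat), h2.2.2⟩) = j := by
      show ((j.toNat : ℕ) : ℤ) = j; omega
    rwa [h3] at this
  · exact isWeightedHomogeneous_zero _ _ _

lemma hom2_dv {P : RelRing g} {d : ℤ} (p : ℕ × ℕ) (h : Hom2 g d P) : Hom2 g (d - p.2) (dv g p P) := by
  unfold dv
  split_ifs with hp
  · exact IsWeightedHomogeneous.pderiv h (by show d - p.2 + ((wt g (some ⟨p, hp⟩)).2 : ℤ) = d; simp [wt])
  · exact isWeightedHomogeneous_zero _ _ _

lemma hom2_F {P : RelRing g} {d : ℤ} (h : Hom2 g d P) : Hom2 g d (F g P) := by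
  unfold F
  refine IsWeightedHomogeneous.add ?_ ?_
  · rw [smul_eq_C_mul]
    refine IsWeightedHomogeneous.C_mul ?_ _
    refine IsWeightedHomogeneous.sum _ _ _ fun p _ => ?_
    refine IsWeightedHomogeneous.sum _ _ _ fun q _ => ?_
    rw [sub_mul]
    refine IsWeightedHomogeneous.sub ?_ ?_
    · have := (((isWeightedHomogeneous_X ℚ (w2 g) none).mul (hom2_xv ((p.1 : ℤ) - 1) ((p.2 : ℤ) - 1))).mul
        (hom2_xv ((q.1 : ℤ) - 1) ((q.2 : ℤ) - 1))).mul (hom2_dv p (hom2_dv q h))
      exact Hom2.of_eq this (by have h0 : w2 g none = 2 := rfl; rw [h0]; ring)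
    · have h1 : IsWeightedHomogeneous (w2 g) ((mergeCoeff p.1 q.1 : RelRing g)) 0 := by
        have : ((mergeCoeff p.1 q.1 : ℕ) : RelRing g) = C (mergeCoeff p.1 q.1 : ℚ) := by simp
        rw [this]; exact isWeightedHomogeneous_C _ _
      have := (h1.mul (hom2_xv ((p.1 : ℤ) + q.1 - 2) ((p.2 : ℤ) + q.2))).mul (hom2_dv p (hom2_dv q h))
      exact Hom2.of_eq this (by ring)
  · refine IsWeightedHomogeneous.sum _ _ _ fun p _ => ?_
    have := (hom2_xv (g := g) ((p.1 : ℤ) - 2) (p.2 : ℤ)).mul (hom2_dv p h)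
    exact Hom2.of_eq this (by ring)

lemma hom_iter {P : RelRing g} {d : ℤ} (h : Hom g d P) (k : ℕ) : Hom g (d - 2 * k) ((F g)^[k] P) := by
  induction k with
  | zero => simpa using h
  | succ k ih =>
    rw [Function.iterate_succ', Function.comp_apply]
    exact Hom.of_eq (hom_F ih) (by push_cast; ring)

lemma hom2_iter {P : RelRing g} {d : ℤ} (h : Hom2 g d P) (k : ℕ) : Hom2 g d ((F g)^[k] P) := by
  induction k with
  | zero => simpa using h
  | succ k ih => rw [Function.iterate_succ', Function.comp_apply]; exact hom2_F ih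

lemma F_zero : F g (0 : RelRing g) = 0 := (AddMonoidHom.mk' (F g) F_add).map_zero

lemma iterate_comm' (hg : 1 ≤ g) {γ : RelRing g} {D : ℤ} (h : Hom g D γ) (m : ℕ) :
    (F g)^[m + 1] (E g γ) = E g ((F g)^[m + 1] γ) + (((m : ℤ) + 1) * ((g : ℤ) - D + m)) • (F g)^[m] γ := by
  induction m with
  | zero =>
    simp only [zero_add, Function.iterate_one, Function.iterate_zero_apply]
    rw [comm_FE hg h]
    congr 2
    push_cast; ring
  | succ m ih =>
    rw [Function.iterate_succ' (F g) (m + 1), Function.comp_apply, ih, F_add, F_zsmul,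
      comm_FE hg (hom_iter h (m + 1)), add_assoc, Function.comp_apply]
    rw [show F g ((F g)^[m] γ) = (F g)^[m + 1] γ by rw [Function.iterate_succ', Function.comp_apply]]
    rw [← add_smul]
    congr 2
    push_cast; ring

lemma hom_E (hg : 1 ≤ g) {P : RelRing g} {d : ℤ} (h : Hom g d P) : Hom g (d + 2) (E g P) :=
  Hom.of_eq ((hom_xv 2 0).mul h) (by ring)

lemma hom_E_iter (hg : 1 ≤ g) {P : RelRing g} {d : ℤ} (h : Hom g d P) (a : ℕ) :
    Hom g (d + 2 * a) ((E g)^[a] P) := by
  induction a with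
  | zero => simpa using h
  | succ a ih =>
    rw [Function.iterate_succ', Function.comp_apply]
    exact Hom.of_eq (hom_E hg ih) (by push_cast; ring)

lemma vanish (hg : 1 ≤ g) : ∀ (a m : ℕ) (β : RelRing g), Hom g (2 * ((m : ℤ) - a)) β → g < m → a ≤ m →
    m ≤ g + a → (F g)^[m] ((E g)^[a] β) = 0
  | 0, m, β, _, h1, _, h3 => by omega
  | a + 1, 0, β, _, h1, _, _ => by omega
  | a + 1, m + 1, β, hβ, h1, h2, h3 => by
    have hγ : Hom g (2 * (m : ℤ)) ((E g)^[a] β) :=
      Hom.of_eq (hom_E_iter hg hβ a) (by push_cast; ring)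
    rw [Function.iterate_succ' (E g), Function.comp_apply, iterate_comm' hg hγ m,
      hom_neg_eq_zero (hom_iter hγ (m + 1)) (by push_cast; omega)]
    rcases eq_or_ne m g with e | e
    · subst e
      have : ((m : ℤ) - 2 * m + m) = 0 := by ring
      rw [this, mul_zero, zero_smul]
      simp [E]
    · rw [vanish hg a m β (Hom.of_eq hβ (by push_cast; ring)) (by omega) (by omega) (by omega)]
      simp [E]

lemma E_iter_eq (hg : 1 ≤ g) (a : ℕ) (P : RelRing g) :
    (E g)^[a] P = X (some ⟨(2, 0), valid20 hg⟩) ^ a * P := by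
  induction a with
  | zero => simp
  | succ a ih =>
    rw [Function.iterate_succ', Function.comp_apply, ih, E, xv20 hg, pow_succ]
    ring

lemma first_le_three_second (hg : 1 ≤ g) (m : Var g →₀ ℕ) (h : m (some ⟨(2, 0), valid20 hg⟩) = 0) :
    (Finsupp.weight (wt g) m).1 ≤ 3 * (Finsupp.weight (wt g) m).2 := by
  rw [Finsupp.weight_apply, Finsupp.sum, Prod.fst_sum, Prod.snd_sum, Finset.mul_sum]
  refine Finset.sum_le_sum fun v hv => ?_
  simp only [Prod.smul_fst, Prod.smul_snd, smul_eq_mul]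
  rw [mul_left_comm]
  refine Nat.mul_le_mul_left _ ?_
  rcases v with _ | ⟨⟨i, j⟩, hij⟩
  · simp [wt]
  · show i ≤ 3 * j
    obtain ⟨h1, h2, ⟨k, h3⟩, h4⟩ := hij
    simp only at h1 h2 h3
    rcases Nat.eq_zero_or_pos j with hj | hj
    · exfalso
      subst hj
      rcases Nat.eq_zero_or_pos i with hi | hi
      · exact h4 (by rw [hi])
      · have hi2 : i = 2 := by omega
        subst hi2
        exact (Finsupp.mem_support_iff.mp hv) h
    · omega

/-- polynomials without monomials of bidegree `(0, ≤ n)` -/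
noncomputable def J (g n : ℕ) : Ideal (RelRing g) where
  carrier := {P | ∀ e : Var g →₀ ℕ, (Finsupp.weight (wt g) e).1 = 0 →
    (Finsupp.weight (wt g) e).2 ≤ n → coeff e P = 0}
  add_mem' := fun hP hQ e h1 h2 => by rw [coeff_add, hP e h1 h2, hQ e h1 h2, add_zero]
  zero_mem' := fun e _ _ => by simp
  smul_mem' := fun c P hP e h1 h2 => by
    rw [smul_eq_mul, coeff_mul]
    refine Finset.sum_eq_zero fun x hx => ?_
    have he : x.1 + x.2 = e := by simpa using hx
    have hw : Finsupp.weight (wt g) x.1 + Finsupp.weight (wt g) x.2 = Finsupp.weight (wt g) e := by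
      rw [← map_add, he]
    rw [hP x.2 (by have := congrArg Prod.fst hw; simp only [Prod.fst_add] at this; omega)
      (by have := congrArg Prod.snd hw; simp only [Prod.snd_add] at this; omega), mul_zero]

lemma gen_mem_J (hg : 1 ≤ g) {n : ℕ} (hn : 3 * n ≤ 2 * g) (d : Var g →₀ ℕ) (m : ℕ)
    (hd : 2 * g < (Finsupp.weight (wt g) d).1) :
    (F g)^[m] (monomial d 1) ∈ J g n := by
  intro e h1 h2
  by_contra hne
  set A := (Finsupp.weight (wt g) d).1 with hA
  set B := (Finsupp.weight (wt g) d).2 with hB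
  have hm : IsWeightedHomogeneous (wt g) (monomial d (1 : ℚ)) (A, B) :=
    isWeightedHomogeneous_monomial _ _ _ rfl
  have hh1 : Hom g ((A : ℤ) - 2 * m) ((F g)^[m] (monomial d 1)) := hom_iter (hom_of_wt hm) m
  have hh2 : Hom2 g (B : ℤ) ((F g)^[m] (monomial d 1)) := by
    refine hom2_iter ?_ m
    intro x hx
    rw [weight_w2, hm hx]
  have e1 := hh1 hne
  have e2 := hh2 hne
  rw [weight_w1, h1] at e1
  rw [weight_w2] at e2
  set v : Var g := some ⟨(2, 0), valid20 hg⟩ with hv
  set r := d.erase v with hr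
  have hdec : d = Finsupp.single v (d v) + r := (Finsupp.single_add_erase v d).symm
  have hw : Finsupp.weight (wt g) d = (d v) • wt g v + Finsupp.weight (wt g) r := by
    conv_lhs => rw [hdec]
    rw [map_add, Finsupp.weight_apply, Finsupp.sum_single_index (by simp)]
  have hr0 := first_le_three_second hg r (by simp [hr, hv])
  have hA' : A = 2 * d v + (Finsupp.weight (wt g) r).1 := by
    rw [hA, hw]; simp [hv, wt, mul_comm]
  have hB' : B = (Finsupp.weight (wt g) r).2 := by
    rw [hB, hw]; simp [hv, wt]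
  have hmono : monomial d (1 : ℚ) = (E g)^[d v] (monomial r 1) := by
    rw [E_iter_eq hg, X_pow_eq_monomial, monomial_mul, one_mul, ← hv, ← hdec]
  apply hne
  rw [hmono, vanish hg (d v) m (monomial r 1) ?_ (by omega) (by omega) (by omega), coeff_zero]
  exact Hom.of_eq (hom_of_wt (isWeightedHomogeneous_monomial (wt g) r (1 : ℚ) rfl)) (by omega)

theorem main (hg : 1 ≤ g) {n : ℕ} (hn : 3 * n ≤ 2 * g) {P : RelRing g} (hP : P ∈ relIdeal g)
    (hhom : IsWeightedHomogeneous (wt g) P ((0, n) : ℕ × ℕ)) : P = 0 := by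
  have hJ : relIdeal g ≤ J g n := by
    refine Ideal.span_le.2 ?_
    rintro _ ⟨d, m, hd, rfl⟩
    exact gen_mem_J hg hn d m hd
  ext e'
  rw [coeff_zero]
  by_contra hne
  have h := hhom hne
  exact hne (hJ hP e' (by rw [h]) (by rw [h]))

end Groth.Agent.CommAlg4.TautLow
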