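import Groth.Prelude.Def_W4c3tautjacobianRel
import Mathlib

open MvPolynomial W4c3tautjacobian
open scoped Classical

namespace Groth.Agent.CommAlg4.TautSl2

variable (g : ℕ)

/-- first degree, in the integers -/
def w1 : Var g → ℤ := fun v => ((wt g v).1 : ℤ)

def Hom (d : ℤ) (P : RelRing g) : Prop := IsWeightedHomogeneous (w1 g) P d

variable {g}

lemma weight_w1 (m : Var g →₀ ℕ) : Finsupp.weight (w1 g) m = ((Finsupp.weight (wt g) m).1 : ℤ) := by
  induction m using Finsupp.induction_linear with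
  | zero => simp
  | add a b ha hb => simp [map_add, ha, hb]
  | single v k => simp [Finsupp.weight, Finsupp.linearCombination_single, w1]

lemma hom_of_wt {P : RelRing g} {a : ℕ × ℕ} (h : IsWeightedHomogeneous (wt g) P a) : Hom g (a.1 : ℤ) P := by
  intro m hm
  rw [weight_w1, h hm]

lemma hom_neg_eq_zero {P : RelRing g} {d : ℤ} (h : Hom g d P) (hd : d < 0) : P = 0 := by
  refine h.eq_zero_of_no_monomials fun m hm => ?_
  have h0 : (0 : ℤ) ≤ Finsupp.weight (w1 g) m := by rw [weight_w1]; positivity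
  omega

lemma hom_xv (i j : ℤ) : Hom g i (xv g i j) := by
  unfold xv
  split_ifs with h1 h2
  · rw [h1.1]
    have : ((g : ℕ) : RelRing g) = C (g : ℚ) := by simp
    rw [this]; exact isWeightedHomogeneous_C _ _
  · have := isWeightedHomogeneous_X ℚ (w1 g) (some ⟨(i.toNat, j.toNat), h2.2.2⟩)
    have h3 : w1 g (some ⟨(i.toNat, j.toNat), h2.2.2⟩) = i := by
      show ((i.toNat : ℕ) : ℤ) = i; omega
    rwa [h3] at this
  · exact isWeightedHomogeneous_zero _ _ _

lemma Hom.of_eq {P : RelRing g} {a b : ℤ} (h : Hom g a P) (e : a = b) : Hom g b P := e ▸ h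

lemma hom_dv {P : RelRing g} {d : ℤ} (p : ℕ × ℕ) (h : Hom g d P) : Hom g (d - p.1) (dv g p P) := by
  unfold dv
  split_ifs with hp
  · exact IsWeightedHomogeneous.pderiv h (by show d - p.1 + ((wt g (some ⟨p, hp⟩)).1 : ℤ) = d; simp [wt])
  · exact isWeightedHomogeneous_zero _ _ _

lemma hom_F {P : RelRing g} {d : ℤ} (h : Hom g d P) : Hom g (d - 2) (F g P) := by
  unfold F
  refine IsWeightedHomogeneous.add ?_ ?_
  · rw [smul_eq_C_mul]
    refine IsWeightedHomogeneous.C_mul ?_ _
    refine IsWeightedHomogeneous.sum _ _ _ fun p _ => ?_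
    refine IsWeightedHomogeneous.sum _ _ _ fun q _ => ?_
    rw [sub_mul]
    refine IsWeightedHomogeneous.sub ?_ ?_
    · have := (((isWeightedHomogeneous_X ℚ (w1 g) none).mul (hom_xv ((p.1 : ℤ) - 1) ((p.2 : ℤ) - 1))).mul
        (hom_xv ((q.1 : ℤ) - 1) ((q.2 : ℤ) - 1))).mul (hom_dv p (hom_dv q h))
      exact Hom.of_eq this (by have h0 : w1 g none = 0 := rfl; rw [h0]; ring)
    · have h1 : IsWeightedHomogeneous (w1 g) ((mergeCoeff p.1 q.1 : RelRing g)) 0 := by
        have : ((mergeCoeff p.1 q.1 : ℕ) : RelRing g) = C (mergeCoeff p.1 q.1 : ℚ) := by simp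
        rw [this]; exact isWeightedHomogeneous_C _ _
      have := (h1.mul (hom_xv ((p.1 : ℤ) + q.1 - 2) ((p.2 : ℤ) + q.2))).mul (hom_dv p (hom_dv q h))
      exact Hom.of_eq this (by ring)
  · refine IsWeightedHomogeneous.sum _ _ _ fun p _ => ?_
    have := (hom_xv (g := g) ((p.1 : ℤ) - 2) (p.2 : ℤ)).mul (hom_dv p h)
    convert this using 1
    ring

lemma dv_add (p : ℕ × ℕ) (P Q : RelRing g) : dv g p (P + Q) = dv g p P + dv g p Q := by
  unfold dv; split_ifs <;> simp

lemma F_add (P Q : RelRing g) : F g (P + Q) = F g P + F g Q := by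
  simp only [F, dv_add, mul_add, Finset.sum_add_distrib, smul_add]
  ring

lemma F_zsmul (c : ℤ) (P : RelRing g) : F g (c • P) = c • F g P :=
  map_zsmul (AddMonoidHom.mk' (F g) F_add) c P

/-- Euler's identity for the first degree -/
lemma euler {P : RelRing g} {d : ℤ} (h : Hom g d P) :
    ∑ q ∈ idx g, (q.1 : RelRing g) * xv g (q.1 : ℤ) (q.2 : ℤ) * dv g q P = d • P := by
  rcases lt_or_ge d 0 with hd | hd
  · rw [hom_neg_eq_zero h hd]
    simp [dv]
  obtain ⟨n, rfl⟩ := Int.eq_ofNat_of_zero_le hd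
  letI : Fintype {p : ℕ × ℕ // Valid g p} :=
    Fintype.subtype ((idx g).filter (Valid g)) (by
      intro x; simp only [Finset.mem_filter, idx, Finset.mem_product, Finset.mem_range]
      exact ⟨fun h => h.2, fun h => ⟨⟨by have := h.1; have := h.2.1; omega, by have := h.2.1; omega⟩, h⟩⟩)
  have hN : IsWeightedHomogeneous (fun v => (wt g v).1) P n := by
    intro m hm
    have h1 : ((Finsupp.weight (wt g) m).1 : ℤ) = (n : ℤ) := by rw [← weight_w1]; exact h hm
    have h2 : Finsupp.weight (fun v => (wt g v).1) m = (Finsupp.weight (wt g) m).1 := by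
      clear hm h1
      induction m using Finsupp.induction_linear with
      | zero => simp
      | add a b ha hb => simp [map_add, ha, hb]
      | single v k => simp [Finsupp.weight, Finsupp.linearCombination_single]
    rw [h2]; exact_mod_cast h1
  have h2 := hN.sum_weight_X_mul_pderiv
  rw [natCast_zsmul, ← h2, Fintype.sum_option]
  have hz : (wt g none).1 • (X none * pderiv none P) = 0 := by simp [wt]
  rw [hz, zero_add]
  rw [← Finset.sum_filter_of_ne (p := Valid g)]
  · rw [Finset.sum_subtype (p := Valid g) ((idx g).filter (Valid g)) (by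
      intro x; simp only [Finset.mem_filter, idx, Finset.mem_product, Finset.mem_range]
      exact ⟨fun h => h.2, fun h => ⟨⟨by have := h.1; have := h.2.1; omega, by have := h.2.1; omega⟩, h⟩⟩)]
    refine Finset.sum_congr rfl fun v _ => ?_
    obtain ⟨⟨i, j⟩, hv⟩ := v
    have hne : ¬ ((i : ℤ) = 0 ∧ (j : ℤ) = 0) := by
      rintro ⟨a, b⟩; exact hv.2.2.2 (Prod.ext (by exact_mod_cast a) (by exact_mod_cast b))
    have hx : xv g (i : ℤ) (j : ℤ) = X (some ⟨(i, j), hv⟩) := by
      unfold xv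
      rw [if_neg hne, dif_pos ⟨Int.natCast_nonneg _, Int.natCast_nonneg _, by simpa using hv⟩]
      congr 1
    simp only [hx, dv, dif_pos hv, wt, nsmul_eq_mul]
    ring
  · intro x _ hx
    by_contra hc
    exact hx (by simp [dv, hc])

lemma valid20 (hg : 1 ≤ g) : Valid g (2, 0) := by
  refine ⟨by norm_num, by omega, by decide, by decide⟩

lemma xv20 (hg : 1 ≤ g) : xv g 2 0 = X (some ⟨(2, 0), valid20 hg⟩) := by
  unfold xv
  rw [if_neg (by norm_num), dif_pos ⟨by norm_num, le_refl 0, by simpa using valid20 hg⟩]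
  congr 1

lemma dv_E (hg : 1 ≤ g) (p : ℕ × ℕ) (P : RelRing g) :
    dv g p (E g P) = (if p = (2, 0) then P else 0) + E g (dv g p P) := by
  unfold dv E
  rw [xv20 hg]
  by_cases hp : Valid g p
  · rw [dif_pos hp, dif_pos hp, pderiv_mul, pderiv_X]
    by_cases h : p = (2, 0)
    · subst h; simp
    · rw [if_neg h, Pi.single_eq_of_ne (by simp only [ne_eq, Option.some.injEq, Subtype.mk.injEq]; exact Ne.symm h)]
      simp
  · have h : p ≠ (2, 0) := fun h => hp (h ▸ valid20 hg)
    simp [hp, h]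

lemma dv_ite (p : ℕ × ℕ) (c : Prop) [Decidable c] (P : RelRing g) :
    dv g p (if c then P else 0) = if c then dv g p P else 0 := by
  split_ifs
  · rfl
  · simp [dv]

lemma mem20 (hg : 1 ≤ g) : ((2, 0) : ℕ × ℕ) ∈ idx g := by
  simp only [idx, Finset.mem_product, Finset.mem_range]; omega

lemma C20 (q : ℕ × ℕ) :
    (X none * xv g (((2 : ℕ) : ℤ) - 1) (((0 : ℕ) : ℤ) - 1) * xv g ((q.1 : ℤ) - 1) ((q.2 : ℤ) - 1)
        - (mergeCoeff 2 q.1 : RelRing g) * xv g (((2 : ℕ) : ℤ) + q.1 - 2) (((0 : ℕ) : ℤ) + q.2))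
      = -((q.1 : RelRing g) * xv g q.1 q.2) ∧
    (X none * xv g ((q.1 : ℤ) - 1) ((q.2 : ℤ) - 1) * xv g (((2 : ℕ) : ℤ) - 1) (((0 : ℕ) : ℤ) - 1)
        - (mergeCoeff q.1 2 : RelRing g) * xv g ((q.1 : ℤ) + ((2 : ℕ) : ℤ) - 2) ((q.2 : ℤ) + ((0 : ℕ) : ℤ)))
      = -((q.1 : RelRing g) * xv g q.1 q.2) := by
  have h0 : xv g (((2 : ℕ) : ℤ) - 1) (((0 : ℕ) : ℤ) - 1) = 0 := by
    unfold xv; rw [if_neg (by norm_num), dif_neg (by norm_num)]
  have h1 : mergeCoeff 2 q.1 = q.1 := by
    unfold mergeCoeff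
    rcases Nat.eq_zero_or_pos q.1 with h | h
    · simp [h]
    · rw [if_neg (by omega)]
      simp
  have h2 : mergeCoeff q.1 2 = q.1 := by
    unfold mergeCoeff
    rcases Nat.eq_zero_or_pos q.1 with h | h
    · simp [h]
    · rw [if_neg (by omega)]
      have : q.1 + 2 - 2 = q.1 := by omega
      rw [this, Nat.choose_symm_of_eq_add (b := 1) (by omega)]
      simp
  rw [h0, h1, h2]
  constructor <;> simp

lemma comm_FE (hg : 1 ≤ g) {P : RelRing g} {d : ℤ} (h : Hom g d P) :
    F g (E g P) = E g (F g P) + ((g : ℤ) - d) • P := by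
  set c : ℕ × ℕ → ℕ × ℕ → RelRing g := fun p q =>
      (X none * xv g ((p.1 : ℤ) - 1) ((p.2 : ℤ) - 1)
          * xv g ((q.1 : ℤ) - 1) ((q.2 : ℤ) - 1)
        - (mergeCoeff p.1 q.1 : RelRing g) * xv g ((p.1 : ℤ) + q.1 - 2) ((p.2 : ℤ) + q.2)) with hc
  set v : ℕ × ℕ → RelRing g := fun p => xv g ((p.1 : ℤ) - 2) (p.2 : ℤ) with hv
  have hF : ∀ Q : RelRing g, F g Q = (1 / 2 : ℚ) • (∑ p ∈ idx g, ∑ q ∈ idx g, c p q * dv g p (dv g q Q))
      + ∑ p ∈ idx g, v p * dv g p Q := fun Q => rfl
  have e2 : ∀ p q : ℕ × ℕ, c p q * dv g p (dv g q (E g P)) =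
      (if q = (2, 0) then c p q * dv g p P else 0) + (if p = (2, 0) then c p q * dv g q P else 0)
        + xv g 2 0 * (c p q * dv g p (dv g q P)) := by
    intro p q
    rw [dv_E hg, dv_add, dv_ite, dv_E hg]
    simp only [E, mul_add, mul_ite, mul_zero]
    ring
  have e1 : ∀ p : ℕ × ℕ, v p * dv g p (E g P) =
      (if p = (2, 0) then v p * P else 0) + xv g 2 0 * (v p * dv g p P) := by
    intro p
    rw [dv_E hg]
    simp only [E, mul_add, mul_ite, mul_zero]
    ring
  have eA : ∀ p : ℕ × ℕ, c p (2, 0) = -((p.1 : RelRing g) * xv g p.1 p.2) := fun p => (C20 p).2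
  have eB : ∀ q : ℕ × ℕ, c (2, 0) q = -((q.1 : RelRing g) * xv g q.1 q.2) := fun q => (C20 q).1
  have ev : v (2, 0) = (g : RelRing g) := by
    show xv g (((2 : ℕ) : ℤ) - 2) ((0 : ℕ) : ℤ) = _
    unfold xv; rw [if_pos (by norm_num)]
  have hA : ∑ p ∈ idx g, c p (2, 0) * dv g p P = -(d • P) := by
    rw [← euler h, ← Finset.sum_neg_distrib]
    exact Finset.sum_congr rfl fun p _ => by rw [eA, neg_mul]
  have hB : ∑ q ∈ idx g, c (2, 0) q * dv g q P = -(d • P) := by
    rw [← euler h, ← Finset.sum_neg_distrib]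
    exact Finset.sum_congr rfl fun p _ => by rw [eB, neg_mul]
  have s1 : ∑ p ∈ idx g, ∑ q ∈ idx g, (if q = (2, 0) then c p q * dv g p P else 0) = -(d • P) := by
    simp only [Finset.sum_ite_eq', mem20 hg, if_true]; exact hA
  have s2 : ∑ p ∈ idx g, ∑ q ∈ idx g, (if p = (2, 0) then c p q * dv g q P else 0) = -(d • P) := by
    rw [Finset.sum_comm]; simp only [Finset.sum_ite_eq', mem20 hg, if_true]; exact hB
  have s3 : ∑ p ∈ idx g, (if p = (2, 0) then v p * P else 0) = (g : RelRing g) * P := by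
    simp only [Finset.sum_ite_eq', mem20 hg, if_true, ev]
  rw [hF (E g P), hF P]
  simp only [e2, e1, Finset.sum_add_distrib, ← Finset.mul_sum, s1, s2, s3]
  simp only [E, smul_eq_C_mul, zsmul_eq_mul, Int.cast_sub, Int.cast_natCast]
  have hh : C (1 / 2 : ℚ) * (2 : RelRing g) = 1 := by
    rw [show (2 : RelRing g) = C (2 : ℚ) from (map_ofNat C 2).symm, ← C_mul]; norm_num
  linear_combination (-((d : RelRing g) * P)) * hh

lemma iterate_comm (hg : 1 ≤ g) {β : RelRing g} (hβ : Hom g (2 * g) β) (m : ℕ) :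
    (F g)^[m + 1] (E g β) = E g ((F g)^[m + 1] β) + (((m : ℤ) + 1) * ((m : ℤ) - g)) • (F g)^[m] β := by
  have hk : ∀ k : ℕ, Hom g (2 * g - 2 * k) ((F g)^[k] β) := by
    intro k
    induction k with
    | zero => simpa using hβ
    | succ k ih =>
      rw [Function.iterate_succ', Function.comp_apply]
      have := hom_F ih
      convert this using 1
      push_cast; ring
  induction m with
  | zero =>
    simp only [zero_add, Function.iterate_one, Function.iterate_zero_apply]
    rw [comm_FE hg hβ]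
    congr 2
    push_cast; ring
  | succ m ih =>
    rw [Function.iterate_succ' (F g) (m + 1), Function.comp_apply, ih, F_add, F_zsmul,
      comm_FE hg (hk (m + 1)), add_assoc, Function.comp_apply]
    rw [show F g ((F g)^[m] β) = (F g)^[m + 1] β by rw [Function.iterate_succ', Function.comp_apply]]
    rw [← add_smul]
    congr 2
    push_cast; ring

theorem main (hg : 1 ≤ g) {β : RelRing g} (hβ : Hom g (2 * g) β) : (F g)^[g + 1] (E g β) = 0 := by
  rw [iterate_comm hg hβ g, sub_self, mul_zero, zero_smul, add_zero]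
  have hk : ∀ k : ℕ, Hom g (2 * g - 2 * k) ((F g)^[k] β) := by
    intro k
    induction k with
    | zero => simpa using hβ
    | succ k ih =>
      rw [Function.iterate_succ', Function.comp_apply]
      have := hom_F ih
      convert this using 1
      push_cast; ring
  rw [hom_neg_eq_zero (hk (g + 1)) (by push_cast; omega)]
  simp [E]

end Groth.Agent.CommAlg4.TautSl2
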