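import Mathlib

/-!
# Weight-one representations of finite Heisenberg (theta) groups

`Γ` is a group with `ι : kˣ →* Γ` onto the centre, commutators in `ι.range`, finite quotient of
order invertible in `k`.
-/

set_option autoImplicit false
set_option linter.all false

universe u v w

namespace Groth.Agent.CommAlg4.ThetaRep

open Representation
open scoped BigOperators

variable {k : Type u} [Field k] {Γ : Type v} [Group Γ] {ι : kˣ →* Γ}

/-- Weight one. -/
def W1 (ι : kˣ →* Γ) {V : Type w} [AddCommGroup V] [Module k V] (ρ : Representation k Γ V) : Prop :=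
  ∀ (z : kˣ) (v : V), ρ (ι z) v = (z : k) • v

theorem card_ne_zero {n : ℕ} (hn : n ≠ 0) (h : n.Coprime (ringExpChar k)) : (n : k) ≠ 0 := by
  intro h0
  rw [CharP.cast_eq_zero_iff k (ringChar k)] at h0
  rcases Nat.eq_zero_or_pos (ringChar k) with hp | hp
  · rw [hp, zero_dvd_iff] at h0; exact hn h0
  · have he : ringExpChar k = ringChar k := by simp [ringExpChar]; omega
    rw [he] at h
    exact CharP.ringChar_ne_one (R := k) (Nat.eq_one_of_dvd_coprimes h h0 dvd_rfl)

section general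
variable {V : Type w} [AddCommGroup V] [Module k V] {ρ : Representation k Γ V}
variable {W : Type w} [AddCommGroup W] [Module k W] {σ : Representation k Γ W}

theorem rho_iota (hρ : W1 ι ρ) (z : kˣ) : ρ (ι z) = (z : k) • (1 : Module.End k V) :=
  LinearMap.ext fun v => by simpa using hρ z v

theorem rho_iota_mul (hρ : W1 ι ρ) (z : kˣ) (g : Γ) : ρ (ι z * g) = (z : k) • ρ g := by
  rw [map_mul, rho_iota hρ, smul_mul_assoc, one_mul]

theorem rho_mul_iota (hρ : W1 ι ρ) (z : kˣ) (g : Γ) : ρ (g * ι z) = (z : k) • ρ g := by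
  rw [map_mul, rho_iota hρ, mul_smul_comm, mul_one]

theorem rho_mul_inv (g : Γ) : ρ g * ρ g⁻¹ = 1 := by rw [← map_mul, mul_inv_cancel, map_one]

theorem linHom_iota (hρ : W1 ι ρ) (hσ : W1 ι σ) (z : kˣ) (f : V →ₗ[k] W) :
    linHom ρ σ (ι z) f = f := by
  ext v
  simp only [linHom_apply, LinearMap.coe_comp, Function.comp_apply]
  rw [← map_inv, hρ z⁻¹, hσ z, map_smul, smul_smul]
  simp

theorem linHom_out (hρ : W1 ι ρ) (hσ : W1 ι σ) (g : Γ) (f : V →ₗ[k] W) :
    linHom ρ σ (Quotient.out (g : Γ ⧸ ι.range)) f = linHom ρ σ g f := by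
  obtain ⟨⟨_, z, rfl⟩, hz⟩ := QuotientGroup.mk_out_eq_mul ι.range g
  rw [hz, map_mul, Module.End.mul_apply, linHom_iota hρ hσ]

variable [Fintype (Γ ⧸ ι.range)]

/-- The averaging operator on linear maps. -/
noncomputable def S (ι : kˣ →* Γ) [Fintype (Γ ⧸ ι.range)] (ρ : Representation k Γ V)
    (σ : Representation k Γ W) : (V →ₗ[k] W) →ₗ[k] (V →ₗ[k] W) :=
  ∑ t : Γ ⧸ ι.range, linHom ρ σ (Quotient.out t)

theorem S_apply (f : V →ₗ[k] W) :
    S ι ρ σ f = ∑ t : Γ ⧸ ι.range, linHom ρ σ (Quotient.out t) f := by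
  simp [S, LinearMap.sum_apply]

theorem linHom_S (hρ : W1 ι ρ) (hσ : W1 ι σ) (h : Γ) (f : V →ₗ[k] W) :
    linHom ρ σ h (S ι ρ σ f) = S ι ρ σ f := by
  rw [S_apply, map_sum]
  refine Fintype.sum_equiv (MulAction.toPerm h) _ _ fun t => ?_
  have e : MulAction.toPerm h t = ((h * Quotient.out t : Γ) : Γ ⧸ ι.range) := by
    conv_lhs => rw [← QuotientGroup.out_eq' t]
    rfl
  rw [e, linHom_out hρ hσ, map_mul]
  rfl

/-- The averaged map as an intertwining map. -/
noncomputable def Sint (hρ : W1 ι ρ) (hσ : W1 ι σ) (f : V →ₗ[k] W) : IntertwiningMap ρ σ :=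
  invariantsEquivIntertwiningMap ρ σ ⟨S ι ρ σ f, fun h => linHom_S hρ hσ h f⟩

theorem Sint_toLinearMap (hρ : W1 ι ρ) (hσ : W1 ι σ) (f : V →ₗ[k] W) :
    (Sint hρ hσ f).toLinearMap = S ι ρ σ f := rfl

theorem S_one : S ι ρ ρ 1 = (Fintype.card (Γ ⧸ ι.range) : k) • (1 : Module.End k V) := by
  rw [S_apply, Finset.sum_congr rfl (fun t _ => ?_), Finset.sum_const, Finset.card_univ,
    ← Nat.cast_smul_eq_nsmul k]
  rw [linHom_apply]
  exact rho_mul_inv _

/-- Every commutator is a scalar. -/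
theorem exists_conj (hcomm : commutator Γ ≤ ι.range) (h g : Γ) :
    ∃ c : kˣ, h * g * h⁻¹ = ι c * g := by
  obtain ⟨c, hc⟩ := hcomm (Subgroup.commutator_mem_commutator
    (Subgroup.mem_top h) (Subgroup.mem_top g))
  exact ⟨c, by rw [hc, commutatorElement_def]; group⟩

theorem exists_conj_ne (hι : Function.Injective ι) (hcent : ι.range = Subgroup.center Γ)
    (hcomm : commutator Γ ≤ ι.range) {g : Γ} (hg : g ∉ ι.range) :
    ∃ (h : Γ) (c : kˣ), h * g * h⁻¹ = ι c * g ∧ (c : k) ≠ 1 := by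
  rw [hcent, Subgroup.mem_center_iff, not_forall] at hg
  obtain ⟨h, hh⟩ := hg
  obtain ⟨c, hc⟩ := exists_conj hcomm h g
  refine ⟨h, c, hc, fun h1 => hh ?_⟩
  have : c = 1 := Units.ext h1
  rw [this, map_one, one_mul] at hc
  calc h * g = h * g * h⁻¹ * h := by group
    _ = g * h := by rw [hc]

variable (hι : Function.Injective ι) (hcent : ι.range = Subgroup.center Γ)
  (hcomm : commutator Γ ≤ ι.range)

include hι hcent hcomm in
theorem S_rho (hρ : W1 ι ρ) {g : Γ} (hg : g ∉ ι.range) : S ι ρ ρ (ρ g) = 0 := by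
  obtain ⟨h, c, hc, hc1⟩ := exists_conj_ne hι hcent hcomm hg
  have key : ∀ x : Γ, linHom ρ ρ x (ρ g) = ρ (x * g * x⁻¹) := fun x => by
    rw [linHom_apply, map_mul, map_mul, mul_assoc]; rfl
  have e : linHom ρ ρ h (S ι ρ ρ (ρ g)) = (c : k) • S ι ρ ρ (ρ g) := by
    rw [S_apply, map_sum, Finset.smul_sum]
    refine Finset.sum_congr rfl fun t _ => ?_
    obtain ⟨d, hd⟩ := exists_conj hcomm (Quotient.out t) g
    rw [key, hd, rho_iota_mul hρ, map_smul, key, hc, rho_iota_mul hρ, smul_comm]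
  rw [linHom_S hρ hρ] at e
  by_contra hne
  have e2 : ((c : k) - 1) • S ι ρ ρ (ρ g) = 0 := by rw [sub_smul, ← e, one_smul, sub_self]
  rcases smul_eq_zero.mp e2 with h0 | h0
  · exact hc1 (sub_eq_zero.mp h0)
  · exact hne h0

include hι hcent hcomm in
/-- The operators of coset representatives are linearly independent. -/
theorem linearIndependent_rho [Nontrivial V] (hcard : (Fintype.card (Γ ⧸ ι.range) : k) ≠ 0)
    (hρ : W1 ι ρ) : LinearIndependent k fun t : Γ ⧸ ι.range => ρ (Quotient.out t) := by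
  classical
  rw [Fintype.linearIndependent_iff]
  intro c hc b
  have h2 : ∑ t : Γ ⧸ ι.range, c t • ρ (Quotient.out t * (Quotient.out b)⁻¹) = 0 := by
    simp only [map_mul, ← smul_mul_assoc, ← Finset.sum_mul, hc, zero_mul]
  have h3 := congrArg (S ι ρ ρ) h2
  rw [map_sum, map_zero, Finset.sum_eq_single b] at h3
  · rw [map_smul, mul_inv_cancel, map_one, S_one, smul_smul] at h3
    rcases smul_eq_zero.mp h3 with h0 | h0
    · exact (mul_eq_zero.mp h0).resolve_right hcard
    · exact absurd h0 one_ne_zero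
  · intro t _ htb
    rw [map_smul, S_rho hι hcent hcomm hρ, smul_zero]
    intro hmem
    apply htb
    have hc' : Quotient.out t * (Quotient.out b)⁻¹ ∈ Subgroup.center Γ := hcent ▸ hmem
    rw [← QuotientGroup.out_eq' t, ← QuotientGroup.out_eq' b]
    refine Eq.symm (QuotientGroup.eq.mpr ?_)
    have h5 := Subgroup.mem_center_iff.mp hc' (Quotient.out b)⁻¹
    have h6 : (Quotient.out b)⁻¹ * Quotient.out t = Quotient.out t * (Quotient.out b)⁻¹ := by
      rw [← mul_left_inj (Quotient.out b)⁻¹]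
      rw [mul_assoc, h5]
    rw [h6]; exact hmem
  · simp

include hι hcent hcomm in
theorem exists_ne_zero [Nontrivial V] [Nontrivial W]
    (hcard : (Fintype.card (Γ ⧸ ι.range) : k) ≠ 0) (hρ : W1 ι ρ) (hσ : W1 ι σ) :
    ∃ f : IntertwiningMap ρ σ, f ≠ 0 := by
  by_contra hall
  push Not at hall
  obtain ⟨v, hv⟩ := exists_ne (0 : V)
  let t0 : Γ ⧸ ι.range := ((1 : Γ) : Γ ⧸ ι.range)
  have hv' : ρ (Quotient.out t0)⁻¹ v ≠ 0 := by
    intro h0
    apply hv
    have := congrArg (ρ (Quotient.out t0)) h0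
    rw [← Module.End.mul_apply, ← map_mul] at this
    simpa using this
  obtain ⟨φ, hφ⟩ := (by
    by_contra hno
    push Not at hno
    exact hv' ((Module.forall_dual_apply_eq_zero_iff k _).mp hno) :
    ∃ φ : Module.Dual k V, φ (ρ (Quotient.out t0)⁻¹ v) ≠ 0)
  have h2 : ∑ t : Γ ⧸ ι.range, φ (ρ (Quotient.out t)⁻¹ v) • σ (Quotient.out t) = 0 := by
    ext w
    have h0 := congrArg (fun F : IntertwiningMap ρ σ => F.toLinearMap v)
      (hall (Sint hρ hσ (φ.smulRight w)))
    simpa [Sint_toLinearMap, S_apply, LinearMap.sum_apply] using h0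
  exact hφ (Fintype.linearIndependent_iff.mp
    (linearIndependent_rho hι hcent hcomm hcard hσ) _ h2 t0)

theorem nontrivial_of_irreducible [hV : IsIrreducible ρ] : Nontrivial V := by
  by_contra h
  rw [not_nontrivial_iff_subsingleton] at h
  obtain ⟨a, b, hab⟩ := hV.toNontrivial
  exact hab (Subrepresentation.toSubmodule_injective (Subsingleton.elim _ _))

include hι hcent hcomm in
theorem nonempty_equiv [IsIrreducible ρ] [IsIrreducible σ]
    (hcard : (Fintype.card (Γ ⧸ ι.range) : k) ≠ 0) (hρ : W1 ι ρ) (hσ : W1 ι σ) :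
    Nonempty (Representation.Equiv ρ σ) := by
  haveI := nontrivial_of_irreducible (ρ := ρ)
  haveI := nontrivial_of_irreducible (ρ := σ)
  obtain ⟨f, hf⟩ := exists_ne_zero hι hcent hcomm hcard hρ hσ
  exact ⟨f.ofBijective ((IsIrreducible.bijective_or_eq_zero f).resolve_right hf)⟩

theorem schur [IsAlgClosed k] [FiniteDimensional k V] [IsIrreducible ρ]
    (f : IntertwiningMap ρ ρ) : ∃ c : k, f.toLinearMap = c • (1 : Module.End k V) := by
  obtain ⟨c, hc⟩ := (IsIrreducible.algebraMap_intertwiningMap_bijective_of_isAlgClosed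
    (ρ := ρ)).2 f
  refine ⟨c, ?_⟩
  rw [← hc]
  ext v
  rw [Algebra.algebraMap_eq_smul_one]
  rfl

theorem trace_linHom [FiniteDimensional k V] (g : Γ) (f : Module.End k V) :
    LinearMap.trace k V (linHom ρ ρ g f) = LinearMap.trace k V f := by
  rw [linHom_apply]
  change LinearMap.trace k V (ρ g * (f * ρ g⁻¹)) = _
  rw [LinearMap.trace_mul_comm, mul_assoc, ← map_mul, inv_mul_cancel, map_one, mul_one]

include hι hcent hcomm in
theorem finrank_sq [IsAlgClosed k] [FiniteDimensional k V] [IsIrreducible ρ]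
    (hcard : (Fintype.card (Γ ⧸ ι.range) : k) ≠ 0) (hρ : W1 ι ρ) :
    Module.finrank k V ^ 2 = Fintype.card (Γ ⧸ ι.range) := by
  classical
  haveI := nontrivial_of_irreducible (ρ := ρ)
  have hE : Module.finrank k (Module.End k V) = Module.finrank k V ^ 2 := by
    rw [Module.finrank_linearMap, sq]
  apply le_antisymm
  · let Φ : Module.End k V →ₗ[k] (Γ ⧸ ι.range → k) :=
      LinearMap.pi fun t => (LinearMap.trace k V).comp (LinearMap.mulRight k (ρ (Quotient.out t)))
    have hΦ : Function.Injective Φ := by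
      rw [← LinearMap.ker_eq_bot, LinearMap.ker_eq_bot']
      intro f hf
      have htr : ∀ x : Module.End k V, ∃ c : k, S ι ρ ρ x = c • 1 ∧
          c * Module.finrank k V = Fintype.card (Γ ⧸ ι.range) * LinearMap.trace k V x := by
        intro x
        obtain ⟨c, hc⟩ := schur (Sint hρ hρ x)
        rw [Sint_toLinearMap] at hc
        refine ⟨c, hc, ?_⟩
        have := congrArg (LinearMap.trace k V) hc
        rw [S_apply, map_sum, map_smul, LinearMap.trace_one] at this
        simp only [trace_linHom, Finset.sum_const, Finset.card_univ, smul_eq_mul] at this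
        rw [← this, nsmul_eq_mul]
      have hd : (Module.finrank k V : k) ≠ 0 := by
        intro h0
        obtain ⟨v, hv⟩ := exists_ne (0 : V)
        obtain ⟨φ, hφ⟩ := (by
          by_contra hno; push Not at hno
          exact hv ((Module.forall_dual_apply_eq_zero_iff k _).mp hno) :
          ∃ φ : Module.Dual k V, φ v ≠ 0)
        obtain ⟨c, -, hc⟩ := htr (φ.smulRight v)
        rw [h0, mul_zero, LinearMap.trace_smulRight] at hc
        exact mul_ne_zero hcard hφ hc.symm
      have hz : ∀ t : Γ ⧸ ι.range, S ι ρ ρ (f * ρ (Quotient.out t)) = 0 := by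
        intro t
        obtain ⟨c, hc, hc'⟩ := htr (f * ρ (Quotient.out t))
        have h0 : LinearMap.trace k V (f * ρ (Quotient.out t)) = 0 := congrFun hf t
        rw [h0, mul_zero] at hc'
        rw [hc, (mul_eq_zero.mp hc').resolve_right hd, zero_smul]
      have h2 : ∑ a : Γ ⧸ ι.range, ρ (Quotient.out a) * f * ρ (Quotient.out a)⁻¹ *
          (ρ (Quotient.out a) * S ι ρ ρ (ρ (Quotient.out a)⁻¹)) = 0 := by
        have h3 : ∑ t : Γ ⧸ ι.range, S ι ρ ρ (f * ρ (Quotient.out t)) * ρ (Quotient.out t)⁻¹ = 0 :=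
          Finset.sum_eq_zero fun t _ => by rw [hz, zero_mul]
        simp only [S_apply, linHom_apply, ← Module.End.mul_eq_comp, Finset.sum_mul,
          Finset.mul_sum] at h3 ⊢
        rw [Finset.sum_comm] at h3
        rw [← h3]
        refine Finset.sum_congr rfl fun a _ => Finset.sum_congr rfl fun t _ => ?_
        simp only [mul_assoc]
        congr 2
        rw [← mul_assoc (ρ (Quotient.out a)⁻¹), ← map_mul, inv_mul_cancel, map_one, one_mul]
      rw [Finset.sum_eq_single (((1 : Γ) : Γ ⧸ ι.range))] at h2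
      · obtain ⟨⟨_, z, rfl⟩, hz'⟩ := QuotientGroup.mk_out_eq_mul ι.range (1 : Γ)
        rw [hz', one_mul, ← map_inv, rho_iota hρ, rho_iota hρ] at h2
        simp only [map_smul, S_one, smul_mul_assoc, mul_smul_comm, one_mul, mul_one,
          smul_smul] at h2
        refine (smul_eq_zero.mp h2).resolve_left ?_
        simp [hcard]
      · intro a _ ha
        rw [S_rho hι hcent hcomm hρ, mul_zero, mul_zero]
        intro hmem
        apply ha
        rw [← QuotientGroup.out_eq' a]
        exact QuotientGroup.eq.mpr (by simpa using hmem)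
      · simp
    have := LinearMap.finrank_le_finrank_of_injective hΦ
    rwa [Module.finrank_fintype_fun_eq_card, hE] at this
  · have := (linearIndependent_rho hι hcent hcomm hcard hρ).fintype_card_le_finrank
    rwa [hE] at this

include hι hcent hcomm in
theorem span_rho [IsAlgClosed k] [FiniteDimensional k V] [IsIrreducible ρ]
    (hcard : (Fintype.card (Γ ⧸ ι.range) : k) ≠ 0) (hρ : W1 ι ρ) :
    Submodule.span k (Set.range fun g : Γ => ρ g) = ⊤ := by
  haveI := nontrivial_of_irreducible (ρ := ρ)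
  rw [eq_top_iff, ← (linearIndependent_rho hι hcent hcomm hcard hρ).span_eq_top_of_card_eq_finrank'
    (by rw [Module.finrank_linearMap, ← sq, finrank_sq hι hcent hcomm hcard hρ])]
  exact Submodule.span_mono (Set.range_subset_iff.mpr fun t => ⟨Quotient.out t, rfl⟩)

/-- Maschke for weight one representations. -/
theorem semisimple (hcard : (Fintype.card (Γ ⧸ ι.range) : k) ≠ 0) (hρ : W1 ι ρ) :
    IsSemisimpleRepresentation ρ := by
  constructor
  intro U
  obtain ⟨Q, hQ⟩ := U.toSubmodule.exists_isCompl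
  let p : Module.End k V := U.toSubmodule.subtype.comp (U.toSubmodule.projectionOnto Q hQ)
  let P : IntertwiningMap ρ ρ := Sint hρ hρ ((Fintype.card (Γ ⧸ ι.range) : k)⁻¹ • p)
  have hP : ∀ v, P.toLinearMap v = (Fintype.card (Γ ⧸ ι.range) : k)⁻¹ •
      ∑ t : Γ ⧸ ι.range, ρ (Quotient.out t) (p (ρ (Quotient.out t)⁻¹ v)) := fun v => by
    rw [Sint_toLinearMap, map_smul, LinearMap.smul_apply, S_apply, LinearMap.sum_apply]
    simp [linHom_apply]
  have hmem : ∀ v, P.toLinearMap v ∈ U.toSubmodule := fun v => by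
    rw [hP]
    exact U.toSubmodule.smul_mem _ (U.toSubmodule.sum_mem fun t _ =>
      U.apply_mem_toSubmodule _ (Submodule.coe_mem _))
  have hid : ∀ v ∈ U.toSubmodule, P.toLinearMap v = v := fun v hv => by
    rw [hP, Finset.sum_congr rfl (fun t _ => (?_ : _ = v)), Finset.sum_const, Finset.card_univ,
      ← Nat.cast_smul_eq_nsmul k, smul_smul, inv_mul_cancel₀ hcard, one_smul]
    have hpv : ∀ u ∈ U.toSubmodule, p u = u := fun u hu => by
      simp [p, Submodule.projectionOnto_apply_left hQ ⟨u, hu⟩]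
    rw [hpv _ (U.apply_mem_toSubmodule _ hv), ← Module.End.mul_apply, ← map_mul, mul_inv_cancel,
      map_one]
    rfl
  refine ⟨⟨LinearMap.ker P.toLinearMap, fun g v hv => ?_⟩, ?_⟩
  · rw [LinearMap.mem_ker] at hv ⊢
    have := LinearMap.congr_fun (P.isIntertwining' g) v
    simp only [LinearMap.coe_comp, Function.comp_apply] at this
    rw [this, hv, map_zero]
  · refine ⟨disjoint_iff_inf_le.mpr ?_, codisjoint_iff_le_sup.mpr ?_⟩
    · rintro v ⟨hv1, hv2⟩
      change v ∈ U.toSubmodule at hv1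
      change P.toLinearMap v = 0 at hv2
      change v = 0
      rw [← hid v hv1, hv2]
    · intro v _
      change v ∈ U.toSubmodule ⊔ LinearMap.ker P.toLinearMap
      refine Submodule.mem_sup.mpr ⟨_, hmem v, v - P.toLinearMap v, ?_, add_sub_cancel _ _⟩
      rw [LinearMap.mem_ker, map_sub, hid _ (hmem v), sub_self]

section level

variable (H : Subgroup Γ) [Fintype H]

/-- Sum of the operators of the elements of `H`. -/
noncomputable def E (ρ : Representation k Γ V) : Module.End k V := ∑ h : H, ρ (h : Γ)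

theorem rho_mul_E (h : Γ) (hh : h ∈ H) : ρ h * E H ρ = E H ρ := by
  rw [E, Finset.mul_sum]
  exact Fintype.sum_equiv (Equiv.mulLeft ⟨h, hh⟩) _ _ fun x => by rw [← map_mul]; rfl

theorem E_mul_rho (h : Γ) (hh : h ∈ H) : E H ρ * ρ h = E H ρ := by
  rw [E, Finset.sum_mul]
  exact Fintype.sum_equiv (Equiv.mulRight ⟨h, hh⟩) _ _ fun x => by rw [← map_mul]; rfl

theorem E_apply_invariant {v : V} (hv : v ∈ (invariants (ρ.comp H.subtype))) :
    E H ρ v = (Fintype.card H : k) • v := by
  have e : ∀ h : H, ρ (h : Γ) v = v := hv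
  simp [E, LinearMap.sum_apply, e, Nat.cast_smul_eq_nsmul]

theorem E_mem_invariants (v : V) : E H ρ v ∈ (invariants (ρ.comp H.subtype)) := fun h => by
  change ρ (h : Γ) (E H ρ v) = E H ρ v
  rw [← Module.End.mul_apply, rho_mul_E H _ h.2]

theorem E_mul_E : E H ρ * E H ρ = (Fintype.card H : k) • E H ρ :=
  LinearMap.ext fun v => E_apply_invariant H (E_mem_invariants H v)

include hι hcent hcomm in
theorem S_E (hH : H ⊓ ι.range = ⊥) (hρ : W1 ι ρ) :
    S ι ρ ρ (E H ρ) = (Fintype.card (Γ ⧸ ι.range) : k) • (1 : Module.End k V) := by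
  classical
  rw [E, map_sum, Finset.sum_eq_single (1 : H)]
  · rw [OneMemClass.coe_one, map_one, S_one]
  · intro h _ h1
    refine S_rho hι hcent hcomm hρ fun hm => h1 (Subtype.ext ?_)
    have : (h : Γ) ∈ H ⊓ ι.range := ⟨h.2, hm⟩
    rw [hH, Subgroup.mem_bot] at this
    exact this
  · simp

/-- An element centralizing a maximal level subgroup lies in it up to a scalar. -/
theorem mem_J_of_commute [IsAlgClosed k] (hcent : ι.range = Subgroup.center Γ)
    (hH : H ⊓ ι.range = ⊥)
    (hmax : ∀ H' : Subgroup Γ, H' ⊓ ι.range = ⊥ → H ≤ H' → H' = H)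
    {g : Γ} (hg : ∀ h ∈ H, Commute h g) : g ∈ H ⊔ ι.range := by
  classical
  haveI hn : ι.range.Normal := hcent ▸ inferInstance
  have hex : ∃ m : ℕ, 0 < m ∧ g ^ m ∈ H ⊔ ι.range := by
    refine ⟨orderOf (g : Γ ⧸ ι.range), orderOf_pos _, ?_⟩
    apply Subgroup.mem_sup_right
    rw [← QuotientGroup.eq_one_iff, QuotientGroup.mk_pow]
    exact pow_orderOf_eq_one _
  set m := Nat.find hex with hm
  obtain ⟨hm0, hgm⟩ := Nat.find_spec hex
  rw [← hm] at hm0 hgm
  rw [Subgroup.mem_sup_of_normal_right] at hgm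
  obtain ⟨h0, hh0, _, ⟨z, rfl⟩, hzg⟩ := hgm
  obtain ⟨y, hy⟩ := IsAlgClosed.exists_pow_nat_eq (z : k) hm0
  have hy0 : y ≠ 0 := by
    rintro rfl
    rw [zero_pow hm0.ne'] at hy
    exact z.ne_zero hy.symm
  have hc : ∀ (z : kˣ) (x : Γ), Commute (ι z) x := fun z x => by
    have : ι z ∈ Subgroup.center Γ := hcent ▸ ⟨z, rfl⟩
    exact (Subgroup.mem_center_iff.mp this x).symm
  set w : kˣ := (Units.mk0 y hy0)⁻¹ with hw
  set g' := g * ι w with hg'
  have hg'm : g' ^ m = h0 := by
    rw [hg', (hc w g).symm.mul_pow, ← hzg, ← map_pow, mul_assoc, ← map_mul]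
    have : z * w ^ m = 1 := by
      rw [hw, inv_pow, mul_inv_eq_one]; exact Units.ext hy.symm
    rw [this, map_one, mul_one]
  have hg'c : ∀ h ∈ H, Commute h g' := fun h hh => (hg h hh).mul_right (hc w h).symm
  let H' : Subgroup Γ :=
    { carrier := {x | ∃ h ∈ H, ∃ i : ℤ, x = h * g' ^ i}
      one_mem' := ⟨1, H.one_mem, 0, by simp⟩
      mul_mem' := by
        rintro _ _ ⟨a, ha, i, rfl⟩ ⟨b, hb, j, rfl⟩
        refine ⟨a * b, H.mul_mem ha hb, i + j, ?_⟩
        rw [zpow_add, mul_assoc, ← mul_assoc (g' ^ i), ← ((hg'c b hb).zpow_right i).eq]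
        group
      inv_mem' := by
        rintro _ ⟨a, ha, i, rfl⟩
        refine ⟨a⁻¹, H.inv_mem ha, -i, ?_⟩
        rw [mul_inv_rev, ← zpow_neg, ((hg'c a⁻¹ (H.inv_mem ha)).zpow_right (-i)).eq] }
  have hH' : H' = H := by
    refine hmax H' ?_ fun x hx => ⟨x, hx, 0, by simp⟩
    rw [eq_bot_iff]
    rintro x ⟨⟨a, ha, i, rfl⟩, hx⟩
    have hdiv : (m : ℤ) ∣ i := by
      rw [Int.dvd_iff_emod_eq_zero]
      by_contra hne
      have hnn : 0 ≤ i % m := Int.emod_nonneg _ (by omega)
      have hlt : i % (m : ℤ) < m := Int.emod_lt_of_pos _ (by omega)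
      refine Nat.find_min hex (m := (i % (m : ℤ)).toNat) (by rw [← hm]; omega) ⟨by omega, ?_⟩
      rw [← zpow_natCast, Int.toNat_of_nonneg hnn]
      have e : g' ^ i ∈ H ⊔ ι.range := by
        have := Subgroup.mul_mem _ (Subgroup.mem_sup_left (T := ι.range) (H.inv_mem ha))
          (Subgroup.mem_sup_right (S := H) hx)
        rwa [inv_mul_cancel_left] at this
      have e2 : g' ^ (i % (m : ℤ)) ∈ H ⊔ ι.range := by
        rw [Int.emod_def, zpow_sub, zpow_mul, zpow_natCast, hg'm]
        exact Subgroup.mul_mem _ e (Subgroup.inv_mem _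
          (Subgroup.mem_sup_left (Subgroup.zpow_mem _ hh0 _)))
      rw [hg', (hc w g).symm.mul_zpow, ← map_zpow] at e2
      exact (Subgroup.mul_mem_cancel_right _ (Subgroup.mem_sup_right (T := ι.range) ⟨_, rfl⟩)).mp e2
    obtain ⟨q, rfl⟩ := hdiv
    have : a * g' ^ ((m : ℤ) * q) ∈ H ⊓ ι.range := by
      refine ⟨H.mul_mem ha ?_, hx⟩
      rw [zpow_mul, zpow_natCast, hg'm]
      exact Subgroup.zpow_mem _ hh0 _
    rwa [hH] at this
  have hgH : g' ∈ H := hH' ▸ (⟨1, H.one_mem, 1, by simp⟩ : g' ∈ H')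
  have : g' * ι w⁻¹ ∈ H ⊔ ι.range :=
    Subgroup.mul_mem _ (Subgroup.mem_sup_left hgH) (Subgroup.mem_sup_right ⟨_, rfl⟩)
  rwa [hg', mul_assoc, ← map_mul, mul_inv_cancel, map_one, mul_one] at this

include hι hcent hcomm in
theorem E_rho_E [IsAlgClosed k] (hH : H ⊓ ι.range = ⊥)
    (hmax : ∀ H' : Subgroup Γ, H' ⊓ ι.range = ⊥ → H ≤ H' → H' = H) (hρ : W1 ι ρ)
    {g : Γ} (hg : g ∉ H ⊔ ι.range) : E H ρ * ρ g * E H ρ = 0 := by
  have : ¬ ∀ h ∈ H, Commute h g := fun h => hg (mem_J_of_commute H hcent hH hmax h)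
  push Not at this
  obtain ⟨h, hh, hne⟩ := this
  obtain ⟨c, hc⟩ := exists_conj hcomm h g
  have hc1 : (c : k) ≠ 1 := fun h1 => by
    have : c = 1 := Units.ext h1
    rw [this, map_one, one_mul] at hc
    exact hne (show h * g = g * h by conv_rhs => rw [← hc, inv_mul_cancel_right])
  have e : E H ρ * ρ g * E H ρ = (c : k) • (E H ρ * ρ g * E H ρ) := by
    calc E H ρ * ρ g * E H ρ = E H ρ * ρ (h * g * h⁻¹) * E H ρ := by
          simp only [map_mul, mul_assoc, rho_mul_E H _ (H.inv_mem hh)]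
          rw [← mul_assoc (E H ρ) (ρ h), E_mul_rho H _ hh]
      _ = _ := by rw [hc, rho_iota_mul hρ, mul_smul_comm, smul_mul_assoc]
  by_contra hne0
  have e2 : ((c : k) - 1) • (E H ρ * ρ g * E H ρ) = 0 := by rw [sub_smul, ← e, one_smul, sub_self]
  exact (smul_eq_zero.mp e2).elim (fun h0 => hc1 (sub_eq_zero.mp h0)) hne0

include hι hcent hcomm in
theorem finrank_eq_index_mul [IsAlgClosed k] [FiniteDimensional k V] (hH : H ⊓ ι.range = ⊥)
    (hmax : ∀ H' : Subgroup Γ, H' ⊓ ι.range = ⊥ → H ≤ H' → H' = H)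
    (hcard : (Fintype.card (Γ ⧸ ι.range) : k) ≠ 0) (hHcard : (Fintype.card H : k) ≠ 0)
    (hρ : W1 ι ρ) :
    Module.finrank k V =
      Nat.card (Γ ⧸ (H ⊔ ι.range)) * Module.finrank k (invariants (ρ.comp H.subtype)) := by
  classical
  haveI : Finite (Γ ⧸ (H ⊔ ι.range)) :=
    Finite.of_surjective (Quotient.map' id fun a b h => by
      rw [QuotientGroup.leftRel_apply] at h ⊢
      exact Subgroup.mem_sup_right h)
      (fun q => Quotient.inductionOn' q fun g => ⟨Quotient.mk'' g, rfl⟩)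
  haveI := Fintype.ofFinite (Γ ⧸ (H ⊔ ι.range))
  let Ψ : V →ₗ[k] (Γ ⧸ (H ⊔ ι.range) → (invariants (ρ.comp H.subtype))) :=
    LinearMap.pi fun t => ((E H ρ) * ρ (Quotient.out t)⁻¹).codRestrict _
      fun v => E_mem_invariants H _
  have hΨ : Function.Bijective Ψ := by
    constructor
    · rw [← LinearMap.ker_eq_bot, LinearMap.ker_eq_bot']
      intro v hv
      have h1 : ∀ g : Γ, E H ρ (ρ g⁻¹ v) = 0 := by
        intro g
        have ht : E H ρ (ρ (Quotient.out (g : Γ ⧸ (H ⊔ ι.range)))⁻¹ v) = 0 :=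
          congrArg Subtype.val (congrFun hv (g : Γ ⧸ (H ⊔ ι.range)))
        obtain ⟨⟨j, hj⟩, hgj⟩ := QuotientGroup.mk_out_eq_mul (H ⊔ ι.range) g
        haveI : ι.range.Normal := hcent ▸ inferInstance
        obtain ⟨a, ha, _, ⟨z, rfl⟩, hab⟩ := Subgroup.mem_sup_of_normal_right.mp hj
        rw [hgj] at ht
        have : E H ρ (ρ (g * (a * ι z))⁻¹ v) = ((z⁻¹ : kˣ) : k) • E H ρ (ρ g⁻¹ v) := by
          rw [mul_inv_rev, mul_inv_rev, ← map_inv, mul_assoc, rho_iota_mul hρ,
            LinearMap.smul_apply, map_smul, map_mul, Module.End.mul_apply,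
            ← Module.End.mul_apply (E H ρ), E_mul_rho H _ (H.inv_mem ha)]
        simp only [hab] at this ⊢
        rw [ht] at this
        exact (smul_eq_zero.mp this.symm).resolve_left (Units.ne_zero _)
      have h2 := LinearMap.congr_fun (S_E hι hcent hcomm H hH hρ) v
      rw [S_apply, LinearMap.sum_apply, Finset.sum_eq_zero (fun t _ => ?_)] at h2
      · exact (smul_eq_zero.mp h2.symm).resolve_left hcard
      · change ρ (Quotient.out t) (E H ρ (ρ (Quotient.out t)⁻¹ v)) = 0
        rw [h1, map_zero]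
    · intro F
      refine ⟨(Fintype.card H : k)⁻¹ • ∑ t, ρ (Quotient.out t) (F t : V), funext fun s =>
        Subtype.ext ?_⟩
      change E H ρ (ρ (Quotient.out s)⁻¹ ((Fintype.card H : k)⁻¹ • ∑ t, ρ (Quotient.out t) (F t : V)))
        = (F s : V)
      rw [map_smul, map_smul, map_sum, map_sum]
      refine (congrArg _ (Finset.sum_eq_single (s := Finset.univ) s ?_ ?_)).trans ?_
      rotate_left 2
      · rw [← Module.End.mul_apply (ρ _), ← map_mul, inv_mul_cancel, map_one]
        change _ • E H ρ (F s : V) = _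
        rw [E_apply_invariant H (F s).2, smul_smul, inv_mul_cancel₀ hHcard, one_smul]
      · intro t _ hts
        have hnot : (Quotient.out s)⁻¹ * Quotient.out t ∉ H ⊔ ι.range := fun hm => hts (by
          rw [← QuotientGroup.out_eq' t, ← QuotientGroup.out_eq' s]
          exact (QuotientGroup.eq.mpr hm).symm)
        have h3 := LinearMap.congr_fun (E_rho_E hι hcent hcomm H hH hmax hρ hnot) (F t : V)
        simp only [Module.End.mul_apply, E_apply_invariant H (F t).2, map_smul, map_mul,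
          LinearMap.zero_apply] at h3
        exact (smul_eq_zero.mp h3).resolve_left hHcard
      · exact fun h => absurd (Finset.mem_univ s) h
  rw [(LinearEquiv.ofBijective Ψ hΨ).finrank_eq, Module.finrank_pi_fintype, Finset.sum_const,
    Finset.card_univ, Nat.card_eq_fintype_card, smul_eq_mul]

include hι hcent hcomm in
theorem finrank_invariants_eq_one [IsAlgClosed k] [FiniteDimensional k V] [IsIrreducible ρ]
    (hH : H ⊓ ι.range = ⊥)
    (hmax : ∀ H' : Subgroup Γ, H' ⊓ ι.range = ⊥ → H ≤ H' → H' = H)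
    (hcard : (Fintype.card (Γ ⧸ ι.range) : k) ≠ 0) (hHcard : (Fintype.card H : k) ≠ 0)
    (hρ : W1 ι ρ) : Module.finrank k (invariants (ρ.comp H.subtype)) = 1 := by
  haveI := nontrivial_of_irreducible (ρ := ρ)
  haveI : ι.range.Normal := hcent ▸ inferInstance
  have hscal : ∀ f : Module.End k V, ∃ c : k, E H ρ * f * E H ρ = c • E H ρ := by
    intro f
    have hle : (⊤ : Submodule k (Module.End k V)) ≤ (Submodule.span k {E H ρ}).comap
        ((LinearMap.mulRight k (E H ρ)).comp (LinearMap.mulLeft k (E H ρ))) := by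
      rw [← span_rho hι hcent hcomm hcard hρ, Submodule.span_le]
      rintro _ ⟨g, rfl⟩
      beta_reduce
      rw [SetLike.mem_coe, Submodule.mem_comap, LinearMap.comp_apply, LinearMap.mulLeft_apply,
        LinearMap.mulRight_apply]
      by_cases hg : g ∈ H ⊔ ι.range
      · obtain ⟨a, ha, _, ⟨z, rfl⟩, rfl⟩ := Subgroup.mem_sup_of_normal_right.mp hg
        rw [rho_mul_iota hρ, mul_smul_comm, smul_mul_assoc, E_mul_rho H _ ha, E_mul_E]
        exact Submodule.smul_mem _ _ (Submodule.smul_mem _ _ (Submodule.mem_span_singleton_self _))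
      · rw [E_rho_E hι hcent hcomm H hH hmax hρ hg]; exact Submodule.zero_mem _
    obtain ⟨c, hc⟩ := Submodule.mem_span_singleton.mp (hle (Submodule.mem_top (x := f)))
    exact ⟨c, hc.symm⟩
  have hE : E H ρ ≠ 0 := fun h0 => by
    have := S_E hι hcent hcomm H hH hρ (ρ := ρ)
    rw [h0, map_zero] at this
    exact (smul_eq_zero.mp this.symm).elim hcard one_ne_zero
  obtain ⟨v, hv⟩ : ∃ v, E H ρ v ≠ 0 := by
    by_contra hno; push Not at hno; exact hE (LinearMap.ext hno)
  refine finrank_eq_one (⟨E H ρ v, E_mem_invariants H v⟩ : (invariants (ρ.comp H.subtype)))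
    (fun h => hv (congrArg Subtype.val h)) fun w => ?_
  obtain ⟨φ, hφ⟩ := (by
    by_contra hno; push Not at hno
    exact hv ((Module.forall_dual_apply_eq_zero_iff k _).mp hno) :
    ∃ φ : Module.Dual k V, φ (E H ρ v) ≠ 0)
  obtain ⟨c, hc⟩ := hscal (φ.smulRight ((φ (E H ρ v))⁻¹ • ((Fintype.card H : k)⁻¹ • (w : V))))
  refine ⟨c, Subtype.ext ?_⟩
  have h := LinearMap.congr_fun hc v
  simp only [Module.End.mul_apply, LinearMap.smulRight_apply, LinearMap.smul_apply] at h
  rw [smul_inv_smul₀ hφ, map_smul, E_apply_invariant H w.2, inv_smul_smul₀ hHcard] at h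
  exact h.symm

end level

end general

/-- Existence of an irreducible weight-one representation, inside a given nonzero one. -/
theorem exists_irreducible_sub {V : Type w} [AddCommGroup V] [Module k V] [FiniteDimensional k V]
    [Nontrivial V] (ρ : Representation k Γ V) :
    ∃ U : Subrepresentation ρ, IsIrreducible U.toRepresentation := by
  classical
  have hex : ∃ n, ∃ U : Subrepresentation ρ, U.toSubmodule ≠ ⊥ ∧
      Module.finrank k U.toSubmodule = n := ⟨_, ⊤, top_ne_bot, rfl⟩
  obtain ⟨U, hU0, hUn⟩ := Nat.find_spec hex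
  refine ⟨U, ?_⟩
  haveI : Nontrivial (Subrepresentation U.toRepresentation) := by
    refine ⟨⊥, ⊤, fun h => ?_⟩
    obtain ⟨x, hx, hx0⟩ := Submodule.exists_mem_ne_zero_of_ne_bot hU0
    have hm : (⟨x, hx⟩ : U.toSubmodule) ∈
        (⊤ : Subrepresentation U.toRepresentation).toSubmodule := Submodule.mem_top
    rw [← h] at hm
    exact hx0 (congrArg Subtype.val ((Submodule.mem_bot k).mp hm))
  refine IsSimpleOrder.mk fun A => ?_
  by_cases hA : A.toSubmodule = ⊥
  · exact Or.inl (Subrepresentation.toSubmodule_injective hA)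
  right
  apply Subrepresentation.toSubmodule_injective
  change A.toSubmodule = ⊤
  apply Submodule.eq_top_of_finrank_eq
  refine le_antisymm (Submodule.finrank_le _) ?_
  rw [hUn]
  let A' : Subrepresentation ρ := ⟨A.toSubmodule.map U.toSubmodule.subtype, by
    rintro g _ ⟨x, hx, rfl⟩
    exact ⟨_, A.apply_mem_toSubmodule g hx, rfl⟩⟩
  refine le_trans (Nat.find_le ⟨A', ?_, rfl⟩) (le_of_eq (Submodule.finrank_map_subtype_eq _ _))
  intro h0
  exact hA (Submodule.map_injective_of_injective (f := U.toSubmodule.subtype) Subtype.val_injective (h0.trans (Submodule.map_bot _).symm))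

/-- Weight one functions on `Γ`. -/
def funs (ι : kˣ →* Γ) : Submodule k (Γ → k) where
  carrier := {f | ∀ (z : kˣ) (g : Γ), f (ι z * g) = (z : k) * f g}
  zero_mem' := by simp
  add_mem' := by intro a b ha hb z g; simp [ha z g, hb z g, mul_add]
  smul_mem' := by intro c a ha z g; simp [ha z g]; ring

/-- Right translation on weight one functions. -/
def funsRep (ι : kˣ →* Γ) : Representation k Γ (funs ι) where
  toFun x :=
    { toFun := fun f => ⟨fun g => f.1 (g * x), fun z g => by
        change f.1 (ι z * g * x) = _; rw [mul_assoc]; exact f.2 z (g * x)⟩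
      map_add' := fun f g => rfl
      map_smul' := fun c f => rfl }
  map_one' := by ext f g; simp
  map_mul' x y := by ext f g; simp [mul_assoc]

theorem funsRep_W1 (hcent : ι.range = Subgroup.center Γ) : W1 ι (funsRep ι) := by
  intro z f
  apply Subtype.ext; funext g
  have hz : ι z ∈ Subgroup.center Γ := hcent ▸ ⟨z, rfl⟩
  change f.1 (g * ι z) = (z : k) * f.1 g
  rw [Subgroup.mem_center_iff.mp hz g, f.2 z g]

theorem funs_finite (hcent : ι.range = Subgroup.center Γ) [Finite (Γ ⧸ ι.range)] :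
    Module.Finite k (funs ι) := by
  let r : funs ι →ₗ[k] (Γ ⧸ ι.range → k) :=
    (LinearMap.funLeft k k (fun t : Γ ⧸ ι.range => Quotient.out t)).comp (funs ι).subtype
  refine Module.Finite.of_injective r ?_
  rw [← LinearMap.ker_eq_bot, LinearMap.ker_eq_bot']
  intro f hf
  apply Subtype.ext; funext g
  obtain ⟨⟨_, z, rfl⟩, hz⟩ := QuotientGroup.mk_out_eq_mul ι.range g
  have h0 : f.1 (g * ι z) = 0 := hz ▸ congrFun hf (g : Γ ⧸ ι.range)
  have hzc : ι z ∈ Subgroup.center Γ := hcent ▸ ⟨z, rfl⟩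
  rw [Subgroup.mem_center_iff.mp hzc g, f.2 z g] at h0
  exact (mul_eq_zero.mp h0).resolve_left z.ne_zero

theorem funs_nontrivial (hι : Function.Injective ι) : Nontrivial (funs ι) := by
  classical
  let F : Γ → k := fun g => if h : g ∈ ι.range then ((Classical.choose h : kˣ) : k) else 0
  have hF : F ∈ funs ι := by
    intro z g
    by_cases h : g ∈ ι.range
    · have h' : ι z * g ∈ ι.range := ι.range.mul_mem ⟨z, rfl⟩ h
      simp only [F, dif_pos h, dif_pos h', ← Units.val_mul]
      congr 1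
      apply hι
      rw [map_mul, Classical.choose_spec h, Classical.choose_spec h']
    · have h' : ι z * g ∉ ι.range := fun h' =>
        h ((ι.range.mul_mem_cancel_left ⟨z, rfl⟩).mp h')
      simp only [F, dif_neg h, dif_neg h', mul_zero]
  refine ⟨⟨F, hF⟩, 0, fun h => ?_⟩
  have h1 : (1 : Γ) ∈ ι.range := ι.range.one_mem
  have := congrFun (congrArg Subtype.val h) 1
  simp only [F, dif_pos h1] at this
  exact Units.ne_zero _ this

end Groth.Agent.CommAlg4.ThetaRep
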