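import Mathlib
import Groth.Agent.CommAlg4.TopPowInvertible

/-!
# Annihilator of the top exterior power of a quotient by one element
-/

set_option autoImplicit false
set_option linter.all false
set_option backward.isDefEq.respectTransparency false

universe u

open TensorProduct

namespace Groth.Agent.CommAlg4.TopPowQuotient

variable {R P : Type u} [CommRing R] [AddCommGroup P] [Module R P]

open exteriorPower in
theorem eq_zero_of_rank_lt [Module.Finite R P] [Module.Projective R P] {n : ℕ}
    (hn : ∀ q : PrimeSpectrum R, Module.rankAtStalk P q = n) (x : ↥(⋀[R]^(n + 1) P)) : x = 0 := by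
  by_contra hne
  have hlt : LinearMap.ker (LinearMap.toSpanSingleton R _ x) ≠ ⊤ := fun htop => hne (by
    have h1 : (1 : R) ∈ LinearMap.ker (LinearMap.toSpanSingleton R _ x) := htop ▸ Submodule.mem_top
    simpa using h1)
  obtain ⟨q, hq, hle⟩ := Ideal.exists_le_maximal _ hlt
  haveI : q.IsPrime := hq.isPrime
  let Rq := Localization.AtPrime q
  let Mq := LocalizedModule q.primeCompl P
  let f := LocalizedModule.mkLinearMap q.primeCompl P
  have hf : IsBaseChange Rq f := (isLocalizedModule_iff_isBaseChange q.primeCompl Rq f).1 inferInstance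
  let g : ↥(⋀[R]^(n + 1) P) →ₗ[R] ↥(⋀[Rq]^(n + 1) Mq) :=
    alternatingMapLinearEquiv
      { toFun := fun v => ιMulti Rq (n + 1) (f ∘ v)
        map_update_add' := fun v i x y => by
          simp only [Function.comp_update, map_add, AlternatingMap.map_update_add]
        map_update_smul' := fun v i r x => by
          simp only [Function.comp_update, map_smul]
          rw [← algebraMap_smul Rq r, AlternatingMap.map_update_smul, algebraMap_smul]
        map_eq_zero_of_eq' := fun v i j h hij =>
          (ιMulti Rq (n + 1)).map_eq_zero_of_eq _ (congrArg f h) hij }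
  have hg := DR15.exteriorPower_isBaseChange hf (n + 1) g (fun v => by
    rw [alternatingMapLinearEquiv_apply_ιMulti]; rfl)
  haveI : IsLocalizedModule q.primeCompl g := (isLocalizedModule_iff_isBaseChange q.primeCompl Rq g).2 hg
  haveI : Module.Free Rq Mq := Module.free_of_flat_of_isLocalRing
  have hr : Module.finrank Rq Mq = n := hn ⟨q, inferInstance⟩
  haveI : Nontrivial Rq := inferInstance
  have h1 : Subsingleton ↥(⋀[Rq]^(n + 1) Mq) := by
    refine Module.finrank_eq_zero_iff_of_free Rq _ |>.mp ?_
    rw [exteriorPower.finrank_eq, hr]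
    exact Nat.choose_eq_zero_of_lt (Nat.lt_succ_self n)
  obtain ⟨v, hv⟩ := (IsLocalizedModule.eq_iff_exists q.primeCompl g).1 (Subsingleton.elim (g x) (g 0))
  refine v.2 (hle ?_)
  rw [smul_zero] at hv
  exact hv

variable {Ω : Type u} [AddCommGroup Ω] [Module R Ω] (π : P →ₗ[R] Ω) (w : P)

/-- The ideal of values at `w` of the forms on `P`. -/
noncomputable def evIdeal : Ideal R := LinearMap.range (Module.Dual.eval R P w)

theorem mem_evIdeal (φ : Module.Dual R P) : φ w ∈ evIdeal (R := R) w := ⟨φ, rfl⟩

variable {π w}

theorem evIdeal_le [Module.Finite R P] [Module.Projective R P] {n : ℕ}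
    (hn : ∀ q : PrimeSpectrum R, Module.rankAtStalk P q = n) (hπ : Function.Surjective π) (hw : π w = 0) :
    evIdeal (R := R) w ≤ (⋀[R]^n Ω).annihilator := by
  rintro _ ⟨φ, rfl⟩
  show φ w ∈ _
  have key : ∀ v : Fin n → Ω, φ w • exteriorPower.ιMulti R n v = 0 := by
    intro v
    obtain ⟨u, rfl⟩ : ∃ u : Fin n → P, v = π ∘ u := ⟨fun i => (hπ (v i)).choose, funext fun i => (hπ (v i)).choose_spec.symm⟩
    apply Subtype.ext
    show φ w • ExteriorAlgebra.ιMulti R n (π ∘ u) = 0
    have h0 : ExteriorAlgebra.ι R w * ExteriorAlgebra.ιMulti R n u = 0 := by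
      have := congrArg Subtype.val (eq_zero_of_rank_lt hn (exteriorPower.ιMulti R (n + 1) (Matrix.vecCons w u)))
      rw [exteriorPower.ιMulti_apply_coe, ExteriorAlgebra.ιMulti_succ_apply] at this
      simpa using this
    have h1 : (0 : ExteriorAlgebra R P) = φ w • ExteriorAlgebra.ιMulti R n u -
        ExteriorAlgebra.ι R w * CliffordAlgebra.contractLeft φ (ExteriorAlgebra.ιMulti R n u) := by
      rw [← CliffordAlgebra.contractLeft_ι_mul]
      show 0 = CliffordAlgebra.contractLeft φ (ExteriorAlgebra.ι R w * _)
      rw [h0, map_zero]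
    have h2 := congrArg (ExteriorAlgebra.map π) h1
    rw [map_zero, map_sub, map_smul, map_mul, ExteriorAlgebra.map_apply_ι, hw, map_zero, zero_mul, sub_zero,
      ExteriorAlgebra.map_apply_ιMulti] at h2
    exact h2.symm
  refine Submodule.mem_annihilator.2 fun x hx => ?_
  have h3 : φ w • (⟨x, hx⟩ : ↥(⋀[R]^n Ω)) = 0 := by
    have h4 : (⟨x, hx⟩ : ↥(⋀[R]^n Ω)) ∈ Submodule.span R (Set.range (exteriorPower.ιMulti R n)) := by
      rw [exteriorPower.ιMulti_span]; trivial
    generalize (⟨x, hx⟩ : ↥(⋀[R]^n Ω)) = y at h4 ⊢
    induction h4 using Submodule.span_induction with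
    | mem y hy => obtain ⟨v, rfl⟩ := hy; exact key v
    | zero => exact smul_zero _
    | add y z _ _ hy hz => rw [smul_add, hy, hz, add_zero]
    | smul c y _ hy => rw [smul_comm, hy, smul_zero]
  exact congrArg Subtype.val h3

theorem le_evIdeal [Module.Finite R P] [Module.Projective R P] {n : ℕ}
    (hn : ∀ q : PrimeSpectrum R, Module.rankAtStalk P q = n) (hπ : Function.Surjective π)
    (hker : LinearMap.ker π ≤ R ∙ w) :
    (⋀[R]^n Ω).annihilator ≤ evIdeal (R := R) w := by
  intro c hc
  haveI := TopPowInvertible.invertible_exteriorPower R P n hn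
  let I := evIdeal (R := R) w
  let s := Function.surjInv hπ
  have hs : ∀ z, π (s z) = z := Function.surjInv_eq hπ
  have main : ∀ (ψ : Module.Dual R ↥(⋀[R]^n P)) (x : ↥(⋀[R]^n P)), c * ψ x ∈ I := by
    intro ψ
    let F : P [⋀^Fin n]→ₗ[R] (R ⧸ I) := (I.mkQ ∘ₗ ψ).compAlternatingMap (exteriorPower.ιMulti R n)
    have hF0 : ∀ (v : Fin n → P) (i : Fin n), F (Function.update v i w) = 0 := fun v i => by
      let L : Module.Dual R P := ψ ∘ₗ (exteriorPower.ιMulti R n).toMultilinearMap.toLinearMap v i
      exact (Submodule.Quotient.mk_eq_zero _).2 (show L w ∈ I from mem_evIdeal w L)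
    have hFk : ∀ (v : Fin n → P) (i : Fin n) (a b : P), π a = π b → F (Function.update v i a) = F (Function.update v i b) := by
      intro v i a b hab
      obtain ⟨k, hk⟩ := Submodule.mem_span_singleton.1 (hker (show a - b ∈ LinearMap.ker π by
        rw [LinearMap.mem_ker, map_sub, hab, sub_self]))
      rw [show a = k • w + b by rw [hk]; abel, AlternatingMap.map_update_add, AlternatingMap.map_update_smul, hF0,
        smul_zero, zero_add]
    let G : Ω [⋀^Fin n]→ₗ[R] (R ⧸ I) :=
      { toFun := fun v => F (s ∘ v)
        map_update_add' := by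
          intro inst v i x y
          obtain rfl : inst = instDecidableEqFin n := Subsingleton.elim _ _
          simp only [Function.comp_update]
          rw [hFk (s ∘ v) i (s (x + y)) (s x + s y) (by rw [map_add, hs, hs, hs]), AlternatingMap.map_update_add]
        map_update_smul' := by
          intro inst v i r x
          obtain rfl : inst = instDecidableEqFin n := Subsingleton.elim _ _
          simp only [Function.comp_update]
          rw [hFk (s ∘ v) i (s (r • x)) (r • s x) (by rw [map_smul, hs, hs]), AlternatingMap.map_update_smul]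
        map_eq_zero_of_eq' := fun v i j h hij => F.map_eq_zero_of_eq _ (congrArg s h) hij }
    have hGF : ∀ (u : Fin n → P), G (π ∘ u) = F u := by
      intro u
      have h : ∀ t : Finset (Fin n), F (t.piecewise (s ∘ π ∘ u) u) = F u := by
        intro t
        induction t using Finset.induction with
        | empty => simp
        | insert i t hi ih =>
          rw [Finset.piecewise_insert, hFk _ i ((s ∘ π ∘ u) i) (u i) (hs _)]
          conv_rhs => rw [← ih]
          congr 1
          rw [Function.update_eq_self_iff, Finset.piecewise_eq_of_notMem _ _ _ hi]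
      show F (s ∘ π ∘ u) = F u
      have := h Finset.univ
      rwa [Finset.piecewise_univ] at this
    let L := exteriorPower.alternatingMapLinearEquiv G
    have hL : ∀ x, L (exteriorPower.map n π x) = I.mkQ (ψ x) := by
      intro x
      have h : L ∘ₗ exteriorPower.map n π = I.mkQ ∘ₗ ψ := by
        apply exteriorPower.linearMap_ext
        ext u
        show L (exteriorPower.map n π (exteriorPower.ιMulti R n u)) = _
        rw [exteriorPower.map_apply_ιMulti, exteriorPower.alternatingMapLinearEquiv_apply_ιMulti, hGF]
      exact LinearMap.congr_fun h x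
    intro x
    have h0 : c • exteriorPower.map n π x = 0 :=
      Subtype.ext (Submodule.mem_annihilator.1 hc _ (exteriorPower.map n π x).2)
    have h5 := congrArg L h0
    rw [map_zero, map_smul, hL, ← map_smul] at h5
    exact (Submodule.Quotient.mk_eq_zero _).1 h5
  obtain ⟨z, hz⟩ := (Module.Invertible.bijective (R := R) (M := ↥(⋀[R]^n P))).2 (1 : R)
  suffices ∀ z, c * contractLeft R ↥(⋀[R]^n P) z ∈ I by simpa [hz] using this z
  intro z
  induction z using TensorProduct.induction_on with
  | zero => simp
  | tmul ψ x => rw [contractLeft_apply]; exact main ψ x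
  | add a b ha hb => rw [map_add, mul_add]; exact I.add_mem ha hb

theorem annihilator_eq [Module.Finite R P] [Module.Projective R P] {n : ℕ}
    (hn : ∀ q : PrimeSpectrum R, Module.rankAtStalk P q = n) (hπ : Function.Surjective π)
    (hker : LinearMap.ker π = R ∙ w) :
    (⋀[R]^n Ω).annihilator = evIdeal (R := R) w :=
  le_antisymm (le_evIdeal hn hπ hker.le)
    (evIdeal_le hn hπ (LinearMap.mem_ker.1 (hker.ge (Submodule.mem_span_singleton_self w))))

end Groth.Agent.CommAlg4.TopPowQuotient
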