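import Mathlib
import Groth.Agent.DVRDom.Section
import Groth.Agent.Stk19b.DvrImmersion
import Groth.Agent.CAlgSmall.ValExtend

/-!
# Extension of morphisms across closed subsets, tested on traits
-/

set_option autoImplicit false
set_option linter.all false
set_option backward.isDefEq.respectTransparency false

universe u

open CategoryTheory CategoryTheory.Limits AlgebraicGeometry TopologicalSpace IsLocalRing

namespace Groth.Agent.CommAlg4.TraitExtension

theorem dense_preimage {X S : Scheme.{u}} [IsLocallyNoetherian S] (f : X ⟶ S) [Flat f] (U : S.Opens)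
    (hU : Dense (U : Set S)) : Dense ((f ⁻¹ᵁ U : X.Opens) : Set X) := by
  classical
  refine dense_iff_inter_open.2 fun W hW ⟨x, hx⟩ => ?_
  obtain ⟨V, hV, hxV, -⟩ := exists_isAffineOpen_mem_and_subset (x := f x) (U := ⊤) trivial
  haveI : IsAffine (V : Scheme.{u}) := hV
  haveI : CompactSpace (V : Scheme.{u}) := inferInstance
  haveI : IsNoetherian (V : Scheme.{u}) := {}
  obtain ⟨C, hC, hxC⟩ : ∃ C ∈ irreducibleComponents (V : Scheme.{u}), (⟨f x, hxV⟩ : (V : Scheme.{u})) ∈ C :=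
    ⟨_, irreducibleComponent_mem_irreducibleComponents _, mem_irreducibleComponent⟩
  have hCc := isClosed_of_mem_irreducibleComponents C hC
  obtain ⟨η, hη⟩ := QuasiSober.sober hC.1 hCc
  have hηx : V.ι η ⤳ f x := (hη.specializes hxC).map V.ι.continuous
  let R := ⋃₀ (irreducibleComponents (V : Scheme.{u}) \ {C})
  have hR : IsClosed R := by
    have hfin : (irreducibleComponents (V : Scheme.{u}) \ {C}).Finite :=
      NoetherianSpace.finite_irreducibleComponents.subset Set.sdiff_subset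
    show IsClosed (⋃₀ _)
    rw [Set.sUnion_eq_biUnion]
    exact hfin.isClosed_biUnion fun D hD => isClosed_of_mem_irreducibleComponents D hD.1
  have hηR : η ∉ R := fun ⟨D, hD, hηD⟩ => hD.2 (hC.eq_of_subset hD.1.1
    (hη.def ▸ (isClosed_of_mem_irreducibleComponents D hD.1).closure_subset_iff.2 (Set.singleton_subset_iff.2 hηD))).symm
  obtain ⟨u, huo, huU⟩ := (hU.preimage V.ι.isOpenEmbedding.isOpenMap).exists_mem_open hR.isOpen_compl ⟨η, hηR⟩
  have huC : u ∈ C := by
    by_contra h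
    exact huU ⟨_, ⟨irreducibleComponent_mem_irreducibleComponents u, fun e => h (e ▸ mem_irreducibleComponent)⟩,
      mem_irreducibleComponent⟩
  have hηU : V.ι η ∈ U := ((hη.specializes huC).map V.ι.continuous).mem_open U.2 huo
  obtain ⟨x', hx', he⟩ := Flat.generalizingMap f hηx
  exact ⟨x', hx'.mem_open hW hx, show f x' ∈ U from he ▸ hηU⟩

/-- A point of a field in the image of a closed immersion factors through it. -/
theorem exists_point_lift {X Z : Scheme.{u}} (i : Z ⟶ X) [IsClosedImmersion i] {κ : Type u} [Field κ]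
    (p : Spec (CommRingCat.of κ) ⟶ X) (hp : p (closedPoint κ) ∈ Set.range i) :
    ∃ ζ : Spec (CommRingCat.of κ) ⟶ Z, ζ ≫ i = p := by
  haveI : Surjective (pullback.snd i p) := ⟨fun x => by
    obtain rfl : x = closedPoint κ := Subsingleton.elim _ _
    obtain ⟨z, hz⟩ := hp
    obtain ⟨w, -, hw⟩ := Scheme.Pullback.exists_preimage_pullback (f := i) (g := p) z (closedPoint κ) hz
    exact ⟨w, hw⟩⟩
  haveI : IsIso (pullback.snd i p) := isIso_of_isClosedImmersion_of_surjective _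
  exact ⟨inv (pullback.snd i p) ≫ pullback.fst i p, by simp [pullback.condition]⟩

variable {X Y S : Scheme.{u}} (f : X ⟶ S) (g : Y ⟶ S) (U : S.Opens) (h : ↑(f ⁻¹ᵁ U) ⟶ Y)
  {Z : Scheme.{u}} (iZ : Z ⟶ X) (h₀ : Z ⟶ Y)

/-- The data obtained from the extension property on traits. -/
def TraitData : Prop :=
  ∀ (R : Type u) [CommRing R] [IsDomain R] [IsDiscreteValuationRing R] (r : Spec (CommRingCat.of R) ⟶ X),
    r (closedPoint R) ∉ f ⁻¹ᵁ U → r (genericPoint ↥(Spec (CommRingCat.of R))) ∈ f ⁻¹ᵁ U →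
    ∃ c : Spec (CommRingCat.of R) ⟶ Y, c ≫ g = r ≫ f ∧
      (∀ γ : Spec (CommRingCat.of (FractionRing R)) ⟶ ↑(f ⁻¹ᵁ U),
        γ ≫ (f ⁻¹ᵁ U).ι = Spec.map (CommRingCat.ofHom (algebraMap R (FractionRing R))) ≫ r →
          Spec.map (CommRingCat.ofHom (algebraMap R (FractionRing R))) ≫ c = γ ≫ h) ∧
      (∀ ζ : Spec (CommRingCat.of (ResidueField R)) ⟶ Z,
        ζ ≫ iZ = Spec.map (CommRingCat.ofHom (residue R)) ≫ r →
          Spec.map (CommRingCat.ofHom (residue R)) ≫ c = ζ ≫ h₀)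

theorem genericPoint_spec_eq (R : Type u) [CommRing R] [IsDomain R] (z : Spec (CommRingCat.of (FractionRing R))) :
    Spec.map (CommRingCat.ofHom (algebraMap R (FractionRing R))) z = genericPoint ↥(Spec (CommRingCat.of R)) := by
  rw [AlgebraicGeometry.genericPoint_eq_bot_of_affine]
  refine PrimeSpectrum.ext ?_
  show Ideal.comap (algebraMap R (FractionRing R)) z.asIdeal = ⊥
  rw [(Ideal.eq_bot_or_top z.asIdeal).resolve_right z.isPrime.ne_top, ← RingHom.ker_eq_comap_bot,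
    (RingHom.injective_iff_ker_eq_bot _).1 (IsFractionRing.injective R (FractionRing R))]

theorem exists_local_extension [IsLocallyNoetherian S] [IsLocallyNoetherian X] [Flat f] [LocallyOfFiniteType g]
    [IsClosedImmersion iZ] (hU : Dense (U : Set S)) (hh : h ≫ g = (f ⁻¹ᵁ U).ι ≫ f)
    (hh₀ : h₀ ≫ g = iZ ≫ f) (hZ : Set.range iZ = ((f ⁻¹ᵁ U : X.Opens) : Set X)ᶜ)
    (H : TraitData f g U h iZ h₀) (z : Z) [IsDomain (X.presheaf.stalk (iZ z))]
    (hz : IsIntegrallyClosed (X.presheaf.stalk (iZ z))) :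
    ∃ (W : X.Opens) (φ : (W : Scheme.{u}) ⟶ Y), iZ z ∈ W ∧ φ ≫ g = W.ι ≫ f ∧
      (∀ (T : Scheme.{u}) (a : T ⟶ (W : Scheme.{u})) (b : T ⟶ ↑(f ⁻¹ᵁ U)),
        a ≫ W.ι = b ≫ (f ⁻¹ᵁ U).ι → a ≫ φ = b ≫ h) ∧
      (∀ (z' : Z) (hz' : iZ z' ∈ W), φ ⟨iZ z', hz'⟩ = h₀ z') ∧
      (∀ (κ : Type u) [Field κ] (a : Spec (CommRingCat.of κ) ⟶ (W : Scheme.{u})) (b : Spec (CommRingCat.of κ) ⟶ Z),
        a ≫ W.ι = b ≫ iZ → a ≫ φ = b ≫ h₀) := by
  classical
  have hX : Dense ((f ⁻¹ᵁ U : X.Opens) : Set X) := dense_preimage f U hU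
  have hzU : iZ z ∉ f ⁻¹ᵁ U := fun hmem => (hZ.le ⟨z, rfl⟩) hmem
  let Y' := pullback f g
  let q : Y' ⟶ X := pullback.fst f g
  let h' : ↑(f ⁻¹ᵁ U) ⟶ Y' := pullback.lift (f ⁻¹ᵁ U).ι h hh.symm
  let s₀ : Z ⟶ Y' := pullback.lift iZ h₀ hh₀.symm
  obtain ⟨U', hUU', hxU', φ', hφ'q, hφ'h, hφ'z⟩ := DVRDom.exists_extension q (f ⁻¹ᵁ U) hX h'
    (pullback.lift_fst _ _ _) (iZ z) hzU hz (s₀ z)
    (by rw [← Scheme.Hom.comp_apply, pullback.lift_fst]) (fun R _ _ _ r hr ub hub => by
      have hgen : r (genericPoint ↥(Spec (CommRingCat.of R))) ∈ f ⁻¹ᵁ U := by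
        rw [← genericPoint_spec_eq R default, ← Scheme.Hom.comp_apply, ← hub, Scheme.Hom.comp_apply]
        exact (ub default).2
      obtain ⟨c, hc, hcgen, hccl⟩ := H R r (hr ▸ hzU) hgen
      obtain ⟨ζ, hζ⟩ := exists_point_lift iZ (Spec.map (CommRingCat.ofHom (residue R)) ≫ r) ⟨z, by
        rw [Scheme.Hom.comp_apply, ← hr]
        exact congrArg r (IsLocalRing.comap_closedPoint (residue R)).symm⟩
      refine ⟨pullback.lift r c hc.symm, pullback.lift_fst _ _ _, ?_, ?_⟩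
      · have hζz : ζ (closedPoint _) = z := iZ.isClosedEmbedding.injective (by
          rw [← Scheme.Hom.comp_apply, hζ, Scheme.Hom.comp_apply, ← hr]
          exact congrArg r (IsLocalRing.comap_closedPoint (residue R)))
        have he : Spec.map (CommRingCat.ofHom (residue R)) ≫ pullback.lift r c hc.symm = ζ ≫ s₀ := by
          apply pullback.hom_ext
          · rw [Category.assoc, pullback.lift_fst, Category.assoc, pullback.lift_fst, hζ]
          · rw [Category.assoc, pullback.lift_snd, Category.assoc, pullback.lift_snd, hccl ζ hζ]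
        rw [← hζz, ← Scheme.Hom.comp_apply, ← he, Scheme.Hom.comp_apply]
        exact congrArg _ (IsLocalRing.comap_closedPoint (residue R)).symm
      · apply pullback.hom_ext
        · rw [Category.assoc, pullback.lift_fst, Category.assoc, pullback.lift_fst, hub]
        · rw [Category.assoc, pullback.lift_snd, Category.assoc, pullback.lift_snd, hcgen ub hub])
  let φ₁ : (U' : Scheme.{u}) ⟶ Y := φ' ≫ pullback.snd f g
  have hφ₁ : φ₁ ≫ g = U'.ι ≫ f := by
    rw [Category.assoc, ← pullback.condition, reassoc_of% hφ'q]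
  have hφ₁h : X.homOfLE hUU' ≫ φ₁ = h := by rw [reassoc_of% hφ'h, pullback.lift_snd]
  have hφ₁z : φ₁ ⟨iZ z, hxU'⟩ = h₀ z := by
    rw [Scheme.Hom.comp_apply, hφ'z, ← Scheme.Hom.comp_apply, pullback.lift_snd]
  obtain ⟨V, hV, hzV, -⟩ := exists_isAffineOpen_mem_and_subset (x := h₀ z) (U := ⊤) trivial
  obtain ⟨O, hO, hOV⟩ := iZ.isClosedEmbedding.isInducing.isOpen_iff.1 (h₀ ⁻¹ᵁ V).2
  let W : X.Opens := U'.ι ''ᵁ (φ₁ ⁻¹ᵁ V) ⊓ ⟨O, hO⟩
  have hWU : W ≤ U' := inf_le_left.trans (Scheme.Hom.image_le_opensRange _ _ |>.trans U'.opensRange_ι.le)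
  let φ : (W : Scheme.{u}) ⟶ Y := X.homOfLE hWU ≫ φ₁
  have hzW : iZ z ∈ W := ⟨⟨⟨iZ z, hxU'⟩, show φ₁ ⟨iZ z, hxU'⟩ ∈ V from hφ₁z ▸ hzV, rfl⟩,
    (Set.ext_iff.1 hOV z).2 hzV⟩
  have hWV : ∀ w : (W : Scheme.{u}), φ w ∈ V := fun w => by
    obtain ⟨⟨y, hy, hyw⟩, -⟩ := w.2
    have : X.homOfLE hWU w = y := U'.ι.isOpenEmbedding.injective (by
      rw [← Scheme.Hom.comp_apply, Scheme.homOfLE_ι]; exact hyw.symm)
    rw [Scheme.Hom.comp_apply, this]
    exact hy
  have hUpart : ∀ (T : Scheme.{u}) (a : T ⟶ (W : Scheme.{u})) (b : T ⟶ ↑(f ⁻¹ᵁ U)),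
      a ≫ W.ι = b ≫ (f ⁻¹ᵁ U).ι → a ≫ φ = b ≫ h := fun T a b hab => by
    have : a ≫ X.homOfLE hWU = b ≫ X.homOfLE hUU' := by
      rw [← cancel_mono U'.ι, Category.assoc, Scheme.homOfLE_ι, Category.assoc, Scheme.homOfLE_ι, hab]
    rw [reassoc_of% this, hφ₁h]
  have hres : ∀ (z' : Z) (hz' : iZ z' ∈ W), ∃ (κ' : Type u) (_ : Field κ') (a : Spec (CommRingCat.of κ') ⟶ (W : Scheme.{u}))
      (b : Spec (CommRingCat.of κ') ⟶ Z), b (closedPoint κ') = z' ∧ a ≫ W.ι = b ≫ iZ ∧ a ≫ φ = b ≫ h₀ := fun z' hz' => by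
    have hz'U : iZ z' ∉ f ⁻¹ᵁ U := fun hmem => (hZ.le ⟨z', rfl⟩) hmem
    obtain ⟨ξ, hξU, hξ⟩ : ∃ ξ ∈ f ⁻¹ᵁ U, ξ ⤳ iZ z' := by
      obtain ⟨A, hA, hzA, -⟩ := exists_isAffineOpen_mem_and_subset (x := iZ z') (U := ⊤) trivial
      haveI : IsAffine (A : Scheme.{u}) := hA
      haveI : IsNoetherian (A : Scheme.{u}) := {}
      obtain ⟨C, hC, hxC⟩ : ∃ C ∈ irreducibleComponents (A : Scheme.{u}), (⟨iZ z', hzA⟩ : (A : Scheme.{u})) ∈ C :=
        ⟨_, irreducibleComponent_mem_irreducibleComponents _, mem_irreducibleComponent⟩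
      obtain ⟨η, hη⟩ := QuasiSober.sober hC.1 (isClosed_of_mem_irreducibleComponents C hC)
      let R := ⋃₀ (irreducibleComponents (A : Scheme.{u}) \ {C})
      have hR : IsClosed R := by
        show IsClosed (⋃₀ _)
        rw [Set.sUnion_eq_biUnion]
        exact (NoetherianSpace.finite_irreducibleComponents.subset Set.sdiff_subset).isClosed_biUnion
          fun D hD => isClosed_of_mem_irreducibleComponents D hD.1
      have hηR : η ∉ R := fun ⟨D, hD, hηD⟩ => hD.2 (hC.eq_of_subset hD.1.1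
        (hη.def ▸ (isClosed_of_mem_irreducibleComponents D hD.1).closure_subset_iff.2 (Set.singleton_subset_iff.2 hηD))).symm
      obtain ⟨u, huo, huU⟩ := (hX.preimage A.ι.isOpenEmbedding.isOpenMap).exists_mem_open hR.isOpen_compl ⟨η, hηR⟩
      have huC : u ∈ C := by
        by_contra hn
        exact huU ⟨_, ⟨irreducibleComponent_mem_irreducibleComponents u, fun e => hn (e ▸ mem_irreducibleComponent)⟩,
          mem_irreducibleComponent⟩
      exact ⟨A.ι η, ((hη.specializes huC).map A.ι.continuous).mem_open (f ⁻¹ᵁ U).2 huo,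
        (hη.specializes hxC).map A.ι.continuous⟩
    obtain ⟨R, _, _, _, r, hr, hrη⟩ := Stk19b.exists_dvr_of_specializes hξ (fun e => hz'U (e ▸ hξU))
    have hrgen : r (genericPoint ↥(Spec (CommRingCat.of R))) ∈ f ⁻¹ᵁ U := by
      rw [← genericPoint_spec_eq R default, ← Scheme.Hom.comp_apply, hrη]
      exact hξU
    obtain ⟨c, hc, hcgen, hccl⟩ := H R r (hr ▸ hz'U) hrgen
    have hrW : Set.range r ⊆ Set.range W.ι := by
      rw [Scheme.Opens.range_ι]
      rintro _ ⟨p, rfl⟩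
      exact ((specializes_closedPoint p).map r.continuous).mem_open W.2 (hr ▸ hz')
    let r' := IsOpenImmersion.lift W.ι r hrW
    have hr' : r' ≫ W.ι = r := IsOpenImmersion.lift_fac _ _ _
    obtain ⟨ζ, hζ⟩ := exists_point_lift iZ (Spec.map (CommRingCat.ofHom (residue R)) ≫ r) ⟨z', by
      rw [Scheme.Hom.comp_apply, ← hr]
      exact congrArg r (IsLocalRing.comap_closedPoint (residue R)).symm⟩
    have hζz : ζ (closedPoint _) = z' := iZ.isClosedEmbedding.injective (by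
      rw [← Scheme.Hom.comp_apply, hζ, Scheme.Hom.comp_apply, ← hr]
      exact congrArg r (IsLocalRing.comap_closedPoint (residue R)))
    have hcV : Set.range c ⊆ Set.range V.ι := by
      rw [Scheme.Opens.range_ι]
      rintro _ ⟨p, rfl⟩
      refine ((specializes_closedPoint p).map c.continuous).mem_open V.2 ?_
      have : c (closedPoint R) = h₀ z' := by
        rw [← hζz, ← Scheme.Hom.comp_apply, ← hccl ζ hζ, Scheme.Hom.comp_apply]
        exact congrArg c (IsLocalRing.comap_closedPoint (residue R)).symm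
      rw [this]
      exact (Set.ext_iff.1 hOV z').1 hz'.2
    have hφV : Set.range (r' ≫ φ) ⊆ Set.range V.ι := by
      rw [Scheme.Opens.range_ι]
      rintro _ ⟨p, rfl⟩
      rw [Scheme.Hom.comp_apply]
      exact hWV _
    let ι := Spec.map (CommRingCat.ofHom (algebraMap R (FractionRing R)))
    let γ : Spec (CommRingCat.of (FractionRing R)) ⟶ ↑(f ⁻¹ᵁ U) := IsOpenImmersion.lift (f ⁻¹ᵁ U).ι (ι ≫ r) (by
      rw [Scheme.Opens.range_ι]
      rintro _ ⟨p, rfl⟩
      rw [Scheme.Hom.comp_apply, genericPoint_spec_eq R p]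
      exact hrgen)
    have hγ : γ ≫ (f ⁻¹ᵁ U).ι = ι ≫ r := IsOpenImmersion.lift_fac _ _ _
    haveI : IsAffine (V : Scheme.{u}) := hV
    have heq : r' ≫ φ = c := by
      rw [← IsOpenImmersion.lift_fac V.ι c hcV, ← IsOpenImmersion.lift_fac V.ι (r' ≫ φ) hφV]
      congr 1
      refine ValExtLib.hom_ext_of_generic (CommRingCat.ofHom (algebraMap R (FractionRing R)))
        (IsFractionRing.injective R (FractionRing R)) ?_
      rw [← cancel_mono V.ι, Category.assoc, IsOpenImmersion.lift_fac, Category.assoc, IsOpenImmersion.lift_fac,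
        hcgen γ hγ, ← Category.assoc]
      exact hUpart _ _ γ (by rw [Category.assoc, hr', hγ])
    refine ⟨ResidueField R, inferInstance, Spec.map (CommRingCat.ofHom (residue R)) ≫ r', ζ, hζz, ?_, ?_⟩
    · rw [Category.assoc, hr', hζ]
    · rw [Category.assoc, heq, hccl ζ hζ]
  have hpts : ∀ (z' : Z) (hz' : iZ z' ∈ W), φ ⟨iZ z', hz'⟩ = h₀ z' := fun z' hz' => by
    obtain ⟨κ', _, a, b, hb, hab, habφ⟩ := hres z' hz'
    have ha : a (closedPoint κ') = ⟨iZ z', hz'⟩ := W.ι.isOpenEmbedding.injective (by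
      rw [← Scheme.Hom.comp_apply, hab, Scheme.Hom.comp_apply, hb]; rfl)
    rw [← ha, ← Scheme.Hom.comp_apply, habφ, Scheme.Hom.comp_apply, hb]
  refine ⟨W, φ, hzW, by rw [Category.assoc, hφ₁, Scheme.homOfLE_ι_assoc], hUpart, hpts, fun κ _ a b hab => ?_⟩
  have hz'W : iZ (b (closedPoint κ)) ∈ W := by
    rw [← Scheme.Hom.comp_apply, ← hab, Scheme.Hom.comp_apply]
    exact (a (closedPoint κ)).2
  obtain ⟨κ', _, a', b', hb', hab', habφ'⟩ := hres _ hz'W
  -- compare through a common extension of the residue fields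
  obtain ⟨w, hw₁, hw₂⟩ := Scheme.Pullback.exists_preimage_pullback (f := b) (g := b') (closedPoint κ) (closedPoint κ') hb'.symm
  let P := pullback b b'
  let p : Spec (P.residueField w) ⟶ P := P.fromSpecResidueField w
  have key : (p ≫ pullback.fst b b') ≫ a ≫ φ = (p ≫ pullback.fst b b') ≫ b ≫ h₀ := by
    have h1 : pullback.fst b b' ≫ a = pullback.snd b b' ≫ a' := by
      rw [← cancel_mono W.ι, Category.assoc, hab, Category.assoc, hab', pullback.condition_assoc]
    rw [Category.assoc, Category.assoc, reassoc_of% h1, habφ', pullback.condition_assoc]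
  haveI : Epi (p ≫ pullback.fst b b') := by
    haveI : Flat (p ≫ pullback.fst b b') := inferInstance
    haveI : Surjective (p ≫ pullback.fst b b') := ⟨fun o => ⟨closedPoint (P.residueField w), Subsingleton.elim _ _⟩⟩
    exact Flat.epi_of_flat_of_surjective _
  exact (cancel_epi _).1 key

end Groth.Agent.CommAlg4.TraitExtension
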