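import Mathlib

/-!
The two linear branches `y = s x` (`s ^ 2 = 1`) inside `k[[x, y]]`: substitution, its kernel, and
extensionality of algebra maps out of one- and two-variable power series rings.
-/

set_option autoImplicit false

namespace Groth.Agent.CommAlg4.TwoBranch

open PowerSeries

variable {k : Type*} [Field k]

/-- The exponent `(a, b)`. -/
noncomputable def ex (a b : ℕ) : Fin 2 →₀ ℕ := Finsupp.single 0 a + Finsupp.single 1 b

@[simp] lemma ex_zero (a b : ℕ) : ex a b 0 = a := by simp [ex]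

@[simp] lemma ex_one (a b : ℕ) : ex a b 1 = b := by simp [ex]

lemma ex_eta (e : Fin 2 →₀ ℕ) : ex (e 0) (e 1) = e := by ext i; fin_cases i <;> simp

lemma ps_hom_ext {ψ₁ ψ₂ : PowerSeries k →ₐ[k] PowerSeries k}
    (h0 : constantCoeff (ψ₁ X) = 0) (h : ψ₁ X = ψ₂ X) : ψ₁ = ψ₂ := by
  ext f d
  obtain ⟨g, hg⟩ : ∃ g, f = ((f.trunc (d + 1) : Polynomial k) : PowerSeries k) + X ^ (d + 1) * g := by
    obtain ⟨g, hg⟩ := X_pow_dvd_iff.2 (show ∀ m < d + 1, coeff m (f - ((f.trunc (d + 1) : Polynomial k) : PowerSeries k)) = 0 from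
      fun m hm => by rw [map_sub, Polynomial.coeff_coe, coeff_trunc, if_pos hm, sub_self])
    exact ⟨g, by rw [← hg]; ring⟩
  have hkill : ∀ (ψ : PowerSeries k →ₐ[k] PowerSeries k), ψ X = ψ₁ X →
      coeff d (ψ f) = coeff d (ψ ((f.trunc (d + 1) : Polynomial k) : PowerSeries k)) := by
    intro ψ hψ
    conv_lhs => rw [hg, map_add, map_add, map_mul, map_pow, hψ]
    have : (X : PowerSeries k) ^ (d + 1) ∣ (ψ₁ X) ^ (d + 1) * ψ g :=
      Dvd.dvd.mul_right (pow_dvd_pow_of_dvd (X_dvd_iff.2 h0) _) _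
    rw [X_pow_dvd_iff.1 this d (Nat.lt_succ_self d), add_zero]
  rw [hkill ψ₁ rfl, hkill ψ₂ h.symm]
  have : ψ₁.comp (Polynomial.coeToPowerSeries.algHom k) = ψ₂.comp (Polynomial.coeToPowerSeries.algHom k) :=
    Polynomial.algHom_ext (by simpa using h)
  exact congrArg _ (by simpa using DFunLike.congr_fun this (f.trunc (d + 1)))

lemma mv_hom_ext {ψ₁ ψ₂ : MvPowerSeries (Fin 2) k →ₐ[k] PowerSeries k}
    (h0 : ∀ i, constantCoeff (ψ₁ (MvPowerSeries.X i)) = 0)
    (h : ∀ i, ψ₁ (MvPowerSeries.X i) = ψ₂ (MvPowerSeries.X i)) : ψ₁ = ψ₂ := by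
  classical
  ext f d
  set p : MvPolynomial (Fin 2) k := MvPowerSeries.trunc' k (ex d d) f with hp
  set r : MvPowerSeries (Fin 2) k := f - (p : MvPowerSeries (Fin 2) k) with hr
  let r₁ : MvPowerSeries (Fin 2) k := fun e => if d + 1 ≤ e 0 then MvPowerSeries.coeff e r else 0
  have hr1 : ∀ e, MvPowerSeries.coeff e r₁ = if d + 1 ≤ e 0 then MvPowerSeries.coeff e r else 0 :=
    fun e => rfl
  obtain ⟨g, hg⟩ : (MvPowerSeries.X 0 : MvPowerSeries (Fin 2) k) ^ (d + 1) ∣ r₁ :=
    MvPowerSeries.X_pow_dvd_iff.2 fun m hm => by rw [hr1, if_neg (by omega)]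
  obtain ⟨g', hg'⟩ : (MvPowerSeries.X 1 : MvPowerSeries (Fin 2) k) ^ (d + 1) ∣ r - r₁ := by
    refine MvPowerSeries.X_pow_dvd_iff.2 fun m hm => ?_
    rw [map_sub, hr1]
    split_ifs with h'
    · rw [sub_self]
    · rw [sub_zero, hr, map_sub, MvPolynomial.coeff_coe, hp, MvPowerSeries.coeff_trunc', if_pos, sub_self]
      intro i; fin_cases i <;> simp <;> omega
  have hf : f = (p : MvPowerSeries (Fin 2) k) + (MvPowerSeries.X 0 ^ (d + 1) * g + MvPowerSeries.X 1 ^ (d + 1) * g') := by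
    rw [← hg, ← hg', hr]; ring
  have hkill : ∀ (ψ : MvPowerSeries (Fin 2) k →ₐ[k] PowerSeries k),
      (∀ i, ψ (MvPowerSeries.X i) = ψ₁ (MvPowerSeries.X i)) →
      coeff d (ψ f) = coeff d (ψ (p : MvPowerSeries (Fin 2) k)) := by
    intro ψ hψ
    conv_lhs => rw [hf]
    simp only [map_add, map_mul, map_pow, hψ]
    have hd : ∀ i (q : PowerSeries k), coeff d (ψ₁ (MvPowerSeries.X i) ^ (d + 1) * q) = 0 := fun i q =>
      X_pow_dvd_iff.1 (Dvd.dvd.mul_right (pow_dvd_pow_of_dvd (X_dvd_iff.2 (h0 i)) _) _) d (Nat.lt_succ_self d)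
    rw [hd, hd, add_zero, add_zero]
  rw [hkill ψ₁ fun _ => rfl, hkill ψ₂ fun i => (h i).symm]
  have : ψ₁.comp (MvPolynomial.coeToMvPowerSeries.algHom k) = ψ₂.comp (MvPolynomial.coeToMvPowerSeries.algHom k) :=
    MvPolynomial.algHom_ext fun i => by simpa using h i
  exact congrArg _ (by simpa using DFunLike.congr_fun this p)

lemma hasSubst_line (s : k) :
    MvPowerSeries.HasSubst (![PowerSeries.X, PowerSeries.C s * PowerSeries.X] : Fin 2 → PowerSeries k) :=
  MvPowerSeries.hasSubst_of_constantCoeff_zero fun i => by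
    fin_cases i
    · exact PowerSeries.constantCoeff_X
    · show PowerSeries.constantCoeff (PowerSeries.C s * PowerSeries.X) = 0
      simp

/-- Restriction of `k[[x, y]]` to the line `y = s x`. -/
noncomputable def line (s : k) : MvPowerSeries (Fin 2) k →ₐ[k] PowerSeries k :=
  MvPowerSeries.substAlgHom (hasSubst_line s)

@[simp] lemma line_X0 (s : k) : line s (MvPowerSeries.X 0) = X :=
  MvPowerSeries.substAlgHom_X (hasSubst_line s) 0

@[simp] lemma line_X1 (s : k) : line s (MvPowerSeries.X 1) = C s * X :=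
  MvPowerSeries.substAlgHom_X (hasSubst_line s) 1

lemma coeff_line (s : k) (f : MvPowerSeries (Fin 2) k) (D : ℕ) :
    coeff D (line s f) = ∑ a ∈ Finset.range (D + 1), s ^ (D - a) * MvPowerSeries.coeff (ex a (D - a)) f := by
  classical
  have hterm : ∀ d : Fin 2 →₀ ℕ,
      (d.prod fun i e => (![X, C s * X] : Fin 2 → PowerSeries k) i ^ e) = monomial (d 0 + d 1) (s ^ d 1) := by
    intro d
    rw [Finsupp.prod_fintype _ _ (fun i => pow_zero _), Fin.prod_univ_two]
    show (X : PowerSeries k) ^ d 0 * (C s * X) ^ d 1 = _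
    rw [mul_pow, ← map_pow, X_pow_eq, X_pow_eq, ← monomial_zero_eq_C_apply, monomial_mul_monomial,
      monomial_mul_monomial]
    simp
  rw [show line s f = MvPowerSeries.subst (![X, C s * X] : Fin 2 → PowerSeries k) f from
    congrFun (MvPowerSeries.coe_substAlgHom (hasSubst_line s)) f]
  rw [coeff, MvPowerSeries.coeff_subst (hasSubst_line s),
    finsum_eq_sum_of_support_subset _ (s := (Finset.range (D + 1)).image fun a => ex a (D - a))]
  · rw [Finset.sum_image (fun a _ b _ hab => by simpa using DFunLike.congr_fun hab 0)]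
    refine Finset.sum_congr rfl fun a ha => ?_
    rw [Finset.mem_range] at ha
    rw [hterm, ex_zero, ex_one, show a + (D - a) = D by omega, smul_eq_mul, mul_comm]
    congr 1
    exact coeff_monomial_same D _
  · intro d hd
    rw [Function.mem_support] at hd
    rw [Finset.coe_image]
    have hdD : d 0 + d 1 = D := by
      by_contra hne
      apply hd
      rw [hterm, smul_eq_mul]
      have : coeff D (monomial (d 0 + d 1) (s ^ d 1)) = 0 := by rw [coeff_monomial, if_neg (Ne.symm hne)]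
      rw [show MvPowerSeries.coeff (Finsupp.single () D) (monomial (d 0 + d 1) (s ^ d 1)) = 0 from this, mul_zero]
    exact ⟨d 0, by simp; omega, by show ex (d 0) (D - d 0) = d; rw [show D - d 0 = d 1 by omega, ex_eta]⟩

/-- The kernel of restriction to the line `y = s x` is generated by `y - s x`. -/
lemma dvd_of_line_eq_zero {s : k} (hs : s * s = 1) {f : MvPowerSeries (Fin 2) k} (hf : line s f = 0) :
    MvPowerSeries.X 1 - MvPowerSeries.C s * MvPowerSeries.X 0 ∣ f := by
  classical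
  let h : MvPowerSeries (Fin 2) k := fun e =>
    s ^ e 0 * ∑ a ∈ Finset.range (e 0 + 1), s ^ a * MvPowerSeries.coeff (ex a (e 0 + e 1 + 1 - a)) f
  have hh : ∀ i j, MvPowerSeries.coeff (ex i j) h =
      s ^ i * ∑ a ∈ Finset.range (i + 1), s ^ a * MvPowerSeries.coeff (ex a (i + j + 1 - a)) f := fun i j => by
    show h (ex i j) = _
    simp only [h, ex_zero, ex_one]
  have hsn : ∀ n : ℕ, s ^ n * s ^ n = 1 := fun n => by rw [← mul_pow, hs, one_pow]
  refine ⟨h, MvPowerSeries.ext fun e => ?_⟩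
  obtain ⟨i, j, rfl⟩ : ∃ i j, ex i j = e := ⟨e 0, e 1, ex_eta e⟩
  rw [sub_mul, map_sub, mul_assoc, MvPowerSeries.coeff_C_mul, mul_comm (MvPowerSeries.X 1) h,
    mul_comm (MvPowerSeries.X 0) h, MvPowerSeries.X_def, MvPowerSeries.X_def,
    MvPowerSeries.coeff_mul_monomial, MvPowerSeries.coeff_mul_monomial]
  have key0 : ∀ i : ℕ, ¬ (Finsupp.single (0 : Fin 2) 1 ≤ ex i j) ↔ i = 0 := fun i => by
    simp [Finsupp.single_le_iff]
  have key1 : ¬ (Finsupp.single (1 : Fin 2) 1 ≤ ex i j) ↔ j = 0 := by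
    simp [Finsupp.single_le_iff]
  have sub0 : ∀ i, ex (i + 1) j - Finsupp.single 0 1 = ex i j := fun i => by
    ext x; fin_cases x <;> simp
  have sub1 : ∀ j, ex i (j + 1) - Finsupp.single 1 1 = ex i j := fun j => by
    ext x; fin_cases x <;> simp
  rcases Nat.eq_zero_or_pos j with hj | hj
  · -- top of the antidiagonal: use the vanishing of the restriction
    subst hj
    rw [if_neg (key1.2 rfl)]
    rcases Nat.eq_zero_or_pos i with hi | hi
    · subst hi
      rw [if_neg ((key0 0).2 rfl)]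
      have := coeff_line s f 0
      rw [hf] at this
      simpa using this.symm
    · obtain ⟨i', rfl⟩ : ∃ i', i = i' + 1 := ⟨i - 1, by omega⟩
      rw [if_pos (by by_contra hc; exact absurd ((key0 _).1 hc) (by omega)), sub0, hh, mul_one, zero_sub]
      have := coeff_line s f (i' + 1)
      rw [hf, map_zero] at this
      have h2 : ∑ a ∈ Finset.range (i' + 1 + 1), s ^ a * MvPowerSeries.coeff (ex a (i' + 1 - a)) f = 0 := by
        have h3 := congrArg (s ^ (i' + 1) * ·) this.symm
        simp only [mul_zero, Finset.mul_sum] at h3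
        rw [← h3]
        refine Finset.sum_congr rfl fun a ha => ?_
        rw [Finset.mem_range] at ha
        rw [← mul_assoc]
        congr 1
        obtain ⟨b, hb⟩ : ∃ b, i' + 1 = a + b := ⟨i' + 1 - a, by omega⟩
        rw [hb, Nat.add_sub_cancel_left, pow_add, mul_assoc, hsn, mul_one]
      rw [Finset.sum_range_succ, add_eq_zero_iff_eq_neg, Nat.sub_self] at h2
      simp only [show i' + 0 + 1 = i' + 1 by omega]
      rw [h2, mul_neg, mul_neg, neg_neg, ← mul_assoc, ← mul_assoc, ← pow_succ', hsn, one_mul]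
  · obtain ⟨j', rfl⟩ : ∃ j', j = j' + 1 := ⟨j - 1, by omega⟩
    rw [if_pos (by by_contra hc; exact absurd (key1.1 hc) (by omega)), sub1, hh, mul_one]
    rcases Nat.eq_zero_or_pos i with hi | hi
    · subst hi
      rw [if_neg ((key0 0).2 rfl)]
      simp
    · obtain ⟨i', rfl⟩ : ∃ i', i = i' + 1 := ⟨i - 1, by omega⟩
      rw [if_pos (by by_contra hc; exact absurd ((key0 _).1 hc) (by omega)), sub0, hh, mul_one,
        Finset.sum_range_succ _ (i' + 1), show i' + 1 + j' + 1 = i' + (j' + 1) + 1 by omega,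
        mul_add, ← mul_assoc (s ^ (i' + 1)) (s ^ (i' + 1)), hsn, one_mul, ← mul_assoc s, ← pow_succ',
        show i' + (j' + 1) + 1 - (i' + 1) = j' + 1 by omega]
      ring

end Groth.Agent.CommAlg4.TwoBranch
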