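import Mathlib

/-!
# Endomorphisms of the unit acting on every object
-/

set_option autoImplicit false

universe v u

open CategoryTheory MonoidalCategory

namespace Groth.Agent.CommAlg4

variable {D : Type u} [Category.{v} D] [MonoidalCategory D]

/-- The action of an endomorphism of the unit on an object. -/
def uact (s : 𝟙_ D ⟶ 𝟙_ D) (A : D) : A ⟶ A := (λ_ A).inv ≫ (s ▷ A) ≫ (λ_ A).hom

@[simp] theorem uact_id (A : D) : uact (𝟙 (𝟙_ D)) A = 𝟙 A := by simp [uact]

theorem uact_comp (s t : 𝟙_ D ⟶ 𝟙_ D) (A : D) : uact (s ≫ t) A = uact s A ≫ uact t A := by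
  simp [uact]

theorem uact_natural (s : 𝟙_ D ⟶ 𝟙_ D) {A B : D} (f : A ⟶ B) : f ≫ uact s B = uact s A ≫ f := by
  unfold uact
  rw [leftUnitor_inv_naturality_assoc, whisker_exchange_assoc, leftUnitor_naturality]
  simp

theorem uact_tensor (s : 𝟙_ D ⟶ 𝟙_ D) (A B : D) : uact s (A ⊗ B) = uact s A ▷ B := by
  unfold uact
  monoidal

theorem uact_tensor' [BraidedCategory D] (s : 𝟙_ D ⟶ 𝟙_ D) (A B : D) : uact s (A ⊗ B) = A ◁ uact s B := by
  have h := uact_natural s (β_ A B).hom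
  rw [uact_tensor s B A, ← BraidedCategory.braiding_naturality_right] at h
  exact ((cancel_mono (β_ A B).hom).1 h).symm

theorem tensor_uact [BraidedCategory D] (s t : 𝟙_ D ⟶ 𝟙_ D) (A B : D) :
    uact s A ⊗ₘ uact t B = uact (s ≫ t) (A ⊗ B) := by
  rw [uact_comp, MonoidalCategory.tensorHom_def, uact_tensor s A B, uact_tensor' t A B]

theorem uact_bijective (hA : ∀ A : D, (tensorRight A).IsEquivalence) (A : D) :
    Function.Bijective (fun s : 𝟙_ D ⟶ 𝟙_ D => uact s A) := by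
  haveI := hA A
  refine ⟨fun s t h => ?_, fun g => ?_⟩
  · apply (tensorRight A).map_injective
    show s ▷ A = t ▷ A
    simpa [uact, cancel_epi, cancel_mono] using h
  · refine ⟨(tensorRight A).preimage ((λ_ A).hom ≫ g ≫ (λ_ A).inv), ?_⟩
    show (λ_ A).inv ≫ ((tensorRight A).map ((tensorRight A).preimage ((λ_ A).hom ≫ g ≫ (λ_ A).inv))) ≫ _ = g
    rw [Functor.map_preimage]
    simp

theorem unit_comm (hA : ∀ A : D, (tensorRight A).IsEquivalence) (s t : 𝟙_ D ⟶ 𝟙_ D) : s ≫ t = t ≫ s := by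
  refine (uact_bijective hA (𝟙_ D)).1 ?_
  show uact (s ≫ t) _ = uact (t ≫ s) _
  rw [uact_comp, uact_comp]
  exact (uact_natural t (uact s (𝟙_ D)))

end Groth.Agent.CommAlg4
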