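import Mathlib
import Groth.Agent.DCat.Acyclic
import Groth.Agent.SpecSeq.AcyclicQuasiIso
import Groth.Agent.CommAlg4.RightResol

/-! When the derived functor unit is an isomorphism at an object in degree zero. -/
set_option autoImplicit false
set_option linter.style.haveILetI false
set_option linter.unusedSectionVars false
set_option backward.isDefEq.respectTransparency false
set_option backward.defeqAttrib.useBackward true
universe w w' v v' u u'
open CategoryTheory CategoryTheory.Limits HomologicalComplex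

namespace Groth.Agent.CommAlg4.UnitSingle

variable {A : Type u} [Category.{v} A] [Abelian A] [EnoughInjectives A]
  {B : Type u'} [Category.{v'} B] [Abelian B] (F : A ⥤ B) [F.Additive]

theorem quasiIso_map_ι_iff {X : A} (R : InjectiveResolution X) :
    QuasiIso ((F.mapHomologicalComplex (ComplexShape.up ℕ)).map R.ι) ↔
      (IsIso (F.toRightDerivedZero.app X) ∧ ∀ i : ℕ, 0 < i → IsZero ((F.rightDerived i).obj X)) := by
  let K := (F.mapHomologicalComplex (ComplexShape.up ℕ)).obj ((CochainComplex.single₀ A).obj X)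
  let L := (F.mapHomologicalComplex (ComplexShape.up ℕ)).obj R.cocomplex
  let φ : K ⟶ L := (F.mapHomologicalComplex (ComplexShape.up ℕ)).map R.ι
  have hK : ∀ i : ℕ, 0 < i → K.ExactAt i := fun i hi =>
    ExactAt.of_isZero (F.map_isZero (isZero_single_obj_X _ 0 X i (by omega)))
  have hd : K.d 0 1 = 0 := (F.map_isZero (isZero_single_obj_X _ 0 X 1 one_ne_zero)).eq_of_tgt _ _
  haveI : IsIso (K.iCycles 0) := K.isIso_iCycles 0 1 (by simp) hd
  have h0 : (K.iCycles 0 : K.cycles 0 ⟶ F.obj X) ≫ R.toRightDerivedZero' F = cyclesMap φ 0 := by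
    rw [← cancel_mono (L.iCycles 0), Category.assoc, InjectiveResolution.toRightDerivedZero'_comp_iCycles,
      cyclesMap_i]
    rfl
  have h1 : IsIso (F.toRightDerivedZero.app X) ↔ QuasiIsoAt φ 0 := by
    have e1 : QuasiIsoAt φ 0 ↔ IsIso (cyclesMap φ 0) := by
      rw [quasiIsoAt_iff_isIso_homologyMap]
      haveI : IsIso (K.homologyπ 0) := CochainComplex.isIso_homologyπ₀ K
      haveI : IsIso (L.homologyπ 0) := CochainComplex.isIso_homologyπ₀ L
      have : K.homologyπ 0 ≫ homologyMap φ 0 = cyclesMap φ 0 ≫ L.homologyπ 0 := homologyπ_naturality φ 0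
      constructor
      · intro h
        haveI : IsIso (cyclesMap φ 0 ≫ L.homologyπ 0) := by rw [← this]; infer_instance
        exact IsIso.of_isIso_comp_right (cyclesMap φ 0) (L.homologyπ 0)
      · intro h
        haveI : IsIso (K.homologyπ 0 ≫ homologyMap φ 0) := by rw [this]; infer_instance
        exact IsIso.of_isIso_comp_left (K.homologyπ 0) (homologyMap φ 0)
    rw [e1, R.toRightDerivedZero_eq F, ← h0]
    constructor
    · intro h
      haveI : IsIso (R.toRightDerivedZero' F) := IsIso.of_isIso_comp_right _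
        ((CochainComplex.isoHomologyπ₀ _).hom ≫ (R.isoRightDerivedObj F 0).inv)
      infer_instance
    · intro h
      haveI : IsIso (R.toRightDerivedZero' F) :=
        IsIso.of_isIso_comp_left (K.iCycles 0 : K.cycles 0 ⟶ F.obj X) _
      infer_instance
  have h2 : ∀ i : ℕ, 0 < i → (QuasiIsoAt φ i ↔ IsZero ((F.rightDerived i).obj X)) := fun i hi => by
    rw [quasiIsoAt_iff_exactAt φ i (hK i hi), exactAt_iff_isZero_homology]
    exact (R.isoRightDerivedObj F i).isZero_iff.symm
  show QuasiIso φ ↔ _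
  rw [quasiIso_iff, h1]
  constructor
  · exact fun h => ⟨h 0, fun i hi => (h2 i hi).1 (h i)⟩
  · intro h i
    rcases Nat.eq_zero_or_pos i with rfl | hi
    · exact h.1
    · exact (h2 i hi).2 (h.2 i hi)

theorem quasiIso_map_ι'_iff {X : A} (R : InjectiveResolution X) :
    QuasiIso ((F.mapHomologicalComplex (ComplexShape.up ℤ)).map R.ι') ↔
      (IsIso (F.toRightDerivedZero.app X) ∧ ∀ i : ℕ, 0 < i → IsZero ((F.rightDerived i).obj X)) := by
  rw [← quasiIso_map_ι_iff F R, InjectiveResolution.ι', Functor.map_comp, quasiIso_iff_comp_left]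
  have hsq := SpecSeq.mapExtendIso_naturality F R.ι
  show QuasiIso ((F.mapHomologicalComplex (ComplexShape.up ℤ)).map
    (extendMap R.ι ComplexShape.embeddingUpNat)) ↔ _
  rw [← quasiIso_iff_comp_right _ (SpecSeq.mapExtendIso F R.cocomplex ComplexShape.embeddingUpNat).hom,
    hsq, quasiIso_iff_comp_left, quasiIso_extendMap_iff]

variable [HasDerivedCategory.{w} A] [HasDerivedCategory.{w'} B]

theorem isIso_unit_single_iff (X : A) :
    IsIso (F.rightDerivedFunctorPlusUnit.app ((HomotopyCategory.Plus.singleFunctor A 0).obj X)) ↔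
      (IsIso (F.toRightDerivedZero.app X) ∧ ∀ i : ℕ, 0 < i → IsZero ((F.rightDerived i).obj X)) := by
  let R := injectiveResolution X
  rw [← quasiIso_map_ι'_iff F R]
  let Y : HomotopyCategory.Plus A := ⟨(HomotopyCategory.quotient A (ComplexShape.up ℤ)).obj R.cochainComplex,
    (HomotopyCategory.plus_quotient_obj_iff R.cochainComplex).2 ⟨0, inferInstance⟩⟩
  let s : (HomotopyCategory.Plus.singleFunctor A 0).obj X ⟶ Y :=
    ObjectProperty.homMk ((HomotopyCategory.quotient A (ComplexShape.up ℤ)).map R.ι')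
  have hs : HomotopyCategory.Plus.quasiIso A s :=
    (HomotopyCategory.quotient_map_mem_quasiIso_iff R.ι').2 (by simp only [mem_quasiIso_iff]; infer_instance)
  haveI : IsIso (DerivedCategory.Plus.Qh.map s) :=
    Localization.inverts DerivedCategory.Plus.Qh (HomotopyCategory.Plus.quasiIso A) s hs
  haveI : IsIso (F.rightDerivedFunctorPlusUnit.app Y) := by
    obtain ⟨L, hL⟩ : ∃ L : CochainComplex.Plus (InjectiveObject A),
        ((InjectiveObject.ι A).mapHomologicalComplex (ComplexShape.up ℤ)).obj L.obj = R.cochainComplex := by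
      refine ⟨⟨HomologicalComplex.liftObjectProperty _ R.cochainComplex (fun i =>
        (inferInstance : Injective (R.cochainComplex.X i))), 0, ?_⟩, rfl⟩
      rw [← CochainComplex.isStrictlyGE_mapHomologicalComplex_obj_iff _ (InjectiveObject.ι A)]
      exact (inferInstance : R.cochainComplex.IsStrictlyGE 0)
    have e : Y = (InjectiveObject.ι A).mapHomotopyCategoryPlus.obj
        ((HomotopyCategory.Plus.quotient _).obj L) := by
      apply ObjectProperty.FullSubcategory.ext
      show (HomotopyCategory.quotient A _).obj R.cochainComplex = _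
      rw [← hL]
      rfl
    rw [e]
    infer_instance
  have nat := F.rightDerivedFunctorPlusUnit.naturality s
  haveI : IsIso ((DerivedCategory.Plus.Qh ⋙ F.rightDerivedFunctorPlus).map s) := by
    show IsIso (F.rightDerivedFunctorPlus.map (DerivedCategory.Plus.Qh.map s))
    infer_instance
  have key : IsIso (F.rightDerivedFunctorPlusUnit.app ((HomotopyCategory.Plus.singleFunctor A 0).obj X)) ↔
      IsIso ((F.mapHomotopyCategoryPlus ⋙ DerivedCategory.Plus.Qh).map s) := by
    constructor
    · intro h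
      haveI : IsIso ((F.mapHomotopyCategoryPlus ⋙ DerivedCategory.Plus.Qh).map s ≫
          F.rightDerivedFunctorPlusUnit.app Y) := by rw [nat]; infer_instance
      exact IsIso.of_isIso_comp_right _ (F.rightDerivedFunctorPlusUnit.app Y)
    · intro h
      haveI : IsIso (F.rightDerivedFunctorPlusUnit.app ((HomotopyCategory.Plus.singleFunctor A 0).obj X) ≫
          (DerivedCategory.Plus.Qh ⋙ F.rightDerivedFunctorPlus).map s) := by
        rw [← nat]; infer_instance
      exact IsIso.of_isIso_comp_right _ ((DerivedCategory.Plus.Qh ⋙ F.rightDerivedFunctorPlus).map s)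
  rw [key, ← DerivedCategory.isIso_Q_map_iff_quasiIso]
  have e : ∀ {U V : CochainComplex B ℤ} (f : U ⟶ V),
      IsIso (DerivedCategory.Qh.map ((HomotopyCategory.quotient B _).map f)) ↔ IsIso (DerivedCategory.Q.map f) :=
    fun f => (MorphismProperty.isomorphisms _).arrow_mk_iso_iff
      (((Functor.mapArrowFunctor _ _).mapIso (DerivedCategory.quotientCompQhIso B)).app (Arrow.mk f))
  rw [← e]
  constructor
  · intro h
    exact inferInstanceAs (IsIso (DerivedCategory.Plus.ι.map ((F.mapHomotopyCategoryPlus ⋙ DerivedCategory.Plus.Qh).map s)))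
  · intro h
    haveI : IsIso (DerivedCategory.Plus.ι.map ((F.mapHomotopyCategoryPlus ⋙ DerivedCategory.Plus.Qh).map s)) := h
    exact isIso_of_reflects_iso _ (DerivedCategory.Plus.ι (C := B))

end Groth.Agent.CommAlg4.UnitSingle

namespace Groth.Agent.CommAlg4.UnitSingle

variable {A : Type u} [Category.{v} A] [Abelian A] [EnoughInjectives A]
  {B : Type u'} [Category.{v'} B] [Abelian B] (F : A ⥤ B) [F.Additive]

omit [EnoughInjectives A] in
theorem quasiIso_map_of_adapted (I : ObjectProperty A)
    (h2 : ∀ S : ShortComplex A, S.ShortExact → I S.X₁ → I S.X₂ → I S.X₃ ∧ (S.map F).ShortExact)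
    {X : A} (hX : I X) (Q : CochainComplex A ℕ) (ψ : (CochainComplex.single₀ A).obj X ⟶ Q)
    [QuasiIso ψ] (hQ : ∀ n, I (Q.X n)) :
    QuasiIso ((F.mapHomologicalComplex (ComplexShape.up ℕ)).map ψ) := by
  have hex : ∀ n : ℕ, 0 < n → Q.ExactAt n := fun n hn => by
    rw [← quasiIsoAt_iff_exactAt ψ n (ExactAt.of_isZero (isZero_single_obj_X _ 0 X n (by omega)))]
    infer_instance
  have hepi : ∀ n : ℕ, Epi (Q.toCycles n (n + 1)) := fun n =>
    (ShortComplex.exact_of_g_is_cokernel (ShortComplex.mk _ _ (Q.toCycles_comp_homologyπ n (n + 1)))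
      (Q.homologyIsCokernel n (n + 1) (CochainComplex.prev_nat_succ n))).epi_f
      ((hex (n + 1) (by omega)).isZero_homology.eq_of_tgt _ _)
  have hw : ψ.f 0 ≫ Q.d 0 1 = 0 := by rw [ψ.comm]; simp
  haveI hlift : IsIso (Q.liftCycles (ψ.f 0) 1 (by simp) hw) := by
    let K := (CochainComplex.single₀ A).obj X
    haveI : IsIso (K.iCycles 0) := K.isIso_iCycles 0 1 (by simp) (by simp [K])
    haveI : IsIso (cyclesMap ψ 0) := by
      haveI : IsIso (K.homologyπ 0) := CochainComplex.isIso_homologyπ₀ K
      haveI : IsIso (Q.homologyπ 0) := CochainComplex.isIso_homologyπ₀ Q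
      haveI : IsIso (homologyMap ψ 0) := inferInstance
      haveI : IsIso (cyclesMap ψ 0 ≫ Q.homologyπ 0) := by
        rw [← homologyπ_naturality]; infer_instance
      exact IsIso.of_isIso_comp_right _ (Q.homologyπ 0)
    have : K.iCycles 0 ≫ Q.liftCycles (ψ.f 0) 1 (by simp) hw = cyclesMap ψ 0 := by
      rw [← cancel_mono (Q.iCycles 0), Category.assoc, liftCycles_i, cyclesMap_i]
    haveI : IsIso (K.iCycles 0 ≫ Q.liftCycles (ψ.f 0) 1 (by simp) hw) := by rw [this]; infer_instance
    exact IsIso.of_isIso_comp_left (K.iCycles 0) _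
  have hw0 : ψ.f 0 ≫ Q.toCycles 0 1 = 0 := by
    rw [← cancel_mono (Q.iCycles 1), Category.assoc, toCycles_i, hw, zero_comp]
  obtain ⟨hex0, hmono0⟩ := (CochainComplex.isIso_liftCycles_iff Q (ψ.f 0) hw).1 hlift
  let S₀ : ShortComplex A := ShortComplex.mk (ψ.f 0) (Q.toCycles 0 1) hw0
  have hS₀ : S₀.ShortExact := by
    haveI := hmono0
    haveI := hepi 0
    refine { exact := ?_ }
    rw [ShortComplex.exact_iff_exact_up_to_refinements]
    intro T x hx
    exact hex0.exact_up_to_refinements x (by
      show x ≫ Q.d 0 1 = 0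
      rw [← Q.toCycles_i, reassoc_of% hx, zero_comp])
  have hwn : ∀ n : ℕ, Q.iCycles n ≫ Q.toCycles n (n + 1) = 0 := fun n => by
    rw [← cancel_mono (Q.iCycles (n + 1)), Category.assoc, toCycles_i, iCycles_d, zero_comp]
  let Sn : ℕ → ShortComplex A := fun n => ShortComplex.mk (Q.iCycles n) (Q.toCycles n (n + 1)) (hwn n)
  have hSn : ∀ n, (Sn n).ShortExact := fun n => by
    haveI := hepi n
    refine { exact := ?_ }
    rw [ShortComplex.exact_iff_exact_up_to_refinements]
    intro T x hx
    have hx' : x ≫ Q.d n (n + 1) = 0 := by rw [← Q.toCycles_i, reassoc_of% hx, zero_comp]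
    refine ⟨T, 𝟙 T, inferInstance, Q.liftCycles x (n + 1) (by simp) hx', ?_⟩
    rw [Category.id_comp]
    exact (Q.liftCycles_i _ _ _ _).symm
  have key : ∀ n : ℕ, I (Q.cycles (n + 1)) := by
    intro n
    induction n with
    | zero => exact (h2 S₀ hS₀ hX (hQ 0)).1
    | succ n ih => exact (h2 (Sn (n + 1)) (hSn (n + 1)) ih (hQ (n + 1))).1
  have F0 := (h2 S₀ hS₀ hX (hQ 0)).2
  have Fn : ∀ n : ℕ, ((Sn (n + 1)).map F).ShortExact := fun n =>
    (h2 (Sn (n + 1)) (hSn (n + 1)) (key n) (hQ (n + 1))).2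
  let FQ := (F.mapHomologicalComplex (ComplexShape.up ℕ)).obj Q
  let φ := (F.mapHomologicalComplex (ComplexShape.up ℕ)).map ψ
  have hFd : ∀ n, FQ.d n (n + 1) = F.map (Q.toCycles n (n + 1)) ≫ F.map (Q.iCycles (n + 1)) := fun n => by
    rw [← F.map_comp, toCycles_i]; rfl
  show QuasiIso φ
  refine ⟨fun n => ?_⟩
  rcases n with _ | n
  · have hwF : φ.f 0 ≫ FQ.d 0 1 = 0 := by
      show F.map (ψ.f 0) ≫ F.map (Q.d 0 1) = 0
      rw [← F.map_comp, hw, F.map_zero]
    haveI : IsIso (FQ.liftCycles (φ.f 0) 1 (by simp) hwF) := by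
      rw [CochainComplex.isIso_liftCycles_iff]
      refine ⟨?_, F0.mono_f⟩
      rw [ShortComplex.exact_iff_exact_up_to_refinements]
      intro T x hx
      change x ≫ FQ.d 0 1 = 0 at hx
      have hx := (Category.assoc x _ _).trans ((congrArg (x ≫ ·) (hFd 0).symm).trans hx)
      haveI : Mono (F.map (Q.iCycles 1)) := (Fn 0).mono_f
      exact F0.exact.exact_up_to_refinements x
        ((cancel_mono (F.map (Q.iCycles 1))).1 (hx.trans zero_comp.symm))
    let K := (F.mapHomologicalComplex (ComplexShape.up ℕ)).obj ((CochainComplex.single₀ A).obj X)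
    have hd : K.d 0 1 = 0 := (F.map_isZero (isZero_single_obj_X _ 0 X 1 one_ne_zero)).eq_of_tgt _ _
    haveI : IsIso (K.iCycles 0) := K.isIso_iCycles 0 1 (by simp) hd
    have : cyclesMap φ 0 = K.iCycles 0 ≫ FQ.liftCycles (φ.f 0) 1 (by simp) hwF := by
      rw [← cancel_mono (FQ.iCycles 0), Category.assoc, liftCycles_i, cyclesMap_i]
    haveI : IsIso (cyclesMap φ 0) := by rw [this]; infer_instance
    haveI : IsIso (K.homologyπ 0) := CochainComplex.isIso_homologyπ₀ K
    haveI : IsIso (FQ.homologyπ 0) := CochainComplex.isIso_homologyπ₀ FQ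
    rw [quasiIsoAt_iff_isIso_homologyMap]
    haveI : IsIso (K.homologyπ 0 ≫ homologyMap φ 0) := by rw [homologyπ_naturality]; infer_instance
    exact IsIso.of_isIso_comp_left (K.homologyπ 0) _
  · rw [quasiIsoAt_iff_exactAt φ (n + 1)
      (ExactAt.of_isZero (F.map_isZero (isZero_single_obj_X _ 0 X (n + 1) (by omega)))),
      exactAt_iff' _ n (n + 1) (n + 2) (CochainComplex.prev_nat_succ n) (CochainComplex.next ℕ (n + 1)),
      ShortComplex.exact_iff_exact_up_to_refinements]
    intro T (x : T ⟶ F.obj (Q.X (n + 1))) hx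
    change x ≫ FQ.d (n + 1) (n + 1 + 1) = 0 at hx
    rw [hFd (n + 1), ← Category.assoc] at hx
    haveI : Mono (F.map (Q.iCycles (n + 1 + 1))) := (Fn (n + 1)).mono_f
    obtain ⟨T', p, hp, y, hy⟩ := (Fn n).exact.exact_up_to_refinements x
      ((cancel_mono (F.map (Q.iCycles (n + 1 + 1)))).1 (hx.trans zero_comp.symm))
    haveI : Epi (F.map (Q.toCycles n (n + 1))) := by
      rcases n with _ | m
      · exact F0.epi_g
      · exact (Fn m).epi_g
    obtain ⟨T'', p', hp', z, hz⟩ := surjective_up_to_refinements_of_epi (F.map (Q.toCycles n (n + 1))) y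
    refine ⟨T'', p' ≫ p, inferInstance, z, ?_⟩
    show (p' ≫ p) ≫ x = z ≫ FQ.d n (n + 1)
    rw [hFd n, Category.assoc, hy]
    exact (Category.assoc _ _ _).symm.trans ((congrArg (· ≫ _) hz).trans (Category.assoc _ _ _))

theorem acyclic_of_adapted (I : ObjectProperty A)
    (h1 : ∀ X : A, ∃ (Y : A) (ι : X ⟶ Y), I Y ∧ Mono ι)
    (h2 : ∀ S : ShortComplex A, S.ShortExact → I S.X₁ → I S.X₂ → I S.X₃ ∧ (S.map F).ShortExact)
    {X : A} (hX : I X) :
    IsIso (F.toRightDerivedZero.app X) ∧ ∀ i : ℕ, 0 < i → IsZero ((F.rightDerived i).obj X) := by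
  let P := injectiveResolution X
  choose emb ι hIe hmono using h1
  let Q := RightResol.cx emb ι P.cocomplex
  let α : P.cocomplex ⟶ Q := RightResol.map emb ι P.cocomplex
  haveI : QuasiIso α := RightResol.quasiIso_map emb ι P.cocomplex
  have hQ : ∀ n, I (Q.X n) := fun n => by
    rcases n with _ | n
    · exact hIe _
    · exact hIe _
  have hF := quasiIso_map_of_adapted F I h2 hX Q (P.ι ≫ α) hQ
  rw [← quasiIso_map_ι'_iff F P]
  let _ := HasDerivedCategory.standard A
  let e := ComplexShape.embeddingUpNat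
  let Q' : CochainComplex A ℤ := Q.extend e
  let α' : P.cochainComplex ⟶ Q' := extendMap α e
  haveI : QuasiIso α' := (quasiIso_extendMap_iff _ e).2 inferInstance
  haveI : P.cochainComplex.IsKInjective := CochainComplex.isKInjective_of_injective _ 0
  -- a homotopy retraction
  obtain ⟨r, ⟨hr⟩⟩ : ∃ r : Q' ⟶ P.cochainComplex, Nonempty (Homotopy (α' ≫ r) (𝟙 _)) := by
    haveI : IsIso (DerivedCategory.Qh.map ((HomotopyCategory.quotient A _).map α')) :=
      Localization.inverts DerivedCategory.Qh (HomotopyCategory.quasiIso A (ComplexShape.up ℤ)) _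
        ((HomotopyCategory.quotient_map_mem_quasiIso_iff α').2 (by simp only [mem_quasiIso_iff]; infer_instance))
    obtain ⟨r₀, hr₀⟩ := (CochainComplex.IsKInjective.Qh_map_bijective
      ((HomotopyCategory.quotient A _).obj Q') P.cochainComplex).2
      (inv (DerivedCategory.Qh.map ((HomotopyCategory.quotient A _).map α')))
    obtain ⟨r, rfl⟩ := (HomotopyCategory.quotient A _).map_surjective r₀
    refine ⟨r, ⟨HomotopyCategory.homotopyOfEq _ _
      ((CochainComplex.IsKInjective.Qh_map_bijective _ P.cochainComplex).1 ?_)⟩⟩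
    rw [Functor.map_comp, Functor.map_comp, hr₀, IsIso.hom_inv_id, CategoryTheory.Functor.map_id,
      CategoryTheory.Functor.map_id]
  let G := F.mapHomologicalComplex (ComplexShape.up ℤ)
  have hcomp : QuasiIso (G.map (P.ι' ≫ α')) := by
    have e₀ : P.ι' ≫ α' = (extendSingleIso e (i := 0) (i' := (0 : ℤ)) X (by simp [e])).inv ≫ extendMap (P.ι ≫ α) e := by
      rw [InjectiveResolution.ι', Category.assoc, extendMap_comp]
      rfl
    rw [e₀, Functor.map_comp, quasiIso_iff_comp_left,
      ← quasiIso_iff_comp_right _ (SpecSeq.mapExtendIso F Q e).hom,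
      SpecSeq.mapExtendIso_naturality F (P.ι ≫ α), quasiIso_iff_comp_left, quasiIso_extendMap_iff]
    exact hF
  refine ⟨fun i => ?_⟩
  rw [quasiIsoAt_iff_isIso_homologyMap]
  have hh : homologyMap (G.map α') i ≫ homologyMap (G.map r) i = 𝟙 _ := by
    rw [← homologyMap_comp, ← G.map_comp, (F.mapHomotopy hr).homologyMap_eq i,
      CategoryTheory.Functor.map_id, homologyMap_id]
  haveI hc : IsIso (homologyMap (G.map P.ι') i ≫ homologyMap (G.map α') i) := by
    rw [← homologyMap_comp, ← G.map_comp]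
    infer_instance
  haveI : IsSplitMono (homologyMap (G.map α') i) := ⟨⟨⟨homologyMap (G.map r) i, hh⟩⟩⟩
  haveI : Epi (homologyMap (G.map α') i) := epi_of_epi (homologyMap (G.map P.ι') i) _
  haveI : IsIso (homologyMap (G.map α') i) := isIso_of_epi_of_isSplitMono _
  exact IsIso.of_isIso_comp_right _ (homologyMap (G.map α') i)

end Groth.Agent.CommAlg4.UnitSingle
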