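import Mathlib
import Groth.Agent.PruferLib.FlatFP

/-!
# Étaleness of an extension of valuation rings from a localization and a quotient
-/

set_option autoImplicit false

universe u

namespace Groth.Agent.CommAlg4.ValEtaleGlue

/-- A finite type torsion free algebra over a valuation ring is finitely presented. -/
theorem finitePresentation_of_torsionFree (V W : Type u) [CommRing V] [IsDomain V] [ValuationRing V]
    [CommRing W] [IsDomain W] [Algebra V W] (hinj : Function.Injective (algebraMap V W))
    [Algebra.FiniteType V W] : Algebra.FinitePresentation V W := by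
  classical
  obtain ⟨n, π, hπ⟩ := Algebra.FiniteType.iff_quotient_mvPolynomial''.1 ‹Algebra.FiniteType V W›
  refine Algebra.FinitePresentation.of_surjective (f := π) hπ ?_
  let M : Submodule (MvPolynomial (Fin n) V) (Fin 1 → MvPolynomial (Fin n) V) :=
    Submodule.comap
      (LinearMap.proj 0 : (Fin 1 → MvPolynomial (Fin n) V) →ₗ[MvPolynomial (Fin n) V] MvPolynomial (Fin n) V)
      (RingHom.ker π.toRingHom)
  have hM : PruferLib.FlatFP.IsSat M := fun r x hr hx => by
    change π.toRingHom (x 0) = 0
    have h : π ((MvPolynomial.C r : MvPolynomial (Fin n) V) * x 0) = 0 := hx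
    rw [map_mul, ← MvPolynomial.algebraMap_eq, AlgHom.commutes] at h
    exact (mul_eq_zero.1 h).resolve_left (fun h => hr (hinj (h.trans (map_zero _).symm)))
  have h := (PruferLib.FlatFP.fg_of_isSat hM).map
    (LinearMap.proj 0 : (Fin 1 → MvPolynomial (Fin n) V) →ₗ[MvPolynomial (Fin n) V] MvPolynomial (Fin n) V)
  rw [Submodule.map_comap_eq_of_surjective (fun p => ⟨fun _ => p, rfl⟩)] at h
  exact h

/-- Multiples of a prime `p` of a valuation ring by an element outside `p`. -/
theorem exists_mul_eq {V : Type u} [CommRing V] [IsDomain V] [ValuationRing V] {p : Ideal V} [p.IsPrime]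
    {c q : V} (hc : c ∉ p) (hq : q ∈ p) : ∃ q' ∈ p, c * q' = q := by
  obtain ⟨r, hr⟩ := ValuationRing.cond c q
  rcases hr with hr | hr
  · exact ⟨r, (Ideal.IsPrime.mem_or_mem ‹_› (hr ▸ hq : c * r ∈ p)).resolve_left hc, hr⟩
  · exact absurd (hr ▸ p.mul_mem_right r hq) hc

theorem etale_of_localization_of_quotient (V W : Type u) [CommRing V] [IsDomain V] [ValuationRing V]
    [CommRing W] [IsDomain W] [Algebra V W] (hinj : Function.Injective (algebraMap V W))
    (hpow : ∀ s : W, s ≠ 0 → ∃ (N : ℕ) (c : V) (u : Wˣ), 0 < N ∧ s ^ N = u * algebraMap V W c)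
    (P : Ideal W) [P.IsPrime]
    (hA : (Localization.localRingHom (Ideal.comap (algebraMap V W) P) P (algebraMap V W) rfl).Etale)
    (hB : (Ideal.quotientMap P (algebraMap V W) (le_refl (Ideal.comap (algebraMap V W) P))).Etale) :
    Algebra.Etale V W := by
  classical
  set p := Ideal.comap (algebraMap V W) P with hp
  letI : Algebra (Localization.AtPrime p) (Localization.AtPrime P) :=
    (Localization.localRingHom p P (algebraMap V W) rfl).toAlgebra
  haveI hA' : Algebra.Etale (Localization.AtPrime p) (Localization.AtPrime P) := hA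
  haveI : IsScalarTower V (Localization.AtPrime p) (Localization.AtPrime P) :=
    IsScalarTower.of_algebraMap_eq fun r => by
      rw [IsScalarTower.algebraMap_apply V W (Localization.AtPrime P), RingHom.algebraMap_toAlgebra,
        Localization.localRingHom_to_map]
  haveI : IsLocalHom (algebraMap (Localization.AtPrime p) (Localization.AtPrime P)) :=
    Localization.isLocalHom_localRingHom p P (algebraMap V W) rfl
  have hWinj : Function.Injective (algebraMap W (Localization.AtPrime P)) :=
    IsLocalization.injective _ P.primeCompl_le_nonZeroDivisors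
  have hsc : ∀ s : W, s ∉ P → ∃ (c : V) (w : W), c ∉ p ∧ s * w = algebraMap V W c := by
    intro s hs
    obtain ⟨N, c, u, hN, hu⟩ := hpow s (fun h => hs (h ▸ P.zero_mem))
    refine ⟨c, s ^ (N - 1) * (↑u⁻¹ : W), fun hc => hs ?_, ?_⟩
    · apply Ideal.IsPrime.mem_of_pow_mem ‹P.IsPrime› N
      rw [hu]
      exact P.mul_mem_left _ hc
    · rw [← mul_assoc, ← pow_succ', Nat.sub_add_cancel hN, hu, mul_right_comm, Units.mul_inv, one_mul]
  -- `P = pW`
  have hP : P ≤ p.map (algebraMap V W) := by
    intro x hx
    have h1 : algebraMap W (Localization.AtPrime P) x ∈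
        (p.map (algebraMap V W)).map (algebraMap W (Localization.AtPrime P)) := by
      rw [Ideal.map_map, ← IsScalarTower.algebraMap_eq,
        IsScalarTower.algebraMap_eq V (Localization.AtPrime p), ← Ideal.map_map,
        Localization.AtPrime.map_eq_maximalIdeal, Algebra.FormallyUnramified.map_maximalIdeal,
        ← Localization.AtPrime.map_eq_maximalIdeal (I := P)]
      exact Ideal.mem_map_of_mem _ hx
    obtain ⟨s, hs, hsx⟩ := (IsLocalization.algebraMap_mem_map_algebraMap_iff P.primeCompl _ _ _).1 h1
    obtain ⟨c, w, hc, hw⟩ := hsc s hs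
    have hcx : algebraMap V W c * x ∈ p.map (algebraMap V W) := by
      rw [← hw, mul_comm s w, mul_assoc]
      exact Ideal.mul_mem_left _ _ hsx
    have hle : p.map (algebraMap V W) ≤ Ideal.span {algebraMap V W c} * p.map (algebraMap V W) := by
      refine Ideal.map_le_iff_le_comap.2 fun q hq => ?_
      obtain ⟨q', hq', rfl⟩ := exists_mul_eq hc hq
      rw [Ideal.mem_comap, map_mul]
      exact Ideal.mul_mem_mul (Ideal.mem_span_singleton_self _) (Ideal.mem_map_of_mem _ hq')
    obtain ⟨y, hy, hxy⟩ := Ideal.mem_span_singleton_mul.1 (hle hcx)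
    have hc0 : algebraMap V W c ≠ 0 := fun h =>
      hc ((hinj (h.trans (map_zero _).symm)) ▸ p.zero_mem)
    rwa [← mul_left_cancel₀ hc0 hxy]
  -- finite type
  letI : Algebra (V ⧸ p) (W ⧸ P) := (Ideal.quotientMap P (algebraMap V W) (le_refl p)).toAlgebra
  haveI hB' : Algebra.Etale (V ⧸ p) (W ⧸ P) := hB
  haveI : IsScalarTower V (V ⧸ p) (W ⧸ P) := IsScalarTower.of_algebraMap_eq fun r => rfl
  obtain ⟨T₁, hT₁⟩ := (inferInstance : Algebra.FiniteType (Localization.AtPrime p) (Localization.AtPrime P)).out
  haveI : Algebra.FiniteType V (V ⧸ p) :=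
    Algebra.FiniteType.of_surjective (Ideal.Quotient.mkₐ V p) Ideal.Quotient.mk_surjective
  obtain ⟨T₂, hT₂⟩ := (Algebra.FiniteType.trans (R := V) (S := V ⧸ p) (A := W ⧸ P) inferInstance inferInstance).out
  choose num hnum using fun g : Localization.AtPrime P => (IsLocalization.surj P.primeCompl g)
  choose den cden hden using fun g : Localization.AtPrime P => hsc (num g).2 (num g).2.2
  choose lift hlift using fun g : W ⧸ P => Ideal.Quotient.mk_surjective g
  let W₀ : Subalgebra V W :=
    Algebra.adjoin V (↑(T₁.image fun g => (num g).1 * cden g) ∪ ↑(T₂.image lift))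
  have hloc : ∀ z : Localization.AtPrime P, ∃ (c : V) (w : W₀), c ∉ p ∧
      algebraMap V (Localization.AtPrime P) c * z = algebraMap W (Localization.AtPrime P) w := by
    intro z
    have hz : z ∈ Algebra.adjoin (Localization.AtPrime p) (T₁ : Set (Localization.AtPrime P)) :=
      hT₁ ▸ Algebra.mem_top
    induction hz using Algebra.adjoin_induction with
    | mem g hg =>
      refine ⟨den g, ⟨(num g).1 * cden g, Algebra.subset_adjoin (Or.inl (Finset.mem_coe.2
        (Finset.mem_image_of_mem _ hg)))⟩, (hden g).1, ?_⟩
      rw [IsScalarTower.algebraMap_apply V W (Localization.AtPrime P), ← (hden g).2]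
      simp only [map_mul]
      rw [← hnum g]
      ring
    | algebraMap r =>
      obtain ⟨a, s, rfl⟩ := IsLocalization.exists_mk'_eq p.primeCompl r
      refine ⟨s, algebraMap V W₀ a, s.2, ?_⟩
      rw [IsScalarTower.algebraMap_apply V (Localization.AtPrime p) (Localization.AtPrime P), ← map_mul,
        IsLocalization.mk'_spec', ← IsScalarTower.algebraMap_apply]
      exact IsScalarTower.algebraMap_apply V W (Localization.AtPrime P) a
    | add x y _ _ hx hy =>
      obtain ⟨c, w, hc, hw⟩ := hx
      obtain ⟨c', w', hc', hw'⟩ := hy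
      refine ⟨c * c', algebraMap V W₀ c' * w + algebraMap V W₀ c * w',
        fun h => (Ideal.IsPrime.mem_or_mem inferInstance h).elim hc hc', ?_⟩
      simp only [Subalgebra.coe_add, Subalgebra.coe_mul, Subalgebra.coe_algebraMap, map_add, map_mul,
        ← hw, ← hw', ← IsScalarTower.algebraMap_apply]
      ring
    | mul x y _ _ hx hy =>
      obtain ⟨c, w, hc, hw⟩ := hx
      obtain ⟨c', w', hc', hw'⟩ := hy
      refine ⟨c * c', w * w', fun h => (Ideal.IsPrime.mem_or_mem inferInstance h).elim hc hc', ?_⟩
      simp only [Subalgebra.coe_mul, map_mul, ← hw, ← hw']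
      ring
  have hcw : ∀ w : W, ∃ c : V, c ∉ p ∧ algebraMap V W c * w ∈ W₀ := by
    intro w
    obtain ⟨c, w₀, hc, hw⟩ := hloc (algebraMap W (Localization.AtPrime P) w)
    refine ⟨c, hc, ?_⟩
    rw [IsScalarTower.algebraMap_apply V W (Localization.AtPrime P), ← map_mul] at hw
    rw [hWinj hw]
    exact w₀.2
  have hpW : ∀ x ∈ p.map (algebraMap V W), x ∈ W₀ := by
    intro x hx
    induction hx using Submodule.span_induction with
    | mem y hy =>
      obtain ⟨q, hq, rfl⟩ := hy
      exact W₀.algebraMap_mem q
    | zero => exact W₀.zero_mem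
    | add y z _ _ hy hz => exact W₀.add_mem hy hz
    | smul a y hy _ =>
      have key : ∀ y ∈ p.map (algebraMap V W), ∀ a : W, a * y ∈ W₀ := by
        intro y hy
        induction hy using Submodule.span_induction with
        | mem z hz =>
          obtain ⟨q, hq, rfl⟩ := hz
          intro a
          obtain ⟨c, hc, hca⟩ := hcw a
          obtain ⟨q', -, rfl⟩ := exists_mul_eq hc hq
          have e : a * algebraMap V W (c * q') = algebraMap V W q' * (algebraMap V W c * a) := by
            rw [map_mul]; ring
          rw [e]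
          exact W₀.mul_mem (W₀.algebraMap_mem q') hca
        | zero => intro a; rw [mul_zero]; exact W₀.zero_mem
        | add y z _ _ hy hz => intro a; rw [mul_add]; exact W₀.add_mem (hy a) (hz a)
        | smul b y _ ih => intro a; rw [smul_eq_mul, ← mul_assoc]; exact ih _
      exact key y hy a
  have htop : W₀ = ⊤ := by
    rw [eq_top_iff]
    intro w _
    have hw : Ideal.Quotient.mk P w ∈ (W₀.map (Ideal.Quotient.mkₐ V P)) := by
      have hle : Algebra.adjoin V (T₂ : Set (W ⧸ P)) ≤ W₀.map (Ideal.Quotient.mkₐ V P) :=
        Algebra.adjoin_le fun g hg => ⟨lift g, Algebra.subset_adjoin (Or.inr (Finset.mem_coe.2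
          (Finset.mem_image_of_mem _ hg))), hlift g⟩
      rw [hT₂] at hle
      exact hle Algebra.mem_top
    obtain ⟨w₀, hw₀, heq⟩ := hw
    have := hpW _ (hP (Ideal.Quotient.eq.1 heq.symm))
    simpa using W₀.add_mem this hw₀
  haveI : Algebra.FiniteType V W := ⟨by
    rw [← htop]
    exact ⟨(T₁.image fun g => (num g).1 * cden g) ∪ T₂.image lift, by rw [Finset.coe_union]⟩⟩
  haveI : Algebra.FinitePresentation V W := finitePresentation_of_torsionFree V W hinj
  haveI : Module.IsTorsionFree V W := .of_smul_eq_zero fun r w h => by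
    rw [Algebra.smul_def] at h
    rcases mul_eq_zero.1 h with h | h
    · exact Or.inl (hinj (h.trans (map_zero _).symm))
    · exact Or.inr h
  haveI : Module.Flat V W := by
    rw [Module.Flat.flat_iff_torsion_eq_bot_of_isBezout, ← Submodule.isTorsionFree_iff_torsion_eq_bot]
    infer_instance
  -- unramified
  haveI : Algebra.FormallyUnramified V (Localization.AtPrime p) :=
    Algebra.FormallyUnramified.of_isLocalization p.primeCompl
  haveI : Algebra.FormallyUnramified V (Localization.AtPrime P) :=
    Algebra.FormallyUnramified.comp V (Localization.AtPrime p) (Localization.AtPrime P)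
  haveI : Algebra.FormallyUnramified V (V ⧸ p) :=
    Algebra.FormallyUnramified.of_surjective (Ideal.Quotient.mkₐ V p) Ideal.Quotient.mk_surjective
  haveI : Algebra.FormallyUnramified V (W ⧸ P) :=
    Algebra.FormallyUnramified.comp V (V ⧸ p) (W ⧸ P)
  haveI : Algebra.FormallyUnramified V W := by
    rw [Algebra.formallyUnramified_iff]
    -- killed by an element outside `p`
    have hkill : ∀ ω : Ω[W⁄V], ∃ c : V, c ∉ p ∧ algebraMap V W c • ω = 0 := by
      intro ω
      have h0 : KaehlerDifferential.map V V W (Localization.AtPrime P) ω = 0 := Subsingleton.elim _ _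
      obtain ⟨s, hs⟩ := (IsLocalizedModule.eq_zero_iff P.primeCompl
        (KaehlerDifferential.map V V W (Localization.AtPrime P))).1 h0
      obtain ⟨c, w, hc, hw⟩ := hsc s s.2
      refine ⟨c, hc, ?_⟩
      rw [← hw, mul_comm, mul_smul, show (s : W) • ω = 0 from hs, smul_zero]
    obtain ⟨T, hT⟩ := (Module.Finite.fg_top : (⊤ : Submodule W (Ω[W⁄V])).FG)
    choose cT hcT hcT' using hkill
    let c := ∏ ω ∈ T, cT ω
    have hc : c ∉ p := fun h => by
      obtain ⟨ω, -, hω⟩ := Ideal.IsPrime.prod_mem_iff.1 h
      exact hcT ω hω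
    have hcall : ∀ ω : Ω[W⁄V], algebraMap V W c • ω = 0 := by
      intro ω
      have hω : ω ∈ Submodule.span W (T : Set (Ω[W⁄V])) := hT ▸ trivial
      induction hω using Submodule.span_induction with
      | mem η hη =>
        obtain ⟨r, hr⟩ := Finset.dvd_prod_of_mem cT (Finset.mem_coe.1 hη)
        rw [show c = cT η * r from hr, map_mul, mul_comm, mul_smul, hcT', smul_zero]
      | zero => rw [smul_zero]
      | add a b _ _ ha hb => rw [smul_add, ha, hb, add_zero]
      | smul a b _ hb => rw [smul_comm, hb, smul_zero]
    let N := p.map (algebraMap V W) • (⊤ : Submodule W (Ω[W⁄V]))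
    have hN0 : N = ⊥ := by
      rw [eq_bot_iff]
      refine Submodule.smul_le.2 fun x hx η _ => ?_
      rw [Submodule.mem_bot]
      induction hx using Submodule.span_induction with
      | mem y hy =>
        obtain ⟨q, hq, rfl⟩ := hy
        obtain ⟨q', -, rfl⟩ := exists_mul_eq hc hq
        rw [map_mul, mul_comm, mul_smul, hcall, smul_zero]
      | zero => rw [zero_smul]
      | add a b _ _ ha hb => rw [add_smul, ha, hb, add_zero]
      | smul a b _ hb => rw [smul_eq_mul, mul_smul, hb, smul_zero]
    -- zero modulo `pΩ`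
    suffices hD : ∀ w : W, KaehlerDifferential.D V W w = 0 by
      refine subsingleton_of_forall_eq 0 fun ω => ?_
      have hω : ω ∈ Submodule.span W (Set.range (KaehlerDifferential.D V W)) :=
        KaehlerDifferential.span_range_derivation V W ▸ trivial
      induction hω using Submodule.span_induction with
      | mem η hη => obtain ⟨w, rfl⟩ := hη; exact hD w
      | zero => rfl
      | add a b _ _ ha hb => rw [ha, hb, add_zero]
      | smul a b _ hb => rw [hb, smul_zero]
    have hdP : ∀ x ∈ p.map (algebraMap V W), KaehlerDifferential.D V W x = 0 := by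
      intro x hx
      induction hx using Submodule.span_induction with
      | mem y hy =>
        obtain ⟨q, hq, rfl⟩ := hy
        exact Derivation.map_algebraMap _ q
      | zero => exact map_zero _
      | add a b _ _ ha hb => rw [map_add, ha, hb, add_zero]
      | smul a b hb' hb =>
        rw [smul_eq_mul, Derivation.leibniz, hb, smul_zero, zero_add]
        exact (Submodule.mem_bot W).1 (hN0 ▸ Submodule.smul_mem_smul hb' trivial)
    letI : Module (W ⧸ P) (Ω[W⁄V]) := Module.IsTorsionBySet.module (I := P) (fun ω x => by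
      exact (Submodule.mem_bot W).1 (hN0 ▸ Submodule.smul_mem_smul (hP x.2) trivial))
    haveI : IsScalarTower V (W ⧸ P) (Ω[W⁄V]) := ⟨fun v x ω => by
      obtain ⟨x, rfl⟩ := Ideal.Quotient.mk_surjective x
      show (v • x) • ω = v • (x • ω)
      exact smul_assoc v x ω⟩
    have hwd : ∀ a b : W, Ideal.Quotient.mk P a = Ideal.Quotient.mk P b →
        KaehlerDifferential.D V W a = KaehlerDifferential.D V W b := fun a b h => by
      have := hdP _ (hP (Ideal.Quotient.eq.1 h))
      rwa [map_sub, sub_eq_zero] at this
    let δ : Derivation V (W ⧸ P) (Ω[W⁄V]) := Derivation.mk'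
      { toFun := fun z => KaehlerDifferential.D V W (lift z)
        map_add' := fun a b => by
          rw [← map_add]
          exact hwd _ _ (by rw [hlift, map_add, hlift, hlift])
        map_smul' := fun v a => by
          rw [RingHom.id_apply, ← Derivation.map_smul]
          exact hwd _ _ (by
            rw [hlift, Algebra.smul_def, Algebra.smul_def, map_mul, hlift]
            rfl) }
      (fun a b => by
        show KaehlerDifferential.D V W (lift (a * b)) =
          a • KaehlerDifferential.D V W (lift b) + b • KaehlerDifferential.D V W (lift a)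
        rw [hwd (lift (a * b)) (lift a * lift b) (by rw [hlift, map_mul, hlift, hlift]), Derivation.leibniz]
        have hact : ∀ (z : W ⧸ P) (η : Ω[W⁄V]), z • η = lift z • η := fun z η => by
          conv_lhs => rw [← hlift z]
          rfl
        rw [hact, hact])
    intro w
    haveI : Subsingleton (Ω[(W ⧸ P)⁄V]) := inferInstance
    have h0 : δ = 0 := by
      rw [← δ.liftKaehlerDifferential_comp, Subsingleton.elim δ.liftKaehlerDifferential 0]
      ext z
      simp
    have h1 := congrArg (fun (d : Derivation V (W ⧸ P) (Ω[W⁄V])) => d (Ideal.Quotient.mk P w)) h0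
    rw [hwd w (lift (Ideal.Quotient.mk P w)) (hlift _).symm]
    exact h1
  exact Algebra.Etale.of_formallyUnramified_of_flat

end Groth.Agent.CommAlg4.ValEtaleGlue
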