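import Groth.Agent.S2049
import Groth.Agent.CAlgH3.ProjDim
import Groth.Agent.FlatMorVal.Reduced
import Mathlib.RingTheory.Flat.TorsionFree

/-! Projective dimension over a flat algebra over a valuation ring with regular closed fibre. -/

set_option autoImplicit false
set_option linter.all false
universe u

open Groth.Agent.CAlgH3 IsLocalRing

namespace Groth.Agent.CommAlg4.ValFibrePD

variable (A C : Type u) [CommRing A] [IsDomain A] [ValuationRing A] [CommRing C] [IsLocalRing C]
  [Algebra A C] [IsLocalHom (algebraMap A C)]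

/-- The ideal of the closed fibre. -/
abbrev J : Ideal C := (maximalIdeal A).map (algebraMap A C)

/-- No `A`-torsion. -/
def TF (M : Type u) [AddCommGroup M] [Module C M] : Prop :=
  ∀ a : A, a ≠ 0 → ∀ m : M, algebraMap A C a • m = 0 → m = 0

variable {A C}

theorem J_ne_top : J A C ≠ ⊤ := fun h => (maximalIdeal.isMaximal C).ne_top <| eq_top_iff.2 <|
  h ▸ Ideal.map_le_iff_le_comap.2 fun a ha => by
    rw [Ideal.mem_comap, mem_maximalIdeal, mem_nonunits_iff]
    exact fun hu => ha (isUnit_of_map_unit (algebraMap A C) a hu)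

theorem exists_eq_mul_of_mem {x : C} (hx : x ∈ J A C) :
    ∃ a ∈ maximalIdeal A, algebraMap A C a ∣ x := by
  induction hx using Submodule.span_induction with
  | mem x hx => obtain ⟨a, ha, rfl⟩ := hx; exact ⟨a, ha, dvd_rfl⟩
  | zero => exact ⟨0, zero_mem _, dvd_zero _⟩
  | add x y _ _ hx hy =>
    obtain ⟨a, ha, hax⟩ := hx
    obtain ⟨b, hb, hby⟩ := hy
    rcases ValuationRing.dvd_total a b with h | h
    · exact ⟨a, ha, dvd_add hax ((map_dvd (algebraMap A C) h).trans hby)⟩
    · exact ⟨b, hb, dvd_add ((map_dvd (algebraMap A C) h).trans hax) hby⟩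
  | smul c x _ hx => obtain ⟨a, ha, hax⟩ := hx; exact ⟨a, ha, hax.mul_left c⟩

theorem exists_dvd_all {ι : Type*} (s : Finset ι) (x : ι → C) (hx : ∀ i ∈ s, x i ∈ J A C) :
    ∃ a ∈ maximalIdeal A, ∀ i ∈ s, algebraMap A C a ∣ x i := by
  classical
  induction s using Finset.induction_on with
  | empty => exact ⟨0, zero_mem _, by simp⟩
  | insert i s hi ih =>
    obtain ⟨a, ha, has⟩ := ih fun j hj => hx j (Finset.mem_insert_of_mem hj)
    obtain ⟨b, hb, hbi⟩ := exists_eq_mul_of_mem (hx i (Finset.mem_insert_self i s))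
    rcases ValuationRing.dvd_total a b with h | h
    · exact ⟨a, ha, fun j hj => (Finset.mem_insert.1 hj).elim
        (fun e => e ▸ (map_dvd (algebraMap A C) h).trans hbi) (has j)⟩
    · exact ⟨b, hb, fun j hj => (Finset.mem_insert.1 hj).elim
        (fun e => e ▸ hbi) fun hj => (map_dvd (algebraMap A C) h).trans (has j hj)⟩

theorem pi_mem_smul_top {r : ℕ} {x : Fin r → C} (hx : ∀ i, x i ∈ J A C) :
    x ∈ J A C • (⊤ : Submodule C (Fin r → C)) := by
  rw [← (Pi.basisFun C (Fin r)).sum_repr x]
  exact Submodule.sum_mem _ fun i _ => Submodule.smul_mem_smul (by simpa using hx i) trivial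

theorem smul_top_mem_pi {r : ℕ} {x : Fin r → C} (hx : x ∈ J A C • (⊤ : Submodule C (Fin r → C))) (i : Fin r) :
    x i ∈ J A C := by
  refine Submodule.smul_induction_on hx (fun c hc y _ => ?_) fun y z hy hz => add_mem hy hz
  exact Ideal.mul_mem_right _ _ hc

theorem tf_free [Module.Flat A C] (r : ℕ) : TF A C (Fin r → C) := fun a ha m hm => by
  funext i
  have hreg : IsSMulRegular C a :=
    Module.Flat.isSMulRegular_of_isRegular (IsRegular.of_ne_zero ha)
  refine hreg.right_eq_zero_of_smul ?_
  rw [Algebra.smul_def]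
  exact congrFun hm i

theorem tf_injective {M N : Type u} [AddCommGroup M] [Module C M] [AddCommGroup N] [Module C N]
    (f : M →ₗ[C] N) (hf : Function.Injective f) (h : TF A C N) : TF A C M := fun a ha m hm =>
  hf ((h a ha (f m) (by rw [← map_smul, hm, map_zero])).trans (map_zero f).symm)

theorem tf_submodule {M : Type u} [AddCommGroup M] [Module C M] (N : Submodule C M) (h : TF A C M) :
    TF A C N :=
  tf_injective N.subtype Subtype.val_injective h

/-- Kernels of maps to torsion-free modules meet `J F` in `J` times themselves. -/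
theorem ker_inf_le {r : ℕ} {M : Type u} [AddCommGroup M] [Module C M] (hM : TF A C M)
    (f : (Fin r → C) →ₗ[C] M) {x : Fin r → C} (hx : x ∈ LinearMap.ker f)
    (hxJ : x ∈ J A C • (⊤ : Submodule C (Fin r → C))) : x ∈ J A C • LinearMap.ker f := by
  obtain ⟨a, ha, hax⟩ := exists_dvd_all Finset.univ x fun i _ => smul_top_mem_pi hxJ i
  choose y hy using fun i => hax i (Finset.mem_univ i)
  have hxy : x = algebraMap A C a • y := funext hy
  by_cases ha0 : a = 0
  · rw [hxy, ha0, map_zero, zero_smul]; exact zero_mem _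
  · rw [hxy]
    refine Submodule.smul_mem_smul (Ideal.mem_map_of_mem _ ha) ?_
    rw [LinearMap.mem_ker, hxy, map_smul] at hx
    exact hM a ha0 _ hx

variable [Algebra.EssFiniteType A C]

theorem finitePresentation_of_tf (M : Type u) [AddCommGroup M] [Module C M] [Module.Finite C M]
    (hM : TF A C M) : Module.FinitePresentation C M := by
  letI : Module A M := Module.compHom M (algebraMap A C)
  haveI : IsScalarTower A C M := IsScalarTower.of_algebraMap_smul fun _ _ => rfl
  haveI : Module.Flat A M := by
    rw [Module.Flat.flat_iff_torsion_eq_bot_of_isBezout, eq_bot_iff]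
    rintro m ⟨a, ha⟩
    exact hM a (nonZeroDivisors.ne_zero a.2) m ha
  exact Groth.Agent.S2049.result (A := A)

theorem finite_ker {r : ℕ} (M : Type u) [AddCommGroup M] [Module C M]
    (hM : TF A C M) (f : (Fin r → C) →ₗ[C] M) : Module.Finite C (LinearMap.ker f) := by
  haveI : Module.Finite C (LinearMap.range f) := Module.Finite.range f
  haveI := finitePresentation_of_tf (A := A) (LinearMap.range f) (tf_submodule _ hM)
  have := Module.FinitePresentation.fg_ker f.rangeRestrict f.surjective_rangeRestrict
  rw [LinearMap.ker_rangeRestrict] at this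
  exact Module.Finite.iff_fg.2 this

theorem pd_of_fibre [Module.Flat A C] :
    ∀ (k : ℕ) (M : Type u) [AddCommGroup M] [Module C M] [Module.Finite C M], TF A C M →
      PD (C ⧸ J A C) (k + 1) (M ⧸ (J A C • ⊤ : Submodule C M)) → PD C (k + 1) M := by
  intro k
  induction k with
  | zero =>
    intro M _ _ _ hM h
    rw [pd_one_iff] at h ⊢
    haveI := h
    haveI : Nontrivial (C ⧸ J A C) := Ideal.Quotient.nontrivial_iff.2 J_ne_top
    haveI : IsLocalRing (C ⧸ J A C) := .of_surjective' (Ideal.Quotient.mk _) Ideal.Quotient.mk_surjective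
    haveI : Module.Finite (C ⧸ J A C) (M ⧸ (J A C • ⊤ : Submodule C M)) :=
      Module.Finite.of_restrictScalars_finite C _ _
    haveI : Module.Free (C ⧸ J A C) (M ⧸ (J A C • ⊤ : Submodule C M)) :=
      Module.free_of_flat_of_isLocalRing
    let b := Module.finBasis (C ⧸ J A C) (M ⧸ (J A C • ⊤ : Submodule C M))
    choose v hv using fun i => Submodule.Quotient.mk_surjective _ (b i)
    let f := Fintype.linearCombination C v
    have hsurj : Function.Surjective f := by
      rw [← LinearMap.range_eq_top, Fintype.range_linearCombination, eq_top_iff]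
      refine Submodule.le_of_le_smul_of_le_jacobson_bot (I := J A C) Module.Finite.fg_top
        ((IsLocalRing.le_maximalIdeal J_ne_top).trans (maximalIdeal_le_jacobson _)) fun m _ => ?_
      have hm : Submodule.Quotient.mk m ∈ (Submodule.span C (Set.range v)).map (J A C • ⊤ : Submodule C M).mkQ := by
        rw [Submodule.map_span, ← Set.range_comp, show (J A C • ⊤ : Submodule C M).mkQ ∘ v = b from funext hv]
        have := b.mem_span (Submodule.Quotient.mk m)
        rwa [← Submodule.restrictScalars_mem C, Submodule.restrictScalars_span C (C ⧸ J A C) Ideal.Quotient.mk_surjective] at this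
      obtain ⟨w, hw, hwm⟩ := hm
      rw [← add_sub_cancel w m]
      refine Submodule.add_mem_sup hw ?_
      rw [← Submodule.Quotient.mk_eq_zero, Submodule.Quotient.mk_sub, sub_eq_zero]
      exact hwm.symm
    haveI := finite_ker (A := A) M hM f
    have hker : LinearMap.ker f = ⊥ := by
      refine Submodule.eq_bot_of_le_smul_of_le_jacobson_bot (J A C) _ (Module.Finite.iff_fg.1 inferInstance)
        (fun c hc => ?_) ((IsLocalRing.le_maximalIdeal J_ne_top).trans (maximalIdeal_le_jacobson _))
      refine ker_inf_le hM f hc (pi_mem_smul_top fun i => ?_)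
      have h0 : ∑ i, Ideal.Quotient.mk (J A C) (c i) • b i = 0 := by
        have h1 : (J A C • ⊤ : Submodule C M).mkQ (f c) = 0 := by rw [LinearMap.mem_ker.1 hc, map_zero]
        rw [Fintype.linearCombination_apply, map_sum] at h1
        rw [← h1]
        refine Finset.sum_congr rfl fun j _ => ?_
        rw [map_smul, ← hv j]
        rfl
      have := congrArg (fun z => b.repr z i) h0
      simp only [map_sum, map_smul, Module.Basis.repr_self, map_zero, Finsupp.coe_zero, Pi.zero_apply,
        Finsupp.coe_finsetSum, Finset.sum_apply, Finsupp.coe_smul, Pi.smul_apply, Finsupp.single_apply,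
        smul_eq_mul, mul_ite, mul_one, mul_zero, Finset.sum_ite_eq', Finset.mem_univ, if_true] at this
      exact Ideal.Quotient.eq_zero_iff_mem.1 this
    exact Module.Projective.of_equiv' (LinearEquiv.ofBijective f ⟨LinearMap.ker_eq_bot.1 hker, hsurj⟩)
  | succ k ih =>
    intro M _ _ _ hM h
    obtain ⟨r, f, hf⟩ := Module.Finite.exists_fin' C M
    haveI := finite_ker (A := A) M hM f
    rw [pd_ker_iff hf k]
    refine ih (LinearMap.ker f) (tf_submodule _ (tf_free r)) ?_
    -- the fibre of the kernel
    let K := LinearMap.ker f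
    let F := Fin r → C
    let f₀ : (F ⧸ (J A C • ⊤ : Submodule C F)) →ₗ[C] M ⧸ (J A C • ⊤ : Submodule C M) :=
      Submodule.mapQ _ _ f (Submodule.smul_top_le_comap_smul_top _ _)
    let f₁ := f₀.extendScalarsOfSurjective (Ideal.Quotient.mk_surjective (I := J A C))
    have hf₁ : Function.Surjective f₁ := fun y => by
      obtain ⟨m, rfl⟩ := Submodule.Quotient.mk_surjective _ y
      obtain ⟨x, rfl⟩ := hf m
      exact ⟨Submodule.Quotient.mk x, rfl⟩
    haveI : Module.Projective (C ⧸ J A C) (F ⧸ (J A C • ⊤ : Submodule C F)) := by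
      let φ : F →ₗ[C] (Fin r → C ⧸ J A C) :=
        LinearMap.pi fun i => (Submodule.mkQ (J A C)).comp (LinearMap.proj i)
      have hφ : Function.Surjective φ := fun y => ⟨fun i => (Ideal.Quotient.mk_surjective (y i)).choose,
        funext fun i => (Ideal.Quotient.mk_surjective (y i)).choose_spec⟩
      have hkφ : LinearMap.ker φ = (J A C • ⊤ : Submodule C F) := by
        ext x
        exact ⟨fun hx => pi_mem_smul_top fun i => Ideal.Quotient.eq_zero_iff_mem.1 (congrFun hx i),
          fun hx => funext fun i => Ideal.Quotient.eq_zero_iff_mem.2 (smul_top_mem_pi hx i)⟩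
      let e := (Submodule.quotEquivOfEq _ _ hkφ.symm).trans (φ.quotKerEquivOfSurjective hφ)
      exact Module.Projective.of_equiv' (LinearEquiv.extendScalarsOfSurjective
        (Ideal.Quotient.mk_surjective (I := J A C)) e).symm
    have h2 := (pd_ker_iff hf₁ k).1 h
    let ψ₀ : (K ⧸ (J A C • ⊤ : Submodule C K)) →ₗ[C] (F ⧸ (J A C • ⊤ : Submodule C F)) :=
      Submodule.mapQ _ _ K.subtype (Submodule.smul_top_le_comap_smul_top _ _)
    let ψ₁ := ψ₀.extendScalarsOfSurjective (Ideal.Quotient.mk_surjective (I := J A C))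
    have hψi : Function.Injective ψ₁ := by
      rw [injective_iff_map_eq_zero]
      intro y hy
      obtain ⟨x, rfl⟩ := Submodule.Quotient.mk_surjective _ y
      have hx : (x : F) ∈ J A C • (⊤ : Submodule C F) := (Submodule.Quotient.mk_eq_zero _).1 hy
      rw [Submodule.Quotient.mk_eq_zero, ← Submodule.comap_map_eq_of_injective (f := K.subtype)
        Subtype.val_injective (J A C • ⊤ : Submodule C K), Submodule.map_smul'', Submodule.map_subtype_top]
      exact ker_inf_le hM f x.2 hx
    have hψr : LinearMap.range ψ₁ = LinearMap.ker f₁ := by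
      ext y
      constructor
      · rintro ⟨z, rfl⟩
        obtain ⟨x, rfl⟩ := Submodule.Quotient.mk_surjective _ z
        show Submodule.Quotient.mk (f x) = 0
        rw [LinearMap.mem_ker.1 x.2]; rfl
      · intro hy
        obtain ⟨x, rfl⟩ := Submodule.Quotient.mk_surjective _ y
        have hx : f x ∈ J A C • (⊤ : Submodule C M) := (Submodule.Quotient.mk_eq_zero _).1 hy
        rw [← LinearMap.range_eq_top.2 hf, LinearMap.range_eq_map, ← Submodule.map_smul''] at hx
        obtain ⟨z, hz, hzx⟩ := hx
        refine ⟨Submodule.Quotient.mk ⟨x - z, by rw [LinearMap.mem_ker, map_sub, hzx, sub_self]⟩, ?_⟩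
        show Submodule.Quotient.mk (x - z) = Submodule.Quotient.mk x
        rw [Submodule.Quotient.eq]
        rw [sub_sub_cancel_left]
        exact neg_mem hz
    exact (pd_congr ((LinearEquiv.ofInjective ψ₁ hψi).trans (LinearEquiv.ofEq _ _ hψr))).2 h2

variable [Module.Flat A C] [IsRegularLocalRing (C ⧸ J A C)] {n : ℕ} (hn : ringKrullDim (C ⧸ J A C) = n)

include hn in
theorem pd_of_tf (M : Type u) [AddCommGroup M] [Module C M] [Module.Finite C M] (hM : TF A C M) :
    PD C (n + 1) M := by
  refine pd_of_fibre n M hM ?_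
  haveI : Module.Finite (C ⧸ J A C) (M ⧸ (J A C • ⊤ : Submodule C M)) :=
    Module.Finite.of_restrictScalars_finite C _ _
  have h := pd_finite (R := C ⧸ J A C) (M ⧸ (J A C • ⊤ : Submodule C M))
  have h1 := IsRegularLocalRing.spanFinrank_maximalIdeal (R := C ⧸ J A C)
  rw [hn] at h1
  rwa [Nat.cast_injective h1] at h

include hn in
theorem pd_of_fp (M : Type u) [AddCommGroup M] [Module C M] [Module.FinitePresentation C M] :
    PD C (n + 2) M := by
  obtain ⟨r, f, hf⟩ := Module.Finite.exists_fin' C M
  haveI : Module.Finite C (LinearMap.ker f) :=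
    Module.Finite.iff_fg.2 (Module.FinitePresentation.fg_ker f hf)
  rw [pd_ker_iff hf]
  exact pd_of_tf hn _ (tf_submodule _ (tf_free (A := A) r))

include hn in
theorem pd_of_reflexive (M : Type u) [AddCommGroup M] [Module C M] [Module.FinitePresentation C M]
    [Module.IsReflexive C M] : PD C (n - 1 + 1) M := by
  obtain ⟨r, p, hp⟩ := Module.Finite.exists_fin' C M
  obtain ⟨s, q, hq⟩ : ∃ (s : ℕ) (q : (Fin s → C) →ₗ[C] (Fin r → C)), LinearMap.range q = LinearMap.ker p := by
    haveI : Module.Finite C (LinearMap.ker p) :=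
      Module.Finite.iff_fg.2 (Module.FinitePresentation.fg_ker p hp)
    obtain ⟨s, q, hq⟩ := Module.Finite.exists_fin' C (LinearMap.ker p)
    exact ⟨s, (LinearMap.ker p).subtype ∘ₗ q, by
      rw [LinearMap.range_comp, LinearMap.range_eq_top.2 hq, Submodule.map_subtype_top]⟩
  let eD : ∀ m : ℕ, (Fin m → C) ≃ₗ[C] Module.Dual C (Fin m → C) := fun m => (Pi.basisFun C (Fin m)).toDualEquiv
  -- `M* = ker(g₁)` is finite and torsion-free
  let g₁ : (Fin r → C) →ₗ[C] (Fin s → C) := (eD s).symm.toLinearMap ∘ₗ q.dualMap ∘ₗ (eD r).toLinearMap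
  haveI : Module.Finite C (LinearMap.ker g₁) := finite_ker (A := A) _ (tf_free s) g₁
  let i₁ : Module.Dual C M →ₗ[C] LinearMap.ker g₁ := LinearMap.codRestrict _
    ((eD r).symm.toLinearMap ∘ₗ p.dualMap) fun φ => by
      rw [LinearMap.mem_ker]
      show (eD s).symm (q.dualMap (eD r ((eD r).symm (p.dualMap φ)))) = 0
      rw [LinearEquiv.apply_symm_apply, LinearEquiv.map_eq_zero_iff]
      refine LinearMap.ext fun w => ?_
      show φ (p (q w)) = 0
      rw [LinearMap.mem_ker.1 (hq ▸ LinearMap.mem_range_self q w : q w ∈ LinearMap.ker p), map_zero]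
  have hi₁ : Function.Bijective i₁ := by
    refine ⟨fun φ ψ h => ?_, fun x => ?_⟩
    · exact LinearMap.dualMap_injective_of_surjective hp ((eD r).symm.injective (congrArg Subtype.val h))
    · have hx : q.dualMap (eD r x) = 0 := by
        have := LinearMap.mem_ker.1 x.2
        exact (eD s).symm.map_eq_zero_iff.1 this
      have hle : LinearMap.ker p ≤ LinearMap.ker (eD r x : (Fin r → C) →ₗ[C] C) := by
        rw [← hq]
        rintro _ ⟨w, rfl⟩
        exact LinearMap.congr_fun hx w
      refine ⟨(Submodule.liftQ _ (eD r x) hle) ∘ₗ (p.quotKerEquivOfSurjective hp).symm.toLinearMap,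
        Subtype.ext ?_⟩
      show (eD r).symm (p.dualMap _) = x
      rw [LinearEquiv.symm_apply_eq]
      refine LinearMap.ext fun w => ?_
      show Submodule.liftQ _ (eD r x) hle ((p.quotKerEquivOfSurjective hp).symm (p w)) = _
      rw [show (p.quotKerEquivOfSurjective hp).symm (p w) = Submodule.Quotient.mk w from
        (p.quotKerEquivOfSurjective hp).symm_apply_eq.2 rfl]
      rfl
  let e₁ := LinearEquiv.ofBijective i₁ hi₁
  haveI : Module.Finite C (Module.Dual C M) := Module.Finite.equiv e₁.symm
  have htf : TF A C (Module.Dual C M) :=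
    tf_injective e₁.toLinearMap e₁.injective (tf_submodule _ (tf_free r))
  haveI := finitePresentation_of_tf (A := A) (Module.Dual C M) htf
  -- presentation of `M*`
  obtain ⟨r', p', hp'⟩ := Module.Finite.exists_fin' C (Module.Dual C M)
  obtain ⟨s', q', hq'⟩ : ∃ (s' : ℕ) (q' : (Fin s' → C) →ₗ[C] (Fin r' → C)),
      LinearMap.range q' = LinearMap.ker p' := by
    haveI : Module.Finite C (LinearMap.ker p') :=
      Module.Finite.iff_fg.2 (Module.FinitePresentation.fg_ker p' hp')
    obtain ⟨s', q', hq'⟩ := Module.Finite.exists_fin' C (LinearMap.ker p')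
    exact ⟨s', (LinearMap.ker p').subtype ∘ₗ q', by
      rw [LinearMap.range_comp, LinearMap.range_eq_top.2 hq', Submodule.map_subtype_top]⟩
  let j : M →ₗ[C] (Fin r' → C) :=
    (eD r').symm.toLinearMap ∘ₗ p'.dualMap ∘ₗ (Module.evalEquiv C M).toLinearMap
  have hj : Function.Injective j :=
    (eD r').symm.injective.comp ((LinearMap.dualMap_injective_of_surjective hp').comp
      (Module.evalEquiv C M).injective)
  let g : (Fin r' → C) →ₗ[C] (Fin s' → C) := (eD s').symm.toLinearMap ∘ₗ q'.dualMap ∘ₗ (eD r').toLinearMap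
  have hjr : LinearMap.range j = LinearMap.ker g := by
    ext x
    simp only [LinearMap.mem_range, LinearMap.mem_ker]
    constructor
    · rintro ⟨m, rfl⟩
      show (eD s').symm (q'.dualMap (eD r' ((eD r').symm (p'.dualMap _)))) = 0
      rw [LinearEquiv.apply_symm_apply, LinearEquiv.map_eq_zero_iff]
      refine LinearMap.ext fun w => ?_
      show (Module.evalEquiv C M m) (p' (q' w)) = 0
      rw [LinearMap.mem_ker.1 (hq' ▸ LinearMap.mem_range_self q' w : q' w ∈ LinearMap.ker p'), map_zero]
    · intro hx
      have hx' : q'.dualMap (eD r' x) = 0 := (eD s').symm.map_eq_zero_iff.1 hx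
      have hle : LinearMap.ker p' ≤ LinearMap.ker (eD r' x : (Fin r' → C) →ₗ[C] C) := by
        rw [← hq']
        rintro _ ⟨w, rfl⟩
        exact LinearMap.congr_fun hx' w
      refine ⟨(Module.evalEquiv C M).symm
        ((Submodule.liftQ _ (eD r' x) hle) ∘ₗ (p'.quotKerEquivOfSurjective hp').symm.toLinearMap), ?_⟩
      show (eD r').symm (p'.dualMap _) = x
      erw [LinearEquiv.apply_symm_apply]
      rw [LinearEquiv.symm_apply_eq]
      refine LinearMap.ext fun w => ?_
      show Submodule.liftQ _ (eD r' x) hle ((p'.quotKerEquivOfSurjective hp').symm (p' w)) = _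
      rw [show (p'.quotKerEquivOfSurjective hp').symm (p' w) = Submodule.Quotient.mk w from
        (p'.quotKerEquivOfSurjective hp').symm_apply_eq.2 rfl]
      rfl
  rcases Nat.eq_zero_or_pos n with rfl | hn0
  · exact pd_of_tf hn M (tf_injective j hj (tf_free r'))
  · rw [pd_congr ((LinearEquiv.ofInjective j hj).trans (LinearEquiv.ofEq _ _ hjr)),
      ← LinearMap.ker_rangeRestrict g]
    obtain ⟨k, rfl⟩ := Nat.exists_eq_succ_of_ne_zero hn0.ne'
    rw [Nat.succ_eq_add_one, Nat.add_sub_cancel]
    refine (pd_ker_iff g.surjective_rangeRestrict k).1 ?_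
    haveI : Module.Finite C (LinearMap.range g) := Module.Finite.range g
    haveI : Module.FinitePresentation C ((Fin s' → C) ⧸ LinearMap.range g) :=
      Module.finitePresentation_of_surjective _ (Submodule.mkQ_surjective _)
        (by rw [Submodule.ker_mkQ]; exact Module.Finite.iff_fg.1 inferInstance)
    have h3 := pd_of_fp hn ((Fin s' → C) ⧸ LinearMap.range g)
    rw [pd_ker_iff (Submodule.mkQ_surjective _) (k + 1)] at h3
    exact (pd_congr (LinearEquiv.ofEq _ _ (Submodule.ker_mkQ _))).1 h3

end Groth.Agent.CommAlg4.ValFibrePD
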