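import Groth.Agent.CommAlg4.ValFibrePD
import Mathlib.RingTheory.FinitePresentation

/-! Localization setup for the valuation-ring fibre bound. -/

set_option autoImplicit false
set_option linter.all false
universe u

open Groth.Agent.CAlgH3

namespace Groth.Agent.CommAlg4.ValFibrePD

variable (V : Type u) [CommRing V] [IsDomain V] [ValuationRing V]
  (B : Type u) [CommRing B] [Algebra V B] [Module.Flat V B] [Algebra.FinitePresentation V B]
  (q : Ideal B) [q.IsPrime] (n : ℕ)
  (hreg : IsRegularLocalRing (Localization.AtPrime q ⧸ Ideal.map (algebraMap V (Localization.AtPrime q)) (Ideal.comap (algebraMap V B) q)))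
  (hn : ringKrullDim (Localization.AtPrime q ⧸ Ideal.map (algebraMap V (Localization.AtPrime q)) (Ideal.comap (algebraMap V B) q)) = n)

include hreg hn in
theorem setup :
    (∀ (M : Type u) [AddCommGroup M] [Module (Localization.AtPrime q) M]
      [Module.FinitePresentation (Localization.AtPrime q) M] [Module V M]
      [IsScalarTower V (Localization.AtPrime q) M] [Module.Flat V M],
      PD (Localization.AtPrime q) (n + 1) M) ∧
    (∀ (M : Type u) [AddCommGroup M] [Module (Localization.AtPrime q) M]
      [Module.FinitePresentation (Localization.AtPrime q) M],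
      PD (Localization.AtPrime q) (n + 2) M) ∧
    (∀ (M : Type u) [AddCommGroup M] [Module (Localization.AtPrime q) M]
      [Module.FinitePresentation (Localization.AtPrime q) M] [Module.IsReflexive (Localization.AtPrime q) M],
      PD (Localization.AtPrime q) (n - 1 + 1) M) := by
  let p := q.comap (algebraMap V B)
  let A := Localization.AtPrime p
  let C := Localization.AtPrime q
  haveI : q.LiesOver p := ⟨rfl⟩
  haveI : ValuationRing A := Groth.Agent.FlatMorVal.valuationRing_localization V p
  letI : Algebra A C := Localization.AtPrime.algebraOfLiesOver p q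
  haveI : IsScalarTower V A C := IsScalarTower.of_algebraMap_eq fun r => by
    show algebraMap V C r = Localization.localRingHom p q (algebraMap V B) rfl (algebraMap V A r)
    rw [Localization.localRingHom_to_map, ← IsScalarTower.algebraMap_apply]
  haveI : IsLocalHom (algebraMap A C) := Localization.isLocalHom_localRingHom p q (algebraMap V B) rfl
  haveI : Module.Flat V C := Module.Flat.trans V B C
  haveI : Module.Flat A C := Module.flat_iff_of_isLocalization A p.primeCompl C |>.2 inferInstance
  haveI : Algebra.EssFiniteType B C := Algebra.EssFiniteType.of_isLocalization C q.primeCompl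
  haveI : Algebra.EssFiniteType V C := Algebra.EssFiniteType.comp V B C
  haveI : Algebra.EssFiniteType A C := Algebra.EssFiniteType.of_comp V A C
  have hJ : J A C = Ideal.map (algebraMap V C) p := by
    show Ideal.map (algebraMap A C) (IsLocalRing.maximalIdeal A) = _
    rw [← Localization.AtPrime.map_eq_maximalIdeal, Ideal.map_map, ← IsScalarTower.algebraMap_eq]
  haveI : IsRegularLocalRing (C ⧸ J A C) := by rw [hJ]; exact hreg
  have hn' : ringKrullDim (C ⧸ J A C) = n := by rw [hJ]; exact hn
  refine ⟨fun M _ _ _ _ _ _ => pd_of_tf hn' M ?_, fun M _ _ _ => pd_of_fp hn' M,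
    fun M _ _ _ _ => pd_of_reflexive hn' M⟩
  intro a ha m hm
  obtain ⟨v, s, rfl⟩ := IsLocalization.exists_mk'_eq p.primeCompl a
  have hv : v ≠ 0 := fun h => ha (by rw [h, IsLocalization.mk'_zero])
  have h1 : v • m = 0 := by
    have h2 := congrArg (algebraMap A C) (IsLocalization.mk'_spec A v s)
    rw [map_mul, ← IsScalarTower.algebraMap_apply V A C, ← IsScalarTower.algebraMap_apply V A C] at h2
    rw [← algebraMap_smul C v m, ← h2, mul_comm, mul_smul, hm, smul_zero]
  exact (Module.Flat.isSMulRegular_of_isRegular (M := M) (IsRegular.of_ne_zero hv)).right_eq_zero_of_smul h1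

end Groth.Agent.CommAlg4.ValFibrePD
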