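import Groth.Agent.HenselLib.WContract
import Groth.Agent.HenselLib.WLocCanon
import Groth.Agent.S0677
import Groth.Agent.S0692
import Groth.Agent.S0697
import Groth.Agent.S0704
import Groth.Agent.S0734
import Groth.Agent.S0736
import Groth.Agent.Et18.H0Lift.AbsInt

/-! Every ring has a faithfully flat ind-etale w-contractible algebra. -/

set_option autoImplicit false
set_option linter.style.haveILetI false

universe u

open Groth.Agent.HenselLib

namespace Groth.Agent.CommAlg4

/-- A homeomorphic copy of a w-local space is w-local. -/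
theorem isWLocal_homeo {X Y : Type u} [TopologicalSpace X] [TopologicalSpace Y] [SpectralSpace X]
    (φ : X ≃ₜ Y) (hY : ProEtW.IsWLocal Y) :
    ProEtW.IsWLocal X ∧ ∀ x : X, IsClosed ({x} : Set X) ↔ IsClosed ({φ x} : Set Y) := by
  have hcl : ∀ x : X, IsClosed ({x} : Set X) ↔ IsClosed ({φ x} : Set Y) := fun x => by
    rw [← φ.isClosed_image, Set.image_singleton]
  refine ⟨⟨inferInstance, ?_, fun x => ?_⟩, hcl⟩
  · simp only [hcl]
    exact hY.2.1.preimage φ.continuous
  · obtain ⟨y, ⟨hy, hxy⟩, huniq⟩ := hY.2.2 (φ x)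
    refine ⟨φ.symm y, ⟨(hcl _).2 (by rwa [φ.apply_symm_apply]),
      φ.isInducing.specializes_iff.1 (by rwa [φ.apply_symm_apply])⟩, fun x' h' => ?_⟩
    rw [← φ.symm_apply_apply x']
    exact congrArg φ.symm (huniq _ ⟨(hcl x').1 h'.1, h'.2.map φ.continuous⟩)

/-- A faithfully flat ind-etale w-contractible cover. -/
theorem exists_wContractible_cover (A : Type u) [CommRing A] :
    ∃ (D : Type u) (_ : CommRing D) (_ : Algebra A D),
      Module.FaithfullyFlat A D ∧ EtPBC.IsIndEtale A D ∧ EtPBC.IsWContractible D := by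
  classical
  have halg : ProEtW.AlgebraicResidueExtensions A A := by
    intro q hq
    infer_instance
  obtain ⟨C, C', _, _, _, _, _, _, _, _, hCff, hCie, -, -, hCw, -, -, -, -, -, hCsh⟩ :=
    S0692.result A A halg
  haveI := hCff
  let P := _root_.ConnectedComponents (PrimeSpectrum C)
  haveI : T2Space P := WCtr.t2Space_components
  let T := StoneCech (WithTopology P ⊥)
  haveI : DiscreteTopology (WithTopology P ⊥) :=
    discreteTopology_iff_forall_isOpen.2 fun s => (WithTopology.isOpen_iff _).2 trivial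
  haveI : ExtremallyDisconnected T := CompactT2.Projective.extremallyDisconnected StoneCech.projective
  have hg0 : Continuous (fun z : WithTopology P ⊥ => z.ofTopology) := continuous_of_discreteTopology
  let g : C(T, P) := ⟨stoneCechExtend hg0, continuous_stoneCechExtend hg0⟩
  have hg : Function.Surjective g := fun z =>
    ⟨stoneCechUnit (WithTopology.toTopology (⊥ : TopologicalSpace P) z),
      stoneCechExtend_stoneCechUnit hg0 _⟩
  obtain ⟨B, _, _, e, hiz, -, hemb, hrange⟩ := S0697.result C T g
  let φ : PrimeSpectrum B ≃ₜ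
      {p : PrimeSpectrum C × T // _root_.ConnectedComponents.mk p.1 = g p.2} :=
    hemb.toHomeomorph.trans (Homeomorph.setCongr hrange)
  obtain ⟨hY, hYmap, -⟩ := S0704.result (PrimeSpectrum C) T hCw g
  obtain ⟨hBw, hcl⟩ := isWLocal_homeo φ hY
  have hφ : ∀ y, (φ y).1.1 = PrimeSpectrum.comap (algebraMap C B) y := fun y => rfl
  have hCB : EtPBC.IsIndEtale C B := IndEt.indEtale_of_indZariski hiz
  haveI : Algebra.WeaklyEtale C B := S0736.result C B hCB
  haveI : Module.Flat C B := Algebra.WeaklyEtale.flat
  haveI : Module.FaithfullyFlat C B := by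
    refine Module.FaithfullyFlat.of_comap_surjective fun x => ?_
    obtain ⟨t, ht⟩ := hg (_root_.ConnectedComponents.mk x)
    refine ⟨φ.symm ⟨(x, t), ht.symm⟩, ?_⟩
    rw [← hφ, φ.apply_symm_apply]
  letI : Algebra A B := ((algebraMap C B).comp (algebraMap A C)).toAlgebra
  haveI : IsScalarTower A C B := IsScalarTower.of_algebraMap_eq fun _ => rfl
  refine ⟨B, inferInstance, inferInstance, Module.FaithfullyFlat.trans A C B,
    S0734.result A C B hCie hCB, (S0677.result B).2 ⟨hBw, WCtr.extremallyDisconnected_homeo e.symm,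
      fun m hm => ?_⟩⟩
  let q : PrimeSpectrum B := ⟨m, hm.isPrime⟩
  have hq : IsClosed ({q} : Set (PrimeSpectrum B)) :=
    (PrimeSpectrum.isClosed_singleton_iff_isMaximal q).2 hm
  have hqc : IsClosed ({PrimeSpectrum.comap (algebraMap C B) q} : Set (PrimeSpectrum C)) := by
    rw [← hφ]
    exact hYmap.2 _ ((hcl q).1 hq)
  haveI : (m.comap (algebraMap C B)).IsMaximal :=
    (PrimeSpectrum.isClosed_singleton_iff_isMaximal (PrimeSpectrum.comap (algebraMap C B) q)).1 hqc
  have hb := WCtr.bijAt_of_isIndZariski hiz q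
  exact Et18.H0Lift.isStrictlyHenselian_of_equiv (RingEquiv.ofBijective _ hb) (hCsh _)

end Groth.Agent.CommAlg4
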