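import Mathlib
import Groth.Agent.SpecSeq.MapExtend
import Groth.Agent.CommAlg4.RightResol

/-! Bounded below complexes with cohomology in an extension-closed abelian subcategory with enough
injectives of the ambient category. -/
set_option autoImplicit false
set_option linter.style.haveILetI false
set_option linter.unusedSectionVars false
set_option backward.isDefEq.respectTransparency false
universe w w' v v' u u'
open CategoryTheory CategoryTheory.Limits HomologicalComplex
open scoped ZeroObject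

namespace Groth.Agent.CommAlg4.WeakInjRes

attribute [local instance] Abelian.hasFiniteBiproducts

variable {A' : Type u'} [Category.{v'} A'] [Abelian A'] {A : Type u} [Category.{v} A] [Abelian A]
  (ι : A' ⥤ A) [ι.Additive] [PreservesFiniteLimits ι] [PreservesFiniteColimits ι] [ι.Full] [ι.Faithful]
  (hext : ∀ S : ShortComplex A, S.ShortExact → ι.essImage S.X₁ → ι.essImage S.X₃ → ι.essImage S.X₂)
  (hinj : ∀ X' : A', ∃ (Y' : A') (i : X' ⟶ Y'), Mono i ∧ Injective (ι.obj Y'))

theorem essImage_of_iso {X Y : A} (h : ι.essImage X) (e : X ≅ Y) : ι.essImage Y := by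
  obtain ⟨Z, ⟨f⟩⟩ := h
  exact ⟨Z, ⟨f ≪≫ e⟩⟩

theorem essImage_cokernel {X Y : A} (f : X ⟶ Y) (hX : ι.essImage X) (hY : ι.essImage Y) :
    ι.essImage (cokernel f) := by
  obtain ⟨X', ⟨e⟩⟩ := hX
  obtain ⟨Y', ⟨e'⟩⟩ := hY
  refine ⟨cokernel (ι.preimage (e.hom ≫ f ≫ e'.inv)), ⟨PreservesCokernel.iso ι _ ≪≫
    cokernel.mapIso _ _ e e' (by simp)⟩⟩

include hinj in
theorem exists_emb {X : A} (hX : ι.essImage X) :
    ∃ (Y : A') (i : X ⟶ ι.obj Y), Mono i ∧ Injective (ι.obj Y) := by
  obtain ⟨X', ⟨e⟩⟩ := hX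
  obtain ⟨Y, i, hi, hY⟩ := hinj X'
  exact ⟨Y, e.inv ≫ ι.map i, inferInstance, hY⟩

variable (K : CochainComplex A ℕ)

/-- A stage of the resolution. -/
structure St (n : ℕ) where
  Y : A'
  hY : Injective (ι.obj Y)
  C : A
  hC : ι.essImage C
  π : ι.obj Y ⟶ C
  α : K.X n ⟶ ι.obj Y
  hkill : ∀ i, K.d i n ≫ α ≫ π = 0
  hinv : ∀ ⦃T : A⦄ (z : T ⟶ K.cycles n), z ≫ K.iCycles n ≫ α ≫ π = 0 → z ≫ K.homologyπ n = 0

variable (hH : ∀ n, ι.essImage (K.homology n))

include hext hinj hH in
theorem exists_next (n : ℕ) (s : St ι K n) :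
    ∃ (t : St ι K (n + 1)) (e : s.C ⟶ ι.obj t.Y),
      s.α ≫ s.π ≫ e = K.d n (n + 1) ≫ t.α ∧ (s.π ≫ e) ≫ t.π = 0 ∧
      (∀ ⦃T : A⦄ (y : T ⟶ s.C), y ≫ e = 0 → ∃ (T' : A) (p : T' ⟶ T) (_ : Epi p)
        (x : T' ⟶ K.X n), x ≫ K.d n (n + 1) = 0 ∧ p ≫ y = x ≫ s.α ≫ s.π) ∧
      (∀ ⦃T : A⦄ (u : T ⟶ ι.obj t.Y), u ≫ t.π = 0 →
        ∃ (T' : A) (p : T' ⟶ T) (_ : Epi p) (w : T' ⟶ ι.obj s.Y), p ≫ u = w ≫ s.π ≫ e) := by
  let f := s.α ≫ s.π
  let g := K.toCycles n (n + 1)
  let inlX : s.C ⟶ pushout f g := pushout.inl f g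
  let inrX : K.cycles (n + 1) ⟶ pushout f g := pushout.inr f g
  -- kernel of the left map
  let h : K.homology n ⟶ s.C := K.homologyι n ≫ K.descOpcycles f _ rfl (s.hkill _)
  have hh : K.homologyπ n ≫ h = K.iCycles n ≫ f := by simp [h]
  have hker : ∀ {T : A} (y : T ⟶ s.C), y ≫ inlX = 0 → ∃ (T' : A) (p : T' ⟶ T) (_ : Epi p)
      (x : T' ⟶ K.X n), x ≫ K.d n (n + 1) = 0 ∧ p ≫ y = x ≫ f := fun y hy => by
    obtain ⟨T', p, hp, x, h1, h2⟩ := RightResol.exact_pushout (f := f) (g := g) y 0 (by simpa using hy)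
    rw [comp_zero, eq_comm, neg_eq_zero] at h2
    refine ⟨T', p, hp, x, ?_, h1⟩
    rw [← K.toCycles_i, reassoc_of% h2, zero_comp]
  have hw : h ≫ inlX = 0 := by
    rw [← cancel_epi (K.homologyπ n), reassoc_of% hh, comp_zero, pushout.condition, ← Category.assoc,
      show K.iCycles n ≫ g = 0 by
        rw [← cancel_mono (K.iCycles (n + 1)), Category.assoc, toCycles_i, iCycles_d, zero_comp],
      zero_comp]
  have hex : (ShortComplex.mk h inlX hw).Exact := by
    rw [ShortComplex.exact_iff_exact_up_to_refinements]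
    intro T y hy
    obtain ⟨T', p, hp, x, hx, hx'⟩ := hker y hy
    refine ⟨T', p, hp, K.liftCycles x (n + 1) (by simp) hx ≫ K.homologyπ n, ?_⟩
    change p ≫ y = (K.liftCycles x (n + 1) (by simp) hx ≫ K.homologyπ n) ≫ h
    rw [hx', Category.assoc, hh, liftCycles_i_assoc]
  let g' : pushout f g ⟶ K.homology (n + 1) := pushout.desc 0 (K.homologyπ (n + 1)) (by simp [f, g])
  have hg'r : inrX ≫ g' = K.homologyπ (n + 1) := pushout.inr_desc _ _ _
  have hg'l : inlX ≫ g' = 0 := pushout.inl_desc _ _ _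
  let j : cokernel h ⟶ pushout f g := cokernel.desc h inlX hw
  have hj : Mono j := hex.mono_cokernelDesc
  let S : ShortComplex A := ShortComplex.mk j g' (by
    rw [← cancel_epi (cokernel.π h), cokernel.π_desc_assoc, hg'l, comp_zero])
  have hS : S.ShortExact := by
    haveI : Mono S.f := hj
    haveI : Epi S.g := epi_of_epi_fac hg'r
    refine { exact := ?_ }
    apply ShortComplex.exact_of_g_is_cokernel
    refine CokernelCofork.IsColimit.ofπ' _ _ (fun {Z} k hk => ?_)
    have hk' : inlX ≫ k = 0 := by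
      have := congrArg (cokernel.π h ≫ ·) hk
      simpa [S, j] using this
    have h0 : g ≫ inrX ≫ k = 0 := by
      rw [← Category.assoc, ← pushout.condition, Category.assoc]
      exact (congrArg (f ≫ ·) hk').trans comp_zero
    have hc := K.homologyIsCokernel n (n + 1) (CochainComplex.prev_nat_succ n)
    obtain ⟨l, hl⟩ := CokernelCofork.IsColimit.desc' hc (inrX ≫ k) h0
    refine ⟨l, pushout.hom_ext ?_ ?_⟩
    · show inlX ≫ g' ≫ l = inlX ≫ k
      rw [reassoc_of% hg'l, zero_comp, hk']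
    · show inrX ≫ g' ≫ l = inrX ≫ k
      rw [reassoc_of% hg'r]
      exact hl
  have hX : ι.essImage (pushout f g) := hext S hS (essImage_cokernel ι h (hH n) s.hC) (hH (n + 1))
  obtain ⟨Y, jX, hjX, hY⟩ := exists_emb ι hinj hX
  let α' : K.X (n + 1) ⟶ ι.obj Y := Injective.factorThru (inrX ≫ jX) (K.iCycles (n + 1))
  have hα' : K.iCycles (n + 1) ≫ α' = inrX ≫ jX := Injective.comp_factorThru _ _
  let e : s.C ⟶ ι.obj Y := inlX ≫ jX
  have hcomm : s.α ≫ s.π ≫ e = K.d n (n + 1) ≫ α' := by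
    rw [← K.toCycles_i, Category.assoc, hα', ← Category.assoc s.α, ← Category.assoc, ← Category.assoc g]
    exact congrArg (· ≫ jX) pushout.condition
  let de : ι.obj s.Y ⟶ ι.obj Y := s.π ≫ e
  have hupto : ∀ {T : A} (u : T ⟶ ι.obj Y), u ≫ cokernel.π de = 0 →
      ∃ (T' : A) (p : T' ⟶ T) (_ : Epi p) (w : T' ⟶ ι.obj s.Y), p ≫ u = w ≫ s.π ≫ e := fun u hu =>
    (ShortComplex.exact_of_g_is_cokernel (ShortComplex.mk de (cokernel.π de) (cokernel.condition de))
      (cokernelIsCokernel de)).exact_up_to_refinements u hu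
  refine ⟨{ Y := Y, hY := hY, C := cokernel de
            hC := essImage_cokernel ι de ⟨s.Y, ⟨Iso.refl _⟩⟩ ⟨Y, ⟨Iso.refl _⟩⟩
            π := cokernel.π de, α := α', hkill := fun i => ?_, hinv := fun T z hz => ?_ },
    e, hcomm, cokernel.condition de, fun T y hy => ?_, fun T u hu => hupto u hu⟩
  · by_cases hi : i + 1 = n + 1
    · obtain rfl : i = n := by omega
      rw [← reassoc_of% hcomm]
      have := cokernel.condition de
      simp only [de, Category.assoc] at this
      rw [this, comp_zero]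
    · rw [K.shape i (n + 1) hi, zero_comp]
  · rw [reassoc_of% hα'] at hz
    obtain ⟨T₁, p₁, hp₁, w, hw'⟩ := hupto (z ≫ inrX ≫ jX) (by simpa using hz)
    have h0 : (w ≫ s.π) ≫ pushout.inl f g + (-(p₁ ≫ z)) ≫ pushout.inr f g = 0 := by
      rw [← cancel_mono jX, zero_comp, Preadditive.add_comp, Preadditive.neg_comp,
        Preadditive.neg_comp, ← sub_eq_add_neg, sub_eq_zero]
      simpa [e, inlX, inrX] using hw'.symm
    obtain ⟨T₂, p₂, hp₂, x, -, hx⟩ := RightResol.exact_pushout _ _ _ _ h0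
    rw [Preadditive.comp_neg, neg_inj] at hx
    rw [← cancel_epi p₁, ← cancel_epi p₂, comp_zero, comp_zero, reassoc_of% hx]
    simp [g]
  · exact hker y ((cancel_mono jX).1 ((Category.assoc _ _ _).trans (hy.trans zero_comp.symm)))

include hinj hH in
theorem exists_start : ∃ (s : St ι K 0), IsIso s.π := by
  haveI : IsIso (K.homologyπ 0) := CochainComplex.isIso_homologyπ₀ K
  obtain ⟨Y, i, hi, hY⟩ := exists_emb ι hinj (essImage_of_iso ι (hH 0) (asIso (K.homologyπ 0)).symm)
  let α : K.X 0 ⟶ ι.obj Y := Injective.factorThru i (K.iCycles 0)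
  refine ⟨{ Y := Y, hY := hY, C := ι.obj Y, hC := ⟨Y, ⟨Iso.refl _⟩⟩, π := 𝟙 _, α := α
            hkill := fun i => by rw [K.shape i 0 (by simp), zero_comp]
            hinv := fun T z hz => ?_ }, inferInstance⟩
  rw [Category.comp_id, Injective.comp_factorThru] at hz
  rw [(cancel_mono i).1 (hz.trans zero_comp.symm), zero_comp]

include hext hinj hH in
theorem exists_nat_resolution : ∃ (I : CochainComplex A' ℕ)
    (f : K ⟶ (ι.mapHomologicalComplex (ComplexShape.up ℕ)).obj I),
      (∀ n, Injective (ι.obj (I.X n))) ∧ QuasiIso f := by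
  obtain ⟨s₀, hs₀⟩ := exists_start ι hinj K hH
  choose nx e hcomm hde hker hrel using exists_next ι hext hinj K hH
  let S : ∀ n, St ι K n := fun n => Nat.rec s₀ (fun i x => nx i x) n
  let D : ∀ n, ι.obj (S n).Y ⟶ ι.obj (S (n + 1)).Y := fun n => (S n).π ≫ e n (S n)
  have hDD : ∀ n, D n ≫ D (n + 1) = 0 := fun n => by
    show D n ≫ (S (n + 1)).π ≫ _ = 0
    rw [← Category.assoc, show D n ≫ (S (n + 1)).π = 0 from hde n (S n), zero_comp]
  let I : CochainComplex A' ℕ := CochainComplex.of (fun n => (S n).Y) (fun n => ι.preimage (D n))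
    (fun n => ι.map_injective (by rw [Functor.map_comp, Functor.map_preimage, Functor.map_preimage, Functor.map_zero]; exact hDD n))
  let L := (ι.mapHomologicalComplex (ComplexShape.up ℕ)).obj I
  have hLd : ∀ n, L.d n (n + 1) = D n := fun n => by
    show ι.map (I.d n (n + 1)) = D n
    exact (congrArg ι.map (CochainComplex.of_d (fun n => (S n).Y) (fun n => ι.preimage (D n)) n)).trans
      (ι.map_preimage _)
  let f : K ⟶ L :=
    { f := fun n => (S n).α
      comm' := fun i k hik => by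
        obtain rfl : i + 1 = k := hik
        rw [hLd]
        exact hcomm i (S i) }
  refine ⟨I, f, fun n => (S n).hY, ⟨fun n => ?_⟩⟩
  rw [quasiIsoAt_iff_isIso_homologyMap]
  -- cycles of the target, up to refinements, come from cycles of the source modulo boundaries
  haveI : Mono (homologyMap f n) := by
    refine Preadditive.mono_of_cancel_zero _ fun {T} a ha => ?_
    obtain ⟨T₁, p₁, hp₁, z, hz⟩ := surjective_up_to_refinements_of_epi (K.homologyπ n) a
    have h0 : (z ≫ cyclesMap f n) ≫ L.homologyπ n = 0 := by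
      rw [Category.assoc, ← homologyπ_naturality, ← Category.assoc, ← hz, Category.assoc, ha, comp_zero]
    rw [← cancel_epi p₁, hz, comp_zero]
    cases n with
    | zero =>
      haveI : IsIso (L.homologyπ 0) := CochainComplex.isIso_homologyπ₀ L
      have h1 : z ≫ cyclesMap f 0 = 0 := (cancel_mono (L.homologyπ 0)).1 (h0.trans zero_comp.symm)
      refine (S 0).hinv z ?_
      have := h1 =≫ L.iCycles 0
      rw [Category.assoc, cyclesMap_i, zero_comp] at this
      rw [← Category.assoc, ← Category.assoc, Category.assoc z]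
      exact (congrArg (· ≫ (S 0).π) this).trans zero_comp
    | succ m =>
      obtain ⟨T₂, p₂, hp₂, w, hw⟩ :=
        (L.comp_homologyπ_eq_zero_iff_up_to_refinements m (m + 1) (CochainComplex.prev_nat_succ m) _).1 h0
      have h1 : p₂ ≫ z ≫ K.iCycles (m + 1) ≫ (S (m + 1)).α = w ≫ D m := by
        have := hw =≫ L.iCycles (m + 1)
        simp only [Category.assoc, cyclesMap_i, toCycles_i, hLd] at this
        exact this
      rw [← cancel_epi p₂, comp_zero, ← Category.assoc]
      refine (S (m + 1)).hinv (p₂ ≫ z) ?_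
      simp only [Category.assoc]
      rw [reassoc_of% h1, show D m ≫ (S (m + 1)).π = 0 from hde m (S m), comp_zero]
  haveI : Epi (homologyMap f n) := by
    rw [epi_iff_surjective_up_to_refinements]
    intro T a
    obtain ⟨T₁, p₁, hp₁, z, hz⟩ := surjective_up_to_refinements_of_epi (L.homologyπ n) a
    have hzd : ((z ≫ L.iCycles n) ≫ (S n).π) ≫ e n (S n) = 0 := by
      have : z ≫ L.iCycles n ≫ L.d n (n + 1) = 0 := by simp
      rw [hLd] at this
      simpa [D] using this
    obtain ⟨T₂, p₂, hp₂, x, hx, hx'⟩ := hker n (S n) _ hzd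
    let c := K.liftCycles x (n + 1) (by simp) hx
    have hd : ((p₂ ≫ z ≫ L.iCycles n : T₂ ⟶ ι.obj (S n).Y) - x ≫ (S n).α) ≫ (S n).π = 0 := by
      rw [Preadditive.sub_comp, Category.assoc, Category.assoc, Category.assoc x, ← hx']
      simp
    cases n with
    | zero =>
      haveI : IsIso (S 0).π := hs₀
      have h2 : p₂ ≫ z ≫ L.iCycles 0 = x ≫ (S 0).α :=
        sub_eq_zero.1 ((cancel_mono (S 0).π).1 (hd.trans zero_comp.symm))
      refine ⟨T₂, p₂ ≫ p₁, inferInstance, c ≫ K.homologyπ 0, ?_⟩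
      rw [Category.assoc, hz, Category.assoc, homologyπ_naturality, ← Category.assoc, ← Category.assoc]
      congr 1
      rw [← cancel_mono (L.iCycles 0), Category.assoc, Category.assoc, cyclesMap_i, liftCycles_i_assoc]
      exact h2
    | succ m =>
      obtain ⟨T₃, p₃, hp₃, w, hw⟩ := hrel m (S m) ((p₂ ≫ z ≫ L.iCycles (m + 1) : T₂ ⟶ ι.obj (S (m + 1)).Y) - x ≫ (S (m + 1)).α) hd
      refine ⟨T₃, p₃ ≫ p₂ ≫ p₁, inferInstance, p₃ ≫ c ≫ K.homologyπ (m + 1), ?_⟩
      have h2 : p₃ ≫ p₂ ≫ z = p₃ ≫ c ≫ cyclesMap f (m + 1) + w ≫ L.toCycles m (m + 1) := by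
        rw [← cancel_mono (L.iCycles (m + 1))]
        simp only [Category.assoc, Preadditive.add_comp, toCycles_i, cyclesMap_i, c, liftCycles_i_assoc, hLd]
        rw [Preadditive.comp_sub] at hw
        rw [show w ≫ D m = _ from hw.symm]
        show _ = p₃ ≫ x ≫ (S (m + 1)).α + _
        abel
      simp only [Category.assoc, hz, homologyπ_naturality]
      rw [← Category.assoc p₂, ← Category.assoc p₃, h2, Preadditive.add_comp, Category.assoc,
        Category.assoc, Category.assoc, toCycles_comp_homologyπ, comp_zero, add_zero]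
  exact isIso_of_mono_of_epi _

include hext hinj in
theorem exists_int_resolution (Z : CochainComplex A ℤ) (a : ℤ) [Z.IsStrictlyGE a]
    (hH : ∀ i, ι.essImage (Z.homology i)) :
    ∃ (I : CochainComplex A' ℤ) (f : Z ⟶ (ι.mapHomologicalComplex (ComplexShape.up ℤ)).obj I),
      I.IsStrictlyGE a ∧ (∀ n, Injective (ι.obj (I.X n))) ∧ QuasiIso f := by
  let e := ComplexShape.embeddingUpIntGE a
  let K₀ := Z.restriction e
  let g : Z ⟶ K₀.extend e := e.liftExtend (𝟙 K₀) (fun j hj i' hi' => by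
    have hz : IsZero (Z.X i') :=
      Z.isZero_X_of_isStrictlySupported e i' (fun m hm => hj.2 m (by rw [hm]; exact hi'))
    exact hz.eq_of_src _ _)
  have : IsIso g := by
    have : ∀ n, IsIso (g.f n) := fun n => by
      by_cases h : ∃ m, e.f m = n
      · obtain ⟨m, hm⟩ := h
        rw [e.isIso_liftExtend_f_iff _ _ hm]
        exact IsIso.id _
      · push Not at h
        exact ⟨0, (Z.isZero_X_of_isStrictlySupported e n h).eq_of_src _ _,
          (isZero_extend_X K₀ e n h).eq_of_src _ _⟩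
    exact Hom.isIso_of_components g
  have hH₀ : ∀ n, ι.essImage (K₀.homology n) := fun n =>
    essImage_of_iso ι (hH (e.f n)) ((homologyFunctor A _ (e.f n)).mapIso (asIso g) ≪≫
      K₀.extendHomologyIso e rfl)
  obtain ⟨I, f, hI, hf⟩ := exists_nat_resolution ι hext hinj K₀ hH₀
  refine ⟨I.extend e, g ≫ extendMap f e ≫ (SpecSeq.mapExtendIso ι I e).inv, ?_, fun n => ?_, ?_⟩
  · exact (inferInstance : (I.extend e).IsStrictlySupported e)
  · by_cases h : ∃ m, e.f m = n
    · obtain ⟨m, hm⟩ := h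
      haveI := hI m
      exact Injective.of_iso (ι.mapIso (I.extendXIso e hm)).symm inferInstance
    · push Not at h
      exact (ι.map_isZero (isZero_extend_X I e n h)).injective
  · haveI : QuasiIso (extendMap f e) := (quasiIso_extendMap_iff _ e).2 hf
    infer_instance

variable [HasDerivedCategory.{w'} A'] [HasDerivedCategory.{w} A]

include hext hinj in
theorem essSurj (Z : DerivedCategory A) (a : ℤ) [Z.IsGE a]
    (hZ : ∀ i : ℤ, ι.essImage ((DerivedCategory.homologyFunctor A i).obj Z)) :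
    ∃ (I : CochainComplex A' ℤ), I.IsStrictlyGE a ∧ (∀ n : ℤ, Injective (ι.obj (I.X n))) ∧
      Nonempty (ι.mapDerivedCategory.obj (DerivedCategory.Q.obj I) ≅ Z) := by
  obtain ⟨Z₀, hZ₀, ⟨e⟩⟩ := Z.exists_iso_Q_obj_of_isGE a
  haveI := hZ₀
  have hH : ∀ i, ι.essImage (Z₀.homology i) := fun i =>
    essImage_of_iso ι (hZ i) ((DerivedCategory.homologyFunctor A i).mapIso e ≪≫
      (DerivedCategory.homologyFunctorFactors A i).app Z₀)
  obtain ⟨I, f, hI, hinjI, hf⟩ := exists_int_resolution ι hext hinj Z₀ a hH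
  exact ⟨I, hI, hinjI, ⟨ι.mapDerivedCategoryFactors.app I ≪≫
    (asIso (DerivedCategory.Q.map f)).symm ≪≫ e.symm⟩⟩

include hinj in
theorem bijective_map (X Y : DerivedCategory A') (b : ℤ) [Y.IsGE b] :
    Function.Bijective (fun f : X ⟶ Y => ι.mapDerivedCategory.map f) := by
  obtain ⟨Y₀, hY₀, ⟨eY⟩⟩ := Y.exists_iso_Q_obj_of_isGE b
  haveI := hY₀
  obtain ⟨I, α, hI, hinjI, -, hα⟩ := RightResol.exists_resolution (I := fun J : A' => Injective (ι.obj J))
    ⟨0, isZero_zero A', (ι.map_isZero (isZero_zero A')).injective⟩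
    (fun J => by obtain ⟨J', i, hi, hJ'⟩ := hinj J; exact ⟨J', i, hJ', hi⟩) Y₀ b
  haveI := hI
  haveI := hα
  haveI hinj' : ∀ n, Injective (I.X n) := fun n => ι.injective_of_map_injective (hinjI n)
  let G := ι.mapHomologicalComplex (ComplexShape.up ℤ)
  haveI : ∀ n, Injective ((G.obj I).X n) := hinjI
  haveI : CochainComplex.IsStrictlyGE (G.obj I) b := by
    rw [CochainComplex.isStrictlyGE_iff]
    exact fun n hn => ι.map_isZero (I.isZero_of_isStrictlyGE b n hn)
  haveI : I.IsKInjective := CochainComplex.isKInjective_of_injective I b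
  haveI : CochainComplex.IsKInjective (G.obj I) := CochainComplex.isKInjective_of_injective (G.obj I) b
  let X₀ := DerivedCategory.Q.objPreimage X
  let eX : X ≅ DerivedCategory.Q.obj X₀ := (DerivedCategory.Q.objObjPreimageIso X).symm
  let eY' : Y ≅ DerivedCategory.Q.obj I := eY ≪≫ asIso (DerivedCategory.Q.map α)
  let D := ι.mapDerivedCategory
  suffices Function.Bijective
      (fun f : DerivedCategory.Q.obj X₀ ⟶ DerivedCategory.Q.obj I => D.map f) by
    constructor
    · intro φ₁ φ₂ h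
      have := this.1 (a₁ := eX.inv ≫ φ₁ ≫ eY'.hom) (a₂ := eX.inv ≫ φ₂ ≫ eY'.hom)
        (by simp only [Functor.map_comp]; rw [show D.map φ₁ = D.map φ₂ from h])
      simpa using this
    · intro ψ
      obtain ⟨φ, hφ⟩ := this.2 (D.map eX.inv ≫ ψ ≫ D.map eY'.hom)
      refine ⟨eX.hom ≫ φ ≫ eY'.inv, ?_⟩
      show D.map _ = ψ
      simp only [Functor.map_comp]
      rw [show D.map φ = _ from hφ]
      simp [← Functor.map_comp, ← Functor.map_comp_assoc]
      exact Category.comp_id ψ
  let Φ := ι.mapDerivedCategoryFactors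
  let q' := HomotopyCategory.quotient A' (ComplexShape.up ℤ)
  let q := HomotopyCategory.quotient A (ComplexShape.up ℤ)
  have hQ : Function.Surjective (fun g : X₀ ⟶ I => DerivedCategory.Q.map g) := fun φ => by
    obtain ⟨h, hh⟩ := (CochainComplex.IsKInjective.Qh_map_bijective (q'.obj X₀) I).2
      ((DerivedCategory.quotientCompQhIso A').hom.app X₀ ≫ φ ≫ (DerivedCategory.quotientCompQhIso A').inv.app I)
    obtain ⟨g, rfl⟩ := q'.map_surjective h
    refine ⟨g, ?_⟩
    show DerivedCategory.Q.map g = φ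
    rw [← cancel_epi ((DerivedCategory.quotientCompQhIso A').hom.app X₀),
      ← DerivedCategory.quotientCompQhIso_hom_naturality, hh]
    simp
  have nat : ∀ g : X₀ ⟶ I, D.map (DerivedCategory.Q.map g) =
      Φ.hom.app X₀ ≫ DerivedCategory.Q.map (G.map g) ≫ Φ.inv.app I := fun g => by
    rw [← Category.assoc, ← ι.mapDerivedCategoryFactors_hom_naturality g, Category.assoc]
    exact (by simp [D, Φ])
  have hQA : ∀ g₁ g₂ : X₀ ⟶ I, DerivedCategory.Q.map (G.map g₁) = DerivedCategory.Q.map (G.map g₂) →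
      DerivedCategory.Q.map g₁ = DerivedCategory.Q.map g₂ := fun g₁ g₂ h => by
    have h' : DerivedCategory.Qh.map (q.map (G.map g₁)) = DerivedCategory.Qh.map (q.map (G.map g₂)) := by
      rw [← cancel_mono ((DerivedCategory.quotientCompQhIso A).hom.app (G.obj I))]
      rw [DerivedCategory.quotientCompQhIso_hom_naturality, DerivedCategory.quotientCompQhIso_hom_naturality, h]
    have := (CochainComplex.IsKInjective.Qh_map_bijective (q.obj (G.obj X₀)) (G.obj I)).1 h'
    exact DerivedCategory.Q_map_eq_of_homotopy _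
      (ι.preimageHomotopy (HomotopyCategory.homotopyOfEq _ _ this))
  constructor
  · intro φ₁ φ₂ h
    obtain ⟨g₁, rfl⟩ := hQ φ₁
    obtain ⟨g₂, rfl⟩ := hQ φ₂
    simp only [nat, cancel_epi, cancel_mono] at h
    exact hQA g₁ g₂ h
  · intro ψ
    obtain ⟨h, hh⟩ := (CochainComplex.IsKInjective.Qh_map_bijective (q.obj (G.obj X₀)) (G.obj I)).2
      ((DerivedCategory.quotientCompQhIso A).hom.app (G.obj X₀) ≫ (Φ.inv.app X₀ ≫ ψ ≫ Φ.hom.app I) ≫
        (DerivedCategory.quotientCompQhIso A).inv.app (G.obj I))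
    obtain ⟨k, rfl⟩ := q.map_surjective h
    obtain ⟨g, rfl⟩ := G.map_surjective k
    refine ⟨DerivedCategory.Q.map g, ?_⟩
    have h3 : DerivedCategory.Q.map (G.map g) = Φ.inv.app X₀ ≫ ψ ≫ Φ.hom.app I := by
      rw [← cancel_epi ((DerivedCategory.quotientCompQhIso A).hom.app (G.obj X₀)),
        ← DerivedCategory.quotientCompQhIso_hom_naturality, hh]
      simp
      erw [Category.comp_id]
    show D.map (DerivedCategory.Q.map g) = ψ
    rw [nat, h3]
    simp
    exact Category.comp_id _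

end Groth.Agent.CommAlg4.WeakInjRes
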