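import Groth.Agent.Cubic5.Smooth
import Mathlib.FieldTheory.IsAlgClosed.AlgebraicClosure
import Mathlib.LinearAlgebra.Matrix.Rank

/-!
# The Jacobian criterion, converse direction, and the discriminant of a short Weierstrass cubic
-/

set_option autoImplicit false
set_option linter.style.haveILetI false
set_option backward.isDefEq.respectTransparency.types false

universe u

open CategoryTheory CategoryTheory.Limits AlgebraicGeometry MvPolynomial Opposite
open Groth.Agent.LefPen24

namespace Groth.Agent.CommAlg4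

variable {K : Type u} [Field K] {n d : ℕ}

theorem algebra_smooth_chart_of_smooth (G : LefPen.Form n K d)
    [hs : Smooth ((LefPen.hypIdeal G).subschemeι ≫ CohB1.ProjSpace.toSpec n K)] (j : Fin (n + 1)) :
    Algebra.Smooth K (MvPolynomial (Fin (n + 1)) K ⧸ Cubic5.chartIdeal G.1 j) := by
  let ι' := (LefPen.hypIdeal G).subschemeι
  let A := MvPolynomial (Fin (n + 1)) K ⧸ Cubic5.chartIdeal G.1 j
  let ψ : MvPolynomial (Fin (n + 1)) K →+* Γ((LefPen.hypIdeal G).subscheme, ι' ⁻¹ᵁ LefPen.chart n K j) :=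
    (ι'.app (LefPen.chart n K j)).hom.comp (Cubic5.toChart j)
  have hψs : Function.Surjective ψ :=
    (ι'.app_surjective _ (isAffineOpen_chart j)).comp (Cubic5.toChart_surjective j)
  have hψk : RingHom.ker ψ = Cubic5.chartIdeal G.1 j := by
    rw [← RingHom.comap_ker, Scheme.IdealSheafData.ker_subschemeι_app _
      ⟨LefPen.chart n K j, isAffineOpen_chart j⟩, Cubic5.comap_toChart]
  let e : A ≃+* Γ((LefPen.hypIdeal G).subscheme, ι' ⁻¹ᵁ LefPen.chart n K j) :=
    (Ideal.quotEquivOfEq hψk.symm).trans (RingHom.quotientKerEquivOfSurjective hψs)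
  have h := HasRingHomProperty.appLE (P := @Smooth) (ι' ≫ CohB1.ProjSpace.toSpec n K) hs
    ⟨⊤, isAffineOpen_top _⟩ ⟨ι' ⁻¹ᵁ LefPen.chart n K j, (isAffineOpen_chart j).preimage ι'⟩ (fun _ _ => trivial)
  have h1 := RingHom.Smooth.respectsIso.2 _ (Scheme.ΓSpecIso (CommRingCat.of K)).symm.commRingCatIsoToRingEquiv
    (RingHom.Smooth.respectsIso.1 _ e.symm h)
  refine RingHom.smooth_algebraMap.1 ?_
  refine (congrArg RingHom.Smooth (RingHom.ext fun a => e.injective ?_)).mp h1
  refine Eq.trans (e.apply_symm_apply _) ?_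
  show _ = (ι'.app (LefPen.chart n K j)).hom (Cubic5.toChart j (C a))
  rw [Cubic5.toChart_C]
  simp only [Scheme.Hom.appLE, Scheme.Hom.comp_app, CommRingCat.comp_apply]
  exact (ConcreteCategory.congr_hom (ι'.naturality (homOfLE le_top).op) _).symm

theorem sub_aevalOne_mem (j : Fin (n + 1)) (p : MvPolynomial (Fin (n + 1)) K) :
    p - aeval (Function.update X j 1) p ∈ Ideal.span {(X j : MvPolynomial (Fin (n + 1)) K) - 1} := by
  rw [← Ideal.Quotient.eq]
  refine RingHom.congr_fun (ringHom_ext (f := Ideal.Quotient.mk _)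
    (g := (Ideal.Quotient.mk (Ideal.span {(X j : MvPolynomial (Fin (n + 1)) K) - 1})).comp
      (aeval (Function.update (X : Fin (n + 1) → MvPolynomial (Fin (n + 1)) K) j 1)).toRingHom)
    (fun r => by simp) fun l => ?_) p
  by_cases h : l = j
  · subst h
    rw [RingHom.comp_apply, AlgHom.toRingHom_eq_coe, RingHom.coe_coe, aeval_X, Function.update_self]
    exact Ideal.Quotient.eq.2 (Ideal.mem_span_singleton_self _)
  · simp [Function.update_of_ne h]

theorem det_eq_zero_of_rank_one {L : Type u} [Field L] {m : ℕ} (hm : 2 ≤ m) (e f : Fin m → L) :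
    (Matrix.of fun i l => e i * f l).det = 0 := by
  by_contra h
  have hu : IsUnit (Matrix.vecMulVec e f) := (Matrix.isUnit_iff_isUnit_det _).2 (isUnit_iff_ne_zero.2 h)
  have := (Matrix.rank_of_isUnit _ hu).symm.trans_le (Matrix.rank_vecMulVec_le e f)
  rw [Fintype.card_fin] at this
  omega

theorem derivation_apply_eq_sum (D : Derivation K (MvPolynomial (Fin (n + 1)) K) (MvPolynomial (Fin (n + 1)) K))
    (p : MvPolynomial (Fin (n + 1)) K) : D p = ∑ i, pderiv i p * D (X i) := by
  induction p using MvPolynomial.induction_on with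
  | C a => rw [← algebraMap_eq, D.map_algebraMap]; simp
  | add p q hp hq => rw [map_add, hp, hq, ← Finset.sum_add_distrib]; simp [add_mul]
  | mul_X p i hp =>
    rw [D.leibniz, hp, smul_eq_mul, smul_eq_mul, Finset.mul_sum]
    simp only [Derivation.leibniz, smul_eq_mul, add_mul, Finset.sum_add_distrib, pderiv_X, Pi.single_apply,
      mul_ite, mul_one, mul_zero, ite_mul, zero_mul, Finset.sum_ite_eq', Finset.mem_univ, if_true]
    simp [mul_assoc, mul_comm, mul_left_comm]

/-- The Jacobian condition at a prime of a chart follows from smoothness. -/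
theorem exists_pderiv_notMem_of_smooth (G : LefPen.Form n K d)
    [Smooth ((LefPen.hypIdeal G).subschemeι ≫ CohB1.ProjSpace.toSpec n K)] (j : Fin (n + 1))
    (hne : G.1 ∉ Ideal.span {(X j : MvPolynomial (Fin (n + 1)) K) - 1})
    (q : Ideal (MvPolynomial (Fin (n + 1)) K)) [q.IsPrime] (hj : X j - 1 ∈ q) (hG : G.1 ∈ q) :
    ∃ i, i ≠ j ∧ pderiv i G.1 ∉ q := by
  classical
  by_contra! hall
  let C' := MvPolynomial (Fin (n + 1)) K ⧸ Cubic5.chartIdeal G.1 j
  haveI := algebra_smooth_chart_of_smooth G j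
  have hle : Cubic5.chartIdeal G.1 j ≤ q := Ideal.span_le.2 (Set.insert_subset hj (Set.singleton_subset_iff.2 hG))
  let p : Ideal C' := q.map (Ideal.Quotient.mk _)
  haveI : p.IsPrime := Ideal.map_isPrime_of_surjective Ideal.Quotient.mk_surjective (by rwa [Ideal.mk_ker])
  have hq : ∀ y, algebraMap (MvPolynomial (Fin (n + 1)) K) C' y ∈ p ↔ y ∈ q := fun y => by
    show y ∈ (q.map (Ideal.Quotient.mk _)).comap (Ideal.Quotient.mk _) ↔ _
    rw [Ideal.comap_map_of_surjective _ Ideal.Quotient.mk_surjective, ← RingHom.ker_eq_comap_bot, Ideal.mk_ker,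
      sup_eq_left.2 hle]
  haveI : Algebra.FormallyEtale C' (Localization.AtPrime p) := Algebra.FormallyEtale.of_isLocalization p.primeCompl
  haveI : Algebra.FormallySmooth K (Localization.AtPrime p) := Algebra.FormallySmooth.comp K C' _
  obtain ⟨m, f, D, hf, hspan, hdet⟩ :=
    (EGA41Lib.SQL.formallySmooth_iff_exists_det (A := K) Ideal.Quotient.mk_surjective p q hq _ Ideal.mk_ker).1 ‹_›
  let ψ := algebraMap (MvPolynomial (Fin (n + 1)) K) q.ResidueField
  have hψ : ∀ x, ψ x = 0 ↔ x ∈ q := fun x => Ideal.algebraMap_residueField_eq_zero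
  have hψj : ψ (X j - 1) = 0 := (hψ _).2 hj
  have hψG : ψ G.1 = 0 := (hψ _).2 hG
  have hDG : ∀ δ : Derivation K (MvPolynomial (Fin (n + 1)) K) (MvPolynomial (Fin (n + 1)) K),
      ψ (δ G.1) = ψ (pderiv j G.1) * ψ (δ (X j)) := fun δ => by
    rw [derivation_apply_eq_sum, map_sum, Finset.sum_eq_single j (fun i _ hi => by
      rw [map_mul, (hψ _).2 (hall i hi), zero_mul]) (by simp), map_mul]
  have hrank : ∀ l, ∃ e, ∀ m', ψ (D m' (f l)) = e * ψ (D m' (X j)) := fun l => by
    obtain ⟨c1, c2, hc⟩ := Ideal.mem_span_pair.1 (hf l)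
    refine ⟨ψ c1 + ψ c2 * ψ (pderiv j G.1), fun m' => ?_⟩
    rw [← hc]
    rw [map_add, map_add, Derivation.leibniz, Derivation.leibniz, smul_eq_mul, smul_eq_mul, smul_eq_mul,
      smul_eq_mul, map_sub (D m'), Derivation.map_one_eq_zero, sub_zero, map_add, map_add, map_mul, map_mul, map_mul,
      map_mul, hψG, hDG, hψj]
    ring
  choose e he using hrank
  have hdet' : (Matrix.of fun i l => e i * ψ (D l (X j))).det ≠ 0 := by
    intro h
    apply hdet
    rw [← hψ, RingHom.map_det, RingHom.mapMatrix_apply]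
    refine Eq.trans (congrArg Matrix.det ?_) h
    ext i l
    simp [Matrix.map_apply, he]
  have hinj : Function.Injective (algebraMap (MvPolynomial (Fin (n + 1)) K) (Localization.AtPrime q)) :=
    IsLocalization.injective _ q.primeCompl_le_nonZeroDivisors
  have hmemJ : ∀ x ∈ ({X j - 1, G.1} : Set (MvPolynomial (Fin (n + 1)) K)),
      algebraMap _ (Localization.AtPrime q) x ∈ Ideal.span (Set.range fun i => algebraMap _ (Localization.AtPrime q) (f i)) :=
    fun x hx => hspan ▸ Ideal.mem_map_of_mem _ (Ideal.subset_span hx)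
  rcases le_or_gt 2 m with hm | hm
  · exact hdet' (det_eq_zero_of_rank_one hm e _)
  interval_cases m
  · have h0 := hmemJ _ (Set.mem_insert _ _)
    rw [Set.range_eq_empty, Ideal.span_empty, Ideal.mem_bot] at h0
    have h1 : (X j : MvPolynomial (Fin (n + 1)) K) - 1 = 0 := hinj (h0.trans (map_zero _).symm)
    have := congrArg (eval (fun _ => (0 : K))) h1
    simp at this
  · have hrange : Set.range (fun i => algebraMap _ (Localization.AtPrime q) (f i)) =
        {algebraMap _ (Localization.AtPrime q) (f 0)} := by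
      simp [Set.range_unique]
    have hdvd : ∀ x ∈ ({X j - 1, G.1} : Set (MvPolynomial (Fin (n + 1)) K)),
        ∃ u s, s ∉ q ∧ s * x = u * f 0 := fun x hx => by
      obtain ⟨w, hw⟩ := Ideal.mem_span_singleton'.1 (hrange ▸ hmemJ x hx)
      obtain ⟨⟨u, s⟩, hus⟩ := IsLocalization.surj q.primeCompl w
      refine ⟨u, s.1, s.2, hinj ?_⟩
      rw [map_mul, map_mul, ← hus, ← hw]
      ring
    obtain ⟨u, s, hs, hsu⟩ := hdvd _ (Set.mem_insert _ _)
    obtain ⟨v, t, ht, htv⟩ := hdvd _ (Set.mem_insert_of_mem _ rfl)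
    rw [Matrix.det_fin_one, Matrix.of_apply] at hdet'
    have hu : u ∉ q := by
      intro hu
      have h1 := congrArg (fun z => ψ (D 0 z)) hsu
      rw [Derivation.leibniz, Derivation.leibniz, smul_eq_mul, smul_eq_mul, smul_eq_mul, smul_eq_mul,
        map_sub (D 0), Derivation.map_one_eq_zero, sub_zero, map_add, map_add, map_mul, map_mul, map_mul, map_mul,
        hψj, show ψ (f 0) = 0 from (hψ _).2 (hle (hf 0)), (hψ _).2 hu] at h1
      simp only [zero_mul, mul_zero, add_zero, zero_add, mul_eq_zero] at h1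
      rcases h1 with h1 | h1
      · exact hs ((hψ _).1 h1)
      · exact hdet' (by rw [h1, mul_zero])
    let σ : MvPolynomial (Fin (n + 1)) K →ₐ[K] MvPolynomial (Fin (n + 1)) K := aeval (Function.update X j 1)
    have hker : ∀ x, x ∉ q → σ x ≠ 0 := fun x hx h0 => hx (by
      have := sub_aevalOne_mem j x
      rw [show aeval (Function.update X j 1) x = σ x from rfl, h0, sub_zero] at this
      exact (Ideal.span_singleton_le_iff_mem _).2 hj this)
    have hσ : σ (X j - 1) = 0 := by simp [σ]
    have hrel : u * t * G.1 = v * s * (X j - 1) := by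
      linear_combination u * htv - v * hsu
    have h2 := congrArg σ hrel
    rw [map_mul, map_mul, map_mul, map_mul, hσ, mul_zero] at h2
    rcases mul_eq_zero.1 h2 with h3 | h3
    · rcases mul_eq_zero.1 h3 with h4 | h4
      · exact hker u hu h4
      · exact hker t ht h4
    · refine hne ?_
      have := sub_aevalOne_mem j G.1
      rwa [show aeval (Function.update X j 1) G.1 = σ G.1 from rfl, h3, sub_zero] at this

/-- A short Weierstrass cubic is smooth iff its discriminant is nonzero. -/
theorem smooth_short_weierstrass_iff (h2 : (2 : K) ≠ 0) (a b : K) (W : LefPen.Form 2 K 3)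
    (hW : (W : MvPolynomial (Fin (2 + 1)) K) = X 1 ^ 2 * X 2 - X 0 ^ 3 - C a * X 0 * X 2 ^ 2 + C b * X 2 ^ 3) :
    Smooth ((LefPen.hypIdeal W).subschemeι ≫ CohB1.ProjSpace.toSpec 2 K) ↔ 4 * a ^ 3 + 27 * b ^ 2 ≠ 0 := by
  have d0 : pderiv 0 W.1 = -(3 * X 0 ^ 2) - C a * X 2 ^ 2 := by
    rw [hW]; simp [pderiv_X, Pi.single_apply]; ring
  have d1 : pderiv 1 W.1 = 2 * X 1 * X 2 := by
    rw [hW]; simp [pderiv_X, Pi.single_apply]; ring
  have d2 : pderiv 2 W.1 = X 1 ^ 2 - 2 * C a * X 0 * X 2 + 3 * C b * X 2 ^ 2 := by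
    rw [hW]; simp [pderiv_X, Pi.single_apply]; ring
  constructor
  · intro hs hΔ
    let L := AlgebraicClosure K
    let α := algebraMap K L
    have h2L : (2 : L) ≠ 0 := fun h => h2 (α.injective (by rwa [map_ofNat, map_zero]))
    obtain ⟨x, hx, hxb, hxG⟩ : ∃ x : L, 3 * x ^ 2 + α a = 0 ∧ 3 * α b - 2 * α a * x = 0 ∧
        α b - x ^ 3 - α a * x = 0 := by
      have hΔL : 4 * α a ^ 3 + 27 * α b ^ 2 = 0 := by
        rw [← map_ofNat α 4, ← map_ofNat α 27, ← map_pow, ← map_pow, ← map_mul, ← map_mul, ← map_add, hΔ, map_zero]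
      by_cases ha : α a = 0
      · obtain ⟨x, hx⟩ := IsAlgClosed.exists_pow_nat_eq (α b) (n := 3) (by norm_num)
        rw [ha] at hΔL ⊢
        by_cases h3 : (3 : L) = 0
        · exact ⟨x, by rw [h3]; ring, by rw [h3]; ring, by rw [hx]; ring⟩
        · have hb : α b = 0 := by
            have h9 : (3 : L) ^ 3 * α b ^ 2 = 0 := by linear_combination hΔL
            simpa [h3] using h9
          exact ⟨0, by ring, by rw [hb]; ring, by rw [hb]; ring⟩
      · have h3 : (3 : L) ≠ 0 := fun h3 => by
          have h4 : (4 : L) * α a ^ 3 = 0 := by linear_combination hΔL - 9 * α b ^ 2 * h3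
          have : (4 : L) = 2 * 2 := by norm_num
          simp [this, h2L, ha] at h4
        obtain ⟨x, hx2⟩ : ∃ x, 2 * α a * x = 3 * α b := ⟨3 * α b / (2 * α a), mul_div_cancel₀ _ (mul_ne_zero h2L ha)⟩
        have h3x : 3 * x ^ 2 + α a = 0 := by
          have : (3 * x ^ 2 + α a) * (4 * α a ^ 2) = 0 := by
            linear_combination hΔL + 3 * (2 * α a * x + 3 * α b) * hx2
          refine (mul_eq_zero.1 this).resolve_right ?_
          rw [show (4 : L) = 2 * 2 by norm_num]
          exact mul_ne_zero (mul_ne_zero h2L h2L) (pow_ne_zero 2 ha)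
        refine ⟨x, h3x, by linear_combination -hx2, ?_⟩
        have : 3 * (α b - x ^ 3 - α a * x) = 0 := by linear_combination -x * h3x - hx2
        exact (mul_eq_zero.1 this).resolve_left h3
    let φ : MvPolynomial (Fin (2 + 1)) K →+* L := eval₂Hom α ![x, 0, 1]
    have hq : (RingHom.ker φ).IsPrime := RingHom.ker_isPrime φ
    have hne : W.1 ∉ Ideal.span {(X 2 : MvPolynomial (Fin (2 + 1)) K) - 1} := by
      intro hmem
      let χ : MvPolynomial (Fin (2 + 1)) K →+* Polynomial K := eval₂Hom Polynomial.C ![0, Polynomial.X, 1]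
      obtain ⟨c, hc⟩ := Ideal.mem_span_singleton'.1 hmem
      have h1 := congrArg χ hc
      rw [hW] at h1
      simp [χ] at h1
      have := congrArg (Polynomial.coeff · 2) h1
      simp at this
    obtain ⟨i, -, hi⟩ := exists_pderiv_notMem_of_smooth W 2 hne (RingHom.ker φ)
      (by simp [RingHom.mem_ker, φ]) (by
        rw [RingHom.mem_ker, hW]; simp [φ]; linear_combination hxG)
    apply hi
    rw [RingHom.mem_ker]
    fin_cases i
    · rw [show ((⟨0, by norm_num⟩ : Fin (2 + 1))) = 0 from rfl, d0]; simp [φ]; linear_combination -hx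
    · rw [show ((⟨1, by norm_num⟩ : Fin (2 + 1))) = 1 from rfl, d1]; simp [φ]
    · rw [show ((⟨2, by norm_num⟩ : Fin (2 + 1))) = 2 from rfl, d2]; simp [φ]; linear_combination hxb
  · intro hΔ
    refine Cubic5.smooth_hyp W fun j q hq hj hG => ?_
    by_contra! hall
    let π := Ideal.Quotient.mk q
    haveI : Nontrivial (MvPolynomial (Fin (2 + 1)) K ⧸ q) := Ideal.Quotient.nontrivial_iff.2 hq.ne_top
    let x := π (X 0); let y := π (X 1); let z := π (X 2)
    have hz : ∀ p, p ∈ q → π p = 0 := fun p hp => Ideal.Quotient.eq_zero_iff_mem.2 hp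
    have hXj : π (X j) = 1 := by
      have := hz _ hj
      rwa [map_sub, map_one, sub_eq_zero] at this
    have euler : π (X 0 * pderiv 0 W.1 + X 1 * pderiv 1 W.1 + X 2 * pderiv 2 W.1) = 0 := by
      rw [show X 0 * pderiv 0 W.1 + X 1 * pderiv 1 W.1 + X 2 * pderiv 2 W.1 = 3 * W.1 by rw [d0, d1, d2, hW]; ring,
        map_mul, hz _ hG, mul_zero]
    rw [map_add, map_add, map_mul, map_mul, map_mul] at euler
    have hd : ∀ i, π (pderiv i W.1) = 0 := by
      have h' : ∀ i, i ≠ j → π (pderiv i W.1) = 0 := fun i hi => hz _ (hall i hi)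
      intro i
      by_cases hi : i = j
      · subst hi
        fin_cases i
        · rw [h' 1 (by decide), h' 2 (by decide), mul_zero, mul_zero, add_zero, add_zero] at euler
          rw [show π (X 0) = 1 from hXj, one_mul] at euler
          exact euler
        · rw [h' 0 (by decide), h' 2 (by decide), mul_zero, mul_zero, add_zero, zero_add] at euler
          rw [show π (X 1) = 1 from hXj, one_mul] at euler
          exact euler
        · rw [h' 0 (by decide), h' 1 (by decide), mul_zero, mul_zero, add_zero, zero_add] at euler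
          rw [show π (X 2) = 1 from hXj, one_mul] at euler
          exact euler
      · exact h' i hi
    have e0 : -(3 * x ^ 2) - π (C a) * z ^ 2 = 0 := by have := hd 0; rw [d0] at this; simpa [x, z, map_ofNat] using this
    have e1 : (2 : MvPolynomial (Fin (2 + 1)) K ⧸ q) * y * z = 0 := by
      have := hd 1; rw [d1] at this; simpa [y, z, map_ofNat] using this
    have e2 : y ^ 2 - 2 * π (C a) * x * z + 3 * π (C b) * z ^ 2 = 0 := by
      have := hd 2; rw [d2] at this; simpa [x, y, z, map_ofNat] using this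
    have eG : y ^ 2 * z - x ^ 3 - π (C a) * x * z ^ 2 + π (C b) * z ^ 3 = 0 := by
      have := hz _ hG; rw [hW] at this; simpa [x, y, z, map_ofNat] using this
    have h2q : (2 : MvPolynomial (Fin (2 + 1)) K ⧸ q) ≠ 0 := by
      intro h
      apply h2
      apply (π.comp C).injective
      rw [map_ofNat, map_zero]; exact h
    have hzne : z ≠ 0 := by
      intro h
      have hy : y = 0 := by
        rw [h] at e2
        exact pow_eq_zero_iff two_ne_zero |>.1 (by linear_combination e2)
      have hx : x = 0 := by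
        rw [h, hy] at eG
        exact pow_eq_zero_iff three_ne_zero |>.1 (by linear_combination -eG)
      fin_cases j
      · exact one_ne_zero (hXj.symm.trans hx)
      · exact one_ne_zero (hXj.symm.trans hy)
      · exact one_ne_zero (hXj.symm.trans h)
    have hy : y = 0 := by
      rcases mul_eq_zero.1 e1 with h | h
      · exact (mul_eq_zero.1 h).resolve_left h2q
      · exact absurd h hzne
    have e3 : 3 * π (C b) * z - 2 * π (C a) * x = 0 := by
      refine mul_right_cancel₀ hzne ?_
      rw [hy] at e2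
      linear_combination e2
    have hfin : (4 * π (C a) ^ 3 + 27 * π (C b) ^ 2) * z ^ 2 = 0 := by
      linear_combination -4 * π (C a) ^ 2 * e0 + 3 * (3 * π (C b) * z + 2 * π (C a) * x) * e3
    apply hΔ
    apply (π.comp C).injective
    rw [map_zero, ← (mul_eq_zero.1 hfin).resolve_right (pow_ne_zero 2 hzne)]
    simp only [map_add, map_mul, map_pow, map_ofNat, RingHom.comp_apply]

end Groth.Agent.CommAlg4
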