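import Groth.Agent.FF.GenusOne
import Groth.Agent.FF.FixedPts
import Groth.Agent.FF.LinSys
import Mathlib

/-! Automorphisms of a short Weierstrass function field fixing the origin. -/

set_option autoImplicit false
set_option backward.isDefEq.respectTransparency false

open FunFld WithZero Groth.Agent.FF
open scoped Classical

namespace Groth.Agent.CommAlg4.WeierstrassAut

universe u v

variable {k : Type u} {K : Type v} [Field k] [Field K] [Algebra k K]

local notation "↥ₖ" => algebraMap k K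

/-- A scalar compatible with the equation. -/
def Good (a b u : k) : Prop := u ≠ 0 ∧ u ^ 4 * a = a ∧ u ^ 6 * b = b

/-- The standing data. -/
structure Data (k : Type u) (K : Type v) [Field k] [Field K] [Algebra k K]
    (P : Place k K) (a b : k) (x y : K) : Prop where
  ff : IsFunctionField k K
  genus : FunFld.genus k K = 1
  deg : P.deg = 1
  eq : y ^ 2 = x ^ 3 + algebraMap k K a * x + algebraMap k K b
  gen : IntermediateField.adjoin k ({x, y} : Set K) = ⊤
  xL : x ∈ L (Finsupp.single P (2 : ℤ))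
  xo : P.ord x = -2
  yL : y ∈ L (Finsupp.single P (3 : ℤ))
  yo : P.ord y = -3

variable {P : Place k K} {a b : k} {x y : K}

theorem Data.transcendental (d : Data k K P a b x y) : Transcendental k x :=
  transcendental_of_not_mem d.ff (not_mem_range_of_val (P := P)
    (fun h => by have := d.xo; rw [h] at this; simp at this) (by rw [d.xo]; norm_num))

theorem Data.y_not_mem (d : Data k K P a b x y) : y ∉ IntermediateField.adjoin k ({x} : Set K) := by
  intro hy
  have h2 := finrank_adjoin_of_pole d.ff d.deg (n := 2) (by norm_num) d.xL d.xo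
  have htop : IntermediateField.adjoin k ({x} : Set K) = ⊤ := by
    refine top_unique (d.gen.symm.le.trans ?_)
    rw [IntermediateField.adjoin_le_iff, Set.insert_subset_iff, Set.singleton_subset_iff]
    exact ⟨IntermediateField.mem_adjoin_simple_self k x, hy⟩
  rw [htop, IntermediateField.finrank_top] at h2
  omega

/-- Reduction to `A(x) + B(x) y`. -/
theorem reduce (a b : k) (G : MvPolynomial (Fin 2) k) : ∃ A B : Polynomial k, ∀ u w : K,
    w ^ 2 = u ^ 3 + algebraMap k K a * u + algebraMap k K b →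
      MvPolynomial.aeval ![u, w] G = Polynomial.aeval u A + Polynomial.aeval u B * w := by
  induction G using MvPolynomial.induction_on with
  | C c => exact ⟨Polynomial.C c, 0, fun u w _ => by simp⟩
  | add p q hp hq =>
    obtain ⟨A, B, h⟩ := hp
    obtain ⟨A', B', h'⟩ := hq
    exact ⟨A + A', B + B', fun u w e => by rw [map_add, h u w e, h' u w e, map_add, map_add]; ring⟩
  | mul_X p i hp =>
    obtain ⟨A, B, h⟩ := hp
    refine Fin.cases ?_ (fun j => ?_) i
    · refine ⟨A * Polynomial.X, B * Polynomial.X, fun u w e => ?_⟩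
      rw [map_mul, h u w e, map_mul, map_mul, MvPolynomial.aeval_X, Polynomial.aeval_X, Matrix.cons_val_zero]
      ring
    · refine ⟨B * (Polynomial.X ^ 3 + Polynomial.C a * Polynomial.X + Polynomial.C b), A, fun u w e => ?_⟩
      fin_cases j
      simp only [map_mul, map_add, map_pow, h u w e, MvPolynomial.aeval_X, Polynomial.aeval_X, Polynomial.aeval_C]
      show (_ + _ * w) * w = _
      linear_combination Polynomial.aeval u B * e

theorem Data.ker_le (d : Data k K P a b x y) (u : k) (hu : Good a b u) (G : MvPolynomial (Fin 2) k)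
    (hG : MvPolynomial.aeval ![x, y] G = 0) :
    MvPolynomial.aeval ![↥ₖ u ^ 2 * x, ↥ₖ u ^ 3 * y] G = 0 := by
  obtain ⟨A, B, h⟩ := reduce (K := K) a b G
  rw [h x y d.eq] at hG
  have hB : B = 0 := by
    by_contra hB
    refine d.y_not_mem ?_
    have hne : Polynomial.aeval x B ≠ 0 := fun h0 => hB (transcendental_iff.mp d.transcendental B h0)
    have : y = -Polynomial.aeval x A / Polynomial.aeval x B := by
      rw [eq_div_iff hne]; linear_combination hG
    rw [this]
    exact div_mem (neg_mem (IntermediateField.algebra_adjoin_le_adjoin k _ (Polynomial.aeval_mem_adjoin_singleton k x)))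
      (IntermediateField.algebra_adjoin_le_adjoin k _ (Polynomial.aeval_mem_adjoin_singleton k x))
  rw [hB, map_zero, zero_mul, add_zero] at hG
  rw [transcendental_iff.mp d.transcendental A hG, hB] at h
  rw [h _ _ ?_]
  · simp
  · have h4 := congrArg ↥ₖ hu.2.1
    have h6 := congrArg ↥ₖ hu.2.2
    simp only [map_mul, map_pow] at h4 h6
    linear_combination (↥ₖ u) ^ 6 * d.eq + (↥ₖ u) ^ 2 * x * h4 + h6

theorem good_inv {u : k} (hu : Good a b u) : Good a b u⁻¹ := by
  obtain ⟨h0, h4, h6⟩ := hu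
  refine ⟨inv_ne_zero h0, ?_, ?_⟩
  · rw [inv_pow, inv_mul_eq_iff_eq_mul₀ (pow_ne_zero _ h0), h4]
  · rw [inv_pow, inv_mul_eq_iff_eq_mul₀ (pow_ne_zero _ h0), h6]

theorem Data.exists_hom (d : Data k K P a b x y) (u : k) (hu : Good a b u) :
    ∃ σ : K →ₐ[k] K, σ x = ↥ₖ u ^ 2 * x ∧ σ y = ↥ₖ u ^ 3 * y := by
  set φ : MvPolynomial (Fin 2) k →ₐ[k] K := MvPolynomial.aeval ![x, y]
  set ψ : MvPolynomial (Fin 2) k →ₐ[k] K := MvPolynomial.aeval ![↥ₖ u ^ 2 * x, ↥ₖ u ^ 3 * y]
  have hker : ∀ G, φ G = 0 → ψ G = 0 := fun G hG => d.ker_le u hu G hG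
  have hker' : ∀ G, ψ G = 0 → φ G = 0 := fun G hG => by
    have d' : Data k K P a b (↥ₖ u ^ 2 * x) (↥ₖ u ^ 3 * y) := by
      have h0 : ↥ₖ u ≠ 0 := (map_ne_zero _).mpr hu.1
      have hval : ∀ (n : ℕ) (Q : Place k K), Q.1 (↥ₖ u ^ n) = 1 := fun n Q => by
        rw [map_pow, val_algebraMap Q hu.1, one_pow]
      have h4 := congrArg ↥ₖ hu.2.1
      have h6 := congrArg ↥ₖ hu.2.2
      simp only [map_mul, map_pow] at h4 h6
      refine ⟨d.ff, d.genus, d.deg, by linear_combination (↥ₖ u) ^ 6 * d.eq + (↥ₖ u) ^ 2 * x * h4 + h6, ?_,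
        fun Q => by rw [map_mul, hval, one_mul]; exact d.xL Q,
        by rw [← d.xo]; simp only [Place.ord, map_mul, hval, one_mul],
        fun Q => by rw [map_mul, hval, one_mul]; exact d.yL Q,
        by rw [← d.yo]; simp only [Place.ord, map_mul, hval, one_mul]⟩
      refine top_unique (d.gen.symm.le.trans ?_)
      rw [IntermediateField.adjoin_le_iff, Set.insert_subset_iff, Set.singleton_subset_iff]
      set E := IntermediateField.adjoin k ({↥ₖ u ^ 2 * x, ↥ₖ u ^ 3 * y} : Set K)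
      constructor
      · have := div_mem (IntermediateField.subset_adjoin k _ (Set.mem_insert _ _) : ↥ₖ u ^ 2 * x ∈ E)
          (pow_mem (E.algebraMap_mem u) 2)
        rwa [mul_div_cancel_left₀ _ (pow_ne_zero _ h0)] at this
      · have := div_mem (IntermediateField.subset_adjoin k _ (Set.mem_insert_of_mem _ rfl) : ↥ₖ u ^ 3 * y ∈ E)
          (pow_mem (E.algebraMap_mem u) 3)
        rwa [mul_div_cancel_left₀ _ (pow_ne_zero _ h0)] at this
    have h := d'.ker_le u⁻¹ (good_inv hu) G hG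
    have e : ∀ (n : ℕ) (z : K), ↥ₖ u⁻¹ ^ n * (↥ₖ u ^ n * z) = z := fun n z => by
      rw [← mul_assoc, ← mul_pow, ← map_mul, inv_mul_cancel₀ hu.1, map_one, one_pow, one_mul]
    rwa [e 2, e 3] at h
  let I : Ideal (MvPolynomial (Fin 2) k) := RingHom.ker φ.toRingHom
  letI : Algebra (MvPolynomial (Fin 2) k ⧸ I) K := (RingHom.kerLift φ.toRingHom).toAlgebra
  haveI : FaithfulSMul (MvPolynomial (Fin 2) k ⧸ I) K :=
    (faithfulSMul_iff_algebraMap_injective _ _).mpr (RingHom.kerLift_injective φ.toRingHom)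
  haveI : IsFractionRing (MvPolynomial (Fin 2) k ⧸ I) K := IsFractionRing.of_field _ _ fun z => by
    have hz : z ∈ IntermediateField.adjoin k (Set.range ![x, y]) := by
      rw [Matrix.range_cons, Matrix.range_cons, Matrix.range_empty, Set.union_empty, Set.singleton_union, d.gen]
      trivial
    obtain ⟨r, s, hrs⟩ := (IntermediateField.mem_adjoin_range_iff k _ z).mp hz
    exact ⟨Ideal.Quotient.mk I r, Ideal.Quotient.mk I s, hrs⟩
  let g : MvPolynomial (Fin 2) k ⧸ I →+* K := Ideal.Quotient.lift I ψ.toRingHom fun G hG => hker G hG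
  have hg : Function.Injective g := by
    rw [RingHom.injective_iff_ker_eq_bot, eq_bot_iff]
    intro q hq
    obtain ⟨G, rfl⟩ := Ideal.Quotient.mk_surjective q
    exact Ideal.Quotient.eq_zero_iff_mem.mpr (hker' G hq)
  let σ : K →+* K := IsFractionRing.lift hg
  have hσ : ∀ G, σ (φ G) = ψ G := fun G =>
    IsFractionRing.lift_algebraMap hg (Ideal.Quotient.mk I G)
  refine ⟨{ σ with commutes' := fun c => ?_ }, ?_, ?_⟩
  · have := hσ (MvPolynomial.C c)
    simpa [φ, ψ] using this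
  · show σ x = _
    simpa [φ, ψ] using hσ (MvPolynomial.X 0)
  · show σ y = _
    simpa [φ, ψ] using hσ (MvPolynomial.X 1)

theorem Data.ext_hom (d : Data k K P a b x y) {σ τ : K →ₐ[k] K} (hx : σ x = τ x) (hy : σ y = τ y) : σ = τ := by
  ext z
  have hz : z ∈ IntermediateField.adjoin k ({x, y} : Set K) := by rw [d.gen]; trivial
  induction hz using IntermediateField.adjoin_induction with
  | mem w hw => rcases hw with rfl | rfl <;> assumption
  | algebraMap c => rw [σ.commutes, τ.commutes]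
  | add a b _ _ ha hb => rw [map_add, map_add, ha, hb]
  | inv a _ ha => rw [map_inv₀, map_inv₀, ha]
  | mul a b _ _ ha hb => rw [map_mul, map_mul, ha, hb]

theorem Data.exists_aut (d : Data k K P a b x y) (u : k) (hu : Good a b u) :
    ∃ σ : K ≃ₐ[k] K, (∀ z : K, P.1 (σ z) = P.1 z) ∧ σ x = ↥ₖ u ^ 2 * x ∧ σ y = ↥ₖ u ^ 3 * y := by
  obtain ⟨σ, hσx, hσy⟩ := d.exists_hom u hu
  obtain ⟨τ, hτx, hτy⟩ := d.exists_hom u⁻¹ (good_inv hu)
  have e : ∀ (n : ℕ) (z : K), ↥ₖ u⁻¹ ^ n * (↥ₖ u ^ n * z) = z := fun n z => by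
    rw [← mul_assoc, ← mul_pow, ← map_mul, inv_mul_cancel₀ hu.1, map_one, one_pow, one_mul]
  have e' : ∀ (n : ℕ) (z : K), ↥ₖ u ^ n * (↥ₖ u⁻¹ ^ n * z) = z := fun n z => by
    rw [← mul_assoc, ← mul_pow, ← map_mul, mul_inv_cancel₀ hu.1, map_one, one_pow, one_mul]
  have h1 : σ.comp τ = AlgHom.id k K := d.ext_hom
    (by rw [AlgHom.comp_apply, hτx, map_mul, map_pow, σ.commutes, hσx, e 2]; rfl)
    (by rw [AlgHom.comp_apply, hτy, map_mul, map_pow, σ.commutes, hσy, e 3]; rfl)
  have h2 : τ.comp σ = AlgHom.id k K := d.ext_hom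
    (by rw [AlgHom.comp_apply, hσx, map_mul, map_pow, τ.commutes, hτx, e' 2]; rfl)
    (by rw [AlgHom.comp_apply, hσy, map_mul, map_pow, τ.commutes, hτy, e' 3]; rfl)
  refine ⟨AlgEquiv.ofAlgHom σ τ h1 h2, ?_, hσx, hσy⟩
  have hP : pullPlace (AlgEquiv.ofAlgHom σ τ h1 h2) P = P := by
    by_contra hne
    have h := d.xL (pullPlace (AlgEquiv.ofAlgHom σ τ h1 h2) P)
    rw [Finsupp.single_eq_of_ne hne, exp_zero, pullPlace_apply] at h
    change P.1 (σ x) ≤ 1 at h
    rw [hσx, map_mul, map_pow, val_algebraMap P hu.1, one_pow, one_mul,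
      val_le_one_iff P (fun h0 => by have := d.xo; rw [h0] at this; simp at this), d.xo] at h
    norm_num at h
  intro z
  rw [← pullPlace_apply, hP]

theorem mem_L_single_fixed {σ : K ≃ₐ[k] K} (hσ : ∀ z : K, P.1 (σ z) = P.1 z) {n : ℤ} {z : K}
    (hz : z ∈ L (Finsupp.single P n)) : σ z ∈ L (Finsupp.single P n) := by
  intro Q
  have h := hz (pullPlace σ Q)
  have hP : pullPlace σ P = P := by
    apply Subtype.ext
    apply Valuation.ext
    exact hσ
  rw [pullPlace_apply] at h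
  by_cases hQ : Q = P
  · subst hQ; rwa [hP] at h
  · rw [Finsupp.single_eq_of_ne (fun e => hQ (pullPlace_injective σ (e.trans hP.symm)))] at h
    rwa [Finsupp.single_eq_of_ne hQ]

theorem Data.exists_scalar (d : Data k K P a b x y) (h2 : (2 : k) ≠ 0) (h3 : (3 : k) ≠ 0)
    (σ : K ≃ₐ[k] K) (hσ : ∀ z : K, P.1 (σ z) = P.1 z) :
    ∃ u : k, Good a b u ∧ σ x = ↥ₖ u ^ 2 * x ∧ σ y = ↥ₖ u ^ 3 * y := by
  have b2 := (genusOne_basis d.ff d.genus d.deg d.xL d.xo d.yL d.yo 2 le_rfl).2
  have b3 := (genusOne_basis d.ff d.genus d.deg d.xL d.xo d.yL d.yo 3 (by norm_num)).2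
  have b6 := (genusOne_basis d.ff d.genus d.deg d.xL d.xo d.yL d.yo 6 (by norm_num)).1
  have hx' := mem_L_single_fixed hσ d.xL
  have hy' := mem_L_single_fixed hσ d.yL
  rw [show ((2 : ℕ) : ℤ) = 2 from rfl] at b2
  rw [show ((3 : ℕ) : ℤ) = 3 from rfl] at b3
  rw [← b2, Submodule.mem_span_range_iff_exists_fun] at hx'
  rw [← b3, Submodule.mem_span_range_iff_exists_fun] at hy'
  haveI : IsEmpty (Fin ((2 - 1) / 2)) := ⟨fun i => by have := i.2; omega⟩
  obtain ⟨cx, hcx⟩ := hx'
  obtain ⟨cy, hcy⟩ := hy'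
  simp only [Fintype.sum_sum_type, Fin.sum_univ_succ, Sum.elim_inl, Sum.elim_inr, Finset.univ_eq_empty,
    Finset.sum_empty, Algebra.smul_def, Fin.val_zero, Fin.val_succ, pow_zero, pow_one, mul_one, one_mul, add_zero,
    zero_add, Fin.sum_univ_one] at hcx hcy
  generalize cx (Sum.inl 0) = c at hcx
  generalize cx (Sum.inl (Fin.succ 0)) = δ at hcx
  generalize cy (Sum.inl 0) = e at hcy
  generalize cy (Sum.inl (Fin.succ 0)) = g at hcy
  generalize cy (Sum.inr 0) = h at hcy
  have heq' : σ y ^ 2 = σ x ^ 3 + ↥ₖ a * σ x + ↥ₖ b := by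
    rw [← map_pow, d.eq, map_add, map_add, map_mul, map_pow, AlgEquiv.commutes, AlgEquiv.commutes]
  rw [← hcx, ← hcy] at heq'
  have key : ∀ i, Sum.elim
      ![e ^ 2 + h ^ 2 * b - c ^ 3 - a * c - b, 2 * e * g + h ^ 2 * a - 3 * c ^ 2 * δ - a * δ,
        g ^ 2 - 3 * c * δ ^ 2, h ^ 2 - δ ^ 3]
      ![2 * e * h, 2 * g * h] i = 0 := by
    refine Fintype.linearIndependent_iff.mp b6 _ ?_
    simp only [Fintype.sum_sum_type, Sum.elim_inl, Sum.elim_inr]
    show (∑ i : Fin 4, ![e ^ 2 + h ^ 2 * b - c ^ 3 - a * c - b, 2 * e * g + h ^ 2 * a - 3 * c ^ 2 * δ - a * δ,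
        g ^ 2 - 3 * c * δ ^ 2, h ^ 2 - δ ^ 3] i • x ^ (i : ℕ)) +
      (∑ i : Fin 2, ![2 * e * h, 2 * g * h] i • (x ^ (i : ℕ) * y)) = 0
    simp only [Fin.sum_univ_four, Fin.sum_univ_two, Algebra.smul_def, Matrix.cons_val_zero, Matrix.cons_val_one,
      Matrix.cons_val, Fin.val_zero, Fin.val_one, map_sub, map_add, map_mul, map_pow, map_ofNat, Fin.val_two,
      show ((3 : Fin 4) : ℕ) = 3 from rfl]
    linear_combination heq' - (↥ₖ h) ^ 2 * d.eq
  have k0 := key (Sum.inl 0)
  have k1 := key (Sum.inl 1)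
  have k2 := key (Sum.inl 2)
  have k3 := key (Sum.inl 3)
  have ky := key (Sum.inr 0)
  have kxy := key (Sum.inr 1)
  simp only [Sum.elim_inl, Sum.elim_inr, Matrix.cons_val_zero, Matrix.cons_val_one, Matrix.cons_val] at k0 k1 k2 k3 ky kxy
  have hh : h ≠ 0 := by
    intro h0
    rw [h0, map_zero, zero_mul, add_zero] at hcy
    have hle : P.1 (σ y) ≤ P.1 x := by
      rw [← hcy]
      have hx1 : 1 ≤ P.1 x := by
        rw [val_eq_exp_neg_ord P (fun h' => by have := d.xo; rw [h'] at this; simp at this), d.xo]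
        exact exp_zero.symm.trans_le (exp_le_exp.mpr (by norm_num))
      refine (P.1.map_add _ _).trans (max_le ((P.2.1 e).trans hx1) ?_)
      rw [map_mul]; exact mul_le_of_le_one_left' (P.2.1 g)
    rw [hσ, val_eq_exp_neg_ord P (fun h' => by have := d.yo; rw [h'] at this; simp at this),
      val_eq_exp_neg_ord P (fun h' => by have := d.xo; rw [h'] at this; simp at this), d.xo, d.yo, exp_le_exp] at hle
    omega
  have he : e = 0 := by
    rcases mul_eq_zero.mp ky with h' | h'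
    · exact (mul_eq_zero.mp h').resolve_left h2
    · exact absurd h' hh
  have hg : g = 0 := by
    rcases mul_eq_zero.mp kxy with h' | h'
    · exact (mul_eq_zero.mp h').resolve_left h2
    · exact absurd h' hh
  subst he hg
  have hδ : δ ≠ 0 := fun h' => by
    rw [h', zero_pow three_ne_zero, sub_zero] at k3
    exact hh (pow_eq_zero_iff two_ne_zero |>.mp k3)
  have hc : c = 0 := by
    have : 3 * c * δ ^ 2 = 0 := by linear_combination -k2
    rcases mul_eq_zero.mp this with h' | h'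
    · exact (mul_eq_zero.mp h').resolve_left h3
    · exact absurd h' (pow_ne_zero _ hδ)
  subst hc
  refine ⟨h / δ, ⟨div_ne_zero hh hδ, ?_, ?_⟩, ?_, ?_⟩
  · field_simp
    linear_combination h ^ 2 * k1 + a * δ * k3
  · field_simp
    linear_combination h ^ 4 * k0 + b * (h ^ 2 + δ ^ 3) * k3
  · rw [← hcx, map_zero, zero_add]
    congr 1
    rw [← map_pow]
    congr 1
    field_simp
    linear_combination -k3
  · rw [← hcy, map_zero, zero_mul, zero_add, zero_add]
    congr 1
    rw [← map_pow]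
    congr 1
    field_simp
    linear_combination -k3

/-- The automorphisms fixing `P` correspond to the compatible scalars. -/
theorem Data.card_eq (d : Data k K P a b x y) (h2 : (2 : k) ≠ 0) (h3 : (3 : k) ≠ 0) :
    Nat.card {σ : K ≃ₐ[k] K // ∀ z : K, P.1 (σ z) = P.1 z} = Nat.card {u : k // Good a b u} := by
  choose σ hσP hσx hσy using fun u : {u : k // Good a b u} => d.exists_aut u.1 u.2
  refine (Nat.card_eq_of_bijective (fun u => (⟨σ u, hσP u⟩ : {σ : K ≃ₐ[k] K // ∀ z : K, P.1 (σ z) = P.1 z})) ⟨?_, ?_⟩).symm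
  · intro u w huw
    have hx0 : x ≠ 0 := fun h' => by have := d.xo; rw [h'] at this; simp at this
    have hy0 : y ≠ 0 := fun h' => by have := d.yo; rw [h'] at this; simp at this
    have he : σ u = σ w := congrArg Subtype.val huw
    have e2 : (u : k) ^ 2 = (w : k) ^ 2 := (algebraMap k K).injective (by
      rw [map_pow, map_pow]; exact mul_right_cancel₀ hx0 (by rw [← hσx, ← hσx, he]))
    have e3 : (u : k) ^ 3 = (w : k) ^ 3 := (algebraMap k K).injective (by
      rw [map_pow, map_pow]; exact mul_right_cancel₀ hy0 (by rw [← hσy, ← hσy, he]))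
    refine Subtype.ext (mul_left_cancel₀ (pow_ne_zero 2 u.2.1) ?_)
    calc (u : k) ^ 2 * u = (u : k) ^ 3 := by ring
      _ = (w : k) ^ 3 := e3
      _ = (w : k) ^ 2 * w := by ring
      _ = (u : k) ^ 2 * w := by rw [e2]
  · rintro ⟨τ, hτ⟩
    obtain ⟨u, hu, hx, hy⟩ := d.exists_scalar h2 h3 τ hτ
    refine ⟨⟨u, hu⟩, Subtype.ext (AlgEquiv.coe_algHom_injective (d.ext_hom ?_ ?_))⟩
    · show σ ⟨u, hu⟩ x = τ x; rw [hσx, hx]
    · show σ ⟨u, hu⟩ y = τ y; rw [hσy, hy]

theorem card_pow_eq_one [IsAlgClosed k] {n : ℕ} (hn : (n : k) ≠ 0) :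
    Nat.card {u : k // u ^ n = 1} = n := by
  have hn0 : 0 < n := Nat.pos_of_ne_zero fun h => hn (by rw [h, Nat.cast_zero])
  have hsep := Polynomial.separable_X_pow_sub_C (1 : k) hn one_ne_zero
  have h := Polynomial.card_rootSet_eq_natDegree (K := k) hsep (IsAlgClosed.splits _)
  rw [Polynomial.natDegree_X_pow_sub_C] at h
  rw [← Nat.card_eq_fintype_card] at h
  conv_rhs => rw [← h]
  refine Nat.card_congr (Equiv.subtypeEquivRight fun u => ?_)
  rw [Polynomial.mem_rootSet_of_ne (Polynomial.X_pow_sub_C_ne_zero hn0 1)]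
  simp [sub_eq_zero]

theorem card_good [IsAlgClosed k] (h2 : (2 : k) ≠ 0) (h3 : (3 : k) ≠ 0) (hdisc : 4 * a ^ 3 + 27 * b ^ 2 ≠ 0) :
    Nat.card {u : k // Good a b u} = if a = 0 then 6 else if b = 0 then 4 else 2 := by
  have h6 : ((6 : ℕ) : k) ≠ 0 := by
    rw [show ((6 : ℕ) : k) = 2 * 3 by norm_num]; exact mul_ne_zero h2 h3
  have h4 : ((4 : ℕ) : k) ≠ 0 := by
    rw [show ((4 : ℕ) : k) = 2 * 2 by norm_num]; exact mul_ne_zero h2 h2
  have key : ∀ (n : ℕ), n ≠ 0 → (n : k) ≠ 0 → (∀ u : k, Good a b u ↔ u ^ n = 1) → Nat.card {u : k // Good a b u} = n :=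
    fun n _ hn hiff => (Nat.card_congr (Equiv.subtypeEquivRight hiff)).trans (card_pow_eq_one hn)
  split_ifs with ha hb
  · have hb : b ≠ 0 := fun hb => hdisc (by rw [ha, hb]; ring)
    refine key 6 (by norm_num) h6 fun u => ⟨fun h => (mul_eq_right₀ hb).mp h.2.2, fun h => ⟨?_, by rw [ha, mul_zero], by rw [h, one_mul]⟩⟩
    rintro rfl; norm_num at h
  · refine key 4 (by norm_num) h4 fun u => ⟨fun h => (mul_eq_right₀ ha).mp h.2.1, fun h => ⟨?_, by rw [h, one_mul], by rw [hb, mul_zero]⟩⟩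
    rintro rfl; norm_num at h
  · refine key 2 (by norm_num) (by exact_mod_cast h2) fun u => ⟨fun h => ?_, fun h => ⟨?_, ?_, ?_⟩⟩
    · have e4 := (mul_eq_right₀ ha).mp h.2.1
      have e6 := (mul_eq_right₀ hb).mp h.2.2
      calc u ^ 2 = u ^ 4 * u ^ 2 := by rw [e4, one_mul]
        _ = u ^ 6 := by ring
        _ = 1 := e6
    · rintro rfl; norm_num at h
    · rw [show u ^ 4 = (u ^ 2) ^ 2 by ring, h, one_pow, one_mul]
    · rw [show u ^ 6 = (u ^ 2) ^ 3 by ring, h, one_pow, one_mul]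

end Groth.Agent.CommAlg4.WeierstrassAut
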