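import Mathlib
import Groth.Agent.HenselLib.PairQuot
import Groth.Agent.HenselLib.HullFlat
import Groth.Agent.HenselLib.Local
import Groth.Agent.HenselLib.QFPart

/-!
Weierstrass preparation and division in the henselisation of `R[X]` along `(X)`, for a henselian
local ring `R`.
-/

set_option autoImplicit false
set_option maxHeartbeats 1000000
set_option linter.unusedSectionVars false

noncomputable section

universe u

namespace Groth.Agent.CommAlg4.WeierstrassHensel

open Polynomial
open Groth.Agent.HenselLib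

variable {R : Type u} [CommRing R] {B : Type u} [CommRing B] [Algebra R[X] B]

local notation "tB" => algebraMap R[X] B Polynomial.X

theorem map_span_X : (Ideal.span {(X : R[X])}).map (algebraMap R[X] B) = Ideal.span {tB} := by
  rw [Ideal.map_span, Set.image_singleton]

theorem henselianRing_span (hB : IsPairHull R[X] (Ideal.span {X}) B) :
    HenselianRing B (Ideal.span {tB}) := by
  rw [← map_span_X (R := R) (B := B)]
  exact hB.1

/-- Laurent/power series expansion. -/
theorem exists_expansion (hB : IsPairHull R[X] (Ideal.span {X}) B) :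
    ∃ ψ : B →+* PowerSeries R, ∀ p : R[X], ψ (algebraMap R[X] B p) = (p : PowerSeries R) := by
  obtain ⟨ψ, hψ, -⟩ := hB.2 (PowerSeries R) (Ideal.span {(PowerSeries.X : PowerSeries R)})
    (Polynomial.coeToPowerSeries.ringHom) inferInstance (by
      rw [Ideal.map_span, Set.image_singleton]
      simp)
  exact ⟨ψ, fun p => RingHom.congr_fun hψ p⟩

/-- Every element is a constant modulo `t`. -/
theorem exists_C_add (hB : IsPairHull R[X] (Ideal.span {X}) B) (b : B) :
    ∃ (r : R) (b' : B), b = algebraMap R[X] B (C r) + tB * b' := by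
  obtain ⟨x, hx⟩ := (hB.bijective_quotientMap 1).2 (Ideal.Quotient.mk _ b)
  obtain ⟨f, rfl⟩ := Ideal.Quotient.mk_surjective x
  rw [Ideal.quotientMap_mk, Ideal.Quotient.eq, Ideal.map_pow, map_span_X, pow_one,
    Ideal.mem_span_singleton] at hx
  obtain ⟨c, hc⟩ := hx
  refine ⟨f.coeff 0, algebraMap R[X] B f.divX - c, ?_⟩
  conv_rhs => rw [mul_sub]
  have := congrArg (algebraMap R[X] B) (X_mul_divX_add f)
  rw [map_add, map_mul] at this
  linear_combination -this - hc

theorem isUnit_of_constantCoeff (hB : IsPairHull R[X] (Ideal.span {X}) B)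
    (ψ : B →+* PowerSeries R) (hψ : ∀ p : R[X], ψ (algebraMap R[X] B p) = (p : PowerSeries R))
    {b : B} (hb : IsUnit (PowerSeries.constantCoeff (ψ b))) : IsUnit b := by
  obtain ⟨r, b', rfl⟩ := exists_C_add hB b
  rw [map_add, map_mul, hψ, hψ] at hb
  simp at hb
  obtain ⟨s, hs⟩ := hb.exists_left_inv
  have h1 := Ideal.mem_jacobson_bot.mp
    ((henselianRing_span hB).jac (Ideal.mem_span_singleton_self tB)) (algebraMap R[X] B (C s) * b')
  refine isUnit_of_mul_isUnit_right (x := algebraMap R[X] B (C s)) ?_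
  convert h1 using 1
  rw [mul_add, ← map_mul, ← map_mul, hs, map_one, map_one]
  ring

section Division

variable [HenselianLocalRing R]

/-- A distinguished polynomial. -/
def IsDistinguished (P : R[X]) : Prop :=
  P.Monic ∧ ∀ i < P.natDegree, P.coeff i ∈ IsLocalRing.maximalIdeal R

theorem IsDistinguished.map_residue {P : R[X]} (hP : IsDistinguished P) :
    P.map (IsLocalRing.residue R) = X ^ P.natDegree := by
  ext i
  rw [coeff_map, coeff_X_pow]
  split_ifs with h
  · rw [h, hP.1.coeff_natDegree, map_one]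
  · rcases lt_or_gt_of_ne h with h | h
    · exact (IsLocalRing.residue_eq_zero_iff _).mpr (hP.2 i h)
    · rw [coeff_eq_zero_of_natDegree_lt h, map_zero]

/-- `R[X] ⧸ (P) = B ⧸ P B` for distinguished `P`. -/
theorem bijective_quotientMap (hB : IsPairHull R[X] (Ideal.span {X}) B) {P : R[X]}
    (hP : IsDistinguished P) :
    Function.Bijective (Ideal.quotientMap ((Ideal.span {P}).map (algebraMap R[X] B))
      (algebraMap R[X] B) Ideal.le_comap_map) := by
  set J := Ideal.span {P} with hJ
  set θ := Ideal.quotientMap (J.map (algebraMap R[X] B)) (algebraMap R[X] B) Ideal.le_comap_map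
  have : Module.Finite R (R[X] ⧸ J) := hP.1.finite_quotient
  have hHR : HenselianRing R (IsLocalRing.maximalIdeal R) :=
    ⟨(IsLocalRing.jacobson_eq_maximalIdeal ⊥ bot_ne_top).ge, fun f hf a₀ h₁ h₂ =>
      HenselianLocalRing.is_henselian f hf a₀ h₁ (by
        rw [← IsLocalRing.notMem_maximalIdeal]
        intro h
        rw [Ideal.Quotient.eq_zero_iff_mem.mpr h] at h₂
        exact not_isUnit_zero h₂)⟩
  have hT0 : HenselianRing (R[X] ⧸ J)
      ((IsLocalRing.maximalIdeal R).map (algebraMap R (R[X] ⧸ J))) :=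
    henselianRing_of_isIntegral _ _
  have hX : Ideal.Quotient.mk J X ∈
      ((IsLocalRing.maximalIdeal R).map (algebraMap R (R[X] ⧸ J))).radical := by
    refine ⟨P.natDegree, ?_⟩
    have hmem : P - X ^ P.natDegree ∈ (IsLocalRing.maximalIdeal R).map (C : R →+* R[X]) := by
      rw [← IsLocalRing.ker_residue, ← Polynomial.ker_mapRingHom, RingHom.mem_ker, map_sub,
        coe_mapRingHom, hP.map_residue, Polynomial.map_pow, map_X, sub_self]
    have := Ideal.mem_map_of_mem (Ideal.Quotient.mk J) hmem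
    rw [Ideal.map_map, map_sub, map_pow,
      Ideal.Quotient.eq_zero_iff_mem.mpr (Ideal.mem_span_singleton_self P), zero_sub,
      neg_mem_iff] at this
    exact this
  have hT : HenselianRing (R[X] ⧸ J) ((Ideal.span {(X : R[X])}).map (Ideal.Quotient.mk J)) := by
    have := henselianRing_radical ((IsLocalRing.maximalIdeal R).map (algebraMap R (R[X] ⧸ J)))
    refine henselianRing_of_le (J := ((IsLocalRing.maximalIdeal R).map
      (algebraMap R (R[X] ⧸ J))).radical) ?_
    rw [Ideal.map_span, Set.image_singleton, Ideal.span_singleton_le_iff_mem]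
    exact hX
  obtain ⟨g, hg, -⟩ := hB.2 (R[X] ⧸ J) _ (Ideal.Quotient.mk J) hT le_rfl
  have hker : ∀ a ∈ J.map (algebraMap R[X] B), g a = 0 := fun a ha => by
    have : (J.map (algebraMap R[X] B)).map g = ⊥ := by
      rw [Ideal.map_map, hg, Ideal.map_quotient_self]
    exact Ideal.mem_bot.mp (this ▸ Ideal.mem_map_of_mem g ha)
  let g' : B ⧸ J.map (algebraMap R[X] B) →+* R[X] ⧸ J := Ideal.Quotient.lift _ g hker
  have hleft : g'.comp θ = RingHom.id _ := Ideal.Quotient.ringHom_ext (RingHom.ext fun r => by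
    show g (algebraMap R[X] B r) = _
    exact congr($hg r))
  have hright : θ.comp g' = RingHom.id _ := by
    refine Ideal.Quotient.ringHom_ext ?_
    have : HenselianRing B ((Ideal.span {(X : R[X])}).map (algebraMap R[X] B)) := hB.1
    have hQ : HenselianRing (B ⧸ J.map (algebraMap R[X] B))
        (((Ideal.span {(X : R[X])}).map (algebraMap R[X] B)).map
          (algebraMap B (B ⧸ J.map (algebraMap R[X] B)))) := henselianRing_of_isIntegral _ _
    obtain ⟨g₁, -, huniq⟩ := hB.2 (B ⧸ J.map (algebraMap R[X] B)) _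
      ((Ideal.Quotient.mk _).comp (algebraMap R[X] B)) hQ (by rw [← Ideal.map_map]; rfl)
    refine (huniq (θ.comp g) (RingHom.ext fun r => ?_)).trans (huniq (Ideal.Quotient.mk _) rfl).symm
    show θ (g (algebraMap R[X] B r)) = _
    rw [show g (algebraMap R[X] B r) = Ideal.Quotient.mk J r from congr($hg r)]
    rfl
  exact Function.bijective_iff_has_inverse.mpr ⟨g', fun x => congr($hleft x), fun x => congr($hright x)⟩

theorem exists_poly_sub_mem (hB : IsPairHull R[X] (Ideal.span {X}) B) {P : R[X]}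
    (hP : IsDistinguished P) (b : B) :
    ∃ q : R[X], algebraMap R[X] B q - b ∈ Ideal.span {algebraMap R[X] B P} := by
  obtain ⟨x, hx⟩ := (bijective_quotientMap hB hP).2 (Ideal.Quotient.mk _ b)
  obtain ⟨f, rfl⟩ := Ideal.Quotient.mk_surjective x
  refine ⟨f, ?_⟩
  rwa [Ideal.quotientMap_mk, Ideal.Quotient.eq, Ideal.map_span, Set.image_singleton] at hx

theorem dvd_of_algebraMap_mem (hB : IsPairHull R[X] (Ideal.span {X}) B) {P : R[X]}
    (hP : IsDistinguished P) {q : R[X]}
    (hq : algebraMap R[X] B q ∈ Ideal.span {algebraMap R[X] B P}) : q ∈ Ideal.span {P} := by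
  rw [← Ideal.Quotient.eq_zero_iff_mem]
  apply (bijective_quotientMap hB hP).1
  rw [Ideal.quotientMap_mk, map_zero, Ideal.Quotient.eq_zero_iff_mem, Ideal.map_span,
    Set.image_singleton]
  exact hq

theorem algebraMap_monic_mul_left_cancel (hB : IsPairHull R[X] (Ideal.span {X}) B) {P : R[X]}
    (hP : P.Monic) {a b : B} (h : algebraMap R[X] B P * a = algebraMap R[X] B P * b) : a = b := by
  obtain ⟨e⟩ := hB.equiv_pairH
  have : Module.Flat R[X] B := Module.Flat.of_linearEquiv e.toLinearEquiv.symm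
  refine (IsSMulRegular.of_flat (S := B) (hP.isRegular.left : IsSMulRegular R[X] P)) ?_
  simpa [smul_eq_mul, Algebra.smul_def] using h

end Division

theorem finite_of_quasiFinite_of_killed {R F : Type u} [CommRing R] [IsLocalRing R] [CommRing F]
    [Algebra R F] [Algebra.FiniteType R F] [Algebra.QuasiFinite R F]
    (h : ∀ r ∈ IsLocalRing.maximalIdeal R, algebraMap R F r = 0) : Module.Finite R F := by
  let _ : Algebra (IsLocalRing.ResidueField R) F :=
    (Ideal.Quotient.lift _ (algebraMap R F) h : IsLocalRing.ResidueField R →+* F).toAlgebra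
  have : IsScalarTower R (IsLocalRing.ResidueField R) F := IsScalarTower.of_algebraMap_eq fun _ => rfl
  have : Algebra.QuasiFinite (IsLocalRing.ResidueField R) F :=
    Algebra.QuasiFinite.of_restrictScalars R _ _
  have : Algebra.FiniteType (IsLocalRing.ResidueField R) F :=
    Algebra.FiniteType.of_restrictScalars_finiteType R _ _
  have : Module.Finite (IsLocalRing.ResidueField R) F := Module.Finite.of_quasiFinite
  exact Module.Finite.trans (IsLocalRing.ResidueField R) F

theorem quasiFiniteAt_of_finite_quotient {R S : Type u} [CommRing R] [CommRing S] [Algebra R S]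
    [Algebra.FiniteType R S] (p : Ideal R) [p.IsMaximal] (N : Ideal S) [N.IsPrime] [N.LiesOver p]
    [Module.Finite R (S ⧸ p.map (algebraMap R S))] : Algebra.QuasiFiniteAt R N := by
  have hsurj : Function.Surjective (algebraMap R p.ResidueField) := fun y => by
    obtain ⟨z, rfl⟩ := (Ideal.bijective_algebraMap_quotient_residueField p).2 y
    obtain ⟨r, rfl⟩ := Ideal.Quotient.mk_surjective z
    exact ⟨r, IsScalarTower.algebraMap_apply R (R ⧸ p) _ r⟩
  let π : S →ₐ[R] p.Fiber S := Algebra.TensorProduct.includeRight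
  have hπ : Function.Surjective π := TensorProduct.mk_surjective _ _ _ hsurj
  have hker : ∀ a ∈ p.map (algebraMap R S), π a = 0 := by
    intro a ha
    have hle : p.map (algebraMap R S) ≤ RingHom.ker π.toRingHom := by
      rw [Ideal.map_le_iff_le_comap]
      intro r hr
      show π (algebraMap R S r) = 0
      rw [π.commutes, IsScalarTower.algebraMap_apply R p.ResidueField,
        Ideal.algebraMap_residueField_eq_zero.mpr hr, map_zero]
    exact hle ha
  have : Module.Finite R (p.Fiber S) :=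
    Module.Finite.of_surjective (Ideal.Quotient.liftₐ (p.map (algebraMap R S)) π hker).toLinearMap
      (fun y => by obtain ⟨a, rfl⟩ := hπ y; exact ⟨Ideal.Quotient.mk _ a, rfl⟩)
  have : Module.Finite p.ResidueField (p.Fiber S) := Module.Finite.of_restrictScalars_finite R _ _
  let e := PrimeSpectrum.preimageHomeomorphFiber R S ⟨p, inferInstance⟩
  let N' : PrimeSpectrum.comap (algebraMap R S) ⁻¹' {(⟨p, inferInstance⟩ : PrimeSpectrum R)} :=
    ⟨⟨N, inferInstance⟩, PrimeSpectrum.ext (Ideal.over_def N p).symm⟩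
  exact Algebra.QuasiFiniteAt.of_quasiFiniteAt_residueField p N (e N').asIdeal
    congr($(e.symm_apply_apply N').1.asIdeal)

section Preparation

variable [HenselianLocalRing R]

/-- An element is `X ^ n` times a unit modulo the maximal ideal. -/
theorem exists_approx (hB : IsPairHull R[X] (Ideal.span {X}) B) {f : B}
    (hf : f ∉ (IsLocalRing.maximalIdeal R).map ((algebraMap R[X] B).comp C)) :
    ∃ (A : Type u) (_ : CommRing A) (_ : Algebra R[X] A) (_ : Algebra.Etale R[X] A)
      (φ : A →ₐ[R[X]] B) (x s s' : A) (n : ℕ), φ x = f ∧ IsUnit (φ s) ∧ IsUnit (φ s') ∧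
      s * x - algebraMap R[X] A (X ^ n) * s' ∈
        (IsLocalRing.maximalIdeal R).map ((algebraMap R[X] A).comp C) := by
  classical
  obtain ⟨ψ, hψ⟩ := exists_expansion hB
  obtain ⟨e⟩ := hB.equiv_pairH
  obtain ⟨A, _, _, _, φ, x, hφx⟩ : ∃ (A : Type u) (_ : CommRing A) (_ : Algebra R[X] A)
      (_ : Algebra.Etale R[X] A) (φ : A →ₐ[R[X]] B) (x : A), φ x = f := by
    obtain ⟨Pt, x, hx⟩ := exists_rep (e.symm f)
    exact ⟨Pt.Ring, inferInstance, inferInstance, inferInstance, e.toAlgHom.comp (ι Pt), x,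
      by simp [hx]⟩
  let ε : A →+* R := (PowerSeries.constantCoeff).comp (ψ.comp φ.toRingHom)
  have hε : ∀ p : R[X], ε (algebraMap R[X] A p) = p.coeff 0 := fun p => by
    simp [ε, hψ]
  let q : Ideal A := RingHom.ker ((IsLocalRing.residue R).comp ε)
  have hq : q.IsPrime := RingHom.ker_isPrime _
  have hunit : ∀ s, s ∉ q → IsUnit (φ s) := fun s hs =>
    isUnit_of_constantCoeff hB ψ hψ ((IsLocalRing.residue_ne_zero_iff_isUnit _).mp hs)
  let p : Ideal R[X] := RingHom.ker ((IsLocalRing.residue R).comp Polynomial.constantCoeff)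
  have hp : p.IsMaximal :=
    RingHom.ker_isMaximal_of_surjective _ (IsLocalRing.residue_surjective.comp fun r => ⟨C r, by simp⟩)
  let _ : Field (R[X] ⧸ p) := Ideal.Quotient.field p
  let _ : Algebra (R[X] ⧸ p) (A ⧸ p.map (algebraMap R[X] A)) :=
    (Ideal.quotientMap _ (algebraMap R[X] A) Ideal.le_comap_map).toAlgebra
  have : IsScalarTower R[X] (R[X] ⧸ p) (A ⧸ p.map (algebraMap R[X] A)) :=
    IsScalarTower.of_algebraMap_eq fun _ => rfl
  set M := (IsLocalRing.maximalIdeal R).map ((algebraMap R[X] A).comp C) with hM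
  set t : A := algebraMap R[X] A X with ht
  have hpA : p.map (algebraMap R[X] A) ≤ M ⊔ Ideal.span {t} := by
    rw [Ideal.map_le_iff_le_comap]
    intro f hf
    rw [Ideal.mem_comap, ← X_mul_divX_add f, map_add, map_mul]
    refine add_mem (Submodule.mem_sup_right (Ideal.mul_mem_right _ _ (Ideal.mem_span_singleton_self t)))
      (Submodule.mem_sup_left (Ideal.mem_map_of_mem ((algebraMap R[X] A).comp C) ?_))
    rw [← IsLocalRing.residue_eq_zero_iff]
    exact hf
  -- the closed fibre is reduced and finite, so `q` is locally `(𝔪, X)`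
  have hsat : ∀ a ∈ q, ∃ s, s ∉ q ∧ s * a ∈ M ⊔ Ideal.span {t} := by
    have : Algebra.FormallyUnramified R[X] (A ⧸ p.map (algebraMap R[X] A)) :=
      Algebra.FormallyUnramified.comp R[X] A _
    have : Algebra.FormallyUnramified (R[X] ⧸ p) (A ⧸ p.map (algebraMap R[X] A)) :=
      Algebra.FormallyUnramified.of_restrictScalars R[X] _ _
    have : Algebra.EssFiniteType R[X] (A ⧸ p.map (algebraMap R[X] A)) :=
      Algebra.EssFiniteType.comp R[X] A _
    have : Algebra.EssFiniteType (R[X] ⧸ p) (A ⧸ p.map (algebraMap R[X] A)) :=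
      Algebra.EssFiniteType.of_comp R[X] _ _
    have : IsReduced (A ⧸ p.map (algebraMap R[X] A)) :=
      Algebra.FormallyUnramified.isReduced_of_field (R[X] ⧸ p) (A ⧸ p.map (algebraMap R[X] A))
    have : Module.Finite (R[X] ⧸ p) (A ⧸ p.map (algebraMap R[X] A)) :=
      Algebra.FormallyUnramified.finite_of_free (R[X] ⧸ p) _
    have : IsArtinianRing (A ⧸ p.map (algebraMap R[X] A)) := IsArtinianRing.of_finite (R[X] ⧸ p) _
    set Q := Ideal.Quotient.mk (p.map (algebraMap R[X] A))
    have hQsurj : Function.Surjective Q := Ideal.Quotient.mk_surjective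
    have hqQ : p.map (algebraMap R[X] A) ≤ q := by
      rw [Ideal.map_le_iff_le_comap]
      intro f hf
      show IsLocalRing.residue R (ε (algebraMap R[X] A f)) = 0
      rw [hε]
      exact hf
    have hqbar : (q.map Q).IsPrime :=
      Ideal.map_isPrime_of_surjective hQsurj (by rwa [Ideal.mk_ker])
    intro a ha
    let rest : Finset (MaximalSpectrum (A ⧸ p.map (algebraMap R[X] A))) :=
      (Set.finite_univ (α := MaximalSpectrum (A ⧸ p.map (algebraMap R[X] A)))).toFinset.filter
        fun N => N.asIdeal ≠ q.map Q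
    obtain ⟨s₀, hs₀, hs₀q⟩ : ∃ s₀ ∈ ⨅ N ∈ rest, N.asIdeal, s₀ ∉ q.map Q := by
      by_contra h
      push Not at h
      have hle : rest.inf (fun N => N.asIdeal) ≤ q.map Q := by
        rw [Finset.inf_eq_iInf]; exact fun x hx => h x hx
      obtain ⟨N, hN, hNq⟩ := hqbar.inf_le'.mp hle
      exact (Finset.mem_filter.mp hN).2 (N.isMaximal.eq_of_le hqbar.ne_top hNq)
    obtain ⟨s, rfl⟩ := hQsurj s₀
    refine ⟨s, fun h => hs₀q (Ideal.mem_map_of_mem Q h), hpA ?_⟩
    rw [← Ideal.Quotient.eq_zero_iff_mem]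
    apply IsReduced.eq_zero
    rw [nilpotent_iff_mem_prime]
    intro N hN
    have hNmax : N.IsMaximal := IsArtinianRing.isMaximal_of_isPrime N
    show Q (s * a) ∈ N
    rw [map_mul]
    by_cases hNq : N = q.map Q
    · exact hNq ▸ Ideal.mul_mem_left _ _ (Ideal.mem_map_of_mem Q ha)
    · refine N.mul_mem_right _ ?_
      simp only [Submodule.mem_iInf] at hs₀
      exact hs₀ ⟨N, hNmax⟩ (Finset.mem_filter.mpr ⟨by simp, hNq⟩)
  -- the local ring of the fibre over the maximal ideal
  have hMq : M ≤ q := by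
    rw [hM, Ideal.map_le_iff_le_comap]
    intro r hr
    show IsLocalRing.residue R (ε (algebraMap R[X] A (C r))) = 0
    rw [hε, coeff_C_zero]
    exact (IsLocalRing.residue_eq_zero_iff r).mpr hr
  have htq : t ∈ q := by
    show IsLocalRing.residue R (ε (algebraMap R[X] A X)) = 0
    rw [hε, coeff_X_zero, map_zero]
  let qb : Ideal (A ⧸ M) := q.map (Ideal.Quotient.mk M)
  have hqb : qb.IsPrime :=
    Ideal.map_isPrime_of_surjective Ideal.Quotient.mk_surjective (by rwa [Ideal.mk_ker])
  have hcomap : qb.comap (Ideal.Quotient.mk M) = q := by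
    rw [Ideal.comap_map_of_surjective' _ Ideal.Quotient.mk_surjective, Ideal.mk_ker,
      sup_eq_left.mpr hMq]
  have : IsNoetherianRing (A ⧸ M) := by
    let π := mapRingHom (IsLocalRing.residue R)
    let _ : Algebra (R[X] ⧸ (IsLocalRing.maximalIdeal R).map (C : R →+* R[X])) (A ⧸ M) :=
      (Ideal.quotientMap M (algebraMap R[X] A) (show (IsLocalRing.maximalIdeal R).map (C : R →+* R[X]) ≤
        M.comap (algebraMap R[X] A) by
        rw [← Ideal.map_le_iff_le_comap, Ideal.map_map])).toAlgebra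
    have : IsScalarTower R[X] (R[X] ⧸ (IsLocalRing.maximalIdeal R).map (C : R →+* R[X])) (A ⧸ M) :=
      IsScalarTower.of_algebraMap_eq (R := R[X])
        (S := R[X] ⧸ (IsLocalRing.maximalIdeal R).map (C : R →+* R[X])) (A := A ⧸ M) fun _ => rfl
    have : Algebra.FiniteType R[X] (A ⧸ M) :=
      Algebra.FiniteType.of_surjective (Ideal.Quotient.mkₐ R[X] M) Ideal.Quotient.mk_surjective
    have : Algebra.FiniteType (R[X] ⧸ (IsLocalRing.maximalIdeal R).map (C : R →+* R[X])) (A ⧸ M) :=
      Algebra.FiniteType.of_restrictScalars_finiteType R[X] _ _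
    have : IsNoetherianRing (R[X] ⧸ (IsLocalRing.maximalIdeal R).map (C : R →+* R[X])) := by
      rw [← IsLocalRing.ker_residue, ← Polynomial.ker_mapRingHom]
      exact isNoetherianRing_of_ringEquiv _
        (RingHom.quotientKerEquivOfSurjective
          (map_surjective _ (IsLocalRing.residue_surjective (R := R)))).symm
    exact Algebra.FiniteType.isNoetherianRing
      (R[X] ⧸ (IsLocalRing.maximalIdeal R).map (C : R →+* R[X])) (A ⧸ M)
  let L := Localization.AtPrime qb
  have : IsNoetherianRing L := IsLocalization.isNoetherianRing qb.primeCompl _ inferInstance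
  set τ : L := algebraMap (A ⧸ M) L (Ideal.Quotient.mk M t)
  have hmax : IsLocalRing.maximalIdeal L ≤ Ideal.span {τ} := by
    rw [← Localization.AtPrime.map_eq_maximalIdeal, Ideal.map_le_iff_le_comap]
    intro a ha
    obtain ⟨a, rfl⟩ := Ideal.Quotient.mk_surjective a
    have haq : a ∈ q := by rw [← hcomap]; exact ha
    obtain ⟨s, hs, hsa⟩ := hsat a haq
    obtain ⟨μ, hμ, c, hc, hμc⟩ := Submodule.mem_sup.mp hsa
    obtain ⟨d, rfl⟩ := Ideal.mem_span_singleton.mp hc
    have hsu : IsUnit (algebraMap (A ⧸ M) L (Ideal.Quotient.mk M s)) :=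
      IsLocalization.map_units L (⟨Ideal.Quotient.mk M s, fun h => hs (hcomap ▸ h)⟩ : qb.primeCompl)
    rw [Ideal.mem_comap, Ideal.mem_span_singleton, ← hsu.dvd_mul_left, ← map_mul, ← map_mul]
    refine ⟨algebraMap (A ⧸ M) L (Ideal.Quotient.mk M d), ?_⟩
    rw [← hμc, map_add, Ideal.Quotient.eq_zero_iff_mem.mpr hμ, zero_add, map_mul, map_mul]
  -- Krull
  have hx0 : algebraMap (A ⧸ M) L (Ideal.Quotient.mk M x) ≠ 0 := by
    intro h0
    obtain ⟨⟨s, hs⟩, hsx⟩ := (IsLocalization.map_eq_zero_iff qb.primeCompl L _).mp h0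
    obtain ⟨s, rfl⟩ := Ideal.Quotient.mk_surjective s
    have hsx' : s * x ∈ M := by rwa [← map_mul, Ideal.Quotient.eq_zero_iff_mem] at hsx
    have hsq : s ∉ q := fun h => hs (Ideal.mem_map_of_mem _ h)
    apply hf
    rw [← hφx, ← Ideal.unit_mul_mem_iff_mem _ (hunit s hsq), ← map_mul]
    have := Ideal.mem_map_of_mem φ.toRingHom hsx'
    rw [hM, Ideal.map_map, ← RingHom.comp_assoc] at this
    rw [show (algebraMap R[X] B).comp C = (φ.toRingHom.comp (algebraMap R[X] A)).comp C by
      rw [show φ.toRingHom.comp (algebraMap R[X] A) = algebraMap R[X] B from φ.comp_algebraMap]]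
    exact this
  obtain ⟨n, hn, hn'⟩ : ∃ n, algebraMap (A ⧸ M) L (Ideal.Quotient.mk M x) ∈ Ideal.span {τ} ^ n ∧
      algebraMap (A ⧸ M) L (Ideal.Quotient.mk M x) ∉ Ideal.span {τ} ^ (n + 1) := by
    by_contra h
    push Not at h
    apply hx0
    have hall : ∀ n, algebraMap (A ⧸ M) L (Ideal.Quotient.mk M x) ∈ Ideal.span {τ} ^ n := fun n => by
      induction n with
      | zero => simp
      | succ n ih => exact h n ih
    have hτ : Ideal.span {τ} ≠ ⊤ := by
      refine fun h => (IsLocalRing.maximalIdeal.isMaximal L).ne_top (top_le_iff.mp ?_)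
      rw [← h, Ideal.span_singleton_le_iff_mem, ← Localization.AtPrime.map_eq_maximalIdeal]
      exact Ideal.mem_map_of_mem _ (Ideal.mem_map_of_mem _ htq)
    have := Submodule.mem_iInf (fun n => Ideal.span {τ} ^ n) |>.mpr hall
    rwa [Ideal.iInf_pow_eq_bot_of_isLocalRing _ hτ] at this
  rw [Ideal.span_singleton_pow, Ideal.mem_span_singleton] at hn hn'
  obtain ⟨w, hw⟩ := hn
  have hwu : IsUnit w := by
    by_contra hwu
    obtain ⟨w', rfl⟩ := Ideal.mem_span_singleton.mp (hmax hwu)
    exact hn' ⟨w', by rw [hw, pow_succ]; ring⟩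
  obtain ⟨a, ⟨b, hb⟩, rfl⟩ := IsLocalization.exists_mk'_eq qb.primeCompl w
  rw [IsLocalization.AtPrime.isUnit_mk'_iff _ qb] at hwu
  obtain ⟨a, rfl⟩ := Ideal.Quotient.mk_surjective a
  obtain ⟨b, rfl⟩ := Ideal.Quotient.mk_surjective b
  have h1 : algebraMap (A ⧸ M) L (Ideal.Quotient.mk M (b * x)) =
      algebraMap (A ⧸ M) L (Ideal.Quotient.mk M (t ^ n * a)) := by
    have h3 : algebraMap (A ⧸ M) L (Ideal.Quotient.mk M b) *
        IsLocalization.mk' L (Ideal.Quotient.mk M a) (⟨Ideal.Quotient.mk M b, hb⟩ : qb.primeCompl) =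
        algebraMap (A ⧸ M) L (Ideal.Quotient.mk M a) := IsLocalization.mk'_spec' L _ _
    rw [map_mul, map_mul, map_mul, map_mul, map_pow, map_pow, hw, ← h3]
    ring
  obtain ⟨⟨c, hc⟩, hc'⟩ := (IsLocalization.eq_iff_exists qb.primeCompl L).mp h1
  obtain ⟨c, rfl⟩ := Ideal.Quotient.mk_surjective c
  rw [← map_mul, ← map_mul, Ideal.Quotient.eq] at hc'
  have hnq : ∀ {z : A}, Ideal.Quotient.mk M z ∈ qb.primeCompl → z ∉ q := fun hz h =>
    hz (Ideal.mem_map_of_mem _ h)
  refine ⟨A, inferInstance, inferInstance, inferInstance, φ, x, c * b, c * a, n, hφx, ?_, ?_, ?_⟩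
  · rw [map_mul]; exact (hunit c (hnq hc)).mul (hunit b (hnq hb))
  · rw [map_mul]; exact (hunit c (hnq hc)).mul (hunit a (hnq hwu))
  · rw [map_pow, ← ht]
    convert hc' using 1
    ring

/-- Some monic polynomial is a multiple of `f`. -/
theorem exists_monic_mem_span (hB : IsPairHull R[X] (Ideal.span {X}) B) {f : B}
    (hf : f ∉ (IsLocalRing.maximalIdeal R).map ((algebraMap R[X] B).comp C)) :
    ∃ P : R[X], P.Monic ∧ algebraMap R[X] B P ∈ Ideal.span {f} := by
  classical
  obtain ⟨A, _, _, _, φ, x, s, s', n, hx, hs, hs', hmem⟩ := exists_approx hB hf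
  obtain ⟨ψ, hψ⟩ := exists_expansion hB
  by_cases h0 : IsLocalRing.residue R (PowerSeries.constantCoeff (ψ f)) ≠ 0
  · refine ⟨1, monic_one, ?_⟩
    rw [Ideal.span_singleton_eq_top.mpr
      (isUnit_of_constantCoeff hB ψ hψ ((IsLocalRing.residue_ne_zero_iff_isUnit _).mp h0))]
    trivial
  rw [not_not] at h0
  let _ : Algebra R A := ((algebraMap R[X] A).comp C).toAlgebra
  have : IsScalarTower R R[X] A := IsScalarTower.of_algebraMap_eq fun _ => rfl
  have : Algebra.FiniteType R A := Algebra.FiniteType.trans (R := R) (S := R[X]) (A := A) inferInstance inferInstance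
  -- shrink to `s s' ≠ 0` and divide by `x`
  let A' := Localization.Away (s * s')
  let φ' : A' →+* B := IsLocalization.Away.lift (s * s') (g := φ.toRingHom)
    (show IsUnit (φ (s * s')) by rw [map_mul]; exact hs.mul hs')
  have hφ' : ∀ a, φ' (algebraMap A A' a) = φ a := fun a => IsLocalization.Away.lift_eq _ _ a
  let Cx := A' ⧸ Ideal.span {algebraMap A A' x}
  let θ : A →+* Cx := (Ideal.Quotient.mk _).comp (algebraMap A A')
  let γ : Cx →+* B ⧸ Ideal.span {f} := Ideal.Quotient.lift _ ((Ideal.Quotient.mk _).comp φ') (by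
    intro a ha
    obtain ⟨c, rfl⟩ := Ideal.mem_span_singleton.mp ha
    rw [RingHom.comp_apply, map_mul, hφ', hx, Ideal.Quotient.eq_zero_iff_mem]
    exact Ideal.mul_mem_right _ _ (Ideal.mem_span_singleton_self f))
  have hγ : ∀ a, γ (θ a) = Ideal.Quotient.mk _ (φ a) := fun a => by
    show Ideal.Quotient.mk _ (φ' (algebraMap A A' a)) = _
    rw [hφ']
  have : Algebra.FiniteType R Cx := by
    have : Algebra.FiniteType A A' := IsLocalization.finiteType_of_monoid_fg (Submonoid.powers (s * s')) _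
    have : Algebra.FiniteType R A' := Algebra.FiniteType.trans (R := R) (S := A) (A := A') inferInstance inferInstance
    exact Algebra.FiniteType.of_surjective (Ideal.Quotient.mkₐ R _) Ideal.Quotient.mk_surjective
  set t : Cx := θ (algebraMap R[X] A X) with ht
  -- the closed fibre is finite
  set MC := (IsLocalRing.maximalIdeal R).map (algebraMap R Cx) with hMC
  have hθC : θ.comp ((algebraMap R[X] A).comp C) = algebraMap R Cx := rfl
  have hss : IsUnit (θ (s * s')) :=
    (IsLocalization.Away.algebraMap_isUnit (s * s')).map (Ideal.Quotient.mk _)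
  have hXn : Ideal.Quotient.mk MC (θ (algebraMap R[X] A (X ^ n))) = 0 := by
    rw [map_mul, IsUnit.mul_iff] at hss
    rw [Ideal.Quotient.eq_zero_iff_mem, ← Ideal.mul_unit_mem_iff_mem _ hss.2, ← map_mul]
    have h1 := Ideal.mem_map_of_mem θ hmem
    rw [Ideal.map_map, hθC, map_sub, map_mul,
      show θ x = 0 from Ideal.Quotient.eq_zero_iff_mem.mpr (Ideal.mem_span_singleton_self _),
      mul_zero, zero_sub, neg_mem_iff] at h1
    exact h1
  let I : Ideal R[X] := Ideal.span {X ^ n} ⊔ (IsLocalRing.maximalIdeal R).map (C : R →+* R[X])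
  have hI : ∀ g : R[X], g ∈ I → Ideal.Quotient.mk MC (θ (algebraMap R[X] A g)) = 0 := by
    intro g hg
    have hle : I ≤ RingHom.ker ((Ideal.Quotient.mk MC).comp (θ.comp (algebraMap R[X] A))) := by
      refine sup_le (by rw [Ideal.span_singleton_le_iff_mem]; exact hXn) ?_
      rw [Ideal.map_le_iff_le_comap]
      intro r hr
      show Ideal.Quotient.mk MC (θ (algebraMap R[X] A (C r))) = 0
      rw [Ideal.Quotient.eq_zero_iff_mem]
      exact Ideal.mem_map_of_mem (algebraMap R Cx) hr
    exact hle hg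
  have : Module.Finite R (Cx ⧸ MC) := by
    let _ : Algebra (R[X] ⧸ I) (Cx ⧸ MC) := @RingHom.toAlgebra (R[X] ⧸ I) (Cx ⧸ MC) _ _
      (Ideal.Quotient.lift I ((Ideal.Quotient.mk MC).comp (θ.comp (algebraMap R[X] A))) hI)
    have : IsScalarTower R[X] (R[X] ⧸ I) (Cx ⧸ MC) :=
      IsScalarTower.of_algebraMap_eq (R := R[X]) (S := R[X] ⧸ I) (A := Cx ⧸ MC) fun _ => rfl
    have : IsScalarTower R (R[X] ⧸ I) (Cx ⧸ MC) :=
      IsScalarTower.of_algebraMap_eq (R := R) (S := R[X] ⧸ I) (A := Cx ⧸ MC) fun _ => rfl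
    have : Algebra.FormallyUnramified A (Localization.Away (s * s')) :=
      Algebra.FormallyUnramified.of_isLocalization (Submonoid.powers (s * s'))
    have : Algebra.FormallyUnramified R[X] (Localization.Away (s * s')) :=
      Algebra.FormallyUnramified.comp R[X] A _
    have : Algebra.EssFiniteType R[X] (Localization.Away (s * s')) :=
      Algebra.EssFiniteType.comp R[X] A _
    have : Algebra.QuasiFinite R[X] (Cx ⧸ MC) :=
      Algebra.QuasiFinite.of_surjective_algHom
        ((Ideal.Quotient.mkₐ R[X] MC).comp (Ideal.Quotient.mkₐ R[X] (Ideal.span {algebraMap A A' x})))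
        (Ideal.Quotient.mk_surjective.comp Ideal.Quotient.mk_surjective)
    have : Algebra.QuasiFinite (R[X] ⧸ I) (Cx ⧸ MC) := Algebra.QuasiFinite.of_restrictScalars R[X] _ _
    have : Module.Finite R (R[X] ⧸ I) := by
      have : Module.Finite R (R[X] ⧸ Ideal.span {(X : R[X]) ^ n}) := (monic_X_pow n).finite_quotient
      exact Module.Finite.of_surjective (Ideal.Quotient.factorₐ R (le_sup_left :
          Ideal.span {(X : R[X]) ^ n} ≤ I)).toLinearMap
        (Ideal.Quotient.factor_surjective le_sup_left)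
    have : Algebra.QuasiFinite R (Cx ⧸ MC) := Algebra.QuasiFinite.trans R (R[X] ⧸ I) (Cx ⧸ MC)
    exact finite_of_quasiFinite_of_killed (R := R) (F := Cx ⧸ MC) fun r hr => by
      show Ideal.Quotient.mk MC (algebraMap R Cx r) = 0
      exact Ideal.Quotient.eq_zero_iff_mem.mpr (Ideal.mem_map_of_mem _ hr)
  have hzmt : (1 : Cx) ∈ Ideal.span (zmtLocus R Cx : Set Cx) ⊔ MC := by
    by_contra h1
    obtain ⟨N, hN, hNle⟩ := Ideal.exists_le_maximal _ ((Ideal.ne_top_iff_one _).mpr h1)
    have := hN.isPrime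
    have : N.LiesOver (IsLocalRing.maximalIdeal R) := ⟨by
      refine ((IsLocalRing.maximalIdeal.isMaximal R).eq_of_le ?_ ?_)
      · exact (Ideal.IsPrime.comap (algebraMap R Cx) (K := N)).ne_top
      · exact Ideal.map_le_iff_le_comap.mp (le_sup_right.trans hNle)⟩
    have : Algebra.QuasiFiniteAt R N :=
      quasiFiniteAt_of_finite_quotient (IsLocalRing.maximalIdeal R) N
    obtain ⟨r, hrN, hr, H⟩ :=
      Algebra.zariskisMainProperty_iff.mp (Algebra.ZariskisMainProperty.of_finiteType (R := R) N)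
    exact hrN (hNle (Ideal.mem_sup_left (Ideal.subset_span ⟨hr, H⟩)))
  have hHR : HenselianRing R (IsLocalRing.maximalIdeal R) :=
    ⟨(IsLocalRing.jacobson_eq_maximalIdeal ⊥ bot_ne_top).ge, fun f hf a₀ h₁ h₂ =>
      HenselianLocalRing.is_henselian f hf a₀ h₁ (by
        rw [← IsLocalRing.notMem_maximalIdeal]
        intro h
        rw [Ideal.Quotient.eq_zero_iff_mem.mpr h] at h₂
        exact not_isUnit_zero h₂)⟩
  obtain ⟨e, he, he1, hfin⟩ := exists_finite_part (IsLocalRing.maximalIdeal R) (1 : Cx) (by simp)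
    hzmt (by
      obtain ⟨N, g, hg⟩ := Module.Finite.exists_fin (R := R) (M := (Cx ⧸ MC))
      choose g' hg' using fun i => Ideal.Quotient.mk_surjective (g i)
      refine ⟨Finset.univ.image g', fun z => ?_⟩
      have hz : Ideal.Quotient.mk MC z ∈ Submodule.span R ((Ideal.Quotient.mkₐ R MC).toLinearMap ''
          ((Finset.univ.image g' : Finset Cx) : Set Cx)) := by
        have : (Ideal.Quotient.mkₐ R MC).toLinearMap ''
            ((Finset.univ.image g' : Finset Cx) : Set Cx) = Set.range g := by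
          ext w
          simp [hg']
        rw [this, hg]; trivial
      rw [← Submodule.map_span, Submodule.mem_map] at hz
      obtain ⟨w, hw, hwz⟩ := hz
      obtain ⟨c, hc⟩ := Submodule.mem_span_finset.mp hw
      exact ⟨c, by rw [one_mul, hc.2]; exact Ideal.Quotient.eq.mp hwz.symm⟩)
  -- `e` becomes `1` modulo `f`
  have hγe : γ e = 1 := by
    obtain ⟨eB, heB⟩ := Ideal.Quotient.mk_surjective (γ e)
    have hγR : γ.comp (algebraMap R Cx) = (Ideal.Quotient.mk _).comp ((algebraMap R[X] B).comp C) :=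
      RingHom.ext fun r => by
        show γ (θ (algebraMap R[X] A (C r))) = _
        rw [hγ, φ.commutes]
        rfl
    have h1 : eB - 1 ∈ (IsLocalRing.maximalIdeal R).map ((algebraMap R[X] B).comp C) ⊔
        Ideal.span {f} := by
      have h2 := Ideal.mem_map_of_mem γ he1
      rw [Ideal.map_map, hγR, map_sub, map_one, ← heB, ← map_one (Ideal.Quotient.mk (Ideal.span {f})),
        ← map_sub, ← Ideal.map_map] at h2
      rwa [← Ideal.mem_quotient_iff_mem_sup]
    have h3 : eB - 1 ∈ RingHom.ker ((IsLocalRing.residue R).comp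
        (PowerSeries.constantCoeff.comp ψ)) := by
      refine (show (IsLocalRing.maximalIdeal R).map ((algebraMap R[X] B).comp C) ⊔ Ideal.span {f} ≤
        RingHom.ker ((IsLocalRing.residue R).comp (PowerSeries.constantCoeff.comp ψ)) from
          sup_le ?_ ?_) h1
      · rw [Ideal.map_le_iff_le_comap]
        intro r hr
        show IsLocalRing.residue R (PowerSeries.constantCoeff (ψ (algebraMap R[X] B (C r)))) = 0
        rw [hψ, Polynomial.constantCoeff_coe, coeff_C_zero]
        exact (IsLocalRing.residue_eq_zero_iff r).mpr hr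
      · rw [Ideal.span_singleton_le_iff_mem]
        exact h0
    have hu : IsUnit eB := by
      refine isUnit_of_constantCoeff hB ψ hψ ((IsLocalRing.residue_ne_zero_iff_isUnit _).mp ?_)
      rw [RingHom.mem_ker, map_sub, map_one, sub_eq_zero] at h3
      exact h3.symm ▸ one_ne_zero
    exact (IsIdempotentElem.iff_eq_one_of_isUnit (heB ▸ hu.map _)).mp (he.map γ)
  have : Module.Finite R (Cx ⧸ Ideal.span {1 - e}) := hfin
  obtain ⟨P, hP, hP0⟩ := IsIntegral.of_finite R (Ideal.Quotient.mk (Ideal.span {1 - e}) t)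
  refine ⟨P, hP, ?_⟩
  let δ : Cx ⧸ Ideal.span {1 - e} →+* B ⧸ Ideal.span {f} := Ideal.Quotient.lift _ γ (by
    intro a ha
    obtain ⟨c, rfl⟩ := Ideal.mem_span_singleton.mp ha
    rw [map_mul, map_sub, map_one, hγe, sub_self, zero_mul])
  have h4 := congrArg δ hP0
  rw [map_zero, Polynomial.hom_eval₂] at h4
  rw [← Ideal.Quotient.eq_zero_iff_mem, ← h4]
  show (Ideal.Quotient.mk _).comp (algebraMap R[X] B) P = _
  rw [← Polynomial.coe_eval₂RingHom]
  refine RingHom.congr_fun (Polynomial.ringHom_ext (fun r => ?_) ?_) P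
  · rw [coe_eval₂RingHom, eval₂_C]
    show _ = δ (Ideal.Quotient.mk _ (θ (algebraMap R[X] A (C r))))
    rw [Ideal.Quotient.lift_mk, hγ, φ.commutes]
    rfl
  · rw [coe_eval₂RingHom, eval₂_X]
    show _ = δ (Ideal.Quotient.mk _ (θ (algebraMap R[X] A X)))
    rw [Ideal.Quotient.lift_mk, hγ, φ.commutes]
    rfl

/-- Weierstrass preparation. -/
theorem exists_preparation (hB : IsPairHull R[X] (Ideal.span {X}) B) {f : B}
    (hf : f ∉ (IsLocalRing.maximalIdeal R).map ((algebraMap R[X] B).comp C)) :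
    ∃ (P : R[X]) (u : Bˣ), IsDistinguished P ∧ f = algebraMap R[X] B P * (u : B) := by
  classical
  obtain ⟨ψ, hψ⟩ := exists_expansion hB
  obtain ⟨A, _, _, _, φ, x, s, s', n, hx, hs, hs', hmem⟩ := exists_approx hB hf
  set MB := (IsLocalRing.maximalIdeal R).map ((algebraMap R[X] B).comp C) with hMB
  set t := algebraMap R[X] B X with ht
  have hmemB : φ s * f - t ^ n * φ s' ∈ MB := by
    have := Ideal.mem_map_of_mem φ.toRingHom hmem
    rw [Ideal.map_map, ← RingHom.comp_assoc, show φ.toRingHom.comp (algebraMap R[X] A) =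
      algebraMap R[X] B from φ.comp_algebraMap] at this
    simpa [hx, ht] using this
  -- a distinguished multiple of `f`
  obtain ⟨P₀, hP₀, hP₀f⟩ := exists_monic_mem_span hB hf
  have hHR : HenselianRing R (IsLocalRing.maximalIdeal R) :=
    ⟨(IsLocalRing.jacobson_eq_maximalIdeal ⊥ bot_ne_top).ge, fun f hf a₀ h₁ h₂ =>
      HenselianLocalRing.is_henselian f hf a₀ h₁ (by
        rw [← IsLocalRing.notMem_maximalIdeal]
        intro h
        rw [Ideal.Quotient.eq_zero_iff_mem.mpr h] at h₂
        exact not_isUnit_zero h₂)⟩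
  let _ : Field (R ⧸ IsLocalRing.maximalIdeal R) := Ideal.Quotient.field _
  set g := P₀.map (Ideal.Quotient.mk (IsLocalRing.maximalIdeal R)) with hg
  have hgm : g.Monic := hP₀.map _
  obtain ⟨H, hH, hH0⟩ := Polynomial.exists_eq_pow_rootMultiplicity_mul_and_not_dvd g hgm.ne_zero 0
  rw [map_zero, sub_zero] at hH hH0
  set l := g.rootMultiplicity 0
  have hHm : H.Monic := Monic.of_mul_monic_left (monic_X_pow l) (hH ▸ hgm)
  obtain ⟨P₁, U, hP₁m, hUm, -, hfac, hP₁, hU⟩ := exists_factor (IsLocalRing.maximalIdeal R) P₀ hP₀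
    (X ^ l) H (monic_X_pow l) hHm
    ((IsCoprime.pow_left ((Polynomial.irreducible_X.coprime_iff_not_dvd).mpr hH0))) hH
  have hdeg : P₁.natDegree = l := by
    rw [← hP₁m.natDegree_map (Ideal.Quotient.mk (IsLocalRing.maximalIdeal R)), hP₁, natDegree_X_pow]
  have hP₁d : IsDistinguished P₁ := by
    refine ⟨hP₁m, fun i hi => ?_⟩
    rw [← Ideal.Quotient.eq_zero_iff_mem, ← coeff_map, hP₁, coeff_X_pow, if_neg (by lia)]
  have hUu : IsUnit (algebraMap R[X] B U) := by
    refine isUnit_of_constantCoeff hB ψ hψ ?_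
    rw [hψ, Polynomial.constantCoeff_coe, ← IsLocalRing.residue_ne_zero_iff_isUnit]
    show Ideal.Quotient.mk _ (U.coeff 0) ≠ 0
    rw [← coeff_map, hU]
    exact fun h => hH0 (X_dvd_iff.mpr h)
  have hP₁f : algebraMap R[X] B P₁ ∈ Ideal.span {f} := by
    rw [hfac, map_mul] at hP₀f
    exact (Ideal.mul_unit_mem_iff_mem _ hUu).mp hP₀f
  -- Nakayama in `B ⧸ (f)`
  let _ : Algebra R B := ((algebraMap R[X] B).comp C).toAlgebra
  have : IsScalarTower R R[X] B := IsScalarTower.of_algebraMap_eq fun _ => rfl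
  set If := Ideal.span {f}
  set γ : R[X] →ₐ[R] B ⧸ If := (Ideal.Quotient.mkₐ R If).comp (IsScalarTower.toAlgHom R R[X] B)
  have hsurj : ∀ z : B ⧸ If, ∃ q : R[X], q.degree < P₁.degree ∧ γ q = z := by
    intro z
    obtain ⟨b, rfl⟩ := Ideal.Quotient.mk_surjective z
    obtain ⟨q, hq⟩ := exists_poly_sub_mem hB hP₁d b
    refine ⟨q %ₘ P₁, degree_modByMonic_lt _ hP₁m, Ideal.Quotient.eq.mpr ?_⟩
    show algebraMap R[X] B (q %ₘ P₁) - b ∈ If
    have h1 : algebraMap R[X] B (q %ₘ P₁) - b =
        (algebraMap R[X] B q - b) - algebraMap R[X] B P₁ * algebraMap R[X] B (q /ₘ P₁) := by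
      have h2 := congrArg (algebraMap R[X] B) (modByMonic_add_div q P₁)
      rw [map_add, map_mul] at h2
      linear_combination h2
    rw [h1]
    exact sub_mem ((Ideal.span_singleton_le_iff_mem _).mpr hP₁f hq) (Ideal.mul_mem_right _ _ hP₁f)
  have hfin : Module.Finite R (B ⧸ If) := by
    have : Module.Finite R (R[X] ⧸ Ideal.span {P₁}) := hP₁m.finite_quotient
    refine Module.Finite.of_surjective (Ideal.Quotient.liftₐ (Ideal.span {P₁}) γ ?_).toLinearMap ?_
    · intro a ha
      obtain ⟨c, rfl⟩ := Ideal.mem_span_singleton.mp ha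
      rw [map_mul, show γ P₁ = 0 from Ideal.Quotient.eq_zero_iff_mem.mpr hP₁f, zero_mul]
    · intro z
      obtain ⟨q, -, hq⟩ := hsurj z
      exact ⟨Ideal.Quotient.mk _ q, hq⟩
  have htn : t ^ n ∈ If ⊔ MB := by
    rw [← Ideal.mul_unit_mem_iff_mem _ hs']
    rw [show t ^ n * φ s' = φ s * f + -(φ s * f - t ^ n * φ s') by ring]
    exact Submodule.add_mem_sup (Ideal.mul_mem_left _ _ (Ideal.mem_span_singleton_self f))
      (neg_mem hmemB)
  set N : Submodule R (B ⧸ If) := Submodule.span R (Set.range fun i : Fin n => γ (X ^ (i : ℕ)))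
  have hN : N = ⊤ := by
    refine top_le_iff.mp (Submodule.le_of_le_smul_of_le_jacobson_bot hfin.fg_top
      (IsLocalRing.maximalIdeal_le_jacobson ⊥) ?_)
    intro z _
    obtain ⟨q, -, rfl⟩ := hsurj z
    rw [q.as_sum_range_C_mul_X_pow, map_sum]
    refine Submodule.sum_mem _ fun i _ => ?_
    rw [map_mul]
    show algebraMap R (B ⧸ If) (q.coeff i) * γ (X ^ i) ∈ _
    rw [← Algebra.smul_def]
    refine Submodule.smul_mem _ _ ?_
    rcases lt_or_ge i n with hi | hi
    · exact Submodule.mem_sup_left (Submodule.subset_span ⟨⟨i, hi⟩, rfl⟩)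
    · refine Submodule.mem_sup_right ?_
      rw [Ideal.smul_top_eq_map, Submodule.restrictScalars_mem,
        IsScalarTower.algebraMap_eq R B (B ⧸ If), ← Ideal.map_map]
      have h1 : t ^ i ∈ If ⊔ MB := by
        rw [← Nat.add_sub_cancel' hi, pow_add]
        exact Ideal.mul_mem_right _ _ htn
      obtain ⟨a, ha, b, hb, hab⟩ := Submodule.mem_sup.mp h1
      show Ideal.Quotient.mk If (algebraMap R[X] B (X ^ i)) ∈ _
      rw [map_pow (algebraMap R[X] B), ← ht, ← hab, map_add, Ideal.Quotient.eq_zero_iff_mem.mpr ha,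
        zero_add]
      exact Ideal.mem_map_of_mem _ hb
  obtain ⟨c, hc⟩ := (Submodule.mem_span_range_iff_exists_fun R).mp
    (hN ▸ Submodule.mem_top : γ (X ^ n) ∈ N)
  set P : R[X] := X ^ n - ∑ i : Fin n, C (c i) * X ^ (i : ℕ) with hPdef
  have hlt : (∑ i : Fin n, C (c i) * X ^ (i : ℕ)).degree < (n : WithBot ℕ) := degree_sum_fin_lt c
  have hPm : P.Monic := monic_X_pow_sub hlt
  have hPnat : P.natDegree = n := natDegree_eq_of_degree_eq_some (by
    rw [hPdef, degree_sub_eq_left_of_degree_lt (by rwa [degree_X_pow]), degree_X_pow])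
  have hPf : algebraMap R[X] B P ∈ If := by
    rw [← Ideal.Quotient.eq_zero_iff_mem]
    show γ P = 0
    rw [hPdef, map_sub, map_sum, sub_eq_zero, ← hc]
    refine Finset.sum_congr rfl fun i _ => ?_
    rw [map_mul, Algebra.smul_def]
    rfl
  obtain ⟨v, hv⟩ := Ideal.mem_span_singleton.mp hPf
  -- reduce to power series over the residue field
  let ρ : B →+* PowerSeries (IsLocalRing.ResidueField R) :=
    (PowerSeries.map (IsLocalRing.residue R)).comp ψ
  have hρM : ∀ b ∈ MB, ρ b = 0 := by
    intro b hb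
    have hle : MB ≤ RingHom.ker ρ := by
      rw [hMB, Ideal.map_le_iff_le_comap]
      intro r hr
      show PowerSeries.map (IsLocalRing.residue R) (ψ (algebraMap R[X] B (C r))) = 0
      rw [hψ, Polynomial.coe_C, PowerSeries.map_C, (IsLocalRing.residue_eq_zero_iff r).mpr hr, map_zero]
    exact hle hb
  have hρt : ρ t = PowerSeries.X := by
    show PowerSeries.map (IsLocalRing.residue R) (ψ (algebraMap R[X] B X)) = _
    rw [hψ, Polynomial.coe_X, PowerSeries.map_X]
  obtain ⟨us, hus⟩ : ∃ us, ρ f = PowerSeries.X ^ n * us ∧ IsUnit us := by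
    have h1 := hρM _ hmemB
    rw [map_sub, map_mul, map_mul, map_pow, hρt, sub_eq_zero] at h1
    refine ⟨ρ (φ s') * ↑(hs.map ρ).unit⁻¹, (hs.map ρ).mul_left_cancel ?_,
      (hs'.map ρ).mul (Units.isUnit _)⟩
    rw [h1, mul_left_comm (ρ (φ s)), mul_comm (ρ (φ s)) (ρ (φ s') * _), mul_assoc,
      IsUnit.val_inv_mul, mul_one]
  have hρP : ρ (algebraMap R[X] B P) = ((P.map (IsLocalRing.residue R) : (IsLocalRing.ResidueField R)[X]) : PowerSeries (IsLocalRing.ResidueField R)) := by
    show PowerSeries.map (IsLocalRing.residue R) (ψ _) = _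
    rw [hψ, ← Polynomial.polynomial_map_coe]
  have hPd : IsDistinguished P := by
    refine ⟨hPm, fun i hi => ?_⟩
    rw [← IsLocalRing.residue_eq_zero_iff, ← coeff_map, ← Polynomial.coeff_coe, ← hρP, hv, map_mul,
      hus.1, mul_assoc]
    exact PowerSeries.X_pow_dvd_iff.mp (dvd_mul_right _ _) i (hPnat ▸ hi)
  have hvu : IsUnit v := by
    refine isUnit_of_constantCoeff hB ψ hψ ?_
    rw [← IsLocalRing.residue_ne_zero_iff_isUnit]
    have h1 : PowerSeries.X ^ n * (us * ρ v) = PowerSeries.X ^ n * 1 := by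
      rw [mul_one, ← mul_assoc, ← hus.1, ← map_mul, ← hv, hρP, hPd.map_residue, hPnat]
      simp
    have h2 := PowerSeries.X_pow_mul_cancel h1
    have h3 := congrArg PowerSeries.constantCoeff h2
    rw [map_mul, map_one] at h3
    intro h4
    have h5 : PowerSeries.constantCoeff (ρ v) = 0 := by
      show PowerSeries.constantCoeff (PowerSeries.map (IsLocalRing.residue R) (ψ v)) = 0
      rw [← PowerSeries.coeff_zero_eq_constantCoeff_apply, PowerSeries.coeff_map]
      simpa using h4
    rw [h5, mul_zero] at h3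
    exact zero_ne_one h3
  refine ⟨P, hvu.unit⁻¹, hPd, ?_⟩
  rw [hv, mul_assoc, IsUnit.mul_val_inv, mul_one]

theorem preparation_unique (hB : IsPairHull R[X] (Ideal.span {X}) B) {P P' : R[X]} {u u' : Bˣ}
    (hP : IsDistinguished P) (hP' : IsDistinguished P')
    (h : algebraMap R[X] B P * (u : B) = algebraMap R[X] B P' * (u' : B)) : P = P' ∧ u = u' := by
  have h1 : P' ∈ Ideal.span {P} := dvd_of_algebraMap_mem hB hP (by
    rw [← Ideal.mul_unit_mem_iff_mem _ u'.isUnit, ← h]
    exact Ideal.mul_mem_right _ _ (Ideal.mem_span_singleton_self _))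
  have h2 : P ∈ Ideal.span {P'} := dvd_of_algebraMap_mem hB hP' (by
    rw [← Ideal.mul_unit_mem_iff_mem _ u.isUnit, h]
    exact Ideal.mul_mem_right _ _ (Ideal.mem_span_singleton_self _))
  have e : P = P' := eq_of_monic_of_dvd_of_natDegree_le hP.1 hP'.1
    (Ideal.mem_span_singleton.mp h1)
    (by
      obtain ⟨c, hc⟩ := Ideal.mem_span_singleton.mp h2
      by_cases hc0 : c = 0
      · rw [hc0, mul_zero] at hc
        exact absurd hc hP.1.ne_zero
      · rw [hc, hP'.1.natDegree_mul' hc0]; exact Nat.le_add_right _ _)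
    |>.symm
  subst e
  exact ⟨rfl, Units.ext (algebraMap_monic_mul_left_cancel hB hP.1 h)⟩

end Preparation

end Groth.Agent.CommAlg4.WeierstrassHensel
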