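import Mathlib.AlgebraicGeometry.EllipticCurve.IsomOfJ
import Groth.Agent.CAlgMisc2.LocalFinite

/-! Changes of variables of Weierstrass curves with unit discriminant: integrality and rigidity. -/

set_option autoImplicit false
universe u

open IsLocalRing WeierstrassCurve

namespace Groth.Agent.CommAlg4.WeierstrassLift

/-- An elliptic curve over a field has no nonzero infinitesimal automorphism. -/
theorem linear_eq_zero {k P : Type u} [Field k] [CommRing P] [Algebra k P] (W : WeierstrassCurve k)
    [W.IsElliptic] (e r s t : P)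
    (h1 : 2 * s = e * algebraMap k P W.a₁)
    (h2 : 3 * r - s * algebraMap k P W.a₁ = 2 * e * algebraMap k P W.a₂)
    (h3 : r * algebraMap k P W.a₁ + 2 * t = 3 * e * algebraMap k P W.a₃)
    (h4 : -s * algebraMap k P W.a₃ + 2 * r * algebraMap k P W.a₂ - t * algebraMap k P W.a₁ =
      4 * e * algebraMap k P W.a₄)
    (h6 : r * algebraMap k P W.a₄ - t * algebraMap k P W.a₃ = 6 * e * algebraMap k P W.a₆) :
    e = 0 ∧ r = 0 ∧ s = 0 ∧ t = 0 := by
  have cancel : ∀ (c : k) (x : P), c ≠ 0 → algebraMap k P c * x = 0 → x = 0 := fun c x hc h => by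
    have := congrArg (algebraMap k P c⁻¹ * ·) h
    simpa [← mul_assoc, ← map_mul, inv_mul_cancel₀ hc] using this
  have hcast : ∀ n : ℕ, (n : k) = 0 → (n : P) = 0 := fun n h => by
    rw [← map_natCast (algebraMap k P), h, map_zero]
  have hΔ : W.Δ ≠ 0 := W.isUnit_Δ.ne_zero
  by_cases two : (2 : k) = 0
  · have two' : (2 : P) = 0 := hcast 2 two
    by_cases ha : W.a₁ = 0
    · rw [ha, map_zero] at h2 h3 h4
      have hr : r = 0 := by linear_combination h2 + (e * algebraMap k P W.a₂ - r) * two'
      have ha3 : W.a₃ ≠ 0 := fun h3' => hΔ (by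
        simp only [WeierstrassCurve.Δ, WeierstrassCurve.b₂, WeierstrassCurve.b₄, WeierstrassCurve.b₆,
          WeierstrassCurve.b₈, ha, h3']
        linear_combination (-8 * W.a₂ ^ 2 * (-W.a₄ ^ 2 + 4 * W.a₂ * W.a₆) - 32 * W.a₄ ^ 3 - 216 * W.a₆ ^ 2 +
          144 * W.a₂ * W.a₄ * W.a₆) * two + (0 : k) * ha)
      have he : e = 0 := cancel _ _ ha3 (by linear_combination -h3 + (t - e * algebraMap k P W.a₃) * two')
      subst he hr
      have hs : s = 0 := cancel _ _ ha3 (by linear_combination -h4)
      have ht : t = 0 := cancel _ _ ha3 (by linear_combination -h6)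
      exact ⟨rfl, rfl, hs, ht⟩
    · have he : e = 0 := cancel _ _ ha (by linear_combination -h1 + s * two')
      subst he
      have hr' : r = s * algebraMap k P W.a₁ := by linear_combination h2 - r * two'
      have hr : r = 0 := cancel _ _ ha (by linear_combination h3 - t * two')
      subst hr
      have hs : s = 0 := cancel _ _ ha (by linear_combination -hr')
      subst hs
      have ht : t = 0 := cancel _ _ ha (by linear_combination -h4)
      exact ⟨rfl, rfl, rfl, ht⟩
  · have two' : ∀ x : P, 2 * x = 0 → x = 0 := fun x hx => cancel 2 x two (by rw [map_ofNat]; exact hx)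
    suffices H : e = 0 ∧ r = 0 by
      obtain ⟨rfl, rfl⟩ := H
      exact ⟨rfl, rfl, two' s (by linear_combination h1), two' t (by linear_combination h3)⟩
    have E2 : 12 * r = 2 * e * algebraMap k P W.b₂ := by
      simp only [WeierstrassCurve.b₂, map_add, map_mul, map_pow, map_ofNat]
      linear_combination 4 * h2 + 2 * algebraMap k P W.a₁ * h1
    have E4 : r * algebraMap k P W.b₂ = 4 * e * algebraMap k P W.b₄ := by
      simp only [WeierstrassCurve.b₂, WeierstrassCurve.b₄, map_add, map_mul, map_pow, map_ofNat]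
      linear_combination 2 * h4 + algebraMap k P W.a₁ * h3 + algebraMap k P W.a₃ * h1
    have E6 : 2 * r * algebraMap k P W.b₄ = 6 * e * algebraMap k P W.b₆ := by
      simp only [WeierstrassCurve.b₄, WeierstrassCurve.b₆, map_add, map_mul, map_pow, map_ofNat]
      linear_combination 4 * h6 + 2 * algebraMap k P W.a₃ * h3
    by_cases three : (3 : k) = 0
    · have three' : (3 : P) = 0 := hcast 3 three
      by_cases hb : W.b₂ = 0
      · have hb4 : W.b₄ ≠ 0 := fun h4' => hΔ (by
          simp only [WeierstrassCurve.Δ, hb, h4']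
          linear_combination (-9 * W.b₆ ^ 2) * three)
        have he : e = 0 := two' _ (two' _ (cancel _ _ hb4 (by
          rw [hb, map_zero, mul_zero] at E4
          linear_combination -E4)))
        subst he
        exact ⟨rfl, two' _ (cancel _ _ hb4 (by linear_combination E6))⟩
      · have he : e = 0 := two' _ (cancel _ _ hb (by linear_combination -E2 + 4 * r * three'))
        subst he
        exact ⟨rfl, cancel _ _ hb (by linear_combination E4)⟩
    · have three' : ∀ x : P, 3 * x = 0 → x = 0 := fun x hx => cancel 3 x three (by rw [map_ofNat]; exact hx)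
      have hc4 : e * algebraMap k P W.c₄ = 0 := by
        apply two'
        simp only [WeierstrassCurve.c₄, map_sub, map_mul, map_pow, map_ofNat]
        linear_combination -algebraMap k P W.b₂ * E2 + 12 * E4
      have hc6 : e * algebraMap k P W.c₆ = 0 := by
        simp only [WeierstrassCurve.c₄, WeierstrassCurve.c₆, map_sub, map_add, map_mul, map_pow, map_ofNat,
          map_neg] at hc4 ⊢
        linear_combination -algebraMap k P W.b₂ * hc4 + 36 * E6 - 6 * algebraMap k P W.b₄ * E2
      have he : e = 0 := by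
        refine cancel (1728 * W.Δ) _ (mul_ne_zero ?_ hΔ) ?_
        · rw [show (1728 : k) = 2 ^ 6 * 3 ^ 3 by norm_num]
          exact mul_ne_zero (pow_ne_zero _ two) (pow_ne_zero _ three)
        · rw [W.c_relation, map_sub, map_pow, map_pow]
          linear_combination (algebraMap k P W.c₄ ^ 2) * hc4 - algebraMap k P W.c₆ * hc6
      subst he
      exact ⟨rfl, three' _ (two' _ (two' _ (by linear_combination E2)))⟩

/-- A change of variables congruent to `1` fixing an elliptic curve over a field is trivial. -/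
theorem eq_one_of_smul_eq {k Q : Type u} [Field k] [CommRing Q] [IsLocalRing Q] [IsNoetherianRing Q]
    [Algebra k Q] (W : WeierstrassCurve k) [W.IsElliptic] (D : VariableChange Q)
    (hD : D • W.map (algebraMap k Q) = W.map (algebraMap k Q)) (hu : (D.u : Q) - 1 ∈ maximalIdeal Q)
    (hr : D.r ∈ maximalIdeal Q) (hs : D.s ∈ maximalIdeal Q) (ht : D.t ∈ maximalIdeal Q) : D = 1 := by
  set e := (D.u : Q) - 1 with he
  let E : Ideal Q := Ideal.span ({e, D.r, D.s, D.t} : Set Q)
  have hE : E ≤ maximalIdeal Q := Ideal.span_le.2 (by rintro x (rfl | rfl | rfl | rfl) <;> assumption)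
  have hmem : ∀ x ∈ ({e, D.r, D.s, D.t} : Set Q), x ∈ E := fun x hx => Ideal.subset_span hx
  let q : Q →ₐ[k] Q ⧸ maximalIdeal Q • E := Ideal.Quotient.mkₐ k _
  have hq : ∀ x ∈ E, ∀ y ∈ E, q x * q y = 0 := fun x hx y hy => by
    rw [← map_mul]
    exact Ideal.Quotient.eq_zero_iff_mem.2 (Submodule.smul_mem_smul (hE hx) hy)
  have he' : e ∈ E := hmem _ (by simp)
  have hr' : D.r ∈ E := hmem _ (by simp)
  have hs' : D.s ∈ E := hmem _ (by simp)
  have ht' : D.t ∈ E := hmem _ (by simp)
  have hc : ∀ a : k, q (algebraMap k Q a) = algebraMap k _ a := q.commutes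
  have hu1 : q (D.u : Q) = 1 + q e := by rw [he, map_sub, map_one]; ring
  have key : ∀ (n : ℕ) (a b : Q), ((D.u⁻¹ : Qˣ) : Q) ^ n * b = a → q b = (1 + (n : Q ⧸ maximalIdeal Q • E) * q e) * q a := by
    intro n a b h
    have hn : q (D.u : Q) ^ n = 1 + (n : Q ⧸ maximalIdeal Q • E) * q e := by
      rw [hu1]
      clear h
      induction n with
      | zero => simp
      | succ n ih =>
        rw [pow_succ, ih]
        push_cast
        linear_combination (n : Q ⧸ maximalIdeal Q • E) * hq e he' e he'
    rw [← h, ← hn, ← map_pow, ← map_mul, ← mul_assoc, ← mul_pow, Units.mul_inv, one_pow, one_mul]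
  have h1 := key 1 _ _ ((congrArg (· * _) (pow_one _)).trans ((variableChange_a₁ _ D).symm.trans (congrArg WeierstrassCurve.a₁ hD)))
  have h2 := key 2 _ _ ((variableChange_a₂ _ D).symm.trans (congrArg WeierstrassCurve.a₂ hD))
  have h3 := key 3 _ _ ((variableChange_a₃ _ D).symm.trans (congrArg WeierstrassCurve.a₃ hD))
  have h4 := key 4 _ _ ((variableChange_a₄ _ D).symm.trans (congrArg WeierstrassCurve.a₄ hD))
  have h6 := key 6 _ _ ((variableChange_a₆ _ D).symm.trans (congrArg WeierstrassCurve.a₆ hD))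
  simp only [WeierstrassCurve.map_a₁, WeierstrassCurve.map_a₂, WeierstrassCurve.map_a₃, WeierstrassCurve.map_a₄,
    WeierstrassCurve.map_a₆, map_add, map_sub, map_mul, map_pow, map_ofNat, hc, Nat.cast_ofNat, Nat.cast_one,
    one_mul] at h1 h2 h3 h4 h6
  obtain ⟨ze, zr, zs, zt⟩ := linear_eq_zero W (q e) (q D.r) (q D.s) (q D.t) (by linear_combination h1)
    (by linear_combination h2 + hq _ hs' _ hs') (by linear_combination h3)
    (by linear_combination h4 + algebraMap k (Q ⧸ maximalIdeal Q • E) W.a₁ * hq _ hr' _ hs' - 3 * hq _ hr' _ hr' + 2 * hq _ hs' _ ht')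
    (by linear_combination h6 - algebraMap k (Q ⧸ maximalIdeal Q • E) W.a₂ * hq _ hr' _ hr' - q D.r * hq _ hr' _ hr' + hq _ ht' _ ht' + algebraMap k (Q ⧸ maximalIdeal Q • E) W.a₁ * hq _ hr' _ ht')
  have hle : E ≤ maximalIdeal Q • E := by
    refine Ideal.span_le.2 ?_
    rintro x (rfl | rfl | rfl | rfl)
    exacts [Ideal.Quotient.eq_zero_iff_mem.1 ze, Ideal.Quotient.eq_zero_iff_mem.1 zr,
      Ideal.Quotient.eq_zero_iff_mem.1 zs, Ideal.Quotient.eq_zero_iff_mem.1 zt]
  have hbot : E = ⊥ := Submodule.eq_bot_of_le_smul_of_le_jacobson_bot (maximalIdeal Q) E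
    (IsNoetherian.noetherian E) hle (maximalIdeal_le_jacobson _)
  have z : ∀ x ∈ E, x = 0 := fun x hx => by rw [hbot] at hx; exact (Submodule.mem_bot Q).1 hx
  rw [VariableChange.one_def]
  exact VariableChange.ext (Units.ext (sub_eq_zero.1 (z _ he'))) (z _ hr') (z _ hs') (z _ ht')

theorem isIntegral_of_rel {R K : Type u} [CommRing R] [CommRing K] [Algebra R K] (x a b c d : K)
    (ha : IsIntegral R a) (hb : IsIntegral R b) (hc : IsIntegral R c) (hd : IsIntegral R d)
    (h : x ^ 4 + a * x ^ 3 + b * x ^ 2 + c * x + d = 0) : IsIntegral R x := by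
  let T := integralClosure R K
  refine isIntegral_trans (A := T) x ?_
  refine ⟨Polynomial.X ^ 4 + Polynomial.C (⟨a, ha⟩ : T) * Polynomial.X ^ 3 + Polynomial.C (⟨b, hb⟩ : T) * Polynomial.X ^ 2 +
    Polynomial.C (⟨c, hc⟩ : T) * Polynomial.X + Polynomial.C (⟨d, hd⟩ : T), by monicity!, ?_⟩
  simp only [Polynomial.eval₂_add, Polynomial.eval₂_mul, Polynomial.eval₂_X_pow, Polynomial.eval₂_C, Polynomial.eval₂_X]
  exact h

/-- Changes of variables between curves with unit discriminant are integral. -/
theorem isIntegral_variableChange {R K : Type u} [CommRing R] [CommRing K] [Algebra R K]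
    (W₁ W₂ : WeierstrassCurve R) [W₁.IsElliptic] [W₂.IsElliptic] (C : VariableChange K)
    (hC : C • W₁.map (algebraMap R K) = W₂.map (algebraMap R K)) :
    IsIntegral R (C.u : K) ∧ IsIntegral R ((C.u⁻¹ : Kˣ) : K) ∧ IsIntegral R C.r ∧ IsIntegral R C.s ∧ IsIntegral R C.t := by
  have hf : ∀ a : R, IsIntegral R (algebraMap R K a) := fun a => isIntegral_algebraMap
  have hui : ((C.u : K)) * ((C.u⁻¹ : Kˣ) : K) = 1 := C.u.mul_inv
  have hΔ := (variableChange_Δ _ C).symm.trans (congrArg WeierstrassCurve.Δ hC)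
  simp only [WeierstrassCurve.map_Δ] at hΔ
  obtain ⟨i1, hi1⟩ := W₁.isUnit_Δ.exists_right_inv
  obtain ⟨i2, hi2⟩ := W₂.isUnit_Δ.exists_right_inv
  have hi1' := congrArg (algebraMap R K) hi1
  have hi2' := congrArg (algebraMap R K) hi2
  simp only [map_mul, map_one] at hi1' hi2'
  set v := ((C.u⁻¹ : Kˣ) : K) with hv
  have hv12 : v ^ 12 = algebraMap R K (W₂.Δ * i1) := by
    rw [map_mul]; linear_combination algebraMap R K i1 * hΔ - v ^ 12 * hi1'
  have hu12 : (C.u : K) ^ 12 = algebraMap R K (W₁.Δ * i2) := by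
    have h12 : (C.u : K) ^ 12 * v ^ 12 = 1 := by rw [← mul_pow, hui, one_pow]
    rw [map_mul]
    linear_combination (-((C.u : K) ^ 12) * algebraMap R K i2) * hΔ - (C.u : K) ^ 12 * hi2' +
      (algebraMap R K W₁.Δ * algebraMap R K i2) * h12
  have hu : IsIntegral R (C.u : K) := IsIntegral.of_pow (n := 12) (by norm_num) (hu12 ▸ hf _)
  have hv' : IsIntegral R v := IsIntegral.of_pow (n := 12) (by norm_num) (hv12 ▸ hf _)
  have key : ∀ (n : ℕ) (a b : K), v ^ n * b = a → b = (C.u : K) ^ n * a := by
    intro n a b h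
    rw [← h, ← mul_assoc, ← mul_pow, hui, one_pow, one_mul]
  have h2 := key 2 _ _ ((variableChange_a₂ _ C).symm.trans (congrArg WeierstrassCurve.a₂ hC))
  have h6 := key 6 _ _ ((variableChange_a₆ _ C).symm.trans (congrArg WeierstrassCurve.a₆ hC))
  have g6 := key 6 _ _ ((variableChange_b₆ _ C).symm.trans (congrArg WeierstrassCurve.b₆ hC))
  have g8 := key 8 _ _ ((variableChange_b₈ _ C).symm.trans (congrArg WeierstrassCurve.b₈ hC))
  simp only [WeierstrassCurve.map_a₁, WeierstrassCurve.map_a₂, WeierstrassCurve.map_a₃, WeierstrassCurve.map_a₄,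
    WeierstrassCurve.map_a₆, WeierstrassCurve.map_b₂, WeierstrassCurve.map_b₄, WeierstrassCurve.map_b₆,
    WeierstrassCurve.map_b₈] at h2 h6 g6 g8
  have hr : IsIntegral R C.r := isIntegral_of_rel _ 0 (-algebraMap R K W₁.b₄)
    (-(algebraMap R K W₁.b₆ + algebraMap R K W₁.b₆ + (C.u : K) ^ 6 * algebraMap R K W₂.b₆))
    ((C.u : K) ^ 8 * algebraMap R K W₂.b₈ - algebraMap R K W₁.b₈)
    isIntegral_zero (hf _).neg (IsIntegral.neg (((hf _).add (hf _)).add ((hu.pow 6).mul (hf _))))
    (((hu.pow 8).mul (hf _)).sub (hf _)) (by linear_combination C.r * g6 - g8)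
  have hs : IsIntegral R C.s := isIntegral_of_rel _ (algebraMap R K W₁.a₁)
    ((C.u : K) ^ 2 * algebraMap R K W₂.a₂ - algebraMap R K W₁.a₂ - (C.r + C.r + C.r)) 0 0
    (hf _) ((((hu.pow 2).mul (hf _)).sub (hf _)).sub ((hr.add hr).add hr)) isIntegral_zero isIntegral_zero
    (by linear_combination (-(C.s ^ 2)) * h2)
  have ht : IsIntegral R C.t := isIntegral_of_rel _ (algebraMap R K W₁.a₃ + C.r * algebraMap R K W₁.a₁)
    ((C.u : K) ^ 6 * algebraMap R K W₂.a₆ - algebraMap R K W₁.a₆ - C.r * algebraMap R K W₁.a₄ -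
      C.r ^ 2 * algebraMap R K W₁.a₂ - C.r ^ 3) 0 0
    ((hf _).add (hr.mul (hf _)))
    (((((hu.pow 6).mul (hf _)).sub (hf _)).sub (hr.mul (hf _))).sub ((hr.pow 2).mul (hf _)) |>.sub (hr.pow 3))
    isIntegral_zero isIntegral_zero (by linear_combination (-(C.t ^ 2)) * h6)
  exact ⟨hu, hv', hr, hs, ht⟩

theorem main (R : Type u) [CommRing R] [IsDomain R] [IsNoetherianRing R] [IsLocalRing R]
    [IsAdicComplete (maximalIdeal R) R] [IsAlgClosed (ResidueField R)]
    (W₁ W₂ : WeierstrassCurve R) [W₁.IsElliptic] [W₂.IsElliptic] (hj : W₁.j = W₂.j) :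
    ∃ C : VariableChange R, C • W₁ = W₂ := by
  let K := AlgebraicClosure (FractionRing R)
  let f : R →+* K := algebraMap R K
  have hfi : Function.Injective f := by
    rw [show f = (algebraMap (FractionRing R) K).comp (algebraMap R (FractionRing R)) from
      IsScalarTower.algebraMap_eq R (FractionRing R) K]
    exact (algebraMap (FractionRing R) K).injective.comp (IsFractionRing.injective R (FractionRing R))
  obtain ⟨C, hC⟩ := exists_variableChange_of_j_eq (W₁.map f) (W₂.map f) (by rw [map_j, map_j, hj])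
  obtain ⟨hu, hv, hr, hs, ht⟩ := isIntegral_variableChange W₁ W₂ C hC
  let G : Set K := {(C.u : K), ((C.u⁻¹ : Kˣ) : K), C.r, C.s, C.t}
  let S := Algebra.adjoin R G
  haveI : Module.Finite R S := Module.Finite.iff_fg.2 (fg_adjoin_of_finite (Set.toFinite G) (by
    rintro x (rfl | rfl | rfl | rfl | rfl) <;> assumption))
  have hG : ∀ x ∈ G, x ∈ S := fun x hx => Algebra.subset_adjoin hx
  haveI : IsLocalRing S := CAlgMisc2.isLocalRing_of_finite_domain_complete (A := R)
  let uS : Sˣ := ⟨⟨_, hG _ (by simp [G] : (C.u : K) ∈ G)⟩, ⟨_, hG _ (by simp [G] : ((C.u⁻¹ : Kˣ) : K) ∈ G)⟩,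
    Subtype.ext C.u.mul_inv, Subtype.ext C.u.inv_mul⟩
  let C' : VariableChange S := ⟨uS, ⟨C.r, hG _ (by simp [G])⟩, ⟨C.s, hG _ (by simp [G])⟩, ⟨C.t, hG _ (by simp [G])⟩⟩
  let g : R →+* S := algebraMap R S
  have hC' : C' • W₁.map g = W₂.map g := by
    apply WeierstrassCurve.map_injective (f := (S.val : S →+* K)) Subtype.val_injective
    dsimp only
    rw [← WeierstrassCurve.map_variableChange, WeierstrassCurve.map_map, WeierstrassCurve.map_map,
      show C'.map (S.val : S →+* K) = C from VariableChange.ext (Units.ext rfl) rfl rfl rfl]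
    exact hC
  let J : Ideal S := (maximalIdeal R).map g
  have hgint : g.IsIntegral := fun x => Algebra.IsIntegral.isIntegral x
  have hJ : J ≤ maximalIdeal S := by
    have h : (maximalIdeal S).comap g = maximalIdeal R := eq_maximalIdeal
      (Ideal.isMaximal_comap_of_isIntegral_of_isMaximal' g hgint (maximalIdeal S))
    exact Ideal.map_le_iff_le_comap.2 h.ge
  let k := ResidueField R
  let Q := S ⧸ J
  letI : Algebra k Q := (Ideal.Quotient.lift (maximalIdeal R) ((Ideal.Quotient.mk J).comp g)
    (fun a ha => Ideal.Quotient.eq_zero_iff_mem.2 (Ideal.mem_map_of_mem _ ha))).toAlgebra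
  let L := ResidueField S
  let ρ : Q →+* L := Ideal.Quotient.lift J (residue S) fun a ha => (residue_eq_zero_iff a).2 (hJ ha)
  letI : Algebra k L := (ρ.comp (algebraMap k Q)).toAlgebra
  have hkL : Function.Surjective (algebraMap k L) := by
    haveI : IsScalarTower R k L := IsScalarTower.of_algebraMap_eq fun a => rfl
    haveI : Module.Finite R L := Module.Finite.of_surjective (IsScalarTower.toAlgHom R S L).toLinearMap residue_surjective
    haveI : Module.Finite k L := Module.Finite.of_restrictScalars_finite R k L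
    exact IsAlgClosed.algebraMap_bijective_of_isIntegral.2
  have hkLi : Function.Injective (algebraMap k L) := RingHom.injective _
  let π : S →+* Q := Ideal.Quotient.mk J
  choose c hc using fun x : S => hkL (residue S x)
  have hcu : c (uS : S) ≠ 0 := fun h => by
    have := hc (uS : S)
    rw [h, map_zero] at this
    exact (residue_eq_zero_iff _).1 this.symm uS.isUnit
  let C0 : VariableChange k := ⟨Units.mk0 _ hcu, c C'.r, c C'.s, c C'.t⟩
  have hC0L : C0.map (algebraMap k L) = C'.map (residue S) :=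
    VariableChange.ext (Units.ext (hc _)) (hc _) (hc _) (hc _)
  let V₁ := W₁.map (residue R)
  let V₂ := W₂.map (residue R)
  have hC0 : C0 • V₁ = V₂ := by
    apply WeierstrassCurve.map_injective hkLi
    dsimp only
    rw [← WeierstrassCurve.map_variableChange, hC0L, show V₁.map (algebraMap k L) = (W₁.map g).map (residue S) from rfl,
      show V₂.map (algebraMap k L) = (W₂.map g).map (residue S) from rfl, WeierstrassCurve.map_variableChange, hC']
  haveI : Nontrivial Q := Ideal.Quotient.nontrivial_iff.2 fun h => (maximalIdeal.isMaximal S).ne_top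
    (top_le_iff.1 (h ▸ hJ))
  haveI : IsLocalRing Q := .of_surjective' π Ideal.Quotient.mk_surjective
  haveI : IsNoetherianRing S := .of_finite R S
  let D := (C0.map (algebraMap k Q))⁻¹ * C'.map π
  have hDρ : D.map ρ = 1 := by
    have : VariableChange.mapHom ρ D = 1 := by
      rw [map_mul, map_inv, inv_mul_eq_one]
      exact hC0L
    exact this
  have hρker : ∀ x, ρ x = 0 → x ∈ maximalIdeal Q := fun x hx hu => (hu.map ρ).ne_zero hx
  have hD : D • V₁.map (algebraMap k Q) = V₁.map (algebraMap k Q) := by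
    rw [mul_smul, inv_smul_eq_iff, show V₁.map (algebraMap k Q) = (W₁.map g).map π from rfl,
      WeierstrassCurve.map_variableChange, hC', show (W₁.map g).map π = V₁.map (algebraMap k Q) from rfl,
      WeierstrassCurve.map_variableChange, hC0]
    rfl
  have h1 : D = 1 := eq_one_of_smul_eq V₁ D hD
    (hρker _ (by rw [map_sub, map_one, sub_eq_zero]; exact congrArg (fun e : VariableChange L => (e.u : L)) hDρ))
    (hρker _ (congrArg VariableChange.r hDρ)) (hρker _ (congrArg VariableChange.s hDρ))
    (hρker _ (congrArg VariableChange.t hDρ))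
  have heq : C'.map π = C0.map (algebraMap k Q) := (inv_mul_eq_one.1 h1).symm
  have hlift : ∀ a : k, ∃ r : R, algebraMap k Q a = π (g r) := fun a => by
    obtain ⟨r, rfl⟩ := residue_surjective a
    exact ⟨r, rfl⟩
  let N : Submodule R S := LinearMap.range (Algebra.linearMap R S)
  have hsurjQ : ∀ x : S, ∃ r : R, π x = π (g r) := by
    intro x
    obtain ⟨x, hx⟩ := x
    induction hx using Algebra.adjoin_induction with
    | mem y hy =>
      rcases hy with rfl | rfl | rfl | rfl | rfl
      · obtain ⟨r, hr⟩ := hlift C0.u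
        exact ⟨r, (congrArg (fun e : VariableChange Q => (e.u : Q)) heq).trans hr⟩
      · obtain ⟨r, hr⟩ := hlift (C0.u⁻¹ : kˣ)
        exact ⟨r, (congrArg (fun e : VariableChange Q => ((e.u⁻¹ : Qˣ) : Q)) heq).trans hr⟩
      · obtain ⟨r, hr⟩ := hlift C0.r; exact ⟨r, (congrArg VariableChange.r heq).trans hr⟩
      · obtain ⟨r, hr⟩ := hlift C0.s; exact ⟨r, (congrArg VariableChange.s heq).trans hr⟩
      · obtain ⟨r, hr⟩ := hlift C0.t; exact ⟨r, (congrArg VariableChange.t heq).trans hr⟩
    | algebraMap r => exact ⟨r, rfl⟩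
    | add x y _ _ hx hy =>
      obtain ⟨a, ha⟩ := hx
      obtain ⟨b, hb⟩ := hy
      refine ⟨a + b, ?_⟩
      rw [map_add, map_add, ← ha, ← hb, ← map_add]
      rfl
    | mul x y _ _ hx hy =>
      obtain ⟨a, ha⟩ := hx
      obtain ⟨b, hb⟩ := hy
      refine ⟨a * b, ?_⟩
      rw [map_mul, map_mul, ← ha, ← hb, ← map_mul]
      rfl
  have hsurj : Function.Surjective g := by
    have htop : (⊤ : Submodule R S) ≤ N := Submodule.le_of_le_smul_of_le_jacobson_bot (I := maximalIdeal R)
      Module.Finite.fg_top (maximalIdeal_le_jacobson _) (by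
        intro x _
        obtain ⟨r, hr⟩ := hsurjQ x
        rw [Ideal.Quotient.eq] at hr
        rw [Ideal.smul_top_eq_map, show x = g r + (x - g r) by ring]
        exact Submodule.add_mem_sup ⟨r, rfl⟩ hr)
    exact fun x => htop (Submodule.mem_top (x := x))
  have hgi : Function.Injective g := fun a b h => hfi (congrArg Subtype.val h)
  let e := RingEquiv.ofBijective g ⟨hgi, hsurj⟩
  refine ⟨C'.map (e.symm : S →+* R), WeierstrassCurve.map_injective hgi ?_⟩
  dsimp only
  rw [← WeierstrassCurve.map_variableChange, VariableChange.map_map,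
    show g.comp (e.symm : S →+* R) = RingHom.id S from RingHom.ext e.apply_symm_apply, VariableChange.map_id]
  exact hC'

end Groth.Agent.CommAlg4.WeierstrassLift
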