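import Mathlib.RingTheory.MvPolynomial.Homogeneous
import Mathlib.RingTheory.Polynomial.Basic
import Mathlib.RingTheory.Derivation.Lie
import Mathlib.Algebra.MvPolynomial.Derivation
import Mathlib.Algebra.Module.PID
import Mathlib.Algebra.Polynomial.Module.AEval
import Mathlib.RingTheory.AdjoinRoot
import Mathlib.RingTheory.Artinian.Module
import Mathlib.LinearAlgebra.Eigenspace.Triangularizable
import Mathlib.Tactic

/-!
# Weitzenböck's theorem

For a locally finite representation of `sl₂` by linear derivations of a polynomial ring in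
characteristic zero, the invariants have a complement stable under multiplication by invariants,
hence are finitely generated.  The kernel of a nilpotent linear derivation is the image of such an
invariant ring in two more variables (Seshadri's argument), hence finitely generated.
-/

set_option autoImplicit false
set_option maxHeartbeats 800000

universe u v

open MvPolynomial

namespace Groth.Agent.CommAlg4.Weitz

section LinAlg

variable {k : Type u} [Field k] [CharZero k] {V : Type v} [AddCommGroup V] [Module k V]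
  [FiniteDimensional k V]

theorem weight_pow_f {f h : Module.End k V} (hhf : ∀ x, h (f x) = f (h x) - (2 : k) • f x)
    {v : V} {μ : k} (hv : h v = μ • v) (n : ℕ) :
    h ((f ^ n) v) = (μ - 2 * n) • (f ^ n) v := by
  induction n with
  | zero => simpa using hv
  | succ n ih =>
    rw [pow_succ', Module.End.mul_apply, hhf, ih, map_smul, ← sub_smul]
    push_cast
    ring_nf

theorem exists_pow_f_eq_zero {f h : Module.End k V} (hhf : ∀ x, h (f x) = f (h x) - (2 : k) • f x)
    {v : V} {μ : k} (hv : h v = μ • v) : ∃ n : ℕ, (f ^ n) v = 0 := by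
  by_contra! hne
  have hinj : Function.Injective (fun n : ℕ => μ - 2 * (n : k)) := fun a b hab => by
    simpa using hab
  have := (Module.End.eigenvectors_linearIndependent' h _ hinj (fun n => (f ^ n) v)
    (fun n => ⟨Module.End.mem_eigenspace_iff.2 (weight_pow_f hhf hv n), hne n⟩)).finite
  exact not_finite ℕ

theorem e_pow_f {e f h : Module.End k V} (hef : ∀ x, e (f x) = f (e x) + h x)
    (hhf : ∀ x, h (f x) = f (h x) - (2 : k) • f x)
    {v : V} {μ : k} (hv : h v = μ • v) (he : e v = 0) (n : ℕ) :
    e ((f ^ (n + 1)) v) = (((n : k) + 1) * (μ - n)) • (f ^ n) v := by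
  induction n with
  | zero => simp [hef, he, hv]
  | succ n ih =>
    have h1 := weight_pow_f hhf hv (n + 1)
    rw [pow_succ', Module.End.mul_apply, hef, ih, map_smul, h1, ← Module.End.mul_apply, ← pow_succ',
      ← add_smul]
    push_cast
    ring_nf

theorem weight_primitive {e f h : Module.End k V} (hef : ∀ x, e (f x) = f (e x) + h x)
    (hhf : ∀ x, h (f x) = f (h x) - (2 : k) • f x)
    {v : V} {μ : k} (hv : h v = μ • v) (he : e v = 0) (h0 : v ≠ 0) :
    ∃ m : ℕ, μ = m := by
  obtain ⟨n, hn1, hn2⟩ := Nat.exists_not_and_succ_of_not_zero_of_exists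
    (p := fun n => (f ^ n) v = 0) (by simpa using h0) (exists_pow_f_eq_zero hhf hv)
  refine ⟨n, ?_⟩
  have := e_pow_f hef hhf hv he n
  rw [hn2, map_zero, eq_comm, smul_eq_zero, mul_eq_zero, sub_eq_zero] at this
  rcases this with (h | h) | h
  · exact absurd h (Nat.cast_add_one_ne_zero n)
  · exact h
  · exact absurd h hn1

theorem pow_f_primitive_eq_zero {e f h : Module.End k V} (hef : ∀ x, e (f x) = f (e x) + h x)
    (hhf : ∀ x, h (f x) = f (h x) - (2 : k) • f x)
    {v : V} {m : ℕ} (hv : h v = (m : k) • v) (he : e v = 0) : (f ^ (m + 1)) v = 0 := by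
  by_contra h0
  obtain ⟨n, hn⟩ := weight_primitive hef hhf (weight_pow_f hhf hv (m + 1))
    (by rw [e_pow_f hef hhf hv he m]; simp) h0
  have h2 : (((m + n + 2 : ℕ)) : k) = 0 := by push_cast at hn ⊢; linear_combination -hn
  rw [Nat.cast_eq_zero] at h2
  omega

/-- The Casimir operator. -/
def cas (e f h : Module.End k V) : Module.End k V := h * h + (2 : k) • h + (4 : k) • (f * e)

theorem cas_weight_top (N : ℕ) {e f h : Module.End k V} (hef : ∀ x, e (f x) = f (e x) + h x)
    (hhe : ∀ x, h (e x) = e (h x) + (2 : k) • e x)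
    (hhf : ∀ x, h (f x) = f (h x) - (2 : k) • f x)
    (hcomm : Commute e (cas e f h))
    {v : V} {μ : k} (hv : h v = μ • v) (h0 : v ≠ 0) (hC : (cas e f h ^ N) v = 0) :
    ∃ j : ℕ, μ = -(2 * (j : k)) := by
  have hv' : (-h) v = (-μ) • v := by simp [hv]
  have hhe' : ∀ x, (-h) (e x) = e ((-h) x) - (2 : k) • e x := fun x => by
    simp [hhe x]; abel
  obtain ⟨j, hj1, hj2⟩ := Nat.exists_not_and_succ_of_not_zero_of_exists
    (p := fun n => (e ^ n) v = 0) (by simpa using h0) (exists_pow_f_eq_zero hhe' hv')
  refine ⟨j, ?_⟩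
  set w := (e ^ j) v with hw
  have hwh : h w = (μ + 2 * j) • w := by
    have := weight_pow_f hhe' hv' j
    rw [LinearMap.neg_apply, ← hw, neg_eq_iff_eq_neg, ← neg_smul] at this
    rw [this]; ring_nf
  have hwe : e w = 0 := by rw [hw, ← Module.End.mul_apply, ← pow_succ', hj2]
  obtain ⟨m, hm⟩ := weight_primitive hef hhf hwh hwe hj1
  rw [hm] at hwh
  have hCw : cas e f h w = ((m * m + 2 * m : ℕ) : k) • w := by
    simp only [cas, LinearMap.add_apply, LinearMap.smul_apply, Module.End.mul_apply, hwe, map_zero,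
      smul_zero, add_zero, hwh, map_smul, smul_smul, ← add_smul]
    push_cast
    ring_nf
  have hCN : ((((m * m + 2 * m : ℕ)) : k) ^ N) • w = 0 := by
    have h1 : (cas e f h ^ N) w = 0 := by
      rw [hw, ← Module.End.mul_apply, ← ((hcomm.pow_left j).pow_right N).eq, Module.End.mul_apply,
        hC, map_zero]
    have h2 : ∀ n : ℕ, (cas e f h ^ n) w = ((((m * m + 2 * m : ℕ)) : k) ^ n) • w := by
      intro n
      induction n with
      | zero => simp
      | succ n ih => rw [pow_succ', Module.End.mul_apply, ih, map_smul, hCw, smul_smul, ← pow_succ]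
    rw [← h2, h1]
  rw [smul_eq_zero] at hCN
  have h3 := eq_zero_of_pow_eq_zero (hCN.resolve_right hj1)
  rw [Nat.cast_eq_zero] at h3
  have hm0 : m = 0 := by omega
  rw [hm0, Nat.cast_zero] at hm
  linear_combination hm

/-- Invariants are complementary to the sum of the images. -/
theorem isCompl_invariants (e f h : Module.End k V) (hef : ∀ x, e (f x) = f (e x) + h x)
    (hhe : ∀ x, h (e x) = e (h x) + (2 : k) • e x)
    (hhf : ∀ x, h (f x) = f (h x) - (2 : k) • f x)
    (hd : ⨆ μ : k, h.eigenspace μ = ⊤) :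
    IsCompl (LinearMap.ker e ⊓ LinearMap.ker f)
      (LinearMap.range e ⊔ LinearMap.range f ⊔ LinearMap.range h) := by
  set C := cas e f h with hC
  have heh : ∀ x, e (h x) = h (e x) - (2 : k) • e x := fun x => by rw [hhe]; abel
  have hce : Commute e C := by
    refine LinearMap.ext fun x => ?_
    simp only [hC, cas, Module.End.mul_apply, LinearMap.add_apply, LinearMap.smul_apply, map_add,
      map_smul, map_sub, heh, hef, smul_add, smul_sub]
    module
  have hfh : ∀ x, f (h x) = h (f x) + (2 : k) • f x := fun x => by rw [hhf]; abel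
  have hcf : Commute f C := by
    refine LinearMap.ext fun x => ?_
    simp only [hC, cas, Module.End.mul_apply, LinearMap.add_apply, LinearMap.smul_apply, map_add,
      map_smul, map_sub, hhf, hef, smul_add, smul_sub]
    module
  have hch : Commute h C := by
    refine LinearMap.ext fun x => ?_
    simp only [hC, cas, Module.End.mul_apply, LinearMap.add_apply, LinearMap.smul_apply, map_add,
      map_smul, map_sub, hhf, hhe, smul_add, smul_sub]
    module
  obtain ⟨N, hN, hN1⟩ :=
    (C.eventually_isCompl_ker_pow_range_pow.and (Filter.eventually_ge_atTop 1)).exists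
  set W := LinearMap.ker (C ^ N) with hW
  have hinv : ∀ {a : Module.End k V}, Commute a C → ∀ x ∈ W, a x ∈ W := by
    intro a ha x hx
    rw [hW, LinearMap.mem_ker] at hx ⊢
    rw [← Module.End.mul_apply, ← (ha.pow_right N).eq, Module.End.mul_apply, hx, map_zero]
  have hC' : cas f e (-h) = C := by
    refine LinearMap.ext fun x => ?_
    simp only [hC, cas, Module.End.mul_apply, LinearMap.add_apply, LinearMap.smul_apply,
      LinearMap.neg_apply, map_neg, hef, smul_add]
    module
  have hzero : ∀ μ : k, μ ≠ 0 → W ⊓ h.eigenspace μ = ⊥ := by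
    intro μ hμ
    rw [eq_bot_iff]
    rintro v ⟨hvW, hv⟩
    rw [SetLike.mem_coe, Module.End.mem_eigenspace_iff] at hv
    by_contra h0
    rw [Submodule.mem_bot] at h0
    obtain ⟨j, hj⟩ := cas_weight_top N hef hhe hhf hce hv h0 hvW
    obtain ⟨i, hi⟩ := cas_weight_top N (e := f) (f := e) (h := -h) (fun x => by
        simp [hef x]) (fun x => by simp [hhf x]; abel) (fun x => by simp [hhe x]; abel)
      (by rw [hC']; exact hcf) (show (-h) v = (-μ) • v by simp [hv]) h0 (by rw [hC']; exact hvW)
    have h2 : ((2 * (i + j) : ℕ) : k) = 0 := by push_cast; linear_combination hi + hj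
    rw [Nat.cast_eq_zero] at h2
    exact hμ (by rw [hj, show j = 0 by omega]; simp)
  have hh0 : ∀ w ∈ W, h w = 0 := by
    have key : W ≤ h.eigenspace 0 := by
      have := Submodule.inf_iSup_genEigenspace (p := W) (f := h) (hinv hch) 1
      rw [hd, inf_top_eq] at this
      refine this.le.trans (iSup_le fun μ => ?_)
      by_cases hμ : μ = 0
      · subst hμ; exact inf_le_right
      · exact (hzero μ hμ).le.trans bot_le
    intro w hw
    simpa using Module.End.mem_eigenspace_iff.1 (key hw)
  have he0 : ∀ w ∈ W, e w = 0 := fun w hw => by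
    have := hhe w
    rw [hh0 _ (hinv hce w hw), hh0 w hw, map_zero, zero_add, eq_comm, smul_eq_zero] at this
    exact this.resolve_left two_ne_zero
  have hf0 : ∀ w ∈ W, f w = 0 := fun w hw => by
    have := hhf w
    rw [hh0 _ (hinv hcf w hw), hh0 w hw, map_zero, zero_sub, eq_comm, neg_eq_zero, smul_eq_zero]
      at this
    exact this.resolve_left two_ne_zero
  have hker : LinearMap.ker e ⊓ LinearMap.ker f = W := by
    refine le_antisymm ?_ fun w hw => ⟨he0 w hw, hf0 w hw⟩
    rintro x ⟨hxe : e x = 0, hxf : f x = 0⟩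
    have hxh : h x = 0 := by simpa [hxe, hxf] using (hef x).symm
    rw [hW, LinearMap.mem_ker, ← Nat.sub_add_cancel hN1, pow_succ, Module.End.mul_apply,
      show C x = 0 by simp [hC, cas, hxe, hxh], map_zero]
  have hran : LinearMap.range e ⊔ LinearMap.range f ⊔ LinearMap.range h =
      LinearMap.range (C ^ N) := by
    have hle : ∀ a : Module.End k V, Commute a C → (∀ w ∈ W, a w = 0) →
        LinearMap.range a ≤ LinearMap.range (C ^ N) := by
      rintro a ha ha0 _ ⟨x, rfl⟩
      obtain ⟨w, hw, r, ⟨y, hy⟩, rfl⟩ :=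
        Submodule.mem_sup.1 (show x ∈ W ⊔ LinearMap.range (C ^ N) from
          hN.sup_eq_top ▸ Submodule.mem_top)
      refine ⟨a y, ?_⟩
      rw [map_add, ha0 w hw, zero_add, ← hy, ← Module.End.mul_apply, ← Module.End.mul_apply,
        (ha.pow_right N).eq]
    refine le_antisymm (sup_le (sup_le (hle e hce he0) (hle f hcf hf0)) (hle h hch hh0)) ?_
    rintro _ ⟨x, rfl⟩
    rw [← Nat.sub_add_cancel hN1, pow_succ', Module.End.mul_apply]
    generalize (C ^ (N - 1)) x = y
    simp only [hC, cas, LinearMap.add_apply, LinearMap.smul_apply, Module.End.mul_apply]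
    exact add_mem (add_mem (Submodule.mem_sup_right (LinearMap.mem_range_self h _))
      (Submodule.smul_mem _ _ (Submodule.mem_sup_right (LinearMap.mem_range_self h _))))
      (Submodule.smul_mem _ _ (Submodule.mem_sup_left
        (Submodule.mem_sup_right (LinearMap.mem_range_self f _))))
  rw [hker, hran]
  exact hN

end LinAlg

section Deriv

variable {k : Type u} [Field k] {σ : Type v}

theorem mem_homogeneous_of_linear {D : Derivation k (MvPolynomial σ k) (MvPolynomial σ k)}
    (hD : ∀ i, D (X i) ∈ homogeneousSubmodule σ k 1) {d : ℕ} {p : MvPolynomial σ k}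
    (hp : p ∈ homogeneousSubmodule σ k d) : D p ∈ homogeneousSubmodule σ k d := by
  have h1 : ∀ m ∈ homogeneousSubmodule σ k 1, D m ∈ homogeneousSubmodule σ k 1 := by
    intro m hm
    rw [homogeneousSubmodule_one_eq_span_X] at hm
    induction hm using Submodule.span_induction with
    | mem x hx => obtain ⟨i, rfl⟩ := hx; exact hD i
    | zero => simp
    | add x y _ _ hx hy => rw [map_add]; exact add_mem hx hy
    | smul c x _ hx => rw [Derivation.map_smul]; exact Submodule.smul_mem _ c hx
  rw [← homogeneousSubmodule_one_pow] at hp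
  induction hp using Submodule.pow_induction_on_left' with
  | algebraMap r => rw [Derivation.map_algebraMap]; exact zero_mem _
  | add x y i _ _ hx hy => rw [map_add]; exact add_mem hx hy
  | mem_mul m hm i x hx ih =>
    rw [Derivation.leibniz, smul_eq_mul, smul_eq_mul]
    have hm' : m.IsHomogeneous 1 := hm
    have hx' : x.IsHomogeneous i := by
      rw [homogeneousSubmodule_one_pow] at hx; exact hx
    refine add_mem ?_ ?_
    · rw [mem_homogeneousSubmodule, Nat.succ_eq_add_one, add_comm i 1]; exact hm'.mul ih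
    · rw [mem_homogeneousSubmodule, Nat.succ_eq_add_one]; exact hx'.mul (h1 m hm)

theorem homogeneousComponent_comm {D : Derivation k (MvPolynomial σ k) (MvPolynomial σ k)}
    (hD : ∀ i, D (X i) ∈ homogeneousSubmodule σ k 1) (d : ℕ) (p : MvPolynomial σ k) :
    homogeneousComponent d (D p) = D (homogeneousComponent d p) := by
  conv_lhs => rw [← sum_homogeneousComponent p, map_sum, map_sum]
  rw [Finset.sum_congr rfl (g := fun i => if d = i then D (homogeneousComponent i p) else 0)
    fun i _ => homogeneousComponent_of_mem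
      (mem_homogeneous_of_linear hD (homogeneousComponent_mem i p)), Finset.sum_ite_eq]
  split_ifs with h
  · rfl
  · rw [homogeneousComponent_eq_zero d p (by simpa using h), map_zero]

theorem deriv_monomial_diag {H : Derivation k (MvPolynomial σ k) (MvPolynomial σ k)} {w : σ → k}
    (hH : ∀ i, H (X i) = C (w i) * X i) (s : σ →₀ ℕ) (r : k) :
    H (monomial s r) = (s.sum fun i n => (n : k) * w i) • monomial s r := by
  induction s using Finsupp.induction generalizing r with
  | zero => simp
  | single_add a b s ha hb ih =>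
    rw [show monomial (Finsupp.single a b + s) r = X a ^ b * monomial s r by
      rw [X_pow_eq_monomial, monomial_mul, one_mul]]
    rw [Finsupp.sum_add_index' (by simp) (by intros; push_cast; ring),
      Finsupp.sum_single_index (by simp), Derivation.leibniz, ih, Derivation.leibniz_pow, hH]
    rw [← Nat.cast_smul_eq_nsmul k]
    simp only [smul_eq_mul, add_smul, Algebra.smul_def, algebraMap_eq, map_mul,
      map_natCast]
    rcases b with _ | b
    · exact absurd rfl hb
    · simp only [Nat.cast_add, Nat.cast_one, Nat.add_sub_cancel, pow_succ, map_add, map_mul, map_one,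
        map_natCast, add_mul, one_mul]
      ring

/-- An `sl₂`-action by linear derivations, diagonal for `h`. -/
structure LinSl2 (k : Type u) [Field k] (σ : Type v) where
  E : Derivation k (MvPolynomial σ k) (MvPolynomial σ k)
  F : Derivation k (MvPolynomial σ k) (MvPolynomial σ k)
  H : Derivation k (MvPolynomial σ k) (MvPolynomial σ k)
  w : σ → k
  memE : ∀ i, E (X i) ∈ homogeneousSubmodule σ k 1
  memF : ∀ i, F (X i) ∈ homogeneousSubmodule σ k 1
  H_X : ∀ i, H (X i) = C (w i) * X i
  ef : ∀ i, E (F (X i)) - F (E (X i)) = H (X i)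
  he : ∀ i, H (E (X i)) - E (H (X i)) = (2 : k) • E (X i)
  hf : ∀ i, H (F (X i)) - F (H (X i)) = -((2 : k) • F (X i))

namespace LinSl2

variable (T : LinSl2 k σ)

theorem memH (i : σ) : T.H (X i) ∈ homogeneousSubmodule σ k 1 := by
  rw [T.H_X]; exact isHomogeneous_C_mul_X _ i

theorem ef' (x : MvPolynomial σ k) : T.E (T.F x) = T.F (T.E x) + T.H x := by
  have h : ⁅T.E, T.F⁆ = T.H := derivation_ext fun i => by
    rw [Derivation.commutator_apply]; exact T.ef i
  rw [← h, Derivation.commutator_apply]; ring

theorem he' (x : MvPolynomial σ k) : T.H (T.E x) = T.E (T.H x) + (2 : k) • T.E x := by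
  have h : ⁅T.H, T.E⁆ = (2 : k) • T.E := derivation_ext fun i => by
    rw [Derivation.commutator_apply, Derivation.smul_apply]; exact T.he i
  rw [← Derivation.smul_apply, ← h, Derivation.commutator_apply]; ring

theorem hf' (x : MvPolynomial σ k) : T.H (T.F x) = T.F (T.H x) - (2 : k) • T.F x := by
  have h : ⁅T.H, T.F⁆ = -((2 : k) • T.F) := derivation_ext fun i => by
    rw [Derivation.commutator_apply, Derivation.neg_apply, Derivation.smul_apply]; exact T.hf i
  rw [sub_eq_add_neg, ← Derivation.smul_apply, ← Derivation.neg_apply, ← h,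
    Derivation.commutator_apply]; ring

/-- The three operators on forms of degree `d`. -/
noncomputable def eD (d : ℕ) : Module.End k (homogeneousSubmodule σ k d) :=
  T.E.toLinearMap.restrict fun _ hx => mem_homogeneous_of_linear T.memE hx

noncomputable def fD (d : ℕ) : Module.End k (homogeneousSubmodule σ k d) :=
  T.F.toLinearMap.restrict fun _ hx => mem_homogeneous_of_linear T.memF hx

noncomputable def hD (d : ℕ) : Module.End k (homogeneousSubmodule σ k d) :=
  T.H.toLinearMap.restrict fun _ hx => mem_homogeneous_of_linear T.memH hx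

@[simp] theorem eD_coe (d : ℕ) (x) : ((T.eD d x : homogeneousSubmodule σ k d) : MvPolynomial σ k) = T.E x := rfl
@[simp] theorem fD_coe (d : ℕ) (x) : ((T.fD d x : homogeneousSubmodule σ k d) : MvPolynomial σ k) = T.F x := rfl
@[simp] theorem hD_coe (d : ℕ) (x) : ((T.hD d x : homogeneousSubmodule σ k d) : MvPolynomial σ k) = T.H x := rfl

theorem efD (d : ℕ) (x) : T.eD d (T.fD d x) = T.fD d (T.eD d x) + T.hD d x :=
  Subtype.ext (by simpa using T.ef' x)

theorem heD (d : ℕ) (x) : T.hD d (T.eD d x) = T.eD d (T.hD d x) + (2 : k) • T.eD d x :=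
  Subtype.ext (by simpa using T.he' x)

theorem hfD (d : ℕ) (x) : T.hD d (T.fD d x) = T.fD d (T.hD d x) - (2 : k) • T.fD d x :=
  Subtype.ext (by simpa using T.hf' x)

theorem diag (d : ℕ) : ⨆ μ : k, (T.hD d).eigenspace μ = ⊤ := by
  refine eq_top_iff.2 fun x _ => ?_
  have key : ∀ s ∈ (x : MvPolynomial σ k).support,
      monomial s (coeff s (x : MvPolynomial σ k)) ∈ homogeneousSubmodule σ k d :=
    fun s hs => isHomogeneous_monomial _ ((IsHomogeneous.degree_eq_sum_deg_support x.2 hs).symm)
  have hx : x = ∑ s ∈ (x : MvPolynomial σ k).support.attach,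
      (⟨_, key s.1 s.2⟩ : homogeneousSubmodule σ k d) := by
    refine Subtype.ext ?_
    rw [Submodule.coe_sum]
    conv_lhs => rw [(x : MvPolynomial σ k).as_sum]
    exact (Finset.sum_attach _ (fun s => monomial s (coeff s (x : MvPolynomial σ k)))).symm
  rw [hx]
  refine Submodule.sum_mem _ fun s _ => Submodule.mem_iSup_of_mem
    (s.1.sum fun i n => (n : k) * T.w i) (Module.End.mem_eigenspace_iff.2 (Subtype.ext ?_))
  simpa using deriv_monomial_diag T.H_X s.1 _

/-- The invariants. -/
noncomputable def invariants : Subalgebra k (MvPolynomial σ k) where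
  carrier := {x | T.E x = 0 ∧ T.F x = 0}
  mul_mem' := fun {a b} ha hb => ⟨by simp [ha.1, hb.1], by simp [ha.2, hb.2]⟩
  one_mem' := ⟨by simp, by simp⟩
  add_mem' := fun {a b} ha hb => ⟨by simp [ha.1, hb.1], by simp [ha.2, hb.2]⟩
  zero_mem' := ⟨by simp, by simp⟩
  algebraMap_mem' r := ⟨T.E.map_algebraMap r, T.F.map_algebraMap r⟩

theorem mem_invariants {x : MvPolynomial σ k} : x ∈ T.invariants ↔ T.E x = 0 ∧ T.F x = 0 := Iff.rfl

theorem H_invariants {x : MvPolynomial σ k} (hx : x ∈ T.invariants) : T.H x = 0 := by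
  simpa [(T.mem_invariants.1 hx).1, (T.mem_invariants.1 hx).2] using (T.ef' x).symm

theorem comp_invariants {x : MvPolynomial σ k} (hx : x ∈ T.invariants) (d : ℕ) :
    homogeneousComponent d x ∈ T.invariants :=
  ⟨by rw [← homogeneousComponent_comm T.memE, (T.mem_invariants.1 hx).1, map_zero],
    by rw [← homogeneousComponent_comm T.memF, (T.mem_invariants.1 hx).2, map_zero]⟩

/-- The sum of the images. -/
noncomputable def moving : Submodule k (MvPolynomial σ k) :=
  LinearMap.range T.E.toLinearMap ⊔ LinearMap.range T.F.toLinearMap ⊔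
    LinearMap.range T.H.toLinearMap

theorem E_mem_moving (x) : T.E x ∈ T.moving :=
  Submodule.mem_sup_left (Submodule.mem_sup_left ⟨x, rfl⟩)
theorem F_mem_moving (x) : T.F x ∈ T.moving :=
  Submodule.mem_sup_left (Submodule.mem_sup_right ⟨x, rfl⟩)
theorem H_mem_moving (x) : T.H x ∈ T.moving := Submodule.mem_sup_right ⟨x, rfl⟩

theorem moving_induction {P : MvPolynomial σ k → Prop} (hadd : ∀ a b, P a → P b → P (a + b))
    (hE : ∀ x, P (T.E x)) (hF : ∀ x, P (T.F x)) (hH : ∀ x, P (T.H x))
    {y : MvPolynomial σ k} (hy : y ∈ T.moving) : P y := by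
  obtain ⟨ab, hab, _, ⟨c, rfl⟩, rfl⟩ := Submodule.mem_sup.1 hy
  obtain ⟨_, ⟨a, rfl⟩, _, ⟨b, rfl⟩, rfl⟩ := Submodule.mem_sup.1 hab
  exact hadd _ _ (hadd _ _ (hE a) (hF b)) (hH c)

theorem mul_moving {a y : MvPolynomial σ k} (ha : a ∈ T.invariants) (hy : y ∈ T.moving) :
    a * y ∈ T.moving := by
  have h1 := T.mem_invariants.1 ha
  refine T.moving_induction (P := fun y => a * y ∈ T.moving)
    (fun p q hp hq => by simpa [mul_add] using add_mem hp hq) ?_ ?_ ?_ hy
  · exact fun x => by simpa [h1.1] using T.E_mem_moving (a * x)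
  · exact fun x => by simpa [h1.2] using T.F_mem_moving (a * x)
  · exact fun x => by simpa [T.H_invariants ha] using T.H_mem_moving (a * x)

variable [CharZero k] [Finite σ]

theorem finite_homogeneous (d : ℕ) : Module.Finite k (homogeneousSubmodule σ k d) :=
  Module.Finite.iff_fg.2 (homogeneousSubmodule_fg σ k d)

theorem eq_zero_of_invariants_of_moving {x : MvPolynomial σ k} (hx : x ∈ T.invariants)
    (hm : x ∈ T.moving) : x = 0 := by
  rw [← sum_homogeneousComponent x]
  refine Finset.sum_eq_zero fun d _ => ?_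
  have := finite_homogeneous (k := k) (σ := σ) d
  have hc := (isCompl_invariants _ _ _ (T.efD d) (T.heD d) (T.hfD d) (T.diag d)).disjoint
  let z : homogeneousSubmodule σ k d := ⟨_, homogeneousComponent_mem d x⟩
  have h1 : z ∈ LinearMap.ker (T.eD d) ⊓ LinearMap.ker (T.fD d) :=
    ⟨Subtype.ext (T.mem_invariants.1 (T.comp_invariants hx d)).1,
      Subtype.ext (T.mem_invariants.1 (T.comp_invariants hx d)).2⟩
  have h2 : z ∈ LinearMap.range (T.eD d) ⊔ LinearMap.range (T.fD d) ⊔ LinearMap.range (T.hD d) := by
    refine T.moving_induction (P := fun y => (⟨_, homogeneousComponent_mem d y⟩ :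
      homogeneousSubmodule σ k d) ∈
        LinearMap.range (T.eD d) ⊔ LinearMap.range (T.fD d) ⊔ LinearMap.range (T.hD d))
      ?_ ?_ ?_ ?_ hm
    · intro a b ha hb
      convert add_mem ha hb using 1
      exact Subtype.ext (map_add _ a b)
    · exact fun y => Submodule.mem_sup_left (Submodule.mem_sup_left
        ⟨⟨_, homogeneousComponent_mem d y⟩,
          Subtype.ext (homogeneousComponent_comm T.memE d y).symm⟩)
    · exact fun y => Submodule.mem_sup_left (Submodule.mem_sup_right
        ⟨⟨_, homogeneousComponent_mem d y⟩,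
          Subtype.ext (homogeneousComponent_comm T.memF d y).symm⟩)
    · exact fun y => Submodule.mem_sup_right
        ⟨⟨_, homogeneousComponent_mem d y⟩,
          Subtype.ext (homogeneousComponent_comm T.memH d y).symm⟩
  exact congrArg Subtype.val (Submodule.disjoint_def.1 hc z h1 h2)

theorem exists_invariants_add_moving (x : MvPolynomial σ k) :
    ∃ r ∈ T.invariants, x - r ∈ T.moving := by
  suffices x ∈ Subalgebra.toSubmodule T.invariants ⊔ T.moving by
    obtain ⟨r, hr, g, hg, rfl⟩ := Submodule.mem_sup.1 this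
    exact ⟨r, hr, by simpa using hg⟩
  rw [← sum_homogeneousComponent x]
  refine Submodule.sum_mem _ fun d _ => ?_
  have := finite_homogeneous (k := k) (σ := σ) d
  have hc := (isCompl_invariants _ _ _ (T.efD d) (T.heD d) (T.hfD d) (T.diag d)).sup_eq_top
  let z : homogeneousSubmodule σ k d := ⟨_, homogeneousComponent_mem d x⟩
  have hz : z ∈ (⊤ : Submodule k (homogeneousSubmodule σ k d)) := Submodule.mem_top
  rw [← hc] at hz
  obtain ⟨r, ⟨hr1, hr2⟩, g, hg, hrg⟩ := Submodule.mem_sup.1 hz
  obtain ⟨ab, hab, _, ⟨c, rfl⟩, rfl⟩ := Submodule.mem_sup.1 hg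
  obtain ⟨_, ⟨a, rfl⟩, _, ⟨b, rfl⟩, rfl⟩ := Submodule.mem_sup.1 hab
  have := congrArg Subtype.val hrg
  rw [show homogeneousComponent d x = (z : MvPolynomial σ k) from rfl, ← this]
  exact Submodule.add_mem_sup
    (show (r : MvPolynomial σ k) ∈ T.invariants from ⟨congrArg Subtype.val hr1, congrArg Subtype.val hr2⟩)
    (add_mem (add_mem (T.E_mem_moving a) (T.F_mem_moving b)) (T.H_mem_moving c))

theorem invariants_fg : T.invariants.FG := by
  classical
  set G : Set (MvPolynomial σ k) :=
    {x | ∃ d, 0 < d ∧ x ∈ homogeneousSubmodule σ k d ∧ x ∈ T.invariants} with hG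
  obtain ⟨s, hsG, hs⟩ :=
    (Submodule.fg_span_iff_fg_span_finset_subset G).1 (IsNoetherian.noetherian (Ideal.span G))
  refine ⟨s, le_antisymm (Algebra.adjoin_le fun x hx => ?_) ?_⟩
  · obtain ⟨d, _, _, h⟩ := hsG hx; exact h
  suffices h : ∀ d, ∀ x ∈ homogeneousSubmodule σ k d, x ∈ T.invariants →
      x ∈ Algebra.adjoin k (s : Set (MvPolynomial σ k)) by
    intro x hx
    rw [← sum_homogeneousComponent x]
    exact Subalgebra.sum_mem _ fun d _ => h d _ (homogeneousComponent_mem d x) (T.comp_invariants hx d)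
  intro d
  induction d using Nat.strong_induction_on with
  | _ d ih =>
  intro x hx hxi
  rcases Nat.eq_zero_or_pos d with rfl | hd
  · rw [homogeneousSubmodule_zero] at hx
    obtain ⟨c, rfl⟩ := hx
    simpa [Algebra.smul_def] using (Algebra.adjoin k (s : Set (MvPolynomial σ k))).algebraMap_mem c
  have hxs : x ∈ Ideal.span (s : Set (MvPolynomial σ k)) := by
    have h0 : x ∈ Ideal.span G := Ideal.subset_span ⟨d, hd, hx, hxi⟩
    rwa [Ideal.span, hs] at h0
  obtain ⟨c, hc⟩ := Submodule.mem_span_finset'.1 hxs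
  choose r hr hrm using fun f => T.exists_invariants_add_moving (c f)
  have hx' : x = ∑ f : s, r f * (f : MvPolynomial σ k) := by
    refine sub_eq_zero.1 (T.eq_zero_of_invariants_of_moving (sub_mem hxi (Subalgebra.sum_mem _ fun f _ =>
      mul_mem (hr f) (hsG f.2).choose_spec.2.2)) ?_)
    rw [← hc, ← Finset.sum_sub_distrib]
    refine Submodule.sum_mem _ fun f _ => ?_
    rw [smul_eq_mul, ← sub_mul, mul_comm]
    exact T.mul_moving (hsG f.2).choose_spec.2.2 (hrm f)
  have hxd : homogeneousComponent d x = x := by rw [homogeneousComponent_of_mem hx, if_pos rfl]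
  rw [← hxd, hx', map_sum]
  refine Subalgebra.sum_mem _ fun f _ => ?_
  obtain ⟨e, he, hfe, hfi⟩ := hsG f.2
  rw [← sum_homogeneousComponent (r f), Finset.sum_mul, map_sum]
  refine Subalgebra.sum_mem _ fun i _ => ?_
  have hmul : homogeneousComponent i (r f) * (f : MvPolynomial σ k) ∈
      homogeneousSubmodule σ k (i + e) :=
    (homogeneousComponent_isHomogeneous i (r f)).mul hfe
  rw [homogeneousComponent_of_mem hmul]
  split_ifs with hide
  · exact mul_mem (ih i (by omega) _ (homogeneousComponent_mem i _) (T.comp_invariants (hr f) i))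
      (Algebra.subset_adjoin f.2)
  · exact zero_mem _

end LinSl2

end Deriv

section Jordan

open scoped DirectSum

theorem exists_jordan_basis {k : Type u} [Field k] {V : Type u} [AddCommGroup V] [Module k V]
    [FiniteDimensional k V] (N : Module.End k V) (hN : IsNilpotent N) :
    ∃ (d : ℕ) (K : Fin d → ℕ) (b : Module.Basis (Σ i : Fin d, Fin (K i)) k V), ∀ i (j : Fin (K i)),
      N (b ⟨i, j⟩) = if h : (j : ℕ) + 1 < K i then b ⟨i, ⟨(j : ℕ) + 1, h⟩⟩ else 0 := by
  classical
  open Polynomial in
  have : Module.Finite k (Module.AEval' N) := Module.Finite.equiv (Module.AEval'.of N)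
  have : Module.Finite (Polynomial k) (Module.AEval' N) :=
    Module.Finite.of_restrictScalars_finite k _ _
  obtain ⟨n, hn⟩ := hN
  have hX : ∀ (m : ℕ) (v : V), (Polynomial.X : Polynomial k) ^ m • Module.AEval'.of N v =
      Module.AEval'.of N ((N ^ m) v) := by
    intro m
    induction m with
    | zero => simp
    | succ m ih => intro v; rw [pow_succ', mul_smul, ih, Module.AEval'.X_smul_of, pow_succ']; rfl
  have htor : Module.IsTorsion' (Module.AEval' N) (Submonoid.powers (Polynomial.X : Polynomial k)) := by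
    intro x
    obtain ⟨v, rfl⟩ := (Module.AEval'.of N).surjective x
    refine ⟨(⟨Polynomial.X ^ n, ⟨n, rfl⟩⟩ : Submonoid.powers (Polynomial.X : Polynomial k)), ?_⟩
    show (Polynomial.X : Polynomial k) ^ n • Module.AEval'.of N v = 0
    rw [hX, hn]; simp
  obtain ⟨d, K, ⟨e⟩⟩ :=
    Module.torsion_by_prime_power_decomposition Polynomial.prime_X.irreducible htor
  let pb : ∀ i, Module.Basis (Fin (K i)) k
      (Polynomial k ⧸ (Polynomial k) ∙ (Polynomial.X : Polynomial k) ^ (K i)) := fun i =>
    ((AdjoinRoot.powerBasis' (Polynomial.monic_X_pow (R := k) (K i))).basis.reindex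
      (finCongr ((AdjoinRoot.powerBasis'_dim _).trans (Polynomial.natDegree_X_pow (K i)))))
  have hpb : ∀ i (j : Fin (K i)), pb i j = Submodule.Quotient.mk (Polynomial.X ^ (j : ℕ)) := by
    intro i j
    show ((AdjoinRoot.powerBasis' (Polynomial.monic_X_pow (R := k) (K i))).basis.reindex _) j = _
    refine (Module.Basis.reindex_apply _ _ _).trans ?_
    refine (PowerBasis.basis_eq_pow _ _).trans ?_
    rw [AdjoinRoot.powerBasis'_gen, ← AdjoinRoot.mk_X, ← map_pow]
    rfl
  let b0 : Module.Basis (Σ i : Fin d, Fin (K i)) k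
      (⨁ i : Fin d, Polynomial k ⧸ (Polynomial k) ∙ (Polynomial.X : Polynomial k) ^ (K i)) :=
    DFinsupp.basis pb
  let b : Module.Basis (Σ i : Fin d, Fin (K i)) k V :=
    b0.map ((e.restrictScalars k).symm.trans (Module.AEval'.of N).symm)
  have hb0 : ∀ i (j : Fin (K i)), b0 ⟨i, j⟩ = DirectSum.lof (Polynomial k) (Fin d)
      (fun i => Polynomial k ⧸ (Polynomial k) ∙ (Polynomial.X : Polynomial k) ^ (K i)) i (pb i j) := by
    intro i j
    apply b0.repr.injective
    rw [b0.repr_self]
    ext ⟨i', j'⟩
    have hm : ∀ (x : ⨁ i : Fin d, Polynomial k ⧸ (Polynomial k) ∙ (Polynomial.X : Polynomial k) ^ (K i))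
        (a : Fin d), ((DFinsupp.mapRange.linearEquiv fun i => (pb i).repr) x) a = (pb a).repr (x a) :=
      fun x a => rfl
    by_cases h : i' = i
    · subst h
      simp [b0, DirectSum.lof_eq_of, DirectSum.of, DFinsupp.basis, Finsupp.single_apply,
        DFinsupp.singleAddHom, hm]
    · simp [b0, DirectSum.lof_eq_of, DirectSum.of, DFinsupp.basis, Finsupp.single_apply, Ne.symm h, h,
        DFinsupp.singleAddHom, hm]
  refine ⟨d, K, b, fun i j => ?_⟩
  apply (Module.AEval'.of N).injective
  rw [← Module.AEval'.X_smul_of]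
  have hb : ∀ x, Module.AEval'.of N (b x) = e.symm (b0 x) := fun x =>
    (Module.AEval'.of N).apply_symm_apply _
  rw [hb]
  have key : (Polynomial.X : Polynomial k) • b0 ⟨i, j⟩ =
      if h : (j : ℕ) + 1 < K i then b0 ⟨i, ⟨(j : ℕ) + 1, h⟩⟩ else 0 := by
    rw [hb0, ← LinearMap.map_smul, hpb, ← Submodule.Quotient.mk_smul, smul_eq_mul, ← pow_succ']
    split_ifs with h
    · rw [hb0, hpb]
    · have hj : (j : ℕ) + 1 = K i := by have := j.2; omega
      rw [hj, (Submodule.Quotient.mk_eq_zero _).2 (Submodule.mem_span_singleton_self _), map_zero]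
  rw [← map_smul, key]
  split_ifs with h
  · rw [hb]
  · simp

end Jordan

section Seshadri

variable {k : Type u} [Field k]

/-- Two derivations intertwined by an algebra map on the variables are intertwined everywhere. -/
theorem intertwine {σ τ : Type*} (φ : MvPolynomial σ k →ₐ[k] MvPolynomial τ k)
    {D : Derivation k (MvPolynomial σ k) (MvPolynomial σ k)}
    {D' : Derivation k (MvPolynomial τ k) (MvPolynomial τ k)}
    (h : ∀ i, φ (D (X i)) = D' (φ (X i))) (p : MvPolynomial σ k) : φ (D p) = D' (φ p) := by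
  induction p using MvPolynomial.induction_on with
  | C a =>
    rw [← algebraMap_eq, Derivation.map_algebraMap, AlgHom.commutes, Derivation.map_algebraMap, map_zero]
  | add p q hp hq => simp [hp, hq]
  | mul_X p i hp => simp [hp, h]

theorem deriv_C_mul {σ : Type*} (D : Derivation k (MvPolynomial σ k) (MvPolynomial σ k)) (a : k)
    (f : MvPolynomial σ k) : D (C a * f) = C a * D f := by
  simp [Derivation.leibniz]

variable [CharZero k] {d : ℕ} (K : Fin d → ℕ)

/-- The raised variable in a Jordan block. -/
noncomputable def nxt (x : Σ i : Fin d, Fin (K i)) : MvPolynomial (Σ i : Fin d, Fin (K i)) k :=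
  if h : (x.2 : ℕ) + 1 < K x.1 then X ⟨x.1, ⟨(x.2 : ℕ) + 1, h⟩⟩ else 0

/-- The standard `sl₂`-triple on a sum of Jordan blocks. -/
noncomputable def blockSl2 : LinSl2 k (Σ i : Fin d, Fin (K i)) where
  E := mkDerivation k (nxt K)
  F := mkDerivation k fun x => C (((x.2 : ℕ) : k) * ((K x.1 : k) - ((x.2 : ℕ) : k))) *
    X ⟨x.1, ⟨(x.2 : ℕ) - 1, lt_of_le_of_lt (Nat.sub_le _ _) x.2.2⟩⟩
  H := mkDerivation k fun x => C (2 * ((x.2 : ℕ) : k) + 1 - (K x.1 : k)) * X x
  w x := 2 * ((x.2 : ℕ) : k) + 1 - (K x.1 : k)
  memE x := by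
    rw [mkDerivation_X, nxt]
    split_ifs with h
    · exact isHomogeneous_X _ _
    · exact zero_mem _
  memF x := by rw [mkDerivation_X]; exact isHomogeneous_C_mul_X _ _
  H_X x := mkDerivation_X _ _ _
  ef x := by
    obtain ⟨i, j, hj⟩ := x
    simp only [mkDerivation_X, deriv_C_mul, nxt]
    have e1 : C ((j : k) * ((K i : k) - j)) * (if h : j - 1 + 1 < K i then X ⟨i, ⟨j - 1 + 1, h⟩⟩ else 0) =
        C ((j : k) * ((K i : k) - j)) * (X ⟨i, ⟨j, hj⟩⟩ : MvPolynomial (Σ i : Fin d, Fin (K i)) k) := by
      rcases j with _ | j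
      · simp
      · rw [dif_pos (by simpa using hj)]; simp
    rw [e1]
    split_ifs with h
    · rw [mkDerivation_X]
      simp only [Nat.add_sub_cancel, Nat.cast_add, Nat.cast_one]
      rw [← sub_mul, ← map_sub]
      congr 2
      ring
    · have hK : (K i : k) = (j : k) + 1 := by
        have : K i = j + 1 := by omega
        rw [this]; simp
      rw [map_zero, sub_zero, hK]
      congr 2
      ring
  he x := by
    obtain ⟨i, j, hj⟩ := x
    simp only [mkDerivation_X, deriv_C_mul, nxt, smul_eq_mul]
    split_ifs with h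
    · rw [mkDerivation_X, ← sub_mul, ← map_sub, smul_eq_C_mul]
      congr 2
      push_cast
      ring
    · simp
  hf x := by
    obtain ⟨i, j, hj⟩ := x
    simp only [mkDerivation_X, deriv_C_mul, smul_eq_C_mul, ← mul_assoc, ← map_mul]
    rcases j with _ | j
    · simp
    · rw [← sub_mul, ← map_sub, ← neg_mul, ← map_neg]
      congr 2
      push_cast [Nat.add_sub_cancel]
      ring

/-- Adding the standard representation. -/
noncomputable def extend {σ : Type v} (T : LinSl2 k σ) : LinSl2 k (σ ⊕ Bool) where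
  E := mkDerivation k (Sum.elim (fun i => rename Sum.inl (T.E (X i)))
    (fun b => if b then X (Sum.inr false) else 0))
  F := mkDerivation k (Sum.elim (fun i => rename Sum.inl (T.F (X i)))
    (fun b => if b then 0 else X (Sum.inr true)))
  H := mkDerivation k (Sum.elim (fun i => C (T.w i) * X (Sum.inl i))
    (fun b => if b then C (-1) * X (Sum.inr true) else C 1 * X (Sum.inr false)))
  w := Sum.elim T.w (fun b => if b then -1 else 1)
  memE x := by
    rw [mkDerivation_X]
    rcases x with i | (_ | _)
    · exact IsHomogeneous.rename_isHomogeneous (T.memE i)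
    · exact zero_mem _
    · exact isHomogeneous_X _ _
  memF x := by
    rw [mkDerivation_X]
    rcases x with i | (_ | _)
    · exact IsHomogeneous.rename_isHomogeneous (T.memF i)
    · exact isHomogeneous_X _ _
    · exact zero_mem _
  H_X x := by rcases x with i | (_ | _) <;> simp
  ef x := by
    rcases x with i | (_ | _)
    · simp only [mkDerivation_X, Sum.elim_inl]
      rw [← intertwine (rename Sum.inl) (D := T.E) (fun i => by simp) _,
        ← intertwine (rename Sum.inl) (D := T.F) (fun i => by simp) _, ← map_sub, T.ef, T.H_X]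
      simp
    all_goals simp
  he x := by
    rcases x with i | (_ | _)
    · simp only [mkDerivation_X, Sum.elim_inl, deriv_C_mul]
      rw [← intertwine (rename Sum.inl) (D := T.H) (fun i => by simp [T.H_X]) _,
        ← rename_C (R := k) (Sum.inl : σ → σ ⊕ Bool), ← map_mul, ← map_sub, ← map_smul]
      refine congrArg _ ?_
      rw [← T.he i, T.H_X, deriv_C_mul]
    · simp
    · simp [smul_eq_C_mul, map_ofNat, two_mul]
  hf x := by
    rcases x with i | (_ | _)
    · simp only [mkDerivation_X, Sum.elim_inl, deriv_C_mul]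
      rw [← intertwine (rename Sum.inl) (D := T.H) (fun i => by simp [T.H_X]) _,
        ← rename_C (R := k) (Sum.inl : σ → σ ⊕ Bool), ← map_mul, ← map_sub, ← map_smul, ← map_neg]
      refine congrArg _ ?_
      rw [← T.hf i, T.H_X, deriv_C_mul]
    · simp [smul_eq_C_mul, map_ofNat, two_mul]; ring
    · simp

/-- Evaluation at the highest weight vector. -/
noncomputable def evalTop (σ : Type v) : MvPolynomial (σ ⊕ Bool) k →ₐ[k] MvPolynomial σ k :=
  aeval (Sum.elim X (fun b => if b then 1 else 0))

theorem evalTop_E {σ : Type v} (T : LinSl2 k σ) (p : MvPolynomial (σ ⊕ Bool) k) :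
    evalTop σ ((extend T).E p) = T.E (evalTop σ p) := by
  refine intertwine (evalTop σ) (fun i => ?_) p
  rcases i with i | (_ | _)
  · simp only [extend, mkDerivation_X, Sum.elim_inl, evalTop, aeval_rename, aeval_X]
    exact aeval_X_left_apply _
  · simp [extend, evalTop]
  · simp [extend, evalTop]

theorem extend_rename {σ : Type v} (T : LinSl2 k σ) (p : MvPolynomial σ k) :
    (extend T).E (rename Sum.inl p) = rename Sum.inl (T.E p) ∧
      (extend T).F (rename Sum.inl p) = rename Sum.inl (T.F p) :=
  ⟨(intertwine (rename Sum.inl) (fun i => by simp [extend]) p).symm,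
    (intertwine (rename Sum.inl) (fun i => by simp [extend]) p).symm⟩

theorem exists_lift_homogeneous {σ : Type v} [Finite σ] (T : LinSl2 k σ) {n : ℕ}
    (f : homogeneousSubmodule σ k n) {m : ℕ} (hm : T.hD n f = (m : k) • f) (hf : T.eD n f = 0) :
    ∃ P ∈ (extend T).invariants, evalTop σ P = (f : MvPolynomial σ k) := by
  have := LinSl2.finite_homogeneous (k := k) (σ := σ) n
  let a : ℕ → MvPolynomial σ k := fun i => ((T.fD n ^ i) f : homogeneousSubmodule σ k n)
  have hFa : ∀ i, T.F (a i) = a (i + 1) := fun i => by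
    simp only [a]; rw [pow_succ', Module.End.mul_apply, LinSl2.fD_coe]
  have hlast : a (m + 1) = 0 := by
    simp only [a]; rw [pow_f_primitive_eq_zero (T.efD n) (T.hfD n) hm hf, Submodule.coe_zero]
  have hE0 : T.E (a 0) = 0 := by simpa [a] using congrArg Subtype.val hf
  have hEa : ∀ i, T.E (a (i + 1)) = C (((i : k) + 1) * ((m : k) - i)) * a i := fun i => by
    rw [← smul_eq_C_mul]
    exact congrArg Subtype.val (e_pow_f (T.efD n) (T.hfD n) hm hf i)
  let c : ℕ → k := fun i => (-1) ^ i / (i.factorial : k)
  have hc : ∀ i, c (i + 1) * ((i : k) + 1) = -c i := fun i => by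
    simp only [c, Nat.factorial_succ, Nat.cast_mul, Nat.cast_add, Nat.cast_one, pow_succ]
    have h1 : ((i : k) + 1) ≠ 0 := Nat.cast_add_one_ne_zero i
    have h2 : (i.factorial : k) ≠ 0 := Nat.cast_ne_zero.2 i.factorial_ne_zero
    field_simp
  let u : MvPolynomial (σ ⊕ Bool) k := X (Sum.inr false)
  let v : MvPolynomial (σ ⊕ Bool) k := X (Sum.inr true)
  let Q : MvPolynomial (σ ⊕ Bool) k :=
    ∑ i ∈ Finset.range (m + 1), C (c i) * rename Sum.inl (a i) * u ^ i * v ^ (m - i)
  have hEu : (extend T).E u = 0 := by simp [u, extend]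
  have hEv : (extend T).E v = u := by simp [u, v, extend]
  have hFu : (extend T).F u = v := by simp [u, v, extend]
  have hFv : (extend T).F v = 0 := by simp [v, extend]
  refine ⟨Q, ⟨?_, ?_⟩, ?_⟩
  · simp only [Q, map_sum]
    let g : ℕ → MvPolynomial (σ ⊕ Bool) k := fun i =>
      C (c i * ((m : k) - i)) * rename Sum.inl (a i) * u ^ (i + 1) * v ^ (m - i - 1)
    rw [Finset.sum_congr rfl (g := fun i => g i - if i = 0 then 0 else g (i - 1)) fun i hi => ?_]
    · rw [Finset.sum_sub_distrib, Finset.sum_range_succ' (fun i => if i = 0 then 0 else g (i - 1))]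
      simp only [Nat.succ_ne_zero, if_false, Nat.add_sub_cancel, if_true, add_zero]
      rw [Finset.sum_range_succ, add_sub_cancel_left]
      simp [g]
    · have hi' : i ≤ m := by simpa [Nat.lt_succ_iff] using hi
      simp only [Derivation.leibniz, Derivation.leibniz_pow, derivation_C, hEu, hEv, smul_eq_mul,
        (extend_rename T _).1, nsmul_eq_mul, smul_zero, mul_zero, add_zero, zero_add, g]
      rcases i with _ | j
      · simp only [hE0, map_zero, mul_zero, add_zero, if_true, sub_zero, Nat.sub_zero, Nat.cast_zero,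
          map_mul, pow_zero, mul_one, map_natCast]
        ring
      · rw [if_neg (Nat.succ_ne_zero j), hEa, map_mul, rename_C]
        obtain ⟨r, rfl⟩ := Nat.exists_eq_add_of_le hi'
        rw [show j + 1 + r - (j + 1) = r by omega, show j + 1 - 1 = j from rfl,
          show j + 1 + r - j - 1 = r by omega]
        have hcj : c j = -(c (j + 1) * ((j : k) + 1)) := by rw [hc, neg_neg]
        rw [hcj]
        push_cast
        simp only [map_mul, map_sub, map_add, map_neg, map_one, map_natCast]
        ring
  · simp only [Q, map_sum]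
    let g : ℕ → MvPolynomial (σ ⊕ Bool) k := fun i =>
      C (c i) * rename Sum.inl (a (i + 1)) * u ^ i * v ^ (m - i)
    rw [Finset.sum_congr rfl (g := fun i => g i - if i = 0 then 0 else g (i - 1)) fun i hi => ?_]
    · rw [Finset.sum_sub_distrib, Finset.sum_range_succ' (fun i => if i = 0 then 0 else g (i - 1))]
      simp only [Nat.succ_ne_zero, if_false, Nat.add_sub_cancel, if_true, add_zero]
      rw [Finset.sum_range_succ, add_sub_cancel_left]
      simp [g, hlast]
    · have hi' : i ≤ m := by simpa [Nat.lt_succ_iff] using hi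
      simp only [Derivation.leibniz, Derivation.leibniz_pow, derivation_C, hFu, hFv, smul_eq_mul,
        (extend_rename T _).2, hFa, nsmul_eq_mul, smul_zero, mul_zero, add_zero, zero_add, g]
      rcases i with _ | j
      · simp only [if_true, sub_zero, pow_zero, mul_one, Nat.cast_zero, zero_mul, mul_zero,
          zero_add]
        ring
      · rw [if_neg (Nat.succ_ne_zero j)]
        obtain ⟨r, rfl⟩ := Nat.exists_eq_add_of_le hi'
        rw [show j + 1 + r - (j + 1) = r by omega, show j + 1 - 1 = j from rfl,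
          show j + 1 + r - j = r + 1 by omega]
        have hcj : c j = -(c (j + 1) * ((j : k) + 1)) := by rw [hc, neg_neg]
        rw [hcj]
        push_cast
        simp only [map_mul, map_sub, map_add, map_neg, map_one, map_natCast]
        ring
  · simp only [Q, u, v, evalTop, map_sum, map_mul, map_pow, aeval_C, aeval_X, aeval_rename,
      Sum.elim_inr, if_true, Bool.false_eq_true, if_false, one_pow, mul_one]
    rw [Finset.sum_range_succ']
    simp only [zero_pow (Nat.succ_ne_zero _), mul_zero, Finset.sum_const_zero, zero_add, pow_zero,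
      mul_one]
    simp only [c, pow_zero, Nat.factorial_zero, Nat.cast_one, div_one, map_one, one_mul]
    exact aeval_X_left_apply _

/-- Seshadri: the kernel of `E` is the image of the invariants in two more variables. -/
theorem mem_map_evalTop {σ : Type v} [Finite σ] (T : LinSl2 k σ) (p : MvPolynomial σ k)
    (hp : T.E p = 0) : p ∈ (extend T).invariants.map (evalTop σ) := by
  rw [← sum_homogeneousComponent p]
  refine Subalgebra.sum_mem _ fun n _ => ?_
  have := LinSl2.finite_homogeneous (k := k) (σ := σ) n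
  set f : homogeneousSubmodule σ k n := ⟨_, homogeneousComponent_mem n p⟩ with hf
  have hfe : T.eD n f = 0 := Subtype.ext (by
    simp [hf, ← homogeneousComponent_comm T.memE, hp])
  show (f : MvPolynomial σ k) ∈ _
  have hstab : ∀ x ∈ LinearMap.ker (T.eD n), T.hD n x ∈ LinearMap.ker (T.eD n) := fun x hx => by
    rw [LinearMap.mem_ker] at hx ⊢
    have := T.heD n x
    rw [hx, map_zero, smul_zero, add_zero] at this
    exact this.symm
  have hdec := Submodule.inf_iSup_genEigenspace (p := LinearMap.ker (T.eD n)) (f := T.hD n) hstab 1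
  rw [T.diag n, inf_top_eq] at hdec
  have hmem : f ∈ LinearMap.ker (T.eD n) := hfe
  rw [hdec] at hmem
  refine (iSup_le (a := ((Subalgebra.toSubmodule ((extend T).invariants.map (evalTop σ))).comap
    (homogeneousSubmodule σ k n).subtype)) fun μ g hg => ?_) hmem
  obtain ⟨hg1 : T.eD n g = 0, hg2⟩ := hg
  rw [SetLike.mem_coe, Module.End.mem_eigenspace_iff] at hg2
  rcases eq_or_ne g 0 with rfl | hg0
  · exact zero_mem _
  obtain ⟨m, rfl⟩ := weight_primitive (T.efD n) (T.hfD n) hg2 hg1 hg0
  obtain ⟨P, hP, hPf⟩ := exists_lift_homogeneous T g hg2 hg1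
  exact ⟨P, hP, hPf⟩

theorem ker_deriv_fg {n : ℕ} (M : Matrix (Fin n) (Fin n) k) (hM : IsNilpotent M) :
    ∃ S : Subalgebra k (MvPolynomial (Fin n) k), S.FG ∧
      ∀ f : MvPolynomial (Fin n) k, f ∈ S ↔
        MvPolynomial.mkDerivation k (fun j : Fin n => ∑ i : Fin n, M i j • (MvPolynomial.X i : MvPolynomial (Fin n) k)) f = 0 := by
  classical
  set D := MvPolynomial.mkDerivation k (fun j : Fin n => ∑ i : Fin n, M i j • (MvPolynomial.X i : MvPolynomial (Fin n) k)) with hD
  obtain ⟨d, K, b, hb⟩ := exists_jordan_basis (Matrix.toLinAlgEquiv' M) (hM.map Matrix.toLinAlgEquiv')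
  let L : (Fin n → k) →ₗ[k] MvPolynomial (Fin n) k := Fintype.linearCombination k (fun j => X j)
  have hDL : ∀ v, D (L v) = L (Matrix.toLinAlgEquiv' M v) := fun v => by
    simp only [L, Fintype.linearCombination_apply, map_sum, Derivation.map_smul, hD, mkDerivation_X,
      Matrix.toLinAlgEquiv'_apply, Matrix.mulVec, dotProduct, Finset.smul_sum, smul_smul,
      Finset.sum_smul]
    rw [Finset.sum_comm]
    simp only [mul_comm]
  let φ : MvPolynomial (Σ i : Fin d, Fin (K i)) k →ₐ[k] MvPolynomial (Fin n) k := aeval fun x => L (b x)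
  let L' : (Fin n → k) →ₗ[k] MvPolynomial (Σ i : Fin d, Fin (K i)) k := b.constr k fun x => X x
  let ψ : MvPolynomial (Fin n) k →ₐ[k] MvPolynomial (Σ i : Fin d, Fin (K i)) k :=
    aeval fun j => L' (Pi.single j 1)
  have hψL : ψ.toLinearMap ∘ₗ L = L' := LinearMap.pi_ext' fun j => LinearMap.ext_ring (by
    simp [L, ψ, Fintype.linearCombination_apply_single])
  have hψφ : ψ.comp φ = AlgHom.id _ _ := algHom_ext fun x => by
    show ψ (φ (X x)) = X x
    simp only [φ, aeval_X]
    exact (LinearMap.congr_fun hψL (b x)).trans (b.constr_basis k _ x)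
  have hφL : φ.toLinearMap ∘ₗ L' = L := b.ext fun x => by simp [φ, L']
  have hφψ : φ.comp ψ = AlgHom.id _ _ := algHom_ext fun j => by
    show φ (ψ (X j)) = X j
    simp only [ψ, aeval_X]
    exact (LinearMap.congr_fun hφL (Pi.single j 1)).trans (by simp [L, Fintype.linearCombination_apply_single])
  have hφE : ∀ p, φ ((blockSl2 K).E p) = D (φ p) := intertwine φ fun x => by
    obtain ⟨i, j⟩ := x
    simp only [φ, aeval_X, hDL, hb, blockSl2, mkDerivation_X, nxt]
    split_ifs with h
    · simp
    · simp
  refine ⟨((extend (blockSl2 K)).invariants.map (evalTop _)).map φ,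
    ((extend (blockSl2 K)).invariants_fg.map _).map _, fun f => ⟨?_, fun hf => ?_⟩⟩
  · rintro ⟨p, ⟨P, hP, rfl⟩, rfl⟩
    show D (φ (evalTop _ P)) = 0
    rw [← hφE, ← evalTop_E, ((extend (blockSl2 K)).mem_invariants.1 hP).1, map_zero, map_zero]
  · have hf' : φ (ψ f) = f := AlgHom.congr_fun hφψ f
    refine ⟨ψ f, mem_map_evalTop _ _ ?_, hf'⟩
    have h0 : φ ((blockSl2 K).E (ψ f)) = 0 := by rw [hφE, hf', hf]
    simpa using (AlgHom.congr_fun hψφ _).symm.trans (congrArg ψ h0)

end Seshadri

end Groth.Agent.CommAlg4.Weitz
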