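import Mathlib
import Groth.Agent.DimLib.Sub

/-!
# Pairs of points off the diagonal in a small well-intersecting product
-/

set_option autoImplicit false

universe u

open CategoryTheory CategoryTheory.Limits AlgebraicGeometry TopologicalSpace

namespace Groth.Agent.CommAlg4.WellIntersect

/-- A point which is a specialization of the image of a closed set, and specializes to all of it,
lies in the image. -/
theorem mem_image_of_mem_closure {α β : Type*} [TopologicalSpace α] [NoetherianSpace α] [QuasiSober α]
    [TopologicalSpace β] [T0Space β] {g : α → β} (hg : Continuous g) {C : Set α} (hC : IsClosed C) {η : β}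
    (h1 : η ∈ closure (g '' C)) (h2 : g '' C ⊆ closure {η}) : η ∈ g '' C := by
  obtain ⟨T, hTfin, hTcl, hTirr, hTC⟩ := NoetherianSpace.exists_finite_set_isClosed_irreducible hC
  subst hTC
  rw [Set.sUnion_eq_biUnion, Set.image_iUnion₂, hTfin.closure_biUnion] at h1
  obtain ⟨t, ht, hηt⟩ := Set.mem_iUnion₂.1 h1
  obtain ⟨c, hc⟩ := QuasiSober.sober (hTirr t ht) (hTcl t ht)
  have hcmem : c ∈ ⋃₀ T := ⟨t, ht, hc.mem⟩
  have h3 : g c ⤳ η := by
    rw [specializes_iff_mem_closure]
    have := hc.image hg
    rw [isGenericPoint_def] at this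
    rw [this]
    exact hηt
  have h4 : η ⤳ g c := specializes_iff_mem_closure.2 (h2 ⟨c, hcmem, rfl⟩)
  exact ⟨c, hcmem, (h3.antisymm h4).eq⟩

variable {k : Type u} [Field k] {X S : Scheme.{u}} (q : S ⟶ Spec (CommRingCat.of k)) (f : X ⟶ S)
  [LocallyOfFiniteType q] [LocallyOfFiniteType f]

/-- The points off the diagonal of `Y ×_S Z`. -/
def offDiag (Y Z : Set X) : Set ↥(pullback f f) :=
  {p | pullback.fst f f p ∈ Y ∧ pullback.snd f f p ∈ Z ∧ p ∉ Set.range (pullback.diagonal f)}

include q in
theorem dim_le_dim_offDiag [IsSeparated f] {Y Z : Set X} (hY : IsClosed Y) (hZ : IsClosed Z) {η : X}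
    (hη : IsGenericPoint η Y) {P : ↥(pullback f f)} (hP : P ∈ offDiag f Y Z) (hfst : pullback.fst f f P = η) :
    topologicalKrullDim Y ≤ topologicalKrullDim (offDiag f Y Z) := by
  have hlc : IsLocallyClosed (offDiag f Y Z) :=
    ⟨(Set.range (pullback.diagonal f))ᶜ, pullback.fst f f ⁻¹' Y ∩ pullback.snd f f ⁻¹' Z,
      (pullback.diagonal f).isClosedEmbedding.isClosed_range.isOpen_compl,
      (hY.preimage (pullback.fst f f).continuous).inter (hZ.preimage (pullback.snd f f).continuous), by
        ext p
        simp only [offDiag, Set.mem_setOf_eq, Set.mem_inter_iff, Set.mem_compl_iff, Set.mem_preimage]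
        tauto⟩
  rw [DimLib.topologicalKrullDim_eq_ptDim_of_isGenericPoint (f ≫ q) hη,
    DimLib.topologicalKrullDim_locallyClosed_eq_iSup (pullback.fst f f ≫ f ≫ q) hlc]
  refine le_trans ?_ (le_iSup (fun x : offDiag f Y Z =>
    (DimLib.ptDim (pullback.fst f f ≫ f ≫ q) x.1 : WithBot ℕ∞)) ⟨P, hP⟩)
  rw [← hfst]
  exact_mod_cast DimLib.ptDim_apply_le (f ≫ q) (pullback.fst f f) P

theorem not_add_le_add {X : Scheme.{u}} (p : X ⟶ Spec (CommRingCat.of k)) [LocallyOfFiniteType p]
    {Y Z : Set X} {η ζ : X} (hη : IsGenericPoint η Y) (hζ : IsGenericPoint ζ Z) {D : WithBot ℕ∞}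
    (h : topologicalKrullDim Z < D) :
    ¬ topologicalKrullDim Y + D ≤ topologicalKrullDim Y + topologicalKrullDim Z := by
  rw [DimLib.topologicalKrullDim_eq_ptDim_of_isGenericPoint p hη] at *
  rw [DimLib.topologicalKrullDim_eq_ptDim_of_isGenericPoint p hζ] at *
  induction D using WithBot.recBotCoe with
  | bot => simp at h
  | coe D =>
    induction D using ENat.recTopCoe with
    | top => 
      intro hle
      rw [show ((DimLib.ptDim p η : WithBot ℕ∞) + ((⊤ : ℕ∞) : WithBot ℕ∞)) = ((⊤ : ℕ∞) : WithBot ℕ∞) from by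
        norm_cast] at hle
      norm_cast at hle
    | coe D =>
      norm_cast at h ⊢
      omega

theorem noetherianSpace_of_lft {X : Scheme.{u}} (p : X ⟶ Spec (CommRingCat.of k)) [LocallyOfFiniteType p]
    [CompactSpace X] : NoetherianSpace X := by
  haveI : IsLocallyNoetherian X := LocallyOfFiniteType.isLocallyNoetherian p
  haveI : AlgebraicGeometry.IsNoetherian X := {}
  infer_instance

set_option backward.isDefEq.respectTransparency.types false in
set_option backward.defeqAttrib.useBackward true in
/-- The extensions at a point whose self-pairs lie on the diagonal are purely inseparable. -/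
theorem isPurelyInseparable_of_forall_mem_diagonal (x : X)
    (h : ∀ p : ↥(pullback f f), pullback.fst f f p = x → pullback.snd f f p = x →
      p ∈ Set.range (pullback.diagonal f)) : (f.residueFieldMap x).hom.IsPurelyInseparable := by
  algebraize [(f.residueFieldMap x).hom]
  rw [RingHom.IsPurelyInseparable, isPurelyInseparable_iff_subsingleton_emb, subsingleton_iff]
  intro σ₁ σ₂
  apply AlgHom.coe_ringHom_injective
  let g₁ := (X.SpecToEquivOfField _).symm ⟨_, CommRingCat.ofHom σ₁.toRingHom⟩
  let g₂ := (X.SpecToEquivOfField _).symm ⟨_, CommRingCat.ofHom σ₂.toRingHom⟩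
  suffices X.SpecToEquivOfField _ g₁ = X.SpecToEquivOfField _ g₂ by
    rw [Equiv.apply_symm_apply, Equiv.apply_symm_apply] at this
    exact congr($(this).2.hom)
  let φ := pullback.lift (f := f) (g := f) g₁ g₂ <| by
    simp only [g₁, g₂, Scheme.SpecToEquivOfField_symm_apply, AlgHom.toRingHom_eq_coe,
      Category.assoc, ← f.SpecMap_residueFieldMap_fromSpecResidueField x, ← Spec.map_comp_assoc]
    congr 2
    ext a
    simp only [CommRingCat.hom_comp, RingHom.comp_apply]
    exact (AlgHom.commutes σ₁ a).trans (AlgHom.commutes σ₂ a).symm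
  have q_fst : φ ≫ pullback.fst f f = g₁ := pullback.lift_fst _ _ _
  have q_snd : φ ≫ pullback.snd f f = g₂ := pullback.lift_snd _ _ _
  rw [Scheme.SpecToEquivOfField_eq_iff, ← q_fst, ← q_snd]
  have h1 : pullback.fst f f (φ (IsLocalRing.closedPoint _)) = x := by
    rw [← Scheme.Hom.comp_apply, q_fst]
    simp [g₁, Scheme.SpecToEquivOfField_symm_apply]
  have h2 : pullback.snd f f (φ (IsLocalRing.closedPoint _)) = x := by
    rw [← Scheme.Hom.comp_apply, q_snd]
    simp [g₂, Scheme.SpecToEquivOfField_symm_apply]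
  obtain ⟨u, hu⟩ := h _ h1 h2
  have hux : u = x := by
    have := congr(pullback.fst f f $(hu))
    rw [← Scheme.Hom.comp_apply, ← Scheme.Hom.comp_apply] at this
    simpa [Scheme.SpecToEquivOfField_symm_apply, q_fst, g₁] using this
  refine ⟨by simp [g₁, g₂, q_fst, q_snd], ?_⟩
  dsimp
  simp only [Scheme.descResidueField_stalkClosedPointTo_comp, ← Category.assoc]
  congr 1
  rw [← cancel_mono (Scheme.residueFieldCongr (hux ▸ hu).symm).hom]
  have : Mono (Scheme.Hom.residueFieldMap (pullback.diagonal f) x) :=
    ConcreteCategory.mono_of_injective _ (RingHom.injective _)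
  simp [← cancel_mono ((pullback.diagonal f).residueFieldMap x), ← Scheme.residueFieldMap_comp,
    (pullback.fst f f).residueFieldMap_congr', (pullback.snd f f).residueFieldMap_congr'_assoc,
    Scheme.Hom.residueFieldMap_congr (pullback.diagonal_snd f),
    Scheme.Hom.residueFieldMap_congr (pullback.diagonal_fst f)]

end Groth.Agent.CommAlg4.WellIntersect
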