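import Groth.Agent.CommAlg4.WittTwist
import Mathlib.RingTheory.WittVector.Identities
import Mathlib.RingTheory.WittVector.Truncated
import Mathlib.RingTheory.WittVector.Domain
import Mathlib.Data.ZMod.Basic
import Mathlib.Tactic

/-!
# Witt vectors of weakly cyclic extensions

`[c] * V^n η` is a finite combination `∑ f (V^n x) * [y ^ s]`.
-/

set_option linter.all false
set_option autoImplicit false

universe u

noncomputable section

namespace Groth.Agent.CommAlg4.WittCyclic

open WittVector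

variable {p : ℕ} [hp : Fact p.Prime] {R : Type u} [CommRing R]

local notation "W" => WittVector p

/-- iterated Verschiebung as an additive map -/
def Vi : ℕ → (W R →+ W R)
  | 0 => AddMonoidHom.id _
  | n + 1 => (verschiebung : W R →+ W R).comp (Vi n)

theorem Vi_eq (n : ℕ) (x : W R) : Vi n x = (⇑(verschiebung : W R →+ W R))^[n] x := by
  induction n with
  | zero => rfl
  | succ n ih => rw [Function.iterate_succ_apply', ← ih]; rfl

theorem Vi_Vi (m n : ℕ) (x : W R) : Vi m (Vi n x) = Vi (m + n) x := by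
  rw [Vi_eq, Vi_eq, Vi_eq, Function.iterate_add_apply]

theorem map_Vi {S : Type u} [CommRing S] (f : R →+* S) (n : ℕ) (x : W R) :
    WittVector.map f (Vi n x) = Vi n (WittVector.map f x) := by
  induction n with
  | zero => rfl
  | succ n ih =>
    show WittVector.map f (verschiebung (Vi n x)) = verschiebung (Vi n (WittVector.map f x))
    rw [map_verschiebung, ih]

theorem mem_ker_Vi {M k : ℕ} (h : k ≤ M) (x : W R) :
    Vi M x ∈ RingHom.ker (WittVector.truncate (p := p) (R := R) k) := by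
  rw [mem_ker_truncate]
  intro i hi
  rw [Vi_eq]
  exact iterate_verschiebung_coeff_eq_zero x (lt_of_lt_of_le hi h)

theorem Vi_mul [CharP R p] (M : ℕ) (z : W R) (w : R) :
    Vi M z * teichmuller p w = Vi M (z * teichmuller p (w ^ p ^ M)) := by
  rw [Vi_eq, iterate_verschiebung_mul_left, ← Vi_eq]
  congr 2
  ext k
  rw [iterate_frobenius_coeff]
  cases k with
  | zero => rw [teichmuller_coeff_zero, teichmuller_coeff_zero]
  | succ k =>
    rw [teichmuller_coeff_pos _ _ _ (Nat.succ_pos k), teichmuller_coeff_pos _ _ _ (Nat.succ_pos k),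
      zero_pow (pow_ne_zero _ hp.out.pos.ne')]

theorem exists_exponent (ℓ P : ℕ) (hℓ : 0 < ℓ) (h : Nat.Coprime P ℓ) :
    ∃ s, s < ℓ + 1 ∧ 0 < s ∧ ∃ e, ℓ * P + 1 = s * P + ℓ * e := by
  have : NeZero ℓ := ⟨hℓ.ne'⟩
  let t := ((P : ZMod ℓ)⁻¹).val
  let s := if t = 0 then ℓ else t
  have hs1 : (s : ZMod ℓ) = (P : ZMod ℓ)⁻¹ := by
    have ht : (t : ZMod ℓ) = (P : ZMod ℓ)⁻¹ := ZMod.natCast_zmod_val _
    by_cases h0 : t = 0
    · simp only [s, if_pos h0]
      rw [ZMod.natCast_self, ← ht, h0, Nat.cast_zero]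
    · simp only [s, if_neg h0]; exact ht
  have hsle : s ≤ ℓ := by
    by_cases h0 : t = 0
    · simp [s, if_pos h0]
    · simp only [s, if_neg h0]; exact (ZMod.val_lt _).le
  have hspos : 0 < s := by
    by_cases h0 : t = 0
    · simp [s, if_pos h0, hℓ]
    · simp only [s, if_neg h0]; exact Nat.pos_of_ne_zero h0
  have hle : s * P ≤ ℓ * P + 1 := (Nat.mul_le_mul_right P hsle).trans (Nat.le_succ _)
  have hdvd : ℓ ∣ ℓ * P + 1 - s * P := by
    rw [← ZMod.natCast_eq_zero_iff, Nat.cast_sub hle]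
    push_cast
    rw [hs1, mul_comm (P : ZMod ℓ)⁻¹, ZMod.coe_mul_inv_eq_one P h, ZMod.natCast_self]
    ring
  obtain ⟨e, he⟩ := hdvd
  exact ⟨s, Nat.lt_succ_of_le hsle, hspos, e, by omega⟩

variable (p) in
/-- Main statement. -/
theorem exists_combination {ℓ : ℕ} (hℓ : 0 < ℓ) (hpℓ : ¬ p ∣ ℓ) {A B : Type u} [CommRing A]
    [CommRing B] [IsDomain A] [IsDomain B] [Algebra A B] [CharP A p] [CharP B p]
    (hinj : Function.Injective (algebraMap A B)) (y : Finset B)
    (hspan : Submodule.span A (y : Set B) = ⊤)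
    (hpow : ∀ b ∈ y, b ^ ℓ ∈ Set.range (algebraMap A B)) :
    ∃ c : A, c ≠ 0 ∧ ∀ (n : ℕ) (η : W B), ∃ x : {b // b ∈ y} × Fin (ℓ + 1) → W A,
      teichmuller p (algebraMap A B c) * Vi n η =
        ∑ q, WittVector.map (algebraMap A B) (Vi n (x q)) * teichmuller p ((q.1 : B) ^ (q.2 : ℕ)) := by
  classical
  set f := algebraMap A B
  have ha : ∀ b : {b // b ∈ y}, ∃ a : A, a ≠ 0 ∧ (b : B) * f a = (b : B) * (b : B) ^ ℓ := by
    intro b
    by_cases hb : (b : B) = 0
    · exact ⟨1, one_ne_zero, by simp [hb]⟩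
    · obtain ⟨a, ha⟩ := hpow b.1 b.2
      refine ⟨a, fun h => hb ?_, by rw [ha]⟩
      rw [h, map_zero] at ha
      exact pow_eq_zero_iff hℓ.ne' |>.mp ha.symm
  choose a ha0 hab using ha
  refine ⟨∏ b, a b, Finset.prod_ne_zero_iff.mpr fun b _ => ha0 b, fun n η => ?_⟩
  -- exponents
  have hex : ∀ M : ℕ, ∀ b : {b // b ∈ y}, ∃ (s : Fin (ℓ + 1)) (α : A),
      f (∏ b, a b) ^ p ^ M * (b : B) = f α * ((b : B) ^ (s : ℕ)) ^ p ^ M := by
    intro M b
    obtain ⟨s, hs, hs0, e, he⟩ := exists_exponent ℓ (p ^ M) hℓ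
      (Nat.Coprime.pow_left _ ((hp.out.coprime_iff_not_dvd).mpr hpℓ))
    refine ⟨⟨s, hs⟩, (∏ i ∈ Finset.univ.erase b, a i) ^ p ^ M * a b ^ e, ?_⟩
    have hpow' : ∀ k, (b : B) * f (a b) ^ k = (b : B) * ((b : B) ^ ℓ) ^ k := by
      intro k
      induction k with
      | zero => simp
      | succ k ih =>
        rw [pow_succ, pow_succ, ← mul_assoc, ih, mul_right_comm, hab, mul_right_comm, mul_assoc]
    have hbs : ∀ k, f (a b) ^ k * ((b : B) ^ s) ^ p ^ M = (b : B) ^ (ℓ * k + s * p ^ M) := by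
      intro k
      obtain ⟨t, ht⟩ : ∃ t, s * p ^ M = t + 1 :=
        ⟨s * p ^ M - 1, by have := Nat.mul_pos hs0 (pow_pos hp.out.pos M); omega⟩
      rw [← pow_mul, ht, pow_succ', ← mul_assoc, mul_comm (f (a b) ^ k), hpow']
      ring
    show f (∏ b, a b) ^ p ^ M * (b : B) = f _ * ((b : B) ^ s) ^ p ^ M
    rw [← Finset.mul_prod_erase Finset.univ a (Finset.mem_univ b), map_mul f (a b),
      map_mul f, map_pow, map_pow, mul_pow, mul_assoc, mul_assoc (f _ ^ p ^ M), hbs,
      show ℓ * e + s * p ^ M = ℓ * p ^ M + 1 by omega, mul_left_comm]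
    congr 1
    rw [mul_comm, hpow', pow_succ, ← pow_mul, mul_comm (b : B)]
  choose s α hsα using hex
  -- digits
  have hdig : ∀ r : W B, ∃ (β : {b // b ∈ y} → A) (r' : W B),
      r = (∑ b : {b // b ∈ y}, teichmuller p (f (β b) * (b : B))) + verschiebung r' := by
    intro r
    have : r.coeff 0 ∈ Submodule.span A (Set.range fun b : {b // b ∈ y} => (b : B)) := by
      have hr : (Set.range fun b : {b // b ∈ y} => (b : B)) = (y : Set B) := Subtype.range_coe_subtype
      rw [hr, hspan]; trivial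
    obtain ⟨β, hβ⟩ := (Submodule.mem_span_range_iff_exists_fun A).mp this
    set d := r - ∑ b : {b // b ∈ y}, teichmuller p (f (β b) * (b : B))
    have hd : d.coeff 0 = 0 := by
      show WittVector.constantCoeff d = 0
      rw [map_sub, map_sum, sub_eq_zero]
      show r.coeff 0 = ∑ b : {b // b ∈ y}, (teichmuller p (f (β b) * (b : B))).coeff 0
      rw [← hβ]
      simp [teichmuller_coeff_zero, Algebra.smul_def, f, WittVector.mul_coeff_zero]
    refine ⟨β, d.shift 1, ?_⟩
    have := eq_iterate_verschiebung (x := d) (n := 1) (fun i hi => by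
      rw [Nat.lt_one_iff.mp hi]; exact hd)
    simp only [Function.iterate_one] at this
    rw [← this]
    simp [d]
  choose β nxt hnxt using hdig
  let r : ℕ → W B := fun N => nxt^[N] η
  have hN : ∀ N, η = (∑ j ∈ Finset.range N, ∑ b : {b // b ∈ y},
      Vi j (teichmuller p (f (β (r j) b) * (b : B)))) + Vi N (r N) := by
    intro N
    induction N with
    | zero => simp [r, Vi]
    | succ N ih =>
      rw [Finset.sum_range_succ, add_assoc]
      conv_lhs => rw [ih]
      congr 1
      rw [show r (N + 1) = nxt (r N) from Function.iterate_succ_apply' nxt N η, ← map_sum]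
      conv_lhs => rw [hnxt (r N), map_add]
      congr 1
      rw [show Vi (N + 1) (nxt (r N)) = Vi N (Vi 1 (nxt (r N))) from (Vi_Vi N 1 _).symm]
      rfl
  let term : ℕ → {b // b ∈ y} × Fin (ℓ + 1) → W A := fun j q =>
    if s (n + j) q.1 = q.2 then Vi j (teichmuller p (β (r j) q.1 * α (n + j) q.1)) else 0
  let xN : ℕ → {b // b ∈ y} × Fin (ℓ + 1) → W A := fun N q => ∑ j ∈ Finset.range N, term j q
  let x : {b // b ∈ y} × Fin (ℓ + 1) → W A := fun q => WittVector.mk p fun k => (xN (k + 1) q).coeff k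
  have hterm : ∀ j q N, N ≤ j → term j q ∈ RingHom.ker (WittVector.truncate (p := p) (R := A) N) := by
    intro j q N hj
    by_cases h : s (n + j) q.1 = q.2
    · simp only [term, if_pos h]; exact mem_ker_Vi hj _
    · simp only [term, if_neg h]; exact Submodule.zero_mem _
  have hx : ∀ N q, x q - xN N q ∈ RingHom.ker (WittVector.truncate (p := p) (R := A) N) := by
    intro N q
    rw [RingHom.mem_ker, map_sub, sub_eq_zero]
    apply TruncatedWittVector.ext
    intro i
    simp only [coeff_truncate]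
    show (xN (i + 1) q).coeff i = (xN N q).coeff i
    have h1 : xN N q - xN (i + 1) q ∈ RingHom.ker (WittVector.truncate (p := p) (R := A) (i + 1)) := by
      rw [show xN N q - xN (i + 1) q = ∑ j ∈ Finset.Ico (i.1 + 1) N, term j q from
        (Finset.sum_Ico_eq_sub _ (by omega)).symm]
      exact Submodule.sum_mem _ fun j hj => hterm j q _ (Finset.mem_Ico.mp hj).1
    rw [RingHom.mem_ker, map_sub, sub_eq_zero] at h1
    have h2 := congrArg (TruncatedWittVector.coeff ⟨i.1, Nat.lt_succ_self _⟩) h1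
    rw [coeff_truncate, coeff_truncate] at h2
    exact h2.symm
  refine ⟨x, sub_eq_zero.mp ?_⟩
  set D := teichmuller p (f (∏ b, a b)) * Vi n η -
    ∑ q, WittVector.map f (Vi n (x q)) * teichmuller p ((q.1 : B) ^ (q.2 : ℕ))
  suffices ∀ N, D ∈ RingHom.ker (WittVector.truncate (p := p) (R := B) N) by
    ext k
    rw [zero_coeff]
    exact (mem_ker_truncate (k + 1) D).mp (this (k + 1)) k (Nat.lt_succ_self k)
  intro N
  have hmain : teichmuller p (f (∏ b, a b)) * Vi n (∑ j ∈ Finset.range N, ∑ b : {b // b ∈ y},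
        Vi j (teichmuller p (f (β (r j) b) * (b : B)))) =
      ∑ q, WittVector.map f (Vi n (xN N q)) * teichmuller p ((q.1 : B) ^ (q.2 : ℕ)) := by
    simp only [xN, map_sum, Finset.mul_sum, Finset.sum_mul]
    conv_rhs => rw [Finset.sum_comm]
    refine Finset.sum_congr rfl fun j _ => ?_
    rw [Fintype.sum_prod_type]
    refine Finset.sum_congr rfl fun b _ => ?_
    rw [Finset.sum_eq_single (s (n + j) b) (fun t _ ht => by simp [term, Ne.symm ht])
      (fun h => absurd (Finset.mem_univ _) h)]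
    simp only [term, if_pos, Vi_Vi, map_Vi, WittVector.map_teichmuller]
    rw [mul_comm, Vi_mul, Vi_mul, ← map_mul, ← map_mul, map_mul f]
    congr 2
    linear_combination f (β (r j) b) * hsα (n + j) b
  have hD : D = teichmuller p (f (∏ b, a b)) * Vi n (Vi N (r N)) -
      ∑ q, WittVector.map f (Vi n (x q - xN N q)) * teichmuller p ((q.1 : B) ^ (q.2 : ℕ)) := by
    simp only [D, map_sub, sub_mul, Finset.sum_sub_distrib]
    rw [← hmain]
    conv_lhs => rw [hN N, map_add, mul_add]
    abel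
  rw [hD]
  refine Submodule.sub_mem _ (Ideal.mul_mem_left _ _ ?_)
    (Submodule.sum_mem _ fun q _ => Ideal.mul_mem_right _ _ ?_)
  · rw [Vi_Vi]; exact mem_ker_Vi (Nat.le_add_left _ _) _
  · rw [eq_iterate_verschiebung ((mem_ker_truncate N _).mp (hx N q)), ← Vi_eq, Vi_Vi, map_Vi]
    exact mem_ker_Vi (Nat.le_add_left _ _) _

end Groth.Agent.CommAlg4.WittCyclic
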