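import Mathlib
import Groth.Prelude

/-!
Descent of modules over truncated Witt vectors: computation of the canonical descent datum and full faithfulness.
-/
set_option autoImplicit false
set_option linter.all false
set_option maxHeartbeats 1000000
universe u
open CategoryTheory Opposite
open scoped ChangeOfRings TensorProduct
open W4c3truncdispsmooth

namespace Groth.Agent.CommAlg4.WittDescFF

variable (p : ℕ) [Fact p.Prime] (n : ℕ)

theorem es_map₂_tmul {A B : CommRingCat.{u}} {f f' : LocallyDiscrete.mk A ⟶ LocallyDiscrete.mk B} (η : f ⟶ f')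
    (M : ModuleCat.{u} A) (b : B) (m : M) :
    ((CommRingCat.moduleCatExtendScalarsPseudofunctor.map₂ η).toNatTrans.app M).hom (b ⊗ₜ[A, f.as.hom] m) =
      b ⊗ₜ[A, f'.as.hom] m := by
  obtain rfl := LocallyDiscrete.eq_of_hom η
  obtain rfl : η = 𝟙 f := Subsingleton.elim _ _
  rw [PrelaxFunctor.map₂_id]
  rfl

/-- `m ↦ 1 ⊗ m` -/
noncomputable def eta {A B : Type u} [CommRing A] [CommRing B] (f : A →+* B) {M : ModuleCat.{u} A} (m : M) :
    (ModuleCat.extendScalars.{u,u,u} f).obj M := (1 : B) ⊗ₜ[A, f] m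

theorem es_map₂_eta {A B : CommRingCat.{u}} {f f' : LocallyDiscrete.mk A ⟶ LocallyDiscrete.mk B} (η : f ⟶ f')
    (M : ModuleCat.{u} A) (m : M) :
    ((CommRingCat.moduleCatExtendScalarsPseudofunctor.map₂ η).toNatTrans.app M).hom (eta f.as.hom m) =
      eta f'.as.hom m :=
  es_map₂_tmul η M 1 m

theorem wmc_tmul {R R' R'' : Type u} [CommRing R] [CommRing R'] [CommRing R''] (a : R →+* R') (b : R' →+* R'')
    (c : R →+* R'') (h : b.comp a = c) (M : ModuleCat.{u} (TruncatedWittVector p n R)) (m : M) :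
    (((wittModPF p n).mapComp' (CommRingCat.ofHom a).op.op.toLoc (CommRingCat.ofHom b).op.op.toLoc
      (CommRingCat.ofHom c).op.op.toLoc (by subst h; rfl)).hom.toNatTrans.app M).hom
        (eta (WittGrp.truncMap p n c) m) =
      (eta (WittGrp.truncMap p n b) (eta (M := M) (WittGrp.truncMap p n a) m) :
        (ModuleCat.extendScalars (WittGrp.truncMap p n b)).obj ((ModuleCat.extendScalars (WittGrp.truncMap p n a)).obj M)) := by
  subst h
  erw [Pseudofunctor.mapComp'_eq_mapComp]
  show (((CommRingCat.moduleCatExtendScalarsPseudofunctor.map₂Iso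
    (((unopUnop CommRingCat.{u}) ⋙ wittTrunc p n).toPseudofunctor.mapComp
       (CommRingCat.ofHom a).op.op.toLoc (CommRingCat.ofHom b).op.op.toLoc) ≪≫
    CommRingCat.moduleCatExtendScalarsPseudofunctor.mapComp _ _).hom).toNatTrans.app M).hom _ = _
  let η := (((unopUnop CommRingCat.{u}) ⋙ wittTrunc p n).toPseudofunctor.mapComp
       (CommRingCat.ofHom a).op.op.toLoc (CommRingCat.ofHom b).op.op.toLoc).hom
  exact (congrArg (fun z => ((CommRingCat.moduleCatExtendScalarsPseudofunctor.mapComp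
      (((unopUnop CommRingCat.{u}) ⋙ wittTrunc p n).toPseudofunctor.map (CommRingCat.ofHom a).op.op.toLoc)
      (((unopUnop CommRingCat.{u}) ⋙ wittTrunc p n).toPseudofunctor.map (CommRingCat.ofHom b).op.op.toLoc)).hom.toNatTrans.app M).hom z)
        (es_map₂_eta η M m)).trans
    (ModuleCat.extendScalarsComp_hom_app_one_tmul _ _ M m)

theorem eta_smul {A B : Type u} [CommRing A] [CommRing B] (f : A →+* B) {M : ModuleCat.{u} A} (r : A) (m : M) :
    eta f (r • m) = f r • eta f m := by
  letI := f.toAlgebra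
  show (1 : B) ⊗ₜ[A] (r • m) = (f r * 1) ⊗ₜ[A] m
  rw [← TensorProduct.smul_tmul]
  rfl

theorem smul_eta {A B : Type u} [CommRing A] [CommRing B] (f : A →+* B) {M : ModuleCat.{u} A} (b : B) (m : M) :
    b • eta f m = (b ⊗ₜ[A, f] m : (ModuleCat.extendScalars.{u,u,u} f).obj M) :=
  (ModuleCat.ExtendScalars.smul_tmul (f := f) b 1 m).trans (by rw [mul_one]; rfl)

theorem eta_add {A B : Type u} [CommRing A] [CommRing B] (f : A →+* B) {M : ModuleCat.{u} A} (m m' : M) :
    eta f (m + m') = eta f m + eta f m' := by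
  letI := f.toAlgebra
  exact TensorProduct.tmul_add (1 : B) m m'

/-- The equalizer statement for a flat module along `g : A → B` with two maps `ψ₁ ψ₂ : B → C`. -/
theorem flat_eq {A B C : Type u} [CommRing A] [CommRing B] [CommRing C] (g : A →+* B) (c : A →+* C)
    (ψ₁ ψ₂ : B →+* C) (h₁ : ψ₁.comp g = c) (h₂ : ψ₂.comp g = c) (hg : Function.Injective g)
    (hex : ∀ b, ψ₁ b = ψ₂ b → b ∈ Set.range g)
    (N : ModuleCat.{u} A) [Module.Flat A N] :
    Function.Injective (fun m : N => eta g m) ∧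
    ∀ (P₁ P₂ : (ModuleCat.extendScalars.{u,u,u} g).obj N →+ (ModuleCat.extendScalars.{u,u,u} c).obj N),
      (∀ (w : B) (m : N), P₁ (w • eta g m) = ψ₁ w • eta c m) →
      (∀ (w : B) (m : N), P₂ (w • eta g m) = ψ₂ w • eta c m) →
      ∀ y, P₁ y = P₂ y → ∃ m, eta g m = y := by
  letI := g.toAlgebra
  letI := c.toAlgebra
  let f : A →ₗ[A] B := Algebra.linearMap A B
  let φ₁ : B →ₐ[A] C := { ψ₁ with commutes' := fun a => RingHom.congr_fun h₁ a }
  let φ₂ : B →ₐ[A] C := { ψ₂ with commutes' := fun a => RingHom.congr_fun h₂ a }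
  let d : B →ₗ[A] C := φ₁.toLinearMap - φ₂.toLinearMap
  have hf : Function.Exact f d := by
    intro b
    constructor
    · intro hb
      exact hex b (sub_eq_zero.mp hb)
    · rintro ⟨a, rfl⟩
      exact sub_eq_zero.mpr ((φ₁.commutes a).trans (φ₂.commutes a).symm)
  have hι : ∀ m : N, (eta g m : B ⊗[A] N) = f.rTensor N ((1 : A) ⊗ₜ[A] m) := fun m => by
    show _ = (g 1) ⊗ₜ[A] m
    rw [map_one]; rfl
  constructor
  · intro m m' h
    have : f.rTensor N ((1 : A) ⊗ₜ[A] m) = f.rTensor N ((1 : A) ⊗ₜ[A] m') :=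
      (hι m).symm.trans (Eq.trans h (hι m'))
    have := Module.Flat.rTensor_preserves_injective_linearMap (M := N) f hg this
    simpa using congrArg (TensorProduct.lid A N) this
  · intro P₁ P₂ hP₁ hP₂ y hy
    have key : ∀ z : B ⊗[A] N, (d.rTensor N z : C ⊗[A] N) = (P₁ z - P₂ z : (ModuleCat.extendScalars.{u,u,u} c).obj N) := by
      intro z
      induction z using TensorProduct.induction_on with
      | zero => exact (map_zero _).trans ((congrArg₂ (· - ·) (map_zero P₁) (map_zero P₂)).trans (sub_zero _)).symm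
      | tmul w m =>
        have e1 : P₁ (w ⊗ₜ[A, g] m) = (ψ₁ w ⊗ₜ[A, c] m : (ModuleCat.extendScalars.{u,u,u} c).obj N) :=
          (congrArg P₁ (smul_eta g w m).symm).trans ((hP₁ w m).trans (smul_eta c _ m))
        have e2 : P₂ (w ⊗ₜ[A, g] m) = (ψ₂ w ⊗ₜ[A, c] m : (ModuleCat.extendScalars.{u,u,u} c).obj N) :=
          (congrArg P₂ (smul_eta g w m).symm).trans ((hP₂ w m).trans (smul_eta c _ m))
        exact (TensorProduct.sub_tmul (ψ₁ w) (ψ₂ w) m).trans (congrArg₂ (· - ·) e1 e2).symm
      | add a b ha hb =>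
        have e : ∀ (P : (ModuleCat.extendScalars.{u,u,u} g).obj N →+ (ModuleCat.extendScalars.{u,u,u} c).obj N),
            P (a + b : B ⊗[A] N) = P a + P b := fun P => P.map_add a b
        exact (map_add _ a b).trans ((congrArg₂ (· + ·) ha hb).trans
          ((add_sub_add_comm _ _ _ _).symm.trans (congrArg₂ (· - ·) (e P₁) (e P₂)).symm))
    obtain ⟨z, hz⟩ := (Module.Flat.rTensor_exact N hf y).mp ((key y).trans (sub_eq_zero.mpr hy))
    refine ⟨TensorProduct.lid A N z, ?_⟩
    rw [← hz]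
    refine (hι _).trans ?_
    congr 1
    exact (TensorProduct.lid A N).injective (by simp)

section
variable {p n}
variable {R R' R'' : Type u} [CommRing R] [CommRing R'] [CommRing R'']

/-- The component of the inverse of such an isomorphism, with its concrete type. A regular definition, so that the
kernel compares its arguments before unfolding. -/
noncomputable def appI {a : R →+* R'} {b : R' →+* R''} {c : R →+* R''}
    (j : @CategoryTheory.Iso _ (Bicategory.homCategory _ _) ((wittModPF p n).map (CommRingCat.ofHom c).op.op.toLoc)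
      ((wittModPF p n).map (CommRingCat.ofHom a).op.op.toLoc ≫ (wittModPF p n).map (CommRingCat.ofHom b).op.op.toLoc))
    (M : ModuleCat.{u} (TruncatedWittVector p n R)) :
    (ModuleCat.extendScalars.{u,u,u} (WittGrp.truncMap p n b)).obj
      ((ModuleCat.extendScalars.{u,u,u} (WittGrp.truncMap p n a)).obj M) ⟶
      (ModuleCat.extendScalars.{u,u,u} (WittGrp.truncMap p n c)).obj M :=
  j.inv.toNatTrans.app M

/-- The component of such an isomorphism, with its concrete type. -/
noncomputable def appH {a : R →+* R'} {b : R' →+* R''} {c : R →+* R''}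
    (j : @CategoryTheory.Iso _ (Bicategory.homCategory _ _) ((wittModPF p n).map (CommRingCat.ofHom c).op.op.toLoc)
      ((wittModPF p n).map (CommRingCat.ofHom a).op.op.toLoc ≫ (wittModPF p n).map (CommRingCat.ofHom b).op.op.toLoc))
    (M : ModuleCat.{u} (TruncatedWittVector p n R)) :
    (ModuleCat.extendScalars.{u,u,u} (WittGrp.truncMap p n c)).obj M ⟶
    (ModuleCat.extendScalars.{u,u,u} (WittGrp.truncMap p n b)).obj
      ((ModuleCat.extendScalars.{u,u,u} (WittGrp.truncMap p n a)).obj M) :=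
  j.hom.toNatTrans.app M

/-- The inverse of the composition isomorphism, with its concrete type. -/
noncomputable abbrev mcInv (a : R →+* R') (b : R' →+* R'') (c : R →+* R'') (h : b.comp a = c)
    (M : ModuleCat.{u} (TruncatedWittVector p n R)) :
    (ModuleCat.extendScalars.{u,u,u} (WittGrp.truncMap p n b)).obj
      ((ModuleCat.extendScalars.{u,u,u} (WittGrp.truncMap p n a)).obj M) ⟶
      (ModuleCat.extendScalars.{u,u,u} (WittGrp.truncMap p n c)).obj M :=
  appI ((wittModPF p n).mapComp' (CommRingCat.ofHom a).op.op.toLoc (CommRingCat.ofHom b).op.op.toLoc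
      (CommRingCat.ofHom c).op.op.toLoc (by subst h; rfl)) M

/-- The composition isomorphism, with its concrete type. -/
noncomputable abbrev mcHom (a : R →+* R') (b : R' →+* R'') (c : R →+* R'') (h : b.comp a = c)
    (M : ModuleCat.{u} (TruncatedWittVector p n R)) :
    (ModuleCat.extendScalars.{u,u,u} (WittGrp.truncMap p n c)).obj M ⟶
    (ModuleCat.extendScalars.{u,u,u} (WittGrp.truncMap p n b)).obj
      ((ModuleCat.extendScalars.{u,u,u} (WittGrp.truncMap p n a)).obj M) :=
  appH ((wittModPF p n).mapComp' (CommRingCat.ofHom a).op.op.toLoc (CommRingCat.ofHom b).op.op.toLoc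
      (CommRingCat.ofHom c).op.op.toLoc (by subst h; rfl)) M

theorem app_comm {a : R →+* R'} {b₁ b₂ : R' →+* R''} {c : R →+* R''}
    (j₁ : @CategoryTheory.Iso _ (Bicategory.homCategory _ _) ((wittModPF p n).map (CommRingCat.ofHom c).op.op.toLoc)
      ((wittModPF p n).map (CommRingCat.ofHom a).op.op.toLoc ≫ (wittModPF p n).map (CommRingCat.ofHom b₁).op.op.toLoc))
    (j₂ : @CategoryTheory.Iso _ (Bicategory.homCategory _ _) ((wittModPF p n).map (CommRingCat.ofHom c).op.op.toLoc)
      ((wittModPF p n).map (CommRingCat.ofHom a).op.op.toLoc ≫ (wittModPF p n).map (CommRingCat.ofHom b₂).op.op.toLoc))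
    (M N : ModuleCat.{u} (TruncatedWittVector p n R))
    (k : ((wittModPF p n).map (CommRingCat.ofHom a).op.op.toLoc).toFunctor.obj M ⟶
      ((wittModPF p n).map (CommRingCat.ofHom a).op.op.toLoc).toFunctor.obj N)
    (h : ((wittModPF p n).map (CommRingCat.ofHom b₁).op.op.toLoc).toFunctor.map k ≫
        (j₁.inv.toNatTrans.app N ≫ j₂.hom.toNatTrans.app N) =
      (j₁.inv.toNatTrans.app M ≫ j₂.hom.toNatTrans.app M) ≫
        ((wittModPF p n).map (CommRingCat.ofHom b₂).op.op.toLoc).toFunctor.map k) :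
    (ModuleCat.extendScalars.{u,u,u} (WittGrp.truncMap p n b₁)).map k ≫ (appI j₁ N ≫ appH j₂ N) =
      (appI j₁ M ≫ appH j₂ M) ≫ (ModuleCat.extendScalars.{u,u,u} (WittGrp.truncMap p n b₂)).map k :=
  h

theorem iso_app {C D : Cat} {F G : C ⟶ D} (i : F ≅ G) (X : C) :
    i.hom.toNatTrans.app X ≫ i.inv.toNatTrans.app X = 𝟙 _ :=
  NatTrans.congr_app (congrArg Cat.Hom₂.toNatTrans i.hom_inv_id) X

theorem mcHom_mcInv (a : R →+* R') (b : R' →+* R'') (c : R →+* R'') (h : b.comp a = c)
    (M : ModuleCat.{u} (TruncatedWittVector p n R)) : mcHom a b c h M ≫ mcInv a b c h M = 𝟙 _ :=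
  by
  subst h
  exact iso_app ((wittModPF p n).mapComp' (CommRingCat.ofHom a).op.op.toLoc (CommRingCat.ofHom b).op.op.toLoc
      (CommRingCat.ofHom (b.comp a)).op.op.toLoc rfl) M

theorem mcHom_eta (a : R →+* R') (b : R' →+* R'') (c : R →+* R'') (h : b.comp a = c)
    (M : ModuleCat.{u} (TruncatedWittVector p n R)) (m : M) :
    (mcHom a b c h M).hom (eta (WittGrp.truncMap p n c) m) =
      eta (WittGrp.truncMap p n b) (eta (WittGrp.truncMap p n a) m) :=
  by subst h; exact wmc_tmul p n a b _ rfl M m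

theorem mcInv_eta (a : R →+* R') (b : R' →+* R'') (c : R →+* R'') (h : b.comp a = c)
    (M : ModuleCat.{u} (TruncatedWittVector p n R)) (w : TruncatedWittVector p n R') (m : M) :
    (mcInv a b c h M).hom (eta (WittGrp.truncMap p n b) (w • eta (WittGrp.truncMap p n a) m)) =
      WittGrp.truncMap p n b w • eta (WittGrp.truncMap p n c) m := by
  subst h
  rw [eta_smul, map_smul, ← mcHom_eta a b _ rfl M m]
  exact congrArg _ (LinearMap.congr_fun (congrArg ModuleCat.Hom.hom (mcHom_mcInv a b _ rfl M)) _)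

end

theorem coeff_truncMap {R R' : Type u} [CommRing R] [CommRing R'] (f : R →+* R') (x : TruncatedWittVector p n R) (i : Fin n) :
    (WittGrp.truncMap p n f x).coeff i = f (x.coeff i) :=
  TruncatedWittVector.coeff_mk _ _

theorem truncMap_injective {R R' : Type u} [CommRing R] [CommRing R'] {f : R →+* R'} (hf : Function.Injective f) :
    Function.Injective (WittGrp.truncMap p n f) := fun x y hxy => TruncatedWittVector.ext fun i => hf (by
  rw [← coeff_truncMap p n f x i, ← coeff_truncMap p n f y i, hxy])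

theorem truncMap_equalizer (R R' : Type u) [CommRing R] [CommRing R'] [Algebra R R'] [Module.FaithfullyFlat R R']
    (y : TruncatedWittVector p n R')
    (hy : WittGrp.truncMap p n (Algebra.TensorProduct.includeLeftRingHom : R' →+* R' ⊗[R] R') y =
      WittGrp.truncMap p n ((Algebra.TensorProduct.includeRight : R' →ₐ[R] R' ⊗[R] R').toRingHom) y) :
    y ∈ Set.range (WittGrp.truncMap p n (algebraMap R R')) := by
  have hco : ∀ i, ∃ r, algebraMap R R' r = y.coeff i := fun i =>
    (Algebra.IsEffective.of_faithfullyFlat R R' (y.coeff i)).mp (by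
      have := congrArg (fun z => TruncatedWittVector.coeff i z) hy
      simp only [coeff_truncMap] at this
      rw [Algebra.TensorProduct.includeLeftSubRight_apply, sub_eq_zero]
      exact this)
  choose r hr using hco
  exact ⟨TruncatedWittVector.mk p r, TruncatedWittVector.ext fun i => by
    rw [coeff_truncMap, TruncatedWittVector.coeff_mk, hr]⟩

/-- The algebraic core of full faithfulness, with the composition isomorphisms abstracted. -/
theorem core {A B C : Type u} [CommRing A] [CommRing B] [CommRing C] (g : A →+* B) (c : A →+* C) (ψ₁ ψ₂ : B →+* C)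
    (h₁ : ψ₁.comp g = c) (h₂ : ψ₂.comp g = c) (hg : Function.Injective g)
    (hex : ∀ y, ψ₁ y = ψ₂ y → y ∈ Set.range g)
    (M N : ModuleCat.{u} A) [Module.Flat A N]
    (k : (ModuleCat.extendScalars.{u,u,u} g).obj M ⟶ (ModuleCat.extendScalars.{u,u,u} g).obj N)
    (I₁ : ∀ (X : ModuleCat.{u} A),
      (ModuleCat.extendScalars.{u,u,u} ψ₁).obj ((ModuleCat.extendScalars.{u,u,u} g).obj X) ⟶ (ModuleCat.extendScalars.{u,u,u} c).obj X)
    (I₂ : ∀ (X : ModuleCat.{u} A),
      (ModuleCat.extendScalars.{u,u,u} ψ₂).obj ((ModuleCat.extendScalars.{u,u,u} g).obj X) ⟶ (ModuleCat.extendScalars.{u,u,u} c).obj X)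
    (J : ∀ (X : ModuleCat.{u} A),
      (ModuleCat.extendScalars.{u,u,u} c).obj X ⟶ (ModuleCat.extendScalars.{u,u,u} ψ₂).obj ((ModuleCat.extendScalars.{u,u,u} g).obj X))
    (hI₁ : ∀ (X : ModuleCat.{u} A) (w : B) (x : X), (I₁ X).hom (eta ψ₁ (w • eta g x)) = ψ₁ w • eta c x)
    (hI₂ : ∀ (X : ModuleCat.{u} A) (w : B) (x : X), (I₂ X).hom (eta ψ₂ (w • eta g x)) = ψ₂ w • eta c x)
    (hJ : ∀ (X : ModuleCat.{u} A) (x : X), (J X).hom (eta c x) = eta ψ₂ (eta g x))
    (hJI : ∀ X, J X ≫ I₂ X = 𝟙 _)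
    (hh : (ModuleCat.extendScalars ψ₁).map k ≫ (I₁ N ≫ J N) = (I₁ M ≫ J M) ≫ (ModuleCat.extendScalars ψ₂).map k) :
    ∃ φ : M ⟶ N, (ModuleCat.extendScalars.{u,u,u} g).map φ = k := by
  obtain ⟨hinj, hrange⟩ := flat_eq g c ψ₁ ψ₂ h₁ h₂ hg hex N
  let P₁ : (ModuleCat.extendScalars g).obj N →+ (ModuleCat.extendScalars c).obj N :=
    AddMonoidHom.mk' (fun y => (I₁ N).hom (eta ψ₁ y)) (fun y y' => by rw [eta_add, map_add])
  let P₂ : (ModuleCat.extendScalars g).obj N →+ (ModuleCat.extendScalars c).obj N :=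
    AddMonoidHom.mk' (fun y => (I₂ N).hom (eta ψ₂ y)) (fun y y' => by rw [eta_add, map_add])
  have key : ∀ m : M, ∃ x : N, eta g x = k.hom (eta g m) := by
    intro m
    refine hrange P₁ P₂ (fun w x => hI₁ N w x) (fun w x => hI₂ N w x) _ ?_
    have e1 := LinearMap.congr_fun (congrArg ModuleCat.Hom.hom hh) (eta ψ₁ (eta g m))
    have eI : (I₁ M).hom (eta ψ₁ (eta g m)) = eta c m := by
      simpa only [one_smul, map_one] using hI₁ M 1 m
    have e2 : (J N).hom ((I₁ N).hom (eta ψ₁ (k.hom (eta g m)))) = eta ψ₂ (k.hom (eta g m)) :=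
      e1.trans (congrArg ((ModuleCat.extendScalars ψ₂).map k).hom ((congrArg (J M).hom eI).trans (hJ M m)))
    show (I₁ N).hom _ = (I₂ N).hom _
    rw [← e2]
    exact (LinearMap.congr_fun (congrArg ModuleCat.Hom.hom (hJI N)) _).symm
  choose ψ hψ using key
  let φ : M →ₗ[A] N :=
    { toFun := ψ
      map_add' := fun x y => hinj (by
        show eta _ (ψ (x + y)) = eta _ (ψ x + ψ y)
        rw [hψ, eta_add, eta_add, hψ, hψ]
        exact k.hom.map_add _ _)
      map_smul' := fun r x => hinj (by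
        show eta _ (ψ (r • x)) = eta _ (r • ψ x)
        rw [hψ, eta_smul, eta_smul, hψ]
        exact k.hom.map_smul _ _) }
  exact ⟨ModuleCat.ofHom φ, ModuleCat.ExtendScalars.hom_ext fun m => hψ m⟩

theorem generic_comm (F : Pseudofunctor (LocallyDiscrete (Opposite.{u+2} (Opposite.{u+2} CommRingCat.{u}))) Cat.{u, u + 1})
    {R R' T : Type u} [CommRing R] [CommRing R'] [CommRing T] (a : R →+* R') (i₁ i₂ : R' →+* T) (c : R →+* T)
    (M N : F.obj (LocallyDiscrete.mk (Opposite.op.{u+2} (Opposite.op.{u+2} (CommRingCat.of.{u} R)))))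
    (h : (F.toDescentData (fun _ : PUnit.{u + 1} => (CommRingCat.ofHom a).op)).obj M ⟶
      (F.toDescentData (fun _ : PUnit.{u + 1} => (CommRingCat.ofHom a).op)).obj N)
    (k : (F.map (CommRingCat.ofHom a).op.op.toLoc).toFunctor.obj M ⟶ (F.map (CommRingCat.ofHom a).op.op.toLoc).toFunctor.obj N)
    (hk : k = h.hom PUnit.unit)
    (hf₁ : (CommRingCat.ofHom i₁).op ≫ (CommRingCat.ofHom a).op = (CommRingCat.ofHom c).op)
    (hf₂ : (CommRingCat.ofHom i₂).op ≫ (CommRingCat.ofHom a).op = (CommRingCat.ofHom c).op)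
    (e₁ : (CommRingCat.ofHom a).op.op.toLoc ≫ (CommRingCat.ofHom i₁).op.op.toLoc = (CommRingCat.ofHom c).op.op.toLoc)
    (e₂ : (CommRingCat.ofHom a).op.op.toLoc ≫ (CommRingCat.ofHom i₂).op.op.toLoc = (CommRingCat.ofHom c).op.op.toLoc) :
    (F.map (CommRingCat.ofHom i₁).op.op.toLoc).toFunctor.map k ≫
      ((F.mapComp' _ _ _ e₁).inv.toNatTrans.app N ≫ (F.mapComp' _ _ _ e₂).hom.toNatTrans.app N) =
    ((F.mapComp' _ _ _ e₁).inv.toNatTrans.app M ≫ (F.mapComp' _ _ _ e₂).hom.toNatTrans.app M) ≫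
      (F.map (CommRingCat.ofHom i₂).op.op.toLoc).toFunctor.map k := by
  subst hk
  exact h.comm (CommRingCat.ofHom c).op (CommRingCat.ofHom i₁).op (CommRingCat.ofHom i₂).op hf₁ hf₂

theorem surj_comm {R R' T : Type u} [CommRing R] [CommRing R'] [CommRing T] [Algebra R R'] (i₁ i₂ : R' →+* T) (c : R →+* T)
    (hc₁ : i₁.comp (algebraMap R R') = c) (hc₂ : i₂.comp (algebraMap R R') = c)
    (e₁ : (CommRingCat.ofHom (algebraMap R R')).op.op.toLoc ≫ (CommRingCat.ofHom i₁).op.op.toLoc = (CommRingCat.ofHom c).op.op.toLoc)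
    (e₂ : (CommRingCat.ofHom (algebraMap R R')).op.op.toLoc ≫ (CommRingCat.ofHom i₂).op.op.toLoc = (CommRingCat.ofHom c).op.op.toLoc)
    (M N : ModuleCat.{u} (TruncatedWittVector p n R))
    (h : ((W4c3truncdispsmooth.wittModPF.{u} p n).toDescentData (fun _ : PUnit.{u + 1} => (CommRingCat.ofHom (algebraMap R R')).op)).obj M ⟶
      ((W4c3truncdispsmooth.wittModPF.{u} p n).toDescentData (fun _ : PUnit.{u + 1} => (CommRingCat.ofHom (algebraMap R R')).op)).obj N)
    (k : ((wittModPF p n).map (CommRingCat.ofHom (algebraMap R R')).op.op.toLoc).toFunctor.obj M ⟶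
      ((wittModPF p n).map (CommRingCat.ofHom (algebraMap R R')).op.op.toLoc).toFunctor.obj N)
    (hk : k = h.hom PUnit.unit) :
    (ModuleCat.extendScalars.{u,u,u} (WittGrp.truncMap p n i₁)).map k ≫
        (appI ((wittModPF p n).mapComp' _ _ _ e₁) N ≫ appH ((wittModPF p n).mapComp' _ _ _ e₂) N) =
      (appI ((wittModPF p n).mapComp' _ _ _ e₁) M ≫ appH ((wittModPF p n).mapComp' _ _ _ e₂) M) ≫
        (ModuleCat.extendScalars.{u,u,u} (WittGrp.truncMap p n i₂)).map k := by
  have hn := generic_comm (wittModPF p n) (algebraMap R R') i₁ i₂ c M N h k hk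
      (by subst hc₁; rfl) (by subst hc₂; rfl) e₁ e₂
  revert hn
  generalize (wittModPF p n).mapComp' _ _ _ e₁ = j₁
  generalize (wittModPF p n).mapComp' _ _ _ e₂ = j₂
  intro hn
  exact app_comm j₁ j₂ M N k hn

theorem fullyFaithful
    (R R' : Type u) [CommRing R] [CommRing R'] [Algebra R R'] [Module.FaithfullyFlat R R']
    (M N : ModuleCat.{u} (TruncatedWittVector p n R)) [Module.Flat (TruncatedWittVector p n R) N] :
    Function.Bijective (fun φ : M ⟶ N =>
      ((W4c3truncdispsmooth.wittModPF.{u} p n).toDescentData (fun _ : PUnit.{u + 1} => (CommRingCat.ofHom (algebraMap R R')).op)).map φ) := by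
  have hg := truncMap_injective p n (FaithfulSMul.algebraMap_injective R R')
  have hex := truncMap_equalizer p n R R'
  have hc₂ : ((Algebra.TensorProduct.includeRight : R' →ₐ[R] R' ⊗[R] R').toRingHom).comp (algebraMap R R') =
      (Algebra.TensorProduct.includeLeftRingHom : R' →+* R' ⊗[R] R').comp (algebraMap R R') :=
    RingHom.ext fun r => (Algebra.TensorProduct.includeRight : R' →ₐ[R] R' ⊗[R] R').commutes r
  revert hex hc₂
  generalize (Algebra.TensorProduct.includeLeftRingHom : R' →+* R' ⊗[R] R') = i₁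
  generalize ((Algebra.TensorProduct.includeRight : R' →ₐ[R] R' ⊗[R] R').toRingHom) = i₂
  intro hex hc₂
  have h₁ : (WittGrp.truncMap p n i₁).comp (WittGrp.truncMap p n (algebraMap R R')) =
      WittGrp.truncMap p n (i₁.comp (algebraMap R R')) := (WittGrp.truncMap_comp p n _ _).symm
  have h₂ : (WittGrp.truncMap p n i₂).comp (WittGrp.truncMap p n (algebraMap R R')) =
      WittGrp.truncMap p n (i₁.comp (algebraMap R R')) := by rw [← hc₂, WittGrp.truncMap_comp]
  constructor
  · intro φ φ' h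
    ext m
    have e1 : (ModuleCat.extendScalars.{u,u,u} (WittGrp.truncMap p n (algebraMap R R'))).map φ =
        (ModuleCat.extendScalars.{u,u,u} (WittGrp.truncMap p n (algebraMap R R'))).map φ' :=
      congrArg (fun z : _ ⟶ _ => Pseudofunctor.DescentData.Hom.hom z PUnit.unit) h
    exact (flat_eq _ _ _ _ h₁ h₂ hg hex N).1
      (LinearMap.congr_fun (congrArg ModuleCat.Hom.hom e1) (eta (WittGrp.truncMap p n (algebraMap R R')) m))
  · intro h
    obtain ⟨φ, hφ⟩ := core _ _ _ _ h₁ h₂ hg hex M N (h.hom PUnit.unit)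
      (mcInv (algebraMap R R') i₁ _ rfl) (mcInv (algebraMap R R') i₂ _ hc₂) (mcHom (algebraMap R R') i₂ _ hc₂)
      (mcInv_eta (algebraMap R R') i₁ _ rfl) (mcInv_eta (algebraMap R R') i₂ _ hc₂)
      (mcHom_eta (algebraMap R R') i₂ _ hc₂) (mcHom_mcInv (algebraMap R R') i₂ _ hc₂)
      (surj_comm p n i₁ i₂ _ rfl hc₂ rfl (by rw [← hc₂]; rfl) M N h _ rfl)
    exact ⟨φ, Pseudofunctor.DescentData.hom_ext fun i => hφ⟩

end Groth.Agent.CommAlg4.WittDescFF
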