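import Mathlib

/-!
The topologies on rings of `p`-typical Witt vectors: `p`-adic, `I`-adic and `(p, V)`-adic.
-/

set_option autoImplicit false
set_option linter.unusedSectionVars false

noncomputable section

universe u v

namespace Groth.Agent.CommAlg4.WittTop

open WittVector Function

variable {p : ℕ} [hp : Fact p.Prime] {R : Type u} [CommRing R]

local notation "W" => WittVector p R

variable (p R) in
/-- The augmentation ideal. -/
abbrev augIdeal : Ideal (WittVector p R) := RingHom.ker (WittVector.constantCoeff : W →+* R)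

theorem mem_augIdeal {x : W} : x ∈ augIdeal p R ↔ x.coeff 0 = 0 := Iff.rfl

theorem exists_verschiebung_of_mem {x : W} (hx : x ∈ augIdeal p R) : ∃ y, verschiebung y = x := by
  refine ⟨x.shift 1, ?_⟩
  have := eq_iterate_verschiebung (x := x) (n := 1) (fun i hi => by
    obtain rfl : i = 0 := by lia
    exact hx)
  simpa using this.symm

theorem verschiebung_mem (y : W) : verschiebung y ∈ augIdeal p R := verschiebung_coeff_zero y

theorem verschiebung_mul_verschiebung (a b : W) :
    verschiebung a * verschiebung b = (p : W) * verschiebung (a * b) := by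
  rw [← verschiebung_mul_frobenius, frobenius_verschiebung,
    show a * (b * (p : W)) = (p : ℕ) • (a * b) by rw [nsmul_eq_mul]; ring, map_nsmul, nsmul_eq_mul]

theorem augIdeal_sq : augIdeal p R * augIdeal p R = Ideal.span {(p : W)} * augIdeal p R := by
  refine le_antisymm (Ideal.mul_le.mpr fun x hx y hy => ?_) (Ideal.mul_le.mpr fun x hx y hy => ?_)
  · obtain ⟨a, rfl⟩ := exists_verschiebung_of_mem hx
    obtain ⟨b, rfl⟩ := exists_verschiebung_of_mem hy
    rw [verschiebung_mul_verschiebung]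
    exact Ideal.mul_mem_mul (Ideal.mem_span_singleton_self _) (verschiebung_mem _)
  · obtain ⟨c, rfl⟩ := Ideal.mem_span_singleton.mp hx
    obtain ⟨b, rfl⟩ := exists_verschiebung_of_mem hy
    rw [mul_comm (p : W) c, mul_assoc, show (p : W) * verschiebung b = verschiebung 1 * verschiebung b by
      rw [verschiebung_mul_verschiebung, one_mul]]
    exact Ideal.mul_mem_left _ _ (Ideal.mul_mem_mul (verschiebung_mem _) (verschiebung_mem _))

theorem augIdeal_pow_succ (k : ℕ) :
    augIdeal p R ^ (k + 1) = Ideal.span {(p : W) ^ k} * augIdeal p R := by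
  induction k with
  | zero => simp
  | succ k ih =>
    rw [pow_succ, ih, mul_assoc, augIdeal_sq, ← mul_assoc, Ideal.span_singleton_mul_span_singleton,
      ← pow_succ]

theorem iterate_frobenius_natCast (j m : ℕ) : (frobenius^[j] (m : W)) = (m : W) := by
  induction j with
  | zero => rfl
  | succ j ih => rw [Function.iterate_succ_apply', ih, map_natCast]

/-- `p` is nilpotent in truncated Witt vectors when it is in the ring. -/
theorem p_pow_mul_mem_ker_truncate {a : ℕ} (ha : (p : R) ^ a = 0) (n : ℕ) :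
    (p : W) ^ (a * n) ∈ RingHom.ker (WittVector.truncate (p := p) (R := R) n) := by
  induction n with
  | zero => rw [mem_ker_truncate]; intro i hi; exact absurd hi (Nat.not_lt_zero i)
  | succ n ih =>
    rw [mem_ker_truncate] at ih
    rw [mem_ker_truncate, Nat.mul_succ, pow_add, eq_iterate_verschiebung ih,
      iterate_verschiebung_mul_left,
      show frobenius^[n] ((p : W) ^ a) = ((p ^ a : ℕ) : W) by
        rw [← Nat.cast_pow, iterate_frobenius_natCast]]
    intro i hi
    rcases Nat.lt_succ_iff_lt_or_eq.mp hi with hi | rfl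
    · exact iterate_verschiebung_coeff_eq_zero _ hi
    · conv_lhs => arg 2; rw [← zero_add i]
      rw [iterate_verschiebung_coeff, mul_coeff_zero,
        show ((p ^ a : ℕ) : W).coeff 0 = constantCoeff ((p ^ a : ℕ) : W) from rfl, map_natCast,
        Nat.cast_pow, ha, mul_zero]

variable (p R) in
/-- `Jid l m` : the kernel of `W R → W_m (R ⧸ p^l)`. -/
def Jid (l m : ℕ) : Ideal W :=
  RingHom.ker ((WittVector.truncate m).comp
    (WittVector.map (Ideal.Quotient.mk (Ideal.span {(p : R) ^ l}))))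

theorem mem_Jid {l m : ℕ} {x : W} : x ∈ Jid p R l m ↔ ∀ i < m, (p : R) ^ l ∣ x.coeff i := by
  rw [Jid, RingHom.mem_ker, RingHom.comp_apply, ← RingHom.mem_ker, mem_ker_truncate]
  refine forall_congr' fun i => forall_congr' fun _ => ?_
  rw [map_coeff, Ideal.Quotient.eq_zero_iff_mem, Ideal.mem_span_singleton]

theorem sub_mem_Jid {l m : ℕ} {x y : W} :
    x - y ∈ Jid p R l m ↔ ∀ i < m, (p : R) ^ l ∣ x.coeff i - y.coeff i := by
  rw [Jid, RingHom.sub_mem_ker_iff, RingHom.comp_apply, RingHom.comp_apply,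
    TruncatedWittVector.ext_iff, Fin.forall_iff]
  refine forall_congr' fun i => forall_congr' fun _ => ?_
  simp only [coeff_truncate, map_coeff]
  rw [Ideal.Quotient.eq, Ideal.mem_span_singleton]

theorem Jid_mono {l l' m m' : ℕ} (hl : l ≤ l') (hm : m ≤ m') : Jid p R l' m' ≤ Jid p R l m :=
  fun _ hx => mem_Jid.mpr fun i hi => (pow_dvd_pow _ hl).trans (mem_Jid.mp hx i (hi.trans_le hm))

theorem p_pow_mem_Jid (l m : ℕ) : (p : W) ^ (l * m) ∈ Jid p R l m := by
  have h : (p : R ⧸ Ideal.span {(p : R) ^ l}) ^ l = 0 := by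
    rw [← map_natCast (Ideal.Quotient.mk _), ← map_pow, Ideal.Quotient.eq_zero_iff_mem]
    exact Ideal.mem_span_singleton_self _
  have := p_pow_mul_mem_ker_truncate (p := p) h m
  rw [RingHom.mem_ker] at this
  rw [Jid, RingHom.mem_ker, RingHom.comp_apply, map_pow, map_natCast, this]

theorem ker_truncate_le_Jid (l m : ℕ) :
    RingHom.ker (WittVector.truncate (p := p) (R := R) m) ≤ Jid p R l m := fun _ hx =>
  mem_Jid.mpr fun i hi => by rw [(mem_ker_truncate m _).mp hx i hi]; exact dvd_zero _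

theorem ker_map_le_Jid (l m : ℕ) :
    RingHom.ker (WittVector.map (p := p) (Ideal.Quotient.mk (Ideal.span {(p : R) ^ l}))) ≤
      Jid p R l m := fun x hx => by
  rw [RingHom.mem_ker] at hx
  rw [Jid, RingHom.mem_ker, RingHom.comp_apply, hx, map_zero]

theorem eq_zero_of_forall_dvd [IsHausdorff (Ideal.span {(p : R)}) R] {r : R}
    (h : ∀ l, (p : R) ^ l ∣ r) : r = 0 :=
  IsHausdorff.haus' (I := Ideal.span {(p : R)}) r fun l => by
    rw [SModEq.zero, smul_eq_mul, Ideal.mul_top, Ideal.span_singleton_pow, Ideal.mem_span_singleton]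
    exact h l

theorem eq_zero_of_mem_Jid [IsHausdorff (Ideal.span {(p : R)}) R] {x : W}
    (h : ∀ l m, x ∈ Jid p R l m) : x = 0 :=
  WittVector.ext fun i => by
    rw [zero_coeff]
    exact eq_zero_of_forall_dvd (p := p) fun l => mem_Jid.mp (h l (i + 1)) i (Nat.lt_succ_self i)

section Complete

variable [IsAdicComplete (Ideal.span {(p : R)}) R]

theorem exists_limit (x : ℕ → W)
    (h : ∀ l m, ∃ K, ∀ k, K ≤ k → x k - x K ∈ Jid p R l m) :
    ∃ L : W, ∀ l m, ∃ K, ∀ k, K ≤ k → x k - L ∈ Jid p R l m := by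
  choose K hK using h
  let K' : ℕ → ℕ → ℕ := fun l m => (Finset.range (l + 1)).sup fun j => K j m
  have hK'le : ∀ l m, K l m ≤ K' l m := fun l m =>
    Finset.le_sup (f := fun j => K j m) (Finset.self_mem_range_succ l)
  have hmono : ∀ {l l'} m, l ≤ l' → K' l m ≤ K' l' m := fun m hll =>
    Finset.sup_mono (Finset.range_subset_range.mpr (by lia))
  have hst : ∀ l m k k', K' l m ≤ k → K' l m ≤ k' → x k - x k' ∈ Jid p R l m := fun l m k k' hk hk' => by
    have := sub_mem (hK l m k ((hK'le l m).trans hk)) (hK l m k' ((hK'le l m).trans hk'))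
    rwa [sub_sub_sub_cancel_right] at this
  have hc : ∀ i, ∃ c : R, ∀ l, (p : R) ^ l ∣ (x (K' l (i + 1))).coeff i - c := by
    intro i
    obtain ⟨c, hc⟩ := IsPrecomplete.prec' (I := Ideal.span {(p : R)})
      (fun l => (x (K' l (i + 1))).coeff i) (fun {l l'} hll => by
        rw [SModEq.sub_mem, smul_eq_mul, Ideal.mul_top, Ideal.span_singleton_pow,
          Ideal.mem_span_singleton]
        exact sub_mem_Jid.mp (hst l (i + 1) _ _ le_rfl (hmono _ hll)) i (Nat.lt_succ_self i))
    refine ⟨c, fun l => ?_⟩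
    have := hc l
    rwa [SModEq.sub_mem, smul_eq_mul, Ideal.mul_top, Ideal.span_singleton_pow,
      Ideal.mem_span_singleton] at this
  choose c hc using hc
  refine ⟨WittVector.mk p c, fun l m => ⟨(Finset.range m).sup fun i => K' l (i + 1), fun k hk => ?_⟩⟩
  rw [sub_mem_Jid]
  intro i hi
  rw [coeff_mk]
  have h1 := sub_mem_Jid.mp (hst l (i + 1) k (K' l (i + 1))
    ((Finset.le_sup (f := fun i => K' l (i + 1)) (Finset.mem_range.mpr hi)).trans hk) le_rfl) i
    (Nat.lt_succ_self i)
  have h2 := dvd_add h1 (hc i l)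
  rwa [sub_add_sub_cancel] at h2

/-- The sums `∑ p^j y_{k+j}`. -/
theorem exists_tail (y : ℕ → W) : ∃ z : ℕ → W, ∀ k, z k = y k + (p : W) * z (k + 1) := by
  let s : ℕ → ℕ → W := fun k N => ∑ j ∈ Finset.range N, (p : W) ^ j * y (k + j)
  have hs : ∀ k l m, ∃ K, ∀ N, K ≤ N → s k N - s k K ∈ Jid p R l m := fun k l m =>
    ⟨l * m, fun N hN => by
      simp only [s]
      rw [← Finset.sum_range_add_sum_Ico _ hN, add_sub_cancel_left]
      exact Ideal.sum_mem _ fun j hj => Ideal.mul_mem_right _ _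
        (Ideal.pow_mem_of_pow_mem _ (p_pow_mem_Jid l m) (Finset.mem_Ico.mp hj).1)⟩
  choose z hz using fun k => exists_limit (s k) (hs k)
  refine ⟨z, fun k => ?_⟩
  rw [← sub_eq_zero]
  refine eq_zero_of_mem_Jid fun l m => ?_
  obtain ⟨K₁, hK₁⟩ := hz k l m
  obtain ⟨K₂, hK₂⟩ := hz (k + 1) l m
  have h1 := hK₁ (max K₁ K₂ + 1) (by lia)
  have h2 := Ideal.mul_mem_left _ (p : W) (hK₂ (max K₁ K₂) (by lia))
  have hrec : ∀ N, s k (N + 1) = y k + (p : W) * s (k + 1) N := fun N => by
    simp only [s, Finset.sum_range_succ', pow_zero, one_mul, add_zero, Finset.mul_sum]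
    rw [add_comm]
    congr 1
    exact Finset.sum_congr rfl fun j _ => by rw [show k + 1 + j = k + (j + 1) by lia]; ring
  rw [hrec] at h1
  have := sub_mem h2 h1
  convert this using 1
  ring

theorem mem_span_pow_iff {x : W} {n : ℕ} :
    x ∈ (Ideal.span {(p : W)} ^ n • ⊤ : Ideal W) ↔ (p : W) ^ n ∣ x := by
  rw [smul_eq_mul, Ideal.mul_top, Ideal.span_singleton_pow, Ideal.mem_span_singleton]

theorem mem_Jid_of_dvd {x : W} {n l m : ℕ} (h : (p : W) ^ n ∣ x) (hn : l * m ≤ n) :
    x ∈ Jid p R l m := by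
  obtain ⟨c, rfl⟩ := h
  exact Ideal.mul_mem_right _ _ (Ideal.pow_mem_of_pow_mem _ (p_pow_mem_Jid l m) hn)

theorem isAdicComplete_p : IsAdicComplete (Ideal.span {(p : W)}) W := by
  refine { haus' := fun x hx => ?_, prec' := fun x hx => ?_ }
  · refine eq_zero_of_mem_Jid fun l m => mem_Jid_of_dvd (mem_span_pow_iff.mp ?_) (le_refl (l * m))
    simpa [SModEq.zero] using hx (l * m)
  · have hd : ∀ k, ∃ y, x (k + 1) = x k + (p : W) ^ k * y := fun k => by
      obtain ⟨c, hc⟩ := mem_span_pow_iff.mp (SModEq.sub_mem.mp (hx (Nat.le_succ k)).symm)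
      exact ⟨c, by rw [← hc]; ring⟩
    choose y hy using hd
    obtain ⟨z, hz⟩ := exists_tail y
    refine ⟨x 0 + z 0, fun n => ?_⟩
    have hL : ∀ k, x 0 + z 0 = x k + (p : W) ^ k * z k := fun k => by
      induction k with
      | zero => simp
      | succ k ih => rw [ih, hy, hz k, pow_succ]; ring
    rw [SModEq.sub_mem, mem_span_pow_iff, hL n]
    exact ⟨-z n, by ring⟩

theorem isAdicComplete_augIdeal : IsAdicComplete (augIdeal p R) W := by
  have hmem : ∀ {x : W} {k : ℕ}, x ∈ (augIdeal p R ^ (k + 1) • ⊤ : Ideal W) ↔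
      ∃ v ∈ augIdeal p R, (p : W) ^ k * v = x := fun {x k} => by
    rw [smul_eq_mul, Ideal.mul_top, augIdeal_pow_succ, Ideal.mem_span_singleton_mul]
  refine { haus' := fun x hx => ?_, prec' := fun x hx => ?_ }
  · refine eq_zero_of_mem_Jid fun l m => ?_
    obtain ⟨v, -, rfl⟩ := hmem.mp (SModEq.zero.mp (hx (l * m + 1)))
    exact mem_Jid_of_dvd ⟨v, rfl⟩ le_rfl
  · have hd : ∀ k, ∃ v, v ∈ augIdeal p R ∧ x (k + 2) = x (k + 1) + (p : W) ^ k * v := fun k => by
      obtain ⟨v, hv, hv'⟩ := hmem.mp (SModEq.sub_mem.mp (hx (Nat.le_succ (k + 1))).symm)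
      exact ⟨v, hv, by rw [hv']; ring⟩
    choose y hyI hy using hd
    obtain ⟨z, hz⟩ := exists_tail y
    have hzI : ∀ k, z k ∈ augIdeal p R := fun k => by
      rw [mem_augIdeal]
      refine eq_zero_of_forall_dvd (p := p) fun l => ?_
      induction l generalizing k with
      | zero => simp
      | succ l ih =>
        rw [hz k, add_coeff_zero, mem_augIdeal.mp (hyI k), zero_add, mul_coeff_zero,
          show (p : W).coeff 0 = constantCoeff (p : W) from rfl, map_natCast, pow_succ']
        exact mul_dvd_mul_left _ (ih (k + 1))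
    refine ⟨x 1 + z 0, fun n => ?_⟩
    have hL : ∀ k, x 1 + z 0 = x (k + 1) + (p : W) ^ k * z k := fun k => by
      induction k with
      | zero => simp
      | succ k ih => rw [ih, hy, hz k, pow_succ]; ring
    cases n with
    | zero => rw [SModEq.sub_mem, pow_zero, Ideal.one_eq_top, smul_eq_mul, Ideal.mul_top]; trivial
    | succ k =>
      rw [SModEq.sub_mem, hmem, hL k]
      exact ⟨-z k, neg_mem (hzI k), by ring⟩

end Complete

/-- Divisibility of ghost components. -/
theorem dvd_coeff_iff_dvd_ghost (hR : ∀ y : R, (p : R) * y = 0 → y = 0) (x : W) (m : ℕ) {s : ℕ}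
    (hs : 1 ≤ s) :
    (∀ i < m, (p : R) ^ s ∣ x.coeff i) ↔ (∀ n < m, (p : R) ^ (n + s) ∣ ghostComponent n x) := by
  have hcancel : ∀ (n : ℕ) {a b : R}, (p : R) ^ n * a = (p : R) ^ n * b → a = b := fun n => by
    induction n with
    | zero => intro a b h; simpa using h
    | succ n ih =>
      intro a b h
      refine ih (sub_eq_zero.mp (hR _ ?_))
      rw [pow_succ'] at h
      linear_combination h
  have hterm : ∀ (n i : ℕ), i ≤ n → ∀ c : R, (p : R) ^ s ∣ c →
      (p : R) ^ (n + s) ∣ (p : R) ^ i * c ^ p ^ (n - i) := fun n i hi c hc => by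
    obtain ⟨d, rfl⟩ := hc
    rw [mul_pow, ← mul_assoc, ← pow_mul, ← pow_add]
    refine dvd_mul_of_dvd_left (pow_dvd_pow _ ?_) _
    have h1 : (n - i) + 1 ≤ p ^ (n - i) := (n - i).lt_two_pow_self.succ_le.trans
      (Nat.pow_le_pow_left hp.out.two_le _)
    have h2 : s * ((n - i) + 1) ≤ s * p ^ (n - i) := Nat.mul_le_mul_left s h1
    have h3 : (n - i) ≤ s * (n - i) := Nat.le_mul_of_pos_left _ hs
    rw [Nat.mul_succ] at h2
    lia
  simp only [ghostComponent_apply, aeval_wittPolynomial]
  constructor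
  · exact fun h n hn => Finset.dvd_sum fun i hi =>
      hterm n i (Nat.lt_succ_iff.mp (Finset.mem_range.mp hi)) _
        (h i (by have := Finset.mem_range.mp hi; lia))
  · intro h n hn
    induction n using Nat.strong_induction_on with
    | h n ih =>
      have h1 := h n hn
      rw [Finset.sum_range_succ] at h1
      have h2 : (p : R) ^ (n + s) ∣ ∑ i ∈ Finset.range n, (p : R) ^ i * x.coeff i ^ p ^ (n - i) :=
        Finset.dvd_sum fun i hi => hterm n i (Finset.mem_range.mp hi).le _
          (ih i (Finset.mem_range.mp hi) ((Finset.mem_range.mp hi).trans hn))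
      obtain ⟨d, hd⟩ := (dvd_add_right h2).mp h1
      rw [Nat.sub_self, pow_zero, pow_one, pow_add, mul_assoc] at hd
      exact ⟨d, hcancel n hd⟩

theorem mem_Jid_of_pow_mul_mem (hR : ∀ y : R, (p : R) * y = 0 → y = 0) {x : W} {u s m : ℕ}
    (hs : u < s) (h : (p : W) ^ u * x ∈ Jid p R s m) : x ∈ Jid p R (s - u) m := by
  rw [mem_Jid, dvd_coeff_iff_dvd_ghost hR _ _ (by lia)] at h ⊢
  intro n hn
  obtain ⟨d, hd⟩ := h n hn
  rw [map_mul, map_pow, map_natCast, show n + s = u + (n + (s - u)) by lia, pow_add, mul_assoc] at hd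
  refine ⟨d, ?_⟩
  have hcancel : ∀ (k : ℕ) {a b : R}, (p : R) ^ k * a = (p : R) ^ k * b → a = b := fun k => by
    induction k with
    | zero => intro a b h; simpa using h
    | succ k ih =>
      intro a b h
      refine ih (sub_eq_zero.mp (hR _ ?_))
      rw [pow_succ'] at h
      linear_combination h
  exact hcancel u hd

theorem exists_solution [IsAdicComplete (Ideal.span {(p : R)}) R]
    (hR : ∀ y : R, (p : R) * y = 0 → y = 0) (a : W) (m u : ℕ)
    (h : ∀ s, ∃ z : W, (p : W) ^ u * z - a ∈ Jid p R s m) :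
    ∃ x : W, (p : W) ^ u * x - a ∈ RingHom.ker (WittVector.truncate (p := p) (R := R) m) := by
  choose z hz using h
  let z' : ℕ → W := fun s => WittVector.mk p fun i => if i < m then (z s).coeff i else 0
  have hz' : ∀ l s, z' s - z s ∈ Jid p R l m := fun l s => sub_mem_Jid.mpr fun i hi => by
    rw [coeff_mk, if_pos hi, sub_self]; exact dvd_zero _
  have hcauchy : ∀ l m', ∃ K, ∀ k, K ≤ k → z' k - z' K ∈ Jid p R l m' := fun l m' => by
    refine ⟨l + u + 1, fun k hk => sub_mem_Jid.mpr fun i _ => ?_⟩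
    simp only [z', coeff_mk]
    split_ifs with hi
    · have h1 := sub_mem (Jid_mono hk le_rfl (hz k)) (hz (l + u + 1))
      rw [sub_sub_sub_cancel_right, ← mul_sub] at h1
      have h2 := mem_Jid_of_pow_mul_mem hR (by lia) h1
      exact sub_mem_Jid.mp (Jid_mono (show l ≤ l + u + 1 - u by lia) le_rfl h2) i hi
    · rw [sub_self]; exact dvd_zero _
  obtain ⟨L, hL⟩ := exists_limit z' hcauchy
  refine ⟨L, (mem_ker_truncate m _).mpr fun i hi => eq_zero_of_forall_dvd (p := p) fun l => ?_⟩
  obtain ⟨K, hK⟩ := hL l m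
  have h1 : (p : W) ^ u * L - a ∈ Jid p R l m := by
    have h2 := Ideal.mul_mem_left _ ((p : W) ^ u) (sub_mem (hz' l (max K l)) (hK _ (le_max_left K l)))
    have h3 := sub_mem (Jid_mono (le_max_right K l) le_rfl (hz (max K l))) (neg_mem h2)
    convert h3 using 1
    ring
  exact mem_Jid.mp h1 i hi

end Groth.Agent.CommAlg4.WittTop
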