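import Mathlib
import Groth.Agent.CommAlg4.WittTop

/-!
Finite projective modules over rings of Witt vectors: the `V`-adic filtration, idempotent lifting.
-/

set_option autoImplicit false
set_option linter.unusedSectionVars false

noncomputable section

universe u v w w'

namespace Groth.Agent.CommAlg4.WittProj

open WittVector Groth.Agent.CommAlg4.WittTop

variable {p : ℕ} [hp : Fact p.Prime] {R : Type u} [CommRing R]

local notation "W" => WittVector p R
variable (p R) in
/-- The `V`-filtration. -/
abbrev fil (n : ℕ) : Ideal W := RingHom.ker (WittVector.truncate (p := p) (R := R) n)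

local notation "Fil" => fil p R

theorem fil_antitone {m n : ℕ} (h : m ≤ n) : Fil n ≤ Fil m := fun x hx => by
  rw [mem_ker_truncate] at hx ⊢
  exact fun i hi => hx i (hi.trans_le h)

theorem sub_mem_fil {n : ℕ} {x y : W} : x - y ∈ Fil n ↔ ∀ i < n, x.coeff i = y.coeff i := by
  rw [mem_ker_truncate, ← le_coeff_eq_iff_le_sub_coeff_eq_zero]

theorem eq_zero_of_forall_mem {x : W} (h : ∀ n, x ∈ Fil n) : x = 0 :=
  WittVector.ext fun i => by
    rw [zero_coeff]; exact (mem_ker_truncate _ _).mp (h (i + 1)) i (Nat.lt_succ_self i)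

theorem fil_zero : Fil 0 = ⊤ :=
  top_le_iff.mp fun x _ => (mem_ker_truncate 0 x).mpr fun i hi => absurd hi (Nat.not_lt_zero i)

/-- The ring of Witt vectors is complete for the `V`-filtration. -/
theorem exists_compat (c : ℕ → W) (h : ∀ n, c (n + 1) - c n ∈ Fil n) :
    ∃ L : W, ∀ n, L - c n ∈ Fil n := by
  have hmn : ∀ n m, n ≤ m → c m - c n ∈ Fil n := fun n m hnm => by
    induction m, hnm using Nat.le_induction with
    | base => rw [sub_self]; exact zero_mem _
    | succ m hm ih =>
      have := add_mem (fil_antitone hm (h m)) ih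
      rwa [sub_add_sub_cancel] at this
  refine ⟨WittVector.mk p fun i => (c (i + 1)).coeff i, fun n => sub_mem_fil.mpr fun i hi => ?_⟩
  rw [coeff_mk]
  exact (sub_mem_fil.mp (hmn (i + 1) n hi) i (Nat.lt_succ_self i)).symm

theorem augIdeal_pow_le {a : ℕ} (ha : (p : R) ^ a = 0) (n : ℕ) :
    augIdeal p R ^ (a * n + 1) ≤ Fil n := by
  rw [augIdeal_pow_succ]
  exact Ideal.mul_le_left.trans ((Ideal.span_singleton_le_iff_mem _).mpr (p_pow_mul_mem_ker_truncate ha n))

theorem fil_one_le : Fil 1 ≤ augIdeal p R := fun _ hx => (mem_ker_truncate 1 _).mp hx 0 one_pos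

theorem exists_pow_mem_fil (hpn : IsNilpotent (p : R)) {x : W} (hx : IsNilpotent (x.coeff 0)) (n : ℕ) :
    x ∈ (Fil n).radical := by
  obtain ⟨a, ha⟩ := hpn
  obtain ⟨k, hk⟩ := hx
  have h1 : teichmuller p (x.coeff 0) ∈ (Fil n).radical :=
    ⟨k + 1, by
      rw [← map_pow, pow_succ, hk, zero_mul, WittVector.teichmuller_zero]
      exact zero_mem _⟩
  have h2 : x - teichmuller p (x.coeff 0) ∈ (Fil n).radical := by
    refine ⟨a * n + 1, augIdeal_pow_le ha n (Ideal.pow_mem_pow ?_ _)⟩
    rw [mem_augIdeal, show (x - teichmuller p (x.coeff 0)).coeff 0 =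
      constantCoeff (x - teichmuller p (x.coeff 0)) from rfl, map_sub, constantCoeff_apply,
      constantCoeff_apply, teichmuller_coeff_zero, sub_self]
  simpa using add_mem h2 h1

section Henselian

variable {J : Ideal (WittVector p R)} (hpn : IsNilpotent (p : R)) (hJ : ∀ x ∈ J, IsNilpotent (x.coeff 0))

include hpn hJ

theorem le_jacobson : J ≤ (⊥ : Ideal W).jacobson := by
  intro x hx
  rw [Ideal.mem_jacobson_bot]
  intro y
  have hunit : ∀ n, ∃ c : W, (x * y + 1) * c - 1 ∈ Fil n := fun n => by
    obtain ⟨k, hk⟩ := exists_pow_mem_fil hpn (hJ _ (J.mul_mem_right y hx)) n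
    refine ⟨∑ i ∈ Finset.range k, (-(x * y)) ^ i, ?_⟩
    have := mul_neg_geom_sum (-(x * y)) k
    rw [sub_neg_eq_add, add_comm] at this
    rw [this, sub_right_comm, sub_self, zero_sub, neg_pow]
    exact neg_mem (Ideal.mul_mem_left _ _ hk)
  choose c hc using hunit
  have hcomp : ∀ n, c (n + 1) - c n ∈ Fil n := fun n => by
    have h1 := Ideal.mul_mem_left _ (c n) (fil_antitone (Nat.le_succ n) (hc (n + 1)))
    have h2 := Ideal.mul_mem_left _ (c (n + 1)) (hc n)
    have := sub_mem h1 h2
    convert this using 1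
    ring
  obtain ⟨L, hL⟩ := exists_compat c hcomp
  refine IsUnit.of_mul_eq_one L (sub_eq_zero.mp (eq_zero_of_forall_mem fun n => ?_))
  have := add_mem (Ideal.mul_mem_left _ (x * y + 1) (hL n)) (hc n)
  convert this using 1
  ring

theorem exists_idempotent_lift {r : ℕ} (e₀ : Matrix (Fin r) (Fin r) W)
    (he : ∀ i j, (e₀ * e₀ - e₀) i j ∈ J) :
    ∃ E : Matrix (Fin r) (Fin r) W, E * E = E ∧
      ∀ n i j, ∃ c ∈ J, E i j - e₀ i j - c ∈ Fil n := by
  classical
  let stp : Matrix (Fin r) (Fin r) W → Matrix (Fin r) (Fin r) W := fun e => 3 • (e * e) - 2 • (e * e * e)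
  let e : ℕ → Matrix (Fin r) (Fin r) W := fun k => stp^[k] e₀
  have hsucc : ∀ k, e (k + 1) = stp (e k) := fun k => Function.iterate_succ_apply' stp k e₀
  let 𝔟 : Ideal W := Ideal.span (Set.range fun x : Fin r × Fin r => (e₀ * e₀ - e₀) x.1 x.2)
  have h𝔟J : 𝔟 ≤ J := Ideal.span_le.mpr (by rintro _ ⟨x, rfl⟩; exact he _ _)
  have hmul : ∀ {I I' : Ideal W} {M N : Matrix (Fin r) (Fin r) W}, (∀ i j, M i j ∈ I) →
      (∀ i j, N i j ∈ I') → ∀ i j, (M * N) i j ∈ I * I' := fun hM hN i j => by
    rw [Matrix.mul_apply]; exact Ideal.sum_mem _ fun l _ => Ideal.mul_mem_mul (hM _ _) (hN _ _)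
  have hε : ∀ k i j, (e k * e k - e k) i j ∈ 𝔟 ^ (2 ^ k) := by
    intro k
    induction k with
    | zero => intro i j; rw [pow_zero, pow_one]; exact Ideal.subset_span ⟨(i, j), rfl⟩
    | succ k ih =>
      intro i j
      have h1 : e (k + 1) * e (k + 1) - e (k + 1) =
          (e k * e k - e k) * (e k * e k - e k) * (4 • (e k * e k - e k) - 3 • (1 : Matrix (Fin r) (Fin r) W)) := by
        rw [hsucc]
        simp only [stp, Matrix.mul_sub, Matrix.sub_mul, smul_sub, Matrix.smul_mul, Matrix.mul_smul,
          Matrix.mul_one, Matrix.mul_assoc]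
        module
      rw [h1, pow_succ, pow_mul, sq]
      have h2 := hmul (I' := ⊤) (hmul ih ih) (N := 4 • (e k * e k - e k) - 3 • (1 : Matrix (Fin r) (Fin r) W))
        (fun _ _ => trivial) i j
      rwa [Ideal.mul_top] at h2
  have hdiff : ∀ k i j, (e (k + 1) - e k) i j ∈ 𝔟 ^ (2 ^ k) := by
    intro k i j
    have h1 : e (k + 1) - e k = (1 - 2 • e k) * (e k * e k - e k) := by
      rw [hsucc]
      simp only [stp, Matrix.mul_sub, Matrix.sub_mul, Matrix.smul_mul, Matrix.one_mul, Matrix.mul_assoc]
      module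
    rw [h1]
    have h2 := hmul (I := ⊤) (M := 1 - 2 • e k) (fun _ _ => trivial) (hε k) i j
    rwa [Ideal.top_mul] at h2
  have hfg : 𝔟.FG := Submodule.fg_span (Set.finite_range _)
  choose N hN using fun n => Ideal.exists_pow_le_of_le_radical_of_fg
    (I := 𝔟) (J := Fil n) (fun x hx => exists_pow_mem_fil hpn (hJ x (h𝔟J hx)) n) hfg
  let K : ℕ → ℕ := fun n => ∑ m ∈ Finset.range (n + 1), N m
  have hK : ∀ n k, K n ≤ k → 𝔟 ^ (2 ^ k) ≤ Fil n := fun n k hk =>
    (Ideal.pow_le_pow_right (((Finset.single_le_sum (fun m _ => Nat.zero_le (N m))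
      (Finset.self_mem_range_succ n)).trans hk).trans k.lt_two_pow_self.le)).trans (hN n)
  have hstab : ∀ n k, K n ≤ k → ∀ i j, e k i j - e (K n) i j ∈ Fil n := by
    intro n k hk i j
    induction k, hk using Nat.le_induction with
    | base => rw [sub_self]; exact zero_mem _
    | succ k hk ih =>
      have h1 : e (k + 1) i j - e k i j ∈ Fil n := by
        rw [← Matrix.sub_apply]; exact hK n k hk (hdiff k i j)
      have := add_mem h1 ih
      rwa [sub_add_sub_cancel] at this
  choose E hE using fun i j => exists_compat (fun n => e (K n) i j) fun n =>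
    hstab n (K (n + 1)) (by simp [K, Finset.sum_range_succ]) i j
  refine ⟨Matrix.of E, Matrix.ext fun i j => sub_eq_zero.mp (eq_zero_of_forall_mem fun n => ?_), fun n i j => ?_⟩
  · let π := Ideal.Quotient.mk (Fil n)
    have hEe : π.mapMatrix (Matrix.of E) = π.mapMatrix (e (K n)) := Matrix.ext fun i j => by
      simpa using Ideal.Quotient.eq.mpr (hE i j n)
    rw [← Ideal.Quotient.eq_zero_iff_mem, map_sub]
    have h1 : π.mapMatrix (e (K n) * e (K n) - e (K n)) = 0 := Matrix.ext fun i j => by
      simpa [Matrix.map_apply] using Ideal.Quotient.eq_zero_iff_mem.mpr (hK n (K n) le_rfl (hε (K n) i j))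
    rw [map_sub, map_mul, ← hEe, ← map_mul] at h1
    have h2 := congrFun (congrFun h1 i) j
    simp only [RingHom.mapMatrix_apply, Matrix.sub_apply, Matrix.map_apply, Matrix.zero_apply] at h2
    exact h2
  · refine ⟨e (K n) i j - e₀ i j, ?_, ?_⟩
    · suffices ∀ k, e k i j - e₀ i j ∈ J from this _
      intro k
      induction k with
      | zero => rw [show e 0 = e₀ from rfl, sub_self]; exact J.zero_mem
      | succ k ih =>
        have h1 : e (k + 1) i j - e k i j ∈ J := by
          rw [← Matrix.sub_apply]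
          exact h𝔟J (Ideal.pow_le_self (Nat.two_pow_pos k).ne' (hdiff k i j))
        have := add_mem h1 ih
        rwa [sub_add_sub_cancel] at this
    · rw [Matrix.of_apply, sub_sub, add_sub_cancel]
      exact hE i j n

end Henselian

section Lift

variable {A : Type u} [CommRing A] {I : Ideal A}

/-- Lifting maps out of a projective `A ⧸ I`-module into modules killed by `I`. -/
theorem exists_lift_of_projective {M : Type v} [AddCommGroup M] [Module A M] [Module (A ⧸ I) M]
    [IsScalarTower A (A ⧸ I) M] [Module.Projective (A ⧸ I) M]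
    {N : Type w} [AddCommGroup N] [Module A N] (hN : ∀ a ∈ I, ∀ x : N, a • x = 0)
    {N' : Type w'} [AddCommGroup N'] [Module A N'] (g : N →ₗ[A] N') (hg : Function.Surjective g)
    (h : M →ₗ[A] N') : ∃ l : M →ₗ[A] N, g.comp l = h := by
  obtain ⟨s, hs⟩ := Module.projective_def'.mp ‹Module.Projective (A ⧸ I) M›
  choose n hn using fun m : M => hg (h m)
  let single : M → ((A ⧸ I) →ₗ[A] N) := fun m => Submodule.liftQ I (LinearMap.toSpanSingleton A N (n m))
    fun a ha => LinearMap.mem_ker.mpr (hN a ha (n m))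
  let L : (M →₀ A ⧸ I) →ₗ[A] N := Finsupp.lsum A single
  refine ⟨L.comp (s.restrictScalars A), LinearMap.ext fun m => ?_⟩
  have h1 : g.comp L = h.comp ((Finsupp.linearCombination (A ⧸ I) (id : M → M)).restrictScalars A) := by
    refine Finsupp.lhom_ext fun m x => ?_
    obtain ⟨a, rfl⟩ := Ideal.Quotient.mk_surjective x
    simp only [L, LinearMap.comp_apply, Finsupp.lsum_single, LinearMap.coe_restrictScalars,
      Finsupp.linearCombination_single, id_eq]
    rw [show single m (Ideal.Quotient.mk I a) = a • n m from rfl, map_smul, hn,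
      show (Ideal.Quotient.mk I a) • m = a • m from algebraMap_smul (A ⧸ I) a m, map_smul]
  have h2 : Finsupp.linearCombination (A ⧸ I) (id : M → M) (s m) = m := LinearMap.congr_fun hs m
  calc g ((L.comp (s.restrictScalars A)) m) = (g.comp L) (s m) := rfl
    _ = h (Finsupp.linearCombination (A ⧸ I) (id : M → M) (s m)) := by rw [h1]; rfl
    _ = h m := by rw [h2]

end Lift

section Projective

variable {P : Type v} [AddCommGroup P] [Module (WittVector p R) P]

theorem iInf_fil_smul_top [Module.Finite W P] [Module.Projective W P] :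
    (⨅ n, Fil n • (⊤ : Submodule W P)) = ⊥ := by
  obtain ⟨r, f, g, -, -, hfg⟩ := Module.Finite.exists_comp_eq_id_of_projective W P
  refine le_bot_iff.mp fun x hx => (Submodule.mem_bot W).mpr ?_
  have hg : g x = 0 := funext fun i => eq_zero_of_forall_mem fun n => by
    have h0 : g x ∈ Submodule.map g (Fil n • (⊤ : Submodule W P)) :=
      Submodule.mem_map_of_mem ((Submodule.mem_iInf _).mp hx n)
    rw [Submodule.map_smul''] at h0
    have hle : Fil n • Submodule.map g ⊤ ≤ Fil n • (⊤ : Submodule W (Fin r → W)) :=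
      Submodule.smul_mono le_rfl le_top
    have h1 : g x ∈ Fil n • (⊤ : Submodule W (Fin r → W)) := hle h0
    refine Submodule.smul_induction_on h1 (fun a ha y _ => ?_) (fun a b ha hb => ?_)
    · rw [Pi.smul_apply, smul_eq_mul]; exact Ideal.mul_mem_right _ _ ha
    · rw [Pi.add_apply]; exact add_mem ha hb
  rw [← LinearMap.id_apply (R := W) x, ← hfg, LinearMap.comp_apply, hg, map_zero]

theorem quotient_finite_projective [Module.Finite W P] [Module.Projective W P] (I : Ideal W) :
    Module.Finite (W ⧸ I) (P ⧸ I • (⊤ : Submodule W P)) ∧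
      Module.Projective (W ⧸ I) (P ⧸ I • (⊤ : Submodule W P)) := by
  let e := (TensorProduct.quotTensorEquivQuotSMul P I).extendScalarsOfSurjective
    (S := W ⧸ I) Ideal.Quotient.mk_surjective
  exact ⟨Module.Finite.equiv e, Module.Projective.of_equiv e⟩

theorem finite_projective_of_levels (hpn : IsNilpotent (p : R))
    (hsep : (⨅ n, Fil n • (⊤ : Submodule W P)) = ⊥)
    (hlev : ∀ n, Module.Finite (W ⧸ Fil n) (P ⧸ Fil n • (⊤ : Submodule W P)) ∧
      Module.Projective (W ⧸ Fil n) (P ⧸ Fil n • (⊤ : Submodule W P))) :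
    Module.Finite W P ∧ Module.Projective W P := by
  classical
  obtain ⟨a, ha⟩ := hpn
  have : Module.Finite (W ⧸ Fil 1) (P ⧸ Fil 1 • (⊤ : Submodule W P)) := (hlev 1).1
  obtain ⟨r, xb, hxb⟩ := Module.Finite.exists_fin (R := W ⧸ Fil 1) (M := P ⧸ Fil 1 • (⊤ : Submodule W P))
  choose x hx using fun i => Submodule.Quotient.mk_surjective _ (xb i)
  let φ : (Fin r → W) →ₗ[W] P := Fintype.linearCombination W x
  have hgen1 : LinearMap.range φ ⊔ Fil 1 • ⊤ = ⊤ := by
    refine top_le_iff.mp fun z _ => ?_
    obtain ⟨c, hc⟩ := (Submodule.mem_span_range_iff_exists_fun (W ⧸ Fil 1)).mp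
      (hxb ▸ Submodule.mem_top : Submodule.Quotient.mk z ∈ Submodule.span (W ⧸ Fil 1) (Set.range xb))
    choose c' hc' using fun i => Ideal.Quotient.mk_surjective (c i)
    rw [Submodule.mem_sup]
    refine ⟨φ c', LinearMap.mem_range_self φ _, z - φ c', ?_, add_sub_cancel _ _⟩
    rw [← Submodule.Quotient.eq, ← hc, Fintype.linearCombination_apply, ← Submodule.mkQ_apply, map_sum]
    refine Finset.sum_congr rfl fun i _ => ?_
    rw [map_smul, Submodule.mkQ_apply, hx, ← hc']
    exact (algebraMap_smul (W ⧸ Fil 1) (c' i) (xb i)).symm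
  have hgen : ∀ n, LinearMap.range φ ⊔ Fil n • ⊤ = ⊤ := fun n => by
    have h1 : ∀ k, LinearMap.range φ ⊔ (augIdeal p R) ^ k • ⊤ = ⊤ := fun k => by
      induction k with
      | zero => simp
      | succ k ih =>
        refine top_le_iff.mp ?_
        conv_lhs => rw [← hgen1]
        refine sup_le le_sup_left ((Submodule.smul_mono fil_one_le le_rfl).trans ?_)
        conv_lhs => rw [← ih, Submodule.smul_sup, ← Submodule.smul_assoc, smul_eq_mul, ← pow_succ']
        exact sup_le_sup_right Submodule.smul_le_right _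
    refine top_le_iff.mp ((h1 (a * n + 1)).ge.trans ?_)
    exact sup_le_sup_left (Submodule.smul_mono (augIdeal_pow_le ha n) le_rfl) _
  let Q : ℕ → Type u := fun n => Fin r → W ⧸ Fil n
  let φb : ∀ n, Q n →ₗ[W] P ⧸ Fil n • (⊤ : Submodule W P) := fun n =>
    (Fintype.linearCombination (W ⧸ Fil n) fun i => Submodule.Quotient.mk (x i)).restrictScalars W
  have hφb : ∀ n (v : Fin r → W), φb n (fun i => Ideal.Quotient.mk _ (v i)) = Submodule.Quotient.mk (φ v) := by
    intro n v
    simp only [φb, φ, LinearMap.coe_restrictScalars, Fintype.linearCombination_apply]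
    show _ = Submodule.mkQ (Fil n • (⊤ : Submodule W P)) (∑ i, v i • x i)
    rw [map_sum]
    simp only [map_smul, Submodule.mkQ_apply]
    refine (Fintype.linearCombination_apply (R := W ⧸ Fil n) (fun i => (Submodule.Quotient.mk (x i) :
      P ⧸ Fil n • (⊤ : Submodule W P))) (fun i => Ideal.Quotient.mk (Fil n) (v i))).trans ?_
    exact Finset.sum_congr rfl fun i _ => algebraMap_smul (W ⧸ Fil n) (v i) (Submodule.Quotient.mk (x i))
  have hsurj : ∀ n, Function.Surjective (φb n) := fun n z => by
    obtain ⟨z, rfl⟩ := Submodule.Quotient.mk_surjective _ z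
    obtain ⟨_, ⟨v, rfl⟩, w, hw, hz⟩ := Submodule.mem_sup.mp
      ((hgen n).ge (Submodule.mem_top : z ∈ (⊤ : Submodule W P)))
    refine ⟨fun i => Ideal.Quotient.mk _ (v i), ?_⟩
    rw [hφb, Submodule.Quotient.eq, ← hz, sub_add_cancel_left]
    exact neg_mem hw
  let S : ℕ → Type (max u v) := fun n =>
    {s : (P ⧸ Fil n • (⊤ : Submodule W P)) →ₗ[W] Q n // ∀ z, φb n (s z) = z}
  let red : ∀ n, Q (n + 1) →ₗ[W] Q n := fun n => LinearMap.pi fun i =>
    (Submodule.factor (fil_antitone (p := p) (R := R) (Nat.le_succ n))).comp (LinearMap.proj i)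
  let fac : ∀ n, (P ⧸ Fil (n + 1) • (⊤ : Submodule W P)) →ₗ[W] P ⧸ Fil n • (⊤ : Submodule W P) := fun n =>
    Submodule.factor (Submodule.smul_mono (fil_antitone (Nat.le_succ n)) le_rfl)
  have step : ∀ n (s : S n), ∃ s' : S (n + 1), ∀ z, red n (s'.1 z) = s.1 (fac n z) := by
    intro n s
    have := (hlev (n + 1)).2
    have hcomm : ∀ v, φb n (red n v) = fac n (φb (n + 1) v) := fun v => by
      choose v' hv' using fun i => Ideal.Quotient.mk_surjective (v i)
      have hv : v = fun i => Ideal.Quotient.mk _ (v' i) := funext fun i => (hv' i).symm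
      rw [hv, hφb]
      show φb n (fun i => Ideal.Quotient.mk _ (v' i)) = _
      rw [hφb]
      rfl
    let F : Submodule W (Q n × (P ⧸ Fil (n + 1) • (⊤ : Submodule W P))) :=
      LinearMap.ker ((φb n).comp (LinearMap.fst W _ _) - (fac n).comp (LinearMap.snd W _ _))
    let g : Q (n + 1) →ₗ[W] F := ((red n).prod (φb (n + 1))).codRestrict F fun v => by
      simp [F, hcomm]
    let h : (P ⧸ Fil (n + 1) • (⊤ : Submodule W P)) →ₗ[W] F :=
      ((s.1.comp (fac n)).prod LinearMap.id).codRestrict F fun z => by simp [F, s.2]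
    have hg : Function.Surjective g := by
      rintro ⟨⟨v, z⟩, hvz⟩
      simp only [F, LinearMap.mem_ker, LinearMap.sub_apply, LinearMap.comp_apply, LinearMap.fst_apply,
        LinearMap.snd_apply, sub_eq_zero] at hvz
      obtain ⟨w, rfl⟩ := hsurj (n + 1) z
      choose v' hv' using fun i => Ideal.Quotient.mk_surjective (v i)
      choose w' hw' using fun i => Ideal.Quotient.mk_surjective (w i)
      obtain rfl : v = fun i => Ideal.Quotient.mk _ (v' i) := funext fun i => (hv' i).symm
      obtain rfl : w = fun i => Ideal.Quotient.mk _ (w' i) := funext fun i => (hw' i).symm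
      rw [hφb] at hvz
      rw [show fac n (φb (n + 1) fun i => Ideal.Quotient.mk _ (w' i)) =
        Submodule.Quotient.mk (φ w') by rw [hφb]; rfl, Submodule.Quotient.eq, ← map_sub] at hvz
      have h2 : φ (v' - w') ∈ (Fil n • (⊤ : Submodule W (Fin r → W))).map φ ⊔
          Fil (n + 1) • (⊤ : Submodule W P) := by
        have h3 : Fil n • (⊤ : Submodule W P) ≤ Fil n • LinearMap.range φ ⊔ Fil (n + 1) • ⊤ := by
          conv_lhs => rw [← hgen (n + 1)]
          rw [Submodule.smul_sup]
          exact sup_le_sup_left Submodule.smul_le_right _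
        rw [Submodule.map_smul'', Submodule.map_top]
        exact h3 hvz
      obtain ⟨_, ⟨d, hd, rfl⟩, q, hq, hdq⟩ := Submodule.mem_sup.mp h2
      refine ⟨fun i => Ideal.Quotient.mk _ (v' i - d i), Subtype.ext (Prod.ext (funext fun i => ?_) ?_)⟩
      · show Submodule.factor (fil_antitone (p := p) (R := R) (Nat.le_succ n)) (Ideal.Quotient.mk (fil p R (n + 1)) (v' i - d i)) =
          Ideal.Quotient.mk (fil p R n) (v' i)
        refine (Submodule.Quotient.eq _).mpr ?_
        rw [LinearMap.id_apply, sub_sub_cancel_left]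
        refine neg_mem ?_
        exact Submodule.smul_induction_on hd (fun a ha y _ => by
          rw [Pi.smul_apply, smul_eq_mul]; exact Ideal.mul_mem_right _ _ ha)
          (fun a b ha hb => by rw [Pi.add_apply]; exact add_mem ha hb)
      · show φb (n + 1) (fun i => Ideal.Quotient.mk _ ((v' - d) i)) =
          φb (n + 1) (fun i => Ideal.Quotient.mk _ (w' i))
        rw [hφb, hφb, Submodule.Quotient.eq]
        rw [map_sub] at hdq ⊢
        have h4 : φ v' - φ d - φ w' = q := by rw [sub_right_comm, ← hdq, add_sub_cancel_left]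
        rw [h4]; exact hq
    obtain ⟨l, hl⟩ := exists_lift_of_projective (I := Fil (n + 1)) (N := Q (n + 1))
      (fun a ha y => funext fun i => by
        obtain ⟨c, hc⟩ := Ideal.Quotient.mk_surjective (y i)
        rw [Pi.smul_apply, ← hc]
        exact Ideal.Quotient.eq_zero_iff_mem.mpr (Ideal.mul_mem_right _ _ ha)) g hg h
    refine ⟨⟨l, fun z => ?_⟩, fun z => ?_⟩
    · exact congrArg (fun y => y.1.2) (LinearMap.congr_fun hl z)
    · exact congrArg (fun y => y.1.1) (LinearMap.congr_fun hl z)
  choose next hnext using step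
  let s₀ : S 0 := ⟨0, fun z => by
    have : Subsingleton (P ⧸ Fil 0 • (⊤ : Submodule W P)) := by
      rw [Submodule.Quotient.subsingleton_iff, fil_zero, Submodule.top_smul]
    exact Subsingleton.elim _ _⟩
  let s : ∀ n, S n := fun n => Nat.rec s₀ next n
  have hred : ∀ n z, red n ((s (n + 1)).1 z) = (s n).1 (fac n z) := fun n z => hnext n (s n) z
  have hlim : ∀ (z : P) (i : Fin r), ∃ L : W, ∀ n, Ideal.Quotient.mk _ L = (s n).1 (Submodule.Quotient.mk z) i := by
    intro z i
    choose c hc using fun n => Ideal.Quotient.mk_surjective ((s n).1 (Submodule.Quotient.mk z) i)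
    obtain ⟨L, hL⟩ := exists_compat c fun n => by
      refine Ideal.Quotient.eq.mp ?_
      rw [hc n]
      have h1 : Submodule.factor (fil_antitone (p := p) (R := R) (Nat.le_succ n))
          ((s (n + 1)).1 (Submodule.Quotient.mk z) i) = (s n).1 (Submodule.Quotient.mk z) i :=
        congrFun (hred n (Submodule.Quotient.mk z)) i
      rw [← hc (n + 1)] at h1
      exact h1
    exact ⟨L, fun n => (Ideal.Quotient.eq.mpr (hL n)).trans (hc n)⟩
  choose L hL using hlim
  have huniq : ∀ {y y' : W}, (∀ n, Ideal.Quotient.mk (Fil n) y = Ideal.Quotient.mk _ y') → y = y' :=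
    fun h => sub_eq_zero.mp (eq_zero_of_forall_mem fun n => Ideal.Quotient.eq.mp (h n))
  let σ : P →ₗ[W] (Fin r → W) :=
    { toFun := fun z i => L z i
      map_add' := fun z z' => funext fun i => huniq fun n => by
        rw [Pi.add_apply, map_add, hL, hL, hL, Submodule.Quotient.mk_add, map_add, Pi.add_apply]
      map_smul' := fun c z => funext fun i => huniq fun n => by
        rw [Pi.smul_apply, smul_eq_mul, map_mul, hL, hL, Submodule.Quotient.mk_smul, map_smul,
          Pi.smul_apply, Algebra.smul_def]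
        rfl }
  have hφσ : φ.comp σ = LinearMap.id := LinearMap.ext fun z => by
    refine sub_eq_zero.mp ((Submodule.mem_bot W).mp (hsep ▸ (Submodule.mem_iInf _).mpr fun n => ?_))
    rw [← Submodule.Quotient.eq, LinearMap.comp_apply, ← hφb, LinearMap.id_apply,
      show (fun i => Ideal.Quotient.mk (Fil n) (σ z i)) = (s n).1 (Submodule.Quotient.mk z) from
        funext fun i => hL z i n]
    exact (s n).2 _
  exact ⟨Module.Finite.of_surjective φ fun z => ⟨σ z, LinearMap.congr_fun hφσ z⟩,
    Module.Projective.of_split σ φ hφσ⟩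

end Projective

end Groth.Agent.CommAlg4.WittProj
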