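import Mathlib
import Groth.Prelude
import Groth.Agent.CommAlg4.WittProj

/-!
Ghost components of truncated Witt vectors and the graded pieces of the `V`-filtration.
-/
set_option autoImplicit false
set_option linter.all false

universe u

namespace Groth.Agent.CommAlg4.WittGhost

open WittVector

variable {p : ℕ} [Fact p.Prime] {n : ℕ} {R : Type u} [CommRing R] {S : Type u} [CommRing S]

theorem ghost_sum (k : ℕ) (x : WittVector p R) :
    ghostComponent k x = ∑ i ∈ Finset.range (k + 1), (p : R) ^ i * x.coeff i ^ p ^ (k - i) := by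
  simp [ghostComponent_apply, aeval_wittPolynomial]

theorem ghost_eq_zero {k : ℕ} (hk : k < n) {x : WittVector p R} (hx : x ∈ RingHom.ker (WittVector.truncate (p := p) (R := R) n)) :
    ghostComponent k x = 0 := by
  rw [ghost_sum]
  refine Finset.sum_eq_zero fun i hi => ?_
  rw [(WittVector.mem_ker_truncate n x).1 hx i (by have := Finset.mem_range.1 hi; omega),
    zero_pow (pow_ne_zero _ (Fact.out : p.Prime).ne_zero), mul_zero]

/-- The `k`-th ghost component on `W_n(R)`, for `k < n`. -/
noncomputable def gh (k : ℕ) (hk : k < n) : TruncatedWittVector p n R →+* R :=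
  (WittVector.truncate (p := p) (R := R) n).liftOfSurjective (WittVector.truncate_surjective p n R)
    ⟨ghostComponent k, fun x hx => RingHom.mem_ker.2 (ghost_eq_zero hk hx)⟩

theorem gh_truncate {k : ℕ} (hk : k < n) (x : WittVector p R) :
    gh k hk (WittVector.truncate n x) = ghostComponent k x :=
  RingHom.liftOfRightInverse_comp_apply _ _ _ _ _

theorem gh_map {k : ℕ} (hk : k < n) (f : R →+* S) (x : TruncatedWittVector p n R) :
    gh k hk (WittGrp.truncMap p n f x) = f (gh k hk x) := by
  obtain ⟨X, rfl⟩ := WittVector.truncate_surjective p n R x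
  simp [WittGrp.truncMap_truncate, gh_truncate, ghost_sum, map_sum]

theorem gh_zero (hn : 0 < n) (x : TruncatedWittVector p n R) : gh 0 hn x = x.coeff ⟨0, hn⟩ := by
  obtain ⟨X, rfl⟩ := WittVector.truncate_surjective p n R x
  simp [gh_truncate, ghost_sum, WittVector.coeff_truncate]

theorem isNilpotent_of_gh_zero (hp : IsNilpotent (p : R)) (hn : 0 < n) {x : TruncatedWittVector p n R}
    (hx : IsNilpotent (gh 0 hn x)) : IsNilpotent x := by
  obtain ⟨X, rfl⟩ := WittVector.truncate_surjective p n R x
  rw [gh_zero, WittVector.coeff_truncate] at hx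
  obtain ⟨m, hm⟩ := WittProj.exists_pow_mem_fil hp hx n
  exact ⟨m, by rw [← map_pow]; exact RingHom.mem_ker.1 hm⟩

variable (p n R) in
/-- Truncated Witt vectors with vanishing first `k` components. -/
noncomputable def low (k : ℕ) : Ideal (TruncatedWittVector p n R) where
  carrier := {x | ∀ i : Fin n, (i : ℕ) < k → x.coeff i = 0}
  zero_mem' i _ := by
    have := WittVector.coeff_truncate (p := p) (0 : WittVector p R) i
    rwa [map_zero, WittVector.zero_coeff] at this
  add_mem' {a b} ha hb i hi := by
    obtain ⟨A, rfl⟩ := WittVector.truncate_surjective p n R a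
    obtain ⟨B, rfl⟩ := WittVector.truncate_surjective p n R b
    have h : ∀ {C : WittVector p R}, (∀ j : Fin n, (j : ℕ) < k → (WittVector.truncate n C).coeff j = 0) →
        C ∈ RingHom.ker (WittVector.truncate (p := p) (R := R) (min k n)) := fun hC =>
      (WittVector.mem_ker_truncate _ _).2 fun j hj => by
        simpa [WittVector.coeff_truncate] using hC ⟨j, lt_of_lt_of_le hj (min_le_right _ _)⟩ (lt_of_lt_of_le hj (min_le_left _ _))
    rw [← map_add, WittVector.coeff_truncate]
    exact (WittVector.mem_ker_truncate _ _).1 (add_mem (h ha) (h hb)) i (lt_min hi i.2)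
  smul_mem' c x hx i hi := by
    obtain ⟨C, rfl⟩ := WittVector.truncate_surjective p n R c
    obtain ⟨X, rfl⟩ := WittVector.truncate_surjective p n R x
    have h : X ∈ RingHom.ker (WittVector.truncate (p := p) (R := R) (min k n)) :=
      (WittVector.mem_ker_truncate _ _).2 fun j hj => by
        simpa [WittVector.coeff_truncate] using hx ⟨j, lt_of_lt_of_le hj (min_le_right _ _)⟩ (lt_of_lt_of_le hj (min_le_left _ _))
    rw [smul_eq_mul, ← map_mul, WittVector.coeff_truncate]
    exact (WittVector.mem_ker_truncate _ _).1 (Ideal.mul_mem_left _ C h) i (lt_min hi i.2)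

theorem mem_low {k : ℕ} {x : TruncatedWittVector p n R} : x ∈ low p n R k ↔ ∀ i : Fin n, (i : ℕ) < k → x.coeff i = 0 :=
  Iff.rfl

theorem low_top {x : TruncatedWittVector p n R} (h : x ∈ low p n R n) : x = 0 :=
  TruncatedWittVector.ext fun i => by rw [h i i.2, (low p n R n).zero_mem i i.2]

theorem low_succ {k : ℕ} (hk : k < n) {x : TruncatedWittVector p n R} :
    x ∈ low p n R (k + 1) ↔ x ∈ low p n R k ∧ x.coeff ⟨k, hk⟩ = 0 :=
  ⟨fun h => ⟨fun i hi => h i (by omega), h _ (Nat.lt_succ_self k)⟩, fun h i hi => by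
    rcases Nat.lt_succ_iff_lt_or_eq.1 hi with h' | h'
    · exact h.1 i h'
    · rw [show i = ⟨k, hk⟩ from Fin.ext h']; exact h.2⟩

theorem exists_iterate {k : ℕ} (hk : k < n) {x : TruncatedWittVector p n R} (hx : x ∈ low p n R k) :
    ∃ Y : WittVector p R, WittVector.truncate n (verschiebung^[k] Y) = x := by
  obtain ⟨X, rfl⟩ := WittVector.truncate_surjective p n R x
  refine ⟨X.shift k, ?_⟩
  rw [← eq_iterate_verschiebung fun i hi => ?_]
  simpa [WittVector.coeff_truncate] using hx ⟨i, hi.trans hk⟩ hi

theorem coeff_iterate {k : ℕ} (hk : k < n) (Y : WittVector p R) :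
    (WittVector.truncate n (verschiebung^[k] Y)).coeff ⟨k, hk⟩ = Y.coeff 0 := by
  rw [WittVector.coeff_truncate]
  simpa using iterate_verschiebung_coeff Y k 0

theorem coeff_add {k : ℕ} (hk : k < n) {x y : TruncatedWittVector p n R} (hx : x ∈ low p n R k) (hy : y ∈ low p n R k) :
    (x + y).coeff ⟨k, hk⟩ = x.coeff ⟨k, hk⟩ + y.coeff ⟨k, hk⟩ := by
  obtain ⟨X, rfl⟩ := exists_iterate hk hx
  obtain ⟨Y, rfl⟩ := exists_iterate hk hy
  rw [← map_add, ← iterate_map_add, coeff_iterate, coeff_iterate, coeff_iterate,
    show (X + Y).coeff 0 = constantCoeff (X + Y) from rfl, map_add]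
  rfl

theorem ghost_frobenius_iterate (k j : ℕ) (x : WittVector p R) :
    ghostComponent j (frobenius^[k] x) = ghostComponent (j + k) x := by
  induction k generalizing j with
  | zero => rfl
  | succ k ih => rw [Function.iterate_succ_apply', ghostComponent_frobenius, ih]; ring_nf

theorem coeff_mul {k : ℕ} (hk : k < n) {x : TruncatedWittVector p n R} (hx : x ∈ low p n R k)
    (w : TruncatedWittVector p n R) : (x * w).coeff ⟨k, hk⟩ = x.coeff ⟨k, hk⟩ * gh k hk w := by
  obtain ⟨X, rfl⟩ := exists_iterate hk hx
  obtain ⟨W, rfl⟩ := WittVector.truncate_surjective p n R w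
  rw [← map_mul, iterate_verschiebung_mul_left, coeff_iterate, coeff_iterate, gh_truncate,
    show (X * frobenius^[k] W).coeff 0 = constantCoeff (X * frobenius^[k] W) from rfl, map_mul]
  congr 1
  have := ghost_frobenius_iterate k 0 W
  rw [Nat.zero_add, ghost_sum 0] at this
  simpa using this

theorem map_mem_low {k : ℕ} (f : R →+* S) {x : TruncatedWittVector p n R} (hx : x ∈ low p n R k) :
    WittGrp.truncMap p n f x ∈ low p n S k := fun i hi => by
  rw [WittGrp.coeff_truncMap, hx i hi, map_zero]

/-- The `k`-th component, additive on `low k`. -/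
noncomputable def co {k : ℕ} (hk : k < n) : low p n R k →+ R :=
  AddMonoidHom.mk' (fun x => (x : TruncatedWittVector p n R).coeff ⟨k, hk⟩) fun x y => coeff_add hk x.2 y.2

theorem exists_co {k : ℕ} (hk : k < n) (c : R) : ∃ x : low p n R k, co hk x = c :=
  ⟨⟨TruncatedWittVector.mk p fun i => if (i : ℕ) = k then c else 0, fun i hi => by
    rw [TruncatedWittVector.coeff_mk, if_neg (by omega)]⟩, by simp [co, TruncatedWittVector.coeff_mk]⟩

end Groth.Agent.CommAlg4.WittGhost
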