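import Mathlib
import Groth.Prelude
import Groth.Agent.CommAlg4.WittGhost
import Groth.Agent.CAlgML.Projective

/-!
Faithfully flat descent for matrices over truncated Witt vectors.
-/
set_option autoImplicit false
set_option linter.all false
set_option maxHeartbeats 1000000

universe u

namespace Groth.Agent.CommAlg4.WittDescMat

open TensorProduct

variable {R R' : Type u} [CommRing R] [CommRing R'] [Algebra R R']

variable (R R') in
/-- `R' ⊗ R'`. -/
abbrev T2 : Type u := R' ⊗[R] R'

variable (R R') in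
/-- `R' ⊗ R' ⊗ R'`. -/
abbrev T3 : Type u := R' ⊗[R] (R' ⊗[R] R')

noncomputable def i1 : R' →+* T2 R R' := Algebra.TensorProduct.includeLeftRingHom
noncomputable def i2 : R' →+* T2 R R' := (Algebra.TensorProduct.includeRight : R' →ₐ[R] T2 R R').toRingHom
noncomputable def d12 : T2 R R' →+* T3 R R' :=
  (Algebra.TensorProduct.map (AlgHom.id R R') (Algebra.TensorProduct.includeLeft : R' →ₐ[R] T2 R R')).toRingHom
noncomputable def d13 : T2 R R' →+* T3 R R' :=
  (Algebra.TensorProduct.map (AlgHom.id R R') (Algebra.TensorProduct.includeRight : R' →ₐ[R] T2 R R')).toRingHom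
noncomputable def d23 : T2 R R' →+* T3 R R' :=
  (Algebra.TensorProduct.includeRight : T2 R R' →ₐ[R] T3 R R').toRingHom
noncomputable def μ : T2 R R' →+* R' := (Algebra.TensorProduct.lmul' R (S := R')).toRingHom

theorem i1_apply (a : R') : (i1 a : T2 R R') = a ⊗ₜ 1 := rfl
theorem i2_apply (a : R') : (i2 a : T2 R R') = 1 ⊗ₜ a := rfl
theorem d12_tmul (a b : R') : (d12 (a ⊗ₜ b) : T3 R R') = a ⊗ₜ (b ⊗ₜ 1) := by
  simp [d12]
theorem d13_tmul (a b : R') : (d13 (a ⊗ₜ b) : T3 R R') = a ⊗ₜ (1 ⊗ₜ b) := by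
  simp [d13]
theorem d23_apply (c : T2 R R') : (d23 c : T3 R R') = 1 ⊗ₜ c := rfl
theorem μ_tmul (a b : R') : μ (a ⊗ₜ[R] b) = a * b := Algebra.TensorProduct.lmul'_apply_tmul a b

theorem μ_i1 (a : R') : μ (i1 (R := R) a) = a := by rw [i1_apply, μ_tmul, mul_one]
theorem μ_i2 (a : R') : μ (i2 (R := R) a) = a := by rw [i2_apply, μ_tmul, one_mul]
theorem d12_i1 : (d12 (R := R) (R' := R')).comp i1 = d13.comp i1 := RingHom.ext fun a => by
  simp [i1_apply, d12_tmul, d13_tmul]
theorem d12_i2 : (d12 (R := R) (R' := R')).comp i2 = d23.comp i1 := RingHom.ext fun a => by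
  simp [i1_apply, i2_apply, d12_tmul, d23_apply]
theorem d13_i2 : (d13 (R := R) (R' := R')).comp i2 = d23.comp i2 := RingHom.ext fun a => by
  simp [i2_apply, d13_tmul, d23_apply]
theorem i1_algebraMap (r : R) : (i1 (algebraMap R R' r) : T2 R R') = algebraMap R _ r := rfl
theorem i2_algebraMap (r : R) : (i2 (algebraMap R R' r) : T2 R R') = algebraMap R _ r :=
  (Algebra.TensorProduct.includeRight : R' →ₐ[R] T2 R R').commutes r

variable {ι : Type} [Fintype ι] [DecidableEq ι]

/-- A matrix descent datum relative to `R → R'`. -/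
structure IsDatum (E : Matrix ι ι R') (A : Matrix ι ι (T2 R R')) : Prop where
  left : E.map i1 * A = A
  right : A * E.map i2 = A
  cocycle : A.map d12 * A.map d23 = A.map d13
  unit : A.map μ = E

theorem IsDatum.idem {E : Matrix ι ι R'} {A : Matrix ι ι (T2 R R')} (h : IsDatum E A) : E * E = E := by
  have := congrArg (fun M => M.map μ) h.left
  simpa [Matrix.map_mul, Matrix.map_map, Function.comp_def, μ_i1, h.unit] using this

section Classical

variable {E : Matrix ι ι R'} {A : Matrix ι ι (T2 R R')}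

/-- `b ↦ i₁(b) A_jl - i₂(b E_jl)`. -/
noncomputable def G (E : Matrix ι ι R') (A : Matrix ι ι (T2 R R')) (j l : ι) : R' →ₗ[R] T2 R R' where
  toFun b := i1 b * A j l - i2 (b * E j l)
  map_add' b b' := by rw [map_add, add_mul, add_mul, map_add, add_sub_add_comm]
  map_smul' r b := by
    simp only [Algebra.smul_def, map_mul, mul_assoc, i1_algebraMap, i2_algebraMap, RingHom.id_apply, mul_sub]

theorem G_lTensor (E : Matrix ι ι R') (A : Matrix ι ι (T2 R R')) (j l : ι) (t : T2 R R') :
    (G E A j l).lTensor R' t = d12 t * d23 (A j l) - d13 (t * i2 (E j l)) := by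
  induction t using TensorProduct.induction_on with
  | zero => simp
  | tmul a b =>
    simp only [LinearMap.lTensor_tmul, G, LinearMap.coe_mk, AddHom.coe_mk, tmul_sub]
    simp [d12_tmul, d23_apply, i2_apply, d13_tmul, i1_apply]
  | add x y hx hy => simp only [map_add, hx, hy, add_mul]; abel

/-- `z ↦ i₁(z) A - i₂(z E)`. -/
noncomputable def D0 (E : Matrix ι ι R') (A : Matrix ι ι (T2 R R')) : (ι → R') →ₗ[R] (ι → T2 R R') :=
  LinearMap.pi fun l => ∑ j, (G E A j l).comp (LinearMap.proj j)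

theorem D0_apply (E : Matrix ι ι R') (A : Matrix ι ι (T2 R R')) (z : ι → R') :
    D0 E A z = Matrix.vecMul (i1 ∘ z) A - i2 ∘ Matrix.vecMul z E := by
  ext l
  simp [D0, G, Matrix.vecMul, dotProduct, Finset.sum_sub_distrib, map_sum]

theorem piRight_lTensor_D0 (E : Matrix ι ι R') (A : Matrix ι ι (T2 R R')) (x : R' ⊗[R] (ι → R')) (l : ι) :
    TensorProduct.piRight R R R' (fun _ => T2 R R') ((D0 E A).lTensor R' x) l =
      ∑ j, (G E A j l).lTensor R' (TensorProduct.piRight R R R' (fun _ => R') x j) := by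
  induction x using TensorProduct.induction_on with
  | zero => simp
  | tmul a z => simp [D0, tmul_sum]
  | add x y hx hy => simp only [map_add, Pi.add_apply, hx, hy, Finset.sum_add_distrib]

variable [Module.FaithfullyFlat R R']

theorem exists_primitive_vec (h : IsDatum E A) (c : ι → T2 R R') (hc : Matrix.vecMul c (E.map i2) = c)
    (hcoc : Matrix.vecMul (d12 ∘ c) (A.map d23) + d23 ∘ c = d13 ∘ c) :
    ∃ z : ι → R', Matrix.vecMul z E = z ∧ Matrix.vecMul (i1 ∘ z) A - i2 ∘ z = -c := by
  let w : R' ⊗[R] (ι → R') := (TensorProduct.piRight R R R' (fun _ : ι => R')).symm c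
  have hw : (D0 E A).lTensor R' w = (1 : R') ⊗ₜ[R] (-c) := by
    refine (TensorProduct.piRight R R R' (fun _ : ι => T2 R R')).injective (funext fun l => ?_)
    rw [piRight_lTensor_D0, LinearEquiv.apply_symm_apply]
    simp only [G_lTensor, Finset.sum_sub_distrib, TensorProduct.piRight_apply, TensorProduct.piRightHom_tmul,
      Pi.neg_apply]
    rw [← map_sum d13]
    have h1 := congrFun hcoc l
    have h2 := congrFun hc l
    simp only [Matrix.vecMul, dotProduct, Function.comp_apply, Matrix.map_apply, Pi.add_apply] at h1 h2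
    rw [h2, ← h1, tmul_neg, ← d23_apply]
    abel
  obtain ⟨z, hz⟩ : -c ∈ LinearMap.range (D0 E A) := by
    rw [← Submodule.ker_mkQ (LinearMap.range (D0 E A)), LinearMap.mem_ker]
    refine (Module.FaithfullyFlat.one_tmul_eq_zero_iff (R := R) (A := R') _ _).1 ?_
    have : ((LinearMap.range (D0 E A)).mkQ.lTensor R') ((D0 E A).lTensor R' w) = 0 := by
      rw [← LinearMap.comp_apply, ← LinearMap.lTensor_comp, LinearMap.range_mkQ_comp, LinearMap.lTensor_zero]
      rfl
    rwa [hw, LinearMap.lTensor_tmul] at this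
  refine ⟨Matrix.vecMul z E, by rw [Matrix.vecMul_vecMul, h.idem], ?_⟩
  rw [← hz, D0_apply, show i1 (R := R) ∘ Matrix.vecMul z E = Matrix.vecMul (i1 ∘ z) (E.map i1) from
    funext fun l => RingHom.map_vecMul i1 E z l, Matrix.vecMul_vecMul, h.left]

theorem exists_primitive {s : Type} (h : IsDatum E A) (C : Matrix s ι (T2 R R')) (hc : C * E.map i2 = C)
    (hcoc : C.map d12 * A.map d23 + C.map d23 = C.map d13) :
    ∃ Z : Matrix s ι R', Z * E = Z ∧ Z.map i1 * A - Z.map i2 = -C := by
  choose z hz hz' using fun i => exists_primitive_vec h (C i) (congrFun hc i) (congrFun hcoc i)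
  exact ⟨z, funext hz, funext hz'⟩

/-- Effectiveness of classical descent for the datum `(E, A)`. -/
theorem exists_effective (h : IsDatum E A) :
    ∃ (s : ℕ) (Q : Matrix (Fin s) (Fin s) R) (G : Matrix (Fin s) ι R') (Y : Matrix ι (Fin s) R'),
      IsIdempotentElem Q ∧ G * E = G ∧ G.map i1 * A = G.map i2 ∧ Q.map (algebraMap R R') * G = G ∧
        Y * G = E ∧ G * Y = Q.map (algebraMap R R') := by
  classical
  let pE : (ι → R') →ₗ[R'] (ι → R') := Matrix.vecMulLinear E
  let L : (ι → R') →ₗ[R] (ι → R') × (ι → T2 R R') := (LinearMap.id - pE.restrictScalars R).prod (D0 E A)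
  let N : Submodule R (ι → R') := LinearMap.ker L
  have hN : ∀ z ∈ N, Matrix.vecMul z E = z ∧ Matrix.vecMul (i1 ∘ z) A = i2 ∘ z := by
    intro z hz
    obtain ⟨h1, h2⟩ : z - Matrix.vecMul z E = 0 ∧ D0 E A z = 0 :=
      Prod.ext_iff.1 (LinearMap.mem_ker.1 hz)
    rw [sub_eq_zero] at h1
    rw [D0_apply, sub_eq_zero, ← h1] at h2
    exact ⟨h1.symm, h2⟩
  let K : Submodule R' (ι → R') := LinearMap.range pE
  have hK : ∀ v, v ∈ K ↔ Matrix.vecMul v E = v := fun v =>
    ⟨by rintro ⟨w, rfl⟩; simp [pE, Matrix.vecMul_vecMul, h.idem], fun hv => ⟨v, hv⟩⟩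
  let ν : R' ⊗[R] N →ₗ[R'] (ι → R') := LinearMap.liftBaseChange R' N.subtype
  let em : R' ⊗[R] N → (ι → T2 R R') := fun t =>
    TensorProduct.piRight R R R' (fun _ : ι => R') (N.subtype.lTensor R' t)
  have hνK : ∀ t, ν t ∈ K := fun t => by
    induction t using TensorProduct.induction_on with
    | zero => simp
    | tmul a z => simpa [ν] using K.smul_mem a ((hK _).2 (hN z z.2).1)
    | add x y hx hy => rw [map_add]; exact add_mem hx hy
  have hem : ∀ t, em t = Matrix.vecMul (i1 ∘ ν t) A := fun t => by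
    induction t using TensorProduct.induction_on with
    | zero =>
      funext l
      simp [em, Matrix.vecMul, dotProduct]
    | tmul a z =>
      have : (⇑(i1 (R := R)) ∘ ν (a ⊗ₜ z) : ι → T2 R R') =
          (i1 (R := R) a) • (fun j => i1 (R := R) ((z : ι → R') j) : ι → T2 R R') := funext fun j => by
        rw [Function.comp_apply, Pi.smul_apply, smul_eq_mul, ← map_mul]; simp [ν]
      rw [this, Matrix.smul_vecMul, show (fun j => i1 (R := R) ((z : ι → R') j)) = ⇑(i1 (R := R)) ∘ (z : ι → R') from rfl,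
        (hN z z.2).2]
      funext l
      simp [em, i1_apply, i2_apply]
    | add x y hx hy =>
      have : i1 (R := R) ∘ ν (x + y) = i1 ∘ ν x + i1 ∘ ν y := funext fun j => by simp
      rw [this, Matrix.add_vecMul, ← hx, ← hy]
      simp [em]
  have hemInj : Function.Injective em :=
    (TensorProduct.piRight R R R' (fun _ : ι => R')).injective.comp
      (Module.Flat.lTensor_preserves_injective_linearMap N.subtype N.injective_subtype)
  have hνinj : Function.Injective ν := fun t t' htt => hemInj (by rw [hem, hem, htt])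
  have hνsurj : ∀ v ∈ K, ∃ t, ν t = v := by
    intro v hv
    rw [hK] at hv
    let z' : ι → T2 R R' := Matrix.vecMul (i1 ∘ v) A
    have hz' : Matrix.vecMul z' (E.map i2) = z' := by rw [Matrix.vecMul_vecMul, h.right]
    have hker : L.lTensor R' ((TensorProduct.piRight R R R' (fun _ : ι => R')).symm z') = 0 := by
      refine (TensorProduct.prodRight R R R' (ι → R') (ι → T2 R R')).injective ?_
      rw [map_zero]
      generalize hw : (TensorProduct.piRight R R R' (fun _ : ι => R')).symm z' = w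
      have hpr : ∀ x : R' ⊗[R] (ι → R'), TensorProduct.prodRight R R R' _ _ (L.lTensor R' x) =
          ((LinearMap.id - pE.restrictScalars R).lTensor R' x, (D0 E A).lTensor R' x) := fun x => by
        induction x using TensorProduct.induction_on with
        | zero => simp only [map_zero]; exact Prod.mk_zero_zero.symm
        | tmul a y => simp [L, tmul_sub]
        | add x y hx hy => simp only [map_add, hx, hy, Prod.mk_add_mk]
      have hP : ∀ x : R' ⊗[R] (ι → R'), TensorProduct.piRight R R R' (fun _ : ι => R') ((pE.restrictScalars R).lTensor R' x) =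
          Matrix.vecMul (TensorProduct.piRight R R R' (fun _ : ι => R') x) (E.map i2) := fun x => by
        induction x using TensorProduct.induction_on with
        | zero => simp
        | tmul a y =>
          funext l
          simp [pE, Matrix.vecMul, dotProduct, i2_apply, tmul_sum]
        | add x y hx hy => simp only [map_add, hx, hy, Matrix.add_vecMul]
      have hzw : TensorProduct.piRight R R R' (fun _ : ι => R') w = z' := by rw [← hw, LinearEquiv.apply_symm_apply]
      rw [hpr]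
      refine Prod.ext ((TensorProduct.piRight R R R' (fun _ : ι => R')).injective ?_)
        ((TensorProduct.piRight R R R' (fun _ : ι => T2 R R')).injective (funext fun l => ?_))
      · rw [LinearMap.lTensor_sub, LinearMap.sub_apply, map_sub, LinearMap.lTensor_id, LinearMap.id_apply, hP, hzw, hz', sub_self]
        rfl
      · rw [piRight_lTensor_D0, hzw]
        simp only [G_lTensor, Finset.sum_sub_distrib, Prod.snd_zero, map_zero, Pi.zero_apply]
        rw [← map_sum d13]
        have h2 := congrFun hz' l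
        simp only [Matrix.vecMul, dotProduct, Matrix.map_apply] at h2
        rw [h2, sub_eq_zero]
        have e1 : (d12 : T2 R R' →+* T3 R R') ∘ z' = Matrix.vecMul (d12 ∘ i1 ∘ v) (A.map d12) :=
          funext fun j => RingHom.map_vecMul d12 A _ j
        have e3 : (d13 : T2 R R' →+* T3 R R') ∘ z' = Matrix.vecMul (d12 ∘ i1 ∘ v) (A.map d13) := by
          rw [show (d12 : T2 R R' →+* T3 R R') ∘ i1 ∘ v = d13 ∘ i1 ∘ v from
            funext fun j => RingHom.congr_fun d12_i1 (v j)]
          exact funext fun j => RingHom.map_vecMul d13 A _ j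
        have : Matrix.vecMul (d12 ∘ z') (A.map d23) = (d13 : T2 R R' →+* T3 R R') ∘ z' := by
          rw [e1, Matrix.vecMul_vecMul, h.cocycle, e3]
        exact congrFun this l
    obtain ⟨t, ht⟩ := (Module.Flat.lTensor_exact R' L.exact_subtype_ker_map _).1 hker
    refine ⟨t, ?_⟩
    have h1 : em t = z' := by
      show TensorProduct.piRight R R R' (fun _ : ι => R') (N.subtype.lTensor R' t) = z'
      rw [show N.subtype.lTensor R' t = (TensorProduct.piRight R R R' (fun _ : ι => R')).symm z' from ht,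
        LinearEquiv.apply_symm_apply]
    rw [hem] at h1
    have h2 : ∀ x : ι → R', μ (R := R) ∘ Matrix.vecMul (i1 ∘ x) A = Matrix.vecMul x E := fun x => funext fun l => by
      simp [Matrix.vecMul, dotProduct, μ_i1, ← h.unit]
    have h3 := congrArg (fun y => μ (R := R) ∘ y) h1
    simp only [z', h2, hv, (hK _).1 (hνK t)] at h3
    exact h3
  let e : R' ⊗[R] N ≃ₗ[R'] K := LinearEquiv.ofBijective (ν.codRestrict K hνK)
    ⟨fun t t' htt => hνinj (congrArg Subtype.val htt), fun v => (hνsurj v v.2).imp fun t ht => Subtype.ext ht⟩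
  have hKp : Module.Projective R' K := Module.Projective.of_split K.subtype pE.rangeRestrict
    (LinearMap.ext fun v => Subtype.ext ((hK v.1).1 v.2))
  haveI : Module.Finite R' (R' ⊗[R] N) := Module.Finite.equiv e.symm
  haveI : Module.Projective R' (R' ⊗[R] N) := Module.Projective.of_equiv e.symm
  haveI : Module.Finite R N := Module.Finite.of_finite_tensorProduct_of_faithfullyFlat R'
  haveI : Module.Projective R N := Groth.Agent.CAlgML.projective_descent (R := R) (S := R') (M := N)
  obtain ⟨s, π, σ, -, -, hπσ⟩ := Module.Finite.exists_comp_eq_id_of_projective R N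
  let Q : Matrix (Fin s) (Fin s) R := fun i => σ (π (Pi.single i 1))
  let Gm : Matrix (Fin s) ι R' := fun i => (π (Pi.single i 1) : N)
  have hσπ : ∀ z, π (σ z) = z := fun z => LinearMap.congr_fun hπσ z
  have hπ : ∀ c : Fin s → R, ((π c : N) : ι → R') = Matrix.vecMul (algebraMap R R' ∘ c) Gm := by
    intro c
    conv_lhs => rw [pi_eq_sum_univ' c, map_sum, AddSubmonoidClass.coe_finsetSum]
    funext l
    simp only [map_smul, SetLike.val_smul, Finset.sum_apply, Pi.smul_apply]
    simp [Gm, Matrix.vecMul, dotProduct, Algebra.smul_def]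
  have hQ : IsIdempotentElem Q := by
    funext i
    show Matrix.vecMul (Q i) Q = Q i
    have : ∀ c : Fin s → R, Matrix.vecMul c Q = σ (π c) := fun c => by
      conv_rhs => rw [pi_eq_sum_univ' c, map_sum, map_sum]
      funext l
      simp [Q, Matrix.vecMul, dotProduct]
    rw [this]
    exact congrArg σ (hσπ _)
  have hQG : Q.map (algebraMap R R') * Gm = Gm := funext fun i =>
    ((hπ (Q i)).symm.trans (congrArg Subtype.val (hσπ _)))
  have hGE : Gm * E = Gm := funext fun i => (hN _ (π (Pi.single i 1)).2).1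
  have hspan : ∀ t : R' ⊗[R] N, ∃ c : Fin s → R', ν t = Matrix.vecMul c Gm := fun t => by
    induction t using TensorProduct.induction_on with
    | zero => exact ⟨0, by simp⟩
    | tmul a z =>
      refine ⟨a • (algebraMap R R' ∘ σ z), ?_⟩
      rw [Matrix.smul_vecMul, ← hπ, hσπ]
      simp [ν]
    | add x y hx hy =>
      obtain ⟨c, hc⟩ := hx
      obtain ⟨d, hd⟩ := hy
      exact ⟨c + d, by rw [map_add, hc, hd, Matrix.add_vecMul]⟩
  have hY : ∀ i, ∃ c : Fin s → R', Matrix.vecMul c Gm = E i := fun i => by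
    obtain ⟨t, ht⟩ := hνsurj (E i) ((hK _).2 (congrFun h.idem i))
    obtain ⟨c, hc⟩ := hspan t
    exact ⟨c, hc.symm.trans ht⟩
  choose Y₀ hY₀ using hY
  have hker : ∀ c : Fin s → R', Matrix.vecMul c Gm = 0 → Matrix.vecMul c (Q.map (algebraMap R R')) = 0 := by
    intro c hc
    let σ' : R' ⊗[R] N →ₗ[R'] (Fin s → R') := LinearMap.liftBaseChange R'
      ((LinearMap.pi fun j => (Algebra.linearMap R R').comp (LinearMap.proj j)).comp σ)
    have ht : (∑ i, c i ⊗ₜ[R] π (Pi.single i 1) : R' ⊗[R] N) = 0 := hνinj (by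
      rw [map_zero, map_sum, ← hc]
      funext l
      simp [ν, Gm, Matrix.vecMul, dotProduct])
    have := congrArg σ' ht
    rw [map_zero, map_sum] at this
    rw [← this]
    funext l
    simp [σ', Q, Matrix.vecMul, dotProduct]
    all_goals rfl
  refine ⟨s, Q, Gm, E * (Matrix.of Y₀) * Q.map (algebraMap R R'), hQ, hGE, funext fun i => (hN _ (π (Pi.single i 1)).2).2, hQG, ?_, ?_⟩
  · rw [Matrix.mul_assoc, hQG, Matrix.mul_assoc, show Matrix.of Y₀ * Gm = E from funext hY₀, h.idem]
  · rw [← Matrix.mul_assoc, ← Matrix.mul_assoc, hGE]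
    have hQ' : Q.map (algebraMap R R') * Q.map (algebraMap R R') = Q.map (algebraMap R R') := by
      rw [← Matrix.map_mul, hQ]
    have : (Gm * Matrix.of Y₀ * Q.map (algebraMap R R') - Q.map (algebraMap R R')) * Gm = 0 := by
      rw [Matrix.sub_mul, Matrix.mul_assoc _ (Q.map _), hQG, Matrix.mul_assoc, show Matrix.of Y₀ * Gm = E from funext hY₀, hGE, sub_self]
    have h0 : (Gm * Matrix.of Y₀ * Q.map (algebraMap R R') - Q.map (algebraMap R R')) * Q.map (algebraMap R R') = 0 :=
      funext fun i => hker _ (congrFun this i)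
    rw [Matrix.sub_mul, Matrix.mul_assoc _ (Q.map _), hQ', sub_eq_zero] at h0
    exact h0

end Classical

section Witt

open Groth.Agent.CommAlg4.WittGhost

variable {p : ℕ} [Fact p.Prime] {n : ℕ}

local notation "W" => TruncatedWittVector p n
local notation:max "⟪" f "⟫" => (WittGrp.truncMap p n f)

/-- A matrix descent datum over truncated Witt vectors. -/
structure IsWDatum (E : Matrix ι ι (W R')) (A : Matrix ι ι (W (T2 R R'))) : Prop where
  left : E.map ⟪i1 (R := R) (R' := R')⟫ * A = A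
  right : A * E.map ⟪i2 (R := R) (R' := R')⟫ = A
  cocycle : A.map ⟪d12⟫ * A.map ⟪d23⟫ = A.map ⟪d13⟫
  unit : A.map ⟪μ⟫ = E

variable {E : Matrix ι ι (TruncatedWittVector p n R')} {A : Matrix ι ι (TruncatedWittVector p n (T2 R R'))}

theorem map_gh_map {S S' : Type u} [CommRing S] [CommRing S'] {k : ℕ} (hk : k < n) (f : S →+* S') {a b : Type}
    (M : Matrix a b (W S)) : (M.map ⟪f⟫).map (gh k hk) = (M.map (gh k hk)).map f :=
  Matrix.ext fun i j => gh_map hk f (M i j)

theorem IsWDatum.datum (h : IsWDatum E A) {k : ℕ} (hk : k < n) : IsDatum (E.map (gh k hk)) (A.map (gh k hk)) where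
  left := by rw [← map_gh_map, ← Matrix.map_mul, h.left]
  right := by rw [← map_gh_map, ← Matrix.map_mul, h.right]
  cocycle := by rw [← map_gh_map, ← map_gh_map, ← map_gh_map, ← Matrix.map_mul, h.cocycle]
  unit := by rw [← map_gh_map, h.unit]

/-- A matrix with entries in `low k`. -/
def Low (k : ℕ) {S : Type u} [CommRing S] {a b : Type} (M : Matrix a b (W S)) : Prop :=
  ∀ i j, M i j ∈ low p n S k

/-- The matrix of `k`-th components. -/
def cf {k : ℕ} (hk : k < n) {S : Type u} [CommRing S] {a b : Type} (M : Matrix a b (W S)) : Matrix a b S :=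
  M.map fun x => x.coeff ⟨k, hk⟩

section
variable {S S' : Type u} [CommRing S] [CommRing S'] {a b : Type} {k : ℕ} {M N : Matrix a b (TruncatedWittVector p n S)}

theorem Low.add (hM : Low k M) (hN : Low k N) : Low (p := p) (n := n) (S := S) k (M + N) := fun i j => add_mem (hM i j) (hN i j)
theorem Low.sub (hM : Low k M) (hN : Low k N) : Low (p := p) (n := n) (S := S) k (M - N) := fun i j => sub_mem (hM i j) (hN i j)
theorem Low.map (f : S →+* S') (hM : Low k M) : Low (p := p) (n := n) k (M.map ⟪f⟫) := fun i j => map_mem_low f (hM i j)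
theorem Low.mul {c : Type} [Fintype b] (hM : Low k M) (P : Matrix b c (W S)) : Low (p := p) (n := n) (S := S) k (M * P) := fun i j => by
  rw [Matrix.mul_apply]
  exact Submodule.sum_mem _ fun l _ => Ideal.mul_mem_right _ _ (hM i l)

theorem cf_add (hk : k < n) (hM : Low k M) (hN : Low k N) : cf hk (M + N) = cf hk M + cf hk N :=
  Matrix.ext fun i j => coeff_add hk (hM i j) (hN i j)

theorem cf_sub (hk : k < n) (hM : Low k M) (hN : Low k N) : cf hk (M - N) = cf hk M - cf hk N := by
  rw [eq_sub_iff_add_eq, ← cf_add hk (hM.sub hN) hN, sub_add_cancel]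

theorem cf_map (hk : k < n) (f : S →+* S') : cf hk (M.map ⟪f⟫) = (cf hk M).map f :=
  Matrix.ext fun i j => WittGrp.coeff_truncMap p n f (M i j) _

theorem cf_mul {c : Type} [Fintype b] (hk : k < n) (hM : Low k M) (P : Matrix b c (W S)) :
    cf hk (M * P) = cf hk M * P.map (gh k hk) := Matrix.ext fun i j => by
  show ((M * P) i j).coeff ⟨k, hk⟩ = _
  let g : b → low p n S k := fun l => ⟨M i l * P l j, Ideal.mul_mem_right _ _ (hM i l)⟩
  have : (M * P) i j = ((∑ l, g l : low p n S k) : W S) := by simp [Matrix.mul_apply, g]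
  rw [this]
  show co hk (∑ l, g l) = _
  rw [map_sum, Matrix.mul_apply]
  exact Finset.sum_congr rfl fun l _ => coeff_mul hk (hM i l) _

end

variable [Module.FaithfullyFlat R R']

theorem exists_step {s : Type} (h : IsWDatum E A) {k : ℕ} (hk : k < n) (hk0 : 0 < k) (X : Matrix s ι (W R'))
    (hXE : X * E = X) (hδ : Low (p := p) (n := n) (S := T2 R R') k (X.map ⟪i1 (R := R) (R' := R')⟫ * A - X.map ⟪i2 (R := R) (R' := R')⟫)) :
    ∃ X' : Matrix s ι (W R'), X' * E = X' ∧ Low (p := p) (n := n) (S := T2 R R') (k + 1) (X'.map ⟪i1 (R := R) (R' := R')⟫ * A - X'.map ⟪i2 (R := R) (R' := R')⟫) ∧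
      X'.map (gh (p := p) (R := R') 0 (hk0.trans hk)) = X.map (gh (p := p) (R := R') 0 (hk0.trans hk)) := by
  set δ := X.map ⟪i1 (R := R) (R' := R')⟫ * A - X.map ⟪i2 (R := R) (R' := R')⟫ with hδdef
  have hidem : E * E = E := by
    have := congrArg (fun M => M.map ⟪μ⟫) h.left
    simpa only [Matrix.map_mul, h.unit, Matrix.map_map, ← RingHom.coe_comp, ← WittGrp.truncMap_comp,
      show (μ (R := R)).comp i1 = RingHom.id R' from RingHom.ext μ_i1, WittGrp.truncMap_id,
      RingHom.coe_id, Matrix.map_id] using this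
  have hδE : δ * E.map ⟪i2 (R := R) (R' := R')⟫ = δ := by
    rw [hδdef, Matrix.sub_mul, Matrix.mul_assoc, h.right, ← Matrix.map_mul, hXE]
  have hC : cf hk δ * (E.map (gh k hk)).map i2 = cf hk δ := by
    have h1 := (cf_mul hk hδ (E.map ⟪i2 (R := R) (R' := R')⟫)).symm
    rw [hδE, map_gh_map] at h1
    exact h1
  have e1 : (X.map ⟪i1 (R := R) (R' := R')⟫).map ⟪d12 (R := R) (R' := R')⟫ = (X.map ⟪i1 (R := R) (R' := R')⟫).map ⟪d13⟫ := by
    simp only [Matrix.map_map, ← RingHom.coe_comp, ← WittGrp.truncMap_comp, d12_i1]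
  have e2 : (X.map ⟪i1 (R := R) (R' := R')⟫).map ⟪d23 (R := R) (R' := R')⟫ = (X.map ⟪i2 (R := R) (R' := R')⟫).map ⟪d12⟫ := by
    simp only [Matrix.map_map, ← RingHom.coe_comp, ← WittGrp.truncMap_comp, d12_i2]
  have e3 : (X.map ⟪i2 (R := R) (R' := R')⟫).map ⟪d23 (R := R) (R' := R')⟫ = (X.map ⟪i2 (R := R) (R' := R')⟫).map ⟪d13⟫ := by
    simp only [Matrix.map_map, ← RingHom.coe_comp, ← WittGrp.truncMap_comp, d13_i2]
  have hcoc : δ.map ⟪d12⟫ * A.map ⟪d23⟫ + δ.map ⟪d23⟫ = δ.map ⟪d13⟫ := by
    simp only [hδdef, Matrix.map_sub _ (map_sub _), Matrix.map_mul, e2, e3, ← e1]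
    rw [Matrix.sub_mul, Matrix.mul_assoc, h.cocycle]
    abel
  have hcoc' : (cf hk δ).map d12 * (A.map (gh k hk)).map d23 + (cf hk δ).map d23 = (cf hk δ).map d13 := by
    have h1 := congrArg (cf hk) hcoc
    rw [cf_add hk ((hδ.map _).mul _) (hδ.map _), cf_mul hk (hδ.map _), cf_map, cf_map, cf_map, map_gh_map] at h1
    exact h1
  obtain ⟨Z, hZE, hZ⟩ := exists_primitive (h.datum hk) (cf hk δ) hC hcoc'
  choose Z₀ hZ₀ using fun i j => exists_co (p := p) (n := n) hk (Z i j)
  let Z₁ : Matrix s ι (W R') := fun i j => (Z₀ i j : W R')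
  have hZ₁ : Low k Z₁ := fun i j => (Z₀ i j).2
  have hcZ₁ : cf hk Z₁ = Z := Matrix.ext hZ₀
  have hL : Low k (Z₁ * E) := hZ₁.mul _
  have hcL : cf hk (Z₁ * E) = Z := by rw [cf_mul hk hZ₁, hcZ₁, hZE]
  refine ⟨X + Z₁ * E, by rw [Matrix.add_mul, hXE, Matrix.mul_assoc, hidem], ?_, ?_⟩
  · have hδ' : (X + Z₁ * E).map ⟪i1 (R := R) (R' := R')⟫ * A - (X + Z₁ * E).map ⟪i2 (R := R) (R' := R')⟫ =
        δ + ((Z₁ * E).map ⟪i1 (R := R) (R' := R')⟫ * A - (Z₁ * E).map ⟪i2 (R := R) (R' := R')⟫) := by
      rw [hδdef, Matrix.map_add _ (map_add _), Matrix.map_add _ (map_add _), Matrix.add_mul]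
      abel
    rw [hδ']
    have h0 : cf hk (δ + ((Z₁ * E).map ⟪i1 (R := R) (R' := R')⟫ * A - (Z₁ * E).map ⟪i2 (R := R) (R' := R')⟫)) = 0 := by
      rw [cf_add hk hδ (((hL.map _).mul _).sub (hL.map _)), cf_sub hk ((hL.map _).mul _) (hL.map _),
        cf_mul hk (hL.map _), cf_map, cf_map, hcL]
      exact (congrArg (cf hk δ + ·) hZ).trans (add_neg_cancel _)
    intro i j
    exact (low_succ hk).2 ⟨(hδ.add (((hL.map _).mul _).sub (hL.map _))) i j, congrFun (congrFun h0 i) j⟩
  · refine Matrix.ext fun i j => ?_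
    simp only [Matrix.map_apply, Matrix.add_apply, map_add]
    rw [gh_zero _ ((Z₁ * E) i j), hL i j ⟨0, hk0.trans hk⟩ hk0, add_zero]

theorem exists_effective_witt (hp : IsNilpotent (p : R)) (hn : 0 < n) (h : IsWDatum E A) :
    ∃ (s : ℕ) (Q : Matrix (Fin s) (Fin s) (W R)) (X : Matrix (Fin s) ι (W R')) (Y : Matrix ι (Fin s) (W R')),
      IsIdempotentElem Q ∧ X * E = X ∧ X.map ⟪i1 (R := R) (R' := R')⟫ * A = X.map ⟪i2 (R := R) (R' := R')⟫ ∧ Q.map ⟪algebraMap R R'⟫ * X = X ∧
        Y * X = E ∧ X * Y = Q.map ⟪algebraMap R R'⟫ := by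
  classical
  have hp' : IsNilpotent (p : R') := by
    obtain ⟨m, hm⟩ := hp
    exact ⟨m, by rw [← map_natCast (algebraMap R R'), ← map_pow, hm, map_zero]⟩
  obtain ⟨s, Q₀, G, Y₀, hQ₀, hGE, hG, hQG, hYG, hGY⟩ := exists_effective (R := R) (R' := R') (h.datum hn)
  -- nilpotence of matrices congruent to zero
  have hnil : ∀ {S : Type u} [CommRing S], IsNilpotent (p : S) → ∀ {a : Type} [Fintype a] [DecidableEq a]
      (M : Matrix a a (W S)), M.map (gh 0 hn) = 0 → IsNilpotent M := by
    intro S _ hS a _ _ M hM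
    let J : Ideal (W S) := Ideal.span (Set.range fun x : a × a => M x.1 x.2)
    obtain ⟨m, hm⟩ : IsNilpotent J := by
      rw [Ideal.FG.isNilpotent_iff_le_nilradical (Submodule.fg_span (Set.finite_range _)), Ideal.span_le]
      rintro _ ⟨⟨i, j⟩, rfl⟩
      exact isNilpotent_of_gh_zero hS hn (by rw [show gh 0 hn (M i j) = 0 from congrFun (congrFun hM i) j]; exact IsNilpotent.zero)
    refine ⟨m, Matrix.ext fun i j => ?_⟩
    have : ∀ (k : ℕ) i j, (M ^ k) i j ∈ J ^ k := fun k => by
      induction k with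
      | zero => intro i j; rw [pow_zero, pow_zero, Ideal.one_eq_top]; trivial
      | succ k ih =>
        intro i j
        rw [pow_succ, pow_succ, Matrix.mul_apply]
        exact Ideal.sum_mem _ fun l _ => Ideal.mul_mem_mul (ih i l) (Ideal.subset_span ⟨(l, j), rfl⟩)
    have h' := this m i j
    rwa [hm] at h'
  have hghs : ∀ {S : Type u} [CommRing S], Function.Surjective (gh (p := p) (R := S) 0 hn) := fun {S} _ c =>
    ⟨WittVector.truncate n (WittVector.teichmuller p c), by
      rw [gh_zero, WittVector.coeff_truncate, WittVector.teichmuller_coeff_zero]⟩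
  obtain ⟨Q, hQ, hQeq⟩ := exists_isIdempotentElem_eq_of_ker_isNilpotent (gh (p := p) (R := R) 0 hn).mapMatrix
    (fun M hM => hnil hp M (RingHom.mem_ker.1 hM)) Q₀ (by
      choose Q' hQ' using fun i j => hghs (Q₀ i j)
      exact ⟨Q', Matrix.ext hQ'⟩) hQ₀
  choose G' hG' using fun i j => hghs (S := R') (G i j)
  have hidem : E * E = E := by
    have := congrArg (fun M => M.map ⟪μ⟫) h.left
    simpa only [Matrix.map_mul, h.unit, Matrix.map_map, ← RingHom.coe_comp, ← WittGrp.truncMap_comp,
      show (μ (R := R)).comp i1 = RingHom.id R' from RingHom.ext μ_i1, WittGrp.truncMap_id,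
      RingHom.coe_id, Matrix.map_id] using this
  have hlev : ∀ k, 1 ≤ k → k ≤ n → ∃ X : Matrix (Fin s) ι (W R'), X * E = X ∧
      Low (p := p) (n := n) (S := T2 R R') k (X.map ⟪i1 (R := R) (R' := R')⟫ * A - X.map ⟪i2 (R := R) (R' := R')⟫) ∧ X.map (gh 0 hn) = G := by
    intro k hk1
    induction k, hk1 using Nat.le_induction with
    | base =>
      intro _
      refine ⟨Matrix.of G' * E, by rw [Matrix.mul_assoc, hidem], fun i j => ?_, ?_⟩
      · refine (low_succ hn).2 ⟨fun l hl => absurd hl (Nat.not_lt_zero _), ?_⟩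
        rw [← gh_zero hn]
        have hz : ((Matrix.of G' * E).map ⟪i1 (R := R) (R' := R')⟫ * A - (Matrix.of G' * E).map ⟪i2 (R := R) (R' := R')⟫).map (gh 0 hn) = 0 := by
          rw [Matrix.map_sub _ (map_sub _), Matrix.map_mul, map_gh_map, map_gh_map, Matrix.map_mul,
            show (Matrix.of G').map (gh 0 hn) = G from Matrix.ext hG', hGE]
          exact sub_eq_zero.2 hG
        exact congrFun (congrFun hz i) j
      · rw [Matrix.map_mul, show (Matrix.of G').map (gh 0 hn) = G from Matrix.ext hG', hGE]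
    | succ k hk1 ih =>
      intro hkn
      obtain ⟨X, h1, h2, h3⟩ := ih (by omega)
      obtain ⟨X', h1', h2', h3'⟩ := exists_step h (show k < n by omega) (by omega) X h1 h2
      exact ⟨X', h1', h2', h3'.trans h3⟩
  obtain ⟨X₀, hX₀E, hX₀δ, hX₀G⟩ := hlev n hn le_rfl
  have hX₀ : X₀.map ⟪i1 (R := R) (R' := R')⟫ * A = X₀.map ⟪i2 (R := R) (R' := R')⟫ := sub_eq_zero.1 (Matrix.ext fun i j => low_top (hX₀δ i j))
  set Q' := Q.map ⟪algebraMap R R'⟫ with hQ'def
  have hQ'idem : Q' * Q' = Q' := by rw [hQ'def, ← Matrix.map_mul, hQ]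
  have hQ'gh : Q'.map (gh 0 hn) = Q₀.map (algebraMap R R') := by
    rw [hQ'def, map_gh_map]
    exact congrArg (fun M : Matrix (Fin s) (Fin s) R => M.map (algebraMap R R')) hQeq
  set X := Q' * X₀ with hXdef
  have hXE : X * E = X := by rw [hXdef, Matrix.mul_assoc, hX₀E]
  have hX : X.map ⟪i1 (R := R) (R' := R')⟫ * A = X.map ⟪i2 (R := R) (R' := R')⟫ := by
    rw [hXdef, Matrix.map_mul, Matrix.map_mul, Matrix.mul_assoc, hX₀]
    congr 1
    refine Matrix.ext fun i j => ?_
    simp only [hQ'def, Matrix.map_apply, ← RingHom.comp_apply, ← WittGrp.truncMap_comp]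
    congr 2
    exact RingHom.ext fun r => (i1_algebraMap r).trans (i2_algebraMap r).symm
  have hQX : Q' * X = X := by rw [hXdef, ← Matrix.mul_assoc, hQ'idem]
  have hXgh : X.map (gh 0 hn) = G := by rw [hXdef, Matrix.map_mul, hQ'gh, hX₀G, hQG]
  choose Y' hY' using fun i j => hghs (S := R') (Y₀ i j)
  let Y₁ : Matrix ι (Fin s) (W R') := E * Matrix.of Y' * Q'
  have hY₁gh : Y₁.map (gh 0 hn) = E.map (gh 0 hn) * Y₀ * Q₀.map (algebraMap R R') := by
    simp only [Y₁, Matrix.map_mul, hQ'gh, show (Matrix.of Y').map (gh 0 hn) = Y₀ from Matrix.ext hY']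
  -- left inverse
  have hu : IsUnit (1 + (Y₁ * X - E)) := by
    refine IsNilpotent.isUnit_one_add (hnil hp' _ ?_)
    rw [Matrix.map_sub _ (map_sub _), Matrix.map_mul, hY₁gh, hXgh, Matrix.mul_assoc, hQG, Matrix.mul_assoc, hYG,
      (h.datum hn).idem, sub_self]
  obtain ⟨v, hv⟩ := hu.exists_left_inv
  have hYX : v * Y₁ * X = E := by
    have : (1 + (Y₁ * X - E)) * E = Y₁ * X := by
      rw [Matrix.add_mul, Matrix.sub_mul, Matrix.one_mul, Matrix.mul_assoc, hXE, hidem]
      abel
    rw [Matrix.mul_assoc, ← this, ← Matrix.mul_assoc, hv, Matrix.one_mul]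
  have hu' : IsUnit (1 + (X * Y₁ - Q')) := by
    refine IsNilpotent.isUnit_one_add (hnil hp' _ ?_)
    rw [Matrix.map_sub _ (map_sub _), Matrix.map_mul, hY₁gh, hXgh, ← Matrix.mul_assoc, ← Matrix.mul_assoc, hGE, hGY,
      hQ'gh, sub_eq_zero, ← Matrix.map_mul, hQ₀]
  obtain ⟨v', hv'⟩ := hu'.exists_right_inv
  have hXY : X * (Y₁ * v') = Q' := by
    have : Q' * (1 + (X * Y₁ - Q')) = X * Y₁ := by
      rw [Matrix.mul_add, Matrix.mul_sub, Matrix.mul_one, ← Matrix.mul_assoc, hQX, hQ'idem]
      abel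
    rw [← Matrix.mul_assoc, ← this, Matrix.mul_assoc, hv', Matrix.mul_one]
  refine ⟨s, Q, X, v * Y₁, hQ, hXE, hX, hQX, hYX, ?_⟩
  have : v * Y₁ = E * (Y₁ * v') := by
    rw [← hYX, Matrix.mul_assoc (v * Y₁), hXY, Matrix.mul_assoc]
    congr 1
    simp only [Y₁, Matrix.mul_assoc, hQ'idem]
  rw [this, ← Matrix.mul_assoc, hXE, hXY]

end Witt

end Groth.Agent.CommAlg4.WittDescMat
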