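import Mathlib
import Groth.Prelude
import Groth.Agent.CommAlg4.WittDescFF
import Groth.Agent.CommAlg4.WittDescMat

/-!
Effectiveness of faithfully flat descent for finite projective modules over truncated Witt vectors.
-/
set_option autoImplicit false
set_option linter.all false
set_option maxHeartbeats 1000000
set_option backward.isDefEq.respectTransparency.types false
universe u
open CategoryTheory Opposite
open scoped ChangeOfRings TensorProduct
open W4c3truncdispsmooth Groth.Agent.CommAlg4.WittDescFF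

namespace Groth.Agent.CommAlg4.WittDescEff

section Generic

variable (F : Pseudofunctor (LocallyDiscrete (Opposite.{u+2} (Opposite.{u+2} CommRingCat.{u}))) Cat.{u, u + 1})
  {R R' : Type u} [CommRing R] [CommRing R'] {a : R →+* R'}
  (D : F.DescentData (fun _ : PUnit.{u + 1} => (CommRingCat.ofHom a).op))

/-- The transition map of a descent datum, for ring maps. -/
def homG {T : Type u} [CommRing T] (u v : R' →+* T) (h : u.comp a = v.comp a) :
    (F.map (CommRingCat.ofHom u).op.op.toLoc).toFunctor.obj (D.obj PUnit.unit) ⟶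
      (F.map (CommRingCat.ofHom v).op.op.toLoc).toFunctor.obj (D.obj PUnit.unit) :=
  D.hom (CommRingCat.ofHom (u.comp a)).op (CommRingCat.ofHom u).op (CommRingCat.ofHom v).op rfl (by rw [h]; rfl)

theorem homG_self {T : Type u} [CommRing T] (u : R' →+* T) : homG F D u u rfl = 𝟙 _ :=
  D.hom_self (CommRingCat.ofHom (u.comp a)).op (CommRingCat.ofHom u).op rfl

theorem homG_comp {T : Type u} [CommRing T] (u v w : R' →+* T) (h : u.comp a = v.comp a) (h' : v.comp a = w.comp a) :
    homG F D u v h ≫ homG F D v w h' = homG F D u w (h.trans h') := by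
  have e : homG F D v w h' = D.hom (CommRingCat.ofHom (u.comp a)).op (CommRingCat.ofHom v).op (CommRingCat.ofHom w).op
      (by rw [h]; rfl) (by rw [h, h']; rfl) := by
    unfold homG
    congr 1
    rw [h]
  rw [e]
  exact D.hom_comp _ _ _ _ _ _ _

theorem homG_pull {T T' : Type u} [CommRing T] [CommRing T'] (u v : R' →+* T) (h : u.comp a = v.comp a) (g : T →+* T')
    (e₁ : (CommRingCat.ofHom u).op.op.toLoc ≫ (CommRingCat.ofHom g).op.op.toLoc = (CommRingCat.ofHom (g.comp u)).op.op.toLoc)
    (e₂ : (CommRingCat.ofHom v).op.op.toLoc ≫ (CommRingCat.ofHom g).op.op.toLoc = (CommRingCat.ofHom (g.comp v)).op.op.toLoc) :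
    homG F D (g.comp u) (g.comp v) (by rw [RingHom.comp_assoc, h, RingHom.comp_assoc]) =
      (F.mapComp' _ _ _ e₁).hom.toNatTrans.app _ ≫ (F.map (CommRingCat.ofHom g).op.op.toLoc).toFunctor.map (homG F D u v h) ≫
        (F.mapComp' _ _ _ e₂).inv.toNatTrans.app _ :=
  (D.pullHom_hom (CommRingCat.ofHom g).op (CommRingCat.ofHom (u.comp a)).op _ rfl (CommRingCat.ofHom u).op
    (CommRingCat.ofHom v).op rfl (by rw [h]; rfl) (CommRingCat.ofHom (g.comp u)).op (CommRingCat.ofHom (g.comp v)).op rfl rfl).symm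

theorem comm_of (D' : F.DescentData (fun _ : PUnit.{u + 1} => (CommRingCat.ofHom a).op))
    (k : D.obj PUnit.unit ⟶ D'.obj PUnit.unit)
    (hk : ∀ (T : Type u) [CommRing T] (u v : R' →+* T) (h : u.comp a = v.comp a),
      (F.map (CommRingCat.ofHom u).op.op.toLoc).toFunctor.map k ≫ homG F D' u v h =
        homG F D u v h ≫ (F.map (CommRingCat.ofHom v).op.op.toLoc).toFunctor.map k) [IsIso k] :
    Nonempty (D ≅ D') := by
  refine ⟨Pseudofunctor.DescentData.isoMk (fun _ => asIso k) fun Y q i₁ i₂ f₁ f₂ hf₁ hf₂ => ?_⟩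
  obtain ⟨⟨Y⟩⟩ := Y
  have h : f₁.unop.hom.comp a = f₂.unop.hom.comp a := by
    have := congrArg (fun z => z.unop.hom) (hf₁.trans hf₂.symm)
    exact this
  subst hf₁
  exact hk Y f₁.unop.hom f₂.unop.hom h

theorem comm_ofObj (M : F.obj (LocallyDiscrete.mk (Opposite.op.{u+2} (Opposite.op.{u+2} (CommRingCat.of.{u} R)))))
    (k : (F.map (CommRingCat.ofHom a).op.op.toLoc).toFunctor.obj M ⟶ D.obj PUnit.unit) [IsIso k]
    (hk : ∀ (T : Type u) [CommRing T] (u v : R' →+* T) (h : u.comp a = v.comp a)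
      (e₁ : (CommRingCat.ofHom a).op.op.toLoc ≫ (CommRingCat.ofHom u).op.op.toLoc = (CommRingCat.ofHom (u.comp a)).op.op.toLoc)
      (e₂ : (CommRingCat.ofHom a).op.op.toLoc ≫ (CommRingCat.ofHom v).op.op.toLoc = (CommRingCat.ofHom (u.comp a)).op.op.toLoc),
      (F.map (CommRingCat.ofHom u).op.op.toLoc).toFunctor.map k ≫ homG F D u v h =
        ((F.mapComp' _ _ _ e₁).inv.toNatTrans.app M ≫ (F.mapComp' _ _ _ e₂).hom.toNatTrans.app M) ≫
          (F.map (CommRingCat.ofHom v).op.op.toLoc).toFunctor.map k) :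
    Nonempty ((F.toDescentData (fun _ : PUnit.{u + 1} => (CommRingCat.ofHom a).op)).obj M ≅ D) :=
  @comm_of F R R' _ _ a ((F.toDescentData (fun _ : PUnit.{u + 1} => (CommRingCat.ofHom a).op)).obj M) D k
    (fun T _ u v h => hk T u v h rfl (by rw [h]; rfl)) ‹IsIso k›

end Generic

variable {p : ℕ} [Fact p.Prime] {n : ℕ}
variable {R R' : Type u} [CommRing R] [CommRing R'] [Algebra R R']
  (D : (wittModPF.{u} p n).DescentData (fun _ : PUnit.{u + 1} => (CommRingCat.ofHom (algebraMap R R')).op))

local notation "Wm" => WittGrp.truncMap p n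

/-- The transition map, with its concrete type. -/
noncomputable def homW {T : Type u} [CommRing T] (u v : R' →+* T) (h : u.comp (algebraMap R R') = v.comp (algebraMap R R')) :
    (ModuleCat.extendScalars.{u,u,u} (Wm u)).obj (descObj D) ⟶ (ModuleCat.extendScalars.{u,u,u} (Wm v)).obj (descObj D) :=
  homG (wittModPF p n) D u v h

theorem homW_self {T : Type u} [CommRing T] (u : R' →+* T) : homW D u u rfl = 𝟙 _ := homG_self _ D u

theorem homW_comp {T : Type u} [CommRing T] (u v w : R' →+* T) (h : u.comp (algebraMap R R') = v.comp (algebraMap R R'))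
    (h' : v.comp (algebraMap R R') = w.comp (algebraMap R R')) :
    homW D u v h ≫ homW D v w h' = homW D u w (h.trans h') := homG_comp _ D u v w h h'

theorem app_pull {T T' : Type u} [CommRing T] [CommRing T'] {u v : R' →+* T} {g : T →+* T'} {gu gv : R' →+* T'}
    (j₁ : @CategoryTheory.Iso _ (Bicategory.homCategory _ _) ((wittModPF p n).map (CommRingCat.ofHom gu).op.op.toLoc)
      ((wittModPF p n).map (CommRingCat.ofHom u).op.op.toLoc ≫ (wittModPF p n).map (CommRingCat.ofHom g).op.op.toLoc))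
    (j₂ : @CategoryTheory.Iso _ (Bicategory.homCategory _ _) ((wittModPF p n).map (CommRingCat.ofHom gv).op.op.toLoc)
      ((wittModPF p n).map (CommRingCat.ofHom v).op.op.toLoc ≫ (wittModPF p n).map (CommRingCat.ofHom g).op.op.toLoc))
    (M : ModuleCat.{u} (TruncatedWittVector p n R'))
    (k : ((wittModPF p n).map (CommRingCat.ofHom u).op.op.toLoc).toFunctor.obj M ⟶
      ((wittModPF p n).map (CommRingCat.ofHom v).op.op.toLoc).toFunctor.obj M)
    (k' : ((wittModPF p n).map (CommRingCat.ofHom gu).op.op.toLoc).toFunctor.obj M ⟶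
      ((wittModPF p n).map (CommRingCat.ofHom gv).op.op.toLoc).toFunctor.obj M)
    (h : k' = j₁.hom.toNatTrans.app M ≫ ((wittModPF p n).map (CommRingCat.ofHom g).op.op.toLoc).toFunctor.map k ≫
      j₂.inv.toNatTrans.app M) :
    (k' : (ModuleCat.extendScalars.{u,u,u} (Wm gu)).obj M ⟶ (ModuleCat.extendScalars.{u,u,u} (Wm gv)).obj M) =
      appH j₁ M ≫ (ModuleCat.extendScalars.{u,u,u} (Wm g)).map k ≫ appI j₂ M :=
  h

theorem app_comm' {T : Type u} [CommRing T] {u v : R' →+* T} {c : R →+* T}
    (j₁ : @CategoryTheory.Iso _ (Bicategory.homCategory _ _) ((wittModPF p n).map (CommRingCat.ofHom c).op.op.toLoc)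
      ((wittModPF p n).map (CommRingCat.ofHom (algebraMap R R')).op.op.toLoc ≫ (wittModPF p n).map (CommRingCat.ofHom u).op.op.toLoc))
    (j₂ : @CategoryTheory.Iso _ (Bicategory.homCategory _ _) ((wittModPF p n).map (CommRingCat.ofHom c).op.op.toLoc)
      ((wittModPF p n).map (CommRingCat.ofHom (algebraMap R R')).op.op.toLoc ≫ (wittModPF p n).map (CommRingCat.ofHom v).op.op.toLoc))
    (M : ModuleCat.{u} (TruncatedWittVector p n R))
    (k : (ModuleCat.extendScalars.{u,u,u} (Wm (algebraMap R R'))).obj M ⟶ descObj D)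
    (h : u.comp (algebraMap R R') = v.comp (algebraMap R R'))
    (hk : (ModuleCat.extendScalars.{u,u,u} (Wm u)).map k ≫ homW D u v h =
      (appI j₁ M ≫ appH j₂ M) ≫ (ModuleCat.extendScalars.{u,u,u} (Wm v)).map k) :
    ((wittModPF p n).map (CommRingCat.ofHom u).op.op.toLoc).toFunctor.map k ≫ homG (wittModPF p n) D u v h =
      (j₁.inv.toNatTrans.app M ≫ j₂.hom.toNatTrans.app M) ≫
        ((wittModPF p n).map (CommRingCat.ofHom v).op.op.toLoc).toFunctor.map k :=
  hk

theorem homW_pull {T T' : Type u} [CommRing T] [CommRing T'] (u v : R' →+* T)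
    (h : u.comp (algebraMap R R') = v.comp (algebraMap R R')) (g : T →+* T') :
    homW D (g.comp u) (g.comp v) (by rw [RingHom.comp_assoc, h, RingHom.comp_assoc]) =
      mcHom u g (g.comp u) rfl (descObj D) ≫ (ModuleCat.extendScalars.{u,u,u} (Wm g)).map (homW D u v h) ≫
        mcInv v g (g.comp v) rfl (descObj D) := by
  have hn := homG_pull (wittModPF p n) D u v h g rfl rfl
  revert hn
  unfold mcHom mcInv
  generalize (wittModPF p n).mapComp' _ _ _ _ = j₁
  generalize (wittModPF p n).mapComp' _ _ _ _ = j₂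
  intro hn
  exact app_pull j₁ j₂ _ _ _ hn

section Coord

variable {A B : Type u} [CommRing A] [CommRing B] (f : A →+* B) {M : ModuleCat.{u} A} {r : ℕ}
  (σ : M →ₗ[A] (Fin r → A))

/-- Coordinates on an extension of scalars. -/
noncomputable def coord : ((ModuleCat.extendScalars.{u,u,u} f).obj M) →ₗ[B] (Fin r → B) :=
  letI := f.toAlgebra
  LinearMap.liftBaseChange B ((LinearMap.pi fun j => (Algebra.linearMap A B).comp (LinearMap.proj j)).comp σ)

theorem coord_eta (m : M) : coord f σ (eta f m) = fun j => f (σ m j) := by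
  letI := f.toAlgebra
  show (1 : B) • (fun j => f (σ m j)) = _
  rw [one_smul]

theorem extend_ext {N : Type u} [AddCommGroup N] [Module B N] {φ ψ : ((ModuleCat.extendScalars.{u,u,u} f).obj M) →ₗ[B] N}
    (h : ∀ m : M, φ (eta f m) = ψ (eta f m)) : φ = ψ := by
  letI := f.toAlgebra
  refine LinearMap.ext fun z => ?_
  induction z using TensorProduct.induction_on with
  | zero => exact (map_zero φ).trans (map_zero ψ).symm
  | tmul b m =>
    have hb : ∀ (c : B) m, φ (c • eta f m) = ψ (c • eta f m) := fun c m => by rw [map_smul, map_smul, h]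
    exact (congrArg φ (smul_eta f b m).symm).trans ((hb b m).trans (congrArg ψ (smul_eta f b m)))
  | add x y hx hy => exact (map_add φ x y).trans ((congrArg₂ (· + ·) hx hy).trans (map_add ψ x y).symm)

/-- `m ↦ 1 ⊗ m` as a semilinear map. -/
noncomputable def etaHom : M →+ (ModuleCat.extendScalars.{u,u,u} f).obj M :=
  AddMonoidHom.mk' (eta f) (eta_add f)

theorem sum_coord {π : (Fin r → A) →ₗ[A] M} (hπσ : ∀ m, π (σ m) = m) (z : (ModuleCat.extendScalars.{u,u,u} f).obj M) :
    (∑ j, coord f σ z j • eta f (π (Pi.single j 1))) = z := by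
  have key := extend_ext f (φ := (Fintype.linearCombination B fun j => eta f (π (Pi.single j 1))).comp (coord f σ))
    (ψ := LinearMap.id) fun m => ?_
  · have := LinearMap.congr_fun key z
    rwa [LinearMap.comp_apply, Fintype.linearCombination_apply] at this
  · rw [LinearMap.comp_apply, Fintype.linearCombination_apply, coord_eta, LinearMap.id_apply]
    conv_rhs => rw [← hπσ m, pi_eq_sum_univ' (σ m), map_sum]
    show _ = etaHom f (∑ j, π (σ m j • Pi.single j 1))
    rw [map_sum]
    refine Finset.sum_congr rfl fun j _ => ?_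
    rw [map_smul]
    exact (eta_smul f _ _).symm

end Coord

theorem ext_two {T : Type u} [CommRing T] (u : R' →+* T) {M : ModuleCat.{u} (TruncatedWittVector p n R)} {N : ModuleCat.{u} (TruncatedWittVector p n T)}
    {r : ℕ} (π : (Fin r → TruncatedWittVector p n R) →ₗ[TruncatedWittVector p n R] M)
    (σ : M →ₗ[TruncatedWittVector p n R] (Fin r → TruncatedWittVector p n R)) (hπσ : ∀ m, π (σ m) = m)
    (L₁ L₂ : (ModuleCat.extendScalars.{u,u,u} (Wm u)).obj ((ModuleCat.extendScalars.{u,u,u} (Wm (algebraMap R R'))).obj M) ⟶ N)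
    (key : ∀ m : M, L₁.hom (eta (Wm u) (eta (Wm (algebraMap R R')) m)) = L₂.hom (eta (Wm u) (eta (Wm (algebraMap R R')) m))) :
    L₁ = L₂ := by
  refine ModuleCat.ExtendScalars.hom_ext fun y => ?_
  show L₁.hom (etaHom (Wm u) y) = L₂.hom (etaHom (Wm u) y)
  rw [← sum_coord (Wm (algebraMap R R')) σ hπσ y, map_sum, map_sum, map_sum]
  refine Finset.sum_congr rfl fun j _ => ?_
  show L₁.hom (eta (Wm u) _) = L₂.hom (eta (Wm u) _)
  rw [eta_smul, map_smul, map_smul, key]

theorem key_core {A B C : Type u} [CommRing A] [CommRing B] [CommRing C] (g : A →+* B) (c : A →+* C) (ψ₁ ψ₂ : B →+* C)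
    {M : ModuleCat.{u} A} {N : ModuleCat.{u} B} (k : (ModuleCat.extendScalars.{u,u,u} g).obj M ⟶ N)
    (H : (ModuleCat.extendScalars.{u,u,u} ψ₁).obj N ⟶ (ModuleCat.extendScalars.{u,u,u} ψ₂).obj N)
    (I : (ModuleCat.extendScalars.{u,u,u} ψ₁).obj ((ModuleCat.extendScalars.{u,u,u} g).obj M) ⟶ (ModuleCat.extendScalars.{u,u,u} c).obj M)
    (J : (ModuleCat.extendScalars.{u,u,u} c).obj M ⟶ (ModuleCat.extendScalars.{u,u,u} ψ₂).obj ((ModuleCat.extendScalars.{u,u,u} g).obj M))
    (hI : ∀ (w : B) (m : M), I.hom (eta ψ₁ (w • eta g m)) = ψ₁ w • eta c m)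
    (hJ : ∀ m : M, J.hom (eta c m) = eta ψ₂ (eta g m))
    (hk : ∀ m : M, H.hom (eta ψ₁ (k.hom (eta g m))) = eta ψ₂ (k.hom (eta g m))) (m : M) :
    ((ModuleCat.extendScalars.{u,u,u} ψ₁).map k ≫ H).hom (eta ψ₁ (eta g m)) =
      ((I ≫ J) ≫ (ModuleCat.extendScalars.{u,u,u} ψ₂).map k).hom (eta ψ₁ (eta g m)) := by
  refine (hk m).trans ?_
  have hI' := hI 1 m
  rw [one_smul, map_one, one_smul] at hI'
  show _ = ((ModuleCat.extendScalars.{u,u,u} ψ₂).map k).hom (J.hom (I.hom _))
  rw [hI', hJ]
  rfl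

theorem appI_eq (M : ModuleCat.{u} (TruncatedWittVector p n R))
    {T : Type u} [CommRing T] (u : R' →+* T) (c : R →+* T) (h₁ : u.comp (algebraMap R R') = c)
    (e₁ : (CommRingCat.ofHom (algebraMap R R')).op.op.toLoc ≫ (CommRingCat.ofHom u).op.op.toLoc = (CommRingCat.ofHom c).op.op.toLoc) :
    mcInv (algebraMap R R') u c h₁ M = appI ((wittModPF p n).mapComp' _ _ _ e₁) M := rfl

theorem appI_eta (M : ModuleCat.{u} (TruncatedWittVector p n R))
    {T : Type u} [CommRing T] (u : R' →+* T) (c : R →+* T) (h₁ : u.comp (algebraMap R R') = c)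
    (e₁ : (CommRingCat.ofHom (algebraMap R R')).op.op.toLoc ≫ (CommRingCat.ofHom u).op.op.toLoc = (CommRingCat.ofHom c).op.op.toLoc)
    (w : TruncatedWittVector p n R') (m : M) :
    (appI ((wittModPF p n).mapComp' _ _ _ e₁) M).hom (eta (Wm u) (w • eta (Wm (algebraMap R R')) m)) = Wm u w • eta (Wm c) m :=
  appI_eq M u c h₁ e₁ ▸ mcInv_eta (algebraMap R R') u c h₁ M w m

theorem appH_eq (M : ModuleCat.{u} (TruncatedWittVector p n R))
    {T : Type u} [CommRing T] (v : R' →+* T) (c : R →+* T) (h₁ : v.comp (algebraMap R R') = c)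
    (e₁ : (CommRingCat.ofHom (algebraMap R R')).op.op.toLoc ≫ (CommRingCat.ofHom v).op.op.toLoc = (CommRingCat.ofHom c).op.op.toLoc) :
    mcHom (algebraMap R R') v c h₁ M = appH ((wittModPF p n).mapComp' _ _ _ e₁) M := rfl

theorem appH_eta (M : ModuleCat.{u} (TruncatedWittVector p n R))
    {T : Type u} [CommRing T] (v : R' →+* T) (c : R →+* T) (h₁ : v.comp (algebraMap R R') = c)
    (e₁ : (CommRingCat.ofHom (algebraMap R R')).op.op.toLoc ≫ (CommRingCat.ofHom v).op.op.toLoc = (CommRingCat.ofHom c).op.op.toLoc)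
    (m : M) :
    (appH ((wittModPF p n).mapComp' _ _ _ e₁) M).hom (eta (Wm c) m) = eta (Wm v) (eta (Wm (algebraMap R R')) m) :=
  appH_eq M v c h₁ e₁ ▸ mcHom_eta (algebraMap R R') v c h₁ M m

theorem key_of (M : ModuleCat.{u} (TruncatedWittVector p n R))
    (k : (ModuleCat.extendScalars.{u,u,u} (Wm (algebraMap R R'))).obj M ⟶ descObj D)
    {T : Type u} [CommRing T] (u v : R' →+* T) (c : R →+* T) (h₁ : u.comp (algebraMap R R') = c) (h₂ : v.comp (algebraMap R R') = c)
    (h : u.comp (algebraMap R R') = v.comp (algebraMap R R'))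
    (e₁ : (CommRingCat.ofHom (algebraMap R R')).op.op.toLoc ≫ (CommRingCat.ofHom u).op.op.toLoc = (CommRingCat.ofHom c).op.op.toLoc)
    (e₂ : (CommRingCat.ofHom (algebraMap R R')).op.op.toLoc ≫ (CommRingCat.ofHom v).op.op.toLoc = (CommRingCat.ofHom c).op.op.toLoc)
    {r : ℕ} (π : (Fin r → TruncatedWittVector p n R) →ₗ[TruncatedWittVector p n R] M)
    (σ : M →ₗ[TruncatedWittVector p n R] (Fin r → TruncatedWittVector p n R)) (hπσ : ∀ m, π (σ m) = m)
    (hk : ∀ m : M, (homW D u v h).hom (eta (Wm u) (k.hom (eta (Wm (algebraMap R R')) m))) =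
        eta (Wm v) (k.hom (eta (Wm (algebraMap R R')) m))) :
    (ModuleCat.extendScalars.{u,u,u} (Wm u)).map k ≫ homW D u v h =
      (appI ((wittModPF p n).mapComp' _ _ _ e₁) M ≫ appH ((wittModPF p n).mapComp' _ _ _ e₂) M) ≫
        (ModuleCat.extendScalars.{u,u,u} (Wm v)).map k :=
  ext_two u π σ hπσ _ _ (key_core (Wm (algebraMap R R')) (Wm c) (Wm u) (Wm v) k (homW D u v h)
    (appI ((wittModPF p n).mapComp' _ _ _ e₁) M) (appH ((wittModPF p n).mapComp' _ _ _ e₂) M)
    (appI_eta M u c h₁ e₁)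
    (appH_eta M v c h₂ e₂) hk)

theorem iso_of (M : ModuleCat.{u} (TruncatedWittVector p n R))
    (e : (ModuleCat.extendScalars.{u,u,u} (Wm (algebraMap R R'))).obj M ≅ descObj D)
    (hk : ∀ (T : Type u) [CommRing T] (u v : R' →+* T) (h : u.comp (algebraMap R R') = v.comp (algebraMap R R')) (m : M),
      (homW D u v h).hom (eta (Wm u) (e.hom.hom (eta (Wm (algebraMap R R')) m))) = eta (Wm v) (e.hom.hom (eta (Wm (algebraMap R R')) m)))
    {r : ℕ} (π : (Fin r → TruncatedWittVector p n R) →ₗ[TruncatedWittVector p n R] M)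
    (σ : M →ₗ[TruncatedWittVector p n R] (Fin r → TruncatedWittVector p n R)) (hπσ : ∀ m, π (σ m) = m) :
    Nonempty (((wittModPF.{u} p n).toDescentData (fun _ : PUnit.{u + 1} => (CommRingCat.ofHom (algebraMap R R')).op)).obj M ≅ D) := by
  haveI : IsIso e.hom := inferInstance
  refine comm_ofObj (wittModPF p n) D M e.hom ?_
  intro T _ u v h e₁ e₂
  have hkey := key_of D M e.hom u v _ rfl h.symm h e₁ e₂ π σ hπσ (hk T u v h)
  revert hkey
  generalize (wittModPF p n).mapComp' _ _ _ e₁ = j₁
  generalize (wittModPF p n).mapComp' _ _ _ e₂ = j₂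
  intro hkey
  exact app_comm' D j₁ j₂ M e.hom h hkey

section Main

variable {r : ℕ} (π : (Fin r → TruncatedWittVector p n R') →ₗ[TruncatedWittVector p n R'] descObj D)
  (σ : descObj D →ₗ[TruncatedWittVector p n R'] (Fin r → TruncatedWittVector p n R'))

/-- The idempotent matrix of the underlying module. -/
noncomputable def Emat : Matrix (Fin r) (Fin r) (TruncatedWittVector p n R') := fun i j => σ (π (Pi.single i 1)) j

/-- The matrix of the transition map. -/
noncomputable def Amat {T : Type u} [CommRing T] (u v : R' →+* T)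
    (h : u.comp (algebraMap R R') = v.comp (algebraMap R R')) : Matrix (Fin r) (Fin r) (TruncatedWittVector p n T) :=
  fun i => coord (Wm v) σ ((homW D u v h).hom (eta (Wm u) (π (Pi.single i 1))))

variable {D π σ}

theorem homW_apply (hπσ : ∀ m, π (σ m) = m) {T : Type u} [CommRing T] (u v : R' →+* T)
    (h : u.comp (algebraMap R R') = v.comp (algebraMap R R')) (z : (ModuleCat.extendScalars.{u,u,u} (Wm u)).obj (descObj D)) :
    coord (Wm v) σ ((homW D u v h).hom z) = Matrix.vecMul (coord (Wm u) σ z) (Amat D π σ u v h) := by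
  conv_lhs => rw [← sum_coord (Wm u) σ hπσ z]
  funext l
  simp [Matrix.vecMul, dotProduct, Amat]

theorem Amat_self {T : Type u} [CommRing T] (u : R' →+* T) : Amat D π σ u u rfl = (Emat D π σ).map (Wm u) := by
  funext i
  rw [Amat, homW_self]
  exact coord_eta (Wm u) σ _

theorem Amat_comp (hπσ : ∀ m, π (σ m) = m) {T : Type u} [CommRing T] (u v w : R' →+* T)
    (h : u.comp (algebraMap R R') = v.comp (algebraMap R R')) (h' : v.comp (algebraMap R R') = w.comp (algebraMap R R')) :
    Amat D π σ u v h * Amat D π σ v w h' = Amat D π σ u w (h.trans h') := by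
  funext i
  show Matrix.vecMul (Amat D π σ u v h i) (Amat D π σ v w h') = _
  simp only [Amat]
  rw [← homW_apply hπσ, ← homW_comp D u v w h h']
  rfl

theorem Amat_pull (hπσ : ∀ m, π (σ m) = m) {T T' : Type u} [CommRing T] [CommRing T'] (u v : R' →+* T)
    (h : u.comp (algebraMap R R') = v.comp (algebraMap R R')) (g : T →+* T')
    {gu gv : R' →+* T'} (hgu : g.comp u = gu) (hgv : g.comp v = gv) (h' : gu.comp (algebraMap R R') = gv.comp (algebraMap R R')) :
    Amat D π σ gu gv h' = (Amat D π σ u v h).map (Wm g) := by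
  subst hgu hgv
  have key : ∀ z, coord (Wm (g.comp v)) σ ((mcInv v g (g.comp v) rfl (descObj D)).hom (eta (Wm g) z)) =
      fun j => Wm g (coord (Wm v) σ z j) := by
    intro z
    conv_lhs => rw [← sum_coord (Wm v) σ hπσ z]
    change coord (Wm (g.comp v)) σ ((mcInv v g (g.comp v) rfl (descObj D)).hom (etaHom (Wm g) _)) = _
    rw [map_sum, map_sum, map_sum]
    have e : ∀ j, coord (Wm (g.comp v)) σ ((mcInv v g (g.comp v) rfl (descObj D)).hom
        (eta (Wm g) (coord (Wm v) σ z j • eta (Wm v) (π (Pi.single j 1))))) =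
        Wm g (coord (Wm v) σ z j) • fun l => Wm g (Wm v (σ (π (Pi.single j 1)) l)) := fun j => by
      rw [mcInv_eta, map_smul, coord_eta]
      simp only [WittGrp.truncMap_comp, RingHom.comp_apply]
    refine (Finset.sum_congr rfl fun j _ => e j).trans ?_
    conv_rhs => rw [← sum_coord (Wm v) σ hπσ z, map_sum]
    funext l
    simp [coord_eta]
  funext i
  show coord _ σ _ = _
  rw [homW_pull D u v h g]
  refine Eq.trans ?_ (key ((homW D u v h).hom (eta (Wm u) (π (Pi.single i 1)))))
  exact congrArg (fun z => coord (Wm (g.comp v)) σ ((mcInv v g (g.comp v) rfl (descObj D)).hom z))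
    ((congrArg ((ModuleCat.extendScalars (Wm g)).map (homW D u v h)).hom (mcHom_eta u g (g.comp u) rfl _ _)).trans rfl)

variable [Module.FaithfullyFlat R R']

open WittDescMat in
theorem effective (hp : IsNilpotent (p : R))
    [Module.Finite (TruncatedWittVector p n R') (descObj D)] [Module.Projective (TruncatedWittVector p n R') (descObj D)] :
    ∃ M : ModuleCat.{u} (TruncatedWittVector p n R),
      Module.Finite (TruncatedWittVector p n R) M ∧ Module.Projective (TruncatedWittVector p n R) M ∧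
        Nonempty (((wittModPF.{u} p n).toDescentData (fun _ : PUnit.{u + 1} => (CommRingCat.ofHom (algebraMap R R')).op)).obj M ≅ D) := by
  obtain ⟨r, π, σ, -, -, hπσ'⟩ := Module.Finite.exists_comp_eq_id_of_projective (TruncatedWittVector p n R') (descObj D)
  have hπσ : ∀ m, π (σ m) = m := fun m => LinearMap.congr_fun hπσ' m
  have h12 : (i1 (R := R) (R' := R')).comp (algebraMap R R') = (i2 (R := R) (R' := R')).comp (algebraMap R R') :=
    RingHom.ext fun x => (i1_algebraMap x).trans (i2_algebraMap x).symm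
  set E := Emat D π σ with hE
  set A := Amat D π σ i1 i2 h12 with hA
  have hd : IsWDatum E A := by
    refine ⟨?_, ?_, ?_, ?_⟩
    · rw [hE, ← Amat_self, hA, Amat_comp hπσ]
    · rw [hE, ← Amat_self, hA, Amat_comp hπσ]
    · have hc : ∀ {S : Type u} [CommRing S] (g : T2 R R' →+* S), (g.comp i1).comp (algebraMap R R') = (g.comp i2).comp (algebraMap R R') :=
        fun g => by rw [RingHom.comp_assoc, h12, RingHom.comp_assoc]
      have hc12 := hc d12
      rw [d12_i1, d12_i2] at hc12
      have hc13 := hc d13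
      rw [d13_i2] at hc13
      rw [hA, ← Amat_pull hπσ i1 i2 h12 d12 d12_i1 d12_i2 hc12, ← Amat_pull hπσ i1 i2 h12 d23 rfl rfl (hc d23),
        ← Amat_pull hπσ i1 i2 h12 d13 rfl d13_i2 hc13,
        Amat_comp hπσ]
    · rw [hA, ← Amat_pull hπσ i1 i2 h12 μ (gu := RingHom.id R') (gv := RingHom.id R') (RingHom.ext μ_i1) (RingHom.ext μ_i2) rfl,
        Amat_self, hE, WittGrp.truncMap_id]
      rfl
  obtain ⟨s, Q, X, Y, hQ, hXE, hX, hQX, hYX, hXY⟩ : ∃ (s : ℕ) (Q : Matrix (Fin s) (Fin s) (TruncatedWittVector p n R))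
      (X : Matrix (Fin s) (Fin r) (TruncatedWittVector p n R')) (Y : Matrix (Fin r) (Fin s) (TruncatedWittVector p n R')),
      IsIdempotentElem Q ∧ X * E = X ∧ X.map (Wm (i1 (R := R) (R' := R'))) * A = X.map (Wm i2) ∧
        Q.map (Wm (algebraMap R R')) * X = X ∧ Y * X = E ∧ X * Y = Q.map (Wm (algebraMap R R')) := by
    rcases Nat.eq_zero_or_pos n with hn | hn
    · subst hn
      have hs : ∀ (S : Type u) [CommRing S], Subsingleton (TruncatedWittVector p 0 S) := fun S _ =>
        ⟨fun x y => TruncatedWittVector.ext fun i => i.elim0⟩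
      have := hs R; have := hs R'; have := hs (T2 R R')
      exact ⟨0, 1, 0, 0, mul_one 1, Subsingleton.elim _ _, Subsingleton.elim _ _, Subsingleton.elim _ _,
        Subsingleton.elim _ _, Subsingleton.elim _ _⟩
    · exact exists_effective_witt hp hn hd
  let qQ : (Fin s → TruncatedWittVector p n R) →ₗ[TruncatedWittVector p n R] (Fin s → TruncatedWittVector p n R) :=
    Matrix.vecMulLinear Q
  let M : ModuleCat.{u} (TruncatedWittVector p n R) := ModuleCat.of _ (LinearMap.range qQ)
  have hM : ∀ m : M, Matrix.vecMul m.1 Q = m.1 := by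
    rintro ⟨_, c, rfl⟩
    simp [qQ, Matrix.vecMul_vecMul, hQ.eq]
  refine ⟨M, Module.Finite.range qQ, Module.Projective.of_split (LinearMap.range qQ).subtype qQ.rangeRestrict
    (LinearMap.ext fun m => Subtype.ext (hM m)), ?_⟩
  let ιM : M →ₗ[TruncatedWittVector p n R] (Fin s → TruncatedWittVector p n R) := (LinearMap.range qQ).subtype
  let ψ : (Fin s → TruncatedWittVector p n R') →ₗ[TruncatedWittVector p n R'] descObj D := π.comp (Matrix.vecMulLinear X)
  let F : (ModuleCat.extendScalars.{u,u,u} (Wm (algebraMap R R'))).obj M →ₗ[TruncatedWittVector p n R'] descObj D :=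
    ψ.comp (coord (Wm (algebraMap R R')) ιM)
  have hσπ : ∀ c, σ (π c) = Matrix.vecMul c E := fun c => by
    conv_lhs => rw [pi_eq_sum_univ' c, map_sum, map_sum]
    funext l
    simp [hE, Emat, Matrix.vecMul, dotProduct]
  have hσF : ∀ m : M, σ (F (eta (Wm (algebraMap R R')) m)) = Matrix.vecMul (fun j => Wm (algebraMap R R') (m.1 j)) X := fun m => by
    show σ (π (Matrix.vecMul (coord (Wm (algebraMap R R')) ιM (eta (Wm (algebraMap R R')) m)) X)) = _
    rw [coord_eta, hσπ, Matrix.vecMul_vecMul, hXE]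
    rfl
  let G : descObj D →ₗ[TruncatedWittVector p n R'] (ModuleCat.extendScalars.{u,u,u} (Wm (algebraMap R R'))).obj M :=
    (Fintype.linearCombination (TruncatedWittVector p n R') fun j =>
      eta (Wm (algebraMap R R')) (qQ.rangeRestrict (Pi.single j 1) : M)).comp ((Matrix.vecMulLinear Y).comp σ)
  have hGF : ∀ z, G (F z) = z := by
    have : G.comp F = LinearMap.id := extend_ext (Wm (algebraMap R R')) fun m => by
      show Fintype.linearCombination _ _ (Matrix.vecMul (σ (F (eta (Wm (algebraMap R R')) m))) Y) = _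
      rw [hσF, Matrix.vecMul_vecMul, hXY,
        show Matrix.vecMul (fun j => Wm (algebraMap R R') (m.1 j)) (Q.map (Wm (algebraMap R R'))) = (fun j => Wm (algebraMap R R') (m.1 j)) from by
          funext l
          exact (RingHom.map_vecMul (Wm (algebraMap R R')) Q m.1 l).symm.trans (congrArg (Wm (algebraMap R R')) (congrFun (hM m) l))]
      have := sum_coord (Wm (algebraMap R R')) ιM (π := qQ.rangeRestrict) (fun x => Subtype.ext (hM x)) (eta (Wm (algebraMap R R')) m)
      rw [coord_eta] at this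
      exact (Fintype.linearCombination_apply (R := TruncatedWittVector p n R') _ _).trans this
    exact LinearMap.congr_fun this
  have hFG : ∀ z, F (G z) = z := fun z => by
    have : F (G z) = π (Matrix.vecMul (Matrix.vecMul (Matrix.vecMul (σ z) Y) (Q.map (Wm (algebraMap R R')))) X) := by
      show π (Matrix.vecMul (coord (Wm (algebraMap R R')) ιM (Fintype.linearCombination _ _ (Matrix.vecMul (σ z) Y))) X) = _
      rw [Fintype.linearCombination_apply, map_sum]
      congr 2
      funext l
      simp [coord_eta, ιM, qQ, Matrix.vecMul, dotProduct]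
      refine Finset.sum_congr rfl fun x _ => ?_
      congr 2
      show Matrix.vecMul (Pi.single x 1) Q l = _
      simp
    rw [this, Matrix.vecMul_vecMul, hQX, Matrix.vecMul_vecMul, hYX, ← hσπ, hπσ, hπσ]
  let e : (ModuleCat.extendScalars.{u,u,u} (Wm (algebraMap R R'))).obj M ≅ descObj D :=
    (LinearEquiv.ofLinear F G (LinearMap.ext hFG) (LinearMap.ext hGF)).toModuleIso
  have hk : ∀ (T : Type u) [CommRing T] (u v : R' →+* T) (h : u.comp (algebraMap R R') = v.comp (algebraMap R R')) (m : M),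
      (homW D u v h).hom (eta (Wm u) (F (eta (Wm (algebraMap R R')) m))) = eta (Wm v) (F (eta (Wm (algebraMap R R')) m)) := by
    intro T _ u v h m
    let g : T2 R R' →+* T :=
      letI := (u.comp (algebraMap R R')).toAlgebra
      (Algebra.TensorProduct.lift ({ u with commutes' := fun x => rfl } : R' →ₐ[R] T)
        ({ v with commutes' := fun x => (RingHom.congr_fun h x).symm } : R' →ₐ[R] T) fun _ _ => mul_comm _ _).toRingHom
    have hgu : g.comp i1 = u := RingHom.ext fun x => by simp [g, i1_apply]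
    have hgv : g.comp i2 = v := RingHom.ext fun x => by simp [g, i2_apply]
    rw [← sum_coord (Wm v) σ hπσ ((homW D u v h).hom _), ← sum_coord (Wm v) σ hπσ (eta (Wm v) (F _))]
    congr 1
    rw [homW_apply hπσ u v h, coord_eta, coord_eta, Amat_pull hπσ i1 i2 h12 g hgu hgv h, ← hA, hσF]
    have hv : ∀ (i : R' →+* T2 R R') (w : R' →+* T), g.comp i = w → ∀ l, Wm w (Matrix.vecMul (fun j => Wm (algebraMap R R') (m.1 j)) X l) =
        Wm g (Matrix.vecMul (fun j => Wm (i.comp (algebraMap R R')) (m.1 j)) (X.map (Wm i)) l) := fun i w hw l => by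
      subst hw
      rw [WittGrp.truncMap_comp, RingHom.comp_apply, RingHom.map_vecMul]
      simp [Function.comp_def, WittGrp.truncMap_comp]
    funext l
    congr 1
    show _ = Wm v _
    rw [hv i2 v hgv, ← hX, h12.symm, ← Matrix.vecMul_vecMul, RingHom.map_vecMul]
    congr 2
    funext j
    exact hv i1 u hgu j
  refine iso_of D M e (fun T _ u v h m => hk T u v h m) (qQ.rangeRestrict) ιM (fun x => Subtype.ext (hM x))

end Main

end Groth.Agent.CommAlg4.WittDescEff
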