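import Mathlib
import Groth.Agent.CommAlg4.RamP1Three

/-!
# The Wronski map on pencils is finite in characteristic zero or large characteristic
-/

set_option autoImplicit false

namespace Groth.Agent.CommAlg4.WronskiFinite

open Polynomial W4c1limliniiii

theorem coeff_X_mul_derivative {R : Type*} [CommRing R] (h : R[X]) (i : ℕ) :
    (X * derivative h).coeff i = (i : R) * h.coeff i := by
  cases i with
  | zero => simp
  | succ i => simp [coeff_derivative, mul_comm]

/-- In degrees below the characteristic, the Wronskian only vanishes on dependent pairs. -/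
theorem eq_smul_of_wronskian_eq_zero {k : Type*} [Field k] {d : ℕ}
    (hk : ∀ j : ℕ, 1 ≤ j → j ≤ d → (j : k) ≠ 0) {f g : k[X]} (hf : f.natDegree ≤ d) (hg : g.natDegree ≤ d)
    (hf0 : f ≠ 0) (hw : wronskian f g = 0) : ∃ c : k, g = C c * f := by
  refine ⟨g.coeff f.natDegree / f.leadingCoeff, ?_⟩
  set m := f.natDegree with hm
  set c := g.coeff m / f.leadingCoeff
  set h := g - C c * f with hh
  by_contra hne
  have h0 : h ≠ 0 := sub_ne_zero.2 hne
  have hhm : h.coeff m = 0 := by
    rw [hh, coeff_sub, coeff_C_mul, show f.coeff m = f.leadingCoeff from rfl,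
      div_mul_cancel₀ _ (leadingCoeff_ne_zero.2 hf0), sub_self]
  set n := h.natDegree with hn
  have hhd : n ≤ d := (natDegree_sub_le _ _).trans (max_le hg ((natDegree_C_mul_le _ _).trans hf))
  have hnm : n ≠ m := fun e => h0 (leadingCoeff_eq_zero.1 (by rw [leadingCoeff, ← hn, e, hhm]))
  have hw' : f * (X * derivative h) - (X * derivative f) * h = 0 := by
    have e : wronskian f h = wronskian f g := by simp only [hh, wronskian, derivative_sub, derivative_C_mul]; ring
    rw [hw] at e
    have : f * (X * derivative h) - (X * derivative f) * h = X * wronskian f h := by simp only [wronskian]; ring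
    rw [this, e, mul_zero]
  have hX : ∀ q : k[X], (X * derivative q).natDegree ≤ q.natDegree := fun q =>
    natDegree_le_iff_coeff_eq_zero.2 fun i hi => by
      rw [coeff_X_mul_derivative, coeff_eq_zero_of_natDegree_lt hi, mul_zero]
  have hc := congrArg (fun q : k[X] => q.coeff (m + n)) hw'
  simp only [coeff_sub, coeff_zero] at hc
  rw [coeff_mul_add_eq_of_natDegree_le hm.ge ((hX h).trans hn.ge),
    coeff_mul_add_eq_of_natDegree_le ((hX f).trans hm.ge) hn.ge, coeff_X_mul_derivative, coeff_X_mul_derivative] at hc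
  have hfm : f.coeff m ≠ 0 := leadingCoeff_ne_zero.2 hf0
  have hhn : h.coeff n ≠ 0 := leadingCoeff_ne_zero.2 h0
  have hc' : ((n : k) - m) * (f.coeff m * h.coeff n) = 0 := by linear_combination hc
  have hnk : (n : k) = m := sub_eq_zero.1 ((mul_eq_zero.1 hc').resolve_right (mul_ne_zero hfm hhn))
  rcases lt_or_gt_of_ne hnm with hlt | hlt
  · exact hk (m - n) (by omega) (by omega) (by rw [Nat.cast_sub hlt.le, hnk, sub_self])
  · exact hk (n - m) (by omega) (by omega) (by rw [Nat.cast_sub hlt.le, hnk, sub_self])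

/-- A normalised pencil is integral over the coefficients of its Wronskian. -/
theorem mem_of_wronskian_mem {L : Type*} [Field L] (O : ValuationSubring L) {d : ℕ} (hd : 1 ≤ d)
    (hk : ∀ j : ℕ, 1 ≤ j → j ≤ d → IsUnit (j : O)) {F G : L[X]} (hF : F.natDegree ≤ d) (hG : G.natDegree ≤ d - 1)
    (hFd : F.coeff d = 1) (hF1 : F.coeff (d - 1) = 0) (hG1 : G.coeff (d - 1) = 1)
    (hW : ∀ i, (wronskian G F).coeff i ∈ O) : (∀ i, F.coeff i ∈ O) ∧ ∀ i, G.coeff i ∈ O := by
  let v := O.valuation
  obtain ⟨i₀, hi₀, hmax⟩ := Finset.exists_max_image (Finset.range d) (fun i => v (G.coeff i)) ⟨0, by simp; omega⟩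
  rw [Finset.mem_range] at hi₀
  set c := G.coeff i₀ with hc
  have hc1 : 1 ≤ v c := by simpa [hG1] using hmax (d - 1) (by simp; omega)
  have hc0 : c ≠ 0 := fun h => by rw [h, map_zero] at hc1; exact absurd hc1 (by simp)
  set g := C c⁻¹ * G with hg
  have hgO : ∀ i, g.coeff i ∈ O := by
    intro i
    rw [← O.valuation_le_one_iff, hg, coeff_C_mul, map_mul, map_inv₀]
    by_cases hi : i < d
    · exact inv_mul_le_one₀ (zero_lt_iff.2 (by simpa using hc0)) |>.2 (hmax i (Finset.mem_range.2 hi))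
    · rw [coeff_eq_zero_of_natDegree_lt (by omega), map_zero, mul_zero]; exact zero_le_one
  set f₁ := F - C (F.coeff i₀) * g with hf₁
  have hgd : g.coeff d = 0 := by rw [hg, coeff_C_mul, coeff_eq_zero_of_natDegree_lt (p := G) (by omega), mul_zero]
  have hf₁d : f₁.coeff d = 1 := by rw [hf₁, coeff_sub, coeff_C_mul, hgd, mul_zero, sub_zero, hFd]
  have hgi : g.coeff i₀ = 1 := by rw [hg, coeff_C_mul, ← hc, inv_mul_cancel₀ hc0]
  have hf₁i : f₁.coeff i₀ = 0 := by rw [hf₁, coeff_sub, coeff_C_mul, hgi, mul_one, sub_self]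
  have hf₁deg : f₁.natDegree ≤ d := (natDegree_sub_le _ _).trans
    (max_le hF ((natDegree_C_mul_le _ _).trans ((natDegree_C_mul_le _ _).trans (hG.trans (Nat.sub_le _ _)))))
  obtain ⟨j₀, hj₀, hmax'⟩ := Finset.exists_max_image (Finset.range (d + 1)) (fun i => v (f₁.coeff i)) ⟨0, by simp⟩
  rw [Finset.mem_range] at hj₀
  set c' := f₁.coeff j₀ with hc'
  have hc1' : 1 ≤ v c' := by simpa [hf₁d] using hmax' d (by simp)
  have hc0' : c' ≠ 0 := fun h => by rw [h, map_zero] at hc1'; exact absurd hc1' (by simp)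
  set f := C c'⁻¹ * f₁ with hf
  have hfO : ∀ i, f.coeff i ∈ O := by
    intro i
    rw [← O.valuation_le_one_iff, hf, coeff_C_mul, map_mul, map_inv₀]
    by_cases hi : i < d + 1
    · exact inv_mul_le_one₀ (zero_lt_iff.2 (by simpa using hc0')) |>.2 (hmax' i (Finset.mem_range.2 hi))
    · rw [coeff_eq_zero_of_natDegree_lt (by omega), map_zero, mul_zero]; exact zero_le_one
  obtain ⟨gO, hgO'⟩ : ∃ q : O[X], q.map O.subtype = g :=
    mem_lifts (f := O.subtype) g |>.1 ((lifts_iff_coeff_lifts g).2 fun i => ⟨⟨_, hgO i⟩, rfl⟩)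
  obtain ⟨fO, hfO'⟩ : ∃ q : O[X], q.map O.subtype = f :=
    mem_lifts (f := O.subtype) f |>.1 ((lifts_iff_coeff_lifts f).2 fun i => ⟨⟨_, hfO i⟩, rfl⟩)
  have cO : ∀ i, ((gO.coeff i : O) : L) = g.coeff i ∧ ((fO.coeff i : O) : L) = f.coeff i := fun i =>
    ⟨by rw [← hgO', coeff_map]; rfl, by rw [← hfO', coeff_map]; rfl⟩
  have hinj : Function.Injective O.subtype := Subtype.val_injective
  have hgdeg : gO.natDegree ≤ d := by
    rw [← natDegree_map_eq_of_injective hinj, hgO']
    exact (natDegree_C_mul_le _ _).trans (hG.trans (Nat.sub_le _ _))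
  have hfdeg : fO.natDegree ≤ d := by
    rw [← natDegree_map_eq_of_injective hinj, hfO']
    exact (natDegree_C_mul_le _ _).trans hf₁deg
  obtain ⟨i, hi⟩ : ∃ i, IsUnit ((wronskian gO fO).coeff i) := by
    by_contra hno
    push Not at hno
    let r := IsLocalRing.residue O
    have hw0 : wronskian (gO.map r) (fO.map r) = 0 := by
      have : wronskian (gO.map r) (fO.map r) = (wronskian gO fO).map r := by
        simp [wronskian, derivative_map]
      rw [this]; ext i
      rw [coeff_map, coeff_zero]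
      exact (IsLocalRing.residue_eq_zero_iff _).2 (hno i)
    have g1 : (gO.map r).coeff i₀ = 1 := by
      rw [coeff_map, show gO.coeff i₀ = 1 from Subtype.ext ((cO i₀).1.trans hgi), map_one]
    have f0 : (fO.map r).coeff i₀ = 0 := by
      rw [coeff_map, show fO.coeff i₀ = 0 from Subtype.ext ((cO i₀).2.trans (by rw [hf, coeff_C_mul, hf₁i, mul_zero]; rfl)), map_zero]
    have f1 : (fO.map r).coeff j₀ = 1 := by
      rw [coeff_map, show fO.coeff j₀ = 1 from Subtype.ext ((cO j₀).2.trans (by rw [hf, coeff_C_mul, ← hc', inv_mul_cancel₀ hc0']; rfl)), map_one]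
    obtain ⟨e, he⟩ := eq_smul_of_wronskian_eq_zero
      (fun j h1 h2 => by rw [← map_natCast r]; exact ((hk j h1 h2).map r).ne_zero)
      (natDegree_map_le.trans hgdeg) (natDegree_map_le.trans hfdeg)
      (fun h => by rw [h, coeff_zero] at g1; exact zero_ne_one g1) hw0
    have h0 := congrArg (fun q : (IsLocalRing.ResidueField O)[X] => q.coeff i₀) he
    simp only [coeff_C_mul, g1, f0, mul_one] at h0
    rw [he, ← h0, map_zero, zero_mul, coeff_zero] at f1
    exact zero_ne_one f1
  have hGg : G = C c * g := by rw [hg, ← mul_assoc, ← map_mul, mul_inv_cancel₀ hc0, map_one, one_mul]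
  have hff : f₁ = C c' * f := by rw [hf, ← mul_assoc, ← map_mul, mul_inv_cancel₀ hc0', map_one, one_mul]
  have hWeq : wronskian G F = C (c * c') * (wronskian gO fO).map O.subtype := by
    have e1 : (wronskian gO fO).map O.subtype = wronskian g f := by
      rw [← hgO', ← hfO']; simp [wronskian, derivative_map]
    have e2 : F = C c' * f + C (F.coeff i₀) * g := by rw [← hff, hf₁]; ring
    rw [e1]
    conv_lhs => rw [hGg, e2]
    simp only [wronskian, derivative_add, derivative_mul, derivative_C, map_mul]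
    ring
  have hv : v c * v c' ≤ 1 := by
    have h := (O.valuation_le_one_iff _).2 (hW i)
    rw [hWeq, coeff_C_mul, coeff_map, map_mul, map_mul,
      show v (O.subtype ((wronskian gO fO).coeff i)) = 1 from (O.valuation_eq_one_iff _).1 hi, mul_one] at h
    exact h
  have e1 : v c = 1 := le_antisymm ((le_mul_of_one_le_right' hc1').trans hv) hc1
  have e2 : v c' = 1 := le_antisymm (by rwa [e1, one_mul] at hv) hc1'
  have cmem : c ∈ O := (O.valuation_le_one_iff _).1 e1.le
  have cmem' : c' ∈ O := (O.valuation_le_one_iff _).1 e2.le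
  have hGO : ∀ i, G.coeff i ∈ O := fun i => by rw [hGg, coeff_C_mul]; exact O.mul_mem _ _ cmem (hgO i)
  have hf₁O : ∀ i, f₁.coeff i ∈ O := fun i => by rw [hff, coeff_C_mul]; exact O.mul_mem _ _ cmem' (hfO i)
  have hFi : F.coeff i₀ ∈ O := by
    have h := hf₁O (d - 1)
    rw [hf₁, coeff_sub, coeff_C_mul, hF1, zero_sub, hg, coeff_C_mul, hG1, mul_one] at h
    have := O.mul_mem _ _ (O.neg_mem _ h) cmem
    rwa [neg_neg, mul_assoc, inv_mul_cancel₀ hc0, mul_one] at this
  refine ⟨fun i => ?_, hGO⟩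
  have e : F.coeff i = f₁.coeff i + F.coeff i₀ * g.coeff i := by rw [hf₁, coeff_sub, coeff_C_mul]; ring
  rw [e]
  exact O.add_mem _ _ (hf₁O i) (O.mul_mem _ _ hFi (hgO i))

variable {k : Type*} [Field k]

/-- the normalised polynomials -/
noncomputable def mkP {R : Type*} [CommRing R] (m : ℕ) (lead : ℕ) (a : Fin m → R) : R[X] :=
  X ^ lead + ∑ j : Fin m, C (a j) * X ^ (j : ℕ)

theorem mkP_map {R S : Type*} [CommRing R] [CommRing S] (φ : R →+* S) (m lead : ℕ) (a : Fin m → R) :
    (mkP m lead a).map φ = mkP m lead (φ ∘ a) := by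
  simp [mkP, Polynomial.map_sum]

theorem mkP_coeff {R : Type*} [CommRing R] (m lead : ℕ) (a : Fin m → R) (i : ℕ) :
    (mkP m lead a).coeff i = (if i = lead then 1 else 0) + if h : i < m then a ⟨i, h⟩ else 0 := by
  simp only [mkP, coeff_add, coeff_X_pow, finset_sum_coeff, coeff_C_mul, mul_ite, mul_one, mul_zero]
  congr 1
  split_ifs with h
  · rw [Finset.sum_eq_single ⟨i, h⟩] <;> simp [Fin.ext_iff, eq_comm]
    intro b hb hb'; exact absurd hb' hb
  · exact Finset.sum_eq_zero fun j _ => if_neg (by omega)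

theorem mkP_natDegree {R : Type*} [CommRing R] (m lead : ℕ) (hm : m ≤ lead + 1) (a : Fin m → R) :
    (mkP m lead a).natDegree ≤ lead := by
  refine natDegree_le_iff_coeff_eq_zero.2 fun i hi => ?_
  rw [mkP_coeff, if_neg (by omega), dif_neg (by omega), add_zero]

theorem finite_points [IsAlgClosed k] {d : ℕ} (hd : 1 ≤ d) (hk : ∀ j : ℕ, 1 ≤ j → j ≤ d → (j : k) ≠ 0) (T : k[X]) :
    {x : (Fin (d - 1) ⊕ Fin (d - 1)) → k |
      wronskian (mkP (d - 1) (d - 1) (x ∘ Sum.inr)) (mkP (d - 1) d (x ∘ Sum.inl)) = T}.Finite := by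
  classical
  let σ := Fin (d - 1) ⊕ Fin (d - 1)
  let R := MvPolynomial σ k
  let Fg : R[X] := mkP (d - 1) d (MvPolynomial.X ∘ Sum.inl)
  let Gg : R[X] := mkP (d - 1) (d - 1) (MvPolynomial.X ∘ Sum.inr)
  let D : R[X] := wronskian Gg Fg - T.map MvPolynomial.C
  let I : Ideal R := Ideal.span (Set.range D.coeff)
  have hmap : ∀ {S : Type _} [CommRing S] (φ : R →+* S), D.map φ =
      wronskian (mkP (d - 1) (d - 1) (φ ∘ MvPolynomial.X ∘ Sum.inr)) (mkP (d - 1) d (φ ∘ MvPolynomial.X ∘ Sum.inl))
        - T.map (φ.comp MvPolynomial.C) := by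
    intro S _ φ
    simp only [D, Polynomial.map_sub, Polynomial.map_map]
    congr 1
    simp only [Gg, Fg, wronskian, Polynomial.map_sub, Polynomial.map_mul, ← derivative_map, mkP_map]
  -- on each component the coordinates are constant
  have hcomp : ∀ q ∈ I.minimalPrimes, ∀ s : σ, ∃ a : k, MvPolynomial.X s - MvPolynomial.C a ∈ q := by
    intro q hq
    haveI : q.IsPrime := hq.1.1
    let L := FractionRing (R ⧸ q)
    let φ : R →+* L := (algebraMap (R ⧸ q) L).comp (Ideal.Quotient.mk q)
    letI : Algebra k L := (φ.comp MvPolynomial.C).toAlgebra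
    have hker : ∀ r, φ r = 0 → r ∈ q := fun r hr => Ideal.Quotient.eq_zero_iff_mem.1
      (IsFractionRing.injective (R ⧸ q) L (hr.trans (map_zero _).symm))
    suffices ∀ s : σ, φ (MvPolynomial.X s) ∈ (algebraMap k L).range by
      intro s
      obtain ⟨a, ha⟩ := this s
      exact ⟨a, hker _ (by rw [map_sub, ← ha]; exact sub_self _)⟩
    intro s
    let B := (⊥ : Subalgebra k L).toSubring
    haveI : IsIntegrallyClosedIn B L := by
      rw [Subring.isIntegrallyClosedIn_iff]
      intro z hz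
      have hz' : IsIntegral (⊥ : Subalgebra k L) z := hz
      haveI : Algebra.IsIntegral k (⊥ : Subalgebra k L) :=
        Algebra.IsIntegral.of_surjective (Algebra.ofId k _) fun ⟨w, hw⟩ => by
          obtain ⟨a, rfl⟩ := Algebra.mem_bot.1 hw; exact ⟨a, rfl⟩
      have h2 : IsIntegral k z := isIntegral_trans z hz'
      exact Algebra.mem_bot.2 (minpoly.mem_range_of_degree_eq_one k z
        (IsAlgClosed.degree_eq_one_of_irreducible k (minpoly.irreducible h2)))
    by_contra hs
    obtain ⟨O, hO, hsO⟩ := Subring.exists_le_valuationSubring_of_isIntegrallyClosedIn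
      (R := B) (x := φ (MvPolynomial.X s)) (fun h => hs (Algebra.mem_bot.1 h))
    have hkO : ∀ a : k, algebraMap k L a ∈ O := fun a => hO (Algebra.mem_bot.2 ⟨a, rfl⟩)
    have hWO : ∀ i, (wronskian (mkP (d - 1) (d - 1) (φ ∘ MvPolynomial.X ∘ Sum.inr))
        (mkP (d - 1) d (φ ∘ MvPolynomial.X ∘ Sum.inl))).coeff i ∈ O := by
      intro i
      have h0 : (D.map φ).coeff i = 0 := by
        rw [coeff_map]
        exact RingHom.mem_ker.1 ((hq.1.2.trans fun r hr => by
          show φ r = 0
          show algebraMap (R ⧸ q) L (Ideal.Quotient.mk q r) = 0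
          rw [Ideal.Quotient.eq_zero_iff_mem.2 hr, map_zero] : I ≤ RingHom.ker φ)
            (Ideal.subset_span ⟨i, rfl⟩))
      rw [hmap, coeff_sub, sub_eq_zero, coeff_map] at h0
      rw [h0]
      exact hkO _
    have hu : ∀ j : ℕ, 1 ≤ j → j ≤ d → IsUnit (j : O) := fun j h1 h2 => by
      let ι : k →+* O := (algebraMap k L).codRestrict O.toSubring hkO
      rw [← map_natCast ι]
      exact (isUnit_iff_ne_zero.2 (hk j h1 h2)).map ι
    obtain ⟨hF, hG⟩ := mem_of_wronskian_mem O hd hu
      (mkP_natDegree (d - 1) d (by omega) _) (mkP_natDegree (d - 1) (d - 1) (by omega) _)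
      (by rw [mkP_coeff, if_pos rfl, dif_neg (by omega), add_zero])
      (by rw [mkP_coeff, if_neg (by omega), dif_neg (by omega), add_zero])
      (by rw [mkP_coeff, if_pos rfl, dif_neg (by omega), add_zero]) hWO
    rcases s with j | j
    · refine hsO ?_
      have := hF j
      rwa [mkP_coeff, if_neg (by have := j.2; omega), dif_pos j.2, zero_add] at this
    · refine hsO ?_
      have := hG j
      rwa [mkP_coeff, if_neg (by have := j.2; omega), dif_pos j.2, zero_add] at this
  have hfin := Ideal.finite_minimalPrimes_of_isNoetherianRing R I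
  choose a ha using hcomp
  refine (hfin.toFinset.attach.image fun q => fun s => a q.1 (hfin.mem_toFinset.1 q.2) s).finite_toSet.subset ?_
  intro x hx
  have hI : I ≤ RingHom.ker (MvPolynomial.eval x) := Ideal.span_le.2 (by
    rintro _ ⟨i, rfl⟩
    show MvPolynomial.eval x (D.coeff i) = 0
    have h := hmap (MvPolynomial.eval x)
    have e : (MvPolynomial.eval x).comp MvPolynomial.C = RingHom.id k := RingHom.ext fun c => MvPolynomial.eval_C c
    have e' : (⇑(MvPolynomial.eval x)) ∘ MvPolynomial.X = x := funext fun s => MvPolynomial.eval_X s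
    simp only [← Function.comp_assoc, e', e, Polynomial.map_id] at h
    rw [show wronskian (mkP (d - 1) (d - 1) (x ∘ Sum.inr)) (mkP (d - 1) d (x ∘ Sum.inl)) = T from hx, sub_self] at h
    rw [← coeff_map, h, coeff_zero])
  haveI : (RingHom.ker (MvPolynomial.eval x)).IsPrime := RingHom.ker_isPrime _
  obtain ⟨q, hq, hqx⟩ := Ideal.exists_minimalPrimes_le hI
  refine Finset.mem_coe.2 (Finset.mem_image.2 ⟨⟨q, hfin.mem_toFinset.2 hq⟩, Finset.mem_attach _ _, funext fun s => ?_⟩)
  have := RingHom.mem_ker.1 (hqx (ha q hq s))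
  rw [map_sub, MvPolynomial.eval_X, MvPolynomial.eval_C, sub_eq_zero] at this
  exact this.symm

theorem finite_ramMaps [IsAlgClosed k] {d n : ℕ} (P : Fin n → k) (hP : Function.Injective P) (e : Fin n → ℕ)
    (he : ∀ i, 1 ≤ e i) (hsum : (∑ i, e i) + 2 = 2 * d + n)
    (hk : ∀ j : ℕ, 1 ≤ j → j ≤ d → (j : k) ≠ 0) : (ramMaps d P e).Finite := by
  classical
  let T : k[X] := ∏ i, (X - C (P i)) ^ (e i - 1)
  have hsum' : (∑ i, (e i - 1)) + n = ∑ i, e i := by
    have h : ∑ i, (e i - 1 + 1) = ∑ i, e i := Finset.sum_congr rfl fun i _ => Nat.sub_add_cancel (he i)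
    simpa [Finset.sum_add_distrib] using h
  by_cases hd : 1 ≤ d
  swap
  · omega
  refine ((finite_points hd hk T).image fun x =>
    Submodule.span k {mkP (d - 1) d (x ∘ Sum.inl), mkP (d - 1) (d - 1) (x ∘ Sum.inr)}).subset ?_
  rintro V ⟨⟨hVd, hV2, ⟨f₀, hf₀, hf₀d⟩, -⟩, ⟨A, hA, B, hB, hAB⟩, hR⟩
  have hdeg : ∀ s ∈ V, s.natDegree ≤ d := fun s hs => RamP1Three.natDegree_le_of_mem (hVd hs)
  have hf₀0 : f₀ ≠ 0 := fun h => by rw [h, natDegree_zero] at hf₀d; omega
  have hlc : f₀.coeff d ≠ 0 := by rw [← hf₀d]; exact leadingCoeff_ne_zero.2 hf₀0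
  haveI : Module.Finite k V := Module.finite_of_finrank_eq_succ hV2
  -- a second member, of smaller degree
  obtain ⟨g₀, hg₀, hg₀0, hg₀d⟩ : ∃ g ∈ V, g ≠ 0 ∧ g.coeff d = 0 := by
    let l : V →ₗ[k] k := lcoeff k d ∘ₗ V.subtype
    obtain ⟨g, hg, hg0⟩ := Submodule.exists_mem_ne_zero_of_ne_bot (LinearMap.ker_ne_bot_of_finrank_lt (f := l)
      (by rw [Module.finrank_self, hV2]; omega))
    exact ⟨g, g.2, fun h => hg0 (Subtype.ext h), hg⟩
  have hg₀deg : g₀.natDegree ≤ d - 1 := natDegree_le_iff_coeff_eq_zero.2 fun i hi => by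
    rcases Nat.lt_or_ge d i with h | h
    · exact coeff_eq_zero_of_natDegree_lt ((hdeg _ hg₀).trans_lt h)
    · obtain rfl : i = d := by omega
      exact hg₀d
  have hli : LinearIndependent k ![f₀, g₀] := (LinearIndependent.pair_iff' hf₀0).2 fun c hc => by
    have := congrArg (fun q : k[X] => q.coeff d) hc
    simp [hg₀d, hlc] at this
    rw [this, zero_smul] at hc
    exact hg₀0 hc.symm
  have hspan := RamP1Three.span_pair_eq hV2 hf₀ hg₀ hli
  have hW0 : wronskian g₀ f₀ ≠ 0 := fun h => by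
    obtain ⟨c, hc⟩ := RamP1Three.wronskian_span (hspan.symm ▸ hA) (hspan.symm ▸ hB : B ∈ Submodule.span k {f₀, g₀})
    refine hAB ?_
    rw [hc, ← wronskian_neg_eq, h, neg_zero, mul_zero]
  have hdvd : T ∣ wronskian g₀ f₀ := by
    refine RamP1Three.prod_pow_dvd hP _ fun i => ?_
    obtain ⟨⟨s, hs, hs0, hse⟩, -⟩ := hR i
    have hsd : (X - C (P i)) ^ (e i - 1 + 1) ∣ s := by
      rw [Nat.sub_add_cancel (he i)]; exact (le_rootMultiplicity_iff hs0).1 hse
    obtain ⟨a, b, rfl⟩ := Submodule.mem_span_pair.1 (hspan.symm ▸ hs : s ∈ Submodule.span k {f₀, g₀})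
    by_cases ha : a = 0
    · have hb : b ≠ 0 := fun hb => hs0 (by rw [ha, hb, zero_smul, zero_smul, add_zero])
      have h := RamP1Three.pow_dvd_wronskian (t := f₀) hsd
      rw [ha, zero_smul, zero_add, show wronskian (b • g₀) f₀ = C b * wronskian g₀ f₀ by
        simp [wronskian, smul_eq_C_mul]; ring] at h
      exact ((isUnit_C.2 hb.isUnit).dvd_mul_left).1 h
    · have h := RamP1Three.pow_dvd_wronskian (t := g₀) hsd
      rw [show wronskian (a • f₀ + b • g₀) g₀ = C (-a) * wronskian g₀ f₀ by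
        simp [wronskian, smul_eq_C_mul]; ring] at h
      exact ((isUnit_C.2 (neg_ne_zero.2 ha).isUnit).dvd_mul_left).1 h
  have hTdeg : T.natDegree + 2 = 2 * d := by
    rw [RamP1Three.natDegree_prod_pow]; omega
  have h1 := natDegree_le_of_dvd hdvd hW0
  have h2 : (wronskian g₀ f₀).natDegree < g₀.natDegree + f₀.natDegree := natDegree_wronskian_lt_add hW0
  have hgdeg : g₀.natDegree = d - 1 := by omega
  obtain ⟨w, hw⟩ := hdvd
  have hTm : T.Monic := monic_prod_of_monic _ _ fun i _ => (monic_X_sub_C _).pow _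
  have hw0 : w ≠ 0 := fun h => hW0 (by rw [hw, h, mul_zero])
  have hwd : w.natDegree = 0 := by
    have := congrArg natDegree hw
    rw [natDegree_mul hTm.ne_zero hw0] at this
    omega
  obtain ⟨c, rfl⟩ := natDegree_eq_zero.1 hwd
  have hlg : g₀.coeff (d - 1) ≠ 0 := by rw [← hgdeg]; exact leadingCoeff_ne_zero.2 hg₀0
  let g := C (g₀.coeff (d - 1))⁻¹ * g₀
  let f₂ := C (f₀.coeff d)⁻¹ * f₀
  let f := f₂ - C (f₂.coeff (d - 1)) * g
  have hgc : g.coeff (d - 1) = 1 := by simp [g, inv_mul_cancel₀ hlg]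
  have hfd : f.coeff d = 1 := by simp only [f, f₂, g, coeff_sub, coeff_C_mul, hg₀d, mul_zero, sub_zero, inv_mul_cancel₀ hlc]
  have hf1 : f.coeff (d - 1) = 0 := by simp only [f, coeff_sub, coeff_C_mul, hgc, mul_one, sub_self]
  have hgn : g.natDegree ≤ d - 1 := (natDegree_C_mul_le _ _).trans hg₀deg
  have hfn : f.natDegree ≤ d := (natDegree_sub_le _ _).trans (max_le ((natDegree_C_mul_le _ _).trans (hdeg _ hf₀))
    ((natDegree_C_mul_le _ _).trans (hgn.trans (Nat.sub_le _ _))))
  let x : Fin (d - 1) ⊕ Fin (d - 1) → k := Sum.elim (fun j => f.coeff j) (fun j => g.coeff j)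
  have hxf : mkP (d - 1) d (x ∘ Sum.inl) = f := Polynomial.ext fun i => by
    rw [mkP_coeff]
    rcases Nat.lt_or_ge i (d - 1) with h | h
    · rw [if_neg (by omega), dif_pos h, zero_add]; rfl
    rw [dif_neg (by omega), add_zero]
    rcases Nat.lt_or_ge d i with h' | h'
    · rw [if_neg (by omega), coeff_eq_zero_of_natDegree_lt (by omega)]
    · rcases (by omega : i = d ∨ i = d - 1) with rfl | rfl
      · rw [if_pos rfl, hfd]
      · rw [if_neg (by omega), hf1]
  have hxg : mkP (d - 1) (d - 1) (x ∘ Sum.inr) = g := Polynomial.ext fun i => by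
    rw [mkP_coeff]
    rcases Nat.lt_or_ge i (d - 1) with h | h
    · rw [if_neg (by omega), dif_pos h, zero_add]; rfl
    rw [dif_neg (by omega), add_zero]
    rcases eq_or_ne i (d - 1) with rfl | h'
    · rw [if_pos rfl, hgc]
    · rw [if_neg h', coeff_eq_zero_of_natDegree_lt (by omega)]
  refine ⟨x, ?_, ?_⟩
  · show wronskian _ _ = T
    rw [hxf, hxg]
    have e1 : wronskian g f = C ((g₀.coeff (d - 1))⁻¹ * (f₀.coeff d)⁻¹ * c) * T := by
      have : wronskian g f = C ((g₀.coeff (d - 1))⁻¹ * (f₀.coeff d)⁻¹) * wronskian g₀ f₀ := by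
        simp only [g, f, f₂, wronskian, derivative_sub, derivative_mul, derivative_C, map_mul]; ring
      rw [this, hw]; simp only [map_mul]; ring
    rw [e1]
    have htop : (wronskian g f).coeff (d - 1 + d - 1) = 1 := by
      have hX : ∀ q : k[X], (X * derivative q).natDegree ≤ q.natDegree := fun q =>
        natDegree_le_iff_coeff_eq_zero.2 fun i hi => by
          rw [coeff_X_mul_derivative, coeff_eq_zero_of_natDegree_lt hi, mul_zero]
      have hh : (X * wronskian g f).coeff (d - 1 + d - 1 + 1) = 1 := by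
        rw [show X * wronskian g f = g * (X * derivative f) - (X * derivative g) * f by simp only [wronskian]; ring,
          show d - 1 + d - 1 + 1 = (d - 1) + d by omega, coeff_sub,
          coeff_mul_add_eq_of_natDegree_le hgn ((hX f).trans hfn),
          coeff_mul_add_eq_of_natDegree_le ((hX g).trans hgn) hfn, coeff_X_mul_derivative, coeff_X_mul_derivative,
          hgc, hfd, Nat.cast_sub hd]
        ring
      rwa [coeff_X_mul] at hh
    rw [e1, coeff_C_mul, show d - 1 + d - 1 = T.natDegree by omega, hTm.coeff_natDegree, mul_one] at htop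
    rw [htop, map_one, one_mul]
  · show Submodule.span k _ = V
    rw [hxf, hxg]
    refine RamP1Three.span_pair_eq hV2 ?_ ?_ ?_
    · refine V.sub_mem ?_ ?_
      · show C _ * f₀ ∈ V
        rw [← smul_eq_C_mul]; exact V.smul_mem _ hf₀
      · rw [← smul_eq_C_mul]
        refine V.smul_mem _ ?_
        show C _ * g₀ ∈ V
        rw [← smul_eq_C_mul]; exact V.smul_mem _ hg₀
    · show C _ * g₀ ∈ V
      rw [← smul_eq_C_mul]; exact V.smul_mem _ hg₀
    · refine LinearIndependent.pair_iff.2 fun a b hab => ?_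
      have h := congrArg (fun q : k[X] => q.coeff d) hab
      simp [hfd, coeff_eq_zero_of_natDegree_lt (p := g) (n := d) (by omega)] at h
      refine ⟨h, ?_⟩
      have h' := congrArg (fun q : k[X] => q.coeff (d - 1)) hab
      simpa [h, hgc] using h'

end Groth.Agent.CommAlg4.WronskiFinite
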